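import Mathlib

/-! Sylow subgroups relative to a subgroup, and p-group normalizer growth. -/
set_option autoImplicit false

namespace CfsgLib.Fusion

variable {G : Type*} [Group G]

/-- `A` is a Sylow `p`-subgroup of the subgroup `B`. -/
def IsSylIn (p : ℕ) (A B : Subgroup G) : Prop :=
  A ≤ B ∧ IsPGroup p A ∧ ∀ C : Subgroup G, IsPGroup p C → A ≤ C → C ≤ B → C = A

theorem isPGroup_of_le {p : ℕ} {A B : Subgroup G} (h : A ≤ B) (hB : IsPGroup p B) :
    IsPGroup p A := hB.of_injective _ (Subgroup.inclusion_injective h)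

theorem isPGroup_map {p : ℕ} {H : Type*} [Group H] {A : Subgroup G} (hA : IsPGroup p A)
    (f : G →* H) : IsPGroup p (A.map f) := hA.map f

theorem exists_sylow_iff {p : ℕ} {A B : Subgroup G} (hAB : A ≤ B) :
    (∃ R : Sylow p B, (R : Subgroup B) = A.subgroupOf B) ↔ IsSylIn p A B := by
  have key : (A.subgroupOf B).map B.subtype = A := by simp [Subgroup.map_subgroupOf_eq_of_le hAB]
  constructor
  · rintro ⟨R, hR⟩
    refine ⟨hAB, key ▸ hR ▸ R.2.map B.subtype, fun C hC hAC hCB => ?_⟩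
    have h1 : C.subgroupOf B = R := R.3 (hC.comap_of_injective B.subtype B.subtype_injective)
      (hR ▸ Subgroup.comap_mono hAC)
    rw [← key, ← hR, ← h1, Subgroup.map_subgroupOf_eq_of_le hCB]
  · rintro ⟨-, hA, hmax⟩
    refine ⟨⟨A.subgroupOf B, hA.comap_of_injective B.subtype B.subtype_injective, ?_⟩, rfl⟩
    intro C hC hle
    have h1 : C.map B.subtype = A := hmax _ (hC.map _)
      (key.ge.trans (Subgroup.map_mono hle)) (B.map_subtype_le C)
    rw [Subgroup.subgroupOf, ← h1, Subgroup.comap_map_eq_self_of_injective B.subtype_injective]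

theorem IsSylIn.exists_conj_le {p : ℕ} [Fact p.Prime] [Finite G] {A B C : Subgroup G}
    (h : IsSylIn p A B) (hC : IsPGroup p C) (hCB : C ≤ B) :
    ∃ b ∈ B, ∀ c ∈ C, b * c * b⁻¹ ∈ A := by
  obtain ⟨R, hR⟩ := (exists_sylow_iff h.1).mpr h
  obtain ⟨Q, hQ⟩ := (hC.comap_of_injective B.subtype B.subtype_injective).exists_le_sylow
  obtain ⟨b, hb⟩ := MulAction.exists_smul_eq B Q R
  refine ⟨b, b.2, fun c hc => ?_⟩
  have h1 : (⟨c, hCB hc⟩ : B) ∈ (Q : Subgroup B) := hQ hc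
  have h2 : b * ⟨c, hCB hc⟩ * b⁻¹ ∈ (R : Subgroup B) := by
    rw [← hb, Sylow.coe_subgroup_smul, Subgroup.mem_pointwise_smul_iff_inv_smul_mem]
    simpa [← map_inv, MulAut.conj_apply, mul_assoc] using h1
  rw [hR] at h2
  exact h2

theorem IsSylIn.le_of_normal {p : ℕ} [Fact p.Prime] [Finite G] {A B C : Subgroup G}
    (h : IsSylIn p A B) (hC : IsPGroup p C) (hCB : C ≤ B)
    (hn : ∀ b ∈ B, ∀ c ∈ C, b * c * b⁻¹ ∈ C) : C ≤ A := by
  obtain ⟨b, hb, hcb⟩ := h.exists_conj_le hC hCB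
  intro c hc
  have h1 := hcb _ (hn b⁻¹ (B.inv_mem hb) c hc)
  simpa [mul_assoc] using h1

theorem lt_inf_normalizer {p : ℕ} [Fact p.Prime] {A B : Subgroup G} [Finite B]
    (hB : IsPGroup p B) (h : A < B) : A < B ⊓ Subgroup.normalizer (A : Set G) := by
  have := hB.isNilpotent
  have h1 : A.subgroupOf B < ⊤ := by
    refine lt_top_iff_ne_top.mpr fun e => h.not_ge ?_
    exact Subgroup.subgroupOf_eq_top.mp e
  have h2 := Group.normalizerCondition_of_isNilpotent (A.subgroupOf B) h1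
  rw [← Subgroup.subgroupOf_normalizer_eq h.le] at h2
  refine lt_of_le_of_ne (le_inf h.le Subgroup.le_normalizer) fun e => ?_
  obtain ⟨x, hx, hxA⟩ := SetLike.exists_of_lt h2
  exact hxA (Subgroup.mem_subgroupOf.mpr (e.ge ⟨x.2, hx⟩))

theorem exists_normalizing {p : ℕ} [Fact p.Prime] [Finite G] {A B : Subgroup G}
    (hAB : A ≤ B) (hA : IsPGroup p A) (h : ¬ IsSylIn p A B) :
    ∃ b ∈ B, b ∉ A ∧ b ∈ Subgroup.normalizer (A : Set G) ∧ ∃ k : ℕ, b ^ p ^ k = 1 := by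
  simp only [IsSylIn, hAB, hA, true_and, not_forall] at h
  obtain ⟨C, hC, hAC, hCB, hne⟩ := h
  obtain ⟨b, hb, hbA⟩ := SetLike.exists_of_lt
    (lt_inf_normalizer hC (lt_of_le_of_ne hAC (Ne.symm hne)))
  obtain ⟨hbC, hbN⟩ := Subgroup.mem_inf.mp hb
  obtain ⟨k, hk⟩ := hC ⟨b, hbC⟩
  exact ⟨b, hCB hbC, hbA, hbN, k, congrArg Subtype.val hk⟩

theorem isSylIn_self {p : ℕ} {A : Subgroup G} (hA : IsPGroup p A) : IsSylIn p A A :=
  ⟨le_rfl, hA, fun _ _ h₁ h₂ => le_antisymm h₂ h₁⟩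

theorem exists_isSylIn_of_isPGroup {p : ℕ} [Fact p.Prime] {A B : Subgroup G}
    (hA : IsPGroup p A) (hAB : A ≤ B) : ∃ C : Subgroup G, A ≤ C ∧ IsSylIn p C B := by
  obtain ⟨R, hR⟩ := (hA.comap_of_injective B.subtype B.subtype_injective).exists_le_sylow
  refine ⟨(R : Subgroup B).map B.subtype, ?_, ?_⟩
  · intro a ha
    exact ⟨⟨a, hAB ha⟩, hR ha, rfl⟩
  · refine (exists_sylow_iff (B.map_subtype_le _)).mp ⟨R, ?_⟩
    rw [Subgroup.subgroupOf, Subgroup.comap_map_eq_self_of_injective B.subtype_injective]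

end CfsgLib.Fusion
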