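import Mathlib
import Cfsg.Prelude.Def_FusionSystem

/-!
Basic API for fusion systems. A map of a system with source `P` is handled as a total
function `f : Ω → Ω` whose restriction to `P` is a map of the system (`IsMor F P f`); this
turns composition and restriction into plain composition of functions.
-/
set_option autoImplicit false

namespace CfsgLib.Fusion

open Cfsg Cfsg.FusionSystem

variable {Ω : Type*} [Group Ω] {S : Subgroup Ω}

/-- Conjugation as a plain function. -/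
def cj (g : Ω) : Ω → Ω := fun x => g * x * g⁻¹

theorem cj_apply (g x : Ω) : cj g x = g * x * g⁻¹ := rfl
theorem cj_one (x : Ω) : cj (1 : Ω) x = x := by simp [cj]
theorem cj_mul (g h x : Ω) : cj (g * h) x = cj g (cj h x) := by simp [cj, mul_assoc]
theorem cj_inv_cj (g x : Ω) : cj g⁻¹ (cj g x) = x := by simp [cj, mul_assoc]
theorem cj_cj_inv (g x : Ω) : cj g (cj g⁻¹ x) = x := by simp [cj, mul_assoc]
theorem cj_map_mul (g x y : Ω) : cj g (x * y) = cj g x * cj g y := by simp [cj, mul_assoc]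

theorem cj_fixed_iff {g x : Ω} : g * x * g⁻¹ = x ↔ g * x = x * g := by
  rw [mul_inv_eq_iff_eq_mul]

/-- The restriction of the function `f` to `P` is a map of `F`. -/
def IsMor (F : FusionSystem S) (P : Subgroup Ω) (f : Ω → Ω) : Prop :=
  ∃ φ ∈ F.Hom P, ∀ x : P, φ x = f x

/-- A map of the system as a total function (trivial outside its source). -/
noncomputable def toFun {P : Subgroup Ω} (φ : P →* Ω) : Ω → Ω :=
  open Classical in fun x => if h : x ∈ P then φ ⟨x, h⟩ else 1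

theorem toFun_coe {P : Subgroup Ω} (φ : P →* Ω) (x : P) : toFun φ x = φ x := by
  classical
  simp [toFun, x.2]

theorem toFun_of_mem {P : Subgroup Ω} (φ : P →* Ω) {x : Ω} (h : x ∈ P) :
    toFun φ x = φ ⟨x, h⟩ := toFun_coe φ ⟨x, h⟩

theorem isMor_of_mem {F : FusionSystem S} {P : Subgroup Ω} {φ : P →* Ω} (h : φ ∈ F.Hom P) :
    IsMor F P (toFun φ) :=
  ⟨φ, h, fun x => (toFun_coe φ x).symm⟩

theorem isMor_of_mem' {F : FusionSystem S} {P : Subgroup Ω} {φ : P →* Ω} (h : φ ∈ F.Hom P)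
    {f : Ω → Ω} (hf : ∀ x : P, φ x = f x) : IsMor F P f :=
  ⟨φ, h, hf⟩

theorem IsMor.mem_hom {F : FusionSystem S} {P : Subgroup Ω} {f : Ω → Ω} (h : IsMor F P f)
    {φ : P →* Ω} (hf : ∀ x : P, φ x = f x) : φ ∈ F.Hom P := by
  obtain ⟨ψ, hψ, hψf⟩ := h
  have : φ = ψ := MonoidHom.ext fun x => (hf x).trans (hψf x).symm
  exact this ▸ hψ

theorem mem_hom_iff {F : FusionSystem S} {P : Subgroup Ω} {φ : P →* Ω} :
    φ ∈ F.Hom P ↔ IsMor F P (toFun φ) :=
  ⟨isMor_of_mem, fun h => h.mem_hom fun x => (toFun_coe φ x).symm⟩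

/-- The image of the subgroup `P` under `f`. -/
def img (P : Subgroup Ω) (f : Ω → Ω) : Subgroup Ω := Subgroup.closure (f '' (P : Set Ω))

theorem mem_img_of_mem {P : Subgroup Ω} (f : Ω → Ω) {x : Ω} (h : x ∈ P) : f x ∈ img P f :=
  Subgroup.subset_closure ⟨x, h, rfl⟩

theorem img_congr {P : Subgroup Ω} {f g : Ω → Ω} (h : ∀ x ∈ P, f x = g x) :
    img P f = img P g := by
  unfold img
  rw [Set.image_congr (fun x hx => h x hx)]

theorem img_mono {P Q : Subgroup Ω} (f : Ω → Ω) (h : P ≤ Q) : img P f ≤ img Q f :=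
  Subgroup.closure_mono (Set.image_mono h)

theorem img_le {P Q : Subgroup Ω} {f : Ω → Ω} (h : ∀ x ∈ P, f x ∈ Q) : img P f ≤ Q := by
  rw [img, Subgroup.closure_le]
  rintro _ ⟨x, hx, rfl⟩
  exact h x hx

theorem img_id (P : Subgroup Ω) : img P id = P := by
  rw [img, Set.image_id, Subgroup.closure_eq]

theorem img_cj (P : Subgroup Ω) (g : Ω) :
    img P (cj g) = P.map (MulAut.conj g).toMonoidHom := by
  conv_rhs => rw [← Subgroup.closure_eq P, MonoidHom.map_closure]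
  rfl

theorem mem_img_cj {P : Subgroup Ω} {g y : Ω} : y ∈ img P (cj g) ↔ g⁻¹ * y * g ∈ P := by
  rw [img_cj]
  constructor
  · rintro ⟨x, hx, rfl⟩
    have hx' : x ∈ P := hx
    simpa [mul_assoc] using hx'
  · intro h
    exact ⟨_, h, by simp [mul_assoc]⟩

theorem range_eq_img {P : Subgroup Ω} {φ : P →* Ω} {f : Ω → Ω} (h : ∀ x : P, φ x = f x) :
    φ.range = img P f := by
  refine le_antisymm ?_ (img_le fun x hx => ⟨⟨x, hx⟩, h ⟨x, hx⟩⟩)
  rintro _ ⟨x, rfl⟩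
  rw [h x]
  exact mem_img_of_mem f x.2

theorem range_eq_img_toFun {P : Subgroup Ω} (φ : P →* Ω) : φ.range = img P (toFun φ) :=
  range_eq_img fun x => (toFun_coe φ x).symm

section Mor

variable {F : FusionSystem S} {P Q R : Subgroup Ω} {f g : Ω → Ω}

theorem IsMor.le (h : IsMor F P f) : P ≤ S := by
  obtain ⟨φ, hφ, -⟩ := h
  exact (F.le_of_mem hφ).1

theorem IsMor.mem (h : IsMor F P f) {x : Ω} (hx : x ∈ P) : f x ∈ S := by
  obtain ⟨φ, hφ, hf⟩ := h
  rw [← hf ⟨x, hx⟩]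
  exact (F.le_of_mem hφ).2 _

theorem IsMor.map_mul (h : IsMor F P f) {x y : Ω} (hx : x ∈ P) (hy : y ∈ P) :
    f (x * y) = f x * f y := by
  obtain ⟨φ, -, hf⟩ := h
  have := φ.map_mul ⟨x, hx⟩ ⟨y, hy⟩
  rwa [hf, hf, hf] at this

theorem IsMor.map_one (h : IsMor F P f) : f 1 = 1 := by
  obtain ⟨φ, -, hf⟩ := h
  have := φ.map_one
  rwa [hf] at this

theorem IsMor.map_inv (h : IsMor F P f) {x : Ω} (hx : x ∈ P) : f x⁻¹ = (f x)⁻¹ := by
  obtain ⟨φ, -, hf⟩ := h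
  have := φ.map_inv ⟨x, hx⟩
  rwa [hf, hf] at this

theorem IsMor.map_pow (h : IsMor F P f) {x : Ω} (hx : x ∈ P) (n : ℕ) : f (x ^ n) = f x ^ n := by
  obtain ⟨φ, -, hf⟩ := h
  have := φ.map_pow ⟨x, hx⟩ n
  rwa [hf, hf] at this

theorem IsMor.map_zpow (h : IsMor F P f) {x : Ω} (hx : x ∈ P) (n : ℤ) : f (x ^ n) = f x ^ n := by
  obtain ⟨φ, -, hf⟩ := h
  have := φ.map_zpow ⟨x, hx⟩ n
  rwa [hf, hf] at this

theorem IsMor.map_conj (h : IsMor F P f) {x y : Ω} (hx : x ∈ P) (hy : y ∈ P) :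
    f (x * y * x⁻¹) = f x * f y * (f x)⁻¹ := by
  rw [h.map_mul (P.mul_mem hx hy) (P.inv_mem hx), h.map_mul hx hy, h.map_inv hx]

theorem IsMor.inj (h : IsMor F P f) {x y : Ω} (hx : x ∈ P) (hy : y ∈ P) (hxy : f x = f y) :
    x = y := by
  obtain ⟨φ, hφ, hf⟩ := h
  have : φ ⟨x, hx⟩ = φ ⟨y, hy⟩ := by rw [hf, hf]; exact hxy
  exact congrArg Subtype.val (F.injective_of_mem hφ this)

theorem IsMor.eq_one_iff (h : IsMor F P f) {x : Ω} (hx : x ∈ P) : f x = 1 ↔ x = 1 :=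
  ⟨fun e => h.inj hx P.one_mem (e.trans h.map_one.symm), fun e => e ▸ h.map_one⟩

theorem IsMor.orderOf_eq (h : IsMor F P f) {x : Ω} (hx : x ∈ P) : orderOf (f x) = orderOf x := by
  refine orderOf_eq_orderOf_iff.mpr fun n => ?_
  rw [← h.map_pow hx, h.eq_one_iff (P.pow_mem hx n)]

theorem IsMor.congr (h : IsMor F P f) (e : ∀ x ∈ P, f x = g x) : IsMor F P g := by
  obtain ⟨φ, hφ, hf⟩ := h
  exact ⟨φ, hφ, fun x => (hf x).trans (e x x.2)⟩

theorem isMor_congr (e : ∀ x ∈ P, f x = g x) : IsMor F P f ↔ IsMor F P g :=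
  ⟨fun h => h.congr e, fun h => h.congr fun x hx => (e x hx).symm⟩

theorem isMor_cj (F : FusionSystem S) {g : Ω} (hP : P ≤ S) (hg : g ∈ S) : IsMor F P (cj g) :=
  ⟨conjHom P g, F.conj_mem hP hg, fun _ => rfl⟩

theorem isMor_id (F : FusionSystem S) (hP : P ≤ S) : IsMor F P id :=
  (isMor_cj F hP S.one_mem).congr fun x _ => cj_one x

theorem IsMor.comp (hf : IsMor F P f) (hg : IsMor F Q g) (h : ∀ x ∈ P, f x ∈ Q) :
    IsMor F P (g ∘ f) := by
  obtain ⟨φ, hφ, hφf⟩ := hf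
  obtain ⟨ψ, hψ, hψg⟩ := hg
  have h' : ∀ x : P, φ x ∈ Q := fun x => hφf x ▸ h x x.2
  refine ⟨_, F.comp_mem hφ hψ h', fun x => ?_⟩
  show ψ ⟨φ x, h' x⟩ = g (f x)
  rw [hψg]
  exact congrArg g (hφf x)

theorem IsMor.restrict (hf : IsMor F P f) (h : R ≤ P) : IsMor F R f :=
  ((isMor_id F (h.trans hf.le)).comp hf fun _ hx => h hx).congr fun _ _ => rfl

theorem IsMor.mem_img (hf : IsMor F P f) {y : Ω} : y ∈ img P f ↔ ∃ x ∈ P, f x = y := by
  obtain ⟨φ, -, h⟩ := hf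
  rw [← range_eq_img h]
  constructor
  · rintro ⟨x, rfl⟩
    exact ⟨x, x.2, (h x).symm⟩
  · rintro ⟨x, hx, rfl⟩
    exact ⟨⟨x, hx⟩, h _⟩

theorem IsMor.img_le (hf : IsMor F P f) : img P f ≤ S :=
  Fusion.img_le fun _ hx => hf.mem hx

theorem IsMor.mem_img_iff (hf : IsMor F P f) (hR : R ≤ P) {x : Ω} (hx : x ∈ P) :
    f x ∈ img R f ↔ x ∈ R := by
  refine ⟨fun h => ?_, mem_img_of_mem f⟩
  obtain ⟨y, hy, e⟩ := (hf.restrict hR).mem_img.mp h
  exact hf.inj (hR hy) hx e ▸ hy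

theorem IsMor.le_of_img_le (hf : IsMor F P f) {A B : Subgroup Ω} (hA : A ≤ P) (hB : B ≤ P)
    (h : img A f ≤ img B f) : A ≤ B :=
  fun _ hx => (hf.mem_img_iff hB (hA hx)).mp (h (mem_img_of_mem f hx))

theorem IsMor.img_comp (hf : IsMor F P f) (g : Ω → Ω) :
    img (img P f) g = img P (g ∘ f) := by
  have h : (img P f : Set Ω) = f '' (P : Set Ω) := by
    ext y
    exact hf.mem_img
  conv_lhs => unfold img
  rw [show ((Subgroup.closure (f '' (P : Set Ω)) : Subgroup Ω) : Set Ω) = f '' (P : Set Ω) from h,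
    ← Set.image_comp]
  rfl

theorem IsMor.card_img (hf : IsMor F P f) : Nat.card (img P f) = Nat.card P := by
  obtain ⟨φ, hφ, h⟩ := hf
  rw [← range_eq_img h]
  exact (Nat.card_congr (MonoidHom.ofInjective (F.injective_of_mem hφ)).toEquiv).symm

theorem IsMor.inverse (hf : IsMor F P f) :
    ∃ g, IsMor F (img P f) g ∧ (∀ x ∈ P, g (f x) = x) ∧
      (∀ y ∈ img P f, f (g y) = y) ∧ img (img P f) g = P := by
  obtain ⟨φ, hφ, h⟩ := hf
  have hfm : IsMor F P f := ⟨φ, hφ, h⟩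
  obtain ⟨ψ, hψ, hinv⟩ := F.inv_mem hφ
  have key : ∀ x ∈ P, toFun ψ (f x) = x := by
    intro x hx
    have hm : f x ∈ φ.range := ⟨⟨x, hx⟩, h _⟩
    rw [toFun_of_mem ψ hm]
    have := hinv ⟨x, hx⟩
    simpa [h] using this
  refine ⟨toFun ψ, ?_, key, ?_, ?_⟩
  · exact range_eq_img h ▸ isMor_of_mem hψ
  · intro y hy
    obtain ⟨x, hx, rfl⟩ := hfm.mem_img.mp hy
    rw [key x hx]
  · rw [hfm.img_comp]
    exact (img_congr (g := id) fun x hx => key x hx).trans (img_id P)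

theorem finite_of_le [Finite S] (h : P ≤ S) : Finite P :=
  Finite.of_injective _ (Subgroup.inclusion_injective h)

theorem eq_of_le_of_card [Finite S] (hQ : Q ≤ S) (h : P ≤ Q) (hc : Nat.card Q ≤ Nat.card P) :
    P = Q := by
  have := finite_of_le hQ
  exact Subgroup.eq_of_le_of_card_ge h hc

theorem IsMor.img_eq_self [Finite S] (hf : IsMor F P f) (h : ∀ x ∈ P, f x ∈ P) : img P f = P :=
  eq_of_le_of_card hf.le (Fusion.img_le h) hf.card_img.ge

theorem card_lt_of_lt [Finite S] (hQ : Q ≤ S) (h : P < Q) : Nat.card P < Nat.card Q := by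
  rcases Nat.lt_or_ge (Nat.card P) (Nat.card Q) with h' | h'
  · exact h'
  · exact absurd (eq_of_le_of_card hQ h.le h') h.ne

theorem IsMor.img_sup (hf : IsMor F (P ⊔ Q) f) : img (P ⊔ Q) f = img P f ⊔ img Q f := by
  refine le_antisymm ?_ (sup_le (img_mono f le_sup_left) (img_mono f le_sup_right))
  obtain ⟨φ, -, h⟩ := hf
  rw [← range_eq_img h]
  have e : (⊤ : Subgroup ↥(P ⊔ Q)) = P.subgroupOf (P ⊔ Q) ⊔ Q.subgroupOf (P ⊔ Q) := by
    rw [← Subgroup.subgroupOf_sup le_sup_left le_sup_right, Subgroup.subgroupOf_self]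
  rw [MonoidHom.range_eq_map, e, Subgroup.map_sup]
  refine sup_le_sup ?_ ?_ <;>
  · rintro _ ⟨x, hx, rfl⟩
    rw [h]
    exact mem_img_of_mem f hx

end Mor

/-- To prove an inclusion of systems it is enough to look at functions. -/
theorem le_iff_isMor {T : Subgroup Ω} {E : FusionSystem T} {F : FusionSystem S} :
    E.IsSubsystemOf F ↔ ∀ P f, IsMor E P f → IsMor F P f := by
  constructor
  · rintro h P f ⟨φ, hφ, hf⟩
    exact ⟨φ, h P hφ, hf⟩
  · intro h P φ hφ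
    exact (h P _ (isMor_of_mem hφ)).mem_hom fun x => (toFun_coe φ x).symm

theorem fusion_le_iff {E F : FusionSystem S} : E ≤ F ↔ E.IsSubsystemOf F := Iff.rfl

theorem hom_eq_iff {T : Subgroup Ω} {E : FusionSystem T} {F : FusionSystem S} {P : Subgroup Ω} :
    E.Hom P = F.Hom P ↔ ∀ f, IsMor E P f ↔ IsMor F P f := by
  constructor
  · intro h f
    unfold IsMor
    rw [h]
  · intro h
    ext φ
    rw [mem_hom_iff, mem_hom_iff, h]

theorem fusion_ext {E F : FusionSystem S} (h : ∀ P f, IsMor E P f ↔ IsMor F P f) : E = F := by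
  have : E.Hom = F.Hom := funext fun P => hom_eq_iff.mpr (h P)
  cases E; cases F; cases this; rfl

theorem fusion_le_antisymm {E F : FusionSystem S} (h₁ : E ≤ F) (h₂ : F ≤ E) : E = F :=
  fusion_ext fun P f => ⟨fun h => le_iff_isMor.mp h₁ P f h, fun h => le_iff_isMor.mp h₂ P f h⟩

/-! ### Conjugacy -/

theorem isConj_iff {F : FusionSystem S} {P Q : Subgroup Ω} :
    F.IsConj P Q ↔ ∃ f, IsMor F P f ∧ img P f = Q := by
  constructor
  · rintro ⟨φ, hφ, e⟩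
    exact ⟨_, isMor_of_mem hφ, (range_eq_img_toFun φ).symm.trans e⟩
  · rintro ⟨f, ⟨φ, hφ, h⟩, e⟩
    exact ⟨φ, hφ, (range_eq_img h).trans e⟩

theorem isConj_img {F : FusionSystem S} {P : Subgroup Ω} {f : Ω → Ω} (hf : IsMor F P f) :
    F.IsConj P (img P f) := isConj_iff.mpr ⟨f, hf, rfl⟩

theorem isConj_refl (F : FusionSystem S) {P : Subgroup Ω} (hP : P ≤ S) : F.IsConj P P :=
  isConj_iff.mpr ⟨id, isMor_id F hP, img_id P⟩

theorem isConj_symm {F : FusionSystem S} {P Q : Subgroup Ω} (h : F.IsConj P Q) : F.IsConj Q P := by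
  obtain ⟨f, hf, rfl⟩ := isConj_iff.mp h
  obtain ⟨g, hg, -, -, e⟩ := hf.inverse
  exact isConj_iff.mpr ⟨g, hg, e⟩

theorem isConj_trans {F : FusionSystem S} {P Q R : Subgroup Ω} (h : F.IsConj P Q)
    (h' : F.IsConj Q R) : F.IsConj P R := by
  obtain ⟨f, hf, rfl⟩ := isConj_iff.mp h
  obtain ⟨g, hg, rfl⟩ := isConj_iff.mp h'
  exact isConj_iff.mpr ⟨g ∘ f, hf.comp hg fun x hx => mem_img_of_mem f hx, (hf.img_comp g).symm⟩

theorem isConj_le {F : FusionSystem S} {P Q : Subgroup Ω} (h : F.IsConj P Q) : P ≤ S ∧ Q ≤ S := by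
  obtain ⟨f, hf, rfl⟩ := isConj_iff.mp h
  exact ⟨hf.le, hf.img_le⟩

theorem isConj_card {F : FusionSystem S} {P Q : Subgroup Ω} (h : F.IsConj P Q) :
    Nat.card Q = Nat.card P := by
  obtain ⟨f, hf, rfl⟩ := isConj_iff.mp h
  exact hf.card_img

theorem isConjElt_iff {F : FusionSystem S} {x y : Ω} :
    F.IsConjElt x y ↔ ∃ f, IsMor F (Subgroup.zpowers x) f ∧ f x = y := by
  constructor
  · rintro ⟨φ, hφ, e⟩
    exact ⟨_, isMor_of_mem hφ, (toFun_of_mem φ _).trans e⟩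
  · rintro ⟨f, ⟨φ, hφ, h⟩, e⟩
    exact ⟨φ, hφ, (h _).trans e⟩

end CfsgLib.Fusion
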