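import Mathlib
import Cfsg.Agent.Lib.Fusion.Basic

/-! Automorphism groups, extenders, and the translated forms of the system predicates. -/
set_option autoImplicit false

namespace CfsgLib.Fusion

open Cfsg Cfsg.FusionSystem

variable {Ω : Type*} [Group Ω] {S : Subgroup Ω} {F : FusionSystem S} {P Q : Subgroup Ω}

/-- An automorphism of `P` as a total function on `Ω`. -/
noncomputable def autFun (α : MulAut P) : Ω → Ω := toFun (P.subtype.comp α.toMonoidHom)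

theorem autFun_coe (α : MulAut P) (x : P) : autFun α x = (α x : Ω) := toFun_coe _ x

theorem autFun_of_mem (α : MulAut P) {x : Ω} (hx : x ∈ P) :
    autFun α x = (α ⟨x, hx⟩ : Ω) := toFun_of_mem _ hx

theorem autFun_mem (α : MulAut P) {x : Ω} (hx : x ∈ P) : autFun α x ∈ P := by
  rw [autFun_of_mem α hx]
  exact SetLike.coe_mem _

theorem autFun_mul (α β : MulAut P) {x : Ω} (hx : x ∈ P) :
    autFun (α * β) x = autFun α (autFun β x) := by
  rw [autFun_of_mem _ hx, autFun_of_mem _ hx, autFun_coe]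
  rfl

theorem autFun_one {x : Ω} (hx : x ∈ P) : autFun (1 : MulAut P) x = x := by
  rw [autFun_of_mem _ hx]
  rfl

theorem autFun_inv_left (α : MulAut P) {x : Ω} (hx : x ∈ P) : autFun α⁻¹ (autFun α x) = x := by
  rw [← autFun_mul _ _ hx, inv_mul_cancel, autFun_one hx]

theorem autFun_inv_right (α : MulAut P) {x : Ω} (hx : x ∈ P) : autFun α (autFun α⁻¹ x) = x := by
  rw [← autFun_mul _ _ hx, mul_inv_cancel, autFun_one hx]

theorem autFun_map_mul (α : MulAut P) {x y : Ω} (hx : x ∈ P) (hy : y ∈ P) :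
    autFun α (x * y) = autFun α x * autFun α y := by
  rw [autFun_of_mem _ hx, autFun_of_mem _ hy, autFun_of_mem _ (P.mul_mem hx hy),
    ← Subgroup.coe_mul, ← _root_.map_mul]
  rfl

theorem autFun_inj {α β : MulAut P} (h : ∀ x ∈ P, autFun α x = autFun β x) : α = β := by
  apply MulEquiv.ext
  intro x
  apply Subtype.ext
  rw [← autFun_coe, ← autFun_coe]
  exact h x x.2

theorem img_autFun (α : MulAut P) : img P (autFun α) = P := by
  refine le_antisymm (img_le fun x hx => autFun_mem α hx) fun x hx => ?_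
  have := mem_img_of_mem (autFun α) (autFun_mem α⁻¹ hx)
  rwa [autFun_inv_right α hx] at this

theorem autGroup_eq_set (hP : P ≤ S) (α : MulAut P) :
    α ∈ F.autGroup P ↔ IsMor F P (autFun α) := by
  constructor
  · intro h
    induction h using Subgroup.closure_induction with
    | mem β hβ => exact isMor_of_mem hβ
    | one => exact (isMor_id F hP).congr fun x hx => (autFun_one hx).symm
    | mul β γ _ _ hβ hγ =>
      exact (hγ.comp hβ fun x hx => autFun_mem γ hx).congr fun x hx => (autFun_mul β γ hx).symm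
    | inv β _ hβ =>
      obtain ⟨g, hg, hl, -, -⟩ := hβ.inverse
      rw [img_autFun] at hg
      refine hg.congr fun x hx => ?_
      conv_lhs => rw [← autFun_inv_right β hx]
      exact hl _ (autFun_mem _ hx)
  · intro h
    refine Subgroup.subset_closure (h.mem_hom fun x => ?_)
    exact (autFun_coe α x).symm

theorem autGroup_of_not_le (hP : ¬ P ≤ S) : F.autGroup P = ⊥ := by
  refine eq_bot_iff.mpr ((Subgroup.closure_le _).mpr ?_)
  intro α hα
  exact absurd (F.le_of_mem hα).1 hP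

theorem isMor_autFun {α : MulAut P} (hP : P ≤ S) (h : α ∈ F.autGroup P) :
    IsMor F P (autFun α) := (autGroup_eq_set hP α).mp h

theorem exists_aut {f : Ω → Ω} (hf : IsMor F P f) (h : img P f = P) :
    ∃ α ∈ F.autGroup P, ∀ x ∈ P, autFun α x = f x := by
  have hm : ∀ x : P, f x ∈ P := fun x => h.le (mem_img_of_mem f x.2)
  have hb : Function.Bijective (fun x : P => (⟨f x, hm x⟩ : P)) := by
    refine ⟨fun x y e => Subtype.ext (hf.inj x.2 y.2 (congrArg Subtype.val e)), fun y => ?_⟩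
    obtain ⟨x, hx, e⟩ := hf.mem_img.mp (h.ge y.2)
    exact ⟨⟨x, hx⟩, Subtype.ext e⟩
  let α : MulAut P :=
    { Equiv.ofBijective _ hb with
      map_mul' := fun x y => Subtype.ext (hf.map_mul x.2 y.2) }
  have e : ∀ x ∈ P, autFun α x = f x := fun x hx => autFun_of_mem α hx
  exact ⟨α, (autGroup_eq_set hf.le α).mpr (hf.congr fun x hx => (e x hx).symm), e⟩

/-! ### Automorphisms induced by conjugation -/

theorem mem_autInducedBy {K : Subgroup Ω} {α : MulAut P} :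
    α ∈ autInducedBy K P ↔
      ∃ g ∈ K, g ∈ Subgroup.normalizer (P : Set Ω) ∧ ∀ x ∈ P, autFun α x = cj g x := by
  constructor
  · intro h
    induction h using Subgroup.closure_induction with
    | mem β hβ =>
      obtain ⟨g, hg, e⟩ := hβ
      have e' : ∀ x ∈ P, autFun β x = cj g x := fun x hx => (autFun_of_mem β hx).trans (e ⟨x, hx⟩)
      refine ⟨g, hg, Subgroup.mem_normalizer_iff.mpr fun x => ⟨fun hx => ?_, fun hx => ?_⟩, e'⟩
      · have := autFun_mem β hx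
        rw [e' x hx] at this
        exact this
      · have h1 := autFun_inv_right β hx
        rw [e' _ (autFun_mem _ hx)] at h1
        have : autFun β⁻¹ (g * x * g⁻¹) = x := by simpa [cj] using h1
        exact this ▸ autFun_mem _ hx
    | one => exact ⟨1, K.one_mem, Subgroup.one_mem _, fun x hx => by rw [autFun_one hx, cj_one]⟩
    | mul β γ _ _ hβ hγ =>
      obtain ⟨g, hg, hgn, e⟩ := hβ
      obtain ⟨k, hk, hkn, e'⟩ := hγ
      refine ⟨g * k, K.mul_mem hg hk, Subgroup.mul_mem _ hgn hkn, fun x hx => ?_⟩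
      rw [autFun_mul _ _ hx, e _ (autFun_mem _ hx), e' x hx, cj_mul]
    | inv β _ hβ =>
      obtain ⟨g, hg, hgn, e⟩ := hβ
      refine ⟨g⁻¹, K.inv_mem hg, Subgroup.inv_mem _ hgn, fun x hx => ?_⟩
      conv_rhs => rw [← autFun_inv_right β hx, e _ (autFun_mem _ hx), cj_inv_cj]
  · rintro ⟨g, hg, -, e⟩
    exact Subgroup.subset_closure ⟨g, hg, fun x => (autFun_coe α x).symm.trans (e x x.2)⟩

theorem img_cj_of_normalizer {g : Ω} (hg : g ∈ Subgroup.normalizer (P : Set Ω)) :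
    img P (cj g) = P := by
  rw [img_cj]
  exact Subgroup.mem_normalizer_iff_map_conj_eq.mp hg

theorem autInducedBy_le (F : FusionSystem S) (hP : P ≤ S) : autInducedBy S P ≤ F.autGroup P := by
  intro α hα
  obtain ⟨g, hg, -, e⟩ := mem_autInducedBy.mp hα
  exact (autGroup_eq_set hP α).mpr ((isMor_cj F hP hg).congr fun x hx => (e x hx).symm)

theorem exists_autInducedBy {K : Subgroup Ω} {g : Ω} (hg : g ∈ K)
    (hn : g ∈ Subgroup.normalizer (P : Set Ω)) :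
    ∃ α ∈ autInducedBy K P, ∀ x ∈ P, autFun α x = cj g x := by
  refine ⟨P.normalizerMonoidHom ⟨g, hn⟩, mem_autInducedBy.mpr ⟨g, hg, hn, ?_⟩, ?_⟩ <;>
  · intro x hx
    rw [autFun_of_mem _ hx]
    rfl

theorem mem_inn {α : MulAut P} : α ∈ Inn P ↔ ∃ g ∈ P, ∀ x ∈ P, autFun α x = cj g x := by
  constructor
  · rintro ⟨g, rfl⟩
    refine ⟨g, g.2, fun x hx => ?_⟩
    rw [autFun_of_mem _ hx]
    rfl
  · rintro ⟨g, hg, e⟩
    refine ⟨⟨g, hg⟩, autFun_inj fun x hx => ?_⟩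
    rw [e x hx, autFun_of_mem _ hx]
    rfl

theorem inn_eq_autInducedBy : Inn P = autInducedBy P P := by
  ext α
  rw [mem_inn, mem_autInducedBy]
  exact ⟨fun ⟨g, hg, e⟩ => ⟨g, hg, Subgroup.le_normalizer hg, e⟩,
    fun ⟨g, hg, _, e⟩ => ⟨g, hg, e⟩⟩

theorem inn_le_autInducedBy (hP : P ≤ S) : Inn P ≤ autInducedBy S P := by
  rw [inn_eq_autInducedBy]
  intro α hα
  obtain ⟨g, hg, hn, e⟩ := mem_autInducedBy.mp hα
  exact mem_autInducedBy.mpr ⟨g, hP hg, hn, e⟩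

theorem inn_le_autGroup (F : FusionSystem S) (hP : P ≤ S) : Inn P ≤ F.autGroup P :=
  (inn_le_autInducedBy hP).trans (autInducedBy_le F hP)

theorem autGroup_mono {T : Subgroup Ω} {E : FusionSystem T} (h : E.IsSubsystemOf F) :
    E.autGroup P ≤ F.autGroup P :=
  Subgroup.closure_mono fun _ hα => h P hα

/-! ### Membership in centralizers and normalizers inside `S` -/

theorem mem_centralizerIn {g : Ω} :
    g ∈ centralizerIn S P ↔ g ∈ S ∧ ∀ x ∈ P, cj g x = x := by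
  unfold centralizerIn
  rw [Subgroup.mem_inf, Subgroup.mem_centralizer_iff]
  refine and_congr_right fun _ => forall₂_congr fun x _ => ?_
  rw [cj, cj_fixed_iff]
  exact ⟨Eq.symm, Eq.symm⟩

theorem mem_normalizerIn {g : Ω} :
    g ∈ normalizerIn S P ↔ g ∈ S ∧ g ∈ Subgroup.normalizer (P : Set Ω) := Subgroup.mem_inf

theorem centralizerIn_le : centralizerIn S P ≤ S := inf_le_left
theorem normalizerIn_le : normalizerIn S P ≤ S := inf_le_left

theorem centralizerIn_le_normalizerIn : centralizerIn S P ≤ normalizerIn S P :=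
  inf_le_inf_left _ fun g hg => Subgroup.mem_normalizer_iff.mpr fun x => by
    have hc := Subgroup.mem_centralizer_iff.mp hg
    constructor
    · intro hx
      rwa [cj_fixed_iff.mpr (hc x hx).symm]
    · intro hx
      have h1 : g⁻¹ * (g * x * g⁻¹) * g = g * x * g⁻¹ := by
        rw [mul_assoc, hc _ hx, inv_mul_cancel_left]
      have h2 : x = g * x * g⁻¹ := by simpa [mul_assoc] using h1
      exact h2 ▸ hx

theorem le_normalizerIn (hP : P ≤ S) : P ≤ normalizerIn S P := le_inf hP Subgroup.le_normalizer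

/-! ### The extender -/

/-- The subgroup `N_f`. -/
def nExt (S P : Subgroup Ω) (f : Ω → Ω) : Subgroup Ω where
  carrier := {g | g ∈ S ∧ g ∈ Subgroup.normalizer (P : Set Ω) ∧
    ∃ h ∈ S, ∀ x ∈ P, f (cj g x) = cj h (f x)}
  one_mem' := ⟨S.one_mem, Subgroup.one_mem _, 1, S.one_mem, fun x _ => by rw [cj_one, cj_one]⟩
  mul_mem' := by
    rintro a b ⟨ha, han, h, hh, he⟩ ⟨hb, hbn, k, hk, ke⟩
    refine ⟨S.mul_mem ha hb, Subgroup.mul_mem _ han hbn, h * k, S.mul_mem hh hk, fun x hx => ?_⟩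
    have hm : cj b x ∈ P := (Subgroup.mem_normalizer_iff.mp hbn x).mp hx
    rw [cj_mul, he _ hm, ke x hx, cj_mul]
  inv_mem' := by
    rintro a ⟨ha, han, h, hh, he⟩
    refine ⟨S.inv_mem ha, Subgroup.inv_mem _ han, h⁻¹, S.inv_mem hh, fun x hx => ?_⟩
    have := he (cj a⁻¹ x) ((Subgroup.mem_normalizer_iff.mp (Subgroup.inv_mem _ han) x).mp hx)
    rw [cj_cj_inv] at this
    rw [this, cj_inv_cj]

theorem mem_nExt {f : Ω → Ω} {g : Ω} : g ∈ nExt S P f ↔ g ∈ S ∧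
    g ∈ Subgroup.normalizer (P : Set Ω) ∧ ∃ h ∈ S, ∀ x ∈ P, f (cj g x) = cj h (f x) := Iff.rfl

theorem nExt_le (f : Ω → Ω) : nExt S P f ≤ normalizerIn S P :=
  fun _ hg => mem_normalizerIn.mpr ⟨hg.1, hg.2.1⟩

theorem nExt_congr {f f' : Ω → Ω} (e : ∀ x ∈ P, f x = f' x) : nExt S P f = nExt S P f' := by
  ext g
  rw [mem_nExt, mem_nExt]
  refine and_congr_right fun _ => and_congr_right fun hn => exists_congr fun h =>
    and_congr_right fun _ => forall₂_congr fun x hx => ?_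
  have hm : cj g x ∈ P := (Subgroup.mem_normalizer_iff.mp hn x).mp hx
  rw [e _ hm, e x hx]

theorem extender_eq {φ : P →* Ω} {f : Ω → Ω} (h : ∀ x : P, φ x = f x) :
    extender S P φ = nExt S P f := by
  unfold extender
  have : {g : Ω | g ∈ S ∧ g ∈ Subgroup.normalizer (P : Set Ω) ∧
      ∃ k ∈ S, ∀ (x : P) (hx : g * (x : Ω) * g⁻¹ ∈ P), φ ⟨g * x * g⁻¹, hx⟩ = k * φ x * k⁻¹}
      = (nExt S P f : Set Ω) := by
    ext g
    refine and_congr_right fun _ => and_congr_right fun hn => exists_congr fun k =>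
      and_congr_right fun _ => ⟨fun e x hx => ?_, fun e x hx => ?_⟩
    · have := e ⟨x, hx⟩ ((Subgroup.mem_normalizer_iff.mp hn x).mp hx)
      rwa [h, h] at this
    · rw [h, h]
      exact e x x.2
  rw [this, Subgroup.closure_eq]

theorem le_nExt {f : Ω → Ω} (hf : IsMor F P f) : P ≤ nExt S P f :=
  fun x hx => ⟨hf.le hx, Subgroup.le_normalizer hx, f x, hf.mem hx, fun _ hy => hf.map_conj hx hy⟩

theorem centralizerIn_le_nExt (f : Ω → Ω) : centralizerIn S P ≤ nExt S P f := by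
  intro g hg
  obtain ⟨hgS, hc⟩ := mem_centralizerIn.mp hg
  exact ⟨hgS, (mem_normalizerIn.mp (centralizerIn_le_normalizerIn hg)).2, 1, S.one_mem,
    fun x hx => by rw [hc x hx, cj_one]⟩

theorem isReceptive_iff : F.IsReceptive Q ↔ Q ≤ S ∧ ∀ P f, IsMor F P f → img P f = Q →
    ∃ g, IsMor F (nExt S P f) g ∧ ∀ x ∈ P, g x = f x := by
  refine and_congr_right fun _ => ⟨fun h P f hf e => ?_, fun h P φ hφ e => ?_⟩
  · obtain ⟨φ, hφ, hφf⟩ := id hf
    obtain ⟨ψ, hψ, hψφ⟩ := h P φ hφ ((range_eq_img hφf).trans e)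
    refine ⟨toFun ψ, extender_eq (S := S) hφf ▸ isMor_of_mem hψ, fun x hx => ?_⟩
    have hN : x ∈ extender S P φ := (extender_eq (S := S) hφf).ge (le_nExt hf hx)
    rw [toFun_of_mem ψ hN, hψφ x hx hN, hφf]
  · have e1 : ∀ x : P, φ x = toFun φ x := fun x => (toFun_coe φ x).symm
    obtain ⟨g, hg, hgf⟩ := h P _ (isMor_of_mem hφ) ((range_eq_img e1).symm.trans e)
    rw [← extender_eq (S := S) e1] at hg
    obtain ⟨ψ, hψ, hψg⟩ := hg
    exact ⟨ψ, hψ, fun x hx hN => by rw [hψg, hgf x hx, toFun_of_mem φ hx]⟩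

/-! ### Translated predicates -/

theorem map_subgroupOf_eq_img {R : Subgroup Ω} {ψ : R →* Ω} {f : Ω → Ω}
    (h : ∀ x : R, ψ x = f x) (hQ : Q ≤ R) : (Q.subgroupOf R).map ψ = img Q f := by
  refine le_antisymm ?_ (img_le fun x hx => ⟨⟨x, hQ hx⟩, hx, h _⟩)
  rintro _ ⟨x, hx, rfl⟩
  rw [h]
  exact mem_img_of_mem f hx

theorem ext_iff_aux {φ : P →* Ω} {C : (Ω → Ω) → Prop} {D : (↥(P ⊔ Q) →* Ω) → Prop}
    (hCD : ∀ (ψ : ↥(P ⊔ Q) →* Ω) (g : Ω → Ω), (∀ x, ψ x = g x) → (D ψ ↔ C g)) :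
    (∃ ψ ∈ F.Hom (P ⊔ Q), (∀ x : P, ψ (Subgroup.inclusion le_sup_left x) = φ x) ∧ D ψ) ↔
      ∃ g, IsMor F (P ⊔ Q) g ∧ (∀ x ∈ P, g x = toFun φ x) ∧ C g := by
  constructor
  · rintro ⟨ψ, hψ, he, hD⟩
    refine ⟨toFun ψ, isMor_of_mem hψ, fun x hx => ?_, (hCD ψ _ fun x => (toFun_coe ψ x).symm).mp hD⟩
    rw [toFun_of_mem ψ (Subgroup.mem_sup_left hx), toFun_of_mem φ hx]
    exact he ⟨x, hx⟩
  · rintro ⟨g, ⟨ψ, hψ, hψg⟩, he, hC⟩
    refine ⟨ψ, hψ, fun x => ?_, (hCD ψ g hψg).mpr hC⟩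
    rw [hψg, ← toFun_coe φ x]
    exact he x x.2

theorem isNormal_iff : F.IsNormal Q ↔ Q ≤ S ∧ ∀ P f, IsMor F P f →
    ∃ g, IsMor F (P ⊔ Q) g ∧ (∀ x ∈ P, g x = f x) ∧ img Q g = Q := by
  refine and_congr_right fun _ => ⟨fun h P f hf => ?_, fun h P φ hφ => ?_⟩
  · obtain ⟨φ, hφ, hφf⟩ := hf
    obtain ⟨g, hg, he, hC⟩ := (ext_iff_aux (C := fun g => img Q g = Q)
      fun ψ g hg => by rw [map_subgroupOf_eq_img hg le_sup_right]).mp (h P φ hφ)
    exact ⟨g, hg, fun x hx => (he x hx).trans ((toFun_of_mem φ hx).trans (hφf _)), hC⟩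
  · exact (ext_iff_aux (C := fun g => img Q g = Q)
      fun ψ g hg => by rw [map_subgroupOf_eq_img hg le_sup_right]).mpr
        (h P _ (isMor_of_mem hφ))

theorem isCentral_iff : F.IsCentral Q ↔ Q ≤ S ∧ ∀ P f, IsMor F P f →
    ∃ g, IsMor F (P ⊔ Q) g ∧ (∀ x ∈ P, g x = f x) ∧ ∀ x ∈ Q, g x = x := by
  have key : ∀ P : Subgroup Ω, ∀ (ψ : ↥(P ⊔ Q) →* Ω) (g : Ω → Ω), (∀ x, ψ x = g x) →
      ((∀ x : Q, ψ (Subgroup.inclusion le_sup_right x) = x) ↔ ∀ x ∈ Q, g x = x) :=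
    fun P ψ g hg => ⟨fun h x hx => (hg _).symm.trans (h ⟨x, hx⟩), fun h x => (hg _).trans (h x x.2)⟩
  refine and_congr_right fun _ => ⟨fun h P f hf => ?_, fun h P φ hφ => ?_⟩
  · obtain ⟨φ, hφ, hφf⟩ := hf
    obtain ⟨g, hg, he, hC⟩ := (ext_iff_aux (key P)).mp (h P φ hφ)
    exact ⟨g, hg, fun x hx => (he x hx).trans ((toFun_of_mem φ hx).trans (hφf _)), hC⟩
  · exact (ext_iff_aux (key P)).mpr (h P _ (isMor_of_mem hφ))

theorem mem_normalizerHom {φ : P →* Ω} : φ ∈ F.normalizerHom Q P ↔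
    IsMor F P (toFun φ) ∧ P ≤ normalizerIn S Q ∧ (∀ x ∈ P, toFun φ x ∈ normalizerIn S Q) ∧
      ∃ g, IsMor F (P ⊔ Q) g ∧ (∀ x ∈ P, g x = toFun φ x) ∧ img Q g = Q := by
  refine and_congr mem_hom_iff (and_congr_right fun _ => and_congr ⟨fun h x hx => ?_, fun h x => ?_⟩
    (ext_iff_aux fun ψ g hg => by rw [map_subgroupOf_eq_img hg le_sup_right]))
  · rw [toFun_of_mem φ hx]; exact h _
  · exact toFun_coe φ x ▸ h x x.2

theorem mem_centralizerHom {φ : P →* Ω} : φ ∈ F.centralizerHom Q P ↔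
    IsMor F P (toFun φ) ∧ P ≤ centralizerIn S Q ∧ (∀ x ∈ P, toFun φ x ∈ centralizerIn S Q) ∧
      ∃ g, IsMor F (P ⊔ Q) g ∧ (∀ x ∈ P, g x = toFun φ x) ∧ ∀ x ∈ Q, g x = x := by
  refine and_congr mem_hom_iff (and_congr_right fun _ => and_congr ⟨fun h x hx => ?_, fun h x => ?_⟩
    (ext_iff_aux fun ψ g hg =>
      ⟨fun h x hx => (hg _).symm.trans (h ⟨x, hx⟩), fun h x => (hg _).trans (h x x.2)⟩))
  · rw [toFun_of_mem φ hx]; exact h _
  · exact toFun_coe φ x ▸ h x x.2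

theorem stronglyClosed_iff : F.StronglyClosed Q ↔ Q ≤ S ∧
    ∀ P f, IsMor F P f → ∀ x ∈ P, x ∈ Q → f x ∈ Q := by
  refine and_congr_right fun _ => ⟨fun h P f hf x hxP hxQ => ?_, fun h R hR φ hφ x => ?_⟩
  · obtain ⟨φ, hφ, hφf⟩ := hf.restrict (inf_le_left : P ⊓ Q ≤ P)
    exact hφf ⟨x, hxP, hxQ⟩ ▸ h _ inf_le_right φ hφ ⟨x, hxP, hxQ⟩
  · exact toFun_coe φ x ▸ h R _ (isMor_of_mem hφ) x x.2 (hR x.2)

theorem weaklyClosed_iff : F.WeaklyClosed Q ↔ Q ≤ S ∧ ∀ f, IsMor F Q f → img Q f = Q := by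
  refine and_congr_right fun _ => ⟨fun h f hf => ?_, fun h φ hφ => ?_⟩
  · obtain ⟨φ, hφ, e⟩ := hf
    exact (range_eq_img e).symm.trans (h φ hφ)
  · exact (range_eq_img_toFun φ).trans (h _ (isMor_of_mem hφ))

/-! ### Building a fusion system from a predicate on functions -/

/-- The fusion system whose maps are given by a predicate on functions. -/
noncomputable def ofPred (S : Subgroup Ω) (M : Subgroup Ω → (Ω → Ω) → Prop)
    (hle : ∀ P f, M P f → P ≤ S ∧ ∀ x ∈ P, f x ∈ S)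
    (hinj : ∀ P f, M P f → ∀ x ∈ P, ∀ y ∈ P, f x = f y → x = y)
    (hcongr : ∀ P f g, M P f → (∀ x ∈ P, f x = g x) → M P g)
    (hcj : ∀ (P : Subgroup Ω) g, P ≤ S → g ∈ S → M P (cj g))
    (hcomp : ∀ P Q f g, M P f → M Q g → (∀ x ∈ P, f x ∈ Q) → M P (g ∘ f))
    (hinv : ∀ P f, M P f → (∀ x ∈ P, ∀ y ∈ P, f (x * y) = f x * f y) →
      ∃ g : Ω → Ω, M (img P f) g ∧ ∀ x ∈ P, g (f x) = x) : FusionSystem S where
  Hom P := {φ | M P (toFun φ)}
  le_of_mem {P φ} h := ⟨(hle _ _ h).1, fun x => toFun_coe φ x ▸ (hle _ _ h).2 x x.2⟩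
  injective_of_mem {P φ} h := fun a b e =>
    Subtype.ext (hinj _ _ h a a.2 b b.2 (by rw [toFun_coe, toFun_coe, e]))
  conj_mem {P g} hP hg := hcongr _ _ _ (hcj P g hP hg) fun x hx => ((toFun_of_mem (conjHom P g) hx).trans rfl).symm
  comp_mem {P Q φ ψ} hφ hψ h :=
    hcongr _ _ _ (hcomp P Q _ _ hφ hψ fun x hx => by rw [toFun_of_mem φ hx]; exact h _)
      fun x hx => by
        rw [Function.comp_apply, toFun_of_mem φ hx, toFun_of_mem ψ (h _), toFun_of_mem _ hx]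
        rfl
  inv_mem {P φ} hφ := by
    obtain ⟨g, hg, hgl⟩ := hinv P _ hφ fun x hx y hy => by
      rw [toFun_of_mem φ hx, toFun_of_mem φ hy, toFun_of_mem φ (P.mul_mem hx hy), ← _root_.map_mul]
      rfl
    rw [← range_eq_img_toFun φ] at hg
    have hl : ∀ x : P, g (φ x) = x := fun x => toFun_coe φ x ▸ hgl x x.2
    let ψ : φ.range →* Ω :=
      { toFun := fun y => g y
        map_one' := by simpa using hl 1
        map_mul' := by
          rintro ⟨_, x, rfl⟩ ⟨_, y, rfl⟩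
          show g (φ x * φ y) = g (φ x) * g (φ y)
          rw [← _root_.map_mul, hl, hl, hl, Subgroup.coe_mul] }
    exact ⟨ψ, hcongr _ _ _ hg fun y hy => (toFun_of_mem ψ hy).symm, fun x => hl x⟩

theorem ofPred_hom {M : Subgroup Ω → (Ω → Ω) → Prop} {hle hinj hcongr hcj hcomp hinv} :
    (ofPred S M hle hinj hcongr hcj hcomp hinv).Hom P = {φ | M P (toFun φ)} := rfl

theorem isMor_ofPred {M : Subgroup Ω → (Ω → Ω) → Prop} {hle hinj hcongr hcj hcomp hinv}
    {f : Ω → Ω} (hmul : M P f → ∀ x ∈ P, ∀ y ∈ P, f (x * y) = f x * f y) :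
    IsMor (ofPred S M hle hinj hcongr hcj hcomp hinv) P f ↔ M P f := by
  constructor
  · rintro ⟨φ, hφ, e⟩
    have hφ' : M P (toFun φ) := (Set.ext_iff.mp (ofPred_hom (P := P)) φ).mp hφ
    exact hcongr P (toFun φ) f hφ' fun x hx => (toFun_of_mem φ hx).trans (e _)
  · intro h
    have h1 : f 1 = 1 := by
      have := hmul h 1 P.one_mem 1 P.one_mem
      rw [one_mul] at this
      exact left_eq_mul.mp this
    let φ : P →* Ω :=
      { toFun := fun x => f x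
        map_one' := h1
        map_mul' := fun x y => hmul h x x.2 y y.2 }
    refine ⟨φ, (Set.ext_iff.mp (ofPred_hom (P := P)) φ).mpr ?_, fun _ => rfl⟩
    exact hcongr _ _ _ h fun x hx => (toFun_of_mem φ hx).symm

/-! ### Standard systems -/

theorem mem_of_eq' {T : Subgroup Ω} {a b : Ω} (e : a = b) (h : a ∈ T) : b ∈ T := e ▸ h

theorem isMor_inner {f : Ω → Ω} :
    IsMor (innerFusionSystem S) P f ↔ P ≤ S ∧ ∃ g ∈ S, ∀ x ∈ P, f x = cj g x := by
  constructor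
  · rintro ⟨φ, ⟨hP, g, hg, e⟩, he⟩
    exact ⟨hP, g, hg, fun x hx => (he ⟨x, hx⟩).symm.trans (e _)⟩
  · rintro ⟨hP, g, hg, e⟩
    exact (isMor_cj _ hP hg).congr fun x hx => (e x hx).symm

theorem inner_isSubsystemOf (F : FusionSystem S) : (innerFusionSystem S).IsSubsystemOf F :=
  le_iff_isMor.mpr fun _ _ h => by
    obtain ⟨hP, g, hg, e⟩ := isMor_inner.mp h
    exact (isMor_cj F hP hg).congr fun x hx => (e x hx).symm

theorem isMor_fusionSystemOfSubgroup {H T : Subgroup Ω} {hTH : T ≤ H} {f : Ω → Ω} :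
    IsMor (fusionSystemOfSubgroup H T hTH) P f ↔
      P ≤ T ∧ (∀ x ∈ P, f x ∈ T) ∧ ∃ g ∈ H, ∀ x ∈ P, f x = cj g x := by
  constructor
  · rintro ⟨φ, ⟨hP, hT, g, hg, e⟩, he⟩
    exact ⟨hP, fun x hx => he ⟨x, hx⟩ ▸ hT _, g, hg, fun x hx => (he ⟨x, hx⟩).symm.trans (e _)⟩
  · rintro ⟨hP, hT, g, hg, e⟩
    exact ⟨conjHom P g, ⟨hP, fun x => mem_of_eq' (e x x.2) (hT x x.2), g, hg, fun _ => rfl⟩,
      fun x => (e x x.2).symm⟩

theorem isMor_group {f : Ω → Ω} :
    IsMor (groupFusionSystem S) P f ↔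
      P ≤ S ∧ (∀ x ∈ P, f x ∈ S) ∧ ∃ g : Ω, ∀ x ∈ P, f x = cj g x := by
  constructor
  · rintro ⟨φ, ⟨hP, hT, g, e⟩, he⟩
    exact ⟨hP, fun x hx => he ⟨x, hx⟩ ▸ hT _, g, fun x hx => (he ⟨x, hx⟩).symm.trans (e _)⟩
  · rintro ⟨hP, hT, g, e⟩
    exact ⟨conjHom P g, ⟨hP, fun x => mem_of_eq' (e x x.2) (hT x x.2), g, fun _ => rfl⟩,
      fun x => (e x x.2).symm⟩

end CfsgLib.Fusion
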