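import Mathlib
import Cfsg.Agent.Lib.Fusion.Aut
import Cfsg.Agent.Lib.Fusion.SylowAux

/-! Fully normalized / centralized / automized / receptive subgroups and saturation. -/
set_option autoImplicit false

namespace CfsgLib.Fusion

open Cfsg Cfsg.FusionSystem

variable {Ω : Type*} [Group Ω] {S : Subgroup Ω} {F : FusionSystem S} {P Q : Subgroup Ω}

theorem finite_mulAut [Finite S] (hP : P ≤ S) : Finite (MulAut P) := by
  have := finite_of_le hP
  exact MulEquiv.finite_left

theorem isPGroup_autInducedBy {p : ℕ} (hS : IsPGroup p S) :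
    IsPGroup p (autInducedBy S P) := by
  rintro ⟨α, hα⟩
  obtain ⟨g, hg, hn, e⟩ := mem_autInducedBy.mp hα
  obtain ⟨k, hk⟩ := hS ⟨g, hg⟩
  refine ⟨k, Subtype.ext ?_⟩
  have hk' : g ^ p ^ k = 1 := congrArg Subtype.val hk
  have e2 : α = P.normalizerMonoidHom ⟨g, hn⟩ := autFun_inj fun x hx => by
    rw [e x hx, autFun_of_mem _ hx]
    rfl
  have e3 : (⟨g, hn⟩ : Subgroup.normalizer (P : Set Ω)) ^ p ^ k = 1 := Subtype.ext hk'
  show α ^ p ^ k = 1
  rw [e2, ← map_pow, e3, _root_.map_one]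

/-- Transport of automorphisms along a map of the system. -/
theorem exists_transport {f : Ω → Ω} (hf : IsMor F P f) (hQ : img P f = Q) :
    ∃ e : MulAut P ≃* MulAut Q,
      (∀ α : MulAut P, ∀ x ∈ P, autFun (e α) (f x) = f (autFun α x)) ∧
      (∀ α, α ∈ F.autGroup P ↔ e α ∈ F.autGroup Q) ∧
      ∀ g, g ∈ Subgroup.normalizer (Q : Set Ω) → ∀ α : MulAut P,
        ((∀ y ∈ Q, autFun (e α) y = cj g y) ↔ ∀ x ∈ P, f (autFun α x) = cj g (f x)) := by
  subst hQ
  have hb : Function.Bijective (fun x : P => (⟨f x, mem_img_of_mem f x.2⟩ : img P f)) := by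
    refine ⟨fun x y e => Subtype.ext (hf.inj x.2 y.2 (congrArg Subtype.val e)), fun y => ?_⟩
    obtain ⟨x, hx, e⟩ := hf.mem_img.mp y.2
    exact ⟨⟨x, hx⟩, Subtype.ext e⟩
  let ε : P ≃* ↥(img P f) :=
    { Equiv.ofBijective _ hb with
      map_mul' := fun x y => Subtype.ext (hf.map_mul x.2 y.2) }
  have hε : ∀ x : P, (ε x : Ω) = f x := fun _ => rfl
  have key : ∀ α : MulAut P, ∀ x ∈ P,
      autFun (MulAut.congr ε α) (f x) = f (autFun α x) := by
    intro α x hx
    rw [autFun_of_mem _ (mem_img_of_mem f hx)]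
    have : (⟨f x, mem_img_of_mem f hx⟩ : img P f) = ε ⟨x, hx⟩ := rfl
    rw [this, MulAut.congr_apply, MulEquiv.trans_apply, MulEquiv.trans_apply,
      MulEquiv.symm_apply_apply, hε, autFun_of_mem _ hx]
  refine ⟨MulAut.congr ε, key, fun α => ?_, fun g _ α => ⟨fun h x hx => ?_, fun h y hy => ?_⟩⟩
  · rw [autGroup_eq_set hf.le, autGroup_eq_set hf.img_le]
    obtain ⟨g, hg, hgl, hgr, hgi⟩ := hf.inverse
    constructor
    · intro hα
      refine ((hg.comp hα fun y hy => hgi.le (mem_img_of_mem g hy)).comp hf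
        fun y hy => autFun_mem α (hgi.le (mem_img_of_mem g hy))).congr fun y hy => ?_
      simp only [Function.comp_apply]
      rw [← key α _ (hgi.le (mem_img_of_mem g hy)), hgr y hy]
    · intro hα
      refine ((hf.comp hα fun x hx => mem_img_of_mem f hx).comp hg
        fun x hx => autFun_mem _ (mem_img_of_mem f hx)).congr fun x hx => ?_
      simp only [Function.comp_apply]
      rw [key α x hx, hgl _ (autFun_mem α hx)]
  · rw [← key α x hx, h _ (mem_img_of_mem f hx)]
  · obtain ⟨x, hx, rfl⟩ := hf.mem_img.mp hy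
    rw [key α x hx, h x hx]

theorem isFullyAutomized_iff {p : ℕ} :
    F.IsFullyAutomized p P ↔
      P ≤ S ∧ IsSylIn p (autInducedBy S P) (F.autGroup P) :=
  and_congr_right fun hP => exists_sylow_iff (autInducedBy_le F hP)

theorem mapsTo_normalizerIn {f : Ω → Ω} {R : Subgroup Ω} (hf : IsMor F R f) (hQR : Q ≤ R)
    (hR : R ≤ normalizerIn S Q) : ∀ x ∈ R, f x ∈ normalizerIn S (img Q f) := by
  intro a ha
  have key : ∀ b ∈ R, ∀ z ∈ img Q f, f b * z * (f b)⁻¹ ∈ img Q f := by
    intro b hb z hz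
    obtain ⟨y, hy, rfl⟩ := (hf.restrict hQR).mem_img.mp hz
    rw [← hf.map_conj hb (hQR hy)]
    exact mem_img_of_mem f ((Subgroup.mem_normalizer_iff.mp (mem_normalizerIn.mp (hR hb)).2 y).mp hy)
  refine mem_normalizerIn.mpr ⟨hf.mem ha, Subgroup.mem_normalizer_iff.mpr fun z => ⟨key a ha z, fun hz => ?_⟩⟩
  have := key a⁻¹ (R.inv_mem ha) _ hz
  rw [hf.map_inv ha] at this
  simpa [mul_assoc] using this

theorem mapsTo_centralizerIn {f : Ω → Ω} {R : Subgroup Ω} (hf : IsMor F R f) (hQR : Q ≤ R)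
    (hC : centralizerIn S Q ≤ R) :
    ∀ x ∈ centralizerIn S Q, f x ∈ centralizerIn S (img Q f) := by
  intro a ha
  refine mem_centralizerIn.mpr ⟨hf.mem (hC ha), fun z hz => ?_⟩
  obtain ⟨y, hy, rfl⟩ := (hf.restrict hQR).mem_img.mp hz
  rw [cj, ← hf.map_conj (hC ha) (hQR hy)]
  exact congrArg f ((mem_centralizerIn.mp ha).2 y hy)

/-- A receptive subgroup attracts centralizers. -/
theorem exists_map_centralizer (hP : F.IsReceptive P) {f : Ω → Ω} (hf : IsMor F Q f)
    (hfi : img Q f = P) :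
    ∃ g, IsMor F (centralizerIn S Q ⊔ Q) g ∧ (∀ x ∈ Q, g x = f x) ∧
      img (centralizerIn S Q) g ≤ centralizerIn S P := by
  obtain ⟨g, hg, hgf⟩ := (isReceptive_iff.mp hP).2 Q f hf hfi
  refine ⟨g, hg.restrict (sup_le (centralizerIn_le_nExt f) (le_nExt hf)), hgf,
    img_le fun x hx => ?_⟩
  have := mapsTo_centralizerIn hg (le_nExt hf) (centralizerIn_le_nExt f) x hx
  rwa [img_congr hgf, hfi] at this

theorem card_le_of_img_le [Finite S] {R : Subgroup Ω} {g : Ω → Ω} (hg : IsMor F R g)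
    {T : Subgroup Ω} (hT : T ≤ S) (h : img R g ≤ T) : Nat.card R ≤ Nat.card T := by
  have := finite_of_le hT
  rw [← hg.card_img]
  exact Subgroup.card_le_of_le h

theorem isFullyCentralized_of_receptive [Finite S] (hP : F.IsReceptive P) :
    F.IsFullyCentralized P := by
  refine ⟨hP.1, fun Q hQ => ?_⟩
  obtain ⟨f, hf, hfi⟩ := isConj_iff.mp (isConj_symm hQ)
  obtain ⟨g, hg, -, hi⟩ := exists_map_centralizer hP hf hfi
  exact card_le_of_img_le (hg.restrict le_sup_left) centralizerIn_le hi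

/-- If `P` is fully automized and receptive, normalizers of conjugates map into `N_S(P)`. -/
theorem exists_map_normalizer [Finite S] {p : ℕ} [Fact p.Prime] (hS : IsPGroup p S)
    (h₁ : F.IsFullyAutomized p P) (h₂ : F.IsReceptive P) (hQ : F.IsConj Q P) :
    ∃ g, IsMor F (normalizerIn S Q) g ∧ img Q g = P ∧
      img (normalizerIn S Q) g ≤ normalizerIn S P := by
  obtain ⟨f, hf, hfi⟩ := isConj_iff.mp hQ
  obtain ⟨e, he, heA, -⟩ := exists_transport hf hfi
  have := finite_mulAut h₁.1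
  obtain ⟨β, hβ, hβc⟩ := (isFullyAutomized_iff.mp h₁).2.exists_conj_le
    ((isPGroup_autInducedBy (P := Q) hS).map e.toMonoidHom) (by
      rintro _ ⟨α, hα, rfl⟩
      exact (heA α).mp (autInducedBy_le F hf.le hα))
  have hf' : IsMor F Q (autFun β ∘ f) :=
    hf.comp (isMor_autFun h₁.1 hβ) fun x hx => hfi ▸ mem_img_of_mem f hx
  have hfi' : img Q (autFun β ∘ f) = P := by rw [← hf.img_comp, hfi, img_autFun]
  have hN : nExt S Q (autFun β ∘ f) = normalizerIn S Q := by
    refine le_antisymm (nExt_le _) fun a ha => ⟨(mem_normalizerIn.mp ha).1, (mem_normalizerIn.mp ha).2, ?_⟩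
    obtain ⟨α, hα, hαe⟩ := exists_autInducedBy (mem_normalizerIn.mp ha).1 (mem_normalizerIn.mp ha).2
    obtain ⟨h, hh, -, hhe⟩ := mem_autInducedBy.mp (hβc _ ⟨α, hα, rfl⟩)
    refine ⟨h, hh, fun x hx => ?_⟩
    have hfx : f x ∈ P := hfi ▸ mem_img_of_mem f hx
    have := hhe _ (autFun_mem β hfx)
    rw [autFun_mul _ _ (autFun_mem β hfx), autFun_inv_left β hfx, autFun_mul _ _ hfx] at this
    show autFun β (f (cj a x)) = cj h (autFun β (f x))
    rw [← hαe x hx, ← he α x hx]
    exact this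
  obtain ⟨g, hg, hgf⟩ := (isReceptive_iff.mp h₂).2 Q _ hf' hfi'
  rw [hN] at hg
  have hgi : img Q g = P := (img_congr hgf).trans hfi'
  exact ⟨g, hg, hgi,
    img_le fun x hx => hgi ▸ mapsTo_normalizerIn hg (le_normalizerIn hf.le) le_rfl x hx⟩

theorem isFullyNormalized_of_automized [Finite S] {p : ℕ} [Fact p.Prime] (hS : IsPGroup p S)
    (h₁ : F.IsFullyAutomized p P) (h₂ : F.IsReceptive P) : F.IsFullyNormalized P := by
  refine ⟨h₁.1, fun Q hQ => ?_⟩
  obtain ⟨g, hg, -, hgN⟩ := exists_map_normalizer hS h₁ h₂ (isConj_symm hQ)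
  exact card_le_of_img_le hg normalizerIn_le hgN

/-- Receptivity passes back along a map of normalizers covering the centralizer. -/
theorem isReceptive_of_map (hQ : F.IsReceptive Q) {g : Ω → Ω}
    (hg : IsMor F (normalizerIn S P) g) (hP : P ≤ S) (hgi : img P g = Q)
    (hC : centralizerIn S Q ≤ img (normalizerIn S P) g) : F.IsReceptive P := by
  refine isReceptive_iff.mpr ⟨hP, fun R f hf hfi => ?_⟩
  have hfP : ∀ x ∈ R, f x ∈ P := fun x hx => hfi ▸ mem_img_of_mem f hx
  have hgf : IsMor F R (g ∘ f) := hf.comp hg fun x hx => le_normalizerIn hP (hfP x hx)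
  have hgfi : img R (g ∘ f) = Q := by rw [← hf.img_comp, hfi, hgi]
  obtain ⟨k, hk, hkf⟩ := (isReceptive_iff.mp hQ).2 R _ hgf hgfi
  have hN : nExt S R f ≤ nExt S R (g ∘ f) ∧ ∀ a ∈ nExt S R f, k a ∈ img (normalizerIn S P) g := by
    have key : ∀ a ∈ nExt S R f, ∃ h ∈ normalizerIn S P, ∀ x ∈ R,
        g (f (cj a x)) = cj (g h) (g (f x)) := by
      rintro a ⟨-, han, h, hh, he⟩
      have hhn : h ∈ Subgroup.normalizer (P : Set Ω) := by
        refine Subgroup.mem_normalizer_iff.mpr fun y => ⟨fun hy => ?_, fun hy => ?_⟩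
        · obtain ⟨x, hx, rfl⟩ := hf.mem_img.mp (hfi ▸ hy)
          rw [← cj, ← he x hx]
          exact hfP _ ((Subgroup.mem_normalizer_iff.mp han x).mp hx)
        · obtain ⟨x, hx, e⟩ := hf.mem_img.mp (hfi ▸ hy)
          have hx' : cj a⁻¹ x ∈ R :=
            (Subgroup.mem_normalizer_iff.mp (Subgroup.inv_mem _ han) x).mp hx
          have h1 := he _ hx'
          rw [cj_cj_inv, e] at h1
          have h2 : y = f (cj a⁻¹ x) := by simpa [cj] using h1
          exact h2 ▸ hfP _ hx'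
      have hhN : h ∈ normalizerIn S P := mem_normalizerIn.mpr ⟨hh, hhn⟩
      refine ⟨h, hhN, fun x hx => ?_⟩
      rw [he x hx]
      exact hg.map_conj hhN (le_normalizerIn hP (hfP x hx))
    constructor
    · intro a ha
      obtain ⟨h, hh, he⟩ := key a ha
      exact ⟨ha.1, ha.2.1, g h, hg.mem hh, he⟩
    · intro a ha
      obtain ⟨h, hh, he⟩ := key a ha
      have ha' : a ∈ nExt S R (g ∘ f) := ⟨ha.1, ha.2.1, g h, hg.mem hh, he⟩
      have hc : (g h)⁻¹ * k a ∈ centralizerIn S Q := by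
        refine mem_centralizerIn.mpr ⟨S.mul_mem (S.inv_mem (hg.mem hh)) (hk.mem ha'), fun y hy => ?_⟩
        obtain ⟨x, hx, rfl⟩ := hgf.mem_img.mp (hgfi ▸ hy)
        have hax : cj a x ∈ R := (Subgroup.mem_normalizer_iff.mp ha.2.1 x).mp hx
        have h1 : k (cj a x) = cj (k a) (k x) := hk.map_conj ha' (le_nExt hgf hx)
        rw [hkf _ hax, hkf x hx, Function.comp_apply, he x hx] at h1
        rw [cj_mul]
        show cj (g h)⁻¹ (cj (k a) (g (f x))) = g (f x)
        rw [show cj (k a) (g (f x)) = cj (g h) (g (f x)) from h1.symm, cj_inv_cj]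
      have := Subgroup.mul_mem _ (mem_img_of_mem g hh) (hC hc)
      rwa [mul_inv_cancel_left] at this
  obtain ⟨g', hg', hl, -, -⟩ := hg.inverse
  refine ⟨g' ∘ k, (hk.restrict hN.1).comp hg' hN.2, fun x hx => ?_⟩
  show g' (k x) = f x
  rw [hkf x hx]
  exact hl _ (le_normalizerIn hP (hfP x hx))

theorem isReceptive_of_centralized [Finite S] {p : ℕ} [Fact p.Prime] (hS : IsPGroup p S)
    (hF : F.IsSaturated p) (h : F.IsFullyCentralized P) : F.IsReceptive P := by
  obtain ⟨Q, hQ, h₁, h₂⟩ := hF P h.1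
  obtain ⟨g, hg, hgi, -⟩ := exists_map_normalizer hS h₁ h₂ hQ
  refine isReceptive_of_map h₂ hg h.1 hgi ?_
  have hle : centralizerIn S P ≤ normalizerIn S P := centralizerIn_le_normalizerIn
  have h1 : img (centralizerIn S P) g ≤ centralizerIn S Q :=
    img_le fun x hx => hgi ▸ mapsTo_centralizerIn hg (le_normalizerIn h.1) hle x hx
  have h2 := eq_of_le_of_card centralizerIn_le h1 (by
    rw [(hg.restrict hle).card_img]; exact h.2 Q hQ)
  exact h2.ge.trans (img_mono g hle)

theorem isFullyAutomized_of_normalized [Finite S] {p : ℕ} [Fact p.Prime] (hS : IsPGroup p S)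
    (hF : F.IsSaturated p) (h : F.IsFullyNormalized P) :
    F.IsFullyAutomized p P ∧ F.IsReceptive P := by
  obtain ⟨Q, hQ, h₁, h₂⟩ := hF P h.1
  obtain ⟨g, hg, hgi, hgN⟩ := exists_map_normalizer hS h₁ h₂ hQ
  have hN : img (normalizerIn S P) g = normalizerIn S Q :=
    eq_of_le_of_card normalizerIn_le hgN (by rw [hg.card_img]; exact h.2 Q hQ)
  refine ⟨isFullyAutomized_iff.mpr ⟨h.1, autInducedBy_le F h.1, isPGroup_autInducedBy hS,
    fun C hC hAC hCB => le_antisymm (fun α hα => ?_) hAC⟩,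
    isReceptive_of_map h₂ hg h.1 hgi (hN ▸ centralizerIn_le_normalizerIn)⟩
  have hgP : IsMor F P g := hg.restrict (le_normalizerIn h.1)
  obtain ⟨e, he, heA, -⟩ := exists_transport hgP hgi
  have hmap : C.map e.toMonoidHom = autInducedBy S Q := by
    refine (isFullyAutomized_iff.mp h₁).2.2.2 _ (hC.map _) ?_ ?_
    · intro β hβ
      obtain ⟨k, hk, hkn, hkβ⟩ := mem_autInducedBy.mp hβ
      obtain ⟨a, ha, rfl⟩ := hg.mem_img.mp (hN.ge (mem_normalizerIn.mpr ⟨hk, hkn⟩))
      obtain ⟨γ, hγ, hγe⟩ :=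
        exists_autInducedBy (mem_normalizerIn.mp ha).1 (mem_normalizerIn.mp ha).2
      refine ⟨γ, hAC hγ, autFun_inj fun y hy => ?_⟩
      obtain ⟨x, hx, rfl⟩ := hgP.mem_img.mp (hgi ▸ hy)
      rw [hkβ _ hy]
      show autFun (e γ) (g x) = _
      rw [he γ x hx, hγe x hx]
      exact hg.map_conj ha (le_normalizerIn h.1 hx)
    · rintro _ ⟨γ, hγ, rfl⟩
      exact (heA γ).mp (hCB hγ)
  obtain ⟨k, hk, hkn, hke⟩ := mem_autInducedBy.mp
    (hmap.le ⟨α, hα, rfl⟩ : e α ∈ autInducedBy S Q)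
  obtain ⟨a, ha, rfl⟩ := hg.mem_img.mp (hN.ge (mem_normalizerIn.mpr ⟨hk, hkn⟩))
  refine mem_autInducedBy.mpr ⟨a, (mem_normalizerIn.mp ha).1, (mem_normalizerIn.mp ha).2, fun x hx => ?_⟩
  have h1 := hke (g x) (hgi ▸ mem_img_of_mem g hx)
  rw [he α x hx] at h1
  have hm : cj a x ∈ P := (Subgroup.mem_normalizer_iff.mp (mem_normalizerIn.mp ha).2 x).mp hx
  refine hgP.inj (autFun_mem α hx) hm ?_
  rw [h1]
  exact (hg.map_conj ha (le_normalizerIn h.1 hx)).symm

theorem exists_fullyNormalized [Finite S] (F : FusionSystem S) (hP : P ≤ S) :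
    ∃ Q, F.IsConj P Q ∧ F.IsFullyNormalized Q := by
  classical
  let p' : ℕ → Prop := fun n => ∃ Q, F.IsConj P Q ∧ Nat.card (normalizerIn S Q) = n
  have hb : ∀ n, p' n → n ≤ Nat.card S := by
    rintro n ⟨Q, -, rfl⟩
    exact Subgroup.card_le_of_le normalizerIn_le
  have hne : p' (Nat.card (normalizerIn S P)) := ⟨P, isConj_refl F hP, rfl⟩
  obtain ⟨Q, hQ, e⟩ : p' (Nat.findGreatest p' (Nat.card S)) :=
    Nat.findGreatest_spec (hb _ hne) hne
  refine ⟨Q, hQ, (isConj_le hQ).2, fun R hR => ?_⟩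
  rw [e]
  exact Nat.le_findGreatest (hb _ ⟨R, isConj_trans hQ hR, rfl⟩) ⟨R, isConj_trans hQ hR, rfl⟩

/-- In a saturated system every conjugate normalizer maps into that of a fully normalized one. -/
theorem exists_map_fullyNormalized [Finite S] {p : ℕ} [Fact p.Prime] (hS : IsPGroup p S)
    (hF : F.IsSaturated p) (hP : F.IsFullyNormalized P) (hQ : F.IsConj Q P) :
    ∃ g, IsMor F (normalizerIn S Q) g ∧ img Q g = P ∧
      img (normalizerIn S Q) g ≤ normalizerIn S P := by
  obtain ⟨h₁, h₂⟩ := isFullyAutomized_of_normalized hS hF hP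
  exact exists_map_normalizer hS h₁ h₂ hQ

theorem isFullyCentralized_of_normalized [Finite S] {p : ℕ} [Fact p.Prime] (hS : IsPGroup p S)
    (hF : F.IsSaturated p) (hP : F.IsFullyNormalized P) : F.IsFullyCentralized P :=
  isFullyCentralized_of_receptive (isFullyAutomized_of_normalized hS hF hP).2

theorem isFullyNormalized_self [Finite S] (F : FusionSystem S) : F.IsFullyNormalized S := by
  have : Finite (normalizerIn S S) := finite_of_le normalizerIn_le
  refine ⟨le_rfl, fun Q _ => Subgroup.card_le_of_le ?_⟩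
  exact (normalizerIn_le).trans (le_normalizerIn le_rfl)

theorem saturated_of_normalized [Finite S] {p : ℕ}
    (h : ∀ P : Subgroup Ω, F.IsFullyNormalized P → F.IsFullyAutomized p P ∧ F.IsReceptive P) :
    F.IsSaturated p := fun _ hP => by
  obtain ⟨Q, hQ, hQn⟩ := exists_fullyNormalized F hP
  exact ⟨Q, hQ, h Q hQn⟩

/-- Roberts-Shpectorov: receptivity of the fully normalized subgroups gives full automization. -/
theorem automized_of_receptive [Finite S] {p : ℕ} [hp : Fact p.Prime] (hS : IsPGroup p S)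
    (hSa : F.IsFullyAutomized p S)
    (hrec : ∀ P : Subgroup Ω, F.IsFullyNormalized P → F.IsReceptive P)
    (hP : F.IsFullyNormalized P) : F.IsFullyAutomized p P := by
  induction hd : Nat.card S - Nat.card P using Nat.strong_induction_on generalizing P with
  | _ d ih =>
    subst hd
    by_contra hcon
    have hPS : P < S := lt_of_le_of_ne hP.1 fun e => hcon (e ▸ hSa)
    have := finite_mulAut hP.1
    obtain ⟨α, hαF, hαn, hαN, m, hm⟩ := exists_normalizing (autInducedBy_le F hP.1)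
      (isPGroup_autInducedBy hS) fun h => hcon (isFullyAutomized_iff.mpr ⟨hP.1, h⟩)
    have hf : IsMor F P (autFun α) := isMor_autFun hP.1 hαF
    obtain ⟨ψ₀, hψ₀, hψ₀e⟩ := (isReceptive_iff.mp (hrec P hP)).2 P _ hf (img_autFun α)
    have hN : nExt S P (autFun α) = normalizerIn S P := by
      refine le_antisymm (nExt_le _) fun a ha =>
        ⟨(mem_normalizerIn.mp ha).1, (mem_normalizerIn.mp ha).2, ?_⟩
      obtain ⟨γ, hγ, hγe⟩ :=
        exists_autInducedBy (mem_normalizerIn.mp ha).1 (mem_normalizerIn.mp ha).2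
      obtain ⟨h, hh, -, hhe⟩ := mem_autInducedBy.mp
        ((Subgroup.mem_normalizer_iff.mp hαN γ).mp hγ)
      refine ⟨h, hh, fun x hx => ?_⟩
      have := hhe _ (autFun_mem α hx)
      rwa [autFun_mul _ _ (autFun_mem α hx), autFun_inv_left α hx, autFun_mul _ _ hx,
        hγe x hx] at this
    rw [hN] at hψ₀
    have hPN : P < normalizerIn S P := lt_inf_normalizer hS hPS
    have hψi : img P ψ₀ = P := (img_congr hψ₀e).trans (img_autFun α)
    have hψN : img (normalizerIn S P) ψ₀ = normalizerIn S P := by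
      refine eq_of_le_of_card normalizerIn_le (img_le fun x hx => ?_) hψ₀.card_img.ge
      have := mapsTo_normalizerIn hψ₀ hPN.le le_rfl x hx
      rwa [hψi] at this
    obtain ⟨Ψ₀, hΨ₀, hΨ₀e⟩ := exists_aut hψ₀ hψN
    have := finite_mulAut (P := normalizerIn S P) (S := S) normalizerIn_le
    obtain ⟨a, c, hc, hn⟩ := Nat.exists_eq_pow_mul_and_not_dvd (orderOf_pos Ψ₀).ne' p hp.1.ne_one
    have hcop : (p ^ (a + m)).Coprime c :=
      Nat.Coprime.pow_left _ ((hp.1.coprime_iff_not_dvd).mpr hc)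
    obtain ⟨k, hk1, hk2⟩ := Nat.chineseRemainder hcop 1 0
    have hΨp : (Ψ₀ ^ k) ^ p ^ a = 1 := by
      rw [← pow_mul, ← orderOf_dvd_iff_pow_eq_one, hn, mul_comm k]
      exact Nat.mul_dvd_mul_left _ (Nat.modEq_zero_iff_dvd.mp hk2)
    have hαk : α ^ k = α := by
      have h1 : k ≡ 1 [MOD orderOf α] := hk1.of_dvd
        ((orderOf_dvd_of_pow_eq_one hm).trans (Nat.pow_dvd_pow p (Nat.le_add_left m a)))
      simpa using pow_eq_pow_iff_modEq.mpr h1
    have hres : ∀ n : ℕ, ∀ x ∈ P, autFun (Ψ₀ ^ n) x = autFun (α ^ n) x := by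
      intro n
      induction n with
      | zero => intro x hx; rw [pow_zero, pow_zero, autFun_one (hPN.le hx), autFun_one hx]
      | succ n ihn =>
        intro x hx
        rw [pow_succ', pow_succ', autFun_mul _ _ (hPN.le hx), autFun_mul _ _ hx, ihn x hx,
          hΨ₀e _ (hPN.le (autFun_mem _ hx)), hψ₀e _ (autFun_mem _ hx)]
    obtain ⟨R, hR, hRn⟩ := exists_fullyNormalized F (P := normalizerIn S P) normalizerIn_le
    have hRa : F.IsFullyAutomized p R := by
      refine ih _ ?_ hRn rfl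
      have h1 := card_lt_of_lt normalizerIn_le hPN
      have h2 := isConj_card hR
      have h3 : Nat.card (normalizerIn S P) ≤ Nat.card S := Subgroup.card_le_of_le normalizerIn_le
      omega
    obtain ⟨f, hf', hfi⟩ := isConj_iff.mp hR
    obtain ⟨e, he, heA, -⟩ := exists_transport hf' hfi
    have := finite_mulAut hRn.1
    have hpow : e (Ψ₀ ^ k) ^ p ^ a = 1 := by rw [← map_pow, hΨp, _root_.map_one]
    obtain ⟨β, hβ, hβc⟩ := (isFullyAutomized_iff.mp hRa).2.exists_conj_le
      (C := Subgroup.zpowers (e (Ψ₀ ^ k)))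
      (by
        rintro ⟨_, i, rfl⟩
        refine ⟨a, Subtype.ext ?_⟩
        show ((e (Ψ₀ ^ k)) ^ i) ^ p ^ a = 1
        rw [← zpow_natCast, ← zpow_mul, mul_comm, zpow_mul, zpow_natCast, hpow, one_zpow])
      (Subgroup.zpowers_le.mpr ((heA _).mp (Subgroup.pow_mem _ hΨ₀ k)))
    obtain ⟨h, hh, -, hhe⟩ := mem_autInducedBy.mp (hβc _ (Subgroup.mem_zpowers _))
    have hθ : IsMor F (normalizerIn S P) (autFun β ∘ f) :=
      hf'.comp (isMor_autFun hRn.1 hβ) fun x hx => hfi ▸ mem_img_of_mem f hx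
    have hθi : img (normalizerIn S P) (autFun β ∘ f) = R := by
      rw [← hf'.img_comp, hfi, img_autFun]
    have key : ∀ x ∈ P, autFun β (f (autFun α x)) = cj h (autFun β (f x)) := by
      intro x hx
      have hfx : f x ∈ R := hfi ▸ mem_img_of_mem f (hPN.le hx)
      have := hhe _ (autFun_mem β hfx)
      rw [autFun_mul _ _ (autFun_mem β hfx), autFun_inv_left β hfx, autFun_mul _ _ hfx,
        he _ x (hPN.le hx), hres k x hx, hαk] at this
      exact this
    set θ := autFun β ∘ f with hθdef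
    have hRN : R ≤ normalizerIn S (img P θ) := hθi ▸ img_le
      (mapsTo_normalizerIn hθ hPN.le le_rfl)
    have hReq : R = normalizerIn S (img P θ) := by
      refine eq_of_le_of_card normalizerIn_le hRN ?_
      rw [isConj_card hR]
      exact hP.2 _ (isConj_img (hθ.restrict hPN.le))
    have hhR : h ∈ R := by
      rw [hReq]
      refine mem_normalizerIn.mpr ⟨hh, ?_⟩
      rw [Subgroup.mem_normalizer_iff_map_conj_eq]
      show (img P θ).map (MulAut.conj h).toMonoidHom = _
      rw [← img_cj, (hθ.restrict hPN.le).img_comp]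
      calc img P (cj h ∘ θ) = img P (θ ∘ autFun α) := img_congr fun x hx => (key x hx).symm
        _ = img (img P (autFun α)) θ := ((hf.img_comp θ)).symm
        _ = img P θ := by rw [img_autFun]
    obtain ⟨b, hb, hbe⟩ := hθ.mem_img.mp (hθi ▸ hhR)
    refine hαn (mem_autInducedBy.mpr
      ⟨b, (mem_normalizerIn.mp hb).1, (mem_normalizerIn.mp hb).2, fun x hx => ?_⟩)
    have hm' : cj b x ∈ P := (Subgroup.mem_normalizer_iff.mp (mem_normalizerIn.mp hb).2 x).mp hx
    refine hθ.inj (hPN.le (autFun_mem α hx)) (hPN.le hm') ?_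
    show θ (autFun α x) = θ (b * x * b⁻¹)
    rw [hθ.map_conj hb (hPN.le hx), hbe]
    exact key x hx

end CfsgLib.Fusion
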