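import Mathlib
import Cfsg.Prelude.Def_EvenType
import Cfsg.Agent.Lib.Fusion.SylowAux

/-! Basic properties of strongly `p`-embedded subgroups. -/
set_option autoImplicit false

namespace CfsgLib.Fusion

open Cfsg

variable {X : Type*} [Group X] [Finite X] {p : ℕ} [hp : Fact p.Prime] {P E : Subgroup X}

theorem normalizer_le_kCore {Q : Subgroup X} (hQP : Q ≤ P) (hP : IsPGroup p P) (hQ : Q ≠ ⊥) :
    Subgroup.normalizer (Q : Set X) ≤ kGeneratedCore p 1 P := by
  refine le_iSup_of_le ⟨Q, hQP, fun hr => ?_⟩ le_rfl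
  obtain ⟨k, hk⟩ := IsPGroup.iff_card.mp (isPGroup_of_le hQP hP)
  have hk0 : k ≠ 0 := fun e => hQ (Subgroup.card_eq_one.mp (by rw [hk, e, pow_zero]))
  obtain ⟨x, hx⟩ := exists_prime_orderOf_dvd_card' p (hk ▸ dvd_pow_self p hk0)
  have h1 := hr (Subgroup.zpowers x) inferInstance (by
    rintro a ⟨i, rfl⟩
    rw [← zpow_natCast, ← zpow_mul, mul_comm, zpow_mul, zpow_natCast, ← hx, pow_orderOf_eq_one,
      one_zpow])
  rw [Nat.card_zpowers, hx, Nat.sub_self, pow_zero] at h1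
  exact absurd h1 (not_le.mpr hp.1.one_lt)

/-- Elements moving a nontrivial subgroup of the Sylow subgroup into it lie in `E`. -/
theorem mem_of_conj_le (P : Sylow p X) (hE : kGeneratedCore p 1 (P : Subgroup X) ≤ E)
    {x a : X} (ha : a ∈ (P : Subgroup X)) (ha1 : a ≠ 1)
    (hxa : x * a * x⁻¹ ∈ (P : Subgroup X)) : x ∈ E := by
  have hN : ∀ Q : Subgroup X, Q ≤ (P : Subgroup X) → Q ≠ ⊥ →
      Subgroup.normalizer (Q : Set X) ≤ E :=
    fun Q h1 h2 => (normalizer_le_kCore h1 P.2 h2).trans hE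
  have hC : ∀ c ∈ (P : Subgroup X), c ≠ 1 → ∀ y : X, y * c = c * y → y ∈ E := by
    intro c hc hc1 y hy
    refine hN (Subgroup.zpowers c) (Subgroup.zpowers_le.mpr hc) (by simpa using hc1) ?_
    rw [Subgroup.mem_normalizer_iff_map_conj_eq, MonoidHom.map_zpowers]
    simp [hy]
  have hb1 : x * a * x⁻¹ ≠ 1 := by simpa using ha1
  have hP0 : (P : Subgroup X) ≠ ⊥ := fun e => ha1 (Subgroup.mem_bot.mp (e ▸ ha))
  have hPE : (P : Subgroup X) ≤ E := Subgroup.le_normalizer.trans (hN _ le_rfl hP0)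
  have : Nontrivial (P : Subgroup X) := (Subgroup.nontrivial_iff_ne_bot _).mpr hP0
  have := P.2.center_nontrivial
  obtain ⟨⟨z, hzc⟩, hz1⟩ := exists_ne (1 : Subgroup.center (P : Subgroup X))
  have hzP : (z : X) ∈ (P : Subgroup X) := z.2
  have hz1' : (z : X) ≠ 1 := fun e => hz1 (Subtype.ext (Subtype.ext e))
  have hzcomm : ∀ c ∈ (P : Subgroup X), c * (z : X) = (z : X) * c := fun c hc =>
    congrArg Subtype.val (Subgroup.mem_center_iff.mp hzc ⟨c, hc⟩)
  have h1 : x⁻¹ * z * x ∈ E := by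
    refine hC a ha ha1 _ ?_
    have h2 := hzcomm _ hxa
    calc x⁻¹ * z * x * a = x⁻¹ * (z * (x * a * x⁻¹)) * x := by simp [mul_assoc]
      _ = x⁻¹ * ((x * a * x⁻¹) * z) * x := by rw [h2]
      _ = a * (x⁻¹ * z * x) := by simp [mul_assoc]
  have hS : IsSylIn p (P : Subgroup X) E := ⟨hPE, P.2, fun C hC h _ => P.3 hC h⟩
  obtain ⟨e, he, hez⟩ := hS.exists_conj_le (C := Subgroup.zpowers (x⁻¹ * z * x))
    ((isPGroup_of_le (Subgroup.zpowers_le.mpr hzP) P.2).map (MulAut.conj x⁻¹).toMonoidHom |>.of_equiv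
      (MulEquiv.subgroupCongr (by rw [MonoidHom.map_zpowers]; simp)))
    (Subgroup.zpowers_le.mpr h1)
  have hy : (e * x⁻¹) * z * (e * x⁻¹)⁻¹ ∈ (P : Subgroup X) := by
    simpa [mul_assoc] using hez _ (Subgroup.mem_zpowers _)
  have hy1 : (e * x⁻¹) * z * (e * x⁻¹)⁻¹ ≠ 1 := fun h => hz1' (conj_eq_one_iff.mp h)
  have hPy : (P : Subgroup X).map (MulAut.conj (e * x⁻¹)).toMonoidHom ≤ E := by
    rintro _ ⟨c, hc, rfl⟩
    refine hC _ hy hy1 _ ?_
    show MulAut.conj (e * x⁻¹) c * MulAut.conj (e * x⁻¹) z =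
      MulAut.conj (e * x⁻¹) z * MulAut.conj (e * x⁻¹) c
    rw [← map_mul, ← map_mul, hzcomm c hc]
  obtain ⟨e', he', hee⟩ := hS.exists_conj_le (P.2.map _) hPy
  have hfin : e' * (e * x⁻¹) ∈ E := by
    refine hN _ le_rfl hP0 ?_
    rw [Subgroup.mem_normalizer_iff_map_conj_eq]
    refine Subgroup.eq_of_le_of_card_ge ?_ ?_
    · rintro _ ⟨c, hc, rfl⟩
      simpa [mul_assoc] using hee _ ⟨c, hc, rfl⟩
    · exact (Nat.card_congr ((P : Subgroup X).equivMapOfInjective _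
        (MulAut.conj (e' * (e * x⁻¹))).injective).toEquiv).le
  have := (E.inv_mem_iff (x := x)).mp ((E.mul_mem_cancel_left he).mp
    ((E.mul_mem_cancel_left he').mp hfin))
  exact this

theorem pCore_eq_bot_of_stronglyPEmbedded (h : IsStronglyPEmbedded p E) {N : Subgroup X}
    [N.Normal] (hN : IsPGroup p N) : N = ⊥ := by
  obtain ⟨-, hne, P, hP⟩ := h
  by_contra h0
  refine hne (top_le_iff.mp (le_trans (le_of_eq ?_)
    ((normalizer_le_kCore (hN.le_sylow_of_normal P) P.2 h0).trans hP)))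
  exact (Subgroup.normalizer_eq_top (H := N)).symm

end CfsgLib.Fusion
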