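import Mathlib
import Cfsg.Agent.Lib.Fusion.Saturation
import Cfsg.Agent.Lib.Fusion.StrongEmbed

/-! Centric, radical and essential subgroups. -/
set_option autoImplicit false

namespace CfsgLib.Fusion

open Cfsg Cfsg.FusionSystem

variable {Ω : Type*} [Group Ω] {S : Subgroup Ω} {F : FusionSystem S} {P Q : Subgroup Ω}
  {p : ℕ}

theorem centric_centralizer_le (h : F.IsCentric P) : centralizerIn S P ≤ P :=
  h.2 P (isConj_refl F h.1)

theorem centric_of_isConj (h : F.IsCentric P) (hc : F.IsConj P Q) : F.IsCentric Q :=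
  ⟨(isConj_le hc).2, fun R hR => h.2 R (isConj_trans hc hR)⟩

theorem centralizerIn_anti (h : P ≤ Q) : centralizerIn S Q ≤ centralizerIn S P :=
  inf_le_inf_left _ (Subgroup.centralizer_le h)

theorem centric_mono (h : F.IsCentric P) (hPQ : P ≤ Q) (hQ : Q ≤ S) : F.IsCentric Q := by
  refine ⟨hQ, fun R hR => ?_⟩
  obtain ⟨f, hf, rfl⟩ := isConj_iff.mp hR
  exact (centralizerIn_anti (img_mono f hPQ)).trans
    ((h.2 _ (isConj_img (hf.restrict hPQ))).trans (img_mono f hPQ))

theorem centric_fullyCentralized [Finite S] (h : F.IsCentric P) : F.IsFullyCentralized P := by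
  refine ⟨h.1, fun Q hQ => ?_⟩
  obtain ⟨g, hg, rfl⟩ := isConj_iff.mp (isConj_symm hQ)
  have hle : centralizerIn S Q ≤ Q := h.2 Q hQ
  exact card_le_of_img_le (hg.restrict hle) centralizerIn_le
    (img_le fun x hx => mapsTo_centralizerIn hg le_rfl hle x hx)

theorem centric_receptive [Finite S] [Fact p.Prime] (hS : IsPGroup p S) (hF : F.IsSaturated p)
    (h : F.IsCentric P) : F.IsReceptive P :=
  isReceptive_of_centralized hS hF (centric_fullyCentralized h)

/-! ### The `p`-core of the automorphism group -/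

/-- `O_p(Aut_F(P))` as a subgroup of `MulAut P`. -/
noncomputable def pCoreAut (F : FusionSystem S) (p : ℕ) (P : Subgroup Ω) : Subgroup (MulAut P) :=
  (pCore p (F.autGroup P)).map (F.autGroup P).subtype

theorem isRadical_iff : F.IsRadical p P ↔ P ≤ S ∧ pCoreAut F p P = Inn P := Iff.rfl

theorem le_pCoreAut {K : Subgroup (MulAut P)} (hK : K ≤ F.autGroup P) (hp : IsPGroup p K)
    (hn : ∀ a ∈ F.autGroup P, ∀ k ∈ K, a * k * a⁻¹ ∈ K) : K ≤ pCoreAut F p P := by
  have : (K.subgroupOf (F.autGroup P)).Normal := ⟨fun k hk a => hn a a.2 k hk⟩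
  intro k hk
  exact ⟨⟨k, hK hk⟩, le_sSup (s := {N : Subgroup (F.autGroup P) | N.Normal ∧ IsPGroup p N})
    ⟨this, hp.comap_of_injective _ (F.autGroup P).subtype_injective⟩ hk, rfl⟩

theorem inn_conj_mem {a k : MulAut P} (hk : k ∈ Inn P) : a * k * a⁻¹ ∈ Inn P :=
  (innNormal P).conj_mem k hk a

theorem isPGroup_inn (hS : IsPGroup p S) (hP : P ≤ S) : IsPGroup p (Inn P) :=
  isPGroup_of_le (inn_le_autInducedBy hP) (isPGroup_autInducedBy hS)

theorem inn_le_pCoreAut (F : FusionSystem S) (hS : IsPGroup p S) (hP : P ≤ S) :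
    Inn P ≤ pCoreAut F p P :=
  le_pCoreAut (inn_le_autGroup F hP) (isPGroup_inn hS hP) fun _ _ _ hk => inn_conj_mem hk

theorem le_inn_of_radical (h : F.IsRadical p P) {K : Subgroup (MulAut P)}
    (hK : K ≤ F.autGroup P) (hp : IsPGroup p K)
    (hn : ∀ a ∈ F.autGroup P, ∀ k ∈ K, a * k * a⁻¹ ∈ K) : K ≤ Inn P :=
  (le_pCoreAut hK hp hn).trans h.2.le

/-- A fully centralized subgroup containing its centralizer is centric. -/
theorem centric_of_fullyCentralized [Finite S] {U : Subgroup Ω} (hU : F.IsFullyCentralized U)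
    (hC : centralizerIn S U ≤ U) : F.IsCentric U := by
  refine ⟨hU.1, fun Q hQ => ?_⟩
  obtain ⟨f, hf, hfi⟩ := isConj_iff.mp hQ
  have hr : IsMor F (centralizerIn S U) f := hf.restrict hC
  have hsub : img (centralizerIn S U) f ≤ centralizerIn S Q :=
    img_le fun x hx => hfi ▸ mapsTo_centralizerIn hf le_rfl hC x hx
  have h := eq_of_le_of_card centralizerIn_le hsub (by rw [hr.card_img]; exact hU.2 Q hQ)
  exact h.ge.trans ((img_mono f hC).trans hfi.le)

theorem mem_of_cj_inn (hP : P ≤ S) (hc : centralizerIn S P ≤ P) {g : Ω} (hg : g ∈ S)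
    {α : MulAut P} (hα : α ∈ Inn P) (e : ∀ x ∈ P, autFun α x = cj g x) : g ∈ P := by
  obtain ⟨y, hy, hye⟩ := mem_inn.mp hα
  have : y⁻¹ * g ∈ P :=
    hc (mem_centralizerIn.mpr ⟨S.mul_mem (S.inv_mem (hP hy)) hg, fun x hx => by
      rw [cj_mul, ← e x hx, hye x hx, cj_inv_cj]⟩)
  simpa using P.mul_mem hy this

theorem normalizerIn_gt [Finite S] [Fact p.Prime] (hS : IsPGroup p S) (hP : P < S) :
    P < normalizerIn S P := lt_inf_normalizer hS hP

theorem inn_subgroupOf_normal (F : FusionSystem S) (P : Subgroup Ω) :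
    ((Inn P).subgroupOf (F.autGroup P)).Normal :=
  ⟨fun k hk a => inn_conj_mem (a := (a : MulAut P)) hk⟩

theorem essential_le (h : F.IsEssential p P) : P ≤ S := h.1.1

/-- Essential subgroups are radical. -/
theorem essential_radical [Finite S] [Fact p.Prime] (hS : IsPGroup p S) (h : F.IsEssential p P) :
    F.IsRadical p P := by
  obtain ⟨-, -, hn, E, hE⟩ := id h
  have hP := h.1.1
  refine ⟨hP, le_antisymm ?_ (inn_le_pCoreAut F hS hP)⟩
  have := finite_mulAut hP
  let π := QuotientGroup.mk' ((Inn P).subgroupOf (F.autGroup P))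
  have hπ : Function.Surjective π := QuotientGroup.mk'_surjective _
  rintro _ ⟨a, ha, rfl⟩
  have hN : (pCore p (F.autGroup P)).Normal :=
    Subgroup.sSup_normal _ fun N hN => hN.1
  have hpN : IsPGroup p (pCore p (F.autGroup P)) := Sylow.sSup_of_normal _ (fun N hN => hN.2) fun N hN => hN.1
  have := hN.map π hπ
  have h0 := pCore_eq_bot_of_stronglyPEmbedded hE (hpN.map π)
  have ha' : π a = 1 := Subgroup.mem_bot.mp (h0.le ⟨a, ha, rfl⟩)
  exact (QuotientGroup.eq_one_iff a).mp ha'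

end CfsgLib.Fusion
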