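import Mathlib
import Cfsg.Agent.Lib.Fusion.Centric

/-! Alperin's fusion theorem for saturated fusion systems. -/
set_option autoImplicit false

namespace CfsgLib.Fusion

open Cfsg Cfsg.FusionSystem

variable {Ω : Type*} [Group Ω] {S : Subgroup Ω} {F : FusionSystem S} {P Q : Subgroup Ω}
  {p : ℕ} [hp : Fact p.Prime] [Finite S]

/-- The automorphisms of `P` that extend to a map on a larger subgroup. -/
def extSet (F : FusionSystem S) (P : Subgroup Ω) : Set (MulAut P) :=
  {α | ∃ Q g, P < Q ∧ IsMor F Q g ∧ ∀ x ∈ P, g x = autFun α x}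

/-- The subgroup they generate. -/
def extGroup (F : FusionSystem S) (P : Subgroup Ω) : Subgroup (MulAut P) :=
  Subgroup.closure (extSet F P)

omit hp [Finite S] in
theorem extGroup_le : extGroup F P ≤ F.autGroup P := by
  refine (Subgroup.closure_le _).mpr ?_
  rintro α ⟨Q, g, hPQ, hg, e⟩
  exact (autGroup_eq_set (hPQ.le.trans hg.le) α).mpr ((hg.restrict hPQ.le).congr e)

omit hp [Finite S] in
theorem mem_extSet_of_conj (hr : F.IsReceptive P) {α : MulAut P} (hα : α ∈ F.autGroup P)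
    {g h : Ω} (hg : g ∈ normalizerIn S P) (hgP : g ∉ P) (hh : h ∈ S)
    (e : ∀ x ∈ P, autFun α (cj g x) = cj h (autFun α x)) : α ∈ extSet F P := by
  have hf := isMor_autFun hr.1 hα
  obtain ⟨k, hk, hke⟩ := (isReceptive_iff.mp hr).2 P _ hf (img_autFun α)
  refine ⟨_, k, lt_of_le_of_ne (le_nExt hf) fun heq => hgP ?_, hk, hke⟩
  exact heq.ge ⟨(mem_normalizerIn.mp hg).1, (mem_normalizerIn.mp hg).2, h, hh, e⟩

theorem exists_conj_of_extSet (hS : IsPGroup p S) {α : MulAut P} (hα : α ∈ extSet F P) :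
    ∃ g ∈ normalizerIn S P, g ∉ P ∧ ∃ h ∈ normalizerIn S P,
      ∀ x ∈ P, autFun α (cj g x) = cj h (autFun α x) := by
  obtain ⟨Q, k, hPQ, hk, e⟩ := hα
  have : Finite Q := finite_of_le hk.le
  obtain ⟨g, hg, hgP⟩ := SetLike.exists_of_lt
    (lt_inf_normalizer (isPGroup_of_le hk.le hS) hPQ)
  obtain ⟨hgQ, hgN⟩ := Subgroup.mem_inf.mp hg
  have hmaps : img P k = P := (img_congr e).trans (img_autFun α)
  refine ⟨g, mem_normalizerIn.mpr ⟨hk.le hgQ, hgN⟩, hgP, k g, ?_, fun x hx => ?_⟩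
  · have := mapsTo_normalizerIn (Q := P) (hk.restrict (inf_le_left : Q ⊓ Subgroup.normalizer (P : Set Ω) ≤ Q))
      (le_inf hPQ.le Subgroup.le_normalizer) (fun a ha => mem_normalizerIn.mpr ⟨hk.le ha.1, ha.2⟩) g hg
    rwa [hmaps] at this
  · have hm : cj g x ∈ P := (Subgroup.mem_normalizer_iff.mp hgN x).mp hx
    rw [← e _ hm, ← e x hx]
    exact hk.map_conj hgQ (hPQ.le hx)

omit hp [Finite S] in
theorem mul_conj_aut {α γ δ : MulAut P} {g h : Ω}
    (hγ : ∀ x ∈ P, autFun γ x = cj g x) (hδ : ∀ x ∈ P, autFun δ x = cj h x) :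
    α * γ * α⁻¹ = δ ↔ ∀ x ∈ P, autFun α (cj g x) = cj h (autFun α x) := by
  constructor
  · intro he x hx
    have : α * γ = δ * α := by rw [← he, inv_mul_cancel_right]
    have h1 := congrArg (fun φ => autFun φ x) this
    replace h1 : autFun (α * γ) x = autFun (δ * α) x := h1
    rw [autFun_mul _ _ hx, autFun_mul _ _ hx, hγ x hx, hδ _ (autFun_mem α hx)] at h1
    exact h1
  · intro he
    rw [mul_inv_eq_iff_eq_mul]
    refine autFun_inj fun x hx => ?_
    rw [autFun_mul _ _ hx, autFun_mul _ _ hx, hγ x hx, hδ _ (autFun_mem α hx)]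
    exact he x hx

/-- For `P < S` fully normalized: the extendable automorphisms generate the automizer unless `P`
is essential, and in that case they give a strongly `p`-embedded subgroup. -/
theorem extGroup_dichotomy (hS : IsPGroup p S) (hF : F.IsSaturated p) (hPS : P < S)
    (hn : F.IsFullyNormalized P) :
    (¬ F.IsEssential p P ∧ extGroup F P = F.autGroup P) ∨
      (F.IsEssential p P ∧ ∃ _ : ((Inn P).subgroupOf (F.autGroup P)).Normal,
        IsStronglyPEmbedded p (((extGroup F P).subgroupOf (F.autGroup P)).map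
          (QuotientGroup.mk' ((Inn P).subgroupOf (F.autGroup P))))) := by
  obtain ⟨hfa, hr⟩ := isFullyAutomized_of_normalized hS hF hn
  by_cases hc : centralizerIn S P ≤ P
  swap
  · left
    refine ⟨fun he => hc (centric_centralizer_le he.1), le_antisymm extGroup_le fun α hα => ?_⟩
    obtain ⟨g, hg, hgP⟩ := SetLike.not_le_iff_exists.mp hc
    refine Subgroup.subset_closure (mem_extSet_of_conj hr hα (centralizerIn_le_normalizerIn hg) hgP
      S.one_mem fun x hx => ?_)
    rw [(mem_centralizerIn.mp hg).2 x hx, cj_one]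
  have hnI := inn_subgroupOf_normal F P
  have := finite_mulAut (P := P) hn.1
  set A := F.autGroup P with hA
  let π := QuotientGroup.mk' ((Inn P).subgroupOf A)
  have hπ : Function.Surjective π := QuotientGroup.mk'_surjective _
  obtain ⟨-, R, hR⟩ := hfa
  let T := R.mapSurjective hπ
  have hT : ∀ {y}, y ∈ (T : Subgroup (A ⧸ (Inn P).subgroupOf A)) ↔
      ∃ a : A, (a : MulAut P) ∈ autInducedBy S P ∧ π a = y := by
    intro y
    rw [Sylow.coe_mapSurjective, hR]
    rfl
  have hπ1 : ∀ a : A, π a = 1 → (a : MulAut P) ∈ Inn P := fun a h =>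
    (QuotientGroup.eq_one_iff (N := (Inn P).subgroupOf A) a).mp h
  have hπeq : ∀ a b : A, π a = π b → ((a⁻¹ * b : A) : MulAut P) ∈ Inn P := fun a b h =>
    hπ1 _ (by rw [map_mul, map_inv, h, inv_mul_cancel])
  have hext : ∀ x : A, ∀ a ∈ (T : Subgroup (A ⧸ (Inn P).subgroupOf A)), a ≠ 1 →
      π x * a * (π x)⁻¹ ∈ (T : Subgroup (A ⧸ (Inn P).subgroupOf A)) →
      (x : MulAut P) ∈ extSet F P := by
    intro x a ha ha1 hxa
    obtain ⟨γ, hγ, rfl⟩ := hT.mp ha
    rw [← map_inv, ← map_mul, ← map_mul] at hxa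
    obtain ⟨δ, hδ, hδe⟩ := hT.mp hxa
    have hδ' : ((x * γ * x⁻¹ : A) : MulAut P) ∈ autInducedBy S P := by
      have h1 : ((δ⁻¹ * (x * γ * x⁻¹) : A) : MulAut P) ∈ Inn P := hπeq _ _ hδe
      have := Subgroup.mul_mem _ hδ (inn_le_autInducedBy hn.1 h1)
      simpa [mul_assoc] using this
    obtain ⟨g, hg, hgn, hge⟩ := mem_autInducedBy.mp hγ
    obtain ⟨h, hh, -, hhe⟩ := mem_autInducedBy.mp hδ'
    refine mem_extSet_of_conj hr x.2 (mem_normalizerIn.mpr ⟨hg, hgn⟩) (fun hgP => ha1 ?_) hh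
      ((mul_conj_aut hge hhe).mp rfl)
    exact (QuotientGroup.eq_one_iff γ).mpr (mem_inn.mpr ⟨g, hgP, hge⟩)
  have hcentric := centric_of_fullyCentralized (isFullyCentralized_of_normalized hS hF hn) hc
  by_cases he : F.IsEssential p P
  · right
    refine ⟨he, hnI, ?_⟩
    obtain ⟨-, -, hn', E, hpX, hE, P₀, hP₀⟩ := id he
    refine ⟨hpX, fun htop => hE (top_le_iff.mp (htop.ge.trans ?_)), T, ?_⟩
    · obtain ⟨b, hb⟩ := MulAction.exists_smul_eq (A ⧸ (Inn P).subgroupOf A) P₀ T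
      obtain ⟨β, rfl⟩ := hπ b
      have hmem : ∀ α : A, (α : MulAut P) ∈ extGroup F P →
          (π β)⁻¹ * π α * π β ∈ E := by
        intro α hα
        let B := E.comap ((MulAut.conj (π β)⁻¹).toMonoidHom.comp π)
        have hle : extGroup F P ≤ B.map A.subtype := by
          refine (Subgroup.closure_le _).mpr fun γ hγ => ?_
          obtain ⟨g, hg, hgP, h, hh, e⟩ := exists_conj_of_extSet hS hγ
          have hγA : γ ∈ A := extGroup_le (Subgroup.subset_closure hγ)
          obtain ⟨cg, hcg, hcge⟩ := exists_autInducedBy (mem_normalizerIn.mp hg).1 (mem_normalizerIn.mp hg).2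
          obtain ⟨ch, hch, hche⟩ := exists_autInducedBy (mem_normalizerIn.mp hh).1 (mem_normalizerIn.mp hh).2
          have hc1 : π ⟨cg, autInducedBy_le F hn.1 hcg⟩ ≠ 1 := fun h0 =>
            hgP (mem_of_cj_inn hn.1 hc (mem_normalizerIn.mp hg).1
              (hπ1 _ h0) hcge)
          have hxa : π ⟨γ, hγA⟩ * π ⟨cg, autInducedBy_le F hn.1 hcg⟩ * (π ⟨γ, hγA⟩)⁻¹ =
              π ⟨ch, autInducedBy_le F hn.1 hch⟩ := by
            rw [← map_inv, ← map_mul, ← map_mul]
            exact congrArg π (Subtype.ext ((mul_conj_aut hcge hche).mpr e))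
          refine ⟨⟨γ, hγA⟩, ?_, rfl⟩
          have hin : ∀ y ∈ (T : Subgroup (A ⧸ (Inn P).subgroupOf A)),
              (π β)⁻¹ * y * π β ∈ (P₀ : Subgroup (A ⧸ (Inn P).subgroupOf A)) := by
            intro y hy
            rw [← hb, Sylow.coe_subgroup_smul, Subgroup.mem_pointwise_smul_iff_inv_smul_mem] at hy
            simpa [← map_inv, MulAut.conj_apply, mul_assoc] using hy
          show (MulAut.conj (π β)⁻¹) (π ⟨γ, hγA⟩) ∈ E
          simp only [MulAut.conj_apply, inv_inv]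
          refine mem_of_conj_le P₀ hP₀ (a := (π β)⁻¹ * π ⟨cg, autInducedBy_le F hn.1 hcg⟩ * π β)
            (hin _ (hT.mpr ⟨⟨cg, autInducedBy_le F hn.1 hcg⟩, hcg, rfl⟩)) (fun h0 => hc1 ?_) ?_
          · simpa [mul_assoc] using congrArg (fun y => π β * y * (π β)⁻¹) h0
          · have := hin _ (hT.mpr ⟨⟨ch, autInducedBy_le F hn.1 hch⟩, hch, rfl⟩)
            rw [← hxa] at this
            simpa [mul_assoc] using this
        obtain ⟨α', hα', e⟩ := hle hα
        cases Subtype.ext e (a1 := α') (a2 := α)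
        simpa [B] using hα'
      intro y _
      obtain ⟨α, hα, e⟩ := htop.ge (Subgroup.mem_top (π β * y * (π β)⁻¹))
      have := hmem α hα
      rw [show π α = π β * y * (π β)⁻¹ from e] at this
      simpa [mul_assoc] using this
    · refine iSup_le ?_
      rintro ⟨Q, hQ, hQr⟩ x hx
      obtain ⟨α, rfl⟩ := hπ x
      refine ⟨α, Subgroup.subset_closure ?_, rfl⟩
      have hQ1 : Q ≠ ⊥ := by
        rintro rfl
        refine hQr fun A' _ _ => ?_
        simp [Subsingleton.elim A' ⊥]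
      obtain ⟨⟨a, ha⟩, ha1⟩ := (Q.ne_bot_iff_exists_ne_one).mp hQ1
      refine hext α a (hQ ha) (fun h0 => ha1 (Subtype.ext h0)) (hQ ?_)
      exact (Subgroup.mem_normalizer_iff.mp hx a).mp ha
  · left
    refine ⟨he, le_antisymm extGroup_le fun α hα => ?_⟩
    by_contra hαn
    refine he ⟨hcentric, hn, hnI, ((extGroup F P).subgroupOf A).map π, ?_, fun htop => hαn ?_, T, ?_⟩
    · obtain ⟨g, hg, hgP⟩ := SetLike.exists_of_lt (normalizerIn_gt hS hPS)
      obtain ⟨γ, hγ, hγe⟩ := exists_autInducedBy (mem_normalizerIn.mp hg).1 (mem_normalizerIn.mp hg).2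
      have h1 : π ⟨γ, autInducedBy_le F hn.1 hγ⟩ ≠ 1 := fun h0 =>
        hgP (mem_of_cj_inn hn.1 hc (mem_normalizerIn.mp hg).1 (hπ1 _ h0) hγe)
      obtain ⟨k, hk⟩ := IsPGroup.iff_card.mp
        (T.2 : IsPGroup p (T : Subgroup (A ⧸ (Inn P).subgroupOf A)))
      have hk0 : k ≠ 0 := fun e0 => h1 (Subgroup.mem_bot.mp
        ((Subgroup.card_eq_one.mp (by rw [hk, e0, pow_zero])).le (hT.mpr ⟨⟨γ, autInducedBy_le F hn.1 hγ⟩, hγ, rfl⟩)))
      exact ((dvd_pow_self p hk0).trans hk.symm.dvd).trans (Subgroup.card_subgroup_dvd_card _)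
    · obtain ⟨α', hα', e⟩ := htop.ge (Subgroup.mem_top (π ⟨α, hα⟩))
      have h1 : ((α'⁻¹ * ⟨α, hα⟩ : A) : MulAut P) ∈ Inn P := hπeq _ _ e
      have hinn : Inn P ≤ extGroup F P := by
        intro φ hφ
        obtain ⟨y, hy, hye⟩ := mem_inn.mp hφ
        exact Subgroup.subset_closure
          ⟨S, cj y, hPS, isMor_cj F le_rfl (hn.1 hy), fun x hx => (hye x hx).symm⟩
      have := Subgroup.mul_mem _ (show (α' : MulAut P) ∈ extGroup F P from hα') (hinn h1)
      simpa using this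
    · refine iSup_le ?_
      rintro ⟨Q, hQ, hQr⟩ x hx
      obtain ⟨β, rfl⟩ := hπ x
      refine ⟨β, Subgroup.subset_closure ?_, rfl⟩
      have hQ1 : Q ≠ ⊥ := by
        rintro rfl
        refine hQr fun A' _ _ => ?_
        simp [Subsingleton.elim A' ⊥]
      obtain ⟨⟨a, ha⟩, ha1⟩ := (Q.ne_bot_iff_exists_ne_one).mp hQ1
      refine hext β a (hQ ha) (fun h0 => ha1 (Subtype.ext h0)) (hQ ?_)
      exact (Subgroup.mem_normalizer_iff.mp hx a).mp ha

omit hp in
theorem exists_autGroup_self {f : Ω → Ω} (hf : IsMor F S f) :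
    ∃ α ∈ F.autGroup S, ∀ x ∈ S, autFun α x = f x :=
  exists_aut hf (hf.img_eq_self fun _ hx => hf.mem hx)

omit hp in
theorem card_sub_lt (hQ : Q ≤ S) (h : P < Q) :
    Nat.card S - Nat.card Q < Nat.card S - Nat.card P := by
  have h1 := card_lt_of_lt hQ h
  have h2 : Nat.card Q ≤ Nat.card S := Subgroup.card_le_of_le hQ
  omega

/-- Alperin's fusion theorem. -/
theorem alperin (hS : IsPGroup p S) (hF : F.IsSaturated p) {E : FusionSystem S}
    (hE : ∀ P : Subgroup Ω, (P = S ∨ F.IsEssential p P) → F.autGroup P ≤ E.autGroup P) :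
    F ≤ E := by
  suffices h : ∀ d (P : Subgroup Ω) f, Nat.card S - Nat.card P = d → IsMor F P f → IsMor E P f from
    le_iff_isMor.mpr fun P f hf => h _ P f rfl hf
  intro d
  induction d using Nat.strong_induction_on with
  | _ d ih =>
    intro P f hd hf
    subst hd
    rcases eq_or_lt_of_le hf.le with rfl | hPS
    · obtain ⟨α, hα, e⟩ := exists_autGroup_self hf
      exact (isMor_autFun le_rfl (hE _ (Or.inl rfl) hα)).congr e
    obtain ⟨Q, hQ, hQn⟩ := exists_fullyNormalized F hf.le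
    have hQc := isConj_card hQ
    have hQS : Q < S := lt_of_le_of_ne hQn.1 fun e => by
      have := card_lt_of_lt le_rfl hPS
      rw [e] at hQc
      omega
    have hAut : F.autGroup Q ≤ E.autGroup Q := by
      rcases extGroup_dichotomy hS hF hQS hQn with ⟨-, h⟩ | ⟨h, -⟩
      · rw [← h]
        refine (Subgroup.closure_le _).mpr ?_
        rintro α ⟨R, g, hQR, hg, e⟩
        have hgE := ih _ (hQc ▸ card_sub_lt hg.le hQR) R g rfl hg
        exact (autGroup_eq_set hQn.1 α).mpr ((hgE.restrict hQR.le).congr e)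
      · exact hE Q (Or.inr h)
    have key : ∀ R, F.IsConj R Q → ∃ θ, IsMor F R θ ∧ IsMor E R θ ∧ img R θ = Q := by
      intro R hR
      obtain ⟨θ, hθ, hθi, -⟩ := exists_map_fullyNormalized hS hF hQn hR
      have hRS : R < S := lt_of_le_of_ne (isConj_le hR).1 fun e => by
        have h1 := card_lt_of_lt le_rfl hQS
        have h2 := isConj_card hR
        rw [e] at h2
        omega
      have hcard : Nat.card R = Nat.card P := by rw [← isConj_card hR, hQc]
      have hθE := ih _ (hcard ▸ card_sub_lt normalizerIn_le (normalizerIn_gt hS hRS)) _ θ rfl hθ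
      exact ⟨θ, hθ.restrict (le_normalizerIn hRS.le), hθE.restrict (le_normalizerIn hRS.le), hθi⟩
    obtain ⟨θ, hθF, hθE, hθi⟩ := key P hQ
    obtain ⟨θ', hθF', hθE', hθi'⟩ := key (img P f) (isConj_trans (isConj_symm (isConj_img hf)) hQ)
    obtain ⟨ψ, hψ, hψl, -, hψi⟩ := hθF.inverse
    rw [hθi] at hψ hψi
    have hψP : ∀ x ∈ Q, ψ x ∈ P := fun x hx => hψi ▸ mem_img_of_mem ψ hx
    have hcomp : IsMor F Q (θ' ∘ f ∘ ψ) :=
      (hψ.comp hf hψP).comp hθF' fun x hx => mem_img_of_mem f (hψP x hx)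
    have himg : img Q (θ' ∘ f ∘ ψ) = Q := hcomp.img_eq_self fun x hx =>
      hθi' ▸ mem_img_of_mem θ' (mem_img_of_mem f (hψP x hx))
    obtain ⟨α, hα, hαe⟩ := exists_aut hcomp himg
    obtain ⟨χ, hχ, hχl, -, -⟩ := hθE'.inverse
    rw [hθi'] at hχ
    refine ((hθE.comp (isMor_autFun hQn.1 (hAut hα)) fun x hx => hθi ▸ mem_img_of_mem θ hx).comp hχ
      fun x hx => autFun_mem α (hθi ▸ mem_img_of_mem θ hx)).congr fun x hx => ?_
    simp only [Function.comp_apply]
    rw [hαe _ (hθi ▸ mem_img_of_mem θ hx), Function.comp_apply, Function.comp_apply, hψl x hx]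
    exact hχl _ (mem_img_of_mem f hx)

end CfsgLib.Fusion
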