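import Mathlib
import Cfsg.Agent.Lib.Fusion.Alperin

/-! Subgroups normal in a fusion system. -/
set_option autoImplicit false

namespace CfsgLib.Fusion

open Cfsg Cfsg.FusionSystem

variable {Ω : Type*} [Group Ω] {S : Subgroup Ω} {F : FusionSystem S} {P Q : Subgroup Ω}

/-- The maps of `F` extending to maps preserving `Q` form a system, for `Q` normal in `S`. -/
theorem exists_extending_system (F : FusionSystem S) (hQ : Q ≤ S)
    (hn : S ≤ Subgroup.normalizer (Q : Set Ω)) :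
    ∃ E : FusionSystem S, ∀ P f, IsMor E P f ↔
      IsMor F P f ∧ ∃ g, IsMor F (P ⊔ Q) g ∧ (∀ x ∈ P, g x = f x) ∧ img Q g = Q := by
  let M : Subgroup Ω → (Ω → Ω) → Prop := fun P f => IsMor F P f ∧
    ∃ g, IsMor F (P ⊔ Q) g ∧ (∀ x ∈ P, g x = f x) ∧ img Q g = Q
  refine ⟨ofPred S M (fun P f h => ⟨h.1.le, fun x hx => h.1.mem hx⟩)
    (fun P f h x hx y hy e => h.1.inj hx hy e) ?_ ?_ ?_ ?_,
    fun P f => ⟨fun h => ?_, fun h => ?_⟩⟩
  · rintro P f f' ⟨hf, g, hg, hgf, hgQ⟩ e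
    exact ⟨hf.congr e, g, hg, fun x hx => (hgf x hx).trans (e x hx), hgQ⟩
  · intro P a hP ha
    exact ⟨isMor_cj F hP ha, cj a, isMor_cj F (sup_le hP hQ) ha, fun _ _ => rfl,
      img_cj_of_normalizer (hn ha)⟩
  · rintro P R f k ⟨hf, g, hg, hgf, hgQ⟩ ⟨hk, g', hg', hgk, hgQ'⟩ hfR
    refine ⟨hf.comp hk hfR, g' ∘ g, hg.comp hg' ?_, fun x hx => ?_, ?_⟩
    · intro x hx
      have h1 := mem_img_of_mem g hx
      rw [hg.img_sup, hgQ, img_congr hgf] at h1
      exact sup_le_sup_right (img_le hfR) Q h1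
    · show g' (g x) = k (f x)
      rw [hgf x hx, hgk _ (hfR x hx)]
    · rw [← (hg.restrict le_sup_right).img_comp, hgQ, hgQ']
  · rintro P f ⟨hf, g, hg, hgf, hgQ⟩ -
    obtain ⟨g', hg', hl, -, -⟩ := hg.inverse
    have hle : img P f ≤ img (P ⊔ Q) g :=
      (img_congr (fun x hx => (hgf x hx).symm)).le.trans (img_mono g le_sup_left)
    have hl' : ∀ x ∈ P, g' (f x) = x := fun x hx => by
      rw [← hgf x hx]; exact hl x (Subgroup.mem_sup_left hx)
    have hQg : Q ≤ img (P ⊔ Q) g := hgQ.ge.trans (img_mono g le_sup_right)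
    refine ⟨g', ⟨hg'.restrict hle, g', hg'.restrict (sup_le hle hQg), fun _ _ => rfl, ?_⟩, hl'⟩
    conv_lhs => rw [← hgQ]
    rw [(hg.restrict le_sup_right).img_comp]
    exact (img_congr (g := id) fun x hx => hl x (Subgroup.mem_sup_right hx)).trans (img_id Q)
  · obtain ⟨φ, hφ, e⟩ := id h
    have hφ' : M P (toFun φ) := (Set.ext_iff.mp (ofPred_hom (P := P)) φ).mp hφ
    obtain ⟨h1, g, hg, hgf, hgQ⟩ := hφ'
    have e' : ∀ x ∈ P, toFun φ x = f x := fun x hx => (toFun_of_mem φ hx).trans (e _)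
    exact ⟨h1.congr e', g, hg, fun x hx => (hgf x hx).trans (e' x hx), hgQ⟩
  · exact (isMor_ofPred (fun h' x hx y hy => h'.1.map_mul hx hy)).mpr h

theorem isNormal_stronglyClosed (h : F.IsNormal Q) : F.StronglyClosed Q := by
  obtain ⟨hQ, hext⟩ := isNormal_iff.mp h
  refine stronglyClosed_iff.mpr ⟨hQ, fun P f hf x hxP hxQ => ?_⟩
  obtain ⟨g, -, hgf, hgQ⟩ := hext P f hf
  exact hgf x hxP ▸ hgQ ▸ mem_img_of_mem g hxQ

theorem stronglyClosed_le_normalizer (h : F.StronglyClosed Q) :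
    S ≤ Subgroup.normalizer (Q : Set Ω) := by
  obtain ⟨hQ, hcl⟩ := stronglyClosed_iff.mp h
  intro s hs
  rw [Subgroup.mem_normalizer_iff]
  refine fun x => ⟨fun hx => hcl S _ (isMor_cj F le_rfl hs) x (hQ hx) hx, fun hx => ?_⟩
  have := hcl S _ (isMor_cj F le_rfl (S.inv_mem hs)) _ (hQ hx) hx
  simpa [cj, mul_assoc] using this

variable [Finite S] {p : ℕ} [hp : Fact p.Prime]

omit hp in
theorem img_inf_of_stronglyClosed (h : F.StronglyClosed Q) {f : Ω → Ω} (hf : IsMor F P f)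
    (hP : img P f = P) : img (P ⊓ Q) f = P ⊓ Q :=
  (hf.restrict inf_le_left).img_eq_self fun x hx =>
    ⟨hP ▸ mem_img_of_mem f hx.1, (stronglyClosed_iff.mp h).2 P f hf x hx.1 hx.2⟩

theorem radical_self (hS : IsPGroup p S) (hF : F.IsSaturated p) : F.IsRadical p S := by
  refine ⟨le_rfl, le_antisymm ?_ (inn_le_pCoreAut F hS le_rfl)⟩
  have hfa := (isFullyAutomized_iff.mp
    (isFullyAutomized_of_normalized hS hF (isFullyNormalized_self F)).1).2
  have : Finite (MulAut S) := MulEquiv.finite_left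
  rw [inn_eq_autInducedBy]
  refine hfa.le_of_normal ?_ (Subgroup.map_subtype_le _) ?_
  · exact (Sylow.sSup_of_normal _ (fun N hN => hN.2) fun N hN => hN.1).map _
  · rintro b hb _ ⟨c, hc, rfl⟩
    exact ⟨⟨b, hb⟩ * c * ⟨b, hb⟩⁻¹,
      (Subgroup.sSup_normal _ fun N hN => hN.1).conj_mem c hc ⟨b, hb⟩, rfl⟩

omit hp [Finite S] in
theorem centric_self (F : FusionSystem S) [Finite S] : F.IsCentric S := by
  refine ⟨le_rfl, fun R hR => ?_⟩
  rw [eq_of_le_of_card le_rfl (isConj_le hR).2 (isConj_card hR).ge]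
  exact centralizerIn_le

/-- Criterion: `Q` lies in `S` and every essential subgroup and is invariant there. -/
theorem isNormal_of_invariant (hS : IsPGroup p S) (hF : F.IsSaturated p)
    (h : ∀ P : Subgroup Ω, (P = S ∨ F.IsEssential p P) →
      Q ≤ P ∧ ∀ α ∈ F.autGroup P, ∀ x ∈ Q, autFun α x ∈ Q) : F.IsNormal Q := by
  obtain ⟨hQ, hinv⟩ := h S (Or.inl rfl)
  have hn : S ≤ Subgroup.normalizer (Q : Set Ω) := by
    have key : ∀ s ∈ S, ∀ x ∈ Q, cj s x ∈ Q := fun s hs x hx => by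
      obtain ⟨α, hα, e⟩ := exists_autInducedBy (P := S) hs (Subgroup.le_normalizer hs)
      exact e x (hQ hx) ▸ hinv α (autInducedBy_le F le_rfl hα) x hx
    intro s hs
    rw [Subgroup.mem_normalizer_iff]
    exact fun x => ⟨key s hs x, fun hx => by simpa [cj, mul_assoc] using key _ (S.inv_mem hs) _ hx⟩
  obtain ⟨E, hE⟩ := exists_extending_system F hQ hn
  have hle : F ≤ E := by
    refine alperin hS hF fun P hP => ?_
    obtain ⟨hQP, hPinv⟩ := h P hP
    have hPS : P ≤ S := by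
      rcases hP with rfl | hP
      · exact le_rfl
      · exact hP.1.1
    intro α hα
    have hm := isMor_autFun hPS hα
    refine (autGroup_eq_set hPS α).mpr ((hE P _).mpr ⟨hm, autFun α, ?_, fun _ _ => rfl, ?_⟩)
    · rwa [sup_eq_left.mpr hQP]
    · exact (hm.restrict hQP).img_eq_self (hPinv α hα)
  exact isNormal_iff.mpr ⟨hQ, fun P f hf => ((hE P f).mp (le_iff_isMor.mp hle P f hf)).2⟩

theorem le_of_normal_of_radical (hS : IsPGroup p S) (hQ : F.IsNormal Q) (hc : F.IsCentric P)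
    (hr : F.IsRadical p P) : Q ≤ P := by
  obtain ⟨hQS, hext⟩ := isNormal_iff.mp hQ
  have hP : P ≤ S := hc.1
  have hRS : P ⊔ Q ≤ S := sup_le hP hQS
  have hK : autInducedBy (P ⊔ Q) P ≤ autInducedBy S P := by
    intro α hα
    obtain ⟨g, hg, hn, e⟩ := mem_autInducedBy.mp hα
    exact mem_autInducedBy.mpr ⟨g, hRS hg, hn, e⟩
  have hle : autInducedBy (P ⊔ Q) P ≤ Inn P := by
    refine le_inn_of_radical hr (hK.trans (autInducedBy_le F hP))
      (isPGroup_of_le hK (isPGroup_autInducedBy hS)) fun a ha k hk => ?_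
    obtain ⟨g, hg, hn, e⟩ := mem_autInducedBy.mp hk
    obtain ⟨ψ, hψ, hψe, hψQ⟩ := hext P _ (isMor_autFun hP ha)
    have hψP : img P ψ = P := (img_congr hψe).trans (img_autFun a)
    have h2 : ψ g ∈ P ⊔ Q := by
      have := mem_img_of_mem ψ hg
      rwa [hψ.img_sup, hψP, hψQ] at this
    have h3 : ψ g ∈ Subgroup.normalizer (P : Set Ω) := by
      have hm : (P ⊔ Q) ⊓ Subgroup.normalizer (P : Set Ω) ≤ P ⊔ Q := inf_le_left
      have := mapsTo_normalizerIn (Q := P) (hψ.restrict hm)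
        (le_inf le_sup_left Subgroup.le_normalizer)
        (fun x hx => mem_normalizerIn.mpr ⟨hRS hx.1, hx.2⟩) g ⟨hg, hn⟩
      rw [hψP] at this
      exact (mem_normalizerIn.mp this).2
    obtain ⟨δ, hδ, hδe⟩ := exists_autInducedBy h2 h3
    have := (mul_conj_aut (α := a) e hδe).mpr fun x hx => by
      have hm : cj g x ∈ P := (Subgroup.mem_normalizer_iff.mp hn x).mp hx
      rw [← hψe _ hm, ← hψe x hx]
      exact hψ.map_conj hg (Subgroup.mem_sup_left hx)
    exact this ▸ hδ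
  by_contra hQP
  have hlt : P < P ⊔ Q := left_lt_sup.mpr hQP
  have : Finite ↥(P ⊔ Q) := finite_of_le hRS
  obtain ⟨g, hg, hgP⟩ := SetLike.exists_of_lt (lt_inf_normalizer (isPGroup_of_le hRS hS) hlt)
  obtain ⟨α, hα, e⟩ := exists_autInducedBy (Subgroup.mem_inf.mp hg).1 (Subgroup.mem_inf.mp hg).2
  exact hgP (mem_of_cj_inn hP (centric_centralizer_le hc) (hRS (Subgroup.mem_inf.mp hg).1)
    (hle hα) e)

theorem isNormal_of_stronglyClosed (hS : IsPGroup p S) (hF : F.IsSaturated p)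
    (hQ : F.StronglyClosed Q)
    (h : ∀ P : Subgroup Ω, F.IsCentric P → F.IsRadical p P → Q ≤ P) : F.IsNormal Q := by
  refine isNormal_of_invariant hS hF fun P hP => ?_
  obtain ⟨hc, hr⟩ : F.IsCentric P ∧ F.IsRadical p P := by
    rcases hP with rfl | hP
    · exact ⟨centric_self F, radical_self hS hF⟩
    · exact ⟨hP.1, essential_radical hS hP⟩
  have hle := h P hc hr
  exact ⟨hle, fun α hα x hx =>
    (stronglyClosed_iff.mp hQ).2 P _ (isMor_autFun hc.1 hα) x (hle hx) hx⟩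

/-! ### Automorphisms stabilizing a series -/

omit [Finite S] in
theorem isPGroup_stabilizing (hS : IsPGroup p S) (hP : P ≤ S) [Finite S]
    {K : Subgroup (MulAut P)} (n : ℕ) (W : ℕ → Set Ω) (h0 : W 0 ⊆ {1}) (htop : ∀ x ∈ P, x ∈ W n)
    (h : ∀ α ∈ K, ∀ i < n, ∀ x ∈ P, x ∈ W (i + 1) → x⁻¹ * autFun α x ∈ W i) :
    IsPGroup p K := by
  have := finite_mulAut (P := P) hP
  have key : ∀ β ∈ K, (orderOf β).Coprime p → β = 1 := by
    intro β hβ hcop
    have hfix : ∀ i ≤ n, ∀ x ∈ P, x ∈ W i → autFun β x = x := by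
      intro i
      induction i with
      | zero =>
        intro _ x hx hx0
        rw [show x = 1 from h0 hx0]
        exact (isMor_autFun_mul β).symm ▸ rfl
      | succ i ih =>
        intro hi x hx hxW
        have hy : x⁻¹ * autFun β x ∈ P := P.mul_mem (P.inv_mem hx) (autFun_mem β hx)
        have hyf := ih (Nat.le_of_succ_le hi) _ hy (h β hβ i hi x hx hxW)
        have hpow : ∀ m : ℕ, autFun (β ^ m) x = x * (x⁻¹ * autFun β x) ^ m := by
          intro m
          induction m with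
          | zero => rw [pow_zero, autFun_one hx, pow_zero, mul_one]
          | succ m ihm =>
            have hyp : ∀ k : ℕ, autFun β ((x⁻¹ * autFun β x) ^ k) = (x⁻¹ * autFun β x) ^ k := by
              intro k
              induction k with
              | zero => rw [pow_zero]; exact (isMor_autFun_mul β).symm ▸ rfl
              | succ k ihk => rw [pow_succ, autFun_map_mul β (P.pow_mem hy k) hy, ihk, hyf]
            rw [pow_succ' β, autFun_mul _ _ hx, ihm, autFun_map_mul β hx (P.pow_mem hy m), hyp,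
              pow_succ' (x⁻¹ * autFun β x), ← mul_assoc, ← mul_assoc, mul_inv_cancel, one_mul]
        have h1 := hpow (orderOf β)
        rw [pow_orderOf_eq_one, autFun_one hx] at h1
        have h2 : (x⁻¹ * autFun β x) ^ orderOf β = 1 := (left_eq_mul.mp h1)
        obtain ⟨k, hk⟩ := hS ⟨_, hP hy⟩
        have h3 : (x⁻¹ * autFun β x) ^ p ^ k = 1 := congrArg Subtype.val hk
        have h4 : x⁻¹ * autFun β x = 1 := by
          rw [← orderOf_eq_one_iff]
          exact Nat.eq_one_of_dvd_coprimes (hcop.pow_right k) (orderOf_dvd_of_pow_eq_one h2)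
            (orderOf_dvd_of_pow_eq_one h3)
        exact (inv_mul_eq_one.mp h4).symm
    exact autFun_inj fun x hx => (hfix n le_rfl x hx (htop x hx)).trans (autFun_one hx).symm
  rintro ⟨α, hα⟩
  obtain ⟨a, c, hc, hn⟩ := Nat.exists_eq_pow_mul_and_not_dvd (orderOf_pos α).ne' p hp.1.ne_one
  refine ⟨a, Subtype.ext (key _ (K.pow_mem hα _) ?_)⟩
  show (orderOf (α ^ p ^ a)).Coprime p
  rw [orderOf_pow_of_dvd (pow_ne_zero a hp.1.ne_zero) (hn ▸ dvd_mul_right _ _), hn,
    Nat.mul_div_cancel_left _ (pow_pos hp.1.pos a)]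
  exact (Nat.Coprime.symm ((hp.1.coprime_iff_not_dvd).mpr hc))
where
  isMor_autFun_mul (β : MulAut P) : autFun β 1 = 1 := by
    rw [autFun_of_mem β P.one_mem]
    exact congrArg Subtype.val (_root_.map_one β)

omit hp [Finite S] in
theorem autFun_inv_map (α : MulAut P) {x : Ω} (hx : x ∈ P) : autFun α x⁻¹ = (autFun α x)⁻¹ := by
  rw [autFun_of_mem α hx, autFun_of_mem α (P.inv_mem hx)]
  exact congrArg Subtype.val (_root_.map_inv α ⟨x, hx⟩)

/-- The automorphisms in `A` stabilizing an `A`-invariant series. -/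
def seriesStab (A : Subgroup (MulAut P)) (n : ℕ) (W : ℕ → Subgroup Ω)
    (hW : ∀ α ∈ A, ∀ i, ∀ x ∈ P, x ∈ W i → autFun α x ∈ W i) : Subgroup (MulAut P) where
  carrier := {α | α ∈ A ∧ ∀ i < n, ∀ x ∈ P, x ∈ W (i + 1) → x⁻¹ * autFun α x ∈ W i}
  one_mem' := ⟨A.one_mem, fun i _ x hx _ => by rw [autFun_one hx]; simp⟩
  mul_mem' := by
    rintro α β ⟨hα, hαs⟩ ⟨hβ, hβs⟩
    refine ⟨A.mul_mem hα hβ, fun i hi x hx hxW => ?_⟩
    have := (W i).mul_mem (hβs i hi x hx hxW)
      (hαs i hi _ (autFun_mem β hx) (hW β hβ _ x hx hxW))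
    rw [autFun_mul _ _ hx]
    simpa [mul_assoc] using this
  inv_mem' := by
    rintro α ⟨hα, hαs⟩
    refine ⟨A.inv_mem hα, fun i hi x hx hxW => ?_⟩
    have := (W i).inv_mem (hαs i hi _ (autFun_mem α⁻¹ hx) (hW _ (A.inv_mem hα) _ x hx hxW))
    rw [autFun_inv_right α hx] at this
    simpa using this

omit hp [Finite S] in
theorem seriesStab_conj {A : Subgroup (MulAut P)} {n : ℕ} {W : ℕ → Subgroup Ω}
    {hW : ∀ α ∈ A, ∀ i, ∀ x ∈ P, x ∈ W i → autFun α x ∈ W i}
    {a k : MulAut P} (ha : a ∈ A) (hk : k ∈ seriesStab A n W hW) :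
    a * k * a⁻¹ ∈ seriesStab A n W hW := by
  obtain ⟨hkA, hks⟩ := hk
  refine ⟨A.mul_mem (A.mul_mem ha hkA) (A.inv_mem ha), fun i hi x hx hxW => ?_⟩
  have hy := autFun_mem a⁻¹ hx
  have h1 := hks i hi _ hy (hW _ (A.inv_mem ha) _ x hx hxW)
  have h2 := hW a ha i _ (P.mul_mem (P.inv_mem hy) (autFun_mem k hy)) h1
  rw [autFun_map_mul a (P.inv_mem hy) (autFun_mem k hy), autFun_inv_map a hy,
    autFun_inv_right a hx] at h2
  rwa [autFun_mul _ _ hx, autFun_mul _ _ hy]

/-- A radical centric subgroup absorbs elements stabilizing an invariant series through it. -/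
theorem mem_of_stabilizing (hS : IsPGroup p S) (hc : F.IsCentric P) (hr : F.IsRadical p P)
    (n : ℕ) (W : ℕ → Subgroup Ω)
    (hW : ∀ α ∈ F.autGroup P, ∀ i, ∀ x ∈ P, x ∈ W i → autFun α x ∈ W i)
    (h0 : P ⊓ W 0 = ⊥) (htop : P ≤ W n) {g : Ω} (hg : g ∈ normalizerIn S P)
    (h : ∀ i < n, ∀ x ∈ P, x ∈ W (i + 1) → x⁻¹ * cj g x ∈ W i) : g ∈ P := by
  have hP := hc.1
  let K := seriesStab (F.autGroup P) n W hW
  have hKp : IsPGroup p K := isPGroup_stabilizing hS hP n (fun i => ((P ⊓ W i : Subgroup Ω) : Set Ω))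
    (by rw [h0]; simp) (fun x hx => ⟨hx, htop hx⟩)
    fun α hα i hi x hx hxW => ⟨P.mul_mem (P.inv_mem hx) (autFun_mem α hx), hα.2 i hi x hx hxW.2⟩
  have hKI : K ≤ Inn P :=
    le_inn_of_radical hr (fun α hα => hα.1) hKp fun a ha k hk => seriesStab_conj ha hk
  obtain ⟨α, hα, e⟩ := exists_autInducedBy (mem_normalizerIn.mp hg).1 (mem_normalizerIn.mp hg).2
  have hαK : α ∈ K := ⟨autInducedBy_le F hP hα, fun i hi x hx hxW => e x hx ▸ h i hi x hx hxW⟩
  exact mem_of_cj_inn hP (centric_centralizer_le hc) (mem_normalizerIn.mp hg).1 (hKI hαK) e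

/-- The chain criterion: a strongly closed chain with `[Q, Qᵢ₊₁] ≤ Qᵢ` makes `Q` normal. -/
theorem isNormal_of_chain (hS : IsPGroup p S) (hF : F.IsSaturated p) (n : ℕ)
    (Qs : ℕ → Subgroup Ω) (h0 : Qs 0 = ⊥) (hn : Qs n = Q)
    (hsc : ∀ i ≤ n, F.StronglyClosed (Qs i))
    (hcomm : ∀ i < n, ⁅Q, Qs (i + 1)⁆ ≤ Qs i) : F.IsNormal Q := by
  have hQc : F.StronglyClosed Q := hn ▸ hsc n le_rfl
  refine isNormal_of_stronglyClosed hS hF hQc fun P hc hr => ?_
  have hP := hc.1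
  by_contra hQP
  have hlt : P < P ⊔ Q := left_lt_sup.mpr hQP
  have hRS : P ⊔ Q ≤ S := sup_le hP hQc.1
  have : Finite ↥(P ⊔ Q) := finite_of_le hRS
  obtain ⟨g, hg, hgP⟩ := SetLike.exists_of_lt (lt_inf_normalizer (isPGroup_of_le hRS hS) hlt)
  obtain ⟨hgR, hgN⟩ := Subgroup.mem_inf.mp hg
  rw [← SetLike.mem_coe, Subgroup.coe_mul_of_left_le_normalizer_right _ _
    (hP.trans (stronglyClosed_le_normalizer hQc))] at hgR
  obtain ⟨a, ha, b, hb, rfl⟩ := hgR
  have hbN : b ∈ Subgroup.normalizer (P : Set Ω) :=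
    (Subgroup.mul_mem_cancel_left _ (Subgroup.le_normalizer ha)).mp hgN
  refine hgP (P.mul_mem ha ?_)
  let W : ℕ → Subgroup Ω := fun i => if i ≤ n then P ⊓ Qs i else P
  have hW : ∀ α ∈ F.autGroup P, ∀ i, ∀ x ∈ P, x ∈ W i → autFun α x ∈ W i := by
    intro α hα i x hx hxW
    by_cases hi : i ≤ n
    · simp only [W, hi, if_true] at hxW ⊢
      exact ⟨autFun_mem α hx, (stronglyClosed_iff.mp (hsc i hi)).2 P _ (isMor_autFun hP hα) x hx hxW.2⟩
    · simp only [W, hi, if_false] at hxW ⊢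
      exact autFun_mem α hx
  refine mem_of_stabilizing hS hc hr (n + 1) W hW ?_ ?_
    (mem_normalizerIn.mpr ⟨hQc.1 hb, hbN⟩) fun i hi x hx hxW => ?_
  · simp [W, h0]
  · simp [W]
  · have hin : x⁻¹ * cj b x ∈ P :=
      P.mul_mem (P.inv_mem hx) ((Subgroup.mem_normalizer_iff.mp hbN x).mp hx)
    simp only [W, Nat.le_of_lt_succ hi, if_true]
    refine ⟨hin, ?_⟩
    rcases (Nat.le_of_lt_succ hi).lt_or_eq with hlt | rfl
    · simp only [W, Nat.succ_le_of_lt hlt, if_true] at hxW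
      refine hcomm i hlt ?_
      rw [Subgroup.commutator_comm]
      have := Subgroup.commutator_mem_commutator (Subgroup.inv_mem _ hxW.2) hb
      simpa [commutatorElement_def, cj, mul_assoc] using this
    · rw [hn]
      have h1 : x⁻¹ * b * x ∈ Q := by
        have := (Subgroup.mem_normalizer_iff.mp
          (stronglyClosed_le_normalizer hQc (S.inv_mem (hP hx))) b).mp hb
        simpa using this
      have := Q.mul_mem h1 (Q.inv_mem hb)
      simpa [cj, mul_assoc] using this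

omit hp in
theorem isNormal_of_characteristic (hQ : F.IsNormal Q) {U : Subgroup Ω} (hUQ : U ≤ Q)
    (hU : (U.subgroupOf Q).Characteristic) : F.IsNormal U := by
  obtain ⟨hQS, hext⟩ := isNormal_iff.mp hQ
  refine isNormal_iff.mpr ⟨hUQ.trans hQS, fun P f hf => ?_⟩
  obtain ⟨g, hg, hgf, hgQ⟩ := hext P f hf
  refine ⟨g, hg.restrict (sup_le_sup_left hUQ _), hgf, ?_⟩
  obtain ⟨α, -, hα⟩ := exists_aut (hg.restrict le_sup_right) hgQ
  refine (hg.restrict (hUQ.trans le_sup_right)).img_eq_self fun x hx => ?_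
  have h1 : α ⟨x, hUQ hx⟩ ∈ U.subgroupOf Q :=
    (Subgroup.characteristic_iff_map_eq.mp hU α).le ⟨⟨x, hUQ hx⟩, hx, rfl⟩
  rw [← hα x (hUQ hx), autFun_of_mem α (hUQ hx)]
  exact h1

/-- A normal subgroup has a strongly closed chain. -/
theorem exists_chain_of_isNormal (hS : IsPGroup p S) (hQ : F.IsNormal Q) :
    ∃ (n : ℕ) (Qs : ℕ → Subgroup Ω), Qs 0 = ⊥ ∧ Qs n = Q ∧ Monotone Qs ∧
      (∀ i, F.StronglyClosed (Qs i)) ∧ ∀ i < n, ⁅Q, Qs (i + 1)⁆ ≤ Qs i := by
  have : Finite Q := finite_of_le hQ.1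
  have := (isPGroup_of_le hQ.1 hS).isNilpotent
  obtain ⟨n, hn⟩ := (Subgroup.isNilpotent_iff_lowerCentralSeries Q).mp this
  refine ⟨n, fun i => Q.lowerCentralSeries (n - i), by simpa using hn, by simp,
    fun i j hij => Q.lowerCentralSeries_antitone (Nat.sub_le_sub_left hij n),
    fun i => isNormal_stronglyClosed (isNormal_of_characteristic hQ
      (Q.lowerCentralSeries_antitone (Nat.zero_le _)) ?_), fun i hi => ?_⟩
  · beta_reduce
    rw [← Subgroup.top_subtype_lowerCentralSeries, Subgroup.subgroupOf,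
      Subgroup.comap_map_eq_self_of_injective Q.subtype_injective]
    infer_instance
  · beta_reduce
    rw [show n - i = (n - (i + 1)) + 1 by omega, Subgroup.lowerCentralSeries_succ,
      Subgroup.commutator_comm]

/-- A strongly closed abelian subgroup is normal. -/
theorem isNormal_of_abelian (hS : IsPGroup p S) (hF : F.IsSaturated p) (hQ : F.StronglyClosed Q)
    (hab : ∀ x ∈ Q, ∀ y ∈ Q, x * y = y * x) : F.IsNormal Q := by
  refine isNormal_of_chain hS hF 1 (fun i => if i = 0 then ⊥ else Q) rfl rfl (fun i _ => ?_)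
    fun i hi => ?_
  · by_cases h : i = 0
    · simp only [h, if_true]
      exact stronglyClosed_iff.mpr ⟨bot_le, fun P f hf x hxP hx => by
        rw [Subgroup.mem_bot.mp hx]; exact Subgroup.mem_bot.mpr hf.map_one⟩
    · simp only [h, if_false]
      exact hQ
  · obtain rfl : i = 0 := by omega
    simp only [if_true, Nat.zero_add, one_ne_zero, if_false]
    rw [Subgroup.commutator_le]
    intro x hx y hy
    rw [Subgroup.mem_bot, commutatorElement_def, hab x hx y hy]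
    simp [mul_assoc]

end CfsgLib.Fusion
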