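import Mathlib
import Cfsg.Agent.Lib.Fusion.Normal

/-! Consequences of Alperin's theorem and criteria for normal and central subgroups. -/
set_option autoImplicit false

namespace CfsgLib.Fusion

open Cfsg Cfsg.FusionSystem

variable {Ω : Type*} [Group Ω] {S : Subgroup Ω} {F : FusionSystem S} {P Q : Subgroup Ω}

theorem autGroup_inner (hP : P ≤ S) :
    (innerFusionSystem S).autGroup P = autInducedBy S P := by
  refine le_antisymm (fun α hα => ?_) (autInducedBy_le _ hP)
  obtain ⟨-, g, hg, e⟩ := isMor_inner.mp (isMor_autFun hP hα)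
  refine mem_autInducedBy.mpr ⟨g, hg, ?_, e⟩
  rw [Subgroup.mem_normalizer_iff_map_conj_eq]
  exact (img_cj P g).symm.trans ((img_congr e).symm.trans (img_autFun α))

theorem isNormal_iff_closed_char_aux (h : ∀ P f, IsMor F P f → P ≤ Q →
    ∃ α ∈ F.autGroup Q, ∀ x ∈ P, autFun α x = f x) {U : Subgroup Ω} (hUQ : U ≤ Q) (hQ : Q ≤ S)
    (hU : (U.subgroupOf Q).Characteristic) : F.StronglyClosed U := by
  refine stronglyClosed_iff.mpr ⟨hUQ.trans hQ, fun P f hf x hxP hxU => ?_⟩
  obtain ⟨α, -, e⟩ := h _ f (hf.restrict (Subgroup.zpowers_le.mpr hxP))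
    (Subgroup.zpowers_le.mpr (hUQ hxU))
  rw [← e x (Subgroup.mem_zpowers x), autFun_of_mem α (hUQ hxU)]
  exact (Subgroup.characteristic_iff_map_eq.mp hU α).le ⟨⟨x, hUQ hxU⟩, hxU, rfl⟩

theorem isNormal_of_isCentral (h : F.IsCentral Q) : F.IsNormal Q := by
  obtain ⟨hQ, hext⟩ := isCentral_iff.mp h
  refine isNormal_iff.mpr ⟨hQ, fun P f hf => ?_⟩
  obtain ⟨g, hg, hgf, hgQ⟩ := hext P f hf
  exact ⟨g, hg, hgf, (img_congr (g := id) hgQ).trans (img_id Q)⟩

theorem isNormal_bot (F : FusionSystem S) : F.IsNormal ⊥ := by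
  refine isNormal_iff.mpr ⟨bot_le, fun P f hf => ⟨f, by rwa [sup_bot_eq], fun _ _ => rfl, ?_⟩⟩
  exact le_bot_iff.mp (img_le fun x hx =>
    Subgroup.mem_bot.mpr (by rw [Subgroup.mem_bot.mp hx, hf.map_one]))

theorem isCentral_bot (F : FusionSystem S) : F.IsCentral ⊥ :=
  isCentral_iff.mpr ⟨bot_le, fun P f hf => ⟨f, by rwa [sup_bot_eq], fun _ _ => rfl,
    fun x hx => by rw [Subgroup.mem_bot.mp hx, hf.map_one]⟩⟩

theorem isNormal_sup {A B : Subgroup Ω} (hA : F.IsNormal A) (hB : F.IsNormal B) :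
    F.IsNormal (A ⊔ B) := by
  obtain ⟨hAS, hA⟩ := isNormal_iff.mp hA
  obtain ⟨hBS, hB⟩ := isNormal_iff.mp hB
  refine isNormal_iff.mpr ⟨sup_le hAS hBS, fun P f hf => ?_⟩
  obtain ⟨g, hg, hgf, hgA⟩ := hA P f hf
  obtain ⟨k, hk, hkg, hkB⟩ := hB _ g hg
  rw [sup_assoc] at hk
  refine ⟨k, hk, fun x hx => (hkg x (Subgroup.mem_sup_left hx)).trans (hgf x hx), ?_⟩
  rw [(hk.restrict le_sup_right).img_sup, hkB,
    img_congr fun x hx => hkg x (Subgroup.mem_sup_right hx), hgA]

theorem isCentral_sup {A B : Subgroup Ω} (hA : F.IsCentral A) (hB : F.IsCentral B) :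
    F.IsCentral (A ⊔ B) := by
  obtain ⟨hAS, hA⟩ := isCentral_iff.mp hA
  obtain ⟨hBS, hB⟩ := isCentral_iff.mp hB
  refine isCentral_iff.mpr ⟨sup_le hAS hBS, fun P f hf => ?_⟩
  obtain ⟨g, hg, hgf, hgA⟩ := hA P f hf
  obtain ⟨k, hk, hkg, hkB⟩ := hB _ g hg
  rw [sup_assoc] at hk
  refine ⟨k, hk, fun x hx => (hkg x (Subgroup.mem_sup_left hx)).trans (hgf x hx), fun x hx => ?_⟩
  have hr := hk.restrict (le_sup_right : A ⊔ B ≤ P ⊔ (A ⊔ B))
  suffices x ∈ A ⊔ B ∧ k x = x from this.2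
  rw [Subgroup.sup_eq_closure] at hx
  induction hx using Subgroup.closure_induction with
  | mem y hy =>
    rcases hy with hy | hy
    · exact ⟨Subgroup.mem_sup_left hy, by rw [hkg y (Subgroup.mem_sup_right hy), hgA y hy]⟩
    · exact ⟨Subgroup.mem_sup_right hy, hkB y hy⟩
  | one => exact ⟨Subgroup.one_mem _, hr.map_one⟩
  | mul y z _ _ hy hz =>
    exact ⟨Subgroup.mul_mem _ hy.1 hz.1, by rw [hr.map_mul hy.1 hz.1, hy.2, hz.2]⟩
  | inv y _ hy => exact ⟨Subgroup.inv_mem _ hy.1, by rw [hr.map_inv hy.1, hy.2]⟩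

theorem finite_subgroups_le [Finite S] : {Q : Subgroup Ω | Q ≤ S}.Finite := by
  refine Set.Finite.subset (Set.finite_range fun A : Subgroup S => A.map S.subtype) fun Q hQ => ?_
  exact ⟨Q.subgroupOf S, Subgroup.map_subgroupOf_eq_of_le hQ⟩

theorem sSup_mem_of_sup_closed {C : Subgroup Ω → Prop} (h0 : C ⊥)
    (h2 : ∀ A B, C A → C B → C (A ⊔ B)) {s : Set (Subgroup Ω)} (hs : s.Finite)
    (h : ∀ A ∈ s, C A) : C (sSup s) := by
  induction s, hs using Set.Finite.induction_on with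
  | empty => simpa using h0
  | @insert a t _ _ ih =>
    rw [sSup_insert]
    exact h2 _ _ (h a (Set.mem_insert _ _)) (ih fun A hA => h A (Set.mem_insert_of_mem _ hA))

theorem isNormal_core [Finite S] (F : FusionSystem S) : F.IsNormal F.core :=
  sSup_mem_of_sup_closed (isNormal_bot F) (fun _ _ => isNormal_sup)
    (finite_subgroups_le.subset fun _ h => h.1) fun _ h => h

theorem isCentral_center [Finite S] (F : FusionSystem S) : F.IsCentral F.center :=
  sSup_mem_of_sup_closed (isCentral_bot F) (fun _ _ => isCentral_sup)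
    (finite_subgroups_le.subset fun _ h => h.1) fun _ h => h

theorem le_core (h : F.IsNormal Q) : Q ≤ F.core :=
  le_sSup (s := {Q : Subgroup Ω | F.IsNormal Q}) h

theorem le_center (h : F.IsCentral Q) : Q ≤ F.center :=
  le_sSup (s := {Q : Subgroup Ω | F.IsCentral Q}) h

variable [Finite S] {p : ℕ} [hp : Fact p.Prime]

theorem not_pClosed_of_essential (hS : IsPGroup p S) (h : F.IsEssential p P) :
    ¬ ∃ R : Sylow p (F.autGroup P), (R : Subgroup (F.autGroup P)).Normal := by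
  rintro ⟨R, hR⟩
  obtain ⟨-, -, hn, E, hE⟩ := id h
  have := finite_mulAut h.1.1
  have hπ := QuotientGroup.mk'_surjective ((Inn P).subgroupOf (F.autGroup P))
  have := hR.map _ hπ
  let T := R.mapSurjective hπ
  have hT : (T : Subgroup (F.autGroup P ⧸ (Inn P).subgroupOf (F.autGroup P))) = ⊥ := by
    rw [Sylow.coe_mapSurjective]
    exact pCore_eq_bot_of_stronglyPEmbedded hE (R.2.map _)
  exact Sylow.ne_bot_of_dvd_card T hE.1 hT

theorem essential_lt (hS : IsPGroup p S) (hF : F.IsSaturated p) (h : F.IsEssential p P) :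
    P < S := by
  refine lt_of_le_of_ne h.1.1 fun e => not_pClosed_of_essential hS h ?_
  subst e
  obtain ⟨hfa, R, hR⟩ := (isFullyAutomized_of_normalized hS hF (isFullyNormalized_self F)).1
  refine ⟨R, ?_⟩
  rw [hR, ← inn_eq_autInducedBy]
  exact inn_subgroupOf_normal F _

theorem autGroup_le_inn_of_isPGroup (hS : IsPGroup p S) (hF : F.IsSaturated p)
    (h : IsPGroup p (F.autGroup S)) : F.autGroup S ≤ Inn S :=
  le_inn_of_radical (radical_self hS hF) le_rfl h fun _ ha _ hk =>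
    Subgroup.mul_mem _ (Subgroup.mul_mem _ ha hk) (Subgroup.inv_mem _ ha)

theorem eq_inner_of_isPGroup (hS : IsPGroup p S) (hF : F.IsSaturated p)
    (h : ∀ P : Subgroup Ω, P ≤ S → IsPGroup p (F.autGroup P)) : F = innerFusionSystem S := by
  refine fusion_le_antisymm (alperin hS hF ?_) (inner_isSubsystemOf F)
  rintro P (rfl | hP)
  · rw [autGroup_inner le_rfl, ← inn_eq_autInducedBy]
    exact autGroup_le_inn_of_isPGroup hS hF (h _ le_rfl)
  · refine absurd ⟨⟨⊤, (h P hP.1.1).to_subgroup ⊤, fun _ hle => top_le_iff.mp hle⟩, ?_⟩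
      (not_pClosed_of_essential hS hP)
    exact ⟨fun k _ a => trivial⟩

theorem hom_eq_inner (hS : IsPGroup p S) (hF : F.IsSaturated p)
    (h : ∀ P : Subgroup Ω, P ≤ S → IsPGroup p (F.autGroup P)) (P : Subgroup Ω) :
    F.Hom P = (innerFusionSystem S).Hom P := by rw [eq_inner_of_isPGroup hS hF h]

theorem isCentral_iff_fixed (hS : IsPGroup p S) (hF : F.IsSaturated p) :
    F.IsCentral Q ↔ Q ≤ S ∧ ∀ P f, IsMor F P f → ∀ x ∈ P, x ∈ Q → f x = x := by
  refine ⟨fun h => ⟨h.1, fun P f hf x hxP hxQ => ?_⟩, fun ⟨hQ, hfix⟩ => ?_⟩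
  · obtain ⟨g, -, hgf, hgQ⟩ := (isCentral_iff.mp h).2 P f hf
    rw [← hgf x hxP, hgQ x hxQ]
  · have hab : ∀ x ∈ Q, ∀ y ∈ Q, x * y = y * x := fun x hx y hy =>
      cj_fixed_iff.mp (hfix S _ (isMor_cj F le_rfl (hQ hx)) y (hQ hy) hy)
    have hn := isNormal_of_abelian hS hF (stronglyClosed_iff.mpr
      ⟨hQ, fun P f hf x hxP hxQ => (hfix P f hf x hxP hxQ).symm ▸ hxQ⟩) hab
    refine isCentral_iff.mpr ⟨hQ, fun P f hf => ?_⟩
    obtain ⟨g, hg, hgf, -⟩ := (isNormal_iff.mp hn).2 P f hf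
    exact ⟨g, hg, hgf, fun x hx => hfix _ g hg x (Subgroup.mem_sup_right hx) hx⟩

/-- Normality from extendability of maps inside `Q`. -/
theorem isNormal_of_extends (hS : IsPGroup p S) (hF : F.IsSaturated p) (hQ : Q ≤ S)
    (h : ∀ P f, IsMor F P f → P ≤ Q → ∃ α ∈ F.autGroup Q, ∀ x ∈ P, autFun α x = f x) :
    F.IsNormal Q := by
  have : Finite Q := finite_of_le hQ
  have := (isPGroup_of_le hQ hS).isNilpotent
  obtain ⟨n, hn⟩ := (Subgroup.isNilpotent_iff_lowerCentralSeries Q).mp this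
  refine isNormal_of_chain hS hF n (fun i => Q.lowerCentralSeries (n - i)) (by simpa using hn)
    (by simp) (fun i _ => ?_) fun i hi => ?_
  · refine isNormal_iff_closed_char_aux h (Q.lowerCentralSeries_antitone (Nat.zero_le _)) hQ ?_
    rw [← Subgroup.top_subtype_lowerCentralSeries, Subgroup.subgroupOf,
      Subgroup.comap_map_eq_self_of_injective Q.subtype_injective]
    infer_instance
  · beta_reduce
    rw [show n - i = (n - (i + 1)) + 1 by omega, Subgroup.lowerCentralSeries_succ,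
      Subgroup.commutator_comm]

theorem exists_aut_of_isNormal (hQ : F.IsNormal Q) {P : Subgroup Ω} {f : Ω → Ω}
    (hf : IsMor F P f) (hPQ : P ≤ Q) : ∃ α ∈ F.autGroup Q, ∀ x ∈ P, autFun α x = f x := by
  obtain ⟨g, hg, hgf, hgQ⟩ := (isNormal_iff.mp hQ).2 P f hf
  rw [sup_eq_right.mpr hPQ] at hg
  obtain ⟨α, hα, e⟩ := exists_aut hg hgQ
  exact ⟨α, hα, fun x hx => (e x (hPQ hx)).trans (hgf x hx)⟩

omit hp in
theorem inner_isSaturated [Fact p.Prime] (hS : IsPGroup p S) :
    (innerFusionSystem S).IsSaturated p := by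
  refine saturated_of_normalized fun P hP => ⟨isFullyAutomized_iff.mpr ⟨hP.1, ?_⟩,
    isReceptive_iff.mpr ⟨hP.1, fun R f hf _ => ?_⟩⟩
  · rw [autGroup_inner hP.1]
    exact isSylIn_self (isPGroup_autInducedBy hS)
  · obtain ⟨-, g, hg, e⟩ := isMor_inner.mp hf
    exact ⟨cj g, isMor_cj _ ((nExt_le f).trans normalizerIn_le) hg, fun x hx => (e x hx).symm⟩

/-- Two maps agreeing on a centric subgroup differ by conjugation by an element of its centre. -/
theorem centric_agree (hS : IsPGroup p S) (hF : F.IsSaturated p) {f f' : Ω → Ω}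
    (hf : IsMor F P f) (hf' : IsMor F P f') (hQP : Q ≤ P) (hQ : F.IsCentric Q)
    (e : ∀ x ∈ Q, f x = f' x) :
    ∃ z ∈ Q, (∀ x ∈ Q, cj z x = x) ∧ ∀ y ∈ P, f' y = f (cj z y) := by
  induction hd : Nat.card P - Nat.card Q using Nat.strong_induction_on generalizing Q f with
  | _ d ih =>
    subst hd
    rcases eq_or_lt_of_le hQP with rfl | hlt
    · exact ⟨1, Subgroup.one_mem _, fun x _ => cj_one x, fun y hy => by rw [cj_one, e y hy]⟩
    have : Finite P := finite_of_le hf.le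
    have hN := lt_inf_normalizer (isPGroup_of_le hf.le hS) hlt
    set N := P ⊓ Subgroup.normalizer (Q : Set Ω) with hNdef
    have hNP : N ≤ P := inf_le_left
    obtain ⟨z, hz, hzQ, hzN⟩ : ∃ z ∈ Q, (∀ x ∈ Q, cj z x = x) ∧ ∀ y ∈ N, f' y = f (cj z y) := by
      have hfN := hf.restrict hNP
      have hfN' := hf'.restrict hNP
      have hQN : Q ≤ N := hN.le
      have hcR : F.IsCentric (img Q f) := centric_of_isConj hQ (isConj_img (hf.restrict hQP))
      have hdiff : ∀ y ∈ N, ∃ q ∈ Q, f' y = f (y * q) := by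
        intro y hy
        have hc : (f y)⁻¹ * f' y ∈ centralizerIn S (img Q f) := by
          refine mem_centralizerIn.mpr ⟨S.mul_mem (S.inv_mem (hfN.mem hy)) (hfN'.mem hy), fun r hr => ?_⟩
          obtain ⟨x, hx, rfl⟩ := (hf.restrict hQP).mem_img.mp hr
          have hyx : cj y x ∈ Q := (Subgroup.mem_normalizer_iff.mp (Subgroup.mem_inf.mp hy).2 x).mp hx
          have h1 : f' (cj y x) = cj (f' y) (f' x) := hfN'.map_conj hy (hQN hx)
          have h2 : f (cj y x) = cj (f y) (f x) := hfN.map_conj hy (hQN hx)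
          rw [← e _ hyx, ← e x hx, h2] at h1
          rw [cj_mul, ← h1, cj_inv_cj]
        obtain ⟨q, hq, hqe⟩ := (hf.restrict hQP).mem_img.mp (centric_centralizer_le hcR hc)
        exact ⟨q, hq, by rw [hfN.map_mul hy (hQN hq), hqe, mul_inv_cancel_left]⟩
      obtain ⟨k, hk, hkl, -, hki⟩ := hfN.inverse
      have hmaps : ∀ y ∈ N, f' y ∈ img N f := by
        intro y hy
        obtain ⟨q, hq, hqe⟩ := hdiff y hy
        exact hqe ▸ mem_img_of_mem f (N.mul_mem hy (hQN hq))
      have hcomp : IsMor F N (k ∘ f') := hfN'.comp hk hmaps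
      obtain ⟨α, hα, hαe⟩ := exists_aut hcomp (hcomp.img_eq_self fun y hy =>
        hki ▸ mem_img_of_mem k (hmaps y hy))
      have hαQ : ∀ x ∈ Q, autFun α x = x := fun x hx => by
        rw [hαe x (hQN hx), Function.comp_apply, ← e x hx, hkl x (hQN hx)]
      have hαN : ∀ y ∈ N, y⁻¹ * autFun α y ∈ Q := fun y hy => by
        obtain ⟨q, hq, hqe⟩ := hdiff y hy
        rw [hαe y hy, Function.comp_apply, hqe, hkl _ (N.mul_mem hy (hQN hq))]
        simpa using hq
      let W : ℕ → Subgroup Ω := fun i => if i = 0 then ⊥ else if i = 1 then Q else N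
      let K : Subgroup (MulAut N) :=
        { carrier := {γ | (∀ x ∈ Q, autFun γ x = x) ∧ ∀ y ∈ N, y⁻¹ * autFun γ y ∈ Q}
          one_mem' := ⟨fun x hx => autFun_one (hQN hx),
            fun y hy => by rw [autFun_one hy, inv_mul_cancel]; exact Q.one_mem⟩
          mul_mem' := fun {γ δ} hγ hδ => ⟨fun x hx => by
            rw [autFun_mul _ _ (hQN hx), hδ.1 x hx, hγ.1 x hx], fun y hy => by
            have := Q.mul_mem (hδ.2 y hy) (hγ.2 _ (autFun_mem δ hy))
            rw [autFun_mul _ _ hy]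
            simpa [mul_assoc] using this⟩
          inv_mem' := fun {γ} hγ => ⟨fun x hx => by
            conv_lhs => rw [← hγ.1 x hx, autFun_inv_left γ (hQN hx)], fun y hy => by
            have := Q.inv_mem (hγ.2 _ (autFun_mem γ⁻¹ hy))
            rw [autFun_inv_right γ hy] at this
            simpa using this⟩ }
      have hNS : N ≤ S := hfN.le
      have hKp : IsPGroup p K := by
        refine isPGroup_stabilizing hS hNS 2 (fun i => (W i : Set Ω)) (by simp [W]) (fun x hx => ?_)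
          fun γ hγ i hi x hx hxW => ?_
        · simpa [W] using hx
        · obtain rfl | rfl : i = 0 ∨ i = 1 := by omega
          · simp only [W, Nat.zero_add, one_ne_zero, if_false, if_true, SetLike.mem_coe] at hxW ⊢
            rw [hγ.1 x hxW, inv_mul_cancel]
            exact Subgroup.one_mem _
          · simpa [W] using hγ.2 x hx
      obtain ⟨M, hM, hMn⟩ := exists_fullyNormalized F hNS
      obtain ⟨θ, hθ, hθi⟩ := isConj_iff.mp hM
      obtain ⟨t, ht, htA, -⟩ := exists_transport hθ hθi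
      have := finite_mulAut hMn.1
      obtain ⟨β, hβ, hβc⟩ := ((isFullyAutomized_iff.mp
        (isFullyAutomized_of_normalized hS hF hMn).1).2).exists_conj_le
        (C := (K ⊓ F.autGroup N).map t.toMonoidHom)
        ((isPGroup_of_le inf_le_left hKp).map _) (by
          rintro _ ⟨γ, hγ, rfl⟩
          exact (htA γ).mp hγ.2)
      obtain ⟨s, hs, -, hse⟩ := mem_autInducedBy.mp (hβc _ ⟨α, ⟨⟨hαQ, hαN⟩, hα⟩, rfl⟩)
      have hθ' : IsMor F N (autFun β ∘ θ) :=
        hθ.comp (isMor_autFun hMn.1 hβ) fun x hx => hθi ▸ mem_img_of_mem θ hx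
      have key : ∀ y ∈ N, (autFun β ∘ θ) (autFun α y) = cj s ((autFun β ∘ θ) y) := by
        intro y hy
        have hty : θ y ∈ M := hθi ▸ mem_img_of_mem θ hy
        have := hse _ (autFun_mem β hty)
        rw [autFun_mul _ _ (autFun_mem β hty), autFun_inv_left β hty, autFun_mul _ _ hty] at this
        rw [Function.comp_apply, Function.comp_apply, ← ht α y hy]
        exact this
      have hsQ : s ∈ img Q (autFun β ∘ θ) := by
        refine centric_centralizer_le (centric_of_isConj hQ (isConj_img (hθ'.restrict hQN))) ?_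
        refine mem_centralizerIn.mpr ⟨hs, fun r hr => ?_⟩
        obtain ⟨x, hx, rfl⟩ := (hθ'.restrict hQN).mem_img.mp hr
        rw [← key x (hQN hx), hαQ x hx]
      obtain ⟨z, hz, rfl⟩ := (hθ'.restrict hQN).mem_img.mp hsQ
      have hαz : ∀ y ∈ N, autFun α y = cj z y := fun y hy => by
        refine hθ'.inj (autFun_mem α hy) (N.mul_mem (N.mul_mem (hQN hz) hy) (N.inv_mem (hQN hz))) ?_
        rw [key y hy]
        exact (hθ'.map_conj (hQN hz) hy).symm
      refine ⟨z, hz, fun x hx => by rw [← hαz x (hQN hx), hαQ x hx], fun y hy => ?_⟩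
      obtain ⟨q, hq, hqe⟩ := hdiff y hy
      have h1 := hαe y hy
      rw [hαz y hy, Function.comp_apply, hqe, hkl _ (N.mul_mem hy (hQN hq))] at h1
      rw [hqe, h1]
    have hzP : z ∈ P := hQP hz
    have hf'' : IsMor F P (f ∘ cj z) :=
      (isMor_cj F hf.le (hf.le hzP)).comp hf fun y hy => P.mul_mem (P.mul_mem hzP hy) (P.inv_mem hzP)
    have hcard := card_lt_of_lt (hNP.trans hf.le) hN
    have hcardP : Nat.card N ≤ Nat.card P := Subgroup.card_le_of_le hNP
    obtain ⟨w, hw, hwN, hwP⟩ := ih (Nat.card P - Nat.card N) (by omega) hf'' hNP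
      (centric_mono hQ hN.le (hNP.trans hf.le)) (fun y hy => (hzN y hy).symm) rfl
    have hwQ : w ∈ Q := centric_centralizer_le hQ (mem_centralizerIn.mpr
      ⟨(hNP.trans hf.le) hw, fun x hx => hwN x (hN.le hx)⟩)
    refine ⟨z * w, Q.mul_mem hz hwQ, fun x hx => ?_, fun y hy => ?_⟩
    · rw [cj_mul, hwN x (hN.le hx), hzQ x hx]
    · rw [hwP y hy, Function.comp_apply, cj_mul]

end CfsgLib.Fusion
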