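import Mathlib

/-! The determinant of a permutation commuting with a free action of an abelian group. -/
set_option autoImplicit false

namespace CfsgLib.Fusion

variable {M : Type*} [CommGroup M] {Y : Type*} [MulAction M Y] [Fintype (MulAction.orbitRel.Quotient M Y)]

/-- The position of a point in its orbit. -/
noncomputable def opos (y : Y) : M :=
  (MulAction.orbitRel_apply.mp ((MulAction.orbitRel M Y).symm'
    (Quotient.exact (Quotient.out_eq (Quotient.mk (MulAction.orbitRel M Y) y))))).choose

omit [Fintype (MulAction.orbitRel.Quotient M Y)] in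
theorem opos_spec (y : Y) :
    opos (M := M) y • (Quotient.mk (MulAction.orbitRel M Y) y).out = y :=
  (MulAction.orbitRel_apply.mp ((MulAction.orbitRel M Y).symm'
    (Quotient.exact (Quotient.out_eq (Quotient.mk (MulAction.orbitRel M Y) y))))).choose_spec

variable (M) in
/-- The product of the positions of the images of the representatives. -/
noncomputable def fdet (π : Y ≃ Y) : M :=
  ∏ ω : MulAction.orbitRel.Quotient M Y, opos (π (Quotient.out ω))

variable (hfree : ∀ (m : M) (y : Y), m • y = y → m = 1)
include hfree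

omit [Fintype (MulAction.orbitRel.Quotient M Y)] in
theorem smul_left_cancel_free {m m' : M} {y : Y} (h : m • y = m' • y) : m = m' := by
  have h1 : (m'⁻¹ * m) • y = y := by rw [mul_smul, h, inv_smul_smul]
  exact (inv_mul_eq_one.mp (hfree _ _ h1)).symm

omit [Fintype (MulAction.orbitRel.Quotient M Y)] in
theorem opos_smul (m : M) (y : Y) : opos (M := M) (m • y) = m * opos y := by
  have h : Quotient.mk (MulAction.orbitRel M Y) (m • y) = Quotient.mk (MulAction.orbitRel M Y) y :=
    Quotient.sound (MulAction.orbitRel_apply.mpr ⟨m, rfl⟩)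
  have h1 := opos_spec (M := M) (m • y)
  rw [h] at h1
  refine smul_left_cancel_free hfree (h1.trans ?_)
  rw [mul_smul, opos_spec]

omit [Fintype (MulAction.orbitRel.Quotient M Y)] in
theorem opos_out (ω : MulAction.orbitRel.Quotient M Y) : opos (M := M) (Quotient.out ω) = 1 := by
  have h1 := opos_spec (M := M) (Quotient.out ω)
  rw [show Quotient.mk (MulAction.orbitRel M Y) (Quotient.out ω) = ω from Quotient.out_eq ω] at h1
  exact hfree _ _ h1

/-- A bijection twisting the action by `α` scales the sum of positions by a constant. -/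
theorem prod_opos_comp (h : Y ≃ Y) (α : M ≃* M) (hh : ∀ (m : M) y, h (m • y) = α m • h y)
    (f : MulAction.orbitRel.Quotient M Y → Y)
    (hf : Function.Bijective (fun ω => Quotient.mk (MulAction.orbitRel M Y) (f ω))) :
    ∏ ω, opos (M := M) (h (f ω)) = α (∏ ω, opos (f ω)) * fdet M h := by
  let σ : MulAction.orbitRel.Quotient M Y ≃ MulAction.orbitRel.Quotient M Y := Equiv.ofBijective _ hf
  rw [show fdet M h = ∏ ω, opos (h (Quotient.out (σ ω))) from
      (Equiv.prod_comp σ (fun ω => opos (M := M) (h (Quotient.out ω)))).symm,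
    map_prod, ← Finset.prod_mul_distrib]
  refine Finset.prod_congr rfl fun ω _ => ?_
  conv_lhs => rw [← opos_spec (M := M) (f ω), hh, opos_smul hfree]
  rfl

omit [Fintype (MulAction.orbitRel.Quotient M Y)] in
theorem bijective_mk_image (h : Y ≃ Y) (α : M ≃* M) (hh : ∀ (m : M) y, h (m • y) = α m • h y) :
    Function.Bijective (fun ω : MulAction.orbitRel.Quotient M Y =>
      Quotient.mk (MulAction.orbitRel M Y) (h (Quotient.out ω))) := by
  refine ⟨fun a b e => ?_, fun ω => ?_⟩
  · obtain ⟨m, hm⟩ := MulAction.orbitRel_apply.mp (Quotient.exact e)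
    rw [← Quotient.out_eq a, ← Quotient.out_eq b]
    refine Quotient.sound (MulAction.orbitRel_apply.mpr ⟨α.symm m, h.injective ?_⟩)
    simp only [hh, MulEquiv.apply_symm_apply]
    exact hm
  · refine ⟨Quotient.mk _ (h.symm (Quotient.out ω)), ?_⟩
    conv_rhs => rw [← Quotient.out_eq ω]
    obtain ⟨m, hm⟩ := MulAction.orbitRel_apply.mp
      (Quotient.exact (Quotient.out_eq (Quotient.mk (MulAction.orbitRel M Y) (h.symm (Quotient.out ω)))))
    refine Quotient.sound (MulAction.orbitRel_apply.mpr ⟨α m, ?_⟩)
    show α m • Quotient.out ω = _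
    rw [← hm, hh, Equiv.apply_symm_apply]

theorem fdet_trans (g h : Y ≃ Y) (α β : M ≃* M) (hg : ∀ (m : M) y, g (m • y) = α m • g y)
    (hh : ∀ (m : M) y, h (m • y) = β m • h y) :
    fdet M (g.trans h) = β (fdet M g) * fdet M h :=
  prod_opos_comp hfree h β hh (fun ω => g (Quotient.out ω)) (bijective_mk_image hfree g α hg)

theorem fdet_refl : fdet M (Equiv.refl Y) = 1 :=
  Finset.prod_eq_one fun ω _ => opos_out hfree ω

theorem fdet_smul (m : M) (π : Y ≃ Y) (hπ : ∀ y, π y = m • y) :
    fdet M π = m ^ Fintype.card (MulAction.orbitRel.Quotient M Y) := by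
  rw [fdet, Finset.prod_congr rfl fun ω _ => by rw [hπ, opos_smul hfree, opos_out hfree, mul_one],
    Finset.prod_const, Finset.card_univ]

/-- Conjugating a commuting permutation by a twisted bijection twists the determinant. -/
theorem fdet_conj (h c : Y ≃ Y) (α : M ≃* M) (hh : ∀ (m : M) y, h (m • y) = α m • h y)
    (hc : ∀ (m : M) y, c (m • y) = m • c y) : fdet M ((h.symm.trans c).trans h) = α (fdet M c) := by
  have hs : ∀ (m : M) y, h.symm (m • y) = α.symm m • h.symm y := fun m y => by
    apply h.injective
    rw [hh, Equiv.apply_symm_apply, Equiv.apply_symm_apply, MulEquiv.apply_symm_apply]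
  have hsc : ∀ (m : M) y, (h.symm.trans c) (m • y) = α.symm m • (h.symm.trans c) y := fun m y => by
    simp only [Equiv.trans_apply, hs, hc]
  rw [fdet_trans hfree _ h α.symm α hsc hh, fdet_trans hfree h.symm c α.symm (MulEquiv.refl M) hs
    (fun m y => hc m y)]
  have h1 := fdet_trans hfree h.symm h α.symm α hs hh
  rw [Equiv.symm_trans_self, fdet_refl hfree] at h1
  rw [MulEquiv.refl_apply, map_mul, mul_comm (α (fdet M h.symm)), mul_assoc, ← h1, mul_one]

end CfsgLib.Fusion
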