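import Mathlib

/-! Marks of finite group actions: two actions with equal marks are isomorphic. -/
set_option autoImplicit false

namespace CfsgLib.Fusion

open MulAction
open scoped Pointwise

variable {D : Type*} [Group D]

/-- The number of points fixed by every element of `K`. -/
noncomputable def fixCard (X : Type*) [MulAction D X] (K : Subgroup D) : ℕ :=
  Nat.card {x : X // ∀ k ∈ K, k • x = x}

theorem fixCard_pos_iff {X : Type*} [MulAction D X] [Finite X] {K : Subgroup D} :
    0 < fixCard X K ↔ ∃ x : X, K ≤ stabilizer D x := by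
  rw [fixCard, Nat.card_pos_iff]
  constructor
  · rintro ⟨⟨⟨x, hx⟩⟩, -⟩
    exact ⟨x, fun k hk => hx k hk⟩
  · rintro ⟨x, hx⟩
    exact ⟨⟨⟨x, fun k hk => hx hk⟩⟩, inferInstance⟩

theorem fixCard_congr {X Y : Type*} [MulAction D X] [MulAction D Y] (e : X ≃ Y)
    (he : ∀ (d : D) x, e (d • x) = d • e x) (K : Subgroup D) : fixCard X K = fixCard Y K :=
  Nat.card_congr (e.subtypeEquiv fun x => forall₂_congr fun k _ => by rw [← he]; simp)

theorem fixCard_conj {X : Type*} [MulAction D X] (d : D) (K : Subgroup D) :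
    fixCard X (K.map (MulAut.conj d).toMonoidHom) = fixCard X K := by
  refine Nat.card_congr ((MulAction.toPerm d : Equiv.Perm X).subtypeEquiv fun x => ?_).symm
  constructor
  · rintro h _ ⟨k, hk, rfl⟩
    simp [mul_smul, h k hk]
  · intro h k hk
    have := h _ (Subgroup.mem_map_of_mem _ hk)
    simpa [mul_smul] using this

/-- A subset stable under the action, as an action. -/
@[reducible] def restrictAction {X : Type*} [MulAction D X] (s : Set X) (hs : ∀ (d : D) x, x ∈ s → d • x ∈ s) :
    MulAction D s where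
  smul d x := ⟨d • (x : X), hs d x x.2⟩
  one_smul x := Subtype.ext (one_smul D (x : X))
  mul_smul a b x := Subtype.ext (mul_smul a b (x : X))

theorem fixCard_split {X : Type*} [MulAction D X] [Finite X] (s : Set X)
    (hs : ∀ (d : D) x, x ∈ s → d • x ∈ s) (hs' : ∀ (d : D) x, x ∈ sᶜ → d • x ∈ sᶜ)
    (K : Subgroup D) :
    fixCard X K = (letI := restrictAction s hs; fixCard s K) +
      (letI := restrictAction sᶜ hs'; fixCard (sᶜ : Set X) K) := by
  classical
  let A := {x : X // ∀ k ∈ K, k • x = x}
  have e : A ≃ {a : A // (a : X) ∈ s} ⊕ {a : A // ¬(a : X) ∈ s} :=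
    (Equiv.sumCompl (fun a : A => (a : X) ∈ s)).symm
  rw [fixCard, Nat.card_congr e, Nat.card_sum]
  congr 1
  · exact Nat.card_congr
      { toFun := fun a => ⟨⟨a.1.1, a.2⟩, fun k hk => Subtype.ext (a.1.2 k hk)⟩
        invFun := fun b => ⟨⟨b.1.1, fun k hk => congrArg Subtype.val (b.2 k hk)⟩, b.1.2⟩
        left_inv := fun a => rfl
        right_inv := fun b => rfl }
  · exact Nat.card_congr
      { toFun := fun a => ⟨⟨a.1.1, a.2⟩, fun k hk => Subtype.ext (a.1.2 k hk)⟩
        invFun := fun b => ⟨⟨b.1.1, fun k hk => congrArg Subtype.val (b.2 k hk)⟩, b.1.2⟩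
        left_inv := fun a => rfl
        right_inv := fun b => rfl }

variable [Finite D]

/-- Two finite actions with equal marks are isomorphic. -/
theorem exists_equiv_of_fixCard : ∀ (n : ℕ) (X Y : Type*) [MulAction D X] [MulAction D Y]
    [Finite X] [Finite Y], Nat.card X = n → (∀ K : Subgroup D, fixCard X K = fixCard Y K) →
    ∃ e : X ≃ Y, ∀ (d : D) x, e (d • x) = d • e x := by
  intro n
  induction n using Nat.strong_induction_on with
  | _ n ih =>
    intro X Y _ _ _ _ hn h
    have hcard : Nat.card X = Nat.card Y := by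
      have := h ⊥
      simp only [fixCard, Subgroup.mem_bot, forall_eq, one_smul] at this
      rwa [Nat.card_congr (Equiv.subtypeUnivEquiv fun x => trivial),
        Nat.card_congr (Equiv.subtypeUnivEquiv fun x => trivial)] at this
    rcases Nat.eq_zero_or_pos (Nat.card X) with h0 | hpos
    · have hX : IsEmpty X := (Nat.card_eq_zero.mp h0).resolve_right (not_infinite_iff_finite.mpr inferInstance)
      have hY : IsEmpty Y := (Nat.card_eq_zero.mp (hcard ▸ h0)).resolve_right (not_infinite_iff_finite.mpr inferInstance)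
      exact ⟨Equiv.equivOfIsEmpty X Y, fun d x => isEmptyElim x⟩
    have : Nonempty X := (Nat.card_pos_iff.mp hpos).1
    obtain ⟨x, hx⟩ := Finite.exists_max (fun x : X => Nat.card (stabilizer D x))
    set H := stabilizer D x with hH
    obtain ⟨y, hy⟩ : ∃ y : Y, H ≤ stabilizer D y :=
      fixCard_pos_iff.mp (h H ▸ fixCard_pos_iff.mpr ⟨x, le_rfl⟩)
    obtain ⟨x', hx'⟩ : ∃ x' : X, stabilizer D y ≤ stabilizer D x' :=
      fixCard_pos_iff.mp ((h _).symm ▸ fixCard_pos_iff.mpr ⟨y, le_rfl⟩)
    have hHy : H = stabilizer D y := Subgroup.eq_of_le_of_card_ge hy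
      ((Subgroup.card_le_of_le hx').trans (hx x'))
    have hiff : ∀ d e : D, d • x = e • x ↔ d • y = e • y := by
      intro d e
      rw [← inv_smul_eq_iff, ← inv_smul_eq_iff (g := e), ← mul_smul, ← mul_smul,
        ← mem_stabilizer_iff, ← mem_stabilizer_iff, ← hH, ← hHy]
    classical
    let oX : Set X := orbit D x
    let oY : Set Y := orbit D y
    have hsX : ∀ (d : D) z, z ∈ oX → d • z ∈ oX := fun d z hz => mem_orbit_of_mem_orbit d hz
    have hsY : ∀ (d : D) z, z ∈ oY → d • z ∈ oY := fun d z hz => mem_orbit_of_mem_orbit d hz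
    have hcX : ∀ (d : D) z, z ∈ oXᶜ → d • z ∈ oXᶜ := fun d z hz h1 =>
      hz (by simpa using hsX d⁻¹ _ h1)
    have hcY : ∀ (d : D) z, z ∈ oYᶜ → d • z ∈ oYᶜ := fun d z hz h1 =>
      hz (by simpa using hsY d⁻¹ _ h1)
    letI iX := restrictAction oX hsX
    letI iY := restrictAction oY hsY
    letI iXc := restrictAction oXᶜ hcX
    letI iYc := restrictAction oYᶜ hcY
    have hlX : ∀ z : oX, ∃ d : D, d • x = (z : X) := fun z => z.2
    have hlY : ∀ z : oY, ∃ d : D, d • y = (z : Y) := fun z => z.2
    choose a ha using hlX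
    choose b hb using hlY
    let e₁ : oX ≃ oY :=
      { toFun := fun z => ⟨a z • y, a z, rfl⟩
        invFun := fun w => ⟨b w • x, b w, rfl⟩
        left_inv := fun z => Subtype.ext (by
          refine Eq.trans ?_ (ha z)
          exact (hiff _ _).mpr (hb _))
        right_inv := fun w => Subtype.ext (by
          refine Eq.trans ?_ (hb w)
          exact (hiff _ _).mp (ha _)) }
    have he₁ : ∀ (d : D) (z : oX), e₁ (d • z) = d • e₁ z := fun d z => by
      apply Subtype.ext
      show a (d • z) • y = d • (a z • y)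
      rw [← mul_smul]
      refine (hiff _ _).mp ?_
      rw [mul_smul, ha]
      show _ = d • (a z • x)
      rw [ha]
      rfl
    have hrest : ∀ K, fixCard (oXᶜ : Set X) K = fixCard (oYᶜ : Set Y) K := fun K => by
      have h1 := fixCard_split oX hsX hcX K
      have h2 := fixCard_split oY hsY hcY K
      have h3 := fixCard_congr e₁ he₁ K
      have h4 := h K
      omega
    have hlt : Nat.card (oXᶜ : Set X) < n :=
      hn ▸ Finite.card_subtype_lt (x := x) (fun hx => hx (mem_orbit_self x))
    obtain ⟨e₂, he₂⟩ := ih _ hlt (oXᶜ : Set X) (oYᶜ : Set Y) rfl hrest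
    refine ⟨(Equiv.Set.sumCompl oX).symm.trans ((e₁.sumCongr e₂).trans (Equiv.Set.sumCompl oY)),
      fun d z => ?_⟩
    by_cases hz : z ∈ oX
    · simp only [Equiv.trans_apply, Equiv.Set.sumCompl_symm_apply_of_mem hz,
        Equiv.Set.sumCompl_symm_apply_of_mem (hsX d z hz), Equiv.sumCongr_apply, Sum.map_inl,
        Equiv.Set.sumCompl_apply_inl]
      exact congrArg Subtype.val (he₁ d ⟨z, hz⟩)
    · simp only [Equiv.trans_apply, Equiv.Set.sumCompl_symm_apply_of_notMem hz,
        Equiv.Set.sumCompl_symm_apply_of_notMem (hcX d z hz), Equiv.sumCongr_apply, Sum.map_inr,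
        Equiv.Set.sumCompl_apply_inr]
      exact congrArg Subtype.val (he₂ d ⟨z, hz⟩)

end CfsgLib.Fusion
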