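import Mathlib
import Cfsg.Agent.Lib.Fusion.Marks
import Cfsg.Agent.Lib.Fusion.Saturation

/-! Graphs of the maps of a fusion system inside `S × S`. -/
set_option autoImplicit false

namespace CfsgLib.Fusion

open Cfsg Cfsg.FusionSystem

variable {Ω : Type*} [Group Ω] {S : Subgroup Ω} {F : FusionSystem S}

/-- `K` is the graph of the map `f` on `P`. -/
def IsGraph (F : FusionSystem S) (K : Subgroup (S × S)) (P : Subgroup Ω) (f : Ω → Ω) : Prop :=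
  IsMor F P f ∧ ∀ d : S × S, d ∈ K ↔ ((d.1 : Ω) ∈ P ∧ f d.1 = d.2)

/-- `K` is the graph of some map. -/
def InFam (F : FusionSystem S) (K : Subgroup (S × S)) : Prop := ∃ P f, IsGraph F K P f

/-- The image of a graph. -/
def imS (K : Subgroup (S × S)) : Subgroup S := K.map (MonoidHom.snd S S)

/-- The graph of the inclusion of `Q`. -/
def diag (Q : Subgroup S) : Subgroup (S × S) :=
  Q.map ((MonoidHom.id S).prod (MonoidHom.id S))

theorem mem_diag {Q : Subgroup S} {d : S × S} : d ∈ diag Q ↔ d.1 ∈ Q ∧ d.1 = d.2 :=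
  ⟨fun ⟨q, hq, e⟩ => e ▸ ⟨hq, rfl⟩, fun ⟨h, e⟩ => ⟨d.1, h, Prod.ext rfl e⟩⟩

theorem exists_graph {P : Subgroup Ω} {f : Ω → Ω} (hf : IsMor F P f) :
    ∃ K, IsGraph F K P f := by
  refine ⟨{ carrier := {d : S × S | (d.1 : Ω) ∈ P ∧ f d.1 = d.2}
            one_mem' := ⟨P.one_mem, hf.map_one⟩
            mul_mem' := fun ha hb => ⟨P.mul_mem ha.1 hb.1, ?_⟩
            inv_mem' := fun ha => ⟨P.inv_mem ha.1, ?_⟩ }, hf, fun d => Iff.rfl⟩
  · show f ((_ : Ω) * _) = _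
    rw [hf.map_mul ha.1 hb.1, ha.2, hb.2]
    rfl
  · show f ((_ : Ω))⁻¹ = _
    rw [hf.map_inv ha.1, ha.2]
    rfl

theorem imS_eq {K : Subgroup (S × S)} {P : Subgroup Ω} {f : Ω → Ω} (h : IsGraph F K P f) :
    (imS K).map S.subtype = img P f := by
  refine le_antisymm ?_ (img_le fun x hx => ?_)
  · rintro _ ⟨_, ⟨d, hd, rfl⟩, rfl⟩
    obtain ⟨h1, h2⟩ := (h.2 d).mp hd
    show (d.2 : Ω) ∈ img P f
    rw [← h2]
    exact mem_img_of_mem f h1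
  · exact ⟨_, ⟨(⟨x, h.1.le hx⟩, ⟨f x, h.1.mem hx⟩), (h.2 _).mpr ⟨hx, rfl⟩, rfl⟩, rfl⟩

theorem imS_diag (Q : Subgroup S) : imS (diag Q) = Q := by
  rw [imS, diag, Subgroup.map_map, MonoidHom.snd_comp_prod, Subgroup.map_id]

theorem inFam_diag (F : FusionSystem S) (Q : Subgroup S) : InFam F (diag Q) :=
  ⟨Q.map S.subtype, id, isMor_id F (Subgroup.map_subtype_le Q), fun d => by
    rw [mem_diag]
    refine and_congr ⟨fun h => Subgroup.mem_map_of_mem _ h, fun ⟨q, hq, e⟩ => ?_⟩ ?_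
    · rwa [Subtype.ext e] at hq
    · exact ⟨fun e => congrArg Subtype.val e, fun e => Subtype.ext e⟩⟩

theorem InFam.snd_inj {K : Subgroup (S × S)} (h : InFam F K) {d : S × S} (hd : d ∈ K)
    (h2 : d.2 = 1) : d = 1 := by
  obtain ⟨P, f, hf, hK⟩ := h
  obtain ⟨h1, e⟩ := (hK d).mp hd
  rw [h2] at e
  exact Prod.ext (Subtype.ext ((hf.eq_one_iff h1).mp e)) h2

theorem InFam.fst_inj {K : Subgroup (S × S)} (h : InFam F K) {d : S × S} (hd : d ∈ K)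
    (h1 : d.1 = 1) : d = 1 := by
  obtain ⟨P, f, hf, hK⟩ := h
  obtain ⟨-, e⟩ := (hK d).mp hd
  rw [h1] at e
  exact Prod.ext h1 (Subtype.ext (e.symm.trans hf.map_one))

theorem InFam.card_imS {K : Subgroup (S × S)} (h : InFam F K) :
    Nat.card (imS K) = Nat.card K := by
  refine (Nat.card_congr (Equiv.ofBijective
    (fun d : K => (⟨(d : S × S).2, ⟨d, d.2, rfl⟩⟩ : imS K)) ⟨fun a b e => ?_, ?_⟩)).symm
  · have e' : (a : S × S).2 = (b : S × S).2 := congrArg Subtype.val e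
    have := h.snd_inj (K.mul_mem (K.inv_mem a.2) b.2)
      (by rw [Prod.snd_mul, Prod.snd_inv, e', inv_mul_cancel])
    exact Subtype.ext (inv_mul_eq_one.mp this)
  · rintro ⟨_, d, hd, rfl⟩
    exact ⟨⟨d, hd⟩, rfl⟩

theorem InFam.mono {K K' : Subgroup (S × S)} (h : InFam F K) (hle : K' ≤ K) : InFam F K' := by
  obtain ⟨P, f, hf, hK⟩ := h
  refine ⟨(K'.map (MonoidHom.fst S S)).map S.subtype, f, hf.restrict ?_, fun d => ⟨fun hd => ?_, ?_⟩⟩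
  · rintro _ ⟨_, ⟨d, hd, rfl⟩, rfl⟩
    exact ((hK d).mp (hle hd)).1
  · exact ⟨Subgroup.mem_map_of_mem _ (Subgroup.mem_map_of_mem _ hd), ((hK d).mp (hle hd)).2⟩
  · rintro ⟨⟨a, ⟨c, hc, rfl⟩, e⟩, hfd⟩
    obtain ⟨-, hfc⟩ := (hK c).mp (hle hc)
    have h1 : c.1 = d.1 := Subtype.ext e
    have h2 : c.2 = d.2 := Subtype.ext (by rw [← hfc, h1, hfd])
    exact (Prod.ext h1 h2 : c = d) ▸ hc

theorem InFam.conj {K : Subgroup (S × S)} (h : InFam F K) (a : S × S) :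
    InFam F (K.map (MulAut.conj a).toMonoidHom) := by
  obtain ⟨P, f, hf, hK⟩ := h
  obtain ⟨x, y⟩ := a
  have hm : ∀ z ∈ img P (cj (x : Ω)), cj (x : Ω)⁻¹ z ∈ P := fun z hz => by
    rw [mem_img_cj] at hz
    simpa [cj] using hz
  have hP' : img P (cj (x : Ω)) ≤ S := (isMor_cj F hf.le x.2).img_le
  refine ⟨img P (cj (x : Ω)), cj (y : Ω) ∘ (f ∘ cj (x : Ω)⁻¹),
    ((isMor_cj F hP' (S.inv_mem x.2)).comp hf hm).comp (isMor_cj F le_rfl y.2)
      (fun z hz => hf.mem (hm z hz)), fun d => ⟨?_, ?_⟩⟩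
  · rintro ⟨c, hc, rfl⟩
    obtain ⟨h1, h2⟩ := (hK c).mp hc
    refine ⟨mem_img_of_mem (cj (x : Ω)) h1, ?_⟩
    show cj (y : Ω) (f (cj (x : Ω)⁻¹ (cj (x : Ω) c.1))) = cj (y : Ω) c.2
    rw [cj_inv_cj, h2]
  · rintro ⟨h1, h2⟩
    refine ⟨(x⁻¹ * d.1 * x, y⁻¹ * d.2 * y), (hK _).mpr ⟨?_, ?_⟩, ?_⟩
    · exact mem_img_cj.mp h1
    · show f ((x : Ω)⁻¹ * d.1 * x) = (y : Ω)⁻¹ * d.2 * y
      rw [← h2]
      simp [cj, mul_assoc]
    · simp [mul_assoc]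

theorem imS_conj {K : Subgroup (S × S)} (a : S × S) :
    imS (K.map (MulAut.conj a).toMonoidHom) = (imS K).map (MulAut.conj a.2).toMonoidHom := by
  rw [imS, imS, Subgroup.map_map, Subgroup.map_map]
  rfl

/-- Pairs with left entry in `R`. -/
def leftDom (S : Subgroup Ω) (R : Subgroup Ω) : Subgroup (S × S) :=
  (R.subgroupOf S).prod ⊤

theorem mem_leftDom {R : Subgroup Ω} {d : S × S} : d ∈ leftDom S R ↔ (d.1 : Ω) ∈ R :=
  ⟨fun h => h.1, fun h => ⟨h, trivial⟩⟩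

/-- Apply the map `g` to the left entry. -/
def leftMap {R : Subgroup Ω} {g : Ω → Ω} (hg : IsMor F R g) : leftDom S R →* S × S :=
  MonoidHom.mk' (fun d => (⟨g (d : S × S).1, hg.mem (mem_leftDom.mp d.2)⟩, (d : S × S).2))
    fun a b => Prod.ext (Subtype.ext (hg.map_mul (mem_leftDom.mp a.2) (mem_leftDom.mp b.2))) rfl

theorem leftMap_injective {R : Subgroup Ω} {g : Ω → Ω} (hg : IsMor F R g) :
    Function.Injective (leftMap hg) := fun a b e => by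
  have e1 : g (a : S × S).1 = g (b : S × S).1 := congrArg (fun d : S × S => (d.1 : Ω)) e
  have e2 : (a : S × S).2 = (b : S × S).2 := Prod.ext_iff.mp e |>.2
  exact Subtype.ext (Prod.ext (Subtype.ext (hg.inj (mem_leftDom.mp a.2) (mem_leftDom.mp b.2) e1)) e2)

/-- The subgroup `K` with the map `g` applied to its left entries. -/
def pushLeft {R : Subgroup Ω} {g : Ω → Ω} (hg : IsMor F R g) (K : Subgroup (S × S)) :
    Subgroup (S × S) := (K.subgroupOf (leftDom S R)).map (leftMap hg)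

theorem mem_pushLeft {R : Subgroup Ω} {g : Ω → Ω} {hg : IsMor F R g} {K : Subgroup (S × S)}
    {d : S × S} : d ∈ pushLeft hg K ↔
      ∃ c ∈ K, (c.1 : Ω) ∈ R ∧ g c.1 = d.1 ∧ c.2 = d.2 := by
  constructor
  · rintro ⟨c, hc, rfl⟩
    exact ⟨c, hc, mem_leftDom.mp c.2, rfl, rfl⟩
  · rintro ⟨c, hc, h1, h2, h3⟩
    exact ⟨⟨c, mem_leftDom.mpr h1⟩, hc, Prod.ext (Subtype.ext h2) h3⟩

theorem imS_pushLeft {R : Subgroup Ω} {g : Ω → Ω} {hg : IsMor F R g} {K : Subgroup (S × S)}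
    (hK : K ≤ leftDom S R) : imS (pushLeft hg K) = imS K := by
  ext y
  constructor
  · rintro ⟨d, hd, rfl⟩
    obtain ⟨c, hc, -, -, e⟩ := mem_pushLeft.mp hd
    exact ⟨c, hc, e⟩
  · rintro ⟨c, hc, rfl⟩
    exact ⟨_, Subgroup.mem_map_of_mem _ (x := (⟨c, hK hc⟩ : leftDom S R)) hc, rfl⟩

theorem card_pushLeft {R : Subgroup Ω} {g : Ω → Ω} {hg : IsMor F R g} {K : Subgroup (S × S)}
    (hK : K ≤ leftDom S R) : Nat.card (pushLeft hg K) = Nat.card K := by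
  rw [pushLeft, ← Nat.card_congr (Subgroup.equivMapOfInjective _ _ (leftMap_injective hg)).toEquiv]
  exact Nat.card_congr (Subgroup.subgroupOfEquivOfLe hK).toEquiv

theorem inFam_pushLeft {R : Subgroup Ω} {g : Ω → Ω} {hg : IsMor F R g} {K : Subgroup (S × S)}
    (hK : K ≤ leftDom S R) : InFam F (pushLeft hg K) ↔ InFam F K := by
  constructor
  · rintro ⟨P, f, hf, hKf⟩
    let P₀ : Subgroup Ω := (K.map (MonoidHom.fst S S)).map S.subtype
    have hP₀ : ∀ x ∈ P₀, x ∈ R ∧ g x ∈ P := by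
      rintro _ ⟨_, ⟨c, hc, rfl⟩, rfl⟩
      refine ⟨mem_leftDom.mp (hK hc), ?_⟩
      exact ((hKf _).mp (Subgroup.mem_map_of_mem _ (x := (⟨c, hK hc⟩ : leftDom S R)) hc)).1
    refine ⟨P₀, f ∘ g, (hg.restrict fun x hx => (hP₀ x hx).1).comp hf fun x hx => (hP₀ x hx).2,
      fun d => ⟨fun hd => ⟨Subgroup.mem_map_of_mem _ (Subgroup.mem_map_of_mem _ hd), ?_⟩, ?_⟩⟩
    · exact ((hKf _).mp (Subgroup.mem_map_of_mem _ (x := (⟨d, hK hd⟩ : leftDom S R)) hd)).2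
    · rintro ⟨⟨a, ⟨c, hc, rfl⟩, e⟩, hfd⟩
      have h1 : c.1 = d.1 := Subtype.ext e
      have h2 := ((hKf _).mp (Subgroup.mem_map_of_mem _ (x := (⟨c, hK hc⟩ : leftDom S R)) hc)).2
      have h3 : f (g d.1) = (c.2 : Ω) := h1 ▸ h2
      have h4 : c.2 = d.2 := Subtype.ext (h3.symm.trans hfd)
      exact (Prod.ext h1 h4 : c = d) ▸ hc
  · rintro ⟨P, f, hf, hKf⟩
    have hPR : P ≤ R := fun x hx =>
      mem_leftDom.mp (hK ((hKf (⟨x, hf.le hx⟩, ⟨f x, hf.mem hx⟩)).mpr ⟨hx, rfl⟩))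
    obtain ⟨k, hk, hkl, -, hki⟩ := (hg.restrict hPR).inverse
    refine ⟨img P g, f ∘ k, hk.comp hf fun y hy => hki ▸ mem_img_of_mem k hy, fun d => ?_⟩
    rw [mem_pushLeft]
    constructor
    · rintro ⟨c, hc, -, h2, h3⟩
      obtain ⟨h4, h5⟩ := (hKf c).mp hc
      refine ⟨h2 ▸ mem_img_of_mem g h4, ?_⟩
      rw [Function.comp_apply, ← h2, hkl _ h4, h5, h3]
    · rintro ⟨h1, h2⟩
      obtain ⟨x, hx, hxe⟩ := (hg.restrict hPR).mem_img.mp h1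
      refine ⟨(⟨x, hf.le hx⟩, d.2), (hKf _).mpr ⟨hx, ?_⟩, hPR hx, hxe, rfl⟩
      rw [← h2, Function.comp_apply, ← hxe, hkl x hx]

end CfsgLib.Fusion
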