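import Mathlib
import Cfsg.Agent.Lib.Fusion.Marks

/-! Marks of coset actions. -/
set_option autoImplicit false

namespace CfsgLib.Fusion

open MulAction
open scoped Pointwise

variable {D : Type*} [Group D] [Finite D]

theorem fixCard_coset_pos {H K : Subgroup D} :
    0 < fixCard (D ⧸ H) K ↔ ∃ d : D, K.map (MulAut.conj d).toMonoidHom ≤ H := by
  rw [fixCard_pos_iff]
  constructor
  · rintro ⟨x, hx⟩
    obtain ⟨d, rfl⟩ := QuotientGroup.mk_surjective x
    refine ⟨d⁻¹, ?_⟩
    rintro _ ⟨k, hk, rfl⟩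
    have h2 : k * d = k * d := rfl
    have := QuotientGroup.eq.mp (mem_stabilizer_iff.mp (hx hk) : ((k * d : D) : D ⧸ H) = d)
    have := H.inv_mem this
    simpa [mul_assoc] using this
  · rintro ⟨d, hd⟩
    refine ⟨((d⁻¹ : D) : D ⧸ H), fun k hk => mem_stabilizer_iff.mpr (QuotientGroup.eq.mpr ?_)⟩
    have := H.inv_mem (hd (Subgroup.mem_map_of_mem _ hk))
    simpa [mul_assoc] using this

theorem fixCard_self (H : Subgroup D) :
    fixCard (D ⧸ H) H * Nat.card H = Nat.card (Subgroup.normalizer (H : Set D)) := by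
  have h1 : fixCard (D ⧸ H) H = Nat.card (MulAction.fixedPoints H (D ⧸ H)) :=
    Nat.card_congr (Equiv.subtypeEquivRight fun x =>
      ⟨fun h k => h k k.2, fun h k hk => h ⟨k, hk⟩⟩)
  rw [h1, Nat.card_congr (Sylow.fixedPointsMulLeftCosetsEquivQuotient H),
    Subgroup.card_eq_card_quotient_mul_card_subgroup (H.comap (Subgroup.normalizer (H : Set D)).subtype)]
  congr 1
  exact Nat.card_congr (Subgroup.subgroupOfEquivOfLe Subgroup.le_normalizer).toEquiv.symm

theorem fixCard_self_pos (H : Subgroup D) : 0 < fixCard (D ⧸ H) H :=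
  fixCard_coset_pos.mpr ⟨1, fun _ ⟨k, hk, e⟩ => e ▸ by simpa using hk⟩

theorem fixCard_coset_eq_zero {H K : Subgroup D} (hcard : Nat.card H ≤ Nat.card K)
    (h : ¬ ∃ d : D, K.map (MulAut.conj d).toMonoidHom = H) : fixCard (D ⧸ H) K = 0 := by
  by_contra hne
  obtain ⟨d, hd⟩ := fixCard_coset_pos.mp (Nat.pos_of_ne_zero hne)
  refine h ⟨d, Subgroup.eq_of_le_of_card_ge hd (hcard.trans ?_)⟩
  exact (Nat.card_congr (K.equivMapOfInjective _ (MulAut.conj d).injective).toEquiv).le

/-- The mark at `K` of the disjoint union of `n H` copies of each `D ⧸ H`. -/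
noncomputable def mark (n : Subgroup D → ℕ) (K : Subgroup D) : ℕ :=
  ∑ᶠ H : Subgroup D, n H * fixCard (D ⧸ H) K

theorem mark_eq_sum [Fintype (Subgroup D)] (n : Subgroup D → ℕ) (K : Subgroup D) :
    mark n K = ∑ H : Subgroup D, n H * fixCard (D ⧸ H) K :=
  finsum_eq_sum_of_fintype _

theorem mark_add (n m : Subgroup D → ℕ) (K : Subgroup D) :
    mark (fun H => n H + m H) K = mark n K + mark m K := by
  have := Fintype.ofFinite (Subgroup D)
  simp [mark_eq_sum, add_mul, Finset.sum_add_distrib]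

theorem mark_conj (n : Subgroup D → ℕ) (d : D) (K : Subgroup D) :
    mark n (K.map (MulAut.conj d).toMonoidHom) = mark n K := by
  unfold mark
  exact finsum_congr fun H => by rw [fixCard_conj]

theorem exists_of_mark_ne_zero {n : Subgroup D → ℕ} {K : Subgroup D} (h : mark n K ≠ 0) :
    ∃ H, n H ≠ 0 ∧ ∃ d : D, K.map (MulAut.conj d).toMonoidHom ≤ H := by
  have := Fintype.ofFinite (Subgroup D)
  rw [mark_eq_sum] at h
  obtain ⟨H, -, hH⟩ := Finset.exists_ne_zero_of_sum_ne_zero h
  exact ⟨H, left_ne_zero_of_mul hH, fixCard_coset_pos.mp (Nat.pos_of_ne_zero (right_ne_zero_of_mul hH))⟩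

/-- Burnside's lemma for a group normalizing `K`. -/
theorem card_dvd_sum_fixCard {X : Type*} [MulAction D X] [Finite X] {A : Type*} [Group A]
    [Fintype A] (ψ : A →* D) (K : Subgroup D)
    (hψ : ∀ a, ψ a ∈ Subgroup.normalizer (K : Set D)) :
    Nat.card A ∣ ∑ a : A, fixCard X (K ⊔ Subgroup.zpowers (ψ a)) := by
  classical
  let Y := {x : X // ∀ k ∈ K, k • x = x}
  let act : MulAction A Y :=
    { smul := fun a x => ⟨ψ a • (x : X), fun k hk => by
        have h1 := x.2 _ ((Subgroup.mem_normalizer_iff.mp (inv_mem (hψ a)) k).mp hk)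
        rw [inv_inv] at h1
        calc k • ψ a • (x : X) = ψ a • ((ψ a)⁻¹ * k * ψ a) • (x : X) := by
              simp [mul_smul]
          _ = ψ a • (x : X) := by rw [h1]⟩
      one_smul := fun x => Subtype.ext (by show ψ 1 • (x : X) = x; rw [map_one, one_smul])
      mul_smul := fun a b x => Subtype.ext
        (by show ψ (a * b) • (x : X) = _; rw [map_mul, mul_smul]; rfl) }
  have := Fintype.ofFinite Y
  have := Fintype.ofFinite (MulAction.orbitRel.Quotient A Y)
  have key := MulAction.sum_card_fixedBy_eq_card_orbits_mul_card_group A Y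
  have e : ∀ a : A, fixCard X (K ⊔ Subgroup.zpowers (ψ a)) = Fintype.card (MulAction.fixedBy Y a) := by
    intro a
    rw [← Nat.card_eq_fintype_card, fixCard]
    refine Nat.card_congr
      { toFun := fun x => ⟨⟨x.1, fun k hk => x.2 k (Subgroup.mem_sup_left hk)⟩,
          Subtype.ext (x.2 _ (Subgroup.mem_sup_right (Subgroup.mem_zpowers _)))⟩
        invFun := fun y => ⟨y.1.1, ?_⟩
        left_inv := fun x => rfl
        right_inv := fun y => rfl }
    have hle : K ⊔ Subgroup.zpowers (ψ a) ≤ stabilizer D (y.1.1 : X) :=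
      sup_le (fun k hk => y.1.2 k hk) (Subgroup.zpowers_le.mpr (congrArg Subtype.val y.2))
    exact fun k hk => hle hk
  rw [Finset.sum_congr rfl (fun a _ => e a), key, Nat.card_eq_fintype_card]
  exact dvd_mul_left _ _

theorem card_dvd_sum_mark (n : Subgroup D → ℕ) {A : Type*} [Group A] [Fintype A] (ψ : A →* D)
    (K : Subgroup D) (hψ : ∀ a, ψ a ∈ Subgroup.normalizer (K : Set D)) :
    Nat.card A ∣ ∑ a : A, mark n (K ⊔ Subgroup.zpowers (ψ a)) := by
  have := Fintype.ofFinite (Subgroup D)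
  simp only [mark_eq_sum]
  rw [Finset.sum_comm]
  refine Finset.dvd_sum fun H _ => ?_
  rw [← Finset.mul_sum]
  exact dvd_mul_of_dvd_right (card_dvd_sum_fixCard ψ K hψ) _

end CfsgLib.Fusion
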