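import Mathlib
import Cfsg.Agent.Lib.Fusion.CosetMarks
import Cfsg.Agent.Lib.Fusion.BisetGraph

/-! A saturated fusion system has a characteristic biset. -/
set_option autoImplicit false

namespace CfsgLib.Fusion

open Cfsg Cfsg.FusionSystem

universe u

/-- Conjugacy of subgroups. -/
def conjSetoid (G : Type*) [Group G] : Setoid (Subgroup G) where
  r K L := ∃ d : G, K.map (MulAut.conj d).toMonoidHom = L
  iseqv :=
    { refl := fun K => ⟨1, by rw [_root_.map_one]; exact K.map_id⟩
      symm := by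
        rintro K _ ⟨d, rfl⟩
        refine ⟨d⁻¹, ?_⟩
        rw [Subgroup.map_map]
        convert K.map_id
        ext x
        simp [mul_assoc]
      trans := by
        rintro K _ _ ⟨d, rfl⟩ ⟨e, rfl⟩
        refine ⟨e * d, ?_⟩
        rw [Subgroup.map_map]
        congr 1
        ext x
        simp [mul_assoc] }

/-- The chosen representative of a class of subgroups. -/
noncomputable def crep {G : Type*} [Group G] (K : Subgroup G) : Subgroup G :=
  (Quotient.mk (conjSetoid G) K).out

theorem crep_spec {G : Type*} [Group G] (K : Subgroup G) :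
    ∃ d : G, K.map (MulAut.conj d).toMonoidHom = crep K :=
  (conjSetoid G).symm' (Quotient.exact (Quotient.out_eq _))

theorem crep_conj {G : Type*} [Group G] (K : Subgroup G) (d : G) :
    crep (K.map (MulAut.conj d).toMonoidHom) = crep K :=
  congrArg Quotient.out (Quotient.sound ((conjSetoid G).symm' ⟨d, rfl⟩))

theorem crep_idem {G : Type*} [Group G] (K : Subgroup G) : crep (crep K) = crep K :=
  congrArg Quotient.out (Quotient.out_eq _)

variable {Ω : Type u} [Group Ω] {S : Subgroup Ω} [Finite S] {F : FusionSystem S}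

theorem InFam.card_le {K : Subgroup (S × S)} (h : InFam F K) : Nat.card K ≤ Nat.card S := by
  rw [← h.card_imS]
  exact Subgroup.card_le_card_group _

theorem fixCard_self_conj (K : Subgroup (S × S)) (a : S × S) :
    fixCard ((S × S) ⧸ K.map (MulAut.conj a).toMonoidHom) (K.map (MulAut.conj a).toMonoidHom) =
      fixCard ((S × S) ⧸ K) K := by
  refine Nat.eq_of_mul_eq_mul_right (Nat.card_pos (α := K)) ?_
  have h1 := fixCard_self (K.map (MulAut.conj a).toMonoidHom)
  have h2 : Nat.card (K.map (MulAut.conj a).toMonoidHom) = Nat.card K :=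
    (Nat.card_congr (K.equivMapOfInjective _ (MulAut.conj a).injective).toEquiv).symm
  rw [h2, ← Subgroup.map_equiv_normalizer_eq K (MulAut.conj a),
    ← Nat.card_congr (Subgroup.equivMapOfInjective _ _ (MulAut.conj a).injective).toEquiv] at h1
  rw [h1, fixCard_self]

/-- Marks agree at a graph and at the inclusion of its image, for graphs larger than `m`. -/
def StableAbove (F : FusionSystem S) (n : Subgroup (S × S) → ℕ) (m : ℕ) : Prop :=
  ∀ K, InFam F K → m < Nat.card K → mark n K = mark n (diag (imS K))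

/-- Only graphs occur. -/
def Supported (F : FusionSystem S) (n : Subgroup (S × S) → ℕ) : Prop :=
  ∀ H, n H ≠ 0 → InFam F H

variable {n : Subgroup (S × S) → ℕ}

theorem mark_eq_zero (hn : Supported F n) {K : Subgroup (S × S)} (hK : ¬ InFam F K) :
    mark n K = 0 := by
  by_contra h
  obtain ⟨H, hH, d, hd⟩ := exists_of_mark_ne_zero h
  refine hK ?_
  obtain ⟨e, he⟩ := (conjSetoid (S × S)).symm' (⟨d, rfl⟩ :
    ∃ e : S × S, K.map (MulAut.conj e).toMonoidHom = K.map (MulAut.conj d).toMonoidHom)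
  exact he ▸ ((hn H hH).mono hd).conj e

theorem mark_pushLeft (hn : Supported F n) {m : ℕ} (hs : StableAbove F n m) {R : Subgroup Ω}
    {g : Ω → Ω} (hg : IsMor F R g) {K : Subgroup (S × S)} (hK : K ≤ leftDom S R)
    (hm : m < Nat.card K) : mark n (pushLeft hg K) = mark n K := by
  by_cases h : InFam F K
  · rw [hs _ ((inFam_pushLeft hK).mpr h) (by rwa [card_pushLeft hK]), imS_pushLeft hK, hs K h hm]
  · rw [mark_eq_zero hn h, mark_eq_zero hn (fun h' => h ((inFam_pushLeft hK).mp h'))]

theorem pushLeft_map {R : Subgroup Ω} {g : Ω → Ω} (hg : IsMor F R g)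
    (B : Subgroup (leftDom S R)) :
    pushLeft hg (B.map (leftDom S R).subtype) = B.map (leftMap hg) := by
  rw [pushLeft, Subgroup.subgroupOf,
    Subgroup.comap_map_eq_self_of_injective (leftDom S R).subtype_injective]

theorem fstDom_eq {K : Subgroup (S × S)} {P : Subgroup Ω} {f : Ω → Ω} (h : IsGraph F K P f) :
    (K.map (MonoidHom.fst S S)).map S.subtype = P := by
  refine le_antisymm ?_ fun x hx => ?_
  · rintro _ ⟨_, ⟨d, hd, rfl⟩, rfl⟩
    exact ((h.2 d).mp hd).1
  · exact ⟨_, ⟨(⟨x, h.1.le hx⟩, ⟨f x, h.1.mem hx⟩), (h.2 _).mpr ⟨hx, rfl⟩, rfl⟩, rfl⟩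

theorem mem_normalizer_map {G H : Type*} [Group G] [Group H] (φ : G →* H) {A : Subgroup G}
    {a : G} (ha : a ∈ Subgroup.normalizer (A : Set G)) :
    φ a ∈ Subgroup.normalizer (A.map φ : Set H) :=
  Subgroup.le_normalizer_map φ (Subgroup.mem_map_of_mem φ ha)

/-- The congruence that makes the stabilization step possible. -/
theorem exists_congr_target {p : ℕ} [Fact p.Prime] (hS : IsPGroup p S) (hF : F.IsSaturated p)
    (hn : Supported F n) {m : ℕ} (hs : StableAbove F n m) (Q : Subgroup S)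
    (hQ : Nat.card Q = m) :
    ∃ c, ∀ K, InFam F K → imS K = Q →
      mark n K ≤ c ∧ fixCard ((S × S) ⧸ K) K ∣ c - mark n K := by
  classical
  set Q' := Q.map S.subtype
  have hQ'S : Q' ≤ S := Subgroup.map_subtype_le Q
  obtain ⟨P₀, hP₀, hP₀n⟩ := exists_fullyNormalized F hQ'S
  obtain ⟨g₁, hg₁, hg₁i, -⟩ := exists_map_fullyNormalized hS hF hP₀n hP₀
  have hdQ : diag Q ≤ leftDom S (normalizerIn S Q') := fun d hd =>
    mem_leftDom.mpr (le_normalizerIn hQ'S (Subgroup.mem_map_of_mem _ (mem_diag.mp hd).1))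
  set K₀ := pushLeft hg₁ (diag Q) with hK₀
  have := Fintype.ofFinite (Subgroup (S × S))
  set N := ∑ L : Subgroup (S × S), mark n L with hN
  set w₀ := fixCard ((S × S) ⧸ K₀) K₀ with hw₀
  refine ⟨mark n K₀ + w₀ * N, fun K hK hKQ => ?_⟩
  obtain ⟨P, f, hf, hKf⟩ := id hK
  have hfQ : img P f = Q' := by rw [← imS_eq ⟨hf, hKf⟩, hKQ]
  have hfm : ∀ x ∈ P, f x ∈ normalizerIn S Q' := fun x hx =>
    le_normalizerIn hQ'S (hfQ ▸ mem_img_of_mem f hx)
  have hh : IsMor F P (g₁ ∘ f) := hf.comp hg₁ hfm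
  have hhi : img P (g₁ ∘ f) = P₀ := by rw [← hf.img_comp, hfQ, hg₁i]
  obtain ⟨g, hg, hgf⟩ :=
    (isReceptive_iff.mp (isFullyAutomized_of_normalized hS hF hP₀n).2).2 P _ hh hhi
  have hA : Subgroup.normalizer (K : Set (S × S)) ≤ leftDom S (nExt S P (g₁ ∘ f)) := by
    intro a ha
    refine mem_leftDom.mpr (mem_nExt.mpr ⟨a.1.2, ?_, ?_⟩)
    · have := mem_normalizer_map S.subtype (mem_normalizer_map (MonoidHom.fst S S) ha)
      rwa [fstDom_eq ⟨hf, hKf⟩] at this
    · have h2 : (a.2 : Ω) ∈ normalizerIn S Q' := by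
        refine mem_normalizerIn.mpr ⟨a.2.2, ?_⟩
        have := mem_normalizer_map S.subtype (mem_normalizer_map (MonoidHom.snd S S) ha)
        rw [show (K.map (MonoidHom.snd S S)).map S.subtype = Q' from
          congrArg (Subgroup.map S.subtype) hKQ] at this
        exact this
      refine ⟨g₁ a.2, hg₁.mem h2, fun x hx => ?_⟩
      have hc := (Subgroup.mem_normalizer_iff.mp ha _).mp
        ((hKf (⟨x, hf.le hx⟩, ⟨f x, hf.mem hx⟩)).mpr ⟨hx, rfl⟩)
      have e : f (cj (a.1 : Ω) x) = cj (a.2 : Ω) (f x) := ((hKf _).mp hc).2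
      show g₁ (f (cj (a.1 : Ω) x)) = cj (g₁ a.2) (g₁ (f x))
      rw [e]
      exact hg₁.map_conj h2 (hfm x hx)
  have hKle : K ≤ leftDom S (nExt S P (g₁ ∘ f)) := Subgroup.le_normalizer.trans hA
  have hpush : pushLeft hg K = K₀ := by
    ext d
    rw [hK₀, mem_pushLeft, mem_pushLeft]
    constructor
    · rintro ⟨c, hc, -, h2, h3⟩
      obtain ⟨hc1, hc2⟩ := (hKf c).mp hc
      refine ⟨(c.2, c.2), mem_diag.mpr ⟨hKQ ▸ ⟨c, hc, rfl⟩, rfl⟩, hc2 ▸ hfm _ hc1, ?_, h3⟩
      rw [← h2, hgf _ hc1, Function.comp_apply, hc2]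
    · rintro ⟨e, he, -, h2, h3⟩
      obtain ⟨he1, he2⟩ := mem_diag.mp he
      obtain ⟨c, hc, hce⟩ : ∃ c ∈ K, c.2 = e.1 := by
        rw [← hKQ] at he1
        exact he1
      obtain ⟨hc1, hc2⟩ := (hKf c).mp hc
      refine ⟨c, hc, mem_leftDom.mp (hKle hc), ?_, by rw [hce, he2, h3]⟩
      rw [hgf _ hc1, Function.comp_apply, hc2, hce, h2]
  set A := Subgroup.normalizer (K : Set (S × S)) with hAdef
  have hcard : Nat.card K₀ = Nat.card K := by rw [← hpush, card_pushLeft hKle]
  have hKm : Nat.card K = m := by rw [← hK.card_imS, hKQ, hQ]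
  have := Fintype.ofFinite A
  let ψ : A →* S × S := (leftMap hg).comp (Subgroup.inclusion hA)
  have hψn : ∀ a, ψ a ∈ Subgroup.normalizer (K₀ : Set (S × S)) := fun a => by
    rw [← hpush]
    refine mem_normalizer_map (leftMap hg) (Subgroup.mem_normalizer_iff.mpr fun c => ?_)
    exact Subgroup.mem_normalizer_iff.mp a.2 c
  have hψinj : Function.Injective ψ :=
    (leftMap_injective hg).comp (Subgroup.inclusion_injective hA)
  have hwpos : 0 < w₀ := fixCard_self_pos K₀
  set w := fixCard ((S × S) ⧸ K) K with hw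
  have hAcard : w * Nat.card K = Nat.card A := fixCard_self K
  have hdvd : w ∣ w₀ := by
    refine Nat.dvd_of_mul_dvd_mul_right (Nat.card_pos (α := K)) ?_
    rw [hAcard, ← hcard, hw₀, fixCard_self K₀,
      Nat.card_congr (MonoidHom.ofInjective hψinj).toEquiv]
    exact Subgroup.card_dvd_of_le (by rintro _ ⟨a, rfl⟩; exact hψn a)
  have h1 := card_dvd_sum_mark n A.subtype K fun a => a.2
  have h2 := card_dvd_sum_mark n ψ K₀ hψn
  have hterm : ∀ a : A, ((mark n (K₀ ⊔ Subgroup.zpowers (ψ a)) : ℕ) : ℤ)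
      - (mark n (K ⊔ Subgroup.zpowers (a : S × S)) : ℕ) =
      if (a : S × S) ∈ K then ((mark n K₀ : ℕ) : ℤ) - (mark n K : ℕ) else 0 := by
    intro a
    let a' : leftDom S (nExt S P (g₁ ∘ f)) := Subgroup.inclusion hA a
    let B := K.subgroupOf (leftDom S (nExt S P (g₁ ∘ f))) ⊔ Subgroup.zpowers a'
    have eB : B.map (leftDom S _).subtype = K ⊔ Subgroup.zpowers (a : S × S) := by
      rw [Subgroup.map_sup, Subgroup.map_subgroupOf_eq_of_le hKle, MonoidHom.map_zpowers]
      rfl
    have eB' : B.map (leftMap hg) = K₀ ⊔ Subgroup.zpowers (ψ a) := by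
      rw [Subgroup.map_sup, MonoidHom.map_zpowers, ← hpush]
      rfl
    by_cases ha : (a : S × S) ∈ K
    · rw [if_pos ha]
      have e1 : K ⊔ Subgroup.zpowers (a : S × S) = K :=
        sup_eq_left.mpr (Subgroup.zpowers_le.mpr ha)
      have e2 : K₀ ⊔ Subgroup.zpowers (ψ a) = K₀ := by
        refine sup_eq_left.mpr (Subgroup.zpowers_le.mpr ?_)
        rw [← hpush]
        exact Subgroup.mem_map_of_mem _ (show a' ∈ K.subgroupOf _ from ha)
      rw [e1, e2]
    · rw [if_neg ha, ← eB', ← pushLeft_map hg B,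
        mark_pushLeft hn hs hg (Subgroup.map_subtype_le B) ?_, eB, sub_self]
      rw [eB, ← hKm]
      by_contra hle
      have heq : K = K ⊔ Subgroup.zpowers (a : S × S) :=
        Subgroup.eq_of_le_of_card_ge le_sup_left (not_lt.mp hle)
      exact ha (heq ▸ Subgroup.mem_sup_right (Subgroup.mem_zpowers _))
  have h3 : (w : ℤ) ∣ (mark n K₀ : ℤ) - (mark n K : ℤ) := by
    have h4 : ((Nat.card A : ℕ) : ℤ) ∣
        (∑ a : A, ((mark n (K₀ ⊔ Subgroup.zpowers (ψ a)) : ℕ) : ℤ)) -
          ∑ a : A, ((mark n (K ⊔ Subgroup.zpowers (A.subtype a)) : ℕ) : ℤ) := by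
      refine dvd_sub ?_ ?_
      · exact_mod_cast h2
      · exact_mod_cast h1
    rw [← Finset.sum_sub_distrib] at h4
    simp only [Subgroup.coe_subtype, hterm] at h4
    rw [← Finset.sum_filter, Finset.sum_const, nsmul_eq_mul] at h4
    have hcnt : (Finset.univ.filter fun a : A => (a : S × S) ∈ K).card = Nat.card K := by
      rw [← Fintype.card_subtype, ← Nat.card_eq_fintype_card]
      exact Nat.card_congr (Subgroup.subgroupOfEquivOfLe
        (Subgroup.le_normalizer (H := K))).toEquiv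
    rw [hcnt, ← hAcard, Nat.cast_mul, mul_comm (w : ℤ)] at h4
    exact (mul_dvd_mul_iff_left (Nat.cast_ne_zero.mpr (Nat.card_pos (α := K)).ne')).mp h4
  have hle : mark n K ≤ mark n K₀ + w₀ * N := by
    have h5 : mark n K ≤ N :=
      Finset.single_le_sum (f := fun L => mark n L) (fun _ _ => Nat.zero_le _) (Finset.mem_univ K)
    have h6 : N ≤ w₀ * N := Nat.le_mul_of_pos_left _ hwpos
    omega
  refine ⟨hle, Int.natCast_dvd_natCast.mp ?_⟩
  rw [Nat.cast_sub hle, Nat.cast_add, Nat.cast_mul, add_sub_right_comm]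
  exact dvd_add h3 ((Int.natCast_dvd_natCast.mpr hdvd).mul_right _)

theorem mark_congr_of_small {δ : Subgroup (S × S) → ℕ} {m : ℕ}
    (hδ : ∀ H : Subgroup (S × S), δ H ≠ 0 → Nat.card H = m) {K : Subgroup (S × S)} (hK : m < Nat.card K) :
    mark δ K = 0 := by
  by_contra h
  obtain ⟨H, hH, d, hd⟩ := exists_of_mark_ne_zero h
  have h1 := Subgroup.card_le_of_le hd
  rw [← Nat.card_congr (K.equivMapOfInjective _ (MulAut.conj d).injective).toEquiv, hδ H hH] at h1
  omega

theorem mark_rep {δ : Subgroup (S × S) → ℕ} {m : ℕ}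
    (hδ : ∀ H : Subgroup (S × S), δ H ≠ 0 → Nat.card H = m ∧ crep H = H) {K : Subgroup (S × S)}
    (hK : Nat.card K = m) :
    mark δ K = δ (crep K) * fixCard ((S × S) ⧸ crep K) (crep K) := by
  have := Fintype.ofFinite (Subgroup (S × S))
  obtain ⟨d, hd⟩ := crep_spec K
  rw [← mark_conj δ d K, hd, mark_eq_sum]
  refine Finset.sum_eq_single _ (fun H _ hne => ?_) (fun h => absurd (Finset.mem_univ _) h)
  by_contra h
  obtain ⟨hH, hf⟩ := mul_ne_zero_iff.mp h
  obtain ⟨hHm, hHr⟩ := hδ H hH
  refine hf (fixCard_coset_eq_zero ?_ ?_)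
  · rw [hHm, ← hK, ← hd,
      ← Nat.card_congr (K.equivMapOfInjective _ (MulAut.conj d).injective).toEquiv]
  · rintro ⟨e, he⟩
    refine hne ?_
    rw [← hHr, ← he, crep_conj, crep_idem]

/-- One stabilization step. -/
theorem exists_step {p : ℕ} [Fact p.Prime] (hS : IsPGroup p S) (hF : F.IsSaturated p)
    (hn : Supported F n) {m : ℕ} (hs : StableAbove F n m) :
    ∃ n', Supported F n' ∧ StableAbove F n' (m - 1) ∧
      ∀ H : Subgroup (S × S), Nat.card H ≠ m → n' H = n H := by
  classical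
  have hex : ∀ Q : Subgroup S, ∃ c, Nat.card Q = m → ∀ K, InFam F K → imS K = Q →
      mark n K ≤ c ∧ fixCard ((S × S) ⧸ K) K ∣ c - mark n K := fun Q => by
    by_cases hQ : Nat.card Q = m
    · obtain ⟨c, hc⟩ := exists_congr_target hS hF hn hs Q hQ
      exact ⟨c, fun _ => hc⟩
    · exact ⟨0, fun h => absurd h hQ⟩
  choose c hc using hex
  let δ : Subgroup (S × S) → ℕ := fun H => if InFam F H ∧ Nat.card H = m ∧ crep H = H then
    (c (crep (imS H)) - mark n H) / fixCard ((S × S) ⧸ H) H else 0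
  have hδ : ∀ H, δ H ≠ 0 → InFam F H ∧ Nat.card H = m ∧ crep H = H := fun H h => by
    by_contra h'
    exact h (if_neg h')
  have key : ∀ K, InFam F K → Nat.card K = m →
      mark (fun H => n H + δ H) K = c (crep (imS K)) := by
    intro K hK hKm
    obtain ⟨d, hd⟩ := crep_spec K
    have hKr : InFam F (crep K) := hd ▸ hK.conj d
    have hrm : Nat.card (crep K) = m := by
      rw [← hd, ← Nat.card_congr (K.equivMapOfInjective _ (MulAut.conj d).injective).toEquiv, hKm]
    have himg : crep (imS (crep K)) = crep (imS K) := by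
      rw [← hd, imS_conj, crep_conj]
    obtain ⟨s, hs'⟩ := crep_spec (imS (crep K))
    have himg' : imS ((crep K).map (MulAut.conj ((1 : S), s)).toMonoidHom) =
        crep (imS (crep K)) := by rw [imS_conj, hs']
    have hfam' := hKr.conj ((1 : S), s)
    obtain ⟨hle, hdvd⟩ := hc (crep (imS (crep K))) (by
      rw [← himg', hfam'.card_imS,
        ← Nat.card_congr ((crep K).equivMapOfInjective _
          (MulAut.conj ((1 : S), s)).injective).toEquiv, hrm]) _ hfam' himg'
    rw [mark_conj, fixCard_self_conj] at hdvd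
    rw [mark_conj] at hle
    rw [mark_add, mark_rep (fun H h => (hδ H h).2) hKm]
    have hKe : mark n K = mark n (crep K) := by rw [← hd, mark_conj]
    simp only [δ, if_pos (show InFam F (crep K) ∧ Nat.card (crep K) = m ∧
      crep (crep K) = crep K from ⟨hKr, hrm, crep_idem K⟩)]
    rw [Nat.div_mul_cancel hdvd, hKe, Nat.add_sub_cancel' hle, himg]
  refine ⟨fun H => n H + δ H, fun H h => ?_, fun K hK hlt => ?_, fun H h => ?_⟩
  · by_cases h' : n H = 0
    · exact (hδ H (by simpa [h'] using h)).1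
    · exact hn H h'
  · have hd : InFam F (diag (imS K)) := inFam_diag F _
    have hcd : Nat.card (diag (imS K)) = Nat.card K := by
      rw [← hd.card_imS, imS_diag, hK.card_imS]
    rcases Nat.lt_or_ge m (Nat.card K) with h | h
    · rw [mark_add, mark_add, mark_congr_of_small (fun H h' => (hδ H h').2.1) h,
        mark_congr_of_small (fun H h' => (hδ H h').2.1) (hcd.ge.trans_lt' h), hs K hK h]
    · have he : Nat.card K = m := by omega
      rw [key K hK he, key _ hd (hcd.trans he), imS_diag]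
  · have : δ H = 0 := by
      by_contra h'
      exact h (hδ H h').2.1
    simp [this]

/-- The graph of an automorphism of `S`. -/
def autGraph (α : MulAut S) : Subgroup (S × S) :=
  ((MonoidHom.id S).prod (α : S ≃* S).toMonoidHom).range

theorem mem_autGraph {α : MulAut S} {d : S × S} : d ∈ autGraph α ↔ α d.1 = d.2 :=
  ⟨fun ⟨s, e⟩ => e ▸ rfl, fun e => ⟨d.1, Prod.ext rfl e⟩⟩

theorem card_autGraph (α : MulAut S) : Nat.card (autGraph α) = Nat.card S :=
  (Nat.card_congr (MonoidHom.ofInjective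
    (fun _ _ e => congrArg Prod.fst e :
      Function.Injective ((MonoidHom.id S).prod (α : S ≃* S).toMonoidHom))).toEquiv).symm

theorem inFam_autGraph {α : MulAut S} (hα : α ∈ F.autGroup S) : InFam F (autGraph α) :=
  ⟨S, autFun α, isMor_autFun le_rfl hα, fun d => by
    rw [mem_autGraph, autFun_coe, Subtype.coe_inj]
    exact (and_iff_right d.1.2).symm⟩

theorem exists_autGraph {K : Subgroup (S × S)} (hK : InFam F K)
    (hc : Nat.card K = Nat.card S) : ∃ α ∈ F.autGroup S, autGraph α = K := by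
  obtain ⟨P, f, hf, hKf⟩ := id hK
  have hcP : Nat.card P = Nat.card S := by
    rw [← hf.card_img, ← imS_eq ⟨hf, hKf⟩,
      ← Nat.card_congr ((imS K).equivMapOfInjective _ S.subtype_injective).toEquiv,
      hK.card_imS, hc]
  obtain rfl := eq_of_le_of_card le_rfl hf.le hcP.ge
  obtain ⟨α, hα, hαe⟩ := exists_aut hf (eq_of_le_of_card le_rfl hf.img_le hf.card_img.ge)
  refine ⟨α, hα, Subgroup.ext fun d => ?_⟩
  rw [mem_autGraph, hKf, ← hαe _ d.1.2, autFun_coe, Subtype.coe_inj]
  exact (and_iff_right d.1.2).symm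

theorem crep_autGraph_eq_iff {α β : MulAut S} :
    crep (autGraph α) = crep (autGraph β) ↔ α⁻¹ * β ∈ Inn S := by
  constructor
  · intro h
    obtain ⟨⟨a, b⟩, hab⟩ : (conjSetoid _).r (autGraph α) (autGraph β) := by
      have h1 := congrArg (Quotient.mk (conjSetoid (S × S))) h
      simp only [crep, Quotient.out_eq] at h1
      exact Quotient.exact h1
    refine ⟨α⁻¹ b * a⁻¹, MulEquiv.ext fun x => ?_⟩
    have h1 := mem_autGraph.mp (hab.le (Subgroup.mem_map_of_mem _
      (mem_autGraph.mpr rfl : ((a⁻¹ * x * a : S), α (a⁻¹ * x * a)) ∈ autGraph α)))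
    have h2 : β x = b * α (a⁻¹ * x * a) * b⁻¹ := by simpa [mul_assoc] using h1
    show (α⁻¹ b * a⁻¹) * x * (α⁻¹ b * a⁻¹)⁻¹ = α⁻¹ (β x)
    rw [h2, map_mul, map_mul, map_inv, MulAut.inv_apply_self]
    group
  · rintro ⟨c, hc⟩
    refine (crep_conj _ ((c⁻¹ : S), (1 : S))).symm.trans (congrArg crep ?_)
    have hβ : ∀ x : S, β x = α (c * x * c⁻¹) := fun x => by
      have h1 : c * x * c⁻¹ = α⁻¹ (β x) := DFunLike.congr_fun hc x
      rw [h1, MulAut.apply_inv_self]
    ext d
    constructor
    · rintro ⟨e, he, rfl⟩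
      have he' := mem_autGraph.mp he
      rw [mem_autGraph, hβ]
      simp [mul_assoc, he']
    · intro hd
      have hd' := mem_autGraph.mp hd
      refine ⟨((c * d.1 * c⁻¹ : S), d.2), mem_autGraph.mpr ?_, ?_⟩
      · rw [← hd', hβ]
      · simp [mul_assoc]

theorem fixCard_autGraph (α : MulAut S) :
    fixCard ((S × S) ⧸ autGraph α) (autGraph α) =
      fixCard ((S × S) ⧸ (diag (⊤ : Subgroup S) : Subgroup (S × S))) (diag (⊤ : Subgroup S)) := by
  let e : (S × S) ≃* (S × S) := MulEquiv.prodCongr α (MulEquiv.refl S)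
  have he : (autGraph α).map e.toMonoidHom = diag ⊤ := by
    ext d
    rw [mem_diag]
    constructor
    · rintro ⟨c, hc, rfl⟩
      exact ⟨trivial, mem_autGraph.mp hc⟩
    · rintro ⟨-, hd⟩
      exact ⟨(α⁻¹ d.1, d.2), mem_autGraph.mpr ((MulAut.apply_inv_self _ α d.1).trans hd),
        Prod.ext (MulAut.apply_inv_self _ α d.1) rfl⟩
  refine Nat.eq_of_mul_eq_mul_right (Nat.card_pos (α := autGraph α)) ?_
  rw [fixCard_self, Nat.card_congr ((autGraph α).equivMapOfInjective e.toMonoidHom e.injective).toEquiv, he,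
    fixCard_self, ← he,
    ← Subgroup.map_equiv_normalizer_eq (autGraph α) e]
  exact Nat.card_congr (Subgroup.equivMapOfInjective _ e.toMonoidHom e.injective).toEquiv

/-- Multiplicities with the stability property and total of `p`-prime multiple of `|S|`. -/
theorem exists_stable_marks {p : ℕ} [hp : Fact p.Prime] (hS : IsPGroup p S)
    (hF : F.IsSaturated p) :
    ∃ (n : Subgroup (S × S) → ℕ) (k : ℕ), Supported F n ∧ StableAbove F n 0 ∧ ¬ p ∣ k ∧
      ∑ᶠ H, n H * H.index = k * Nat.card S := by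
  classical
  have := Fintype.ofFinite (Subgroup (S × S))
  let n₀ : Subgroup (S × S) → ℕ := fun H =>
    if InFam F H ∧ Nat.card H = Nat.card S ∧ crep H = H then 1 else 0
  have hn₀ : ∀ H, n₀ H ≠ 0 → InFam F H ∧ Nat.card H = Nat.card S ∧ crep H = H := fun H h => by
    by_contra h'
    exact h (if_neg h')
  have htop : ∀ K, InFam F K → Nat.card K = Nat.card S →
      mark n₀ K = fixCard ((S × S) ⧸ (diag (⊤ : Subgroup S) : Subgroup (S × S))) (diag (⊤ : Subgroup S)) := by
    intro K hK hKc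
    obtain ⟨d, hd⟩ := crep_spec K
    have hKr : InFam F (crep K) := hd ▸ hK.conj d
    have hrc : Nat.card (crep K) = Nat.card S := by
      rw [← hd, ← Nat.card_congr (K.equivMapOfInjective _ (MulAut.conj d).injective).toEquiv, hKc]
    rw [mark_rep (fun H h => (hn₀ H h).2) hKc]
    simp only [n₀, if_pos (show InFam F (crep K) ∧ Nat.card (crep K) = Nat.card S ∧
      crep (crep K) = crep K from ⟨hKr, hrc, crep_idem K⟩), one_mul]
    obtain ⟨α, -, e⟩ := exists_autGraph hKr hrc
    rw [← e, fixCard_autGraph]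
  have hbase : StableAbove F n₀ (Nat.card S - 1) := fun K hK hlt => by
    have hc : Nat.card K = Nat.card S := le_antisymm hK.card_le (by omega)
    rw [htop K hK hc, htop _ (inFam_diag F _)
      (by rw [← (inFam_diag F _).card_imS, imS_diag, hK.card_imS, hc])]
  have hall : ∀ j, ∃ n, Supported F n ∧ StableAbove F n (Nat.card S - 1 - j) ∧
      ∀ H : Subgroup (S × S), Nat.card H = Nat.card S → n H = n₀ H := by
    intro j
    induction j with
    | zero => exact ⟨n₀, fun H h => (hn₀ H h).1, hbase, fun _ _ => rfl⟩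
    | succ j ih =>
      obtain ⟨n, h1, h2, h3⟩ := ih
      obtain ⟨n', h1', h2', h3'⟩ := exists_step hS hF h1 h2
      refine ⟨n', h1', by rwa [Nat.sub_add_eq], fun H hH => ?_⟩
      rw [h3' H ?_, h3 H hH]
      have := Nat.card_pos (α := S)
      omega
  obtain ⟨n, h1, h2, h3⟩ := hall (Nat.card S)
  rw [show Nat.card S - 1 - Nat.card S = 0 by omega] at h2
  obtain ⟨N, hN⟩ := (IsPGroup.iff_card.mp hS)
  have hterm : ∀ H : Subgroup (S × S), Nat.card H ≠ Nat.card S →
      Nat.card S * p ∣ n H * H.index := by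
    intro H hne
    by_cases h0 : n H = 0
    · simp [h0]
    refine dvd_mul_of_dvd_right ?_ _
    have hlt : Nat.card H < Nat.card S := lt_of_le_of_ne (h1 H h0).card_le hne
    have hmul := H.index_mul_card
    rw [Nat.card_prod, hN, ← pow_add] at hmul
    obtain ⟨i, -, hi⟩ := (Nat.dvd_prime_pow hp.out).mp (Dvd.intro_left _ hmul)
    rw [hi, hN] at hlt
    have hiN : i < N := (Nat.pow_lt_pow_iff_right hp.out.one_lt).mp hlt
    rw [hi, show N + N = (N + N - i) + i by omega, pow_add] at hmul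
    rw [Nat.eq_of_mul_eq_mul_right (pow_pos hp.out.pos i) hmul, hN, ← pow_succ]
    exact Nat.pow_dvd_pow p (by omega)
  set T : Finset (Subgroup (S × S)) :=
    Finset.univ.filter (fun H => InFam F H ∧ Nat.card H = Nat.card S ∧ crep H = H) with hT
  have hsum : ∑ H ∈ Finset.univ.filter (fun H : Subgroup (S × S) => Nat.card H = Nat.card S),
      n H * H.index =
      T.card * Nat.card S := by
    rw [Finset.sum_congr rfl (g := fun H => n₀ H * Nat.card S) fun H hH => ?_]
    · rw [← Finset.sum_mul, Finset.sum_boole, Finset.filter_filter]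
      congr 1
      simp only [Nat.cast_id, hT]
      exact congrArg Finset.card (Finset.filter_congr fun H _ => by tauto)
    · have hc : Nat.card H = Nat.card S := (Finset.mem_filter.mp hH).2
      have hmul := H.index_mul_card
      rw [Nat.card_prod, hc] at hmul
      rw [h3 H hc, Nat.eq_of_mul_eq_mul_right Nat.card_pos hmul]
  obtain ⟨t, ht⟩ : Nat.card S * p ∣
      ∑ H ∈ Finset.univ.filter (fun H : Subgroup (S × S) => ¬ Nat.card H = Nat.card S),
        n H * H.index :=
    Finset.dvd_sum fun H hH => hterm H (Finset.mem_filter.mp hH).2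
  refine ⟨n, T.card + p * t, h1, h2, ?_, ?_⟩
  · rw [Nat.dvd_add_left (Dvd.intro t rfl)]
    obtain ⟨R, hR⟩ := (isFullyAutomized_of_normalized hS hF (isFullyNormalized_self F)).1.2
    have := finite_mulAut (P := S) (le_refl S)
    have hidx : ¬ p ∣ ((Inn S).subgroupOf (F.autGroup S)).index := by
      rw [inn_eq_autInducedBy, ← hR]
      exact R.not_dvd_index
    convert hidx using 2
    rw [Subgroup.index, ← Nat.card_eq_finsetCard]
    refine (Nat.card_congr (Equiv.ofBijective (fun q : F.autGroup S ⧸ _ =>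
      Quotient.liftOn' q (fun α : F.autGroup S => (⟨crep (autGraph α.1), ?_⟩ : T)) ?_) ⟨?_, ?_⟩)).symm
    · refine Finset.mem_filter.mpr ⟨Finset.mem_univ _, ?_, ?_, crep_idem _⟩
      · obtain ⟨d, hd⟩ := crep_spec (autGraph α.1)
        exact hd ▸ (inFam_autGraph α.2).conj d
      · obtain ⟨d, hd⟩ := crep_spec (autGraph α.1)
        rw [← hd, ← Nat.card_congr ((autGraph α.1).equivMapOfInjective _
          (MulAut.conj d).injective).toEquiv, card_autGraph]
    · intro α β hαβ
      rw [QuotientGroup.leftRel_apply, Subgroup.mem_subgroupOf] at hαβ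
      exact Subtype.ext (crep_autGraph_eq_iff.mpr hαβ)
    · intro q r
      induction q using Quotient.inductionOn' with | _ α => ?_
      induction r using Quotient.inductionOn' with | _ β => ?_
      intro h
      refine Quotient.sound' ?_
      rw [QuotientGroup.leftRel_apply, Subgroup.mem_subgroupOf]
      exact crep_autGraph_eq_iff.mp (congrArg Subtype.val h)
    · rintro ⟨H, hH⟩
      obtain ⟨hfam, hc, hr⟩ := (Finset.mem_filter.mp hH).2
      obtain ⟨α, hα, rfl⟩ := exists_autGraph hfam hc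
      exact ⟨Quotient.mk'' ⟨α, hα⟩, Subtype.ext hr⟩
  · rw [finsum_eq_sum_of_fintype,
      ← Finset.sum_filter_add_sum_filter_not _ (fun H : Subgroup (S × S) => Nat.card H = Nat.card S), hsum, ht]
    ring

/-- A characteristic biset of the system: the pairs `(a, b)` act, `a` on the left. -/
structure CharBiset (F : FusionSystem S) (p : ℕ) : Type (u + 1) where
  X : Type u
  act : MulAction (S × S) X
  finite : Finite X
  k : ℕ
  not_dvd : ¬ p ∣ k
  card_eq : Nat.card X = k * Nat.card S
  inFam : ∀ x : X, InFam F (MulAction.stabilizer (S × S) x)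
  twist : ∀ P f, IsMor F P f → ∃ β : X ≃ X, ∀ a b a' : S, (a : Ω) ∈ P → (a' : Ω) = f a →
    ∀ x, β ((a, b) • x) = (a', b) • β x

theorem fixCard_sigma {G : Type*} [Group G] [Finite G] (n : Subgroup G → ℕ) (K : Subgroup G) :
    fixCard (Σ i : (Σ H : Subgroup G, Fin (n H)), G ⧸ i.1) K = mark n K := by
  have := Fintype.ofFinite (Subgroup G)
  have e : fixCard (Σ i : (Σ H : Subgroup G, Fin (n H)), G ⧸ i.1) K =
      Nat.card (Σ i : (Σ H : Subgroup G, Fin (n H)),
        {x : G ⧸ i.1 // ∀ k ∈ K, k • x = x}) :=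
    Nat.card_congr
      { toFun := fun x => ⟨x.1.1, x.1.2, fun k hk => eq_of_heq (Sigma.mk.inj (x.2 k hk)).2⟩
        invFun := fun y => ⟨⟨y.1, y.2.1⟩, fun k hk => congrArg (Sigma.mk y.1) (y.2.2 k hk)⟩
        left_inv := fun x => rfl
        right_inv := fun y => rfl }
  rw [e, Nat.card_sigma, Fintype.sum_sigma, mark_eq_sum]
  refine Finset.sum_congr rfl fun H _ => ?_
  show ∑ _i : Fin (n H), fixCard (G ⧸ H) K = _
  simp

theorem exists_charBiset {p : ℕ} [Fact p.Prime] (hS : IsPGroup p S) (hF : F.IsSaturated p) :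
    Nonempty (CharBiset F p) := by
  classical
  obtain ⟨n, k, hn, hs, hk, hsum⟩ := exists_stable_marks hS hF
  let X := Σ i : (Σ H : Subgroup (S × S), Fin (n H)), (S × S) ⧸ i.1
  have := Fintype.ofFinite (Subgroup (S × S))
  refine ⟨⟨X, inferInstance, inferInstance, k, hk, ?_, ?_, ?_⟩⟩
  · rw [← hsum, finsum_eq_sum_of_fintype]
    show Nat.card (Σ i : (Σ H : Subgroup (S × S), Fin (n H)), (S × S) ⧸ i.1) = _
    rw [Nat.card_sigma, Fintype.sum_sigma]
    simp [Subgroup.index]
  · rintro ⟨⟨H, i⟩, x⟩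
    obtain ⟨d, rfl⟩ := QuotientGroup.mk_surjective x
    refine ((hn H (Fin.pos i).ne').conj d).mono fun c hc => ⟨d⁻¹ * c * d, ?_, by simp [mul_assoc]⟩
    have h1 : c • ((d : S × S) : (S × S) ⧸ H) = (d : (S × S) ⧸ H) :=
      eq_of_heq (Sigma.mk.inj (MulAction.mem_stabilizer_iff.mp hc)).2
    have := H.inv_mem (QuotientGroup.eq.mp h1)
    simpa [mul_assoc] using this
  · intro P f hf
    let L := leftDom S P
    let a1 : MulAction L X := MulAction.compHom X L.subtype
    let a2 : MulAction L X := MulAction.compHom X (leftMap hf)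
    have hmarks : ∀ B : Subgroup L, (letI := a1; fixCard X B) = (letI := a2; fixCard X B) := by
      intro B
      have e1 : (letI := a1; fixCard X B) = fixCard X (B.map L.subtype) :=
        Nat.card_congr (Equiv.subtypeEquivRight fun x =>
          ⟨by rintro h _ ⟨b, hb, rfl⟩; exact h b hb, fun h b hb => h _ ⟨b, hb, rfl⟩⟩)
      have e2 : (letI := a2; fixCard X B) = fixCard X (B.map (leftMap hf)) :=
        Nat.card_congr (Equiv.subtypeEquivRight fun x =>
          ⟨by rintro h _ ⟨b, hb, rfl⟩; exact h b hb, fun h b hb => h _ ⟨b, hb, rfl⟩⟩)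
      rw [e1, e2, fixCard_sigma, fixCard_sigma, ← pushLeft_map hf B,
        mark_pushLeft hn hs hf (Subgroup.map_subtype_le B) Nat.card_pos]
    obtain ⟨β, hβ⟩ := @exists_equiv_of_fixCard L _ _ (Nat.card X) X X a1 a2 _ _ rfl hmarks
    refine ⟨β, fun a b a' ha ha' x => ?_⟩
    have h := hβ ⟨(a, b), mem_leftDom.mpr ha⟩ x
    have e : leftMap hf ⟨(a, b), mem_leftDom.mpr ha⟩ = (a', b) :=
      Prod.ext (Subtype.ext ha'.symm) rfl
    rw [← e]
    exact h

end CfsgLib.Fusion
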