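import Mathlib
import Cfsg.Agent.Lib.Fusion.Alperin
import Cfsg.Agent.Lib.Fusion.Normal
import Cfsg.Agent.Lib.Transfer.NormalPComplement

/-! The hyperfocal subgroup. -/
set_option autoImplicit false

namespace CfsgLib.Fusion

open Cfsg Cfsg.FusionSystem

variable {Ω : Type*} [Group Ω] {S P : Subgroup Ω} {F : FusionSystem S} {p : ℕ}

theorem diff_mem_of_coprime {A : Subgroup (MulAut P)} {H : Subgroup Ω}
    (h : ∀ β ∈ A, (orderOf β).Coprime p → ∀ x ∈ P, x⁻¹ * autFun β x ∈ H) {β : A}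
    (hβ : β ∈ pResidual p A) : ∀ x ∈ P, x⁻¹ * autFun (β : MulAut P) x ∈ H := by
  unfold pResidual at hβ
  induction hβ using Subgroup.closure_induction with
  | mem b hb => exact h b b.2 (by rw [Subgroup.orderOf_coe]; exact hb)
  | one => intro x hx; simp [autFun_one hx]
  | mul a b _ _ iha ihb =>
    intro x hx
    rw [Subgroup.coe_mul, autFun_mul _ _ hx]
    have := H.mul_mem (ihb x hx) (iha _ (autFun_mem (b : MulAut P) hx))
    simpa [mul_assoc] using this
  | inv a _ iha =>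
    intro x hx
    have := H.inv_mem (iha _ (autFun_mem (a : MulAut P)⁻¹ hx))
    rw [autFun_inv_right _ hx] at this
    simpa using this

theorem hyp_le {H : Subgroup Ω} (h : ∀ (P : Subgroup Ω), P ≤ S → ∀ α ∈ F.autGroup P,
    (orderOf α).Coprime p → ∀ x ∈ P, x⁻¹ * autFun α x ∈ H) : F.hyperfocalSubgroup p ≤ H := by
  refine (Subgroup.closure_le _).mpr ?_
  rintro _ ⟨P, α, x, hP, hα, rfl⟩
  rw [← autFun_coe]
  exact diff_mem_of_coprime (h P hP) hα x x.2

theorem hyp_gen_pResidual (hP : P ≤ S) {α : F.autGroup P}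
    (hα : α ∈ pResidual p (F.autGroup P)) {x : Ω} (hx : x ∈ P) :
    x⁻¹ * autFun (α : MulAut P) x ∈ F.hyperfocalSubgroup p :=
  Subgroup.subset_closure ⟨P, α, ⟨x, hx⟩, hP, hα, by rw [autFun_of_mem _ hx]⟩

theorem hyp_gen (hP : P ≤ S) {α : MulAut P} (hα : α ∈ F.autGroup P)
    (hc : (orderOf α).Coprime p) {x : Ω} (hx : x ∈ P) :
    x⁻¹ * autFun α x ∈ F.hyperfocalSubgroup p :=
  hyp_gen_pResidual hP (α := ⟨α, hα⟩)
    (Subgroup.subset_closure (by rw [Set.mem_setOf_eq, Subgroup.orderOf_mk]; exact hc)) hx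

theorem hyp_le_top : F.hyperfocalSubgroup p ≤ S :=
  hyp_le fun _ hP α _ _ _ hx => S.mul_mem (S.inv_mem (hP hx)) (hP (autFun_mem α hx))

theorem hyp_conj_mem [Finite S] {s : Ω} (hs : s ∈ S) {z : Ω} (hz : z ∈ F.hyperfocalSubgroup p) :
    cj s z ∈ F.hyperfocalSubgroup p := by
  have key : F.hyperfocalSubgroup p ≤
      (F.hyperfocalSubgroup p).comap (MulAut.conj s).toMonoidHom := hyp_le fun P hP α hα hc x hx => by
    show cj s (x⁻¹ * autFun α x) ∈ F.hyperfocalSubgroup p
    have hm := isMor_autFun hP hα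
    set P' := img P (cj s) with hP'
    have hcs := isMor_cj F hP hs
    obtain ⟨g, hg, hgl, hgr, hgi⟩ := hcs.inverse
    have hP'S : P' ≤ S := hcs.img_le
    have hmem : ∀ y ∈ P', g y ∈ P := fun y hy => hgi ▸ mem_img_of_mem g hy
    have hcomp : IsMor F P' (cj s ∘ autFun α ∘ g) :=
      (hg.comp hm hmem).comp hcs fun y hy => autFun_mem α (hmem y hy)
    obtain ⟨β, hβ, hβe⟩ := exists_aut hcomp (hcomp.img_eq_self fun y hy =>
      mem_img_of_mem _ (autFun_mem α (hmem y hy)))
    have hpow : ∀ n : ℕ, ∀ y ∈ P, autFun (β ^ n) (cj s y) = cj s (autFun (α ^ n) y) := by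
      intro n
      induction n with
      | zero => intro y hy; simp [autFun_one hy, autFun_one (mem_img_of_mem (cj s) hy)]
      | succ n ih =>
        intro y hy
        have hy' : cj s y ∈ P' := mem_img_of_mem _ hy
        rw [pow_succ, pow_succ, autFun_mul _ _ hy', autFun_mul _ _ hy, hβe _ hy']
        show autFun (β ^ n) (cj s (autFun α (g (cj s y)))) = _
        rw [hgl y hy, ih _ (autFun_mem α hy)]
    have hdvd : β ^ orderOf α = 1 := autFun_inj fun y hy => by
      obtain ⟨y₀, hy₀, rfl⟩ := hcs.mem_img.mp hy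
      rw [hpow _ y₀ hy₀, pow_orderOf_eq_one, autFun_one hy₀, autFun_one hy]
    have hβc := Nat.Coprime.coprime_dvd_left (orderOf_dvd_of_pow_eq_one hdvd) hc
    have := hyp_gen hP'S hβ hβc (mem_img_of_mem (cj s) hx)
    have h1 := hpow 1 x hx
    rw [pow_one, pow_one] at h1
    rw [h1] at this
    simpa [cj, mul_assoc] using this
  exact key hz

/-- An automorphism of a fully normalized subgroup is conjugation by an element of `S` modulo
the hyperfocal subgroup. -/
theorem aut_mod_hyp [Finite S] [Fact p.Prime] (hS : IsPGroup p S) (hF : F.IsSaturated p)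
    (hP : F.IsFullyNormalized P) {α : MulAut P} (hα : α ∈ F.autGroup P) :
    ∃ g ∈ normalizerIn S P, ∀ x ∈ P, (cj g x)⁻¹ * autFun α x ∈ F.hyperfocalSubgroup p := by
  obtain ⟨R, hR⟩ := (exists_sylow_iff (autInducedBy_le F hP.1)).mpr
    (isFullyAutomized_iff.mp (isFullyAutomized_of_normalized hS hF hP).1).2
  have := finite_mulAut (P := P) hP.1
  have := CfsgLib.Transfer.pResidual_normal (G := F.autGroup P) (p := p)
  have hmem : (⟨α, hα⟩ : F.autGroup P) ∈ (R : Subgroup (F.autGroup P)) ⊔ pResidual p (F.autGroup P) := by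
    rw [CfsgLib.Transfer.sup_pResidual_eq_top R]
    trivial
  rw [sup_comm, ← SetLike.mem_coe, Subgroup.coe_mul_of_right_le_normalizer_left _ _
    (by rw [Subgroup.normalizer_eq_top]; exact le_top)] at hmem
  obtain ⟨β, hβ, γ, hγ, e⟩ := hmem
  rw [SetLike.mem_coe, hR] at hγ
  obtain ⟨g, hg, hn, hge⟩ := mem_autInducedBy.mp hγ
  refine ⟨g, mem_normalizerIn.mpr ⟨hg, hn⟩, fun x hx => ?_⟩
  have hm : cj g x ∈ P := (Subgroup.mem_normalizer_iff.mp hn x).mp hx
  have he : α = (β : MulAut P) * (γ : MulAut P) := (congrArg Subtype.val e).symm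
  rw [he, autFun_mul _ _ hx, show autFun (γ : MulAut P) x = cj g x from hge x hx]
  exact hyp_gen_pResidual hP.1 hβ hm

/-- Every map is conjugation by an element of `S` modulo the hyperfocal subgroup. -/
theorem exists_conj_mod_hyp [Finite S] [Fact p.Prime] (hS : IsPGroup p S) (hF : F.IsSaturated p)
    {f : Ω → Ω} (hf : IsMor F P f) :
    ∃ s ∈ S, ∀ x ∈ P, (cj s x)⁻¹ * f x ∈ F.hyperfocalSubgroup p := by
  set H := F.hyperfocalSubgroup p with hH
  let M : Subgroup Ω → (Ω → Ω) → Prop := fun P f =>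
    IsMor F P f ∧ ∃ s ∈ S, ∀ x ∈ P, (cj s x)⁻¹ * f x ∈ H
  let E : FusionSystem S := ofPred S M (fun P f h => ⟨h.1.le, fun x hx => h.1.mem hx⟩)
    (fun P f h x hx y hy e => h.1.inj hx hy e)
    (by
      rintro P f g ⟨h, s, hs, he⟩ e
      exact ⟨h.congr e, s, hs, fun x hx => e x hx ▸ he x hx⟩)
    (fun P g hP hg => ⟨isMor_cj F hP hg, g, hg, fun x _ => by simp⟩)
    (by
      rintro P Q f g ⟨hf, s, hs, he⟩ ⟨hg, t, ht, hte⟩ hfQ
      refine ⟨hf.comp hg hfQ, t * s, S.mul_mem ht hs, fun x hx => ?_⟩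
      have h1 := H.mul_mem (hyp_conj_mem ht (he x hx)) (hte _ (hfQ x hx))
      simpa [cj, mul_assoc] using h1)
    (by
      rintro P f ⟨hf, s, hs, he⟩ -
      obtain ⟨g, hg, hgl, -, -⟩ := hf.inverse
      refine ⟨g, ⟨hg, s⁻¹, S.inv_mem hs, fun y hy => ?_⟩, hgl⟩
      obtain ⟨x, hx, rfl⟩ := hf.mem_img.mp hy
      rw [hgl x hx]
      have h1 := H.inv_mem (hyp_conj_mem (S.inv_mem hs) (he x hx))
      simpa [cj, mul_assoc] using h1)
  have hle : F ≤ E := alperin hS hF fun P hP α hα => by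
    have hPn : F.IsFullyNormalized P := by
      rcases hP with rfl | hP
      exacts [isFullyNormalized_self F, hP.2.1]
    obtain ⟨g, hg, he⟩ := aut_mod_hyp hS hF hPn hα
    exact (autGroup_eq_set hPn.1 α).mpr ((isMor_ofPred (fun h x hx y hy => h.1.map_mul hx hy)).mpr
      ⟨isMor_autFun hPn.1 hα, g, (mem_normalizerIn.mp hg).1, he⟩)
  exact ((isMor_ofPred (fun h x hx y hy => h.1.map_mul hx hy)).mp (le_iff_isMor.mp hle P f hf)).2

theorem hyp_stronglyClosed [Finite S] [Fact p.Prime] (hS : IsPGroup p S) (hF : F.IsSaturated p) :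
    F.StronglyClosed (F.hyperfocalSubgroup p) := by
  refine stronglyClosed_iff.mpr ⟨hyp_le_top, fun P f hf x hxP hx => ?_⟩
  obtain ⟨s, hs, he⟩ := exists_conj_mod_hyp hS hF hf
  have := (F.hyperfocalSubgroup p).mul_mem (hyp_conj_mem hs hx) (he x hxP)
  rwa [mul_inv_cancel_left] at this

theorem le_focal {f : Ω → Ω} (hf : IsMor F P f) {x : Ω} (hx : x ∈ P) :
    x⁻¹ * f x ∈ F.focalSubgroup := by
  obtain ⟨φ, hφ, e⟩ := hf
  exact Subgroup.subset_closure ⟨P, φ, ⟨x, hx⟩, hφ, by rw [e]⟩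

theorem focal_eq [Finite S] [Fact p.Prime] (hS : IsPGroup p S) (hF : F.IsSaturated p) :
    F.focalSubgroup = F.hyperfocalSubgroup p ⊔ ⁅S, S⁆ := by
  refine le_antisymm ?_ (sup_le ?_ ?_)
  · refine (Subgroup.closure_le _).mpr ?_
    rintro _ ⟨P, φ, x, hφ, rfl⟩
    obtain ⟨s, hs, he⟩ := exists_conj_mod_hyp hS hF (isMor_of_mem hφ)
    have h1 := he x x.2
    rw [toFun_coe] at h1
    have h2 := Subgroup.commutator_mem_commutator (S.inv_mem ((F.le_of_mem hφ).1 x.2)) hs
    have := (F.hyperfocalSubgroup p ⊔ ⁅S, S⁆).mul_mem (Subgroup.mem_sup_right h2)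
      (Subgroup.mem_sup_left h1)
    simpa [commutatorElement_def, cj, mul_assoc] using this
  · exact hyp_le fun P hP α hα _ x hx => le_focal (isMor_autFun hP hα) hx
  · refine Subgroup.commutator_le.mpr fun a ha b hb => ?_
    have := le_focal (isMor_cj F le_rfl hb) (S.inv_mem ha)
    simpa [commutatorElement_def, cj, mul_assoc] using this

/-- A saturated system is contained in any system with the inner maps and its automorphisms of
order prime to `p`. -/
theorem le_of_coprime_aut [Finite S] [Fact p.Prime] (hS : IsPGroup p S) (hF : F.IsSaturated p)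
    {E : FusionSystem S}
    (h : ∀ P : Subgroup Ω, P ≤ S → ∀ α ∈ F.autGroup P, (orderOf α).Coprime p → α ∈ E.autGroup P) :
    F ≤ E := by
  refine alperin hS hF fun P hP => ?_
  have hPn : F.IsFullyNormalized P := by
    rcases hP with rfl | hP
    exacts [isFullyNormalized_self F, hP.2.1]
  obtain ⟨R, hR⟩ := (exists_sylow_iff (autInducedBy_le F hPn.1)).mpr
    (isFullyAutomized_iff.mp (isFullyAutomized_of_normalized hS hF hPn).1).2
  have := finite_mulAut (P := P) hPn.1
  have htop := CfsgLib.Transfer.sup_pResidual_eq_top R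
  have hle : (R : Subgroup (F.autGroup P)) ⊔ pResidual p (F.autGroup P) ≤
      (E.autGroup P).subgroupOf (F.autGroup P) := by
    refine sup_le (fun r hr => ?_) ((Subgroup.closure_le _).mpr fun r hr => ?_)
    · rw [hR] at hr
      exact autInducedBy_le E hPn.1 hr
    · exact h P hPn.1 r r.2 (by rw [Subgroup.orderOf_coe]; exact hr)
  intro α hα
  exact hle (htop ▸ Subgroup.mem_top (⟨α, hα⟩ : F.autGroup P))

end CfsgLib.Fusion
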