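import Mathlib
import Cfsg.Agent.Lib.Fusion.BisetExists
import Cfsg.Agent.Lib.Fusion.Hyperfocal
import Cfsg.Agent.Lib.PGroups.Basic

/-! Tate's theorem for saturated fusion systems, by transfer along a characteristic biset. -/
set_option autoImplicit false

namespace CfsgLib.Fusion

open Cfsg Cfsg.FusionSystem
open scoped IsMulCommutative

universe u

variable {Ω : Type u} [Group Ω] {S : Subgroup Ω} {F : FusionSystem S} {p : ℕ}

theorem hyp_subgroupOf_normal [Finite S] :
    ((F.hyperfocalSubgroup p).subgroupOf S).Normal :=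
  ⟨fun z hz s => Subgroup.mem_subgroupOf.mpr
    (hyp_conj_mem (s := (s : Ω)) s.2 (z := (z : Ω)) (Subgroup.mem_subgroupOf.mp hz))⟩

section Core

set_option linter.unusedSectionVars false

variable [Finite S] (B : CharBiset F p)

local instance : MulAction (S × S) B.X := B.act

/-- The orbits on the right. -/
def rSetoid : Setoid B.X where
  r x y := ∃ b : S, ((1 : S), b) • x = y
  iseqv :=
    { refl := fun x => ⟨1, one_smul (S × S) x⟩
      symm := by
        rintro x _ ⟨b, rfl⟩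
        refine ⟨b⁻¹, ?_⟩
        rw [← mul_smul]
        simp only [Prod.mk_mul_mk, mul_one, inv_mul_cancel]
        exact one_smul (S × S) x
      trans := by
        rintro x _ _ ⟨b, rfl⟩ ⟨c, rfl⟩
        refine ⟨c * b, ?_⟩
        rw [← mul_smul]
        simp }

theorem fibre_map [Fact p.Prime] (hS : IsPGroup p S) (hF : F.IsSaturated p)
    [hN : ((F.hyperfocalSubgroup p).subgroupOf S).Normal] :
    ∃ Θ : B.X → S ⧸ (F.hyperfocalSubgroup p).subgroupOf S, ∀ (a b : S) (x : B.X),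
      Θ ((a, b) • x) = (b : S ⧸ _) * Θ x * (a : S ⧸ _)⁻¹ := by
  classical
  set W := (F.hyperfocalSubgroup p).subgroupOf S
  let q := QuotientGroup.mk' W
  have hstab : ∀ x : B.X, ∃ s : S, ∀ d : S × S, d • x = x → q d.2 = q s * q d.1 * (q s)⁻¹ := by
    intro x
    obtain ⟨P, f, hf, hK⟩ := B.inFam x
    obtain ⟨s, hs, he⟩ := exists_conj_mod_hyp hS hF hf
    refine ⟨⟨s, hs⟩, fun d hd => ?_⟩
    obtain ⟨h1, h2⟩ := (hK d).mp (MulAction.mem_stabilizer_iff.mpr hd)
    have h3 := he _ h1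
    rw [h2] at h3
    rw [← map_inv, ← map_mul, ← map_mul]
    refine (QuotientGroup.eq.mpr (Subgroup.mem_subgroupOf.mpr ?_)).symm
    simpa [cj] using h3
  choose s hs using hstab
  let o := MulAction.orbitRel (S × S) B.X
  let x₀ : B.X → B.X := fun x => (Quotient.mk o x).out
  have hex : ∀ x : B.X, ∃ d : S × S, d • x₀ x = x := fun x =>
    MulAction.orbitRel_apply.mp (o.symm' (Quotient.exact (Quotient.out_eq (Quotient.mk o x))))
  choose d hd using hex
  refine ⟨fun x => q (d x).2 * q (s (x₀ x)) * (q (d x).1)⁻¹, fun a b x => ?_⟩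
  have hx : x₀ ((a, b) • x) = x₀ x :=
    congrArg Quotient.out (Quotient.sound (MulAction.orbitRel_apply.mpr ⟨(a, b), rfl⟩))
  show q (d ((a, b) • x)).2 * q (s (x₀ ((a, b) • x))) * (q (d ((a, b) • x)).1)⁻¹ =
    q b * (q (d x).2 * q (s (x₀ x)) * (q (d x).1)⁻¹) * (q a)⁻¹
  have h1 := hd ((a, b) • x)
  rw [hx] at h1 ⊢
  set e := d ((a, b) • x)
  have h2 : (((a, b) * d x)⁻¹ * e) • x₀ x = x₀ x := by
    rw [mul_smul, h1, inv_smul_eq_iff, mul_smul, hd]
  have h3 := hs (x₀ x) _ h2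
  simp only [Prod.snd_mul, Prod.fst_mul, Prod.snd_inv, Prod.fst_inv, map_mul, map_inv] at h3
  set S₀ := q (s (x₀ x))
  have h4 : q e.2 = q b * q (d x).2 * (S₀ * ((q a * q (d x).1)⁻¹ * q e.1) * S₀⁻¹) := by
    rw [← h3, mul_inv_cancel_left]
  rw [h4]
  simp [mul_assoc]

theorem biset_free {a b : S} {x : B.X} (h : (a, b) • x = x) (ha : a = 1) : b = 1 := by
  have := (B.inFam x).fst_inj (MulAction.mem_stabilizer_iff.mpr h) ha
  exact congrArg Prod.snd this

/-- Right orbits have representatives over the identity, and these give a bijection. -/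
theorem exists_reps [hN : ((F.hyperfocalSubgroup p).subgroupOf S).Normal]
    {Θ : B.X → S ⧸ (F.hyperfocalSubgroup p).subgroupOf S}
    (hΘ : ∀ (a b : S) (x : B.X), Θ ((a, b) • x) = (b : S ⧸ _) * Θ x * (a : S ⧸ _)⁻¹) :
    ∃ r : Quotient (rSetoid B) → B.X, (∀ i, Θ (r i) = 1) ∧
      Function.Bijective (fun ib : Quotient (rSetoid B) × S => ((1 : S), ib.2) • r ib.1) := by
  choose t ht using fun i : Quotient (rSetoid B) =>
    QuotientGroup.mk'_surjective ((F.hyperfocalSubgroup p).subgroupOf S) (Θ i.out)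
  refine ⟨fun i => ((1 : S), (t i)⁻¹) • i.out, fun i => ?_, ⟨?_, ?_⟩⟩
  · rw [hΘ, ← ht i]
    simp
  · rintro ⟨i, b⟩ ⟨j, c⟩ h
    simp only [← mul_smul, Prod.mk_mul_mk, mul_one] at h
    have hij : i = j := by
      rw [← Quotient.out_eq i, ← Quotient.out_eq j]
      refine Quotient.sound ⟨(c * (t j)⁻¹)⁻¹ * (b * (t i)⁻¹), ?_⟩
      rw [show ((1 : S), (c * (t j)⁻¹)⁻¹ * (b * (t i)⁻¹)) =
        ((1 : S), c * (t j)⁻¹)⁻¹ * ((1 : S), b * (t i)⁻¹) from Prod.ext (by simp) rfl,
        mul_smul, h, inv_smul_smul]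
    subst hij
    have h2 := (inv_smul_eq_iff (g := ((1 : S), c * (t i)⁻¹))).mpr h
    rw [← mul_smul] at h2
    have := biset_free B (a := (((1 : S), c * (t i)⁻¹)⁻¹ * ((1 : S), b * (t i)⁻¹)).1) h2 (by simp)
    simp only [Prod.snd_mul, Prod.snd_inv] at this
    exact Prod.ext rfl (mul_right_cancel (inv_mul_eq_one.mp this)).symm
  · intro x
    obtain ⟨b, hb⟩ := Quotient.exact (Quotient.out_eq (Quotient.mk (rSetoid B) x))
    refine ⟨(Quotient.mk (rSetoid B) x, b * t (Quotient.mk (rSetoid B) x)), ?_⟩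
    show ((1 : S), _) • ((1 : S), _) • _ = x
    rw [← mul_smul]
    simpa [mul_assoc] using hb

theorem card_rSetoid [hN : ((F.hyperfocalSubgroup p).subgroupOf S).Normal]
    {r : Quotient (rSetoid B) → B.X}
    (hr : Function.Bijective (fun ib : Quotient (rSetoid B) × S => ((1 : S), ib.2) • r ib.1)) :
    Nat.card (Quotient (rSetoid B)) = B.k := by
  have h := Nat.card_congr (Equiv.ofBijective _ hr)
  rw [Nat.card_prod, B.card_eq] at h
  exact Nat.eq_of_mul_eq_mul_right Nat.card_pos h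

/-- In an abelian group, differences along a permutation of elements congruent along it multiply to one. -/
theorem prod_diff_eq_one {Q : Type*} [Group Q] {R : Type*} [Fintype R] (σ : R ≃ R) (τ : R → Q)
    (c : R → Subgroup.center Q) (hc : ∀ i, τ (σ i) = τ i * c i) : ∏ i, c i = 1 := by
  let sec : R → Q := fun i => ((τ i : Q) : Q ⧸ Subgroup.center Q).out
  have hmem : ∀ i, (sec i)⁻¹ * τ i ∈ Subgroup.center Q := fun i =>
    QuotientGroup.eq.mp (Quotient.out_eq _)
  have hsec : ∀ i, sec (σ i) = sec i := fun i => by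
    refine congrArg Quotient.out (QuotientGroup.eq.mpr ?_)
    rw [hc i]
    simpa using Subgroup.inv_mem _ (c i).2
  let a : R → Subgroup.center Q := fun i => ⟨_, hmem i⟩
  have hca : ∀ i, c i = (a i)⁻¹ * a (σ i) := fun i => Subtype.ext (by
    show (c i : Q) = ((sec i)⁻¹ * τ i)⁻¹ * ((sec (σ i))⁻¹ * τ (σ i))
    rw [hsec, hc i]
    simp [mul_assoc])
  simp only [hca, Finset.prod_mul_distrib, Finset.prod_inv_distrib, Equiv.prod_comp, inv_mul_cancel]

/-- The transfer argument: a central extension by `W / W₁` splits. -/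
theorem exists_transfer_hom (B : CharBiset F p) [Fact p.Prime] (hS : IsPGroup p S) (hF : F.IsSaturated p)
    (W₁ : Subgroup S) [W₁.Normal] (hle : W₁ ≤ (F.hyperfocalSubgroup p).subgroupOf S)
    (hcen : ∀ w ∈ (F.hyperfocalSubgroup p).subgroupOf S,
      (w : S ⧸ W₁) ∈ Subgroup.center (S ⧸ W₁))
    (hpow : ∀ w ∈ (F.hyperfocalSubgroup p).subgroupOf S, w ^ p ∈ W₁) :
    ∃ π : S →* Subgroup.center (S ⧸ W₁), (∀ x, π x ^ p = 1) ∧
      ∀ w ∈ (F.hyperfocalSubgroup p).subgroupOf S, (π w : S ⧸ W₁) = (w : S ⧸ W₁) := by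
  classical
  have := hyp_subgroupOf_normal (F := F) (p := p)
  have := B.finite
  set W := (F.hyperfocalSubgroup p).subgroupOf S with hW
  obtain ⟨Θ, hΘ⟩ := fibre_map B hS hF
  obtain ⟨r, hr1, hrb⟩ := exists_reps B hΘ
  have hcard := card_rSetoid B hrb
  let R := Quotient (rSetoid B)
  have := Fintype.ofFinite R
  let e : R × S ≃ B.X := Equiv.ofBijective _ hrb
  have he : ∀ (i : R) (b : S), e (i, b) = ((1 : S), b) • r i := fun _ _ => rfl
  let σ : S → R → R := fun a i => (e.symm ((a, a) • r i)).1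
  let w : S → R → S := fun a i => (e.symm ((a, a) • r i)).2
  have hw : ∀ a i, (a, a) • r i = ((1 : S), w a i) • r (σ a i) := fun a i =>
    ((he (σ a i) (w a i)).symm.trans (e.apply_symm_apply _)).symm
  have huniq : ∀ {i j : R} {b c : S}, ((1 : S), b) • r i = ((1 : S), c) • r j → i = j ∧ b = c :=
    fun {i j b c} h => ⟨congrArg Prod.fst (e.injective h : (i, b) = (j, c)),
      congrArg Prod.snd (e.injective h : (i, b) = (j, c))⟩
  have hwW : ∀ a i, w a i ∈ W := fun a i => by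
    have h := congrArg Θ (hw a i)
    rw [hΘ, hΘ, hr1, hr1] at h
    exact (QuotientGroup.eq_one_iff (N := W) (w a i)).mp (by simpa using h.symm)
  have hcomp : ∀ a b i, σ (a * b) i = σ a (σ b i) ∧
      w (a * b) i = a * w b i * a⁻¹ * w a (σ b i) := by
    intro a b i
    refine huniq ?_
    rw [← hw, show ((a * b, a * b) : S × S) = (a, a) * (b, b) from rfl, mul_smul, hw b i,
      ← mul_smul, show ((a, a) : S × S) * (1, w b i) = (1, a * w b i * a⁻¹) * (a, a) from
        Prod.ext (by simp) (by simp [mul_assoc]), mul_smul, hw a, ← mul_smul]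
    simp
  have hσone : ∀ i, σ 1 i = i := fun i => by
    refine (huniq (b := w 1 i) (c := 1) ?_).1
    rw [← hw]
  let σe : S → (R ≃ R) := fun a =>
    { toFun := σ a
      invFun := σ a⁻¹
      left_inv := fun i => by rw [← (hcomp _ _ _).1, inv_mul_cancel, hσone]
      right_inv := fun i => by rw [← (hcomp _ _ _).1, mul_inv_cancel, hσone] }
  let wb : S → R → Subgroup.center (S ⧸ W₁) := fun a i => ⟨_, hcen _ (hwW a i)⟩
  have hcj : ∀ a : S, ∀ z ∈ W, ((a * z * a⁻¹ : S) : S ⧸ W₁) = (z : S ⧸ W₁) := fun a z hz => by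
    rw [QuotientGroup.mk_mul, QuotientGroup.mk_mul, QuotientGroup.mk_inv,
      Subgroup.mem_center_iff.mp (hcen z hz), mul_inv_cancel_right]
  let μ : S →* Subgroup.center (S ⧸ W₁) := MonoidHom.mk' (fun a => ∏ i, wb a i) fun a b => by
    have h1 : ∀ i, wb (a * b) i = wb b i * wb a (σ b i) := fun i => Subtype.ext (by
      show ((w (a * b) i : S) : S ⧸ W₁) = (w b i : S ⧸ W₁) * (w a (σ b i) : S ⧸ W₁)
      rw [(hcomp a b i).2, QuotientGroup.mk_mul, hcj a _ (hwW b i)])
    show ∏ i, wb (a * b) i = (∏ i, wb a i) * ∏ i, wb b i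
    rw [Finset.prod_congr rfl fun i _ => h1 i, Finset.prod_mul_distrib, mul_comm,
      show (∏ i, wb a (σ b i)) = ∏ i, wb a i from Equiv.prod_comp (σe b) (wb a)]
  have hμp : ∀ a, μ a ^ p = 1 := fun a => by
    show (∏ i, wb a i) ^ p = 1
    rw [← Finset.prod_pow]
    refine Finset.prod_eq_one fun i _ => Subtype.ext ?_
    show ((w a i : S) : S ⧸ W₁) ^ p = 1
    rw [← QuotientGroup.mk_pow, QuotientGroup.eq_one_iff]
    exact hpow _ (hwW a i)
  have hk : B.k.Coprime p :=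
    Nat.Coprime.symm ((Fact.out : p.Prime).coprime_iff_not_dvd.mpr B.not_dvd)
  obtain ⟨m, -, hm⟩ := Nat.exists_mul_mod_eq_one_of_coprime hk (Fact.out : p.Prime).one_lt
  let π : S →* Subgroup.center (S ⧸ W₁) := (powMonoidHom m).comp μ
  have hπ : ∀ a, π a = μ a ^ m := fun _ => rfl
  refine ⟨π, fun a => by rw [hπ, ← pow_mul, mul_comm, pow_mul, hμp, one_pow], ?_⟩
  let Ψ : S →* S ⧸ W₁ := MonoidHom.mk' (fun a => (a : S ⧸ W₁) * ((π a)⁻¹ : Subgroup.center _))
    fun a b => by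
      rw [map_mul, mul_inv_rev, mul_comm (π b)⁻¹, Subgroup.coe_mul, QuotientGroup.mk_mul]
      have hz := Subgroup.mem_center_iff.mp ((π a)⁻¹).2 (b : S ⧸ W₁)
      rw [mul_assoc, ← mul_assoc (b : S ⧸ W₁), hz]
      simp [mul_assoc]
  suffices hker : W ≤ Ψ.ker by
    intro z hz
    have h := hker hz
    rw [MonoidHom.mem_ker] at h
    change (z : S ⧸ W₁) * ((π z)⁻¹ : Subgroup.center _) = 1 at h
    rw [Subgroup.coe_inv, mul_inv_eq_one] at h
    exact h.symm
  refine fun z hz => Subgroup.mem_subgroupOf.mp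
    (show z ∈ ((Ψ.ker.map S.subtype).subgroupOf S) from ?_) |>.elim fun z' hz' =>
      (Subtype.ext hz'.2 : z' = z) ▸ hz'.1
  refine (show F.hyperfocalSubgroup p ≤ Ψ.ker.map S.subtype from hyp_le fun P hP α hα hc x hx => ?_)
    (Subgroup.mem_subgroupOf.mp hz)
  -- the map `α` acts trivially through `Ψ`
  have hαm := isMor_autFun hP hα
  obtain ⟨β, hβ⟩ := B.twist P _ hαm
  let P' := P.subgroupOf S
  let af : S → S := fun a => if h : (a : Ω) ∈ P then ⟨autFun α a, hP (autFun_mem α h)⟩ else 1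
  have haf : ∀ a : S, (a : Ω) ∈ P → (af a : Ω) = autFun α a := fun a ha => by simp [af, ha]
  have hafP : ∀ a : S, (a : Ω) ∈ P → (af a : Ω) ∈ P := fun a ha => haf a ha ▸ autFun_mem α ha
  have hdiff : ∀ a : S, (a : Ω) ∈ P → a⁻¹ * af a ∈ W := fun a ha => by
    refine Subgroup.mem_subgroupOf.mpr ?_
    rw [Subgroup.coe_mul, Subgroup.coe_inv, haf a ha]
    exact hyp_gen hP hα hc ha
  have hafmul : ∀ a b : S, (a : Ω) ∈ P → (b : Ω) ∈ P → af (a * b) = af a * af b := fun a b ha hb =>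
    Subtype.ext (by
      rw [haf _ (P.mul_mem ha hb), Subgroup.coe_mul, Subgroup.coe_mul, haf a ha, haf b hb,
        autFun_map_mul α ha hb])
  have hβr : ∀ (b : S) (y : B.X), β (((1 : S), b) • y) = ((1 : S), b) • β y := fun b y =>
    hβ 1 b 1 (one_mem P) (by rw [Subgroup.coe_one]; exact hαm.map_one.symm) y
  let πR : R → R := fun i => (e.symm (β (r i))).1
  let t : R → S := fun i => (e.symm (β (r i))).2
  have ht : ∀ i, β (r i) = ((1 : S), t i) • r (πR i) := fun i => (e.apply_symm_apply _).symm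
  have hπR : Function.Bijective πR := by
    refine Finite.injective_iff_bijective.mp fun i j hij => ?_
    have h1 : β (((1 : S), (t i)⁻¹) • r i) = β (((1 : S), (t j)⁻¹) • r j) := by
      rw [hβr, hβr, ht, ht, ← mul_smul, ← mul_smul, hij]
      simp
    exact (huniq (β.injective h1)).1
  have hrel : ∀ a : S, (a : Ω) ∈ P → ∀ i,
      w a i * t (σ a i) = a * t i * (af a)⁻¹ * w (af a) (πR i) := by
    intro a ha i
    have h1 := hβ a a (af a) ha (haf a ha) (r i)
    rw [hw a i, hβr, ht, ht, ← mul_smul, ← mul_smul] at h1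
    rw [show ((af a, a) : S × S) * (1, t i) = (1, a * t i * (af a)⁻¹) * (af a, af a) from
        Prod.ext (by simp) (by simp [mul_assoc]),
        mul_smul (((1 : S), a * t i * (af a)⁻¹) : S × S), hw (af a) (πR i), ← mul_smul] at h1
    simp only [Prod.mk_mul_mk, mul_one] at h1
    exact (huniq h1).2
  -- behaviour on `P ∩ W`
  have hWE : ∀ z : S, (z : Ω) ∈ P → z ∈ W → Ψ (af z) = Ψ z := by
    intro z hzP hzW
    have hz' : af z ∈ W := by
      have := W.mul_mem hzW (hdiff z hzP)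
      rwa [mul_inv_cancel_left] at this
    let cz : Subgroup.center (S ⧸ W₁) := ⟨_, hcen z hzW⟩
    let cz' : Subgroup.center (S ⧸ W₁) := ⟨_, hcen _ hz'⟩
    let c : R → Subgroup.center (S ⧸ W₁) := fun i => cz * cz'⁻¹ * wb (af z) (πR i) * (wb z i)⁻¹
    have hc : ∀ i, ((t (σe z i) : S) : S ⧸ W₁) = (t i : S ⧸ W₁) * c i := by
      intro i
      have h1 := congrArg (fun g : S => (g : S ⧸ W₁)) (hrel z hzP i)
      simp only [QuotientGroup.mk_mul, QuotientGroup.mk_inv] at h1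
      have h2 := eq_inv_mul_of_mul_eq h1
      show ((t (σ z i) : S) : S ⧸ W₁) = (t i : S ⧸ W₁) *
        ((z : S ⧸ W₁) * ((af z : S) : S ⧸ W₁)⁻¹ * (w (af z) (πR i) : S ⧸ W₁) *
          (w z i : S ⧸ W₁)⁻¹)
      rw [h2, Subgroup.mem_center_iff.mp (Subgroup.inv_mem _ (hcen _ (hwW z i))),
        ← Subgroup.mem_center_iff.mp (hcen z hzW) (t i : S ⧸ W₁)]
      simp only [mul_assoc]
      rw [← mul_assoc, ← Subgroup.mem_center_iff.mp (Subgroup.inv_mem _ (hcen _ (hwW z i)))
        (t i : S ⧸ W₁), mul_assoc]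
    have h0 := prod_diff_eq_one (σe z) (fun i => ((t i : S) : S ⧸ W₁)) c hc
    have h1 : (cz * cz'⁻¹) ^ B.k * μ (af z) * (μ z)⁻¹ = 1 := by
      rw [← h0]
      simp only [c, Finset.prod_mul_distrib, Finset.prod_inv_distrib, Finset.prod_const,
        Finset.card_univ, ← Nat.card_eq_fintype_card]
      rw [show Nat.card R = B.k from hcard,
        show (∏ i, wb (af z) (πR i)) = μ (af z) from (Fintype.prod_bijective πR hπR _ _ fun i => rfl)]
      rw [mul_pow, inv_pow]
      rfl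
    have h2 : μ (af z) = μ z * (cz' * cz⁻¹) ^ B.k := by
      have h3 : μ (af z) = ((cz * cz'⁻¹) ^ B.k)⁻¹ * μ z := by
        rw [mul_inv_eq_one] at h1
        rw [← h1, inv_mul_cancel_left]
      rw [h3, ← inv_pow, mul_comm, mul_inv_rev, inv_inv]
    have h4 : π (af z) = π z * (cz' * cz⁻¹) := by
      have hp' : (cz' * cz⁻¹) ^ p = 1 := by
        have h5 : cz ^ p = 1 := Subtype.ext (by
          show ((z : S) : S ⧸ W₁) ^ p = 1
          rw [← QuotientGroup.mk_pow, QuotientGroup.eq_one_iff]; exact hpow z hzW)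
        have h6 : cz' ^ p = 1 := Subtype.ext (by
          show ((af z : S) : S ⧸ W₁) ^ p = 1
          rw [← QuotientGroup.mk_pow, QuotientGroup.eq_one_iff]; exact hpow _ hz')
        rw [mul_pow, inv_pow, h5, h6]; simp
      rw [hπ, hπ, h2, mul_pow, ← pow_mul]
      congr 1
      rw [← Nat.mod_add_div (B.k * m) p, hm, pow_add, pow_one, pow_mul, hp', one_pow, mul_one]
    show ((af z : S) : S ⧸ W₁) * ((π (af z))⁻¹ : Subgroup.center _) =
      (z : S ⧸ W₁) * ((π z)⁻¹ : Subgroup.center _)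
    have h5 : cz' * (π (af z))⁻¹ = cz * (π z)⁻¹ := by
      rw [h4, mul_inv, mul_inv, inv_inv]
      calc cz' * ((π z)⁻¹ * (cz'⁻¹ * cz)) = cz' * cz'⁻¹ * (cz * (π z)⁻¹) := by ac_rfl
        _ = cz * (π z)⁻¹ := by rw [mul_inv_cancel, one_mul]
    exact congrArg Subtype.val h5
  -- the ratio is constant along `α`, hence trivial
  let E : S → S ⧸ W₁ := fun a => (Ψ a)⁻¹ * Ψ (af a)
  have hEinv : ∀ a : S, (a : Ω) ∈ P → E (af a) = E a := by
    intro a ha
    obtain ⟨z, hz, e1⟩ : ∃ z ∈ W, af a = a * z := ⟨_, hdiff a ha, (mul_inv_cancel_left _ _).symm⟩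
    have hzP : (z : Ω) ∈ P := by
      have h1 := P.mul_mem (P.inv_mem ha) (hafP a ha)
      rwa [e1, Subgroup.coe_mul, inv_mul_cancel_left] at h1
    show (Ψ (af a))⁻¹ * Ψ (af (af a)) = (Ψ a)⁻¹ * Ψ (af a)
    have e2 : af (af a) = af a * af z := by
      conv_lhs => rw [e1]
      exact hafmul a z ha hzP
    rw [e2, map_mul, hWE z hzP hz, inv_mul_cancel_left, e1, map_mul, inv_mul_cancel_left]
  have hEp : ∀ a : S, (a : Ω) ∈ P → E a ^ p = 1 := by
    intro a ha
    have h1 : E a = ((a⁻¹ * af a : S) : S ⧸ W₁) * ((π (a⁻¹ * af a))⁻¹ : Subgroup.center _) := by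
      show (Ψ a)⁻¹ * Ψ (af a) = Ψ (a⁻¹ * af a)
      rw [map_mul, map_inv]
    let cd : Subgroup.center (S ⧸ W₁) := ⟨_, hcen _ (hdiff a ha)⟩
    have h2 : (cd * (π (a⁻¹ * af a))⁻¹) ^ p = 1 := by
      have h3 : cd ^ p = 1 := Subtype.ext (by
        show (((a⁻¹ * af a : S)) : S ⧸ W₁) ^ p = 1
        rw [← QuotientGroup.mk_pow, QuotientGroup.eq_one_iff]; exact hpow _ (hdiff a ha))
      rw [mul_pow, inv_pow, h3, hπ, ← pow_mul, mul_comm m, pow_mul, hμp]
      simp
    rw [h1]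
    exact congrArg Subtype.val h2
  let a₀ : S := ⟨x, hP hx⟩
  have hit : ∀ n : ℕ, ((af^[n] a₀ : S) : Ω) = autFun (α ^ n) x ∧
      E (af^[n] a₀) = E a₀ ∧ Ψ (af^[n] a₀) = Ψ a₀ * E a₀ ^ n := by
    intro n
    induction n with
    | zero => exact ⟨(autFun_one hx).symm, rfl, by simp⟩
    | succ n ih =>
      obtain ⟨h1, h2, h3⟩ := ih
      have hm' : ((af^[n] a₀ : S) : Ω) ∈ P := h1 ▸ autFun_mem _ hx
      rw [Function.iterate_succ_apply']
      refine ⟨?_, (hEinv _ hm').trans h2, ?_⟩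
      · rw [haf _ hm', h1, pow_succ', autFun_mul _ _ hx]
      · rw [pow_succ, ← mul_assoc, ← h3, ← h2]
        exact (mul_inv_cancel_left _ _).symm
  obtain ⟨h1, -, h3⟩ := hit (orderOf α)
  have hper : af^[orderOf α] a₀ = a₀ := Subtype.ext (by
    rw [h1, pow_orderOf_eq_one, autFun_one hx])
  rw [hper, left_eq_mul] at h3
  have hE1 : E a₀ = 1 := by
    have := pow_gcd_eq_one.mpr ⟨h3, hEp a₀ hx⟩
    rwa [hc, pow_one] at this
  refine ⟨a₀⁻¹ * af a₀, ?_, ?_⟩
  · show Ψ (a₀⁻¹ * af a₀) = 1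
    rw [map_mul, map_inv]
    exact hE1
  · show ((a₀⁻¹ * af a₀ : S) : Ω) = _
    rw [Subgroup.coe_mul, Subgroup.coe_inv, haf a₀ hx]

end Core

/-- Tate's theorem: a normal subgroup of `S` covering the hyperfocal subgroup modulo `Φ(S)` and
contained in it is the hyperfocal subgroup. -/
theorem tate [Finite S] [hp : Fact p.Prime] (hS : IsPGroup p S) (hF : F.IsSaturated p)
    {N : Subgroup Ω} (hNW : N ≤ F.hyperfocalSubgroup p) (hN : ∀ s ∈ S, ∀ z ∈ N, cj s z ∈ N)
    (h : F.hyperfocalSubgroup p ≤ N ⊔ (frattini S).map S.subtype) :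
    F.hyperfocalSubgroup p = N := by
  classical
  refine le_antisymm ?_ hNW
  have hNS : N ≤ S := hNW.trans hyp_le_top
  have hWn := hyp_subgroupOf_normal (F := F) (p := p)
  set W := (F.hyperfocalSubgroup p).subgroupOf S with hWdef
  set N' := N.subgroupOf S with hN'
  have hN'n : N'.Normal :=
    ⟨fun z hz s => Subgroup.mem_subgroupOf.mpr (hN (s : Ω) s.2 _ (Subgroup.mem_subgroupOf.mp hz))⟩
  have hcover : W ≤ N' ⊔ frattini S := by
    intro z hz
    have h1 := h (Subgroup.mem_subgroupOf.mp hz)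
    rw [← Subgroup.map_subgroupOf_eq_of_le hNS, ← Subgroup.map_sup] at h1
    obtain ⟨y, hy, e⟩ := h1
    exact (Subtype.ext e : y = z) ▸ hy
  suffices hWN : W ≤ N' by
    intro z hz
    exact Subgroup.mem_subgroupOf.mp (hWN (show (⟨z, hyp_le_top hz⟩ : S) ∈ W from hz))
  by_contra hne
  obtain ⟨W₁, hW₁⟩ := Set.Finite.exists_maximal
    (s := {M : Subgroup S | M.Normal ∧ N' ≤ M ∧ M < W}) (Set.toFinite _)
    ⟨N', hN'n, le_rfl, lt_of_le_of_ne (Subgroup.comap_mono hNW) (fun e => hne e.ge)⟩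
  obtain ⟨hn1, hN1, hlt⟩ := hW₁.1
  let q := QuotientGroup.mk' W₁
  have hWbar : (W.map q).Normal := hWn.map q (QuotientGroup.mk'_surjective W₁)
  have hWne : W.map q ≠ ⊥ := by
    rw [Ne, Subgroup.map_eq_bot_iff, QuotientGroup.ker_mk']
    exact hlt.not_ge
  have hQ : IsPGroup p (S ⧸ W₁) := hS.to_quotient W₁
  have hcne := CfsgLib.PGroups.inf_center_ne_bot hQ hWne
  have hp1 : p ∣ Nat.card ↥(W.map q ⊓ Subgroup.center (S ⧸ W₁)) :=
    CfsgLib.PGroups.dvd_card_of_ne_bot hQ hcne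
  obtain ⟨⟨g, hg⟩, hgo⟩ := exists_prime_orderOf_dvd_card' p hp1
  rw [Subgroup.orderOf_mk] at hgo
  obtain ⟨hgW, hgC⟩ := Subgroup.mem_inf.mp hg
  have hzn : (Subgroup.zpowers g).Normal := ⟨fun z hz s => by
    rw [Subgroup.mem_center_iff.mp ((Subgroup.zpowers_le.mpr hgC) hz) s, mul_inv_cancel_right]
    exact hz⟩
  have hM : (Subgroup.zpowers g).comap q = W := by
    have hle : (Subgroup.zpowers g).comap q ≤ W := by
      refine (Subgroup.comap_mono (Subgroup.zpowers_le.mpr hgW)).trans ?_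
      rw [Subgroup.comap_map_eq, QuotientGroup.ker_mk']
      exact sup_le le_rfl hlt.le
    refine hle.eq_of_not_lt fun hlt' => ?_
    have hW1le : W₁ ≤ (Subgroup.zpowers g).comap q := fun y hy => Subgroup.mem_comap.mpr (by
      rw [show q y = 1 from (QuotientGroup.eq_one_iff y).mpr hy]
      exact one_mem _)
    have h2 := hW₁.2 ⟨hzn.comap q, hN1.trans hW1le, hlt'⟩ hW1le
    have h3 : g = 1 := by
      obtain ⟨y, rfl⟩ := QuotientGroup.mk'_surjective W₁ g
      exact (QuotientGroup.eq_one_iff y).mpr (h2 (Subgroup.mem_comap.mpr (Subgroup.mem_zpowers _)))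
    rw [h3, orderOf_one] at hgo
    exact hp.out.one_lt.ne hgo
  have hcen : ∀ w ∈ W, (w : S ⧸ W₁) ∈ Subgroup.center (S ⧸ W₁) := fun w hw =>
    Subgroup.zpowers_le.mpr hgC (Subgroup.mem_comap.mp (hM.ge hw))
  have hpow : ∀ w ∈ W, w ^ p ∈ W₁ := fun w hw => by
    obtain ⟨i, hi⟩ := Subgroup.mem_comap.mp (hM.ge hw)
    refine (QuotientGroup.eq_one_iff _).mp ?_
    show q (w ^ p) = 1
    rw [map_pow, ← hi, ← zpow_natCast, ← zpow_mul, mul_comm, zpow_mul, zpow_natCast, ← hgo,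
      pow_orderOf_eq_one, one_zpow]
  obtain ⟨B⟩ := exists_charBiset hS hF
  obtain ⟨π, hπp, hπW⟩ := exists_transfer_hom B hS hF W₁ hlt.le hcen hpow
  have hker : frattini S ≤ π.ker := by
    refine CfsgLib.PGroups.frattini_le_of_elementary_quotient (p := p) ?_ fun x => ?_
    · rw [commutator_def, Subgroup.commutator_le]
      intro a _ b _
      rw [MonoidHom.mem_ker, map_commutatorElement]
      exact commutatorElement_eq_one_iff_commute.mpr (Commute.all _ _)
    · rw [MonoidHom.mem_ker, map_pow, hπp]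
  have hN'k : N' ≤ π.ker := fun z hz => by
    have hzW : z ∈ W := hlt.le (hN1 hz)
    refine MonoidHom.mem_ker.mpr (Subtype.ext ?_)
    rw [hπW z hzW]
    exact (QuotientGroup.eq_one_iff z).mpr (hN1 hz)
  refine hlt.not_ge fun z hz => ?_
  have h1 : π z = 1 := MonoidHom.mem_ker.mp ((hcover.trans (sup_le hN'k hker)) hz)
  exact (QuotientGroup.eq_one_iff z).mp ((hπW z hz).symm.trans (congrArg Subtype.val h1))

end CfsgLib.Fusion
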