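import Mathlib
import Cfsg.Agent.Lib.Fusion.BisetExists
import Cfsg.Agent.Lib.Fusion.Tate

/-! The transfer map of a characteristic biset. -/
set_option autoImplicit false

namespace CfsgLib.Fusion

open Cfsg Cfsg.FusionSystem

universe u

variable {Ω : Type u} [Group Ω] {S : Subgroup Ω} [Finite S] {F : FusionSystem S} {p : ℕ}

local instance (B : CharBiset F p) : MulAction (S × S) B.X := B.act

/-- A choice of representatives of the right orbits. -/
structure TransferData (B : CharBiset F p) where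
  R : Type u
  fin : Fintype R
  e : R × S ≃ B.X
  smul_e : ∀ (i : R) (b c : S), ((1 : S), b) • e (i, c) = e (i, b * c)

theorem exists_transferData (B : CharBiset F p) : Nonempty (TransferData B) := by
  classical
  have := B.finite
  let R := Quotient (rSetoid B)
  have hb : Function.Bijective (fun ib : R × S => ((1 : S), ib.2) • ib.1.out) := by
    refine ⟨?_, fun x => ?_⟩
    · rintro ⟨i, b⟩ ⟨j, c⟩ h
      simp only at h
      have hij : i = j := by
        rw [← Quotient.out_eq i, ← Quotient.out_eq j]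
        refine Quotient.sound ⟨c⁻¹ * b, ?_⟩
        rw [show ((1 : S), c⁻¹ * b) = ((1 : S), c)⁻¹ * ((1 : S), b) from Prod.ext (by simp) rfl,
          mul_smul, h, inv_smul_smul]
      subst hij
      have h2 := (inv_smul_eq_iff (g := ((1 : S), c))).mpr h
      rw [← mul_smul] at h2
      have := biset_free B (a := (((1 : S), c)⁻¹ * ((1 : S), b)).1) h2 (by simp)
      simp only [Prod.snd_inv] at this
      exact Prod.ext rfl (inv_mul_eq_one.mp this).symm
    · obtain ⟨b, hb⟩ := Quotient.exact (Quotient.out_eq (Quotient.mk (rSetoid B) x))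
      exact ⟨(Quotient.mk (rSetoid B) x, b), hb⟩
  refine ⟨⟨R, Fintype.ofFinite R, Equiv.ofBijective _ hb, fun i b c => ?_⟩⟩
  show ((1 : S), b) • ((1 : S), c) • i.out = ((1 : S), b * c) • i.out
  rw [← mul_smul]
  simp

theorem rearrange_aux {A : Type*} [CommGroup A] {v Z N N' c c' : A}
    (h : N'⁻¹ * (Z * N) = v⁻¹ * c'⁻¹ * c) :
    v * Z = c * N⁻¹ * (c' * N'⁻¹)⁻¹ := by
  have h' := h
  calc v * Z = N'⁻¹ * (Z * N) * (v * N' * N⁻¹) := by
        rw [show N'⁻¹ * (Z * N) * (v * N' * N⁻¹) = v * Z * (N'⁻¹ * N') * (N * N⁻¹) by ac_rfl]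
        simp
    _ = v⁻¹ * c'⁻¹ * c * (v * N' * N⁻¹) := by rw [h']
    _ = c * N⁻¹ * (c' * N'⁻¹)⁻¹ := by
        rw [mul_inv, inv_inv, show v⁻¹ * c'⁻¹ * c * (v * N' * N⁻¹) =
          v⁻¹ * v * (c * N⁻¹ * (c'⁻¹ * N')) by ac_rfl]
        simp

attribute [local instance] TransferData.fin

namespace TransferData

variable {B : CharBiset F p} (D : TransferData B)

theorem card_R : Fintype.card D.R = B.k := by
  have h := Nat.card_congr D.e
  rw [Nat.card_prod, B.card_eq, Nat.card_eq_fintype_card] at h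
  exact Nat.eq_of_mul_eq_mul_right Nat.card_pos h

/-- The representative of the orbit `i`. -/
def r (i : D.R) : B.X := D.e (i, 1)

/-- The orbit of `(a, 1) • r i`. -/
def sig (a : S) (i : D.R) : D.R := (D.e.symm ((a, (1 : S)) • D.r i)).1

/-- The position of `(a, 1) • r i` in its orbit. -/
def pos (a : S) (i : D.R) : S := (D.e.symm ((a, (1 : S)) • D.r i)).2

theorem smul_r (b : S) (i : D.R) : ((1 : S), b) • D.r i = D.e (i, b) := by
  rw [r, D.smul_e, mul_one]

theorem left_smul (a : S) (i : D.R) :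
    (a, (1 : S)) • D.r i = ((1 : S), D.pos a i) • D.r (D.sig a i) := by
  rw [smul_r]
  exact (D.e.apply_symm_apply _).symm

theorem uniq {i j : D.R} {b c : S} (h : ((1 : S), b) • D.r i = ((1 : S), c) • D.r j) :
    i = j ∧ b = c := by
  rw [smul_r, smul_r] at h
  exact Prod.ext_iff.mp (D.e.injective h)

theorem sig_mul (a b : S) (i : D.R) :
    D.sig (a * b) i = D.sig a (D.sig b i) ∧
      D.pos (a * b) i = D.pos b i * D.pos a (D.sig b i) := by
  refine D.uniq ?_
  rw [← D.left_smul, show ((a * b, 1) : S × S) = (a, 1) * (b, 1) by simp, mul_smul, D.left_smul,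
    ← mul_smul, show ((a, 1) : S × S) * (1, D.pos b i) = (1, D.pos b i) * (a, 1) by simp, mul_smul,
    D.left_smul, ← mul_smul]
  simp

theorem sig_one (i : D.R) : D.sig 1 i = i ∧ D.pos 1 i = 1 := by
  refine D.uniq ?_
  rw [← D.left_smul]

/-- The permutation of the right orbits by `a`. -/
def perm (a : S) : D.R ≃ D.R where
  toFun := D.sig a
  invFun := D.sig a⁻¹
  left_inv i := by rw [← (D.sig_mul _ _ _).1, inv_mul_cancel, (D.sig_one i).1]
  right_inv i := by rw [← (D.sig_mul _ _ _).1, mul_inv_cancel, (D.sig_one i).1]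

variable {A : Type*} [CommGroup A] (χ : S →* A)

/-- The transfer of `χ` along the biset. -/
def transfer : S →* A :=
  MonoidHom.mk' (fun a => ∏ i, χ (D.pos a i)) fun a b => by
    rw [Finset.prod_congr rfl fun i _ => by rw [(D.sig_mul a b i).2, map_mul],
      Finset.prod_mul_distrib, mul_comm]
    congr 1
    exact Equiv.prod_comp (D.perm b) (fun i => χ (D.pos a i))

theorem transfer_apply (a : S) : D.transfer χ a = ∏ i, χ (D.pos a i) := rfl

theorem transfer_stable {P : Subgroup Ω} {f : Ω → Ω} (hf : IsMor F P f) {a a' : S}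
    (ha : (a : Ω) ∈ P) (ha' : (a' : Ω) = f a) : D.transfer χ a' = D.transfer χ a := by
  classical
  have := B.finite
  obtain ⟨β, hβ⟩ := B.twist P f hf
  have hβr : ∀ (b : S) (y : B.X), β (((1 : S), b) • y) = ((1 : S), b) • β y := fun b y =>
    hβ 1 b 1 (one_mem P) (by rw [Subgroup.coe_one]; exact hf.map_one.symm) y
  let π : D.R → D.R := fun i => (D.e.symm (β (D.r i))).1
  let t : D.R → S := fun i => (D.e.symm (β (D.r i))).2
  have ht : ∀ i, β (D.r i) = ((1 : S), t i) • D.r (π i) := fun i => by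
    rw [D.smul_r]
    exact (D.e.apply_symm_apply _).symm
  have hπ : Function.Bijective π := by
    refine Finite.injective_iff_bijective.mp fun i j hij => ?_
    have h1 : β (((1 : S), (t i)⁻¹) • D.r i) = β (((1 : S), (t j)⁻¹) • D.r j) := by
      rw [hβr, hβr, ht, ht, ← mul_smul, ← mul_smul, hij]
      simp
    exact (D.uniq (β.injective h1)).1
  have hrel : ∀ i, D.pos a i * t (D.sig a i) = t i * D.pos a' (π i) := by
    intro i
    have h1 := hβ a 1 a' ha ha' (D.r i)
    rw [D.left_smul, hβr, ht, ht, ← mul_smul, ← mul_smul,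
      show ((a', 1) : S × S) * (1, t i) = (1, t i) * (a', 1) by simp,
      mul_smul ((1 : S), t i), D.left_smul, ← mul_smul] at h1
    simp only [Prod.mk_mul_mk, mul_one] at h1
    exact (D.uniq h1).2
  have h2 : (∏ i, χ (D.pos a i)) * ∏ i, χ (t (D.sig a i)) =
      (∏ i, χ (t i)) * ∏ i, χ (D.pos a' (π i)) := by
    rw [← Finset.prod_mul_distrib, ← Finset.prod_mul_distrib]
    exact Finset.prod_congr rfl fun i _ => by rw [← map_mul, ← map_mul, hrel i]
  rw [show (∏ i, χ (t (D.sig a i))) = ∏ i, χ (t i) from Equiv.prod_comp (D.perm a) fun i => χ (t i),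
    Fintype.prod_bijective π hπ (fun i => χ (D.pos a' (π i))) (fun i => χ (D.pos a' i)) fun i => rfl,
    mul_comm] at h2
  exact (mul_left_cancel h2).symm

theorem transfer_eq_one_of_mem_focal {z : S} (hz : (z : Ω) ∈ F.focalSubgroup) :
    D.transfer χ z = 1 := by
  have key : F.focalSubgroup ≤ (D.transfer χ).ker.map S.subtype := by
    refine (Subgroup.closure_le _).mpr ?_
    rintro _ ⟨P, φ, x, hφ, rfl⟩
    have hf := isMor_of_mem hφ
    have hxS : (x : Ω) ∈ S := hf.le x.2
    have hφS : φ x ∈ S := (F.le_of_mem hφ).2 x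
    refine ⟨⟨x, hxS⟩⁻¹ * ⟨φ x, hφS⟩, ?_, rfl⟩
    rw [SetLike.mem_coe, MonoidHom.mem_ker, map_mul, map_inv,
      D.transfer_stable χ hf (a := ⟨x, hxS⟩) (a' := ⟨φ x, hφS⟩) x.2 (toFun_coe φ x).symm,
      inv_mul_cancel]
  obtain ⟨y, hy, e⟩ := key hz
  exact (Subtype.ext e : y = z) ▸ MonoidHom.mem_ker.mp hy

/-- The transfer of an element whose powers keep their values under every map. -/
theorem transfer_of_congr {z : S}
    (hz : ∀ P f, IsMor F P f → ∀ n : ℤ, (z : Ω) ^ n ∈ P →
      ∀ h : f ((z : Ω) ^ n) ∈ S, χ ⟨f ((z : Ω) ^ n), h⟩ = χ (z ^ n)) :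
    D.transfer χ z = (χ z ^ B.k)⁻¹ := by
  classical
  let st : Setoid B.X :=
    { r := fun x y => ∃ (n : ℤ) (b : S), (z ^ n, b) • x = y
      iseqv :=
        { refl := fun x => ⟨0, 1, by rw [zpow_zero]; exact one_smul (S × S) x⟩
          symm := by
            rintro x _ ⟨n, b, rfl⟩
            refine ⟨-n, b⁻¹, ?_⟩
            rw [zpow_neg, show ((z ^ n)⁻¹, b⁻¹) = ((z ^ n, b) : S × S)⁻¹ from rfl, inv_smul_smul]
          trans := by
            rintro x _ _ ⟨n, b, rfl⟩ ⟨m, c, rfl⟩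
            refine ⟨m + n, c * b, ?_⟩
            rw [zpow_add, ← mul_smul]
            simp } }
  let x₀ : B.X → B.X := fun x => (Quotient.mk st x).out
  have hex : ∀ x, ∃ (n : ℤ) (b : S), (z ^ n, b) • x₀ x = x := fun x =>
    Quotient.exact (Quotient.out_eq (Quotient.mk st x))
  choose J b hJ using hex
  let τ : D.R → A := fun i => χ (b (D.r i)) * (χ z) ^ (-J (D.r i))
  have hi : ∀ i, χ (D.pos z i) * χ z = τ i * (τ (D.sig z i))⁻¹ := by
    intro i
    set j := D.sig z i
    set v := D.pos z i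
    have h1 := D.left_smul z i
    have hx : x₀ (D.r j) = x₀ (D.r i) := by
      refine congrArg Quotient.out (Quotient.sound (Setoid.symm ⟨1, v⁻¹, ?_⟩))
      rw [zpow_one, show ((z, v⁻¹) : S × S) = ((1 : S), v⁻¹) * (z, 1) by simp, mul_smul, h1,
        ← mul_smul]
      show ((1 : S) * 1, v⁻¹ * v) • D.r j = D.r j
      rw [mul_one, inv_mul_cancel]
      exact one_smul (S × S) _
    have h2 := hJ (D.r i)
    have h3 := hJ (D.r j)
    rw [hx] at h3
    set x := x₀ (D.r i)
    set n := J (D.r i)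
    set n' := J (D.r j)
    set c := b (D.r i)
    set c' := b (D.r j)
    rw [← h2, ← h3, ← mul_smul, ← mul_smul, ← inv_smul_eq_iff, ← mul_smul] at h1
    obtain ⟨P, f, hf, hK⟩ := B.inFam x
    obtain ⟨h4, h5⟩ := (hK _).mp (MulAction.mem_stabilizer_iff.mpr h1)
    simp only [Prod.fst_mul, Prod.snd_mul, Prod.fst_inv, Prod.snd_inv, one_mul] at h4 h5
    have e : (z ^ n')⁻¹ * (z * z ^ n) = z ^ (-n' + (1 + n)) := by
      rw [zpow_add, zpow_add, zpow_one, zpow_neg]
    rw [e, Subgroup.coe_zpow] at h4 h5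
    have h6 := hz P f hf _ h4 (hf.mem h4)
    rw [congrArg χ (Subtype.ext h5 : (⟨_, hf.mem h4⟩ : S) = _)] at h6
    simp only [map_mul, map_inv, map_zpow] at h6
    show χ v * χ z = χ c * χ z ^ (-n) * (χ c' * χ z ^ (-n'))⁻¹
    rw [zpow_add, zpow_add, zpow_one] at h6
    rw [zpow_neg] at h6 ⊢
    rw [zpow_neg]
    rw [mul_inv] at h6
    exact rearrange_aux h6.symm
  have h := Finset.prod_congr (s₁ := Finset.univ) rfl fun i (_ : i ∈ Finset.univ) => hi i
  rw [Finset.prod_mul_distrib, Finset.prod_mul_distrib, Finset.prod_inv_distrib,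
    show (∏ i, τ (D.sig z i)) = ∏ i, τ i from Equiv.prod_comp (D.perm z) τ, mul_inv_cancel,
    Finset.prod_const, Finset.card_univ, D.card_R] at h
  exact eq_inv_of_mul_eq_one_left h

/-- The transfer of an element fixed by every map. -/
theorem transfer_of_fixed {z : S}
    (hz : ∀ P f, IsMor F P f → ∀ n : ℤ, (z : Ω) ^ n ∈ P → f ((z : Ω) ^ n) = (z : Ω) ^ n) :
    D.transfer χ z = (χ z ^ B.k)⁻¹ :=
  D.transfer_of_congr χ fun P f hf n hn _ =>
    congrArg χ (Subtype.ext ((hz P f hf n hn).trans (Subgroup.coe_zpow _ _ _).symm))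

end TransferData

end CfsgLib.Fusion
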