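import Mathlib
import Cfsg.Agent.Lib.Fusion.Transfer
import Cfsg.Agent.Lib.Fusion.FreeDet
import Cfsg.Agent.Lib.Fusion.Normal
import Cfsg.Agent.Lib.Fusion.Criteria
import Cfsg.Agent.Lib.Base.Cores

/-! Existence of models of constrained fusion systems. -/
set_option autoImplicit false
set_option linter.unusedSectionVars false

namespace CfsgLib.Fusion

open Cfsg Cfsg.FusionSystem
open scoped IsMulCommutative

universe u

variable {Ω : Type u} [Group Ω] {S : Subgroup Ω} [Finite S] {F : FusionSystem S} {p : ℕ}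
  [hp : Fact p.Prime] {Q : Subgroup Ω}

attribute [local instance] TransferData.fin

local instance modelBisetAct (B : CharBiset F p) : MulAction (S × S) B.X := B.act

/-- The points whose stabilizer is a graph defined on all of `Q`. -/
def qSet (B : CharBiset F p) (Q : Subgroup Ω) : Set B.X :=
  {x | ∀ a : S, (a : Ω) ∈ Q → ∃ b : S, (a, b) • x = x}

theorem qSet_smul (B : CharBiset F p) (hn : ∀ s ∈ S, ∀ z ∈ Q, cj s z ∈ Q) (d : S × S) {x : B.X}
    (hx : x ∈ qSet B Q) : d • x ∈ qSet B Q := by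
  intro a ha
  obtain ⟨b, hb⟩ := hx (d.1⁻¹ * a * d.1) (by
    have := hn _ (S.inv_mem d.1.2) _ ha
    simpa [cj] using this)
  refine ⟨d.2 * b * d.2⁻¹, ?_⟩
  rw [← mul_smul, show ((a, d.2 * b * d.2⁻¹) : S × S) * d = d * (d.1⁻¹ * a * d.1, b) from
    Prod.ext (by simp [mul_assoc]) (by simp [mul_assoc]), mul_smul, hb]

/-- Hypotheses for the model construction, bundled. -/
structure ModelSetup (F : FusionSystem S) (p : ℕ) (Q : Subgroup Ω) where
  hS : IsPGroup p S
  hF : F.IsSaturated p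
  hQ : F.IsNormal Q
  hQc : F.IsCentric Q
  B : CharBiset F p
  D : TransferData B

/-- Conjugacy by elements on the right. -/
def kSetoid (S : Subgroup Ω) : Setoid (Subgroup (S × S)) where
  r K L := ∃ s : S, K.map (MulAut.conj ((1 : S), s)).toMonoidHom = L
  iseqv :=
    { refl := fun K => ⟨1, by
        rw [show (((1 : S), (1 : S)) : S × S) = 1 from rfl, _root_.map_one]; exact K.map_id⟩
      symm := by
        rintro K _ ⟨s, rfl⟩
        refine ⟨s⁻¹, ?_⟩
        rw [Subgroup.map_map]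
        convert K.map_id
        ext x <;> simp [mul_assoc]
      trans := by
        rintro K _ _ ⟨s, rfl⟩ ⟨t, rfl⟩
        refine ⟨t * s, ?_⟩
        rw [Subgroup.map_map]
        congr 1
        ext x <;> simp [mul_assoc] }

/-- The representative of a class. -/
noncomputable def krep (L : Subgroup (S × S)) : Subgroup (S × S) :=
  (Quotient.mk (kSetoid S) L).out

theorem krep_spec (L : Subgroup (S × S)) :
    ∃ s : S, L.map (MulAut.conj ((1 : S), s)).toMonoidHom = krep L :=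
  (kSetoid S).symm' (Quotient.exact (Quotient.out_eq _))

theorem krep_eq_iff {L L' : Subgroup (S × S)} :
    krep L = krep L' ↔ ∃ s : S, L.map (MulAut.conj ((1 : S), s)).toMonoidHom = L' := by
  refine ⟨fun h => ?_, fun h => congrArg Quotient.out (Quotient.sound h)⟩
  have h1 := congrArg (Quotient.mk (kSetoid S)) h
  simp only [krep, Quotient.out_eq] at h1
  exact Quotient.exact h1

theorem krep_idem (L : Subgroup (S × S)) : krep (krep L) = krep L :=
  congrArg Quotient.out (Quotient.out_eq _)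

/-- A right translation to the chosen class. -/
noncomputable def shift (L : Subgroup (S × S)) : S := (krep_spec L).choose

namespace ModelSetup

variable (m : ModelSetup F p Q)
include m

theorem le_S : Q ≤ S := m.hQ.1

theorem conj_mem {s : Ω} (hs : s ∈ S) {z : Ω} (hz : z ∈ Q) : cj s z ∈ Q :=
  (stronglyClosed_iff.mp (isNormal_stronglyClosed m.hQ)).2 S _ (isMor_cj F le_rfl hs) z (m.le_S hz) hz

theorem mem_normalizer {s : Ω} (hs : s ∈ S) : s ∈ Subgroup.normalizer (Q : Set Ω) :=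
  Subgroup.mem_normalizer_iff.mpr fun z => ⟨fun hz => m.conj_mem hs hz, fun hz => by
    have := m.conj_mem (S.inv_mem hs) hz
    simpa [cj, mul_assoc] using this⟩

/-- The underlying set of the construction. -/
abbrev X : Type u := ↥(qSet m.B Q)

instance : MulAction (S × S) m.X :=
  restrictAction (qSet m.B Q) fun d _ hx => qSet_smul m.B (fun _ hs _ hz => m.conj_mem hs hz) d hx

theorem coe_smul (d : S × S) (x : m.X) : ((d • x : m.X) : m.B.X) = d • (x : m.B.X) := rfl

instance : Finite m.X := by have := m.B.finite; infer_instance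

/-- An element of `Q` acting on the left. -/
def lq (a : Q) : S × S := (Subgroup.inclusion m.le_S a, 1)

theorem lq_mul (a b : Q) : m.lq (a * b) = m.lq a * m.lq b := by simp [lq]

theorem right_comm_left (s b : S) : ((1 : S), b) * (s, 1) = (s, 1) * ((1 : S), b) := by simp

theorem left_free {a : Q} {x : m.X} (h : m.lq a • x = x) : a = 1 := by
  have h1 := (m.B.inFam _).snd_inj (MulAction.mem_stabilizer_iff.mpr (congrArg Subtype.val h)) rfl
  exact Subgroup.inclusion_injective m.le_S ((congrArg Prod.fst h1).trans (map_one _).symm)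

/-- The restriction to `Q` of the map of a point. -/
def K (x : m.X) : Subgroup (S × S) := MulAction.stabilizer (S × S) (x : m.B.X) ⊓ leftDom S Q

theorem mem_K {x : m.X} {d : S × S} : d ∈ m.K x ↔ d • x = x ∧ (d.1 : Ω) ∈ Q := by
  rw [K, Subgroup.mem_inf, mem_leftDom, MulAction.mem_stabilizer_iff]
  exact and_congr_left' ⟨fun h => Subtype.ext h, fun h => congrArg Subtype.val h⟩

theorem exists_mem_K (x : m.X) (a : Q) :
    ∃ b : S, (Subgroup.inclusion m.le_S a, b) ∈ m.K x := by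
  obtain ⟨b, hb⟩ := x.2 (Subgroup.inclusion m.le_S a) a.2
  exact ⟨b, m.mem_K.mpr ⟨Subtype.ext hb, a.2⟩⟩

theorem exists_map (x : m.X) : ∃ f, IsMor F Q f ∧ img Q f = Q ∧
    ∀ d : S × S, d ∈ m.K x ↔ ((d.1 : Ω) ∈ Q ∧ f d.1 = d.2) := by
  obtain ⟨P, f, hf, hK⟩ := m.B.inFam (x : m.B.X)
  have hQP : Q ≤ P := fun a ha => by
    obtain ⟨b, hb⟩ := x.2 ⟨a, m.le_S ha⟩ ha
    exact ((hK _).mp (MulAction.mem_stabilizer_iff.mpr hb)).1
  have hm : ∀ a ∈ Q, f a ∈ Q := fun a ha =>
    (stronglyClosed_iff.mp (isNormal_stronglyClosed m.hQ)).2 P f hf a (hQP ha) ha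
  refine ⟨f, hf.restrict hQP, (hf.restrict hQP).img_eq_self hm, fun d => ?_⟩
  rw [K, Subgroup.mem_inf, hK, mem_leftDom]
  exact ⟨fun h => ⟨h.2, h.1.2⟩, fun h => ⟨⟨hQP h.1, h.2⟩, h.1⟩⟩

theorem K_smul_right (s : S) (x : m.X) :
    m.K (((1 : S), s) • x) = (m.K x).map (MulAut.conj ((1 : S), s)).toMonoidHom := by
  ext d
  constructor
  · intro hd
    obtain ⟨h1, h2⟩ := m.mem_K.mp hd
    refine ⟨((1 : S), s)⁻¹ * d * ((1 : S), s), m.mem_K.mpr ⟨?_, ?_⟩, ?_⟩
    · rw [mul_smul, mul_smul, h1, inv_smul_smul]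
    · simpa using h2
    · show ((1 : S), s) * (((1 : S), s)⁻¹ * d * ((1 : S), s)) * ((1 : S), s)⁻¹ = d
      group
  · rintro ⟨e, he, rfl⟩
    obtain ⟨h1, h2⟩ := m.mem_K.mp he
    refine m.mem_K.mpr ⟨?_, by simpa using h2⟩
    show (((1 : S), s) * e * ((1 : S), s)⁻¹) • ((1 : S), s) • x = _
    rw [mul_smul, mul_smul, inv_smul_smul, h1]

/-- One class of graphs is chosen in each orbit. -/
abbrev Y : Type u := {x : m.X // krep (m.K x) = m.K x}

theorem shift_mem (x : m.X) :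
    krep (m.K (((1 : S), shift (m.K x)) • x)) = m.K (((1 : S), shift (m.K x)) • x) := by
  rw [m.K_smul_right, show shift (m.K x) = (krep_spec (m.K x)).choose from rfl,
    (krep_spec (m.K x)).choose_spec, krep_idem]

/-- The group of pairs of an automorphism of `Q` and a compatible permutation. -/
def G₁ : Subgroup (MulAut Q × Equiv.Perm m.X) where
  carrier := {g | (∀ (b : S) (x : m.X), g.2 (((1 : S), b) • x) = ((1 : S), b) • g.2 x) ∧
    ∀ (a : Q) (x : m.X), g.2 (m.lq a • x) = m.lq (g.1 a) • g.2 x}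
  one_mem' := ⟨fun _ _ => rfl, fun _ _ => rfl⟩
  mul_mem' := by
    rintro g h ⟨hg1, hg2⟩ ⟨hh1, hh2⟩
    refine ⟨fun b x => ?_, fun a x => ?_⟩
    · show g.2 (h.2 _) = _ • g.2 (h.2 x)
      rw [hh1, hg1]
    · show g.2 (h.2 _) = m.lq (g.1 (h.1 a)) • g.2 (h.2 x)
      rw [hh2, hg2]
  inv_mem' := by
    rintro g ⟨hg1, hg2⟩
    refine ⟨fun b x => ?_, fun a x => ?_⟩
    · show g.2.symm _ = _ • g.2.symm x
      rw [Equiv.symm_apply_eq, hg1, Equiv.apply_symm_apply]
    · show g.2.symm _ = m.lq (g.1.symm a) • g.2.symm x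
      rw [Equiv.symm_apply_eq, hg2, Equiv.apply_symm_apply, MulEquiv.apply_symm_apply]

theorem K_image (g : m.G₁) (x : m.X) (d : S × S) :
    d ∈ m.K (g.1.2 x) ↔ ∃ (a : Q) (b : S), (Subgroup.inclusion m.le_S a, b) ∈ m.K x ∧
      d = (Subgroup.inclusion m.le_S (g.1.1 a), b) := by
  have hsplit : ∀ (a : Q) (b : S) (y : m.X),
      ((Subgroup.inclusion m.le_S a, b) : S × S) • y = m.lq a • ((1 : S), b) • y := fun a b y => by
    rw [← mul_smul]
    simp [lq]
  constructor
  · intro hd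
    obtain ⟨h1, h2⟩ := m.mem_K.mp hd
    obtain ⟨a, ha⟩ := (g.1.1).surjective ⟨(d.1 : Ω), h2⟩
    have hd1 : Subgroup.inclusion m.le_S (g.1.1 a) = d.1 := Subtype.ext (congrArg Subtype.val ha :)
    refine ⟨a, d.2, m.mem_K.mpr ⟨g.1.2.injective ?_, a.2⟩, Prod.ext hd1.symm rfl⟩
    rw [hsplit, g.2.2, g.2.1, ← hsplit, hd1]
    exact h1
  · rintro ⟨a, b, hab, rfl⟩
    refine m.mem_K.mpr ⟨?_, (g.1.1 a).2⟩
    rw [hsplit, ← g.2.1, ← g.2.2, ← hsplit, (m.mem_K.mp hab).1]

/-- The left action of the centre of `Q` on the chosen points. -/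
noncomputable instance : MulAction (Subgroup.center Q) m.Y where
  smul z y := ⟨m.lq z • y.1, by
    have h : m.K (m.lq z • y.1) = m.K y.1 := by
      ext d
      have hc : ∀ e : S × S, (e.1 : Ω) ∈ Q → e * m.lq z = m.lq z * e := fun e he => by
        refine Prod.ext (Subtype.ext ?_) (by simp [lq])
        exact congrArg (Subtype.val : Q → Ω) (Subgroup.mem_center_iff.mp z.2 ⟨(e.1 : Ω), he⟩)
      constructor <;> intro hd <;> obtain ⟨h1, h2⟩ := m.mem_K.mp hd
      · refine m.mem_K.mpr ⟨?_, h2⟩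
        rw [← mul_smul, hc d h2, mul_smul] at h1
        exact smul_left_cancel (m.lq z) h1
      · refine m.mem_K.mpr ⟨?_, h2⟩
        rw [← mul_smul, hc d h2, mul_smul, h1]
    rw [h]; exact y.2⟩
  one_smul y := Subtype.ext (by
    show m.lq 1 • y.1 = y.1
    exact one_smul (S × S) y.1)
  mul_smul z w y := Subtype.ext (by
    show m.lq ((z : Q) * (w : Q)) • y.1 = m.lq z • m.lq w • y.1
    rw [lq_mul, mul_smul])

theorem smul_Y_coe (z : Subgroup.center Q) (y : m.Y) : ((z • y : m.Y) : m.X) = m.lq z • y.1 := rfl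

theorem free_Y (z : Subgroup.center Q) (y : m.Y) (h : z • y = y) : z = 1 :=
  Subtype.ext (m.left_free (congrArg Subtype.val h))

theorem K_conj_eq_imp {x : m.X} {s : S}
    (h : (m.K x).map (MulAut.conj ((1 : S), s)).toMonoidHom = m.K x) :
    ∃ z : Subgroup.center Q, ((1 : S), s) • x = m.lq z • x := by
  obtain ⟨f, hf, hfi, hK⟩ := m.exists_map x
  have hsC : (s : Ω) ∈ centralizerIn S Q := by
    refine mem_centralizerIn.mpr ⟨s.2, fun y hy => ?_⟩
    obtain ⟨a, ha, rfl⟩ := hf.mem_img.mp (hfi.ge hy)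
    have hd : ((⟨a, m.le_S ha⟩ : S), (⟨f a, hf.mem ha⟩ : S)) ∈ m.K x := (hK _).mpr ⟨ha, rfl⟩
    have h1 := h.le (Subgroup.mem_map_of_mem _ hd)
    obtain ⟨-, h2⟩ := (hK _).mp h1
    simpa [cj] using h2.symm
  have hsQ : (s : Ω) ∈ Q := m.hQc.2 Q (isConj_refl F m.le_S) hsC
  obtain ⟨a, ha, hae⟩ := hf.mem_img.mp (hfi.ge hsQ)
  have hac : (⟨a, ha⟩ : Q) ∈ Subgroup.center Q := Subgroup.mem_center_iff.mpr fun b => by
    refine Subtype.ext (hf.inj (Q.mul_mem b.2 ha) (Q.mul_mem ha b.2) ?_)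
    simp only [Subgroup.coe_mul]
    rw [hf.map_mul b.2 ha, hf.map_mul ha b.2, hae]
    exact (cj_fixed_iff.mp ((mem_centralizerIn.mp hsC).2 _ (hfi.le (mem_img_of_mem f b.2)))).symm
  refine ⟨(⟨_, hac⟩ : Subgroup.center Q)⁻¹, ?_⟩
  have hd : ((⟨a, m.le_S ha⟩ : S), s) ∈ m.K x := (hK _).mpr ⟨ha, hae⟩
  have h1 := (m.mem_K.mp hd).1
  conv_rhs => rw [← h1]
  rw [← mul_smul]
  congr 1
  refine Prod.ext ?_ (by simp [lq])
  refine Subtype.ext ?_
  show (1 : Ω) = (a⁻¹ : Ω) * a
  rw [inv_mul_cancel]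

/-- The twisted bijection of `Y` given by an element of `G₁`. -/
noncomputable def hY (g : m.G₁) : m.Y ≃ m.Y :=
  Equiv.ofBijective (fun y => ⟨((1 : S), shift (m.K (g.1.2 y.1))) • g.1.2 y.1, m.shift_mem _⟩)
    (Finite.injective_iff_bijective.mp fun y y' h => by
      have h0 := congrArg Subtype.val h
      have hK : krep (m.K (g.1.2 y.1)) = krep (m.K (g.1.2 y'.1)) := by
        have h1 := congrArg (fun x => krep (m.K x)) h0
        simp only [m.K_smul_right] at h1
        rwa [show ∀ (L : Subgroup (S × S)) (s : S),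
          krep (L.map (MulAut.conj ((1 : S), s)).toMonoidHom) = krep L from
            fun L s => (krep_eq_iff.mpr ⟨s, rfl⟩).symm,
          show ∀ (L : Subgroup (S × S)) (s : S),
          krep (L.map (MulAut.conj ((1 : S), s)).toMonoidHom) = krep L from
            fun L s => (krep_eq_iff.mpr ⟨s, rfl⟩).symm] at h1
      obtain ⟨s, hs⟩ := krep_eq_iff.mp hK
      have h2 : m.K y.1 = m.K y'.1 := by
        rw [← y.2, ← y'.2]
        refine krep_eq_iff.mpr ⟨s, ?_⟩
        rw [← m.K_smul_right] at hs ⊢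
        rw [← g.2.1] at hs
        ext d
        obtain ⟨f, -, -, hf⟩ := m.exists_map (((1 : S), s) • y.1)
        obtain ⟨f', -, -, hf'⟩ := m.exists_map y'.1
        have key : ∀ (u v : m.X), m.K (g.1.2 u) = m.K (g.1.2 v) → ∀ e, e ∈ m.K u → e ∈ m.K v := by
          intro u v huv e he
          obtain ⟨-, heQ⟩ := m.mem_K.mp he
          have he' : ((Subgroup.inclusion m.le_S ⟨(e.1 : Ω), heQ⟩, e.2) : S × S) ∈ m.K u := he
          obtain ⟨a, b, hab, e'⟩ := (m.K_image g v _).mp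
            (huv.le ((m.K_image g u _).mpr ⟨_, _, he', rfl⟩))
          have ha := (g.1.1).injective
            (Subgroup.inclusion_injective m.le_S (congrArg Prod.fst e'))
          have hb : e.2 = b := congrArg Prod.snd e'
          rw [← ha, ← hb] at hab
          exact hab
        exact ⟨key _ _ hs d, key _ _ hs.symm d⟩
      have h3 : m.K (g.1.2 y.1) = m.K (g.1.2 y'.1) := by
        ext d
        rw [m.K_image, m.K_image, h2]
      simp only [h3] at h0
      exact Subtype.ext (g.1.2.injective (smul_left_cancel _ h0)))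

theorem hY_coe (g : m.G₁) (y : m.Y) :
    (m.hY g y : m.X) = ((1 : S), shift (m.K (g.1.2 y.1))) • g.1.2 y.1 := rfl

/-- The automorphism of the centre induced by `α`. -/
noncomputable def zAut (α : MulAut Q) : Subgroup.center Q ≃* Subgroup.center Q :=
  { toFun := fun z => ⟨α z, by
      refine Subgroup.mem_center_iff.mpr fun b => ?_
      obtain ⟨b, rfl⟩ := α.surjective b
      rw [← map_mul, ← map_mul, Subgroup.mem_center_iff.mp z.2 b]⟩
    invFun := fun z => ⟨α.symm z, by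
      refine Subgroup.mem_center_iff.mpr fun b => ?_
      obtain ⟨b, rfl⟩ := α.symm.surjective b
      rw [← map_mul, ← map_mul, Subgroup.mem_center_iff.mp z.2 b]⟩
    left_inv := fun z => Subtype.ext (α.symm_apply_apply _)
    right_inv := fun z => Subtype.ext (α.apply_symm_apply _)
    map_mul' := fun z w => Subtype.ext (map_mul α (z : Q) (w : Q)) }

theorem hY_twist (g : m.G₁) (z : Subgroup.center Q) (y : m.Y) :
    m.hY g (z • y) = zAut g.1.1 z • m.hY g y := by
  apply Subtype.ext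
  rw [hY_coe, smul_Y_coe, smul_Y_coe, hY_coe, g.2.2]
  have hK : m.K (m.lq (g.1.1 z) • g.1.2 y.1) = m.K (g.1.2 y.1) := by
    rw [← g.2.2]
    ext d
    rw [m.K_image, m.K_image]
    have : m.K (m.lq (z : Q) • y.1) = m.K y.1 := by
      ext d
      have hc : ∀ e : S × S, (e.1 : Ω) ∈ Q → e * m.lq z = m.lq z * e := fun e he => by
        refine Prod.ext (Subtype.ext ?_) (by simp [lq])
        exact congrArg (Subtype.val : Q → Ω) (Subgroup.mem_center_iff.mp z.2 ⟨(e.1 : Ω), he⟩)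
      constructor <;> intro hd <;> obtain ⟨h1, h2⟩ := m.mem_K.mp hd
      · refine m.mem_K.mpr ⟨?_, h2⟩
        rw [← mul_smul, hc d h2, mul_smul] at h1
        exact smul_left_cancel (m.lq z) h1
      · refine m.mem_K.mpr ⟨?_, h2⟩
        rw [← mul_smul, hc d h2, mul_smul, h1]
    rw [this]
  rw [hK, ← mul_smul]
  show _ = m.lq (g.1.1 z) • _
  rw [← mul_smul]
  congr 1
  simp [lq]

/-- The kernel of the action on `Q`. -/
def C₀ : Subgroup m.G₁ :=
  ((MonoidHom.fst (MulAut Q) (Equiv.Perm m.X)).comp m.G₁.subtype).ker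

theorem mem_C₀ {g : m.G₁} : g ∈ m.C₀ ↔ g.1.1 = 1 := MonoidHom.mem_ker

theorem K_fixed {g : m.G₁} (hg : g ∈ m.C₀) (x : m.X) : m.K (g.1.2 x) = m.K x := by
  ext d
  rw [m.K_image, m.mem_C₀.mp hg]
  constructor
  · rintro ⟨a, b, hab, rfl⟩
    exact hab
  · intro hd
    exact ⟨⟨(d.1 : Ω), (m.mem_K.mp hd).2⟩, d.2, hd, rfl⟩

/-- The restriction to `Y` of a permutation centralizing `Q`. -/
noncomputable def cY (c : m.C₀) : m.Y ≃ m.Y :=
  (c.1.1.2).subtypeEquiv fun y => by rw [m.K_fixed c.2]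

theorem cY_coe (c : m.C₀) (y : m.Y) : (m.cY c y : m.X) = c.1.1.2 y.1 := rfl

theorem cY_comm (c : m.C₀) (z : Subgroup.center Q) (y : m.Y) : m.cY c (z • y) = z • m.cY c y :=
  Subtype.ext (by
    rw [cY_coe, smul_Y_coe, smul_Y_coe, cY_coe, c.1.2.2, m.mem_C₀.mp c.2]
    rfl)

noncomputable instance : Fintype (MulAction.orbitRel.Quotient (Subgroup.center Q) m.Y) :=
  Fintype.ofFinite _

/-- The determinant. -/
noncomputable def det : m.C₀ →* Subgroup.center Q :=
  MonoidHom.mk' (fun c => fdet (Subgroup.center Q) (m.cY c)) fun a b => by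
    have e : m.cY (a * b) = (m.cY b).trans (m.cY a) := Equiv.ext fun y => rfl
    rw [e, fdet_trans m.free_Y _ _ (MulEquiv.refl _) (MulEquiv.refl _) (m.cY_comm b) (m.cY_comm a),
      MulEquiv.refl_apply, mul_comm]

theorem det_conj (g : m.G₁) (c : m.C₀) (hgc : g * c.1 * g⁻¹ ∈ m.C₀) :
    m.det ⟨g * c.1 * g⁻¹, hgc⟩ = zAut g.1.1 (m.det c) := by
  show fdet _ (m.cY ⟨g * c.1 * g⁻¹, hgc⟩) = zAut g.1.1 (fdet _ (m.cY c))
  rw [← fdet_conj m.free_Y (m.hY g) (m.cY c) _ (m.hY_twist g) (m.cY_comm c)]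
  congr 1
  ext y
  obtain ⟨y, rfl⟩ := (m.hY g).surjective y
  simp only [Equiv.trans_apply, Equiv.symm_apply_apply]
  rw [cY_coe, hY_coe, hY_coe, cY_coe]
  refine congrArg Subtype.val ?_
  show g.1.2 (c.1.1.2 (g.1.2.symm (((1 : S), shift (m.K (g.1.2 y.1))) • g.1.2 y.1))) = _
  rw [← g.2.1, Equiv.symm_apply_apply, c.1.2.1, g.2.1]
  congr 3
  ext d
  rw [m.K_image, m.K_image, m.K_fixed c.2]

/-- The subgroup divided out. -/
noncomputable def N₀ : Subgroup m.G₁ := m.det.ker.map m.C₀.subtype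

instance : m.N₀.Normal := ⟨fun x hx g => by
  obtain ⟨c, hc, rfl⟩ := hx
  have hC : g * c.1 * g⁻¹ ∈ m.C₀ := by
    rw [mem_C₀]
    show g.1.1 * c.1.1.1 * (g.1.1)⁻¹ = 1
    rw [m.mem_C₀.mp c.2, mul_one, mul_inv_cancel]
  refine ⟨⟨_, hC⟩, ?_, rfl⟩
  rw [SetLike.mem_coe, MonoidHom.mem_ker, m.det_conj g c hC, MonoidHom.mem_ker.mp hc, map_one]⟩

/-- The model. -/
abbrev Grp : Type u := m.G₁ ⧸ m.N₀

/-- Conjugation by an element of `S` as an automorphism of `Q`. -/
def conjQ : S →* MulAut Q :=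
  Q.normalizerMonoidHom.comp
    (MonoidHom.mk' (fun s => (⟨(s : Ω), m.mem_normalizer s.2⟩ : Subgroup.normalizer (Q : Set Ω)))
      fun _ _ => rfl)

theorem conjQ_apply (s : S) (a : Q) : ((m.conjQ s a : Q) : Ω) = cj (s : Ω) a := rfl

/-- The left translations. -/
noncomputable def left : S →* m.G₁ :=
  MonoidHom.mk'
    (fun s => ⟨(m.conjQ s, MulAction.toPerm ((s, 1) : S × S)),
      fun b x => by
        show ((s, 1) : S × S) • ((1 : S), b) • x = ((1 : S), b) • ((s, 1) : S × S) • x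
        rw [← mul_smul, ← mul_smul, m.right_comm_left],
      fun a x => by
        show ((s, 1) : S × S) • m.lq a • x = m.lq (m.conjQ s a) • ((s, 1) : S × S) • x
        rw [← mul_smul, ← mul_smul]
        congr 1
        refine Prod.ext (Subtype.ext ?_) (by simp [lq])
        show (s : Ω) * a = (s : Ω) * a * (s : Ω)⁻¹ * s
        rw [inv_mul_cancel_right]⟩)
    fun s t => by
      refine Subtype.ext (Prod.ext ?_ ?_)
      · show m.conjQ (s * t) = _
        rw [map_mul]
        rfl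
      · ext x
        show ((((s * t, 1) : S × S) • x : m.X) : m.B.X) = ((((s, 1) : S × S) • ((t, 1) : S × S) • x : m.X) : m.B.X)
        rw [← mul_smul]
        simp

theorem left_apply (s : S) (x : m.X) : (m.left s).1.2 x = ((s, 1) : S × S) • x := rfl

/-- The map from `S` into the model. -/
noncomputable def iota : S →* m.Grp := (QuotientGroup.mk' m.N₀).comp m.left

theorem center_mem_C₀ (z : Subgroup.center Q) :
    m.left (Subgroup.inclusion m.le_S z) ∈ m.C₀ := by
  refine m.mem_C₀.mpr (MulEquiv.ext fun a => Subtype.ext ?_)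
  show ((z : Q) : Ω) * a * ((z : Q) : Ω)⁻¹ = a
  exact cj_fixed_iff.mpr (congrArg Subtype.val (Subgroup.mem_center_iff.mp z.2 a :) :).symm

theorem det_center (z : Subgroup.center Q) :
    m.det ⟨_, m.center_mem_C₀ z⟩ =
      z ^ Fintype.card (MulAction.orbitRel.Quotient (Subgroup.center Q) m.Y) :=
  fdet_smul m.free_Y z _ fun y => Subtype.ext rfl

theorem card_orbits :
    ¬ p ∣ Fintype.card (MulAction.orbitRel.Quotient (Subgroup.center Q) m.Y) := by
  have := m.B.finite
  let D := m.D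
  let act : MulAction Q D.R :=
    { smul := fun a i => D.sig (Subgroup.inclusion m.le_S a) i
      one_smul := fun i => by
        show D.sig (Subgroup.inclusion m.le_S 1) i = i
        rw [map_one]
        exact (D.sig_one i).1
      mul_smul := fun a b i => by
        show D.sig (Subgroup.inclusion m.le_S (a * b)) i = _
        rw [map_mul]
        exact (D.sig_mul _ _ i).1 }
  have hQp : IsPGroup p Q := isPGroup_of_le m.le_S m.hS
  have hmod := hQp.card_modEq_card_fixedPoints D.R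
  rw [Nat.card_eq_fintype_card, D.card_R] at hmod
  have hfix : ∀ i, i ∈ MulAction.fixedPoints Q D.R ↔ D.r i ∈ qSet m.B Q := by
    intro i
    constructor
    · intro hi a ha
      have h1 := D.left_smul a i
      rw [show D.sig a i = i from hi ⟨(a : Ω), ha⟩] at h1
      refine ⟨(D.pos a i)⁻¹, ?_⟩
      rw [show ((a, (D.pos a i)⁻¹) : S × S) = (1, (D.pos a i)⁻¹) * (a, 1) by simp, mul_smul, h1,
        ← mul_smul]
      show ((1 : S) * 1, (D.pos a i)⁻¹ * D.pos a i) • D.r i = D.r i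
      rw [mul_one, inv_mul_cancel]
      exact one_smul (S × S) _
    · intro hi a
      obtain ⟨b, hb⟩ := hi (Subgroup.inclusion m.le_S a) a.2
      rw [show ((Subgroup.inclusion m.le_S a, b) : S × S) = (1, b) * (Subgroup.inclusion m.le_S a, 1)
        by simp, mul_smul, D.left_smul, ← mul_smul,
        show ((1 : S), b) * ((1 : S), D.pos (Subgroup.inclusion m.le_S a) i) =
          ((1 : S), b * D.pos (Subgroup.inclusion m.le_S a) i) by simp] at hb
      exact (D.uniq (c := 1) (hb.trans (one_smul (S × S) (D.r i)).symm)).1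
  let φ : MulAction.fixedPoints Q D.R → MulAction.orbitRel.Quotient (Subgroup.center Q) m.Y :=
    fun i => Quotient.mk _ ⟨_, m.shift_mem ⟨D.r i.1, (hfix i.1).mp i.2⟩⟩
  have hφ : Function.Bijective φ := by
    refine ⟨fun i j h => ?_, fun ω => ?_⟩
    · obtain ⟨z, hz⟩ := MulAction.orbitRel_apply.mp (Quotient.exact h)
      have h1 : m.lq z • ((1 : S), shift (m.K ⟨D.r j.1, (hfix j.1).mp j.2⟩)) •
          (⟨D.r j.1, (hfix j.1).mp j.2⟩ : m.X) =
          ((1 : S), shift (m.K ⟨D.r i.1, (hfix i.1).mp i.2⟩)) •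
            (⟨D.r i.1, (hfix i.1).mp i.2⟩ : m.X) :=
        congrArg Subtype.val hz
      have h2 := congrArg Subtype.val h1
      rw [coe_smul, coe_smul, coe_smul] at h2
      set s := shift (m.K ⟨D.r j.1, (hfix j.1).mp j.2⟩)
      set t := shift (m.K ⟨D.r i.1, (hfix i.1).mp i.2⟩)
      rw [← mul_smul, show m.lq (z : Q) * ((1 : S), s) =
        ((1 : S), s) * (Subgroup.inclusion m.le_S z, 1) by simp [lq], mul_smul, D.left_smul,
        ← mul_smul, show ((1 : S), s) * ((1 : S), D.pos (Subgroup.inclusion m.le_S z) j.1) =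
          ((1 : S), s * D.pos (Subgroup.inclusion m.le_S z) j.1) by simp] at h2
      obtain ⟨h3, -⟩ := D.uniq h2
      rw [show D.sig (Subgroup.inclusion m.le_S z) j.1 = j.1 from j.2 (z : Q)] at h3
      exact Subtype.ext h3.symm
    · induction ω using Quotient.inductionOn with | _ y => ?_
      obtain ⟨⟨i, c⟩, hic⟩ := D.e.surjective (y.1 : m.B.X)
      rw [← D.smul_r] at hic
      have hi : D.r i ∈ qSet m.B Q := by
        have := qSet_smul m.B (fun _ hs _ hz => m.conj_mem hs hz) ((1 : S), c)⁻¹ y.1.2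
        rwa [← hic, inv_smul_smul] at this
      refine ⟨⟨i, (hfix i).mpr hi⟩, Quotient.sound ?_⟩
      set s := shift (m.K ⟨D.r i, hi⟩)
      set x : m.X := ((1 : S), s) • (⟨D.r i, hi⟩ : m.X) with hx
      have hxy : ((1 : S), s * c⁻¹) • y.1 = x := Subtype.ext (by
        rw [hx, coe_smul, coe_smul, ← hic, ← mul_smul]
        simp)
      have hK : (m.K y.1).map (MulAut.conj ((1 : S), s * c⁻¹)).toMonoidHom = m.K x := by
        rw [← m.K_smul_right, hxy]
      have hxx : krep (m.K x) = m.K x := m.shift_mem _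
      have hKeq : m.K x = m.K y.1 := by
        rw [← hxx, ← y.2]
        exact (krep_eq_iff.mpr ⟨_, hK⟩).symm
      rw [hKeq] at hK
      obtain ⟨z, hz⟩ := m.K_conj_eq_imp hK
      refine MulAction.orbitRel_apply.mpr ⟨z, Subtype.ext ?_⟩
      exact hz.symm.trans hxy
  rw [← Nat.card_eq_fintype_card, ← Nat.card_congr (Equiv.ofBijective φ hφ)]
  intro hd
  exact m.B.not_dvd ((Nat.modEq_zero_iff_dvd).mp (hmod.trans (Nat.modEq_zero_iff_dvd.mpr hd)))

theorem pow_orbits_bijective : Function.Bijective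
    (fun z : Subgroup.center Q =>
      z ^ Fintype.card (MulAction.orbitRel.Quotient (Subgroup.center Q) m.Y)) := by
  have := finite_of_le m.le_S
  obtain ⟨n, hn⟩ := IsPGroup.iff_card.mp ((isPGroup_of_le m.le_S m.hS).to_subgroup (Subgroup.center Q))
  have hc : (Nat.card (Subgroup.center Q)).Coprime
      (Fintype.card (MulAction.orbitRel.Quotient (Subgroup.center Q) m.Y)) := by
    rw [hn]
    exact Nat.Coprime.pow_left _ ((hp.out.coprime_iff_not_dvd).mpr m.card_orbits)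
  exact (powCoprime hc).bijective

/-- Modulo `N₀`, elements acting trivially on `Q` come from the centre. -/
theorem exists_center {g : m.G₁} (hg : g ∈ m.C₀) :
    ∃ z : Subgroup.center Q, (QuotientGroup.mk' m.N₀) g = m.iota (Subgroup.inclusion m.le_S z) := by
  obtain ⟨z, hz⟩ := m.pow_orbits_bijective.2 (m.det ⟨g, hg⟩)
  refine ⟨z, ?_⟩
  show QuotientGroup.mk' m.N₀ g = QuotientGroup.mk' m.N₀ (m.left _)
  rw [QuotientGroup.mk'_apply, QuotientGroup.mk'_apply, QuotientGroup.eq]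
  refine ⟨⟨g, hg⟩⁻¹ * ⟨_, m.center_mem_C₀ z⟩, ?_, rfl⟩
  rw [SetLike.mem_coe, MonoidHom.mem_ker, map_mul, map_inv, m.det_center, inv_mul_eq_one]
  exact hz.symm

theorem mem_N₀_fst {g : m.G₁} (hg : g ∈ m.N₀) : g.1.1 = 1 := by
  obtain ⟨c, -, rfl⟩ := hg
  exact m.mem_C₀.mp c.2

/-- The action of the model on `Q`. -/
noncomputable def proj : m.Grp →* MulAut Q :=
  QuotientGroup.lift m.N₀ ((MonoidHom.fst (MulAut Q) (Equiv.Perm m.X)).comp m.G₁.subtype)
    fun _ hg => MonoidHom.mem_ker.mpr (m.mem_N₀_fst hg)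

theorem proj_iota (s : S) : m.proj (m.iota s) = m.conjQ s := rfl

theorem iota_injective : Function.Injective m.iota := by
  refine (injective_iff_map_eq_one _).mpr fun s hs => ?_
  have hmem : m.left s ∈ m.N₀ := (QuotientGroup.eq_one_iff _).mp hs
  have hfix : m.conjQ s = 1 := m.mem_N₀_fst hmem
  have hsC : (s : Ω) ∈ centralizerIn S Q := mem_centralizerIn.mpr ⟨s.2, fun a ha => by
    rw [← m.conjQ_apply s ⟨a, ha⟩, hfix]
    rfl⟩
  have hsQ : (s : Ω) ∈ Q := m.hQc.2 Q (isConj_refl F m.le_S) hsC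
  have hz : (⟨(s : Ω), hsQ⟩ : Q) ∈ Subgroup.center Q := Subgroup.mem_center_iff.mpr fun b =>
    Subtype.ext (cj_fixed_iff.mp ((mem_centralizerIn.mp hsC).2 _ b.2)).symm
  obtain ⟨c, hc, hce⟩ := hmem
  have h1 : m.det ⟨_, m.center_mem_C₀ ⟨_, hz⟩⟩ = 1 := by
    rw [← MonoidHom.mem_ker]
    exact (Subtype.ext hce : c = ⟨_, m.center_mem_C₀ ⟨_, hz⟩⟩) ▸ hc
  rw [m.det_center] at h1
  have h2 := m.pow_orbits_bijective.1 (a₁ := (⟨_, hz⟩ : Subgroup.center Q)) (a₂ := 1)
    (h1.trans (one_pow _).symm)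
  exact Subtype.ext (congrArg (fun z : Subgroup.center Q => ((z : Q) : Ω)) h2)

/-- Every map defined on a subgroup containing `Q` is induced in the model. -/
theorem exists_inducing {R : Subgroup Ω} {g : Ω → Ω} (hg : IsMor F R g) (hQR : Q ≤ R) :
    ∃ t : m.Grp, (∀ a : Q, ((m.proj t a : Q) : Ω) = g a) ∧
      ∀ a a' : S, (a : Ω) ∈ R → (a' : Ω) = g a → m.iota a' = t * m.iota a * t⁻¹ := by
  have := m.B.finite
  have hm : ∀ a ∈ Q, g a ∈ Q := fun a ha =>
    (stronglyClosed_iff.mp (isNormal_stronglyClosed m.hQ)).2 R g hg a (hQR ha) ha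
  obtain ⟨α, -, hαe⟩ := exists_aut (hg.restrict hQR) ((hg.restrict hQR).img_eq_self hm)
  obtain ⟨β, hβ⟩ := m.B.twist R g hg
  have hmap : ∀ x : m.B.X, x ∈ qSet m.B Q → β x ∈ qSet m.B Q := by
    intro x hx a ha
    obtain ⟨a₀, ha₀, hae⟩ := (hg.restrict hQR).mem_img.mp
      (((hg.restrict hQR).img_eq_self hm).ge ha)
    obtain ⟨b, hb⟩ := hx ⟨a₀, m.le_S ha₀⟩ ha₀
    refine ⟨b, ?_⟩
    rw [← hβ ⟨a₀, m.le_S ha₀⟩ b a (hQR ha₀) hae.symm x, hb]
  let π : Equiv.Perm m.X := Equiv.ofBijective (fun x => ⟨β x.1, hmap x.1 x.2⟩)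
    (Finite.injective_iff_bijective.mp fun x y h =>
      Subtype.ext (β.injective (congrArg Subtype.val h)))
  have hmem : (α, π) ∈ m.G₁ := by
    refine ⟨fun b x => Subtype.ext ?_, fun a x => Subtype.ext ?_⟩
    · exact hβ 1 b 1 (one_mem R) (by rw [Subgroup.coe_one]; exact hg.map_one.symm) x.1
    · refine hβ _ 1 _ (hQR a.2) ?_ x.1
      exact (autFun_coe α a).symm.trans (hαe a a.2)
  refine ⟨QuotientGroup.mk' m.N₀ ⟨_, hmem⟩, fun a => ?_, fun a a' ha ha' => ?_⟩
  · exact (autFun_coe α a).symm.trans (hαe a a.2)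
  · rw [eq_mul_inv_iff_mul_eq]
    show QuotientGroup.mk' m.N₀ (m.left a') * _ = _ * QuotientGroup.mk' m.N₀ (m.left a)
    rw [← map_mul, ← map_mul]
    congr 1
    refine Subtype.ext (Prod.ext (MulEquiv.ext fun b => Subtype.ext ?_) (Equiv.ext fun x =>
      Subtype.ext ?_))
    · show (a' : Ω) * (α b : Q) * (a' : Ω)⁻¹ = (α (m.conjQ a b) : Q)
      rw [← autFun_coe, ← autFun_coe, hαe _ b.2, hαe _ (m.conjQ a b).2, m.conjQ_apply, ha', cj,
        hg.map_conj ha (hQR b.2)]
    · exact (hβ a 1 a' ha ha' x.1).symm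

theorem proj_mem (t : m.Grp) : m.proj t ∈ F.autGroup Q := by
  obtain ⟨g, rfl⟩ := QuotientGroup.mk'_surjective m.N₀ t
  show g.1.1 ∈ F.autGroup Q
  have hne : Nonempty (MulAction.orbitRel.Quotient (Subgroup.center Q) m.Y) :=
    Fintype.card_pos_iff.mp (Nat.pos_of_ne_zero fun h => m.card_orbits (h ▸ dvd_zero p))
  obtain ⟨ω⟩ := hne
  set x : m.X := (Quotient.out ω).1
  obtain ⟨f, hf, hfi, hfK⟩ := m.exists_map x
  obtain ⟨f', hf', hfi', hfK'⟩ := m.exists_map (g.1.2 x)
  obtain ⟨k, hk, hkl, -, hki⟩ := hf'.inverse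
  rw [hfi'] at hk
  refine (autGroup_eq_set m.le_S _).mpr ((hf.comp hk fun a ha => hfi ▸ mem_img_of_mem f ha).congr
    fun a ha => ?_)
  obtain ⟨b, hb⟩ := m.exists_mem_K x ⟨a, ha⟩
  have h1 := (hfK _).mp hb
  have h2 := (hfK' _).mp ((m.K_image g x _).mpr ⟨_, _, hb, rfl⟩)
  show k (f a) = _
  rw [autFun_of_mem _ ha]
  have h3 : f a = (b : Ω) := h1.2
  have h4 : f' ((g.1.1 ⟨a, ha⟩ : Q) : Ω) = (b : Ω) := h2.2
  rw [h3, ← h4, hkl _ (g.1.1 ⟨a, ha⟩).2]

theorem proj_range : m.proj.range = F.autGroup Q := by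
  refine le_antisymm (by rintro _ ⟨t, rfl⟩; exact m.proj_mem t) fun α hα => ?_
  obtain ⟨t, ht, -⟩ := m.exists_inducing (isMor_autFun m.le_S hα) le_rfl
  exact ⟨t, MulEquiv.ext fun a => Subtype.ext ((ht a).trans (autFun_coe α a))⟩

theorem conj_iota_left (t : m.Grp) (a : Q) :
    t * m.iota (Subgroup.inclusion m.le_S a) * t⁻¹ =
      m.iota (Subgroup.inclusion m.le_S (m.proj t a)) := by
  obtain ⟨g, rfl⟩ := QuotientGroup.mk'_surjective m.N₀ t
  rw [mul_inv_eq_iff_eq_mul]
  show QuotientGroup.mk' m.N₀ g * QuotientGroup.mk' m.N₀ (m.left _) =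
    QuotientGroup.mk' m.N₀ (m.left _) * QuotientGroup.mk' m.N₀ g
  rw [← map_mul, ← map_mul]
  congr 1
  refine Subtype.ext (Prod.ext (MulEquiv.ext fun b => ?_) (Equiv.ext fun x => ?_))
  · show g.1.1 (a * b * a⁻¹) = g.1.1 a * g.1.1 b * (g.1.1 a)⁻¹
    rw [map_mul, map_mul, map_inv]
  · exact g.2.2 a x

theorem finite_grp : Finite m.Grp := by
  have := m.B.finite
  have := finite_of_le m.le_S
  have : Finite (MulAut Q) := finite_mulAut m.le_S
  infer_instance

theorem range_iota_sylow [Finite m.Grp] : ∃ T : Sylow p m.Grp, (T : Subgroup m.Grp) = m.iota.range := by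
  have hQn : F.IsFullyNormalized Q := by
    refine ⟨m.le_S, fun U _ => ?_⟩
    have : normalizerIn S Q = S := le_antisymm normalizerIn_le fun a ha =>
      mem_normalizerIn.mpr ⟨ha, m.mem_normalizer ha⟩
    rw [this]
    exact Subgroup.card_le_of_le normalizerIn_le
  obtain ⟨R, hR⟩ := (isFullyAutomized_of_normalized m.hS m.hF hQn).1.2
  have := finite_mulAut (P := Q) m.le_S
  let π : m.Grp →* F.autGroup Q := m.proj.codRestrict _ m.proj_mem
  have hπs : Function.Surjective π := by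
    rintro ⟨α, hα⟩
    obtain ⟨t, ht⟩ := m.proj_range.ge hα
    exact ⟨t, Subtype.ext ht⟩
  have hker : π.ker ≤ m.iota.range := by
    intro t ht
    obtain ⟨g, rfl⟩ := QuotientGroup.mk'_surjective m.N₀ t
    obtain ⟨z, hz⟩ := m.exists_center (g := g)
      (m.mem_C₀.mpr (congrArg Subtype.val (MonoidHom.mem_ker.mp ht) :))
    exact ⟨_, hz.symm⟩
  have hmap : m.iota.range.map π = (autInducedBy S Q).subgroupOf (F.autGroup Q) := by
    ext ⟨α, hα⟩
    constructor
    · rintro ⟨_, ⟨s, rfl⟩, e⟩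
      refine mem_autInducedBy.mpr ⟨(s : Ω), s.2, m.mem_normalizer s.2, fun a ha => ?_⟩
      show autFun α a = _
      have e' : m.conjQ s = α := congrArg Subtype.val e
      rw [← e', autFun_of_mem _ ha]
      exact m.conjQ_apply s ⟨a, ha⟩
    · intro h
      obtain ⟨s, hs, -, he⟩ := mem_autInducedBy.mp h
      refine ⟨m.iota ⟨s, hs⟩, ⟨_, rfl⟩, Subtype.ext (MulEquiv.ext fun a => Subtype.ext ?_)⟩
      show ((m.conjQ ⟨s, hs⟩ a : Q) : Ω) = _
      rw [m.conjQ_apply, ← autFun_coe]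
      exact (he a a.2).symm
  have hidx : ¬ p ∣ m.iota.range.index := by
    rw [← Subgroup.index_map_eq m.iota.range hπs hker, hmap, ← hR]
    exact R.not_dvd_index
  have hpg : IsPGroup p m.iota.range :=
    m.hS.of_surjective m.iota.rangeRestrict m.iota.rangeRestrict_surjective
  exact ⟨hpg.toSylow hidx, rfl⟩

end ModelSetup

/-- Existence of models. -/
theorem exists_model (hS : IsPGroup p S) (hF : F.IsConstrained p) :
    ∃ (G : Type u) (_ : Group G) (ι : S →* G), F.IsModel p G ι := by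
  obtain ⟨hsat, Q, hQ, hQc⟩ := hF
  obtain ⟨B⟩ := exists_charBiset hS hsat
  obtain ⟨D⟩ := exists_transferData B
  obtain ⟨m⟩ : Nonempty (ModelSetup F p Q) := ⟨⟨hS, hsat, hQ, hQc, B, D⟩⟩
  have := m.finite_grp
  refine ⟨m.Grp, inferInstance, m.iota, inferInstance,
    ⟨m.iota_injective, fun P hP φ hφ => ⟨fun hmem => ?_, fun ⟨t, ht⟩ => ?_⟩⟩,
    m.range_iota_sylow, ?_⟩
  · obtain ⟨g, hg, hgf, -⟩ := (isNormal_iff.mp hQ).2 P _ (isMor_of_mem hmem)
    obtain ⟨t, -, ht⟩ := m.exists_inducing hg le_sup_right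
    refine ⟨t, fun x => ht ⟨x, hP x.2⟩ ⟨φ x, hφ x⟩ (Subgroup.mem_sup_left x.2) ?_⟩
    show φ x = g x
    rw [hgf x x.2, toFun_coe]
  · set α := m.proj t with hα
    have hαm := isMor_autFun m.le_S (m.proj_mem t)
    have hQn : F.IsFullyNormalized Q := by
      refine ⟨m.le_S, fun U _ => ?_⟩
      have : normalizerIn S Q = S := le_antisymm normalizerIn_le fun a ha =>
        mem_normalizerIn.mpr ⟨ha, m.mem_normalizer ha⟩
      rw [this]
      exact Subgroup.card_le_of_le normalizerIn_le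
    obtain ⟨ψ, hψ, hψe⟩ := (isReceptive_iff.mp (isFullyAutomized_of_normalized hS hsat hQn).2).2 Q
      (autFun α) hαm (img_autFun α)
    have hPN : ∀ x ∈ P, x ∈ nExt S Q (autFun α) := by
      intro x hx
      refine ⟨hP hx, m.mem_normalizer (hP hx), φ ⟨x, hx⟩, hφ _, fun a ha => ?_⟩
      have h1 := congrArg m.proj (ht ⟨x, hx⟩)
      rw [map_mul, map_mul, map_inv, m.proj_iota, m.proj_iota, eq_mul_inv_iff_mul_eq] at h1
      have h2 := congrArg (fun β : MulAut Q => ((β ⟨a, ha⟩ : Q) : Ω)) h1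
      show autFun α (cj x a) = cj (φ ⟨x, hx⟩) (autFun α a)
      rw [autFun_of_mem α ha, autFun_of_mem α (m.conj_mem (hP hx) ha)]
      exact h2.symm
    obtain ⟨e, hep, hee⟩ := m.exists_inducing hψ (le_nExt hαm)
    have hproj : m.proj (e⁻¹ * t) = 1 := by
      rw [map_mul, map_inv, inv_mul_eq_one]
      exact MulEquiv.ext fun a => Subtype.ext
        ((hep a).trans ((hψe a a.2).trans (autFun_coe α a)))
    obtain ⟨g, hg⟩ := QuotientGroup.mk'_surjective m.N₀ (e⁻¹ * t)
    obtain ⟨z, hz⟩ := m.exists_center (g := g) (m.mem_C₀.mpr (by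
      have h3 : m.proj (QuotientGroup.mk' m.N₀ g) = 1 := by rw [hg, hproj]
      exact h3))
    rw [hg] at hz
    have ht' : t = e * m.iota (Subgroup.inclusion m.le_S z) := by rw [← hz, mul_inv_cancel_left]
    have hzN : ((z : Q) : Ω) ∈ nExt S Q (autFun α) := le_nExt hαm (z : Q).2
    refine ((((isMor_cj F hP (m.le_S (z : Q).2)).comp hψ fun x hx => ?_)).mem_hom fun x => ?_)
    · exact Subgroup.mul_mem _ (Subgroup.mul_mem _ hzN (hPN x hx)) (Subgroup.inv_mem _ hzN)
    · have hzx : cj ((z : Q) : Ω) (x : Ω) ∈ nExt S Q (autFun α) :=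
        Subgroup.mul_mem _ (Subgroup.mul_mem _ hzN (hPN x x.2)) (Subgroup.inv_mem _ hzN)
      have h4 := hee ⟨_, hψ.le hzx⟩ ⟨_, hψ.mem hzx⟩ hzx rfl
      have h5 : m.iota ⟨φ x, hφ x⟩ = m.iota ⟨_, hψ.mem hzx⟩ := by
        rw [ht x, ht', h4,
          show (⟨cj ((z : Q) : Ω) x, hψ.le hzx⟩ : S) = Subgroup.inclusion m.le_S z * ⟨x, hP x.2⟩ *
            (Subgroup.inclusion m.le_S z)⁻¹ from rfl, map_mul, map_mul, map_inv]
        simp [mul_assoc]
      exact congrArg Subtype.val (m.iota_injective h5)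
  · let Qi : Subgroup m.Grp := (Q.subgroupOf S).map m.iota
    have hQi : Qi.Normal := ⟨by
      rintro _ ⟨a, ha, rfl⟩ t
      have h := m.conj_iota_left t ⟨(a : Ω), ha⟩
      refine ⟨Subgroup.inclusion m.le_S (m.proj t ⟨(a : Ω), ha⟩), (m.proj t ⟨(a : Ω), ha⟩).2, ?_⟩
      exact h.symm⟩
    have hQip : IsPGroup p Qi := (hS.to_subgroup _).map _
    have hle : Qi ≤ pCore p m.Grp := CfsgLib.Base.le_pCore hQip
    intro t ht
    refine hle ?_
    have hα : m.proj t = 1 := MulEquiv.ext fun a => by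
      have h := m.conj_iota_left t a
      have hmem : m.iota (Subgroup.inclusion m.le_S a) ∈ pCore p m.Grp :=
        hle ⟨_, (a.2 : ((Subgroup.inclusion m.le_S a : S) : Ω) ∈ Q), rfl⟩
      rw [← Subgroup.mem_centralizer_iff.mp ht _ hmem, mul_inv_cancel_right] at h
      exact (Subgroup.inclusion_injective m.le_S (m.iota_injective h)).symm
    obtain ⟨g, rfl⟩ := QuotientGroup.mk'_surjective m.N₀ t
    obtain ⟨z, hz⟩ := m.exists_center (g := g) (m.mem_C₀.mpr hα)
    exact ⟨_, (z : Q).2, hz.symm⟩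

end CfsgLib.Fusion
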