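import Cfsg.Agent.Lib.Fusion.ModelProps
import Cfsg.Agent.Lib.Fusion.Normal
import Cfsg.Agent.Lib.Transfer.Fusion

/-!
# Fusion systems realised by a group with a prescribed Sylow subgroup
-/

set_option autoImplicit false

namespace CfsgLib.Fusion

open Cfsg Cfsg.FusionSystem

variable {p : ℕ} [hp : Fact p.Prime] {Ω : Type*} [Group Ω] {S : Subgroup Ω}
  {G : Type*} [Group G] {ι : S →* G}

/-- An injective homomorphism of `S` into a group gives the system of the maps it induces. -/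
theorem exists_realized (hι : Function.Injective ι) :
    ∃ F : FusionSystem S, F.IsRealizedBy ι := by
  let M : Subgroup Ω → (Ω → Ω) → Prop := fun P f =>
    P ≤ S ∧ (∀ x ∈ P, f x ∈ S) ∧ ∃ g, Induces ι P f g
  have hmul : ∀ P f, M P f → ∀ x ∈ P, ∀ y ∈ P, f (x * y) = f x * f y := by
    rintro P f ⟨hP, hfS, g, hg⟩ x hx y hy
    have e := fun z (hz : z ∈ P) => hg ⟨z, hP hz⟩ ⟨f z, hfS z hz⟩ hz rfl
    have h1 : (⟨f (x * y), hfS _ (P.mul_mem hx hy)⟩ : S) = ⟨f x, hfS x hx⟩ * ⟨f y, hfS y hy⟩ := by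
      refine hι ?_
      rw [map_mul, e x hx, e y hy, e _ (P.mul_mem hx hy),
        show (⟨x * y, hP (P.mul_mem hx hy)⟩ : S) = ⟨x, hP hx⟩ * ⟨y, hP hy⟩ from rfl, map_mul]
      simp [mul_assoc]
    exact congrArg Subtype.val h1
  let F := ofPred S M (fun P f h => ⟨h.1, h.2.1⟩)
    (fun P f ⟨hP, hfS, g, hg⟩ x hx y hy h => by
      have e := fun z (hz : z ∈ P) => hg ⟨z, hP hz⟩ ⟨f z, hfS z hz⟩ hz rfl
      have h1 := (e x hx).symm.trans
        ((congrArg ι (Subtype.ext h : (⟨f x, hfS x hx⟩ : S) = ⟨f y, hfS y hy⟩)).trans (e y hy))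
      exact congrArg Subtype.val (hι (mul_left_cancel (mul_right_cancel h1))))
    (fun P f g ⟨hP, hfS, k, hk⟩ h => ⟨hP, fun x hx => h x hx ▸ hfS x hx, k,
      fun a b ha hb => hk a b ha (hb.trans (h _ ha).symm)⟩)
    (fun P g hP hg => ⟨hP, fun x hx => S.mul_mem (S.mul_mem hg (hP hx)) (S.inv_mem hg), ι ⟨g, hg⟩,
      fun a b ha hb => by
        rw [show b = ⟨g, hg⟩ * a * ⟨g, hg⟩⁻¹ from Subtype.ext hb, map_mul, map_mul, map_inv]⟩)
    (fun P Q f g ⟨hP, hfS, k, hk⟩ ⟨hQ, hgS, l, hl⟩ hfQ =>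
      ⟨hP, fun x hx => hgS _ (hfQ x hx), l * k, fun a b ha hb => by
        rw [hl ⟨f a, hfS _ ha⟩ b (hfQ _ ha) hb, hk a _ ha rfl]
        simp [mul_assoc]⟩)
    (fun P f h hmul' => by
      classical
      obtain ⟨hP, hfS, k, hk⟩ := h
      have hinj : ∀ x ∈ P, ∀ y ∈ P, f x = f y → x = y := fun x hx y hy e => by
        have h1 := (hk ⟨x, hP hx⟩ ⟨f x, hfS x hx⟩ hx rfl).symm.trans
          ((congrArg ι (Subtype.ext e : (⟨f x, hfS x hx⟩ : S) = ⟨f y, hfS y hy⟩)).trans
            (hk ⟨y, hP hy⟩ ⟨f y, hfS y hy⟩ hy rfl))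
        exact congrArg Subtype.val (hι (mul_left_cancel (mul_right_cancel h1)))
      have hfm : f 1 = 1 := by
        have := hmul' 1 P.one_mem 1 P.one_mem
        rw [one_mul] at this
        exact left_eq_mul.mp this
      let φ : P →* Ω :=
        { toFun := fun x => f x, map_one' := hfm, map_mul' := fun x y => hmul' x x.2 y y.2 }
      have himg : ∀ y ∈ img P f, ∃ x ∈ P, f x = y := by
        intro y hy
        have hle : img P f ≤ φ.range := img_le fun x hx => ⟨⟨x, hx⟩, rfl⟩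
        obtain ⟨x, hx⟩ := hle hy
        exact ⟨x, x.2, hx⟩
      let g : Ω → Ω := fun y => if hy : ∃ x ∈ P, f x = y then hy.choose else 1
      have hgl : ∀ x ∈ P, g (f x) = x := fun x hx => by
        have hy : ∃ z ∈ P, f z = f x := ⟨x, hx, rfl⟩
        show dite _ _ _ = x
        rw [dif_pos hy]
        exact hinj _ hy.choose_spec.1 x hx hy.choose_spec.2
      refine ⟨g, ⟨img_le hfS, fun y hy => ?_, k⁻¹, fun a b ha hb => ?_⟩, hgl⟩
      · obtain ⟨x, hx, rfl⟩ := himg y hy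
        rw [hgl x hx]; exact hP hx
      · obtain ⟨x, hx, he⟩ := himg _ ha
        rw [← he, hgl x hx] at hb
        rw [show b = ⟨x, hP hx⟩ from Subtype.ext hb, hk ⟨x, hP hx⟩ a hx he.symm]
        simp [mul_assoc])
  have hF : ∀ P f, IsMor F P f ↔ M P f := fun P f => isMor_ofPred (hmul P f)
  refine ⟨F, hι, fun P hP φ hφ => ⟨fun h => ?_, ?_⟩⟩
  · obtain ⟨-, hfS, g, hg⟩ := (hF _ _).mp (isMor_of_mem h)
    exact ⟨g, fun x => hg _ _ x.2 (toFun_coe φ x).symm⟩
  · rintro ⟨g, hg⟩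
    refine IsMor.mem_hom ((hF P _).mpr ⟨hP, fun x hx => ?_, g, fun a b ha hb => ?_⟩)
      fun x => (toFun_coe φ x).symm
    · rw [toFun_of_mem φ hx]; exact hφ _
    · rw [toFun_of_mem φ ha] at hb
      have h1 := hg ⟨a, ha⟩
      rwa [show (⟨φ ⟨a, ha⟩, hφ _⟩ : S) = b from Subtype.ext hb.symm] at h1

/-- A Sylow subgroup isomorphic to `S` gives a saturated system over `S`. -/
theorem exists_system_of_sylow [Finite S] [Finite G] (T : Sylow p G) (e : S ≃* (T : Subgroup G)) :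
    ∃ F : FusionSystem S, F.IsSaturated p ∧
      F.IsRealizedBy ((T : Subgroup G).subtype.comp e.toMonoidHom) := by
  obtain ⟨F, hF⟩ := exists_realized (ι := (T : Subgroup G).subtype.comp e.toMonoidHom)
    ((T : Subgroup G).subtype_injective.comp e.injective)
  refine ⟨F, realized_isSaturated hF T ?_, hF⟩
  rw [MonoidHom.range_comp, MonoidHom.range_eq_top.2 e.surjective, ← MonoidHom.range_eq_map,
    Subgroup.range_subtype]

/-- If `S` is normal in a system realised by `G` and `Aut S` is a `p`-group, the Sylow subgroup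
controls fusion, so meets the derived group of `G` in its own derived group. -/
theorem commutator_inf_eq_of_normal [Finite S] [Finite G] {F : FusionSystem S} (hS : IsPGroup p S)
    (hF : F.IsSaturated p) (T : Sylow p G) (h : F.IsRealizedBy ι)
    (hT : (T : Subgroup G) = ι.range) (hN : F.IsNormal S) (hA : IsPGroup p (F.autGroup S)) :
    commutator G ⊓ (T : Subgroup G) =
      ⁅(T : Subgroup G), (T : Subgroup G)⁆ ⊓ (T : Subgroup G) := by
  have hfull := (isFullyAutomized_iff.mp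
    (isFullyAutomized_of_normalized hS hF (isFullyNormalized_self F)).1).2
  obtain ⟨R, hR⟩ := (exists_sylow_iff (autInducedBy_le F le_rfl)).mpr hfull
  have hinner : F.autGroup S ≤ autInducedBy S S := fun α hα => by
    have htop : (⊤ : Subgroup (F.autGroup S)) = R :=
      R.is_maximal' (hA.to_subgroup ⊤) le_top
    have h1 : (⟨α, hα⟩ : F.autGroup S) ∈ (R : Subgroup (F.autGroup S)) := by
      rw [← htop]; trivial
    rw [hR] at h1
    exact h1
  refine CfsgLib.Transfer.commutator_inf_eq_of_fusion T le_rfl fun x hx g hgx => ?_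
  rw [hT] at hx hgx
  obtain ⟨a, rfl⟩ := hx
  have hP : Subgroup.zpowers (a : Ω) ≤ S := Subgroup.zpowers_le.2 a.2
  obtain ⟨hmor, hind⟩ := isMor_pullConj h hP (g := g) fun b hb => by
    obtain ⟨k, hk⟩ := hb
    rw [show b = a ^ k from Subtype.ext hk.symm, map_zpow, ← conj_zpow]
    exact zpow_mem hgx k
  obtain ⟨f, hf, hfe, hfS⟩ := (isNormal_iff.mp hN).2 _ _ hmor
  obtain ⟨α, hα, hαe⟩ := exists_aut (hf.restrict le_sup_right) hfS
  obtain ⟨t, ht, -, hte⟩ := mem_autInducedBy.mp (hinner hα)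
  refine ⟨ι ⟨t, ht⟩, hT ▸ ⟨_, rfl⟩, ?_⟩
  have hval : (((⟨t, ht⟩ : S) * a * (⟨t, ht⟩ : S)⁻¹ : S) : Ω) = pullConj ι g a := by
    rw [← hfe a (Subgroup.mem_zpowers _), ← hαe a a.2, hte a a.2]
    rfl
  rw [← map_inv, ← map_mul, ← map_mul, hind a _ (Subgroup.mem_zpowers _) hval]

/-- A system realised by `G` with a Sylow subgroup not controlling `G / G'` is not supersoluble. -/
theorem not_isNormal_of_sylow [Finite S] [Finite G] (hS : IsPGroup p S) (T : Sylow p G)
    (e : S ≃* (T : Subgroup G)) (hA : IsPGroup p (MulAut S))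
    (hne : commutator G ⊓ (T : Subgroup G) ≠ ⁅(T : Subgroup G), (T : Subgroup G)⁆) :
    ∃ F : FusionSystem S, F.IsSaturated p ∧ ¬ F.IsNormal S := by
  obtain ⟨F, hF, hr⟩ := exists_system_of_sylow T e
  refine ⟨F, hF, fun hN => hne ?_⟩
  rw [commutator_inf_eq_of_normal hS hF T hr (by
    rw [MonoidHom.range_comp, MonoidHom.range_eq_top.2 e.surjective, ← MonoidHom.range_eq_map,
      Subgroup.range_subtype]) hN (hA.to_subgroup _)]
  exact inf_eq_left.2 (Subgroup.commutator_le_self _)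

end CfsgLib.Fusion
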