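import Mathlib
import Cfsg.Agent.Lib.Fusion.Criteria
import Cfsg.Agent.Lib.Fusion.Alperin
import Cfsg.Agent.Lib.Fusion.ModelExists
import Cfsg.Agent.Lib.Fusion.Realize

/-!
# Comparing saturated systems through the automizers of a few subgroups
-/

set_option autoImplicit false

namespace CfsgLib.Fusion

universe u

open Cfsg Cfsg.FusionSystem

variable {Ω : Type*} [Group Ω] {S : Subgroup Ω} [Finite S] {F F' : FusionSystem S}
  {p : ℕ} [hp : Fact p.Prime] {P : Subgroup Ω}

/-- With a `p`-group on top, a system is contained in another as soon as its essential automizers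
are. -/
theorem le_of_essential_aut (hS : IsPGroup p S) (hF : F.IsSaturated p)
    (hA : IsPGroup p (F.autGroup S))
    (h : ∀ P : Subgroup Ω, F.IsEssential p P → F.autGroup P ≤ F'.autGroup P) : F ≤ F' := by
  refine alperin hS hF ?_
  rintro P (rfl | hP)
  · exact (autGroup_le_inn_of_isPGroup hS hF hA).trans (inn_le_autGroup F' le_rfl)
  · exact h P hP

theorem not_isPGroup_autGroup_of_essential (hS : IsPGroup p S) (h : F.IsEssential p P) :
    ¬ IsPGroup p (F.autGroup P) := fun hP =>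
  not_pClosed_of_essential hS h
    ⟨⟨⊤, hP.to_subgroup ⊤, fun _ hle => top_le_iff.mp hle⟩, ⟨fun k _ a => trivial⟩⟩

/-- Automizers which are `p`-groups stay so along the system. -/
theorem isPGroup_autGroup_of_isConj {Q : Subgroup Ω} (h : F.IsConj P Q)
    (hP : IsPGroup p (F.autGroup P)) : IsPGroup p (F.autGroup Q) := by
  obtain ⟨f, hf, hQ⟩ := isConj_iff.mp h
  obtain ⟨e, -, he, -⟩ := exists_transport hf hQ
  rintro ⟨β, hβ⟩
  obtain ⟨α, rfl⟩ := e.surjective β
  obtain ⟨k, hk⟩ := hP ⟨α, (he α).2 hβ⟩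
  refine ⟨k, Subtype.ext ?_⟩
  show e α ^ p ^ k = 1
  rw [← _root_.map_pow, show α ^ p ^ k = 1 from congrArg Subtype.val hk, _root_.map_one]

/-- An automizer containing `Aut_S(P)` which is not a `p`-group has order at least
`q |Aut_S(P)|` for `q` the least prime other than `p`. -/
theorem le_card_autGroup (hS : IsPGroup p S) (hPS : P ≤ S) {q : ℕ}
    (hq : ∀ r : ℕ, r.Prime → r ≠ p → q ≤ r) (hP : ¬ IsPGroup p (F.autGroup P)) :
    q * Nat.card (autInducedBy S P) ≤ Nat.card (F.autGroup P) := by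
  have := finite_mulAut hPS
  have hdvd := Subgroup.card_dvd_of_le (autInducedBy_le F hPS)
  obtain ⟨c, hc⟩ := hdvd
  obtain ⟨a, ha⟩ := IsPGroup.iff_card.mp (isPGroup_autInducedBy (P := P) hS)
  have hc0 : c ≠ 0 := fun e => by
    have : 0 < Nat.card (F.autGroup P) := Nat.card_pos
    rw [hc, e, mul_zero] at this
    omega
  obtain ⟨r, hr, hrc, hrp⟩ : ∃ r : ℕ, r.Prime ∧ r ∣ c ∧ r ≠ p := by
    by_contra hn
    push Not at hn
    refine hP (IsPGroup.of_card (n := a + c.primeFactorsList.length) ?_)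
    rw [hc, ha, pow_add, ← Nat.eq_prime_pow_of_unique_prime_dvd hc0 fun {d} hd hdc => hn d hd hdc]
  rw [hc, mul_comm]
  exact Nat.mul_le_mul_left _ ((hq r hr hrp).trans (Nat.le_of_dvd (Nat.pos_of_ne_zero hc0) hrc))

/-- An automizer lying in a group of the smallest possible order fills it. -/
theorem autGroup_eq_of_card (hS : IsPGroup p S) (hPS : P ≤ S) {q : ℕ}
    (hq : ∀ r : ℕ, r.Prime → r ≠ p → q ≤ r) {M : Subgroup (MulAut P)} (hM : F.autGroup P ≤ M)
    (hc : Nat.card M ≤ q * Nat.card (autInducedBy S P)) (hP : ¬ IsPGroup p (F.autGroup P)) :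
    F.autGroup P = M := by
  have := finite_mulAut hPS
  exact Subgroup.eq_of_le_of_card_ge hM (hc.trans (le_card_autGroup hS hPS hq hP))

omit hp in
/-- The order of `Aut_S(P)`. -/
theorem card_autInducedBy (hPS : P ≤ S) :
    Nat.card (normalizerIn S P) ≤ Nat.card (autInducedBy S P) * Nat.card (centralizerIn S P) := by
  classical
  set φ : normalizerIn S P →* MulAut P :=
    P.normalizerMonoidHom.comp (Subgroup.inclusion inf_le_right) with hφ
  have hle : φ.range ≤ autInducedBy S P := by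
    rintro _ ⟨⟨g, hg⟩, rfl⟩
    refine mem_autInducedBy.mpr ⟨g, hg.1, hg.2, fun x hx => ?_⟩
    rw [autFun_of_mem _ hx]
    rfl
  have hker : Nat.card φ.ker ≤ Nat.card (centralizerIn S P) := by
    have := finite_of_le (centralizerIn_le (S := S) (P := P))
    refine Nat.card_le_card_of_injective (fun g => ⟨((g : normalizerIn S P) : Ω),
      mem_centralizerIn.mpr ⟨(g : normalizerIn S P).2.1, fun x hx => ?_⟩⟩) fun a b e => ?_
    · have h := congrArg (fun α : MulAut P => ((α ⟨x, hx⟩ : P) : Ω)) (MonoidHom.mem_ker.mp g.2)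
      exact h
    · exact Subtype.ext (Subtype.ext (congrArg Subtype.val e :))
  have := finite_of_le (normalizerIn_le (S := S) (P := P))
  have h1 := Subgroup.card_mul_index φ.ker
  rw [Subgroup.index_ker] at h1
  rw [← h1, mul_comm]
  have := finite_mulAut hPS
  exact Nat.mul_le_mul (Subgroup.card_le_of_le hle) hker

omit hp in
/-- If the automizers at the top and at the essential subgroups move everything inside a normal
subgroup `T` containing the derived group of `S`, so do all maps. -/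
theorem div_mem_of_autos (hS : IsPGroup p S) (hF : F.IsSaturated p) [Fact p.Prime]
    {T : Subgroup Ω} (hT : ∀ a ∈ S, ∀ b ∈ S, a * b * a⁻¹ * b⁻¹ ∈ T)
    (hn : ∀ a ∈ S, ∀ t ∈ T, a * t * a⁻¹ ∈ T)
    (h : ∀ P : Subgroup Ω, (P = S ∨ F.IsEssential p P) →
      ∀ α ∈ F.autGroup P, ∀ x ∈ P, autFun α x * x⁻¹ ∈ T)
    {R : Subgroup Ω} {f : Ω → Ω} (hf : IsMor F R f) {x : Ω} (hx : x ∈ R) : f x * x⁻¹ ∈ T := by
  let M : Subgroup Ω → (Ω → Ω) → Prop := fun P f =>
    IsMor F P f ∧ ∀ x ∈ P, f x * x⁻¹ ∈ T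
  let E : FusionSystem S := ofPred S M (fun P f hm => ⟨hm.1.le, fun x hx => hm.1.mem hx⟩)
    (fun P f hm x hx y hy e => hm.1.inj hx hy e)
    (fun P f g hm e => ⟨hm.1.congr e, fun x hx => e x hx ▸ hm.2 x hx⟩)
    (fun P g hP hg => ⟨isMor_cj F hP hg, fun x hx => hT g hg x (hP hx)⟩)
    (fun P Q f g hm hm' hfQ => ⟨hm.1.comp hm'.1 hfQ, fun x hx => by
      rw [show (g ∘ f) x * x⁻¹ = g (f x) * (f x)⁻¹ * (f x * x⁻¹) by
        simp [Function.comp_apply, mul_assoc]]
      exact T.mul_mem (hm'.2 _ (hfQ x hx)) (hm.2 x hx)⟩)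
    (fun P f hm _ => by
      obtain ⟨g, hg, hl, hr, -⟩ := hm.1.inverse
      refine ⟨g, ⟨hg, fun y hy => ?_⟩, hl⟩
      obtain ⟨x, hx, rfl⟩ := hm.1.mem_img.mp hy
      have h2 := T.inv_mem (hm.2 x hx)
      rw [mul_inv_rev, inv_inv] at h2
      rw [hl x hx]
      exact h2)
  have hE : F ≤ E := alperin hS hF fun P hP α hα => by
    have hPS : P ≤ S := by
      rcases hP with rfl | hP
      exacts [le_rfl, hP.1.1]
    refine (autGroup_eq_set hPS α).mpr
      ((isMor_ofPred fun h' x hx y hy => h'.1.map_mul hx hy).mpr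
        ⟨isMor_autFun hPS hα, h P hP α hα⟩)
  exact ((isMor_ofPred fun h' x hx y hy => h'.1.map_mul hx hy).mp
    (le_iff_isMor.mp hE R f hf)).2 x hx

omit hp in
/-- A moved element gives a commutator of the realising group. -/
theorem div_mem_commutator {G : Type*} [Group G] {ι : S →* G} (hr : F.IsRealizedBy ι)
    {α : MulAut P} (hα : α ∈ F.autGroup P) (hPS : P ≤ S) {x : Ω} (hx : x ∈ P) :
    ι ⟨autFun α x * x⁻¹, S.mul_mem (hPS (autFun_mem α hx)) (S.inv_mem (hPS hx))⟩ ∈
      commutator G := by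
  obtain ⟨φ, hφ, e⟩ := isMor_autFun hPS hα
  obtain ⟨g, hg⟩ := (hr.2 P hPS φ (fun a => by rw [e a]; exact hPS (autFun_mem α a.2))).mp hφ
  have h := hg ⟨x, hx⟩
  simp only [e ⟨x, hx⟩] at h
  rw [show (⟨autFun α x * x⁻¹, _⟩ : S) =
    ⟨autFun α x, hPS (autFun_mem α hx)⟩ * (⟨x, hPS hx⟩ : S)⁻¹ from rfl, map_mul, map_inv, h]
  exact Subgroup.commutator_mem_commutator (Subgroup.mem_top g) (Subgroup.mem_top _)

/-- When all maps move inside `M`, so does transfer. -/
theorem sylow_inf_commutator_le {G : Type*} [Group G] [Finite G] {ι : S →* G}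
    (hr : F.IsRealizedBy ι) (T : Sylow p G) (hT : (T : Subgroup G) = ι.range) {M : Subgroup Ω}
    (hn : ∀ a ∈ S, ∀ t ∈ M, a * t * a⁻¹ ∈ M)
    (h : ∀ R f, IsMor F R f → ∀ x ∈ R, f x * x⁻¹ ∈ M) :
    commutator G ⊓ (T : Subgroup G) ≤ (M.subgroupOf S).map ι := by
  rw [Subgroup.commutator_inf_eq_focalSubgroup, Subgroup.focalSubgroup_def, Subgroup.closure_le]
  rintro z ⟨hz, x, hx, u, rfl⟩
  rw [hT] at hz hx
  obtain ⟨a, ha⟩ := Subgroup.inv_mem _ hx
  have hP : Subgroup.zpowers (a : Ω) ≤ S := Subgroup.zpowers_le.2 a.2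
  have hua : u * ι a * u⁻¹ ∈ ι.range := by
    have := Subgroup.mul_mem _ (Subgroup.inv_mem _ hx) hz
    rw [ha]
    simpa [commutatorElement_def, mul_assoc] using this
  obtain ⟨hmor, hind⟩ := isMor_pullConj hr hP (g := u) fun b hb => by
    obtain ⟨k, hk⟩ := hb
    rw [show b = a ^ k from Subtype.ext hk.symm, map_zpow, ← conj_zpow]
    exact zpow_mem hua k
  obtain ⟨b, hbe, hb⟩ := pullConj_spec ι hua
  refine ⟨a⁻¹ * b, ?_, ?_⟩
  · show (a : Ω)⁻¹ * b ∈ M
    have := hn _ (S.inv_mem a.2) _ (h _ _ hmor a (Subgroup.mem_zpowers _))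
    rw [← hbe] at this
    simpa [mul_assoc] using this
  · rw [map_mul, map_inv, hb, ha, commutatorElement_def]
    group

/-- A normal centric subgroup gives a finite group realising the system. -/
theorem isRealizable_of_normal {Ω : Type u} [Group Ω] {S : Subgroup Ω} [Finite S]
    {F : FusionSystem S} (hS : IsPGroup p S) (hF : F.IsSaturated p) {Q : Subgroup Ω}
    (hQ : F.IsNormal Q) (hQc : F.IsCentric Q) : F.IsRealizable p := by
  obtain ⟨G, i, ι, hG, hr, hT, -⟩ := exists_model hS ⟨hF, Q, hQ, hQc⟩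
  exact ⟨G, i, hG, ι, hr, hT⟩

end CfsgLib.Fusion
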