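import Mathlib
import Cfsg.Agent.Lib.Involutions.AutMaximalClassTwo
import Cfsg.Agent.Lib.Fusion.AutoPattern

/-!
# Dihedral, quaternion and quasidihedral subgroups, uniformly
-/

set_option autoImplicit false

namespace CfsgLib.Fusion

open Cfsg Cfsg.FusionSystem Subgroup

variable {Ω Ω' : Type*} [Group Ω] [Group Ω']

/-- A 2-group of maximal class inside an ambient group: `x` of order `2 ^ n`,
`y x y⁻¹ = x ^ (ε 2 ^ (n-1) - 1)` and `y ^ 2 = x ^ (δ 2 ^ (n-1))`. -/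
structure MC (S : Subgroup Ω) where
  n : ℕ
  x : Ω
  y : Ω
  ε : ℤ
  δ : ℤ
  hx : x ∈ S
  hy : y ∈ S
  ox : orderOf x = 2 ^ n
  small : (2 ≤ n ∧ ε = 0 ∧ δ = 0) ∨ 3 ≤ n
  conj : y * x * y⁻¹ = x ^ (ε * 2 ^ (n - 1) - 1)
  sqy : y * y = x ^ (δ * 2 ^ (n - 1))
  y_not : y ∉ zpowers x
  cover : ∀ s ∈ S, s ∈ zpowers x ∨ ∃ i : ℤ, s = x ^ i * y

namespace MC

variable {S : Subgroup Ω} (d : MC S)

/-- `2 ^ (n - 1)`. -/
def h : ℤ := 2 ^ (d.n - 1)

/-- `2 ^ (n - 2)`. -/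
def qu : ℤ := 2 ^ (d.n - 2)

/-- The reflections. -/
def g (i : ℤ) : Ω := d.x ^ i * d.y

/-- The square of `g i` is `x ^ (h · sq i)`. -/
def sq (i : ℤ) : ℤ := d.ε * i + d.δ

theorem two_le : 2 ≤ d.n := by rcases d.small with ⟨h, -⟩ | h <;> omega

theorem h_eq : d.h = 2 * d.qu := by
  rw [h, qu, ← pow_succ']; congr 1; have := d.two_le; omega

theorem qu_pos : 0 < d.qu := pow_pos (by norm_num) _

theorem h_pos : 0 < d.h := pow_pos (by norm_num) _

theorem two_pow_n : ((2 ^ d.n : ℕ) : ℤ) = 2 * d.h := by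
  push_cast
  rw [h, ← pow_succ']; congr 1; have := d.two_le; omega

theorem even_qu (hn : 3 ≤ d.n) : Even d.qu := even_iff_two_dvd.2 (dvd_pow_self 2 (by omega))

theorem even_ε_qu : Even (d.ε * d.qu) := by
  rcases d.small with ⟨-, h, -⟩ | h
  · simp [h]
  · exact (d.even_qu h).mul_left _

theorem even_h : Even d.h := by rw [d.h_eq]; exact even_two_mul _

theorem zpow_eq_one {a : ℤ} : d.x ^ a = 1 ↔ 2 * d.h ∣ a := by
  rw [← orderOf_dvd_iff_zpow_eq_one, d.ox, d.two_pow_n]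

theorem zpow_inj {a b : ℤ} : d.x ^ a = d.x ^ b ↔ 2 * d.h ∣ a - b := by
  rw [← d.zpow_eq_one, zpow_sub, mul_inv_eq_one]

theorem zpow_mem_S (a : ℤ) : d.x ^ a ∈ S := zpow_mem d.hx a

theorem g_mem (i : ℤ) : d.g i ∈ S := mul_mem (d.zpow_mem_S i) d.hy

theorem y_mul_zpow (a : ℤ) : d.y * d.x ^ a = d.x ^ ((d.ε * d.h - 1) * a) * d.y := by
  rw [zpow_mul, h, ← d.conj, conj_zpow, inv_mul_cancel_right]

theorem zpow_mul_g (a i : ℤ) : d.x ^ a * d.g i = d.g (a + i) := by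
  rw [g, g, ← mul_assoc, ← zpow_add]

theorem g_mul_zpow (i a : ℤ) : d.g i * d.x ^ a = d.g (i + (d.ε * d.h - 1) * a) := by
  rw [g, mul_assoc, d.y_mul_zpow, ← mul_assoc, ← zpow_add, g]

theorem g_mul_g (i j : ℤ) :
    d.g i * d.g j = d.x ^ (i + (d.ε * d.h - 1) * j + d.δ * d.h) := by
  rw [show d.g i * d.g j = d.g i * d.x ^ j * d.y from (mul_assoc _ _ _).symm, d.g_mul_zpow, g,
    mul_assoc, d.sqy, ← zpow_add, h]

theorem g_mul_self (i : ℤ) : d.g i * d.g i = d.x ^ (d.h * d.sq i) := by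
  rw [d.g_mul_g, sq]; ring_nf

theorem g_inv (i : ℤ) : (d.g i)⁻¹ = d.g (i + (d.ε * d.h - 1) * (-(d.h * d.sq i))) := by
  rw [← d.g_mul_zpow, inv_eq_iff_mul_eq_one, ← mul_assoc, d.g_mul_self, ← zpow_add, add_neg_cancel,
    zpow_zero]

theorem g_ne_zpow (i a : ℤ) : d.g i ≠ d.x ^ a := fun e => d.y_not ⟨a - i, by
  show d.x ^ (a - i) = d.y
  rw [sub_eq_neg_add, zpow_add, ← e, g, zpow_neg, inv_mul_cancel_left]⟩

theorem g_inj {i j : ℤ} : d.g i = d.g j ↔ 2 * d.h ∣ i - j := by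
  rw [g, g, mul_left_inj, d.zpow_inj]

theorem g_not_mem (i : ℤ) : d.g i ∉ zpowers d.x := fun ⟨a, e⟩ => d.g_ne_zpow i a e.symm

theorem cases {s : Ω} (hs : s ∈ S) : (∃ a : ℤ, s = d.x ^ a) ∨ ∃ i : ℤ, s = d.g i := by
  rcases d.cover s hs with ⟨a, e⟩ | h
  exacts [Or.inl ⟨a, e.symm⟩, Or.inr h]

/-- Conjugation of reflections by powers of `x`. -/
theorem conj_g (a i : ℤ) :
    d.x ^ a * d.g i * (d.x ^ a)⁻¹ = d.g (i + (2 - d.ε * d.h) * a) := by
  rw [d.zpow_mul_g, ← zpow_neg, d.g_mul_zpow]; congr 1; ring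

/-- `2 - ε h` is twice a unit. -/
theorem exists_solve (m : ℤ) : ∃ a : ℤ, 2 * d.h ∣ (2 - d.ε * d.h) * a - 2 * m := by
  obtain ⟨u, v, huv⟩ : IsCoprime (1 - d.ε * d.qu) d.h := by
    refine IsCoprime.pow_right ?_
    obtain ⟨k, hk⟩ := d.even_ε_qu
    exact ⟨1, k, by linarith⟩
  refine ⟨u * m, ⟨-(v * m), ?_⟩⟩
  linear_combination (2 * m) * huv - u * m * d.ε * d.h_eq

theorem commute_g {a i : ℤ} (hc : Commute (d.x ^ a) (d.g i)) : d.h ∣ a := by
  have h1 := d.conj_g a i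
  rw [hc.eq, mul_inv_cancel_right, d.g_inj] at h1
  obtain ⟨u, v, huv⟩ : IsCoprime (1 - d.ε * d.qu) d.h := by
    refine IsCoprime.pow_right ?_
    obtain ⟨k, hk⟩ := d.even_ε_qu
    exact ⟨1, k, by linarith⟩
  obtain ⟨t, ht⟩ := h1
  have h2 : (1 - d.ε * d.qu) * a = -(d.h * t) := by
    have : (2 : ℤ) * ((1 - d.ε * d.qu) * a + d.h * t) = 0 := by
      linear_combination (-1 : ℤ) * ht + d.ε * a * d.h_eq
    rcases mul_eq_zero.1 this with h | h
    · norm_num at h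
    · linarith
  refine ⟨v * a - u * t, ?_⟩
  linear_combination -a * huv + u * h2

/-- The step of the cyclic part of `E i`. -/
def c (i : ℤ) : ℤ := if Even (d.sq i) then d.h else d.qu

theorem c_even {i : ℤ} (h : Even (d.sq i)) : d.c i = d.h := if_pos h

theorem c_odd {i : ℤ} (h : ¬ Even (d.sq i)) : d.c i = d.qu := if_neg h

theorem c_dvd_h (i : ℤ) : d.c i ∣ d.h := by
  by_cases h : Even (d.sq i)
  · rw [d.c_even h]
  · rw [d.c_odd h, d.h_eq]; exact dvd_mul_left _ _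

/-- The Klein four-group or quaternion group of order 8 through `g i`. -/
def E (i : ℤ) : Subgroup Ω where
  carrier := {w | ∃ a : ℤ, d.c i ∣ a ∧ (w = d.x ^ a ∨ w = d.g (a + i))}
  one_mem' := ⟨0, dvd_zero _, Or.inl (zpow_zero _).symm⟩
  mul_mem' := by
    rintro _ _ ⟨a, ha, rfl | rfl⟩ ⟨b, hb, rfl | rfl⟩
    · exact ⟨a + b, dvd_add ha hb, Or.inl (zpow_add _ _ _).symm⟩
    · exact ⟨a + b, dvd_add ha hb, Or.inr (by rw [d.zpow_mul_g, add_assoc])⟩
    · exact ⟨a + (d.ε * d.h - 1) * b, dvd_add ha (hb.mul_left _),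
        Or.inr (by rw [d.g_mul_zpow]; ring_nf)⟩
    · refine ⟨a + (d.ε * d.h - 1) * b + d.h * d.sq i,
        dvd_add (dvd_add ha (hb.mul_left _)) ((d.c_dvd_h i).mul_right _), Or.inl ?_⟩
      rw [d.g_mul_g, sq]; ring_nf
  inv_mem' := by
    rintro _ ⟨a, ha, rfl | rfl⟩
    · exact ⟨-a, dvd_neg.2 ha, Or.inl (zpow_neg _ _).symm⟩
    · refine ⟨a + (d.ε * d.h - 1) * (-(d.h * d.sq (a + i))),
        dvd_add ha ((((d.c_dvd_h i).mul_right _).neg_right).mul_left _), Or.inr ?_⟩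
      rw [d.g_inv]; ring_nf

theorem mem_E {i : ℤ} {w : Ω} :
    w ∈ d.E i ↔ ∃ a : ℤ, d.c i ∣ a ∧ (w = d.x ^ a ∨ w = d.g (a + i)) := Iff.rfl

theorem g_mem_E (i : ℤ) : d.g i ∈ d.E i := ⟨0, dvd_zero _, Or.inr (by rw [zero_add])⟩

theorem zpow_mem_E (i : ℤ) : d.x ^ d.c i ∈ d.E i := ⟨_, dvd_rfl, Or.inl rfl⟩

theorem E_le (i : ℤ) : d.E i ≤ S := by
  rintro _ ⟨a, -, rfl | rfl⟩
  exacts [d.zpow_mem_S a, d.g_mem _]

theorem E_ext {i : ℤ} {P : Subgroup Ω} (hx : d.x ^ d.c i ∈ P) (hg : d.g i ∈ P) : d.E i ≤ P := by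
  rintro _ ⟨a, ⟨b, rfl⟩, rfl | rfl⟩
  · rw [zpow_mul]; exact zpow_mem hx b
  · rw [← d.zpow_mul_g, zpow_mul]; exact mul_mem (zpow_mem hx b) hg

theorem zpow_mem_E_iff {i a : ℤ} : d.x ^ a ∈ d.E i ↔ d.c i ∣ a := by
  refine ⟨?_, fun h => ⟨a, h, Or.inl rfl⟩⟩
  rintro ⟨b, hb, e | e⟩
  · rw [d.zpow_inj] at e
    have := dvd_add ((((d.c_dvd_h i).mul_left 2)).trans e) hb
    rwa [sub_add_cancel] at this
  · exact absurd e.symm (d.g_ne_zpow _ _)

variable [Finite S]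

omit [Finite S] in
theorem card_eq_two_mul {H K : Subgroup Ω} (hle : H ≤ K) {a : Ω} (ha : a ∈ K) (hn : a ∉ H)
    (hc : ∀ b ∈ K, b ∈ H ∨ b * a ∈ H) : Nat.card K = 2 * Nat.card H := by
  have hi : (H.subgroupOf K).index = 2 := by
    refine index_eq_two_iff.2 ⟨⟨a, ha⟩, fun b => ?_⟩
    rcases hc b b.2 with h | h
    · exact Or.inr ⟨h, fun h' => hn ((H.mul_mem_cancel_left h).1 h')⟩
    · refine Or.inl ⟨h, fun h' : (b : Ω) ∈ H => hn ((H.mul_mem_cancel_left h').1 h)⟩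
  rw [← (H.subgroupOf K).card_mul_index, hi, Nat.card_congr (subgroupOfEquivOfLe hle).toEquiv,
    mul_comm]

theorem card_S : Nat.card S = 2 * 2 ^ d.n := by
  rw [← d.ox, ← Nat.card_zpowers]
  refine card_eq_two_mul (zpowers_le.2 d.hx) d.hy d.y_not fun b hb => ?_
  rcases d.cover b hb with h | ⟨i, rfl⟩
  · exact Or.inl h
  · exact Or.inr (by rw [mul_assoc, d.sqy, ← zpow_add]; exact zpow_mem (mem_zpowers _) _)

theorem orderOf_c (i : ℤ) : orderOf (d.x ^ d.c i) = if Even (d.sq i) then 2 else 4 := by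
  haveI : Fact (Nat.Prime 2) := ⟨Nat.prime_two⟩
  have := d.h_eq
  have := d.qu_pos
  by_cases h : Even (d.sq i)
  · rw [if_pos h, d.c_even h, orderOf_eq_prime_iff]
    refine ⟨?_, ?_⟩
    · rw [← zpow_natCast, ← zpow_mul, d.zpow_eq_one]; exact dvd_of_eq (by push_cast; ring)
    · rw [Ne, d.zpow_eq_one]
      exact fun h' => by have := Int.le_of_dvd d.h_pos h'; omega
  · rw [if_neg h, d.c_odd h]
    refine (orderOf_eq_prime_pow (p := 2) (n := 1) ?_ ?_).trans rfl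
    · rw [pow_one, ← zpow_natCast, ← zpow_mul, d.zpow_eq_one]
      exact fun h' => by have := Int.le_of_dvd (by positivity) h'; push_cast at *; omega
    · rw [← zpow_natCast, ← zpow_mul, d.zpow_eq_one]
      exact dvd_of_eq (by push_cast; linarith)

theorem card_E (i : ℤ) : Nat.card (d.E i) = if Even (d.sq i) then 4 else 8 := by
  rw [card_eq_two_mul (H := zpowers (d.x ^ d.c i)) (zpowers_le.2 (d.zpow_mem_E i)) (d.g_mem_E i)
    (fun h => d.g_not_mem i ((zpowers_le.2 (zpow_mem (mem_zpowers _) _) : _ ≤ zpowers d.x) h)) ?_,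
    Nat.card_zpowers, d.orderOf_c]
  · split <;> rfl
  rintro _ ⟨a, ⟨b, rfl⟩, rfl | rfl⟩
  · exact Or.inl ⟨b, (zpow_mul _ _ _).symm⟩
  · obtain ⟨m, hm⟩ := (d.c_dvd_h i).mul_right (d.sq i)
    refine Or.inr ⟨b + m, ?_⟩
    show (d.x ^ d.c i) ^ (b + m) = _
    rw [← d.zpow_mul_g, mul_assoc, d.g_mul_self, hm, ← zpow_add, ← zpow_mul, mul_add]

theorem odd_sq_n {i : ℤ} (h : ¬ Even (d.sq i)) : 3 ≤ d.n := by
  rcases d.small with ⟨-, h1, h2⟩ | h3
  · exact absurd (by rw [sq, h1, h2]; simp) h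
  · exact h3

theorem E_lt (i : ℤ) : d.E i < S := by
  refine lt_of_le_of_ne (d.E_le i) fun e => ?_
  have h1 := d.card_E i
  rw [e, d.card_S] at h1
  have := d.two_le
  by_cases h : Even (d.sq i)
  · rw [if_pos h] at h1
    have := Nat.pow_le_pow_right two_pos this
    omega
  · rw [if_neg h] at h1
    have := Nat.pow_le_pow_right two_pos (d.odd_sq_n h)
    omega

/-- The elements of `S` centralising `g i`. -/
theorem centralizer_g {i : ℤ} {s : Ω} (hs : s ∈ S) (hc : Commute s (d.g i)) :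
    ∃ a : ℤ, d.h ∣ a ∧ (s = d.x ^ a ∨ s = d.g (a + i)) := by
  rcases d.cases hs with ⟨a, rfl⟩ | ⟨j, rfl⟩
  · exact ⟨a, d.commute_g hc, Or.inl rfl⟩
  · refine ⟨j - i, d.commute_g (i := i) ?_, Or.inr (by rw [sub_add_cancel])⟩
    have e : d.x ^ (j - i) = d.g j * (d.g i)⁻¹ := by
      rw [eq_mul_inv_iff_mul_eq, d.zpow_mul_g, sub_add_cancel]
    rw [e]
    exact hc.mul_left (Commute.refl (d.g i)).inv_left

/-- The automorphisms of a group with two generators. -/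
theorem card_mulAut_le_of_pair {X : Type*} [Group X] [Finite X] {a b : X}
    (hgen : Subgroup.closure {a, b} = ⊤) (hb : b ∉ zpowers a) (D : Finset X)
    (hD : ∀ u ∈ D, orderOf u ≠ orderOf a) :
    Nat.card (MulAut X) ≤ (Nat.card X - D.card) * (Nat.card X - orderOf a) := by
  classical
  haveI := Fintype.ofFinite X
  let T : Finset (X × X) := (Finset.univ.filter fun u : X => orderOf u = orderOf a).biUnion
    fun u => (Finset.univ.filter fun v : X => v ∉ zpowers u).image fun v => (u, v)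
  have hmem : ∀ φ : MulAut X, (φ a, φ b) ∈ T := fun φ => by
    simp only [T, Finset.mem_biUnion, Finset.mem_filter, Finset.mem_univ, true_and,
      Finset.mem_image, Prod.mk.injEq]
    refine ⟨φ a, φ.orderOf_eq a, φ b, ?_, rfl, rfl⟩
    rintro ⟨k, hk⟩
    exact hb ⟨k, φ.injective ((map_zpow φ a k).trans hk)⟩
  have h1 : Nat.card (MulAut X) ≤ T.card := by
    rw [← Nat.card_eq_finsetCard T]
    refine Nat.card_le_card_of_injective (fun φ => (⟨_, hmem φ⟩ : T)) fun φ ψ e => ?_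
    have e' := congrArg Subtype.val e
    simp only [Prod.mk.injEq] at e'
    refine MulEquiv.toMonoidHom_injective (MonoidHom.eq_of_eqOn_dense hgen ?_)
    rintro w (rfl | rfl)
    exacts [e'.1, e'.2]
  refine h1.trans (Finset.card_biUnion_le.trans ((Finset.sum_le_card_nsmul _ _
    (Nat.card X - orderOf a) fun u hu => ?_).trans ?_))
  · refine Finset.card_image_le.trans (le_of_eq ?_)
    rw [← (Finset.mem_filter.1 hu).2, ← Nat.card_zpowers, Finset.filter_not,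
      Finset.card_sdiff_of_subset (Finset.filter_subset _ _), Finset.card_univ,
      Nat.card_eq_fintype_card (α := X), Nat.card_eq_fintype_card (α := zpowers u),
      Fintype.card_subtype]
  · rw [smul_eq_mul]
    refine Nat.mul_le_mul_right _ ?_
    rw [Nat.card_eq_fintype_card, ← Finset.card_compl]
    refine Finset.card_le_card fun u hu => Finset.mem_compl.2 fun h => ?_
    exact hD u h (Finset.mem_filter.1 hu).2

theorem card_mulAut_E (i : ℤ) :
    Nat.card (MulAut (d.E i)) ≤ if Even (d.sq i) then 6 else 24 := by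
  classical
  have := finite_of_le (d.E_le i)
  set X : d.E i := ⟨_, d.zpow_mem_E i⟩ with hX
  set Y : d.E i := ⟨_, d.g_mem_E i⟩ with hY
  have hgen : Subgroup.closure {X, Y} = ⊤ := by
    refine eq_top_iff.2 fun w _ => ?_
    have := d.E_ext (i := i) (P := (Subgroup.closure {X, Y}).map (d.E i).subtype)
      ⟨X, subset_closure (by simp), rfl⟩ ⟨Y, subset_closure (by simp), rfl⟩ w.2
    obtain ⟨v, hv, e⟩ := this
    exact Subtype.ext e ▸ hv
  have hY' : Y ∉ zpowers X := fun ⟨k, hk⟩ => d.g_not_mem i ⟨d.c i * k,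
    (zpow_mul _ _ _).trans (congrArg Subtype.val hk)⟩
  have hoX : orderOf X = if Even (d.sq i) then 2 else 4 := by
    rw [← d.orderOf_c i, hX, Subgroup.orderOf_mk]
  have hX1 : X ≠ 1 := fun e => by
    rw [e, orderOf_one] at hoX; split at hoX <;> omega
  by_cases h : Even (d.sq i)
  · rw [if_pos h] at hoX ⊢
    refine (card_mulAut_le_of_pair hgen hY' {1} ?_).trans ?_
    · simp [hoX]
    · rw [d.card_E, if_pos h, hoX, Finset.card_singleton]
  · rw [if_neg h] at hoX ⊢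
    have hX2 : orderOf (X ^ 2) = 2 := by rw [orderOf_pow' _ two_ne_zero, hoX]; rfl
    have h21 : (1 : d.E i) ≠ X ^ 2 := fun e => by rw [← e, orderOf_one] at hX2; omega
    refine (card_mulAut_le_of_pair hgen hY' {1, X ^ 2} ?_).trans ?_
    · simp [hoX, hX2]
    · rw [d.card_E, if_neg h, hoX, Finset.card_pair h21]

theorem gen_two {a : ℤ} (h : orderOf (d.x ^ a) = 2) : d.x ^ a = d.x ^ d.h := by
  have h1 : (d.x ^ a) ^ 2 = 1 := h ▸ pow_orderOf_eq_one _
  rw [← zpow_natCast, ← zpow_mul, d.zpow_eq_one, mul_comm a] at h1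
  obtain ⟨t, rfl⟩ : d.h ∣ a := (Int.mul_dvd_mul_iff_left two_ne_zero).1 (by exact_mod_cast h1)
  rcases Int.even_or_odd t with ⟨s, rfl⟩ | ⟨s, rfl⟩
  · rw [d.zpow_eq_one.2 ⟨s, by ring⟩, orderOf_one] at h
    omega
  · exact d.zpow_inj.2 ⟨s, by ring⟩

theorem gen_four {a : ℤ} (h : orderOf (d.x ^ a) = 4) : d.x ^ d.qu ∈ zpowers (d.x ^ a) := by
  have h1 : (d.x ^ a) ^ 4 = 1 := h ▸ pow_orderOf_eq_one _
  rw [← zpow_natCast, ← zpow_mul, d.zpow_eq_one, d.h_eq,
    show (2 : ℤ) * (2 * d.qu) = d.qu * 4 by ring] at h1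
  obtain ⟨t, rfl⟩ : d.qu ∣ a := (Int.mul_dvd_mul_iff_right (show (4 : ℤ) ≠ 0 by norm_num)).1 (by exact_mod_cast h1)
  rcases Int.even_or_odd t with ⟨s, rfl⟩ | ⟨s, rfl⟩
  · have h2 : (d.x ^ (d.qu * (s + s))) ^ 2 = 1 := by
      rw [← zpow_natCast, ← zpow_mul, d.zpow_eq_one, d.h_eq]
      exact ⟨s, by push_cast; ring⟩
    have := orderOf_dvd_of_pow_eq_one h2
    rw [h] at this
    norm_num at this
  · rcases Int.even_or_odd s with ⟨u, rfl⟩ | ⟨u, rfl⟩
    · exact ⟨1, by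
        show (d.x ^ _) ^ (1 : ℤ) = _
        rw [zpow_one, d.zpow_inj, d.h_eq]; exact ⟨u, by ring⟩⟩
    · exact ⟨-1, by
        show (d.x ^ _) ^ (-1 : ℤ) = _
        rw [← zpow_mul, d.zpow_inj, d.h_eq]; exact ⟨-u - 1, by ring⟩⟩

/-- Only the groups `E i` have automorphisms of odd order. -/
theorem eq_E {P : Subgroup Ω} (hP : P ≤ S) (hS : IsPGroup 2 S)
    (hA : ¬ IsPGroup 2 (MulAut P)) : ∃ i, P = d.E i := by
  by_contra hne
  push Not at hne
  refine hA ?_
  have := finite_of_le hP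
  have h2 : IsPGroup 2 P := isPGroup_of_le hP hS
  -- a cyclic subgroup
  by_cases hcx : P ≤ zpowers d.x
  · obtain ⟨c, hc⟩ := (Subgroup.isCyclic_of_le hcx).exists_generator
    exact Involutions.isPGroup_mulAut_of_cyclic h2 (y := 1) (fun g => Or.inl (hc g))
      fun g hg => absurd (hc g) hg
  obtain ⟨w, hwP, hw⟩ := SetLike.not_le_iff_exists.1 hcx
  obtain ⟨i, rfl⟩ := (d.cases (hP hwP)).resolve_left fun ⟨a, e⟩ => hw ⟨a, e.symm⟩
  obtain ⟨r, hr⟩ := ((Subgroup.isCyclic_iff_exists_zpowers_eq_top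
    (H := P ⊓ zpowers d.x)).1 (Subgroup.isCyclic_of_le inf_le_right))
  have hrP : r ∈ P := (hr.le (mem_zpowers r)).1
  have hsplit : ∀ v ∈ P, v ∈ zpowers r ∨ (d.g i)⁻¹ * v ∈ zpowers r := by
    intro v hv
    rcases d.cases (hP hv) with ⟨a, rfl⟩ | ⟨j, rfl⟩
    · exact Or.inl (hr.symm ▸ mem_inf.2 ⟨hv, zpow_mem (mem_zpowers _) a⟩)
    · refine Or.inr (hr.symm ▸ mem_inf.2 ⟨mul_mem (inv_mem hwP) hv, ?_⟩)
      rw [d.g_inv, d.g_mul_g]
      exact zpow_mem (mem_zpowers _) _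
  have hgen : ∀ v : P, v ∈ zpowers (⟨r, hrP⟩ : P) ∨
      (⟨d.g i, hwP⟩ : P)⁻¹ * v ∈ zpowers (⟨r, hrP⟩ : P) := fun v => by
    rcases hsplit v v.2 with ⟨k, hk⟩ | ⟨k, hk⟩
    · exact Or.inl ⟨k, Subtype.ext hk⟩
    · exact Or.inr ⟨k, Subtype.ext hk⟩
  obtain ⟨m, -, hm⟩ := (Nat.dvd_prime_pow Nat.prime_two).1 (d.ox ▸ orderOf_dvd_of_mem_zpowers
    ((hr.le (mem_zpowers r)).2 : r ∈ zpowers d.x))
  -- the elements outside have order 2 or 4
  have hout : ∀ v : P, v ∉ zpowers (⟨r, hrP⟩ : P) → ∃ j, (v : Ω) = d.g j := by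
    intro v hv
    rcases d.cases (hP v.2) with ⟨a, ha⟩ | h
    · refine absurd ?_ hv
      obtain ⟨k, hk⟩ : (v : Ω) ∈ zpowers r :=
        hr.symm ▸ mem_inf.2 ⟨v.2, ha ▸ zpow_mem (mem_zpowers _) a⟩
      exact ⟨k, Subtype.ext hk⟩
    · exact h
  have hg4 : ∀ j, orderOf (d.g j) ∣ 4 := fun j => orderOf_dvd_of_pow_eq_one (by
    rw [show (4 : ℕ) = 2 * 2 from rfl, pow_mul, _root_.sq (d.g j), d.g_mul_self, ← zpow_natCast,
      ← zpow_mul, d.zpow_eq_one]
    exact ⟨d.sq j, by push_cast; ring⟩)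
  have hz : ∀ j, Odd (d.sq j) → d.g j ∈ P → d.x ^ d.h ∈ zpowers r := fun j hj hjP => by
    obtain ⟨t, ht⟩ := hj
    have : d.g j * d.g j = d.x ^ d.h := by
      rw [d.g_mul_self, d.zpow_inj]; exact ⟨t, by rw [ht]; ring⟩
    exact hr.symm ▸ mem_inf.2 ⟨this ▸ mul_mem hjP hjP, zpow_mem (mem_zpowers _) _⟩
  have hcyc : zpowers r ≤ zpowers (d.g i) → IsPGroup 2 (MulAut P) := fun hle => by
    refine Involutions.isPGroup_mulAut_of_cyclic h2 (c := ⟨d.g i, hwP⟩) (y := 1)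
      (fun v => Or.inl ?_) fun v hv => absurd ?_ hv <;>
    · obtain ⟨k, hk⟩ : (v : Ω) ∈ zpowers (d.g i) := by
        rcases hsplit v v.2 with h | h
        · exact hle h
        · have := mul_mem (mem_zpowers (d.g i)) (hle h)
          rwa [mul_inv_cancel_left] at this
      exact ⟨k, Subtype.ext hk⟩
  -- compare orders
  rcases Nat.lt_or_ge m 3 with hm3 | hm3
  swap
  · refine Involutions.isPGroup_mulAut_of_cyclic h2 hgen fun v hv e => ?_
    obtain ⟨j, hj⟩ := hout v hv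
    rw [← Subgroup.orderOf_coe, hj, Subgroup.orderOf_mk, hm] at e
    have := Nat.le_of_dvd (by norm_num) (e ▸ hg4 j)
    have := Nat.pow_le_pow_right two_pos hm3
    omega
  interval_cases m
  · refine hcyc (zpowers_le.2 ?_)
    rw [show r = 1 by simpa using hm]
    exact one_mem _
  · by_cases hs : Even (d.sq i)
    · refine absurd (le_antisymm ?_ (d.E_ext ?_ hwP)) (hne i)
      · intro v hv
        have hrz : zpowers r ≤ d.E i := zpowers_le.2 ?_
        · rcases hsplit v hv with h | h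
          · exact hrz h
          · have := mul_mem (d.g_mem_E i) (hrz h)
            rwa [mul_inv_cancel_left] at this
        obtain ⟨a, rfl⟩ := (hr.le (mem_zpowers r)).2
        refine d.zpow_mem_E_iff.2 ?_
        rw [d.c_even hs]
        have hp : (d.x ^ a) ^ 2 = 1 := by
          rw [← orderOf_dvd_iff_pow_eq_one]; exact dvd_of_eq (by simpa using hm)
        rw [← zpow_natCast, ← zpow_mul, d.zpow_eq_one] at hp
        push_cast at hp
        exact (Int.mul_dvd_mul_iff_left two_ne_zero).1 (by rwa [mul_comm a 2] at hp)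
      · obtain ⟨a, rfl⟩ := (hr.le (mem_zpowers r)).2
        rw [d.c_even hs, ← d.gen_two (a := a) (by simpa using hm)]
        exact hrP
    · refine hcyc ?_
      have h1 : d.x ^ d.h ∈ zpowers r := hz i (Int.not_even_iff_odd.1 hs) hwP
      obtain ⟨a, rfl⟩ := (hr.le (mem_zpowers r)).2
      have h2 : d.x ^ a = d.x ^ d.h := d.gen_two (by simpa using hm)
      rw [show (fun k : ℤ => d.x ^ k) a = d.x ^ d.h from h2, zpowers_le]
      obtain ⟨t, ht⟩ := Int.not_even_iff_odd.1 hs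
      refine ⟨2, ?_⟩
      show d.g i ^ (2 : ℤ) = _
      rw [zpow_ofNat, _root_.sq (d.g i), d.g_mul_self, d.zpow_inj]
      exact ⟨t, by rw [ht]; ring⟩
  · by_cases hs : Even (d.sq i)
    · refine Involutions.isPGroup_mulAut_of_cyclic h2 hgen fun v hv e => ?_
      obtain ⟨j, hj⟩ := hout v hv
      rw [← Subgroup.orderOf_coe, hj, Subgroup.orderOf_mk, hm] at e
      obtain ⟨k, hk⟩ : (d.g i)⁻¹ * d.g j ∈ zpowers r :=
        (hsplit _ (hj ▸ v.2)).resolve_left fun hh =>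
          d.g_not_mem j (zpowers_le.2 (hr.le (mem_zpowers r)).2 hh)
      obtain ⟨a, rfl⟩ := (hr.le (mem_zpowers r)).2
      -- `j - i` is a multiple of the quarter
      have hp : 2 * d.h ∣ a * 4 := by
        rw [← d.zpow_eq_one, zpow_mul, show ((4 : ℤ)) = ((4 : ℕ) : ℤ) from rfl, zpow_natCast,
          ← orderOf_dvd_iff_pow_eq_one]
        exact dvd_of_eq (by simpa using hm)
      have ha : d.qu ∣ a := by
        rw [d.h_eq, show (2 : ℤ) * (2 * d.qu) = d.qu * 4 by ring] at hp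
        exact (Int.mul_dvd_mul_iff_right (by norm_num)).1 hp
      have hj' : d.g j = d.g (i + (d.ε * d.h - 1) * (a * k)) := by
        rw [← d.g_mul_zpow, zpow_mul, show (d.x ^ a) ^ k = (d.g i)⁻¹ * d.g j from hk,
          mul_inv_cancel_left]
      have hev : Even (d.sq j) := by
        have hd := (d.g_inj).1 hj'
        obtain ⟨t, ht⟩ := hd
        obtain ⟨s, hs'⟩ := hs
        obtain ⟨b, rfl⟩ := ha
        obtain ⟨q, hq⟩ := d.even_ε_qu
        refine ⟨s + q * ((d.ε * d.h - 1) * b * k) + d.ε * d.h * t, ?_⟩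
        have hjj : j = i + (d.ε * d.h - 1) * (d.qu * b * k) + 2 * d.h * t := by linarith
        rw [sq] at hs' ⊢
        rw [hjj]
        linear_combination hs' + ((d.ε * d.h - 1) * b * k) * hq
      obtain ⟨t, ht⟩ := hev
      have h22 : orderOf (d.g j) ∣ 2 := orderOf_dvd_of_pow_eq_one (by
        rw [_root_.sq (d.g j), d.g_mul_self, d.zpow_eq_one]; exact ⟨t, by rw [ht]; ring⟩)
      rw [e] at h22
      exact absurd (Nat.le_of_dvd two_pos h22) (by norm_num)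
    · refine absurd (le_antisymm ?_ (d.E_ext ?_ hwP)) (hne i)
      · intro v hv
        have hrz : zpowers r ≤ d.E i := zpowers_le.2 ?_
        · rcases hsplit v hv with h | h
          · exact hrz h
          · have := mul_mem (d.g_mem_E i) (hrz h)
            rwa [mul_inv_cancel_left] at this
        obtain ⟨a, rfl⟩ := (hr.le (mem_zpowers r)).2
        refine d.zpow_mem_E_iff.2 ?_
        rw [d.c_odd hs]
        have hp : 2 * d.h ∣ a * 4 := by
          rw [← d.zpow_eq_one, zpow_mul, show ((4 : ℤ)) = ((4 : ℕ) : ℤ) from rfl, zpow_natCast,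
            ← orderOf_dvd_iff_pow_eq_one]
          exact dvd_of_eq (by simpa using hm)
        rw [d.h_eq, show (2 : ℤ) * (2 * d.qu) = d.qu * 4 by ring] at hp
        exact (Int.mul_dvd_mul_iff_right (by norm_num)).1 hp
      · obtain ⟨a, rfl⟩ := (hr.le (mem_zpowers r)).2
        rw [d.c_odd hs]
        exact zpowers_le.2 hrP (d.gen_four (a := a) (by simpa using hm))

end MC

end CfsgLib.Fusion
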