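import Mathlib
import Cfsg.Agent.Lib.Fusion.MaxClassTwo

/-!
# Fusion systems on dihedral, quaternion and quasidihedral groups
-/

set_option autoImplicit false

namespace CfsgLib.Fusion

open Cfsg Cfsg.FusionSystem Subgroup

variable {Ω : Type*} [Group Ω]

namespace MC

variable {S : Subgroup Ω} (d : MC S) {F F' : FusionSystem S}

/-- Some automorphism of odd order of `E i` belongs to the system. -/
def Pat (F : FusionSystem S) (i : ℤ) : Prop := ¬ IsPGroup 2 (F.autGroup (d.E i))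

/-- The powers `x ^ (2a)`. -/
def X2 : Subgroup Ω := zpowers (d.x ^ (2 : ℤ))

/-- The index two subgroup with the reflections of the parity of `j`. -/
def M (j : ℤ) : Subgroup Ω where
  carrier := {w | ∃ a : ℤ, Even a ∧ (w = d.x ^ a ∨ w = d.g (a + j))}
  one_mem' := ⟨0, Even.zero, Or.inl (zpow_zero _).symm⟩
  mul_mem' := by
    rintro _ _ ⟨a, ha, rfl | rfl⟩ ⟨b, hb, rfl | rfl⟩
    · exact ⟨a + b, ha.add hb, Or.inl (zpow_add _ _ _).symm⟩
    · exact ⟨a + b, ha.add hb, Or.inr (by rw [d.zpow_mul_g, add_assoc])⟩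
    · exact ⟨a + (d.ε * d.h - 1) * b, ha.add (hb.mul_left _),
        Or.inr (by rw [d.g_mul_zpow]; ring_nf)⟩
    · refine ⟨a + (d.ε * d.h - 1) * b + d.h * d.sq j,
        (ha.add (hb.mul_left _)).add (d.even_h.mul_right _), Or.inl ?_⟩
      rw [d.g_mul_g, sq]; ring_nf
  inv_mem' := by
    rintro _ ⟨a, ha, rfl | rfl⟩
    · exact ⟨-a, ha.neg, Or.inl (zpow_neg _ _).symm⟩
    · refine ⟨a + (d.ε * d.h - 1) * (-(d.h * d.sq (a + j))),
        ha.add ((d.even_h.mul_right _).neg.mul_left _), Or.inr ?_⟩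
      rw [d.g_inv]; ring_nf

theorem X2_le_M (j : ℤ) : d.X2 ≤ d.M j := zpowers_le.2 ⟨2, even_two, Or.inl rfl⟩

theorem zpow_mem_X2 {a : ℤ} (ha : Even a) : d.x ^ a ∈ d.X2 := by
  obtain ⟨b, rfl⟩ := ha
  exact ⟨b, by show (d.x ^ (2 : ℤ)) ^ b = _; rw [← zpow_mul, two_mul]⟩

theorem comm_mem_X2 {a b : Ω} (ha : a ∈ S) (hb : b ∈ S) : a * b * a⁻¹ * b⁻¹ ∈ d.X2 := by
  rcases d.cases ha with ⟨i, rfl⟩ | ⟨i, rfl⟩ <;> rcases d.cases hb with ⟨j, rfl⟩ | ⟨j, rfl⟩
  · rw [← zpow_add, ← zpow_neg, ← zpow_add, ← zpow_neg, ← zpow_add]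
    exact d.zpow_mem_X2 ⟨0, by ring⟩
  · rw [d.conj_g, d.g_inv, d.g_mul_g]
    refine d.zpow_mem_X2 ?_
    obtain ⟨k, hk⟩ := d.even_h
    rw [hk]
    exact ⟨(1 - d.ε * k) * i - (d.ε * (k + k) - 1) * (d.ε * (k + k) - 1) * k * d.sq j
      + (d.ε * k) * j + d.δ * k, by ring⟩
  · rw [← zpow_neg, d.g_mul_zpow, d.g_inv, d.g_mul_g, ← zpow_add]
    refine d.zpow_mem_X2 ?_
    obtain ⟨k, hk⟩ := d.even_h
    rw [hk]
    exact ⟨(d.ε * k - 1) * j + d.ε * k * i - (d.ε * (k + k) - 1) * (d.ε * (k + k) - 1) * k * d.sq i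
      + d.δ * k, by ring⟩
  · rw [d.g_mul_g, d.g_inv, d.zpow_mul_g, d.g_inv, d.g_mul_g]
    refine d.zpow_mem_X2 ?_
    obtain ⟨k, hk⟩ := d.even_h
    rw [hk]
    refine ⟨i - j + d.ε * k * j + d.δ * k - (d.ε * (k + k) - 1) * k * d.sq i
      + d.ε * k * j - (d.ε * (k + k) - 1) * (d.ε * (k + k) - 1) * k * d.sq j + d.δ * k, by ring⟩

theorem conj_mem_of_X2_le {T : Subgroup Ω} (h : d.X2 ≤ T) (hT : T ≤ S) :
    ∀ a ∈ S, ∀ t ∈ T, a * t * a⁻¹ ∈ T := fun a ha t ht => by
  have := T.mul_mem (h (d.comm_mem_X2 ha (hT ht))) ht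
  simpa [mul_assoc] using this

theorem M_le (j : ℤ) : d.M j ≤ S := by
  rintro _ ⟨a, -, rfl | rfl⟩
  exacts [d.zpow_mem_S a, d.g_mem _]

theorem X2_le : d.X2 ≤ S := zpowers_le.2 (d.zpow_mem_S 2)

theorem g_not_mem_M {i j : ℤ} (h : ¬ Even (i - j)) : d.g i ∉ d.M j := by
  rintro ⟨a, ha, e | e⟩
  · exact d.g_ne_zpow _ _ e
  · rw [d.g_inj] at e
    obtain ⟨t, ht⟩ := e
    refine h ?_
    rw [show i - j = a + 2 * (d.h * t) by linarith]
    exact ha.add (even_two_mul _)

theorem g_not_mem_X2 (i : ℤ) : d.g i ∉ d.X2 := by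
  rintro ⟨b, e⟩
  exact d.g_ne_zpow i (2 * b) (by rw [zpow_mul]; exact e.symm)

theorem g_mem_of_even {T : Subgroup Ω} (h : d.X2 ≤ T) {i j : ℤ} (hij : Even (j - i))
    (hi : d.g i ∈ T) : d.g j ∈ T := by
  have := T.mul_mem (h (d.zpow_mem_X2 hij)) hi
  rwa [d.zpow_mul_g, sub_add_cancel] at this

theorem sq_parity {i k : ℤ} (h : Even (k - i)) : Even (d.sq k) ↔ Even (d.sq i) := by
  rw [show d.sq k = d.sq i + d.ε * (k - i) by rw [sq, sq]; ring, Int.even_add]
  simp [h.mul_left d.ε]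

variable [Finite S]

theorem E_le_M {i j : ℤ} (h : Even (i - j)) : d.E i ≤ d.M j := by
  refine d.E_ext ⟨d.c i, ?_, Or.inl rfl⟩ ⟨i - j, h, Or.inr (by rw [sub_add_cancel])⟩
  by_cases hs : Even (d.sq i)
  · rw [d.c_even hs]; exact d.even_h
  · rw [d.c_odd hs]; exact d.even_qu (d.odd_sq_n hs)


theorem isConj_E (F : FusionSystem S) {i k : ℤ} (h : Even (k - i)) :
    F.IsConj (d.E i) (d.E k) := by
  obtain ⟨m, hm⟩ := h
  obtain ⟨a, ha⟩ := d.exists_solve m
  have hf := isMor_cj F (d.E_le i) (d.zpow_mem_S a)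
  refine isConj_iff.mpr ⟨_, hf, eq_of_le_of_card (d.E_le k) ?_ ?_⟩
  · refine img_le fun w hw => ?_
    obtain ⟨b, hb, rfl | rfl⟩ := hw
    · refine ⟨b, ?_, Or.inl ?_⟩
      · unfold c at hb ⊢
        rwa [if_congr (d.sq_parity ⟨m, hm⟩) rfl rfl]
      · rw [cj, ← zpow_add, ← zpow_neg, ← zpow_add]; ring_nf
    · refine ⟨b, ?_, Or.inr ?_⟩
      · unfold c at hb ⊢
        rwa [if_congr (d.sq_parity ⟨m, hm⟩) rfl rfl]
      · rw [cj, d.conj_g, d.g_inj]
        obtain ⟨t, ht⟩ := ha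
        exact ⟨t, by linarith⟩
  · rw [hf.card_img, d.card_E, d.card_E, if_congr (d.sq_parity ⟨m, hm⟩) rfl rfl]

theorem pat_congr {i k : ℤ} (h : Even (k - i)) : d.Pat F i ↔ d.Pat F k := by
  have h' : Even (i - k) := by simpa using h.neg
  exact ⟨fun hP hk => hP (isPGroup_autGroup_of_isConj (d.isConj_E F h') hk),
    fun hP hk => hP (isPGroup_autGroup_of_isConj (d.isConj_E F h) hk)⟩

include d in
theorem isPGroup_mulAut_S (hS : IsPGroup 2 S) : IsPGroup 2 (MulAut S) := by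
  refine Involutions.isPGroup_mulAut_of_cyclic hS (c := ⟨d.x, d.hx⟩) (y := ⟨d.y, d.hy⟩)
    (fun v => ?_) fun v hv e => ?_
  · rcases d.cases v.2 with ⟨a, ha⟩ | ⟨i, hi⟩
    · exact Or.inl ⟨a, Subtype.ext ha.symm⟩
    · exact Or.inr ⟨(d.ε * d.h - 1) * i, Subtype.ext (by
        show d.x ^ ((d.ε * d.h - 1) * i) = d.y⁻¹ * v
        rw [eq_inv_mul_iff_mul_eq, hi, g, d.y_mul_zpow]
        congr 1
        rw [d.zpow_inj]
        exact ⟨d.ε * (d.ε * d.qu - 1) * i,
          by linear_combination (d.ε * d.ε * i * d.h) * d.h_eq⟩)⟩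
  · obtain ⟨i, hi⟩ := (d.cases v.2).resolve_left fun ⟨a, ha⟩ => hv ⟨a, Subtype.ext ha.symm⟩
    rw [← Subgroup.orderOf_coe, hi, Subgroup.orderOf_mk, d.ox] at e
    rcases d.small with ⟨-, h1, h2⟩ | hn
    · have hd : orderOf (d.g i) ∣ 2 := orderOf_dvd_of_pow_eq_one (by
        rw [_root_.sq (d.g i), d.g_mul_self, d.zpow_eq_one, sq, h1, h2]; simp)
      rw [e] at hd
      have := Nat.le_of_dvd two_pos hd
      have := Nat.pow_le_pow_right two_pos d.two_le
      omega
    · have hd : orderOf (d.g i) ∣ 4 := orderOf_dvd_of_pow_eq_one (by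
        rw [show (4 : ℕ) = 2 * 2 from rfl, pow_mul, _root_.sq (d.g i), d.g_mul_self, ← zpow_natCast,
          ← zpow_mul, d.zpow_eq_one]
        exact ⟨d.sq i, by push_cast; ring⟩)
      rw [e] at hd
      have := Nat.le_of_dvd (by norm_num) hd
      have := Nat.pow_le_pow_right two_pos hn
      omega

include d in
theorem isPGroup_autS (hS : IsPGroup 2 S) : IsPGroup 2 (F.autGroup S) :=
  (d.isPGroup_mulAut_S hS).to_subgroup _

theorem card_centralizer_E (i : ℤ) :
    Nat.card (centralizerIn S (d.E i)) ≤ if Even (d.sq i) then 4 else 2 := by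
  classical
  have hC : ∀ w ∈ centralizerIn S (d.E i), w ∈ S ∧ Commute w (d.g i) ∧
      Commute w (d.x ^ d.c i) := fun w hw =>
    ⟨(mem_centralizerIn.mp hw).1, mul_inv_eq_iff_eq_mul.mp ((mem_centralizerIn.mp hw).2 _
      (d.g_mem_E i)), mul_inv_eq_iff_eq_mul.mp ((mem_centralizerIn.mp hw).2 _ (d.zpow_mem_E i))⟩
  by_cases hs : Even (d.sq i)
  · rw [if_pos hs]
    have := finite_of_le (d.E_le i)
    refine (Subgroup.card_le_of_le fun w hw => ?_).trans (le_of_eq (by rw [d.card_E, if_pos hs]))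
    obtain ⟨hwS, hg, -⟩ := hC w hw
    obtain ⟨a, ha, e⟩ := d.centralizer_g hwS hg
    exact ⟨a, d.c_even hs ▸ ha, e⟩
  · rw [if_neg hs]
    have hox : orderOf (d.x ^ d.h) ∣ 2 := orderOf_dvd_of_pow_eq_one (by
      rw [← zpow_natCast, ← zpow_mul, d.zpow_eq_one]; exact dvd_of_eq (by push_cast; ring))
    have := finite_of_le (zpowers_le.2 (d.zpow_mem_S d.h))
    refine (Subgroup.card_le_of_le (K := zpowers (d.x ^ d.h)) fun w hw => ?_).trans
      (by rw [Nat.card_zpowers]; exact Nat.le_of_dvd two_pos hox)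
    obtain ⟨hwS, hg, hx⟩ := hC w hw
    obtain ⟨a, ⟨b, rfl⟩, rfl | rfl⟩ := d.centralizer_g hwS hg
    · exact ⟨b, (zpow_mul _ _ _).symm⟩
    · exfalso
      have h1 := hx.eq
      rw [d.g_mul_zpow, d.zpow_mul_g, d.g_inj, d.c_odd hs] at h1
      obtain ⟨t, ht⟩ := h1
      obtain ⟨q, hq⟩ := d.even_qu (d.odd_sq_n hs)
      have hh := d.h_eq
      have := d.qu_pos
      have h2 : d.qu * (2 * (d.ε * d.qu - 1)) = d.qu * (4 * t) := by
        linear_combination ht - d.ε * d.qu * hh + 2 * t * hh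
      have h3 : d.ε * d.qu - 1 = 2 * t := by
        have := mul_left_cancel₀ (ne_of_gt d.qu_pos) h2
        linarith
      rw [hq] at h3
      have : (2 : ℤ) * (d.ε * q - t) = 1 := by linarith
      omega

/-- Where there is an automorphism of odd order, all automorphisms are there. -/
theorem autGroup_eq_top (hS : IsPGroup 2 S) {i : ℤ} (h : d.Pat F i) :
    F.autGroup (d.E i) = ⊤ := by
  haveI : Fact (Nat.Prime 2) := ⟨Nat.prime_two⟩
  refine autGroup_eq_of_card (p := 2) hS (d.E_le i) (q := 3) (fun r hr hr2 => ?_) le_top ?_ h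
  · have := hr.two_le; omega
  rw [Subgroup.card_top]
  refine (d.card_mulAut_E i).trans ?_
  have hN : 2 * Nat.card (d.E i) ≤ Nat.card (normalizerIn S (d.E i)) := by
    have hlt := normalizerIn_gt hS (d.E_lt i)
    have := finite_of_le (normalizerIn_le (S := S) (P := d.E i))
    obtain ⟨k, hk⟩ := Subgroup.card_dvd_of_le hlt.le
    have h1 := card_lt_of_lt normalizerIn_le hlt
    rcases k with _ | _ | k
    · omega
    · omega
    · rw [hk, mul_comm]; exact Nat.mul_le_mul_left _ (by omega)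
  have h2 := (hN.trans (card_autInducedBy (d.E_le i))).trans
    (Nat.mul_le_mul_left _ (d.card_centralizer_E i))
  rw [d.card_E] at h2
  split <;> rename_i hs
  · rw [if_pos hs, if_pos hs] at h2; omega
  · rw [if_neg hs, if_neg hs] at h2; omega

/-- An essential subgroup is some `E i` with an automorphism of odd order. -/
theorem exists_of_essential (hS : IsPGroup 2 S) {P : Subgroup Ω} (h : F.IsEssential 2 P) :
    ∃ i, P = d.E i ∧ d.Pat F i := by
  haveI : Fact (Nat.Prime 2) := ⟨Nat.prime_two⟩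
  have hnp := not_isPGroup_autGroup_of_essential hS h
  obtain ⟨i, rfl⟩ := d.eq_E h.1.1 hS fun hA => hnp (hA.to_subgroup _)
  exact ⟨i, rfl, hnp⟩

include d in
/-- Among three essential subgroups two are conjugate. -/
theorem two_classes (hS : IsPGroup 2 S) {E₁ E₂ E₃ : Subgroup Ω} (h₁ : F.IsEssential 2 E₁)
    (h₂ : F.IsEssential 2 E₂) (h₃ : F.IsEssential 2 E₃) :
    F.IsConj E₁ E₂ ∨ F.IsConj E₁ E₃ ∨ F.IsConj E₂ E₃ := by
  obtain ⟨i, rfl, -⟩ := d.exists_of_essential hS h₁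
  obtain ⟨j, rfl, -⟩ := d.exists_of_essential hS h₂
  obtain ⟨k, rfl, -⟩ := d.exists_of_essential hS h₃
  have : Even (j - i) ∨ Even (k - i) ∨ Even (k - j) := by simp only [Int.even_sub]; tauto
  rcases this with h | h | h
  exacts [Or.inl (d.isConj_E F h), Or.inr (Or.inl (d.isConj_E F h)),
    Or.inr (Or.inr (d.isConj_E F h))]

/-- Systems with more odd automorphisms are larger. -/
theorem le_of_pat (hS : IsPGroup 2 S) (hF : F.IsSaturated 2)
    (h : ∀ i, d.Pat F i → d.Pat F' i) : F ≤ F' := by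
  haveI : Fact (Nat.Prime 2) := ⟨Nat.prime_two⟩
  refine le_of_essential_aut hS hF (d.isPGroup_autS hS) fun P hP => ?_
  obtain ⟨i, rfl, hi⟩ := d.exists_of_essential hS hP
  rw [d.autGroup_eq_top hS (h i hi)]
  exact le_top

theorem eq_of_pat (hS : IsPGroup 2 S) (hF : F.IsSaturated 2) (hF' : F'.IsSaturated 2)
    (h : ∀ i, d.Pat F i ↔ d.Pat F' i) : F = F' :=
  fusion_le_antisymm (d.le_of_pat hS hF fun i => (h i).1) (d.le_of_pat hS hF' fun i => (h i).2)

/-- All moves stay inside `T`. -/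
theorem div_mem (hS : IsPGroup 2 S) (hF : F.IsSaturated 2) {T : Subgroup Ω} (hT : T ≤ S)
    (h2 : d.X2 ≤ T) (h : ∀ i, d.Pat F i → d.E i ≤ T) {R : Subgroup Ω} {f : Ω → Ω}
    (hf : IsMor F R f) {x : Ω} (hx : x ∈ R) : f x * x⁻¹ ∈ T := by
  haveI : Fact (Nat.Prime 2) := ⟨Nat.prime_two⟩
  refine div_mem_of_autos hS hF (fun a ha b hb => h2 (d.comm_mem_X2 ha hb))
    (d.conj_mem_of_X2_le h2 hT) ?_ hf hx
  rintro P (rfl | hP) α hα w hw
  · obtain ⟨g, hg, hge⟩ := mem_inn.1 (autGroup_le_inn_of_isPGroup hS hF (d.isPGroup_autS hS) hα)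
    rw [hge w hw]
    exact h2 (d.comm_mem_X2 hg hw)
  · obtain ⟨i, rfl, hi⟩ := d.exists_of_essential hS hP
    exact h i hi (Subgroup.mul_mem _ (autFun_mem α hw) (Subgroup.inv_mem _ hw))

/-- The moves of an odd automorphism generate `E i`. -/
theorem E_le_of_moves (hS : IsPGroup 2 S) {i : ℤ} (h : d.Pat F i) {D : Subgroup Ω}
    (hD : ∀ α ∈ F.autGroup (d.E i), ∀ w ∈ d.E i, autFun α w * w⁻¹ ∈ D) : d.E i ≤ D := by
  classical
  haveI : Fact (Nat.Prime 2) := ⟨Nat.prime_two⟩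
  have := finite_of_le (d.E_le i)
  set C : Subgroup Ω := closure {v | ∃ α ∈ F.autGroup (d.E i), ∃ w ∈ d.E i,
    v = autFun α w * w⁻¹} with hC
  have hCD : C ≤ D := (closure_le _).2 fun v ⟨α, hα, w, hw, e⟩ => e ▸ hD α hα w hw
  have hCE : C ≤ d.E i := (closure_le _).2 fun v ⟨α, _, w, hw, e⟩ =>
    e ▸ mul_mem (autFun_mem α hw) (inv_mem hw)
  by_contra hne
  have hlt : C < d.E i := lt_of_le_of_ne hCE fun e => hne (e ▸ hCD)
  have : Finite C := finite_of_le (hCE.trans (d.E_le i))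
  -- a proper subgroup is cyclic
  have hcyc : IsCyclic C := by
    by_cases hx : C ≤ zpowers d.x
    · exact Subgroup.isCyclic_of_le hx
    obtain ⟨v, hv, hvx⟩ := SetLike.not_le_iff_exists.1 hx
    obtain ⟨a, ha, e | e⟩ := hCE hv
    · exact absurd ⟨a, e.symm⟩ hvx
    subst e
    have := finite_of_le (hCE.trans (d.E_le i))
    have h1 : zpowers (d.g (a + i)) = C := by
      refine Subgroup.eq_of_le_of_card_ge (zpowers_le.2 hv) ?_
      rw [Nat.card_zpowers]
      obtain ⟨k, hk⟩ := Subgroup.card_dvd_of_le hlt.le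
      have hcl := card_lt_of_lt (d.E_le i) hlt
      have hC0 : 0 < Nat.card C := Nat.card_pos
      have hev : Even (d.sq (a + i)) ↔ Even (d.sq i) := by
        by_cases hs : Even (d.sq i)
        · refine d.sq_parity ?_
          rw [add_sub_cancel_right]
          exact even_iff_two_dvd.2 ((even_iff_two_dvd.1 d.even_h).trans (d.c_even hs ▸ ha))
        · refine d.sq_parity ?_
          rw [add_sub_cancel_right]
          exact even_iff_two_dvd.2
            ((even_iff_two_dvd.1 (d.even_qu (d.odd_sq_n hs))).trans (d.c_odd hs ▸ ha))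
      have hk2 : 2 ≤ k := by
        rcases k with _ | _ | k
        · omega
        · omega
        · omega
      have h2k : 2 * Nat.card C ≤ Nat.card (d.E i) := by
        rw [hk, mul_comm]; exact Nat.mul_le_mul_left _ hk2
      rw [d.card_E] at h2k
      by_cases hs : Even (d.sq i)
      · rw [if_pos hs] at h2k
        obtain ⟨t, ht⟩ := hev.2 hs
        have h2 : orderOf (d.g (a + i)) = 2 := (orderOf_eq_prime_iff (p := 2)).2
          ⟨by rw [_root_.sq (d.g _), d.g_mul_self, d.zpow_eq_one]; exact ⟨t, by rw [ht]; ring⟩,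
            fun e => d.g_ne_zpow (a + i) 0 (by rw [e, zpow_zero])⟩
        omega
      · rw [if_neg hs] at h2k
        have ho : Odd (d.sq (a + i)) := Int.not_even_iff_odd.1 fun h => hs (hev.1 h)
        obtain ⟨t, ht⟩ := ho
        have hsq : d.g (a + i) ^ 2 = d.x ^ d.h := by
          rw [_root_.sq (d.g _), d.g_mul_self, d.zpow_inj]; exact ⟨t, by rw [ht]; ring⟩
        have h4 : orderOf (d.g (a + i)) = 2 ^ (1 + 1) := orderOf_eq_prime_pow
          (by rw [pow_one, hsq, d.zpow_eq_one]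
              exact fun h' => by have := Int.le_of_dvd d.h_pos h'; have := d.h_pos; omega)
          (by rw [show (2 : ℕ) ^ (1 + 1) = 2 * 2 from rfl, pow_mul, hsq, ← zpow_natCast, ← zpow_mul,
            d.zpow_eq_one]; exact dvd_of_eq (by push_cast; ring))
        omega
    exact h1 ▸ inferInstance
  obtain ⟨α, hα, hodd, hα1⟩ : ∃ α ∈ F.autGroup (d.E i), Odd (orderOf α) ∧ α ≠ 1 := by
    obtain ⟨⟨φ, hφ⟩, hk⟩ : ∃ φ : F.autGroup (d.E i), ∀ k, φ ^ 2 ^ k ≠ 1 := by
      simpa only [Pat, IsPGroup, not_forall, not_exists] using h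
    have := finite_mulAut (d.E_le i)
    obtain ⟨k, m, hm2, hm⟩ :=
      Nat.exists_eq_pow_mul_and_not_dvd (orderOf_pos φ).ne' 2 (by norm_num)
    exact ⟨φ ^ 2 ^ k, pow_mem hφ _, Odd.of_dvd_nat (Nat.odd_iff.2 (Nat.two_dvd_ne_zero.1 hm2))
      (orderOf_dvd_of_pow_eq_one (by rw [← pow_mul, ← hm, pow_orderOf_eq_one])),
      fun e => hk k (Subtype.ext e)⟩
  have hmap : ∀ v ∈ C, autFun α v ∈ C := by
    intro v hv
    have := C.mul_mem (subset_closure ⟨α, hα, v, hCE hv, rfl⟩ : autFun α v * v⁻¹ ∈ C) hv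
    rwa [inv_mul_cancel_right] at this
  -- the restriction to the cyclic subgroup is trivial
  have hfix : ∀ v ∈ C, autFun α v = v := by
    let φ : MulAut C :=
      { toFun := fun v => ⟨autFun α v, hmap v v.2⟩
        invFun := fun v => ⟨autFun α⁻¹ v, by
          have := C.mul_mem (subset_closure ⟨α⁻¹, inv_mem hα, (v : Ω), hCE v.2, rfl⟩ :
            autFun α⁻¹ v * (v : Ω)⁻¹ ∈ C) v.2
          rwa [inv_mul_cancel_right] at this⟩
        left_inv := fun v => Subtype.ext (autFun_inv_left α (hCE v.2))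
        right_inv := fun v => Subtype.ext (autFun_inv_right α (hCE v.2))
        map_mul' := fun v w => Subtype.ext (autFun_map_mul α (hCE v.2) (hCE w.2)) }
    have hφn : ∀ n : ℕ, ∀ v : C, ((φ ^ n) v : Ω) = autFun (α ^ n) v := by
      intro n
      induction n with
      | zero => intro v; rw [pow_zero, pow_zero, autFun_one (hCE v.2)]; rfl
      | succ n ih =>
        intro v
        rw [pow_succ', pow_succ', autFun_mul _ _ (hCE v.2), MulAut.mul_apply, ← ih]
        rfl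
    obtain ⟨c, hc⟩ := hcyc.exists_generator
    have hp : IsPGroup 2 (MulAut C) := Involutions.isPGroup_mulAut_of_cyclic
      (isPGroup_of_le (hCE.trans (d.E_le i)) hS) (y := 1) (fun g => Or.inl (hc g))
      fun g hg => absurd (hc g) hg
    obtain ⟨k, hk⟩ := hp φ
    have h1 : φ ^ orderOf α = 1 := MulEquiv.ext fun v => Subtype.ext (by
      rw [hφn, pow_orderOf_eq_one, autFun_one (hCE v.2)]; rfl)
    have h2 : orderOf φ ∣ 1 := by
      have := Nat.dvd_gcd (orderOf_dvd_of_pow_eq_one h1) (orderOf_dvd_of_pow_eq_one hk)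
      rwa [((hodd.coprime_two_right).pow_right k).gcd_eq_one] at this
    intro v hv
    have := congrArg (fun ψ : MulAut C => ((ψ ⟨v, hv⟩ : C) : Ω))
      (orderOf_eq_one_iff.1 (Nat.dvd_one.1 h2))
    exact this
  refine hα1 (autFun_inj fun w hw => ?_)
  rw [autFun_one hw]
  set e := autFun α w * w⁻¹ with he
  have heC : e ∈ C := subset_closure ⟨α, hα, w, hw, rfl⟩
  have hpow : ∀ n : ℕ, autFun (α ^ n) w = e ^ n * w := by
    intro n
    induction n with
    | zero => rw [pow_zero, pow_zero, autFun_one hw, one_mul]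
    | succ n ih =>
      rw [pow_succ', autFun_mul _ _ hw, ih,
        autFun_map_mul α (hCE (pow_mem heC n)) hw, hfix _ (pow_mem heC n), pow_succ, mul_assoc]
      congr 1
      rw [he, inv_mul_cancel_right]
  have h1 : e ^ orderOf α = 1 := by
    have := hpow (orderOf α)
    rwa [pow_orderOf_eq_one, autFun_one hw, right_eq_mul] at this
  obtain ⟨k, hk⟩ := hS ⟨e, (hCE.trans (d.E_le i)) heC⟩
  have h2 := Nat.dvd_gcd (orderOf_dvd_of_pow_eq_one h1)
    (orderOf_dvd_of_pow_eq_one (congrArg Subtype.val hk : e ^ 2 ^ k = 1))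
  rw [((hodd.coprime_two_right).pow_right k).gcd_eq_one] at h2
  exact mul_inv_eq_one.1 (orderOf_eq_one_iff.1 (Nat.dvd_one.1 h2))

/-- An odd automorphism pushes `E i` into the derived group of a realising group. -/
theorem E_le_commutator (hS : IsPGroup 2 S) {G : Type*} [Group G] {ι : S →* G}
    (hr : F.IsRealizedBy ι) {i : ℤ} (h : d.Pat F i) :
    d.E i ≤ ((commutator G).comap ι).map S.subtype :=
  d.E_le_of_moves hS h fun _ hα _ hw => ⟨_, div_mem_commutator hr hα (d.E_le i) hw, rfl⟩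

end MC

end CfsgLib.Fusion
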