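import Mathlib
import Cfsg.Agent.Lib.Fusion.MaxClassFusion
import Cfsg.Prelude.Def_CaseTheorems

/-!
# Realizing fusion systems on dihedral, quaternion and quasidihedral groups
-/

set_option autoImplicit false

namespace CfsgLib.Fusion

open Cfsg Cfsg.FusionSystem Subgroup

universe u

variable {Ω Ω' : Type*} [Group Ω] [Group Ω']

namespace MC

section Shape

variable {S : Subgroup Ω}

/-- The data, with the covering replaced by the order of `S`. -/
def ofCard [Finite S] (n : ℕ) (x y : S) (ε δ : ℤ) (ox : orderOf x = 2 ^ n)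
    (small : (2 ≤ n ∧ ε = 0 ∧ δ = 0) ∨ 3 ≤ n)
    (conj : y * x * y⁻¹ = x ^ (ε * 2 ^ (n - 1) - 1)) (sqy : y * y = x ^ (δ * 2 ^ (n - 1)))
    (y_not : y ∉ zpowers x) (hcard : Nat.card S = 2 * 2 ^ n) : MC S where
  n := n
  x := x
  y := y
  ε := ε
  δ := δ
  hx := x.2
  hy := y.2
  ox := by rw [Subgroup.orderOf_coe, ox]
  small := small
  conj := by
    have := congrArg (Subtype.val) conj
    simpa using this
  sqy := by
    have := congrArg (Subtype.val) sqy
    simpa using this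
  y_not := fun ⟨k, hk⟩ => y_not ⟨k, Subtype.ext (by simpa using hk)⟩
  cover := fun s hs => by
    have hidx : (zpowers x).index = 2 := by
      have h := (zpowers x).card_mul_index
      rw [Nat.card_zpowers, ox, hcard, mul_comm] at h
      exact Nat.eq_of_mul_eq_mul_right (by positivity) h
    by_cases h : (⟨s, hs⟩ : S) ∈ zpowers x
    · obtain ⟨k, hk⟩ := h
      exact Or.inl ⟨k, by simpa using congrArg Subtype.val hk⟩
    · obtain ⟨k, hk⟩ : (⟨s, hs⟩ : S) * y⁻¹ ∈ zpowers x :=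
        (mul_mem_iff_of_index_two hidx).2 (by simp [h, y_not])
      refine Or.inr ⟨k, ?_⟩
      have := congrArg Subtype.val hk
      simp only [coe_zpow, coe_mul, coe_inv] at this
      rw [this, inv_mul_cancel_right]

theorem nonempty_of_dihedral [Finite S] (hS : IsPGroup 2 S) {m : ℕ} (hm : 4 ≤ m)
    (e : S ≃* DihedralGroup m) :
    ∃ d : MC S, d.ε = 0 ∧ d.δ = 0 ∧ 2 ^ d.n = m := by
  haveI : Fact (Nat.Prime 2) := ⟨Nat.prime_two⟩
  haveI : NeZero m := ⟨by omega⟩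
  obtain ⟨j, hj⟩ := IsPGroup.iff_card.mp hS
  obtain ⟨n, -, hn⟩ := (Nat.dvd_prime_pow Nat.prime_two).1 (show m ∣ 2 ^ j from
    ⟨2, by rw [← hj, Nat.card_congr e.toEquiv, DihedralGroup.nat_card, mul_comm]⟩)
  have hn2 : 2 ≤ n := by
    by_contra h
    interval_cases n <;> omega
  refine ⟨ofCard n (e.symm (.r 1)) (e.symm (.sr 0)) 0 0 ?_ (Or.inl ⟨hn2, rfl, rfl⟩) ?_ ?_ ?_ ?_,
    rfl, rfl, hn.symm⟩
  · rw [MulEquiv.orderOf_eq, DihedralGroup.orderOf_r_one, hn]
  · refine e.injective ?_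
    simp [DihedralGroup.inv_sr, DihedralGroup.sr_mul_r, DihedralGroup.sr_mul_sr]
  · refine e.injective ?_
    simp [DihedralGroup.sr_mul_sr]
  · rintro ⟨k, hk⟩
    have := congrArg e hk
    simp [map_zpow, DihedralGroup.r_one_zpow] at this
  · rw [Nat.card_congr e.toEquiv, DihedralGroup.nat_card, hn]

theorem nonempty_of_quaternion [Finite S] (hS : IsPGroup 2 S) {m : ℕ} (hm : 4 ≤ m)
    (e : S ≃* QuaternionGroup m) :
    ∃ d : MC S, d.ε = 0 ∧ d.δ = 1 ∧ 2 ^ d.n = 2 * m := by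
  haveI : Fact (Nat.Prime 2) := ⟨Nat.prime_two⟩
  haveI : NeZero m := ⟨by omega⟩
  obtain ⟨j, hj⟩ := IsPGroup.iff_card.mp hS
  obtain ⟨n, -, hn⟩ := (Nat.dvd_prime_pow Nat.prime_two).1 (show m ∣ 2 ^ j from
    ⟨4, by rw [← hj, Nat.card_congr e.toEquiv, Nat.card_eq_fintype_card, QuaternionGroup.card,
      mul_comm]⟩)
  have hn2 : 2 ≤ n := by
    by_contra h
    interval_cases n <;> omega
  refine ⟨ofCard (n + 1) (e.symm (.a 1)) (e.symm (.xa 0)) 0 1 ?_ (Or.inr (by omega)) ?_ ?_ ?_ ?_,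
    rfl, rfl, ?_⟩
  · rw [MulEquiv.orderOf_eq, QuaternionGroup.orderOf_a_one, hn, pow_succ']
  · refine e.injective ?_
    rw [map_mul, map_mul, map_inv, map_zpow, e.apply_symm_apply, e.apply_symm_apply,
      zero_mul, zero_sub, zpow_neg_one]
    show (QuaternionGroup.xa 0 * .a 1) * (QuaternionGroup.xa 0)⁻¹ = (QuaternionGroup.a 1)⁻¹
    rw [mul_inv_eq_iff_eq_mul, QuaternionGroup.xa_mul_a]
    show QuaternionGroup.xa (0 + 1) = QuaternionGroup.a (-1) * QuaternionGroup.xa 0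
    rw [QuaternionGroup.a_mul_xa]
    congr 1
    ring
  · refine e.injective ?_
    rw [map_mul, map_zpow, e.apply_symm_apply, e.apply_symm_apply, one_mul, Nat.add_sub_cancel,
      QuaternionGroup.xa_mul_xa, show ((2 : ℤ) ^ n) = ((m : ℕ) : ℤ) by rw [hn]; push_cast; rfl,
      zpow_natCast, QuaternionGroup.a_one_pow]
    simp
  · rintro ⟨k, hk⟩
    have := congrArg e hk
    simp only [map_zpow, MulEquiv.apply_symm_apply] at this
    obtain ⟨k, rfl | rfl⟩ := k.eq_nat_or_neg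
    · rw [zpow_natCast, QuaternionGroup.a_one_pow] at this
      cases this
    · rw [zpow_neg, zpow_natCast, QuaternionGroup.a_one_pow] at this
      cases this
  · rw [Nat.card_congr e.toEquiv, Nat.card_eq_fintype_card, QuaternionGroup.card, hn, pow_succ]
    ring
  · show 2 ^ (n + 1) = 2 * m
    rw [hn, pow_succ']

theorem nonempty_of_quasiDihedral [Finite S] (h : IsQuasiDihedral S) :
    ∃ d : MC S, d.ε = 1 ∧ d.δ = 0 := by
  obtain ⟨n, hn, hcard, x, y, hx, hy, hc⟩ := h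
  have hyy : y * y = 1 := by rw [← _root_.sq y, ← hy, pow_orderOf_eq_one]
  have h4 : 4 ≤ 2 ^ (n - 1) := by
    calc 4 = 2 ^ 2 := rfl
      _ ≤ _ := Nat.pow_le_pow_right two_pos (by omega)
  refine ⟨ofCard n x y 1 0 hx (Or.inr hn) ?_ (by rw [hyy]; simp) ?_
    (by rw [hcard, pow_succ, mul_comm]), rfl, rfl⟩
  · rw [hc, ← zpow_natCast, Nat.cast_sub Nat.one_le_two_pow]
    simp
  · rintro ⟨i, rfl⟩
    rw [show (x ^ i) * x * (x ^ i)⁻¹ = x by group] at hc
    have h1 : x ^ 1 = x ^ (2 ^ (n - 1) - 1) := by rw [pow_one]; exact hc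
    have h2 := pow_inj_mod.1 h1
    have h5 : 2 ^ n = 2 * 2 ^ (n - 1) := by rw [← pow_succ']; congr 1; omega
    rw [hx, Nat.mod_eq_of_lt (by omega), Nat.mod_eq_of_lt (by omega)] at h2
    omega

/-- The other class of reflections first, when `ε = 0`. -/
def swap (d : MC S) (h : d.ε = 0) : MC S where
  n := d.n
  x := d.x
  y := d.g 1
  ε := d.ε
  δ := d.δ
  hx := d.hx
  hy := d.g_mem 1
  ox := d.ox
  small := d.small
  conj := by
    rw [g, mul_inv_rev, show d.x ^ (1 : ℤ) * d.y * d.x * (d.y⁻¹ * (d.x ^ (1 : ℤ))⁻¹) =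
      d.x ^ (1 : ℤ) * (d.y * d.x * d.y⁻¹) * (d.x ^ (1 : ℤ))⁻¹ by group, d.conj, h]
    group
  sqy := by
    rw [d.g_mul_self, sq, h]
    congr 1
    rw [MC.h]; ring
  y_not := d.g_not_mem 1
  cover := fun s hs => by
    rcases d.cases hs with ⟨a, ha⟩ | ⟨i, hi⟩
    · exact Or.inl ⟨a, ha.symm⟩
    · exact Or.inr ⟨i - 1, by rw [d.zpow_mul_g, sub_add_cancel]; exact hi⟩

theorem swap_g (d : MC S) (h : d.ε = 0) (i : ℤ) : (d.swap h).g i = d.g (i + 1) := d.zpow_mul_g i 1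

/-- Groups with the same parameters are isomorphic, respecting the reflections. -/
theorem exists_equiv {T : Subgroup Ω'} (d : MC S) (d' : MC T) (hn : d.n = d'.n)
    (hε : d.ε = d'.ε) (hδ : d.δ = d'.δ) :
    ∃ e : S ≃* T, ∀ i, ((e ⟨d.g i, d.g_mem i⟩ : T) : Ω') = d'.g i := by
  have hh : d.h = d'.h := by rw [MC.h, MC.h, hn]
  have hsq : ∀ i, d.sq i = d'.sq i := fun i => by rw [sq, sq, hε, hδ]
  let R : Subgroup (S × T) :=
    { carrier := {w | ∃ a : ℤ, w = (⟨_, d.zpow_mem_S a⟩, ⟨_, d'.zpow_mem_S a⟩) ∨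
        w = (⟨_, d.g_mem a⟩, ⟨_, d'.g_mem a⟩)}
      one_mem' := ⟨0, Or.inl (Prod.ext (Subtype.ext (zpow_zero _).symm)
        (Subtype.ext (zpow_zero _).symm))⟩
      mul_mem' := by
        rintro _ _ ⟨a, rfl | rfl⟩ ⟨b, rfl | rfl⟩
        · exact ⟨a + b, Or.inl (Prod.ext (Subtype.ext (zpow_add _ _ _).symm)
            (Subtype.ext (zpow_add _ _ _).symm))⟩
        · exact ⟨a + b, Or.inr (Prod.ext (Subtype.ext (d.zpow_mul_g a b))
            (Subtype.ext (d'.zpow_mul_g a b)))⟩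
        · exact ⟨a + (d.ε * d.h - 1) * b, Or.inr (Prod.ext (Subtype.ext (d.g_mul_zpow a b))
            (Subtype.ext (by rw [hε, hh]; exact d'.g_mul_zpow a b)))⟩
        · exact ⟨a + (d.ε * d.h - 1) * b + d.δ * d.h, Or.inl (Prod.ext (Subtype.ext (d.g_mul_g a b))
            (Subtype.ext (by rw [hε, hh, hδ]; exact d'.g_mul_g a b)))⟩
      inv_mem' := by
        rintro _ ⟨a, rfl | rfl⟩
        · exact ⟨-a, Or.inl (Prod.ext (Subtype.ext (zpow_neg _ _).symm)
            (Subtype.ext (zpow_neg _ _).symm))⟩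
        · exact ⟨a + (d.ε * d.h - 1) * (-(d.h * d.sq a)), Or.inr (Prod.ext (Subtype.ext (d.g_inv a))
            (Subtype.ext (by rw [hε, hh, hsq]; exact d'.g_inv a)))⟩ }
  have h1 : Function.Bijective ((MonoidHom.fst S T).comp R.subtype) := by
    refine ⟨(injective_iff_map_eq_one _).2 fun ⟨w, a, hw⟩ e => ?_, fun s => ?_⟩
    · rcases hw with rfl | rfl
      · have h2 : d.x ^ a = 1 := congrArg Subtype.val e
        rw [d.zpow_eq_one, hh, ← d'.zpow_eq_one] at h2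
        exact Subtype.ext (Prod.ext e (Subtype.ext h2))
      · exact absurd ((congrArg Subtype.val e :).trans (zpow_zero d.x).symm) (d.g_ne_zpow a 0)
    · rcases d.cases s.2 with ⟨a, ha⟩ | ⟨a, ha⟩
      · exact ⟨⟨_, a, Or.inl rfl⟩, Subtype.ext ha.symm⟩
      · exact ⟨⟨_, a, Or.inr rfl⟩, Subtype.ext ha.symm⟩
  have h2 : Function.Bijective ((MonoidHom.snd S T).comp R.subtype) := by
    refine ⟨(injective_iff_map_eq_one _).2 fun ⟨w, a, hw⟩ e => ?_, fun s => ?_⟩
    · rcases hw with rfl | rfl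
      · have h2 : d'.x ^ a = 1 := congrArg Subtype.val e
        rw [d'.zpow_eq_one, ← hh, ← d.zpow_eq_one] at h2
        exact Subtype.ext (Prod.ext (Subtype.ext h2) e)
      · exact absurd ((congrArg Subtype.val e :).trans (zpow_zero d'.x).symm) (d'.g_ne_zpow a 0)
    · rcases d'.cases s.2 with ⟨a, ha⟩ | ⟨a, ha⟩
      · exact ⟨⟨_, a, Or.inl rfl⟩, Subtype.ext ha.symm⟩
      · exact ⟨⟨_, a, Or.inr rfl⟩, Subtype.ext ha.symm⟩
  refine ⟨(MulEquiv.ofBijective _ h1).symm.trans (MulEquiv.ofBijective _ h2), fun i => ?_⟩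
  have : (MulEquiv.ofBijective _ h1).symm ⟨d.g i, d.g_mem i⟩ = ⟨_, i, Or.inr rfl⟩ :=
    (MulEquiv.ofBijective _ h1).injective (by rw [MulEquiv.apply_symm_apply]; rfl)
  rw [MulEquiv.trans_apply, this]
  rfl

end Shape

variable {S : Subgroup Ω} [Finite S] (d : MC S) {F : FusionSystem S}

/-- In a group realising the system, the odd automorphisms are seen by the derived group. -/
theorem pat_iff {G : Type*} [Group G] [Finite G] {ι : S →* G} (hS : IsPGroup 2 S)
    (hF : F.IsSaturated 2) (hr : F.IsRealizedBy ι) (T : Sylow 2 G)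
    (hT : (T : Subgroup G) = ι.range) (i : ℤ) :
    d.Pat F i ↔ ι ⟨d.g i, d.g_mem i⟩ ∈ commutator G := by
  haveI : Fact (Nat.Prime 2) := ⟨Nat.prime_two⟩
  refine ⟨fun h => ?_, fun hg => ?_⟩
  · obtain ⟨w, hw, e⟩ := d.E_le_commutator hS hr h (d.g_mem_E i)
    rwa [show w = ⟨d.g i, d.g_mem i⟩ from Subtype.ext e] at hw
  · by_contra hP
    have hM : ∀ R f, IsMor F R f → ∀ x ∈ R, f x * x⁻¹ ∈ d.M (i + 1) := fun R f hf x hx =>
      d.div_mem hS hF (d.M_le _) (d.X2_le_M _) (fun j hj => d.E_le_M (by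
        by_contra hodd
        refine hP ((d.pat_congr ?_).1 hj)
        simp only [Int.even_sub, Int.even_add, Int.not_even_one, iff_false] at hodd ⊢
        tauto)) hf hx
    obtain ⟨w, hw, e⟩ := sylow_inf_commutator_le hr T hT
      (d.conj_mem_of_X2_le (d.X2_le_M _) (d.M_le _)) hM
      (mem_inf.2 ⟨hg, hT ▸ ⟨_, rfl⟩⟩)
    rw [hr.1 e] at hw
    exact d.g_not_mem_M (i := i) (j := i + 1) (by simp) hw

/-- A subgroup of `S` containing `x ^ 2` and two neighbouring reflections is everything. -/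
theorem eq_S_of_mem {H : Subgroup Ω} (h2 : d.X2 ≤ H) {i j : ℤ} (hi : d.g i ∈ H) (hj : d.g j ∈ H)
    (hij : ¬ Even (j - i)) : S ≤ H := by
  have hx : ∀ k, d.g k ∈ H := fun k => by
    by_cases hk : Even (k - i)
    · exact d.g_mem_of_even h2 hk hi
    · refine d.g_mem_of_even h2 ?_ hj
      simp only [Int.even_sub] at hij hk ⊢
      tauto
  intro s hs
  rcases d.cases hs with ⟨a, rfl⟩ | ⟨k, rfl⟩
  · have := mul_mem (hx (a + i)) (inv_mem (hx i))
    rwa [← d.zpow_mul_g, mul_inv_cancel_right] at this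
  · exact hx k

theorem X2_le_commutator {G : Type*} [Group G] (ι : S →* G) :
    d.X2 ≤ ((commutator G).comap ι).map S.subtype := by
  refine zpowers_le.2 ⟨⟨_, d.zpow_mem_S 2⟩, ?_, rfl⟩
  obtain ⟨a, ha⟩ := d.exists_solve 1
  have he : (⟨_, d.zpow_mem_S 2⟩ : S) = ⟨_, d.zpow_mem_S a⟩ * ⟨_, d.g_mem 0⟩ *
      (⟨_, d.zpow_mem_S a⟩ : S)⁻¹ * (⟨_, d.g_mem 0⟩ : S)⁻¹ := Subtype.ext (by
    show d.x ^ (2 : ℤ) = d.x ^ a * d.g 0 * (d.x ^ a)⁻¹ * (d.g 0)⁻¹
    rw [d.conj_g, eq_mul_inv_iff_mul_eq, d.zpow_mul_g, d.g_inj]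
    obtain ⟨t, ht⟩ := ha
    exact ⟨-t, by linarith⟩)
  show ι _ ∈ commutator G
  rw [he, map_mul, map_mul, map_mul, map_inv, map_inv]
  exact commutator_mem_commutator (mem_top _) (mem_top _)

/-- A noncyclic part of the derived group contains a reflection. -/
theorem exists_g_mem {G : Type*} [Group G] {ι : S →* G} {T : Subgroup G}
    (hT : T = ι.range) (hc : ¬ IsCyclic (T ⊓ commutator G : Subgroup G)) :
    ∃ i, ι ⟨d.g i, d.g_mem i⟩ ∈ commutator G := by
  by_contra hne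
  push Not at hne
  refine hc (Subgroup.isCyclic_of_le (H' := zpowers (ι ⟨d.x, d.hx⟩)) ?_)
  intro w hw
  obtain ⟨hwT, hwc⟩ := mem_inf.1 hw
  rw [hT] at hwT
  obtain ⟨⟨s, hs⟩, rfl⟩ := hwT
  rcases d.cases hs with ⟨a, rfl⟩ | ⟨i, rfl⟩
  · exact ⟨a, (map_zpow ι _ a).symm.trans (congrArg ι (Subtype.ext rfl))⟩
  · exact absurd hwc (hne i)

/-- Two involutions in the cyclic part and the odd reflections are equal. -/
theorem eq_xh_of_invol {s : Ω} (hs : s ∈ S) (h2 : orderOf s = 2)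
    (hn : ∀ i, s = d.g i → ¬ Even (d.sq i)) : s = d.x ^ d.h := by
  rcases d.cases hs with ⟨a, rfl⟩ | ⟨i, rfl⟩
  · exact d.gen_two h2
  · exfalso
    have h1 := pow_orderOf_eq_one (d.g i)
    rw [h2, _root_.sq (d.g i), d.g_mul_self, d.zpow_eq_one] at h1
    obtain ⟨t, ht⟩ := h1
    refine hn i rfl ⟨t, ?_⟩
    have : d.h * (d.sq i - 2 * t) = 0 := by linarith
    have := (mul_eq_zero.1 this).resolve_left d.h_pos.ne'
    linarith

omit [Finite S] in
theorem orderOf_g_even {i : ℤ} (h : Even (d.sq i)) : orderOf (d.g i) = 2 := by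
  haveI : Fact (Nat.Prime 2) := ⟨Nat.prime_two⟩
  obtain ⟨t, ht⟩ := h
  exact (orderOf_eq_prime_iff (p := 2)).2
    ⟨by rw [_root_.sq (d.g _), d.g_mul_self, d.zpow_eq_one]; exact ⟨t, by rw [ht]; ring⟩,
      fun e => d.g_ne_zpow i 0 (by rw [e, zpow_zero])⟩

end MC

/-- Realizability only depends on the group up to isomorphism. -/
theorem isRealizable_of_group {Ω : Type u} [Group Ω] {S : Subgroup Ω} {F : FusionSystem S}
    {p : ℕ} [Fact p.Prime] {G : Type*} [Group G] [Finite G] (ι : S →* G) (hr : F.IsRealizedBy ι)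
    (T : Sylow p G) (hT : (T : Subgroup G) = ι.range) (hsmall : Small.{u} G) :
    F.IsRealizable p := by
  let e : G ≃* Shrink.{u} G := (Shrink.mulEquiv (α := G)).symm
  refine ⟨Shrink.{u} G, inferInstance, Finite.of_equiv G e.toEquiv, e.toMonoidHom.comp ι,
    ⟨e.injective.comp hr.1, fun P hP φ hφ => ?_⟩, T.mapSurjective (f := e.toMonoidHom) (show Function.Surjective e.toMonoidHom from e.surjective),
    by rw [Sylow.coe_mapSurjective, hT, MonoidHom.range_comp]⟩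
  rw [hr.2 P hP φ hφ]
  refine ⟨fun ⟨g, hg⟩ => ⟨e g, fun x => ?_⟩, fun ⟨g, hg⟩ => ⟨e.symm g, fun x => e.injective ?_⟩⟩
  · show e (ι _) = _
    rw [hg x, map_mul, map_mul, map_inv]; rfl
  · rw [map_mul, map_mul, map_inv, e.apply_symm_apply]
    exact hg x

end CfsgLib.Fusion
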