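import Cfsg.Agent.Lib.Fusion.SimpleTwoRank
import Cfsg.Agent.Lib.Classical.SL2Sylow
import Cfsg.Agent.Lib.Classical.PSLSimple
import Cfsg.Agent.Lib.Classical.UnitarySimple
import Cfsg.Agent.Lib.Involutions.PSLThreeCentralizer
import Cfsg.Agent.Lib.Involutions.SylowGUTwo
import Cfsg.Agent.Lib.Rec.TransVec

/-!
# The 2-fusion systems of `PSL₂(q)`, `PSL₃(q)` and `PSU₃(q)`, `q` odd
-/

set_option autoImplicit false

namespace CfsgLib.Fusion

open Cfsg Subgroup
open scoped MatrixGroups

/-- The map of a generalised quaternion group onto the dihedral group modulo its centre. -/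
def quatToDihedral (n : ℕ) [NeZero n] : QuaternionGroup n →* DihedralGroup n where
  toFun
    | .a i => .r (ZMod.castHom (dvd_mul_left n 2) (ZMod n) i)
    | .xa i => .sr (ZMod.castHom (dvd_mul_left n 2) (ZMod n) i)
  map_one' := by
    show DihedralGroup.r (ZMod.castHom (dvd_mul_left n 2) (ZMod n) 0) = _
    rw [map_zero]; rfl
  map_mul' := by
    rintro (i | i) (j | j) <;> simp [DihedralGroup.r_mul_r, DihedralGroup.r_mul_sr,
      DihedralGroup.sr_mul_r, DihedralGroup.sr_mul_sr]

theorem quatToDihedral_surjective (n : ℕ) [NeZero n] :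
    Function.Surjective (quatToDihedral n) := by
  rintro (i | i)
  · obtain ⟨j, hj⟩ := ZMod.castHom_surjective (dvd_mul_left n 2) i
    exact ⟨.a j, congrArg DihedralGroup.r hj⟩
  · obtain ⟨j, hj⟩ := ZMod.castHom_surjective (dvd_mul_left n 2) i
    exact ⟨.xa j, congrArg DihedralGroup.sr hj⟩

theorem quatToDihedral_ker {n : ℕ} [NeZero n] (x : QuaternionGroup n) :
    quatToDihedral n x = 1 ↔ x ^ 2 = 1 := by
  have hxa : ∀ i : ZMod (2 * n), (QuaternionGroup.xa i) ^ 2 ≠ 1 := fun i h => by
    have := orderOf_dvd_of_pow_eq_one h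
    rw [QuaternionGroup.orderOf_xa] at this
    exact absurd (Nat.le_of_dvd two_pos this) (by norm_num)
  rcases x with i | i
  · haveI : NeZero (2 * n) := ⟨by have := NeZero.ne n; omega⟩
    show DihedralGroup.r (ZMod.castHom (dvd_mul_left n 2) (ZMod n) i) = DihedralGroup.r 0 ↔ _
    rw [sq, QuaternionGroup.a_mul_a, show (1 : QuaternionGroup n) = .a 0 from rfl,
      QuaternionGroup.a.injEq, DihedralGroup.r.injEq, ← ZMod.natCast_zmod_val i, map_natCast,
      ← Nat.cast_add, ZMod.natCast_eq_zero_iff, ZMod.natCast_eq_zero_iff, ← two_mul]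
    exact (Nat.mul_dvd_mul_iff_left two_pos).symm
  · exact iff_of_false (fun h => by cases h) (hxa i)

variable {F : Type*} [Field F]

theorem sylow_PSL2_dihedral [Finite F] (hodd : Odd (Nat.card F))
    (h16 : 16 ∣ Nat.card F ^ 2 - 1)
    (P : Sylow 2 (Matrix.ProjectiveSpecialLinearGroup (Fin 2) F)) :
    ∃ m : ℕ, 4 ≤ m ∧ Nonempty ((P : Subgroup (Matrix.ProjectiveSpecialLinearGroup (Fin 2) F)) ≃*
      DihedralGroup m) := by
  haveI : Fact (Nat.Prime 2) := ⟨Nat.prime_two⟩
  have h2 := Classical.two_ne_zero_of_odd_card hodd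
  set SL := Matrix.SpecialLinearGroup (Fin 2) F
  set π := QuotientGroup.mk' (center SL) with hπ
  obtain ⟨S, rfl⟩ := Sylow.mapSurjective_surjective (QuotientGroup.mk'_surjective (center SL)) 2 P
  rcases Classical.twoGroup_cyclic_or_quaternion h2 S.2 (S : Subgroup SL).subtype
    (S : Subgroup SL).subtype_injective with h | ⟨k, hk, ⟨e⟩⟩
  · exact absurd h.isMulCommutative (Classical.sylow_two_SL2_not_commutative h2 S)
  set φ := π.comp ((S : Subgroup SL).subtype.comp e.symm.toMonoidHom) with hφ
  have hker : φ.ker = (quatToDihedral (2 ^ k)).ker := by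
    ext x
    rw [MonoidHom.mem_ker, MonoidHom.mem_ker, quatToDihedral_ker]
    show π ((e.symm x : (S : Subgroup SL)) : SL) = 1 ↔ _
    rw [hπ, QuotientGroup.mk'_apply, QuotientGroup.eq_one_iff]
    constructor
    · intro hc
      obtain ⟨r, hr, hrm⟩ := Matrix.SpecialLinearGroup.mem_center_iff.1 hc
      refine e.symm.injective (Subtype.ext ?_)
      rw [map_pow, map_one, coe_pow, OneMemClass.coe_one]
      refine Subtype.ext ?_
      rw [Matrix.SpecialLinearGroup.coe_pow, ← hrm, ← map_pow,
        show r ^ 2 = 1 by simpa using hr, map_one, Matrix.SpecialLinearGroup.coe_one]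
    · intro hx
      rcases Classical.sl2_eq_one_or_of_sq h2 rfl (g := ((e.symm x : (S : Subgroup SL)) : SL))
        (z := Classical.negOneSL F) (by rw [← coe_pow, ← map_pow, hx, map_one]; rfl) with h | h
      · rw [h]; exact one_mem _
      · rw [h]; exact Classical.negOneSL_mem_center
  have hrange : φ.range = (Sylow.mapSurjective (QuotientGroup.mk'_surjective (center SL)) S :
      Subgroup (Matrix.ProjectiveSpecialLinearGroup (Fin 2) F)) := by
    rw [hφ, MonoidHom.range_comp, Sylow.coe_mapSurjective]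
    congr 1
    rw [MonoidHom.range_comp, MonoidHom.range_eq_top.2 e.symm.surjective,
      ← MonoidHom.range_eq_map, range_subtype]
  let f := ((MulEquiv.subgroupCongr hrange).symm.trans
    (QuotientGroup.quotientKerEquivRange φ).symm).trans
    ((QuotientGroup.quotientMulEquivOfEq hker).trans
      (QuotientGroup.quotientKerEquivOfSurjective _ (quatToDihedral_surjective (2 ^ k))))
  refine ⟨2 ^ k, ?_, ⟨f⟩⟩
  have hc : 8 ∣ Nat.card (Matrix.ProjectiveSpecialLinearGroup (Fin 2) F) := by
    obtain ⟨c, hc⟩ := h16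
    have h := Classical.card_PSL_two_mul (F := F)
    rw [Classical.gcd_two_card_sub_one_of_odd hodd, hc] at h
    exact ⟨Nat.card F * c, by linarith⟩
  obtain ⟨K, hK⟩ := Sylow.exists_subgroup_card_pow_prime 2 (n := 3)
    (G := Matrix.ProjectiveSpecialLinearGroup (Fin 2) F) hc
  obtain ⟨R, hR⟩ := (IsPGroup.of_card hK).exists_le_sylow
  have := Subgroup.card_dvd_of_le hR
  rw [hK, Nat.card_congr (Sylow.equiv R (S.mapSurjective (QuotientGroup.mk'_surjective (center SL)))).toEquiv,
    Nat.card_congr f.toEquiv, DihedralGroup.nat_card] at this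
  have := Nat.le_of_dvd (by positivity) this
  norm_num at this
  omega

/-- A map with odd kernel between groups whose orders have the same 2-part identifies the
Sylow 2-subgroups. -/
theorem sylow_two_equiv_of_hom {H G : Type*} [Group H] [Finite H] [Group G] [Finite G]
    (f : H →* G) (hker : ∀ h ∈ f.ker, Odd (orderOf h)) {a b : ℕ} (ha : Odd a) (hb : Odd b)
    (hcard : a * Nat.card G = b * Nat.card H) (Q : Sylow 2 H) (P : Sylow 2 G) :
    Nonempty ((Q : Subgroup H) ≃* (P : Subgroup G)) := by
  haveI : Fact (Nat.Prime 2) := ⟨Nat.prime_two⟩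
  have hfac : (Nat.card H).factorization 2 = (Nat.card G).factorization 2 := by
    have h := congrArg (fun n : ℕ => n.factorization 2) hcard
    simp only [Nat.factorization_mul ha.pos.ne' (Nat.card_pos (α := G)).ne',
      Nat.factorization_mul hb.pos.ne' (Nat.card_pos (α := H)).ne', Finsupp.add_apply,
      Nat.factorization_eq_zero_of_not_dvd ha.not_two_dvd_nat,
      Nat.factorization_eq_zero_of_not_dvd hb.not_two_dvd_nat, zero_add] at h
    exact h.symm
  have hinj : Function.Injective (f.comp (Q : Subgroup H).subtype) :=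
    (injective_iff_map_eq_one _).2 fun x hx => by
      obtain ⟨k, hk⟩ := (IsPGroup.iff_orderOf.1 Q.2) x
      have ho := hker (x : H) hx
      rw [Subgroup.orderOf_coe, hk] at ho
      rcases k with _ | k
      · rwa [pow_zero, orderOf_eq_one_iff] at hk
      · exact absurd ((Nat.even_pow.2 ⟨even_two, k.succ_ne_zero⟩)) (Nat.not_even_iff_odd.2 ho)
  let e' := MonoidHom.ofInjective hinj
  let R : Sylow 2 G := Sylow.ofCard (f.comp (Q : Subgroup H).subtype).range
    (by rw [← Nat.card_congr e'.toEquiv, Q.card_eq_multiplicity, hfac])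
  exact ⟨e'.trans ((MulEquiv.subgroupCongr (Sylow.coe_ofCard _ _).symm).trans (Sylow.equiv R P))⟩

theorem index_ne_two_of_simple {G : Type*} [Group G] [Finite G] (hG : IsSimpleGroup G)
    (h4 : 4 ∣ Nat.card G) (H : Subgroup G) : H.index ≠ 2 := fun h2 => by
  haveI := normal_of_index_eq_two h2
  rcases (inferInstance : H.Normal).eq_bot_or_eq_top with rfl | rfl
  · rw [index_bot] at h2; omega
  · rw [index_top] at h2; omega

theorem four_dvd_card_of_sylow {G : Type*} [Group G] [Finite G] (S : Sylow 2 G)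
    (h : IsQuasiDihedral (S : Subgroup G) ∨ IsWreathed (S : Subgroup G)) : 4 ∣ Nat.card G := by
  refine dvd_trans ?_ (card_subgroup_dvd_card (S : Subgroup G))
  rcases h with ⟨n, hn, hc, -⟩ | ⟨n, hn, hc, -⟩ <;> rw [hc] <;>
    exact pow_dvd_pow 2 (show 2 ≤ _ by omega)

theorem isSimple_PSL2 [Fintype F] (hodd : Fintype.card F % 2 = 1)
    (h16 : 16 ∣ Fintype.card F ^ 2 - 1)
    (S : Sylow 2 (Matrix.ProjectiveSpecialLinearGroup (Fin 2) F)) :
    (groupFusionSystem (S : Subgroup (Matrix.ProjectiveSpecialLinearGroup (Fin 2) F))).IsSimple 2 := by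
  rw [← Nat.card_eq_fintype_card] at hodd h16
  obtain ⟨m, hm, ⟨e⟩⟩ := sylow_PSL2_dihedral (Nat.odd_iff.2 hodd) h16 S
  have hF : 4 ≤ Nat.card F := by
    by_contra h
    have h2 : 2 ≤ Nat.card F := Finite.one_lt_card
    generalize Nat.card F = q at hodd h16 h h2
    interval_cases q <;> omega
  refine isSimple_of_dihedral S hm e (index_ne_two_of_simple
    (Classical.isSimpleGroup_PSL_fin 2 le_rfl fun _ => hF) ?_)
  obtain ⟨j, hj⟩ := IsPGroup.iff_card.1 S.2
  have h8 : 8 ≤ Nat.card (S : Subgroup (Matrix.ProjectiveSpecialLinearGroup (Fin 2) F)) := by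
    rw [Nat.card_congr e.toEquiv, DihedralGroup.nat_card]; omega
  refine dvd_trans ?_ (card_subgroup_dvd_card (S : Subgroup _))
  rw [hj] at h8 ⊢
  refine pow_dvd_pow 2 (show 2 ≤ j from ?_)
  by_contra h
  interval_cases j <;> omega

theorem isSimple_PSL3 [Fintype F] (hodd : Fintype.card F % 2 = 1)
    (S : Sylow 2 (Matrix.ProjectiveSpecialLinearGroup (Fin 3) F)) :
    (groupFusionSystem (S : Subgroup (Matrix.ProjectiveSpecialLinearGroup (Fin 3) F))).IsSimple 2 := by
  rw [← Nat.card_eq_fintype_card] at hodd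
  obtain ⟨Q⟩ : Nonempty (Sylow 2 (GL (Fin 2) F)) := inferInstance
  obtain ⟨e⟩ := sylow_two_equiv_of_hom (Involutions.PSL3.projHom F)
    (fun A hA => by
      obtain ⟨a, ha, h⟩ := (Involutions.PSL3.ker_projHom A).1 hA
      refine Odd.of_dvd_nat (show Odd 3 by decide) (orderOf_dvd_of_pow_eq_one (Units.ext ?_))
      rw [Units.val_pow_eq_pow_val, h, ← map_pow, ha, map_one, Units.val_one])
    (a := Nat.gcd 3 (Nat.card F - 1))
    (b := Nat.card F * Nat.card F * (Nat.card F * Nat.card F + Nat.card F + 1))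
    (Odd.of_dvd_nat (by decide) (Nat.gcd_dvd_left 3 _))
    (by
      have ho : Odd (Nat.card F) := Nat.odd_iff.2 hodd
      exact (ho.mul ho).mul ((((ho.mul ho).add_odd ho).add_one)))
    (by
      rw [Classical.card_GL_two, Classical.card_PSL_mul 3 (by omega), Classical.card_SL_fin']
      have h3 : Nat.card F ^ 3 - 1 =
          (Nat.card F - 1) * (Nat.card F * Nat.card F + Nat.card F + 1) := by
        have h1 : 1 ≤ Nat.card F := Nat.card_pos
        obtain ⟨t, ht⟩ : ∃ t, Nat.card F = t + 1 := ⟨_, (Nat.sub_add_cancel h1).symm⟩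
        rw [ht, Nat.add_sub_cancel]
        exact Nat.sub_eq_of_eq_add (by ring)
      simp only [Finset.prod_range_succ, Finset.prod_range_zero, zero_add, one_mul,
        Nat.reduceAdd, Nat.reduceSub, Nat.reduceMul, Nat.reduceDiv, h3]
      ring) Q S
  have hsimp : IsSimpleGroup (Matrix.ProjectiveSpecialLinearGroup (Fin 3) F) :=
    Classical.isSimpleGroup_PSL_fin 3 (by omega) (fun h => by omega)
  have h4 : Nat.card F % 4 = 1 ∨ Nat.card F % 4 = 3 := by omega
  rcases h4 with h4 | h4
  · have hW := Involutions.isWreathed_of_equiv e (Involutions.isWreathed_sylow_GL h4 Q)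
    exact isSimple_of_wreathed S hW
      (index_ne_two_of_simple hsimp (four_dvd_card_of_sylow S (Or.inr hW)))
  · have hQ := Rec.TransVec.isQuasiDihedral_congr e (Involutions.isQuasiDihedral_sylow_GL h4 Q)
    exact isSimple_of_quasiDihedral S hQ
      (index_ne_two_of_simple hsimp (four_dvd_card_of_sylow S (Or.inl hQ)))

/-- `GU₂` inside `SU₃`. -/
noncomputable def guBlock [Finite F] {q : ℕ} (hF : Nat.card F = q ^ 2) :
    Cfsg.GU 2 F q →* Cfsg.SU 3 F q :=
  ((Involutions.PSL3.blockHom F).comp (Cfsg.GU 2 F q).subtype).codRestrict _ fun A u v => by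
    show hermForm 3 F q (((Involutions.PSL3.blockHom F A.1 : SL(3, F)) :
      Matrix (Fin 3) (Fin 3) F).mulVec u)
      (((Involutions.PSL3.blockHom F A.1 : SL(3, F)) : Matrix (Fin 3) (Fin 3) F).mulVec v) = _
    have hA := A.2 ![u 1, u 2] ![v 1, v 2]
    have hd : (A.1 : Matrix (Fin 2) (Fin 2) F).det ^ (q + 1) = 1 := by
      have hmem : Classical.guDet 2 F q A ∈ (Classical.guDet 2 F q).range := ⟨A, rfl⟩
      rw [Classical.guDet_range hF (by omega)] at hmem
      have := (Classical.Unitary.det_mem_normOne_iff).1 hmem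
      simpa [Classical.guDet] using this
    simp only [hermForm, Fin.sum_univ_two, Units.coeHom_apply, Matrix.mulVec, dotProduct] at hA
    simp only [hermForm, Fin.sum_univ_three, Matrix.mulVec, dotProduct,
      Involutions.PSL3.blockHom_apply]
    simp at hA ⊢
    rw [add_assoc, hA, mul_pow]
    have : (A.1 : Matrix (Fin 2) (Fin 2) F).det⁻¹ *
        ((A.1 : Matrix (Fin 2) (Fin 2) F).det⁻¹) ^ q = 1 := by
      rw [← pow_succ', inv_pow, hd, inv_one]
    linear_combination (u 0 * v 0 ^ q) * this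

theorem isSimple_PSU3 [Fintype F] (q : ℕ) (hq : Fintype.card F = q ^ 2) (hodd : q % 2 = 1)
    (S : Sylow 2 (Cfsg.PSU 3 F q)) :
    (groupFusionSystem (S : Subgroup (Cfsg.PSU 3 F q))).IsSimple 2 := by
  have hF : Nat.card F = q ^ 2 := by rw [Nat.card_eq_fintype_card, hq]
  have hq2 := Classical.two_le_q hF
  obtain ⟨Q⟩ : Nonempty (Sylow 2 (Cfsg.GU 2 F q)) := inferInstance
  obtain ⟨e⟩ := sylow_two_equiv_of_hom
    ((QuotientGroup.mk' (center (Cfsg.SU 3 F q))).comp (guBlock hF))
    (fun A hA => by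
      rw [MonoidHom.mem_ker, MonoidHom.comp_apply, QuotientGroup.mk'_apply,
        QuotientGroup.eq_one_iff] at hA
      obtain ⟨c, -, hc3, hc⟩ := Classical.SU_center_scalar hF (by omega) hA
      replace hc : (Involutions.PSL3.blockHom F A.1 : Matrix (Fin 3) (Fin 3) F)
          = Matrix.diagonal fun _ => c := hc
      rw [Involutions.PSL3.blockHom_apply] at hc
      have e : (A.1 : Matrix (Fin 2) (Fin 2) F) = Matrix.scalar (Fin 2) c := by
        have h11 := congrFun (congrFun hc 1) 1
        have h12 := congrFun (congrFun hc 1) 2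
        have h21 := congrFun (congrFun hc 2) 1
        have h22 := congrFun (congrFun hc 2) 2
        ext i j
        fin_cases i <;> fin_cases j <;> simp_all
      refine Odd.of_dvd_nat (show Odd 3 by decide) (orderOf_dvd_of_pow_eq_one
        (Subtype.ext (Units.ext ?_)))
      rw [coe_pow, Units.val_pow_eq_pow_val, e, ← map_pow, hc3, map_one]
      rfl)
    (a := Nat.gcd 3 (q + 1)) (b := q * q * (q * (q - 1) + 1))
    (Odd.of_dvd_nat (by decide) (Nat.gcd_dvd_left 3 _))
    (by
      have ho : Odd q := Nat.odd_iff.2 hodd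
      refine (ho.mul ho).mul (Even.add_one ?_)
      exact (Nat.even_sub' (by omega)).2 (by simp [ho]) |>.mul_left q)
    (by
      refine Nat.eq_of_mul_eq_mul_left (show 0 < q + 1 by omega) ?_
      rw [mul_left_comm, Classical.card_PSU_mul hF (by omega), Involutions.card_GU_two hF,
        Classical.card_GU hF]
      simp [Finset.prod_range_succ]
      obtain ⟨t, rfl⟩ : ∃ t, q = t + 1 := ⟨q - 1, by omega⟩
      have h2 : (t + 1) ^ 2 - 1 = t * (t + 2) := Nat.sub_eq_of_eq_add (by ring)
      rw [h2, Nat.add_sub_cancel]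
      ring) Q S
  have hsimp : IsSimpleGroup (Cfsg.PSU 3 F q) :=
    Classical.Unitary.isSimpleGroup_PSU hF le_rfl fun _ => by omega
  have h4 : q % 4 = 1 ∨ q % 4 = 3 := by omega
  rcases h4 with h4 | h4
  · have hQ := Rec.TransVec.isQuasiDihedral_congr e
      (Involutions.isQuasiDihedral_sylow_GU hF h4 Q)
    exact isSimple_of_quasiDihedral S hQ
      (index_ne_two_of_simple hsimp (four_dvd_card_of_sylow S (Or.inl hQ)))
  · have hW := Involutions.isWreathed_of_equiv e (Involutions.isWreathed_sylow_GU hF h4 Q)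
    exact isSimple_of_wreathed S hW
      (index_ne_two_of_simple hsimp (four_dvd_card_of_sylow S (Or.inr hW)))

end CfsgLib.Fusion
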