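import Cfsg.Agent.Lib.Fusion.Realize
import Cfsg.Agent.Lib.Classical.SL2Sylow
import Cfsg.Agent.Lib.Classical.SLGen
import Cfsg.Agent.Lib.Fusion.SimpleTwoRankLie
import Cfsg.Agent.Lib.Involutions.SylowGLTwo
import Cfsg.Agent.Lib.Involutions.QuasiDihedralMax
import Cfsg.Agent.Lib.PGroups.Basic

/-!
# Dihedral, quaternion and quasi-dihedral 2-groups of every order as Sylow subgroups
-/

set_option autoImplicit false
set_option linter.style.haveILetI false

namespace CfsgLib.Fusion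

open Cfsg Cfsg.FusionSystem Subgroup Involutions
open scoped MatrixGroups

/-- Quasi-dihedral groups of the same order are isomorphic. -/
theorem qd_equiv {S T : Type*} [Group S] [Finite S] [Group T] [Finite T] (d : QD S) (d' : QD T)
    (h : d.n = d'.n) : Nonempty (S ≃* T) := by
  have hy : ∀ {U : Type _} [Group U] (u : QD U) (j : ℤ),
      u.y * u.x ^ j = u.x ^ ((u.half - 1) * j) * u.y := fun u j => by
    rw [zpow_mul, ← u.conj_y_x, conj_zpow, inv_mul_cancel_right]
  have hy' : ∀ j : ℤ, d'.y * d'.x ^ j = d'.x ^ ((d.half - 1) * j) * d'.y := fun j => by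
    rw [show d.half = d'.half by rw [QD.half, QD.half, h]]
    rw [zpow_mul, ← d'.conj_y_x, conj_zpow, inv_mul_cancel_right]
  let R : Submonoid (S × T) :=
    { carrier := {w | ∃ i : ℤ, w = (d.x ^ i, d'.x ^ i) ∨ w = (d.x ^ i * d.y, d'.x ^ i * d'.y)}
      one_mem' := ⟨0, Or.inl (by simp; rfl)⟩
      mul_mem' := by
        rintro _ _ ⟨i, rfl | rfl⟩ ⟨j, rfl | rfl⟩
        · exact ⟨i + j, Or.inl (by simp [zpow_add])⟩
        · exact ⟨i + j, Or.inr (by simp [zpow_add, mul_assoc])⟩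
        · exact ⟨i + (d.half - 1) * j, Or.inr (by
            simp only [Prod.mk_mul_mk, zpow_add, mul_assoc]
            rw [hy, hy'])⟩
        · exact ⟨i + (d.half - 1) * j, Or.inl (Prod.ext (by
            show d.x ^ i * d.y * (d.x ^ j * d.y) = _
            rw [mul_assoc, ← mul_assoc d.y, hy, mul_assoc _ d.y, invol_mul_self d.orderOf_y,
              mul_one, ← zpow_add]) (by
            show d'.x ^ i * d'.y * (d'.x ^ j * d'.y) = _
            rw [mul_assoc, ← mul_assoc d'.y, hy', mul_assoc _ d'.y, invol_mul_self d'.orderOf_y,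
              mul_one, ← zpow_add]))⟩ }
  have h1 : Function.Bijective ((MonoidHom.fst S T).comp R.subtype) := by
    refine ⟨fun a b hab => ?_, fun s => ?_⟩
    · obtain ⟨a, i, rfl | rfl⟩ := a <;> obtain ⟨b, j, rfl | rfl⟩ := b <;>
        refine Subtype.ext (Prod.ext hab ?_)
      · exact d'.zpow_x_inj.2 (by
          rw [show d'.half = d.half by rw [QD.half, QD.half, h]]; exact d.zpow_x_inj.1 hab)
      · exact absurd hab (d.zpow_ne_refl i j)
      · exact absurd hab.symm (d.zpow_ne_refl j i)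
      · exact d'.refl_inj.2 (by
          rw [show d'.half = d.half by rw [QD.half, QD.half, h]]; exact d.refl_inj.1 hab)
    · rcases d.cover s with ⟨i, rfl⟩ | ⟨i, rfl⟩
      · exact ⟨⟨_, i, Or.inl rfl⟩, rfl⟩
      · exact ⟨⟨_, i, Or.inr rfl⟩, rfl⟩
  have h2 : Function.Bijective ((MonoidHom.snd S T).comp R.subtype) := by
    refine ⟨fun a b hab => h1.1 ?_, fun s => ?_⟩
    · obtain ⟨a, i, rfl | rfl⟩ := a <;> obtain ⟨b, j, rfl | rfl⟩ := b
      · exact d.zpow_x_inj.2 (by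
          rw [show d.half = d'.half by rw [QD.half, QD.half, h]]; exact d'.zpow_x_inj.1 hab)
      · exact absurd hab (d'.zpow_ne_refl i j)
      · exact absurd hab.symm (d'.zpow_ne_refl j i)
      · exact d.refl_inj.2 (by
          rw [show d.half = d'.half by rw [QD.half, QD.half, h]]; exact d'.refl_inj.1 hab)
    · rcases d'.cover s with ⟨i, rfl⟩ | ⟨i, rfl⟩
      · exact ⟨⟨_, i, Or.inl rfl⟩, rfl⟩
      · exact ⟨⟨_, i, Or.inr rfl⟩, rfl⟩
  exact ⟨(MulEquiv.ofBijective _ h1).symm.trans (MulEquiv.ofBijective _ h2)⟩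

/-- A prime field with prescribed 2-part of `q + 1`. -/
theorem exists_prime_two_part {k : ℕ} (hk : 2 ≤ k) :
    ∃ q : ℕ, q.Prime ∧ 5 ≤ q ∧ q % 4 = 3 ∧
      ∃ a b : ℕ, Odd a ∧ Odd b ∧ q + 1 = 2 ^ k * a ∧ q - 1 = 2 * b := by
  have h4 : 4 ≤ 2 ^ k := by simpa using Nat.pow_le_pow_right two_pos hk
  have hev : 2 ∣ 2 ^ k := dvd_pow_self 2 (by omega)
  obtain ⟨q, hq5, hq, hmod⟩ := Nat.forall_exists_prime_gt_and_modEq 4 (q := 2 ^ (k + 1))
    (a := 2 ^ k - 1) (by positivity)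
    ((Nat.prime_two.coprime_iff_not_dvd.2 (by omega)).symm.pow_right _)
  have hm : q % 2 ^ (k + 1) = 2 ^ k - 1 := by
    rw [hmod, Nat.mod_eq_of_lt (by rw [pow_succ]; omega)]
  have hd := Nat.div_add_mod q (2 ^ (k + 1))
  rw [hm] at hd
  obtain ⟨j, hj⟩ : ∃ j, k = j + 2 := ⟨k - 2, by omega⟩
  have e1 : 2 ^ (k + 1) * (q / 2 ^ (k + 1)) = 8 * (2 ^ j * (q / 2 ^ (k + 1))) := by
    rw [hj, pow_succ, pow_add]; ring
  have e2 : 2 ^ k = 4 * 2 ^ j := by rw [hj, pow_add]; ring
  refine ⟨q, hq, hq5, by omega, 2 * (q / 2 ^ (k + 1)) + 1, (q - 1) / 2, odd_two_mul_add_one _,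
    ?_, ?_, by omega⟩
  · rw [Nat.odd_iff]; omega
  · have : 2 ^ k * (2 * (q / 2 ^ (k + 1)) + 1) = 2 ^ (k + 1) * (q / 2 ^ (k + 1)) + 2 ^ k := by
      rw [pow_succ]; ring
    omega

theorem not_le_commutator_self {G : Type*} [Group G] [Finite G] {p : ℕ} [Fact p.Prime]
    (hG : IsPGroup p G) (h : Nontrivial G) : commutator G ≠ ⊤ := fun he => by
  have := PGroups.commutator_top_lt hG (N := (⊤ : Subgroup G)) top_ne_bot
  exact this.ne (by rw [← commutator_def, he])

variable {Ω : Type*} [Group Ω] {S : Subgroup Ω} [Finite S]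

theorem sylow_ne_commutator_of_perfect {G : Type*} [Group G] [Finite G] (T : Sylow 2 G)
    (hG : commutator G = ⊤) (hT : 1 < Nat.card T) :
    commutator G ⊓ (T : Subgroup G) ≠ ⁅(T : Subgroup G), (T : Subgroup G)⁆ := by
  haveI : Fact (Nat.Prime 2) := ⟨Nat.prime_two⟩
  rw [hG, top_inf_eq]
  intro he
  refine not_le_commutator_self T.2 (Finite.one_lt_card_iff_nontrivial.1 hT)
    (Subgroup.map_injective (T : Subgroup G).subtype_injective ?_)
  rw [Subgroup.map_subtype_commutator, ← MonoidHom.range_eq_map, Subgroup.range_subtype, ← he]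

theorem card_sylow_eq {G : Type*} [Group G] [Finite G] (T : Sylow 2 G) {k c : ℕ} (hc : Odd c)
    (h : Nat.card G = 2 ^ k * c) : Nat.card T = 2 ^ k := by
  haveI : Fact (Nat.Prime 2) := ⟨Nat.prime_two⟩
  rw [T.card_eq_multiplicity, h, Nat.factorization_mul (by simp) hc.pos.ne',
    Finsupp.add_apply, Nat.prime_two.factorization_pow, Finsupp.single_eq_same,
    Nat.factorization_eq_zero_of_not_dvd hc.not_two_dvd_nat, add_zero]

theorem not_normal_of_dihedral (hS : IsPGroup 2 S) {n : ℕ} (hn : 4 ≤ n)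
    (e : S ≃* DihedralGroup n) : ∃ F : FusionSystem S, F.IsSaturated 2 ∧ ¬ F.IsNormal S := by
  haveI : Fact (Nat.Prime 2) := ⟨Nat.prime_two⟩
  haveI : NeZero n := ⟨by omega⟩
  obtain ⟨k, hk⟩ := IsPGroup.iff_card.mp hS
  have hnk : 2 * n = 2 ^ k := by rw [← hk, Nat.card_congr e.toEquiv, DihedralGroup.nat_card]
  have hk3 : 3 ≤ k := by
    by_contra h
    have := Nat.pow_le_pow_right two_pos (show k ≤ 2 by omega)
    omega
  obtain ⟨q, hq, hq5, -, a, b, ha, hb, e1, e2⟩ := exists_prime_two_part (show 2 ≤ k by omega)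
  haveI : Fact q.Prime := ⟨hq⟩
  have hodd : Odd (Nat.card (ZMod q)) := by
    rw [Nat.card_zmod]; exact hq.odd_of_ne_two (by omega)
  have hsq : q ^ 2 - 1 = (q + 1) * (q - 1) := by rw [← Nat.sq_sub_sq, one_pow]
  obtain ⟨T⟩ : Nonempty (Sylow 2 (Matrix.ProjectiveSpecialLinearGroup (Fin 2) (ZMod q))) :=
    inferInstance
  obtain ⟨m, hm, ⟨f⟩⟩ := sylow_PSL2_dihedral hodd (by
    rw [Nat.card_zmod, hsq, e1, e2]
    refine dvd_trans ?_ (Dvd.intro (a * b) (show 2 ^ (k + 1) * (a * b) = _ by rw [pow_succ]; ring))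
    exact (pow_dvd_pow 2 (show 4 ≤ k + 1 by omega))) T
  have hT : Nat.card T = 2 ^ k := by
    have h := Classical.card_PSL_two_mul (F := ZMod q)
    rw [Classical.gcd_two_card_sub_one_of_odd hodd, Nat.card_zmod, hsq, e1, e2] at h
    refine card_sylow_eq T (c := q * a * b) (((hq.odd_of_ne_two (by omega)).mul ha).mul hb) ?_
    refine Nat.eq_of_mul_eq_mul_left two_pos (h.trans ?_)
    ring
  have hmn : m = n := by
    haveI : NeZero m := ⟨by omega⟩
    have := (Nat.card_congr f.toEquiv).symm.trans hT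
    rw [DihedralGroup.nat_card] at this
    omega
  subst hmn
  refine not_isNormal_of_sylow hS T (e.trans f.symm)
    (isPGroup_mulAut_dihedral_or_qd hS (Or.inl ⟨m, hn, ⟨e⟩⟩)) ?_
  refine sylow_ne_commutator_of_perfect T (Classical.PSL_commutator_eq_top_of_SL
    (Classical.SL_fin_commutator_eq_top 2 le_rfl fun _ => by rw [Nat.card_zmod]; omega)) ?_
  rw [hT]
  exact Nat.one_lt_pow (by omega) one_lt_two

theorem exists_sylow_quaternion (hS : IsPGroup 2 S) {n : ℕ} (hn : 2 ≤ n)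
    (e : S ≃* QuaternionGroup n) :
    ∃ (G : Type) (_ : Group G) (_ : Finite G) (T : Sylow 2 G), commutator G = ⊤ ∧
      1 < Nat.card T ∧ Nonempty (S ≃* (T : Subgroup G)) := by
  haveI : Fact (Nat.Prime 2) := ⟨Nat.prime_two⟩
  haveI : NeZero n := ⟨by omega⟩
  obtain ⟨j, hj⟩ := IsPGroup.iff_card.mp hS
  have hnj : 4 * n = 2 ^ j := by
    rw [← hj, Nat.card_congr e.toEquiv, Nat.card_eq_fintype_card, QuaternionGroup.card]
  have hj3 : 3 ≤ j := by
    by_contra h
    have := Nat.pow_le_pow_right two_pos (show j ≤ 2 by omega)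
    omega
  obtain ⟨k, rfl⟩ : ∃ k, j = k + 1 := ⟨j - 1, by omega⟩
  obtain ⟨q, hq, hq5, -, a, b, ha, hb, e1, e2⟩ := exists_prime_two_part (show 2 ≤ k by omega)
  haveI : Fact q.Prime := ⟨hq⟩
  have hodd : Odd (Nat.card (ZMod q)) := by
    rw [Nat.card_zmod]; exact hq.odd_of_ne_two (by omega)
  obtain ⟨T⟩ : Nonempty (Sylow 2 SL(2, ZMod q)) := inferInstance
  obtain ⟨i, -, ⟨f⟩⟩ := Classical.sylow_two_SL2 (Classical.two_ne_zero_of_odd_card hodd) T
  have hT : Nat.card T = 2 ^ (k + 1) := by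
    refine card_sylow_eq T (c := q * a * b) (((hq.odd_of_ne_two (by omega)).mul ha).mul hb) ?_
    rw [Classical.card_SL_two, Nat.card_zmod, ← one_pow 2, Nat.sq_sub_sq, e1, e2, pow_succ]
    ring
  have hin : 2 ^ i = n := by
    have := (Nat.card_congr f.toEquiv).symm.trans hT
    rw [Nat.card_eq_fintype_card, QuaternionGroup.card] at this
    omega
  subst hin
  exact ⟨SL(2, ZMod q), inferInstance, inferInstance, T,
    Classical.SL_fin_commutator_eq_top 2 le_rfl (fun _ => by rw [Nat.card_zmod]; omega),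
    hT ▸ Nat.one_lt_pow (by omega) one_lt_two, ⟨e.trans f.symm⟩⟩

theorem not_normal_of_quasiDihedral (hS : IsPGroup 2 S) (h : IsQuasiDihedral S) :
    ∃ F : FusionSystem S, F.IsSaturated 2 ∧ ¬ F.IsNormal S := by
  haveI : Fact (Nat.Prime 2) := ⟨Nat.prime_two⟩
  obtain ⟨d⟩ := nonempty_qd h
  obtain ⟨k, hk⟩ : ∃ k, d.n = k + 1 := ⟨d.n - 1, by have := d.three_le; omega⟩
  have hk2 : 2 ≤ k := by have := d.three_le; omega
  obtain ⟨q, hq, hq5, hq4, a, b, ha, hb, e1, e2⟩ := exists_prime_two_part hk2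
  haveI : Fact q.Prime := ⟨hq⟩
  have hqo : Odd q := hq.odd_of_ne_two (by omega)
  obtain ⟨T⟩ : Nonempty (Sylow 2 (GL (Fin 2) (ZMod q))) := inferInstance
  have hQ := isQuasiDihedral_sylow_GL (F := ZMod q) (by rw [Nat.card_zmod]; omega) T
  obtain ⟨d'⟩ := nonempty_qd hQ
  have hsq : q ^ 2 - 1 = (q + 1) * (q - 1) := by rw [← Nat.sq_sub_sq, one_pow]
  have hT : Nat.card T = 2 ^ (k + 2) := by
    refine card_sylow_eq T (c := b * (q * a * b)) (hb.mul ((hqo.mul ha).mul hb)) ?_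
    rw [Classical.card_GL_two, Nat.card_zmod, hsq, e1, e2]
    ring
  have hn : d.n = d'.n := by rw [hk]; exact (d'.n_eq hT).symm
  obtain ⟨e⟩ := qd_equiv d d' hn
  refine not_isNormal_of_sylow hS T e (isPGroup_mulAut_dihedral_or_qd hS (Or.inr h)) fun he => ?_
  set R := (Matrix.SpecialLinearGroup.toGL : SL(2, ZMod q) →* GL (Fin 2) (ZMod q)).range
  have hR : R ≤ commutator (GL (Fin 2) (ZMod q)) := by
    rintro _ ⟨x, rfl⟩
    have hx : x ∈ commutator SL(2, ZMod q) := by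
      rw [Classical.SL_fin_commutator_eq_top 2 le_rfl fun _ => by rw [Nat.card_zmod]; omega]
      trivial
    have h1 := Subgroup.mem_map_of_mem
      (Matrix.SpecialLinearGroup.toGL : SL(2, ZMod q) →* GL (Fin 2) (ZMod q)) hx
    rw [commutator_def, Subgroup.map_commutator] at h1
    exact Subgroup.commutator_mono le_top le_top h1
  obtain ⟨U⟩ : Nonempty (Sylow 2 SL(2, ZMod q)) := inferInstance
  have hU : Nat.card U = 2 ^ (k + 1) := by
    refine card_sylow_eq U (c := q * a * b) ((hqo.mul ha).mul hb) ?_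
    rw [Classical.card_SL_two, Nat.card_zmod, hsq, e1, e2, pow_succ]
    ring
  set W := (U : Subgroup SL(2, ZMod q)).map
    (Matrix.SpecialLinearGroup.toGL : SL(2, ZMod q) →* GL (Fin 2) (ZMod q))
  obtain ⟨T', hWT⟩ := (U.2.map
    (Matrix.SpecialLinearGroup.toGL : SL(2, ZMod q) →* GL (Fin 2) (ZMod q))).exists_le_sylow
  obtain ⟨g, rfl⟩ := MulAction.exists_smul_eq (GL (Fin 2) (ZMod q)) T T'
  -- conjugating back, the derived group of `T` would be too large
  have hle : W.map (MulAut.conj g⁻¹).toMonoidHom ≤ commutator _ ⊓ (T : Subgroup _) := by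
    rintro _ ⟨w, hw, rfl⟩
    refine Subgroup.mem_inf.2 ⟨(Subgroup.commutator_normal ⊤ ⊤).conj_mem _
      (hR (Subgroup.map_le_range _ _ hw)) _, ?_⟩
    have h1 := hWT hw
    rw [Sylow.coe_subgroup_smul, Subgroup.mem_pointwise_smul_iff_inv_smul_mem] at h1
    simpa using h1
  have hc : Nat.card ↥(⁅(T : Subgroup (GL (Fin 2) (ZMod q))),
      (T : Subgroup (GL (Fin 2) (ZMod q)))⁆) =
      2 ^ (d'.n - 1) := by
    rw [← Subgroup.map_subtype_commutator, Subgroup.card_map_of_injective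
      (Subgroup.subtype_injective _), d'.commutator_eq, Nat.card_zpowers, d'.orderOf_x_sq]
  have h2 := Subgroup.card_le_of_le hle
  rw [he, hc, Subgroup.card_map_of_injective (MulEquiv.injective _),
    Subgroup.card_map_of_injective Matrix.SpecialLinearGroup.toGL_injective, hU, ← hn, hk,
    Nat.add_sub_cancel] at h2
  exact absurd h2 (not_le.2 (Nat.pow_lt_pow_right one_lt_two (by omega)))

end CfsgLib.Fusion
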