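import Mathlib
import Cfsg.Agent.Lib.Fusion.MaxClassRealize
import Cfsg.Agent.Lib.Fusion.RealizeTwo
import Cfsg.Agent.Lib.KnownB.PSLAut.Out
import Cfsg.Agent.Lib.Classical.ExcepFrame

/-!
# Groups with dihedral, quaternion or quasidihedral Sylow 2-subgroups and prescribed fusion
-/

set_option autoImplicit false

namespace CfsgLib.Fusion

open Cfsg Cfsg.FusionSystem Subgroup KnownB.PSLAut
open scoped MatrixGroups

variable {G : Type*} [Group G]

/-- A subgroup of index two over `R`, generated by an element squaring into `R`. -/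
theorem exists_index_two_ext (R : Subgroup G) {t : G} (hn : t ∈ normalizer (R : Set G))
    (h2 : t * t ∈ R) (ht : t ∉ R) :
    ∃ H : Subgroup G, R ≤ H ∧ t ∈ H ∧ (R.subgroupOf H).index = 2 := by
  have hc : ∀ r, r ∈ R ↔ t * r * t⁻¹ ∈ R := mem_normalizer_iff.1 hn
  let H : Subgroup G :=
    { carrier := {g | g ∈ R ∨ g * t ∈ R}
      one_mem' := Or.inl R.one_mem
      mul_mem' := by
        rintro a b (ha | ha) (hb | hb)
        · exact Or.inl (R.mul_mem ha hb)
        · exact Or.inr (by rw [mul_assoc]; exact R.mul_mem ha hb)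
        · refine Or.inr ?_
          have : t⁻¹ * b * t ∈ R := (hc _).2 (by simpa [mul_assoc] using hb)
          have := R.mul_mem ha this
          simpa [mul_assoc] using this
        · refine Or.inl ?_
          have h1 : t⁻¹ * (b * t) * t ∈ R := (hc _).2 (by simpa [mul_assoc] using hb)
          have := R.mul_mem (R.mul_mem ha h1) (R.inv_mem h2)
          simpa [mul_assoc] using this
      inv_mem' := by
        rintro a (ha | ha)
        · exact Or.inl (R.inv_mem ha)
        · refine Or.inr ?_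
          have h1 : t * (a * t)⁻¹ * t⁻¹ ∈ R := (hc _).1 (R.inv_mem ha)
          have := R.mul_mem h1 h2
          simpa [mul_assoc] using this }
  refine ⟨H, fun r hr => Or.inl hr, Or.inr h2, index_eq_two_iff.2 ⟨⟨t, Or.inr h2⟩, fun b => ?_⟩⟩
  by_cases hb : (b : G) ∈ R
  · exact Or.inr ⟨hb, fun h' => ht ((R.mul_mem_cancel_left hb).1 h')⟩
  · exact Or.inl ⟨b.2.resolve_left hb, hb⟩

/-- Over a perfect subgroup of index two, the derived group is that subgroup. -/
theorem commutator_eq_of_index_two {H : Type*} [Group H] {R : Subgroup H} (h2 : R.index = 2)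
    (hp : R ≤ ⁅R, R⁆) : commutator H = R := by
  refine le_antisymm ?_ (hp.trans (commutator_mono le_top le_top))
  rw [commutator_def, commutator_le]
  intro a _ b _
  rw [commutatorElement_def]
  simp only [mul_mem_iff_of_index_two h2, inv_mem_iff]
  tauto

theorem card_sylow_of_eq {G : Type*} [Group G] [Finite G] (T : Sylow 2 G) {N k c : ℕ}
    (h : Nat.card G = N) (hN : N = 2 ^ k * c) (hc : Odd c) : Nat.card T = 2 ^ k :=
  card_sylow_eq T hc (h.trans hN)

theorem card_PSL2_eq {F : Type*} [Field F] [Finite F] (h2 : Odd (Nat.card F)) :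
    2 * Nat.card (Matrix.ProjectiveSpecialLinearGroup (Fin 2) F) =
      Nat.card F * (Nat.card F ^ 2 - 1) := by
  rw [← Classical.card_PSL_two_mul, Classical.gcd_two_card_sub_one_of_odd h2]

/-- A perfect group with dihedral Sylow 2-subgroups of order `2 ^ (k + 1)`. -/
theorem exists_dihedral_perfect {k : ℕ} (hk : 2 ≤ k) :
    ∃ (G : Type) (_ : Group G) (_ : Finite G) (T : Sylow 2 G) (m : ℕ), commutator G = ⊤ ∧ 4 ≤ m ∧
      Nat.card T = 2 ^ (k + 1) ∧ Nonempty ((T : Subgroup G) ≃* DihedralGroup m) := by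
  haveI : Fact (Nat.Prime 2) := ⟨Nat.prime_two⟩
  obtain ⟨q, hq, hq5, -, a, b, ha, hb, e1, e2⟩ := exists_prime_two_part (show 2 ≤ k + 1 by omega)
  haveI : Fact q.Prime := ⟨hq⟩
  have hodd : Odd (Nat.card (ZMod q)) := by
    rw [Nat.card_zmod]; exact hq.odd_of_ne_two (by omega)
  have hsq : q ^ 2 - 1 = (q + 1) * (q - 1) := by rw [← Nat.sq_sub_sq, one_pow]
  obtain ⟨T⟩ : Nonempty (Sylow 2 (Matrix.ProjectiveSpecialLinearGroup (Fin 2) (ZMod q))) :=
    inferInstance
  obtain ⟨m, hm, hf⟩ := sylow_PSL2_dihedral hodd (by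
    rw [Nat.card_zmod, hsq, e1, e2]
    refine dvd_trans ?_ (Dvd.intro (a * b) (show 2 ^ (k + 2) * (a * b) = _ by rw [pow_succ 2 (k + 1)]; ring))
    exact (pow_dvd_pow 2 (show 4 ≤ k + 2 by omega))) T
  refine ⟨_, inferInstance, inferInstance, T, m, Classical.PSL_commutator_eq_top_of_SL
    (Classical.SL_fin_commutator_eq_top 2 le_rfl fun _ => by rw [Nat.card_zmod]; omega), hm, ?_, hf⟩
  refine card_sylow_of_eq T rfl (c := q * a * b) ?_ (((hq.odd_of_ne_two (by omega)).mul ha).mul hb)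
  refine Nat.eq_of_mul_eq_mul_left two_pos ((card_PSL2_eq hodd).trans ?_)
  rw [Nat.card_zmod, hsq, e1, e2]
  ring

/-- A perfect group with quasidihedral Sylow 2-subgroups of order `2 ^ (k + 2)`. -/
theorem exists_quasiDihedral_perfect {k : ℕ} (hk : 2 ≤ k) :
    ∃ (G : Type) (_ : Group G) (_ : Finite G) (T : Sylow 2 G), commutator G = ⊤ ∧
      Nat.card T = 2 ^ (k + 2) ∧ IsQuasiDihedral (T : Subgroup G) := by
  haveI : Fact (Nat.Prime 2) := ⟨Nat.prime_two⟩
  obtain ⟨q, hq, hq5, hq4, a, b, ha, hb, e1, e2⟩ := exists_prime_two_part hk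
  haveI : Fact q.Prime := ⟨hq⟩
  have hqo : Odd q := hq.odd_of_ne_two (by omega)
  have hF : Odd (Nat.card (ZMod q)) := by rwa [Nat.card_zmod]
  obtain ⟨Q⟩ : Nonempty (Sylow 2 (GL (Fin 2) (ZMod q))) := inferInstance
  obtain ⟨T⟩ : Nonempty (Sylow 2 (Matrix.ProjectiveSpecialLinearGroup (Fin 3) (ZMod q))) :=
    inferInstance
  have hQ := Involutions.isQuasiDihedral_sylow_GL (F := ZMod q) (by rw [Nat.card_zmod]; omega) Q
  obtain ⟨e⟩ := sylow_two_equiv_of_hom (Involutions.PSL3.projHom (ZMod q))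
    (fun A hA => by
      obtain ⟨a, ha, h⟩ := (Involutions.PSL3.ker_projHom A).1 hA
      refine Odd.of_dvd_nat (show Odd 3 by decide) (orderOf_dvd_of_pow_eq_one (Units.ext ?_))
      rw [Units.val_pow_eq_pow_val, h, ← map_pow, ha, map_one, Units.val_one])
    (a := Nat.gcd 3 (Nat.card (ZMod q) - 1))
    (b := Nat.card (ZMod q) * Nat.card (ZMod q) *
      (Nat.card (ZMod q) * Nat.card (ZMod q) + Nat.card (ZMod q) + 1))
    (Odd.of_dvd_nat (by decide) (Nat.gcd_dvd_left 3 _))
    ((hF.mul hF).mul (((hF.mul hF).add_odd hF).add_one))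
    (by
      rw [Classical.card_GL_two, Classical.card_PSL_mul 3 (by omega), Classical.card_SL_fin']
      have h3 : Nat.card (ZMod q) ^ 3 - 1 = (Nat.card (ZMod q) - 1) *
          (Nat.card (ZMod q) * Nat.card (ZMod q) + Nat.card (ZMod q) + 1) := by
        obtain ⟨t, ht⟩ : ∃ t, Nat.card (ZMod q) = t + 1 :=
          ⟨_, (Nat.sub_add_cancel (Nat.card_pos (α := ZMod q))).symm⟩
        rw [ht, Nat.add_sub_cancel]
        exact Nat.sub_eq_of_eq_add (by ring)
      simp only [Finset.prod_range_succ, Finset.prod_range_zero, zero_add, one_mul,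
        Nat.reduceAdd, Nat.reduceSub, Nat.reduceMul, Nat.reduceDiv, h3]
      ring) Q T
  refine ⟨_, inferInstance, inferInstance, T, Classical.PSL_commutator_eq_top_of_SL
    (Classical.SL_fin_commutator_eq_top 3 (by omega) fun h => by omega), ?_,
    Rec.TransVec.isQuasiDihedral_congr e hQ⟩
  rw [← Nat.card_congr e.toEquiv]
  refine card_sylow_of_eq Q rfl (c := b * (q * a * b)) ?_ (hb.mul ((hqo.mul ha).mul hb))
  rw [Classical.card_GL_two, Nat.card_zmod, show q ^ 2 - 1 = (q + 1) * (q - 1) by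
    rw [← Nat.sq_sub_sq, one_pow], e1, e2]
  ring

theorem le_commutator_of_perfect {H G : Type*} [Group H] [Group G] (f : H →* G)
    (h : commutator H = ⊤) : f.range ≤ ⁅f.range, f.range⁆ := by
  rw [MonoidHom.range_eq_map, ← Subgroup.map_commutator, ← commutator_def, h]

theorem index_mod_two_of_sylow_le {H : Type*} [Group H] [Finite H] (T : Sylow 2 H)
    {R : Subgroup H} (h : (T : Subgroup H) ≤ R) : R.index % 2 = 1 := by
  haveI : Fact (Nat.Prime 2) := ⟨Nat.prime_two⟩
  have h1 := T.not_dvd_index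
  have h2 := Subgroup.index_dvd_of_le h
  have : ¬ 2 ∣ R.index := fun h3 => h1 (h3.trans h2)
  omega

/-- A group with quaternion Sylow 2-subgroups of order `2 ^ (k + 2)` whose derived group meets
them in a noncyclic proper subgroup. -/
theorem exists_quaternion_one {k : ℕ} (hk : 2 ≤ k) :
    ∃ (G : Type) (_ : Group G) (_ : Finite G) (T : Sylow 2 G) (m : ℕ), 4 ≤ m ∧
      Nat.card T = 2 ^ (k + 2) ∧ Nonempty ((T : Subgroup G) ≃* QuaternionGroup m) ∧
      ¬ (T : Subgroup G) ≤ commutator G ∧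
      ¬ IsCyclic ((T : Subgroup G) ⊓ commutator G : Subgroup G) ∧
      ∃ z₀ ∈ center G, orderOf z₀ = 2 ∧ z₀ ∈ commutator G := by
  haveI : Fact (Nat.Prime 2) := ⟨Nat.prime_two⟩
  obtain ⟨q, hq, hq5, hq4, a, b, ha, hb, e1, e2⟩ := exists_prime_two_part hk
  haveI : Fact q.Prime := ⟨hq⟩
  obtain ⟨K, iK, iA, iFin, hcK⟩ : ∃ (K : Type) (_ : Field K) (_ : Algebra (ZMod q) K)
      (_ : Finite K), Nat.card K = q ^ 2 :=
    ⟨GaloisField q 2, inferInstance, inferInstance, inferInstance,
      GaloisField.card q 2 two_ne_zero⟩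
  have hqo : Odd q := hq.odd_of_ne_two (by omega)
  have h2K : (2 : K) ≠ 0 :=
    Classical.two_ne_zero_of_odd_card (by rw [hcK]; exact hqo.pow)
  set ι := algebraMap (ZMod q) K
  -- a square root in `K` of a nonsquare of `ZMod q`
  obtain ⟨ν, hν⟩ := FiniteField.exists_nonsquare (F := ZMod q)
    (by rw [ZMod.ringChar_zmod_n]; omega)
  have hν0 : ν ≠ 0 := fun e => hν (e ▸ IsSquare.zero)
  obtain ⟨l, hl⟩ : IsSquare (ι ν) := by
    haveI := Fintype.ofFinite K
    rw [FiniteField.isSquare_iff (by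
      intro hr
      exact h2K (by
        haveI : CharP K 2 := ringChar.of_eq hr
        exact CharTwo.two_eq_zero)) (fun e => hν0 (by
          exact (map_eq_zero ι).1 e))]
    rw [← Nat.card_eq_fintype_card, hcK,
      show q ^ 2 / 2 = (q - 1) * ((q + 1) / 2) by
        obtain ⟨t, rfl⟩ := hqo
        rw [show (2 * t + 1) ^ 2 = 2 * (2 * t * (t + 1)) + 1 by ring,
          show (2 * t + 1 + 1) / 2 = t + 1 by omega, show 2 * t + 1 - 1 = 2 * t by omega]
        omega,
      pow_mul, ← map_pow, ZMod.pow_card_sub_one_eq_one hν0, map_one, one_pow]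
  have hl0 : l ≠ 0 := fun e => hν0 ((map_eq_zero ι).1 (by rw [hl, e, mul_zero]))
  set L : SL(2, ZMod q) →* SL(2, K) := Matrix.SpecialLinearGroup.map ι
  set t : SL(2, K) := Classical.torusHom K (Units.mk0 l hl0) with ht
  have hL : Function.Injective L := fun s s' e => Subtype.ext (Matrix.ext fun i j =>
    ι.injective (congrArg (fun w : SL(2, K) => (w : Matrix (Fin 2) (Fin 2) K) i j) e))
  have htR : t ∉ L.range := by
    rintro ⟨s, hs⟩
    refine hν ⟨(s : Matrix (Fin 2) (Fin 2) (ZMod q)) 0 0, ι.injective ?_⟩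
    have h00 : ι ((s : Matrix (Fin 2) (Fin 2) (ZMod q)) 0 0) = l := by
      have := congrArg (fun w : SL(2, K) => (w : Matrix (Fin 2) (Fin 2) K) 0 0) hs
      simpa [L, ht, Classical.torusHom_coe] using this
    rw [map_mul, h00, hl]
  have h2R : t * t ∈ L.range := by
    refine ⟨Classical.torusHom (ZMod q) (Units.mk0 ν hν0), ?_⟩
    ext i j
    have hli : (l * l)⁻¹ = l⁻¹ * l⁻¹ := mul_inv _ _
    fin_cases i <;> fin_cases j <;>
      simp [L, ht, Classical.torusHom_coe, Matrix.mul_apply, Fin.sum_univ_two, hl, map_inv₀, hli,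
        Units.val_inv_eq_inv_val] <;> rfl
  have hmap : ∀ s : SL(2, ZMod q), t * L s * t⁻¹ ∈ L.range := by
    intro s
    have hd := Matrix.det_fin_two (s : Matrix (Fin 2) (Fin 2) (ZMod q))
    rw [s.2] at hd
    refine ⟨⟨!![(s : Matrix (Fin 2) (Fin 2) (ZMod q)) 0 0, ν * (s : Matrix (Fin 2) (Fin 2) (ZMod q)) 0 1;
      ν⁻¹ * (s : Matrix (Fin 2) (Fin 2) (ZMod q)) 1 0, (s : Matrix (Fin 2) (Fin 2) (ZMod q)) 1 1], ?_⟩, ?_⟩
    · rw [Matrix.det_fin_two_of]
      field_simp
      linear_combination -hd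
    rw [eq_mul_inv_iff_mul_eq]
    refine Subtype.ext ?_
    show Matrix.map _ ι * t.1 = t.1 * Matrix.map _ ι
    rw [ht, Classical.torusHom_coe]
    ext i j
    fin_cases i <;> fin_cases j <;>
      simp [Matrix.mul_apply, Fin.sum_univ_two, Units.val_inv_eq_inv_val, hl] <;>
      first
        | ring1
        | linear_combination (l * ι ((s : Matrix (Fin 2) (Fin 2) (ZMod q)) 0 1)) *
            mul_inv_cancel₀ hl0
        | linear_combination (l⁻¹ * ι ((s : Matrix (Fin 2) (Fin 2) (ZMod q)) 1 0)) *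
            mul_inv_cancel₀ hl0
  have hn : t ∈ normalizer (L.range : Set SL(2, K)) := by
    rw [mem_normalizer_iff_map_conj_eq]
    refine Subgroup.eq_of_le_of_card_ge ?_
      (card_map_of_injective (MulAut.conj t).injective).ge
    rintro _ ⟨_, ⟨s, rfl⟩, rfl⟩
    exact hmap s
  obtain ⟨H, hRH, htH, hidx⟩ := exists_index_two_ext L.range hn h2R htR
  have hLm : ∀ u, L u ∈ H := fun u => hRH ⟨u, rfl⟩
  set L' : SL(2, ZMod q) →* H := L.codRestrict H hLm with hL'
  have hcomm : commutator H = L.range.subgroupOf H := by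
    have e : L.range.subgroupOf H = L'.range := by
      ext w
      exact ⟨fun ⟨s, hs⟩ => ⟨s, Subtype.ext hs⟩, fun ⟨s, hs⟩ => ⟨s, congrArg Subtype.val hs⟩⟩
    refine commutator_eq_of_index_two hidx ?_
    rw [e]
    exact le_commutator_of_perfect _
      (Classical.SL_fin_commutator_eq_top 2 le_rfl fun _ => by rw [Nat.card_zmod]; omega)
  obtain ⟨U⟩ : Nonempty (Sylow 2 SL(2, ZMod q)) := inferInstance
  have hL'i : Function.Injective L' := fun s s' e => hL (congrArg Subtype.val e)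
  obtain ⟨T, hUT⟩ := (U.2.map L').exists_le_sylow
  have hsq : q ^ 2 - 1 = (q + 1) * (q - 1) := by rw [← Nat.sq_sub_sq, one_pow]
  have hT : Nat.card T = 2 ^ (k + 2) := by
    refine card_sylow_of_eq T rfl (c := q * a * b) ?_ ((hqo.mul ha).mul hb)
    rw [← (L.range.subgroupOf H).card_mul_index, hidx,
      Nat.card_congr (subgroupOfEquivOfLe hRH).toEquiv,
      ← Nat.card_congr (MonoidHom.ofInjective hL).toEquiv, Classical.card_SL_two, Nat.card_zmod,
      hsq, e1, e2]
    ring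
  have hncyc : ¬ IsCyclic ((T : Subgroup H) ⊓ commutator H : Subgroup H) := by
    intro hc
    refine Classical.sylow_two_SL2_not_commutative
      (Classical.two_ne_zero_of_odd_card (by rwa [Nat.card_zmod])) U
      ⟨⟨fun u v => Subtype.ext (hL'i ?_)⟩⟩
    have hu : ∀ w ∈ (U : Subgroup SL(2, ZMod q)), L' w ∈ (T : Subgroup H) ⊓ commutator H :=
      fun w hw => mem_inf.2 ⟨hUT (mem_map_of_mem _ hw), by rw [hcomm]; exact ⟨w, rfl⟩⟩
    have := hc.isMulCommutative.is_comm.comm ⟨_, hu u u.2⟩ ⟨_, hu v v.2⟩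
    rw [Subgroup.coe_mul, Subgroup.coe_mul, map_mul, map_mul]
    exact congrArg Subtype.val this
  obtain hcyc | ⟨j, -, ⟨f⟩⟩ := Classical.twoGroup_cyclic_or_quaternion h2K T.2
    (H.subtype.comp (T : Subgroup H).subtype) (H.subtype_injective.comp (subtype_injective _))
  · exact absurd (Subgroup.isCyclic_of_le (H' := (T : Subgroup H)) inf_le_left) hncyc
  refine ⟨H, inferInstance, inferInstance, T, 2 ^ j, ?_, hT, ⟨f⟩, fun hle => ?_, hncyc,
    L' (-1), mem_center_iff.2 fun w => Subtype.ext ?_, ?_, by rw [hcomm]; exact ⟨-1, rfl⟩⟩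
  · have h := (Nat.card_congr f.toEquiv).symm.trans hT
    rw [Nat.card_eq_fintype_card, QuaternionGroup.card] at h
    have := Nat.pow_le_pow_right two_pos (show 4 ≤ k + 2 by omega)
    omega
  · rw [hcomm] at hle
    have h1 := index_mod_two_of_sylow_le T hle
    omega
  · show (w : SL(2, K)) * L (-1) = L (-1) * (w : SL(2, K))
    refine Subtype.ext ?_
    simp [L, Matrix.map_neg, Matrix.map_one]
  · have h2q : (2 : ZMod q) ≠ 0 :=
      Classical.two_ne_zero_of_odd_card (by rwa [Nat.card_zmod])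
    rw [orderOf_injective L' hL'i]
    refine (orderOf_eq_prime_iff (p := 2)).2 ⟨by rw [_root_.sq (-1 : SL(2, ZMod q)), neg_mul_neg, one_mul], fun e => h2q ?_⟩
    have := congrArg (fun w : SL(2, ZMod q) => (w : Matrix (Fin 2) (Fin 2) (ZMod q)) 0 0) e
    simp at this
    linear_combination -this

/-- A group with dihedral Sylow 2-subgroups of order `2 ^ (k + 1)` whose derived group meets them
in a noncyclic proper subgroup. -/
theorem exists_dihedral_one {k : ℕ} (hk : 2 ≤ k) :
    ∃ (G : Type) (_ : Group G) (_ : Finite G) (T : Sylow 2 G) (d : MC (T : Subgroup G)),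
      d.ε = 0 ∧ d.δ = 0 ∧ d.n = k ∧ ¬ (T : Subgroup G) ≤ commutator G ∧
      ∃ i, d.g i ∈ commutator G := by
  haveI : Fact (Nat.Prime 2) := ⟨Nat.prime_two⟩
  obtain ⟨H, iG, iF, T, m, hm, hT, ⟨f⟩, hne, hnc, z₀, hz₀c, hz₀2, hz₀G⟩ := exists_quaternion_one hk
  obtain ⟨d, hdε, hdδ, -⟩ := MC.nonempty_of_quaternion T.2 hm f
  have hn : d.n = k + 1 := by
    have := d.card_S.symm.trans hT
    rw [← pow_succ'] at this
    have := Nat.pow_right_injective le_rfl this
    omega
  obtain ⟨i, hi⟩ := d.exists_g_mem (ι := (T : Subgroup H).subtype)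
    (Subgroup.range_subtype _).symm hnc
  set z := d.x ^ d.h with hz
  have hh : d.h = 2 ^ k := by rw [MC.h, hn]; rfl
  have hz₀T : z₀ ∈ (T : Subgroup H) := by
    obtain ⟨Q, hQ⟩ := (IsPGroup.of_card (G := zpowers z₀) (p := 2) (n := 1)
      (by rw [Nat.card_zpowers, hz₀2, pow_one])).exists_le_sylow
    obtain ⟨g, rfl⟩ := MulAction.exists_smul_eq H Q T
    refine ⟨z₀, hQ (mem_zpowers _), ?_⟩
    show g * z₀ * g⁻¹ = z₀
    rw [mem_center_iff.1 hz₀c g, mul_inv_cancel_right]
  have hz₀z : z₀ = z := d.eq_xh_of_invol hz₀T hz₀2 fun i _ => by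
    rw [MC.sq, hdε, hdδ]; simp
  have hzc : z ∈ commutator H := hz₀z ▸ hz₀G
  set N := zpowers z with hNdef
  have hN : N.Normal := ⟨fun w hw g => by
    have : w ∈ center H := zpowers_le.2 (hz₀z ▸ hz₀c) hw
    rwa [mem_center_iff.1 this g, mul_inv_cancel_right]⟩
  have hzN : ((T : Subgroup H) ⊓ N : Subgroup H) = zpowers z :=
    inf_eq_right.2 (zpowers_le.2 (hz₀z ▸ hz₀T))
  haveI := hN
  set π := QuotientGroup.mk' N
  set T' := T.mapSurjective (f := π) (QuotientGroup.mk'_surjective N)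
  have hT'e : (T' : Subgroup (H ⧸ N)) = (T : Subgroup H).map π := Sylow.coe_mapSurjective _ _
  have hker : ∀ w ∈ (T : Subgroup H), π w = 1 → w = 1 ∨ w = z := by
    intro w hw e
    have : w ∈ zpowers z := hzN ▸ mem_inf.2 ⟨hw, (QuotientGroup.eq_one_iff w).1 e⟩
    obtain ⟨a, rfl⟩ := this
    simp only [hz, ← zpow_mul]
    rcases Int.even_or_odd a with ⟨b, rfl⟩ | ⟨b, rfl⟩
    · exact Or.inl (d.zpow_eq_one.2 ⟨b, by ring⟩)
    · exact Or.inr (d.zpow_inj.2 ⟨b, by ring⟩)
  have hzker : π z = 1 := by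
    have : z ∈ (T : Subgroup H) ⊓ N := hzN ▸ mem_zpowers z
    exact (QuotientGroup.eq_one_iff z).2 (mem_inf.1 this).2
  have hmem : ∀ w ∈ (T : Subgroup H), π w ∈ (T' : Subgroup (H ⧸ N)) := fun w hw =>
    hT'e ▸ mem_map_of_mem π hw
  have hox : orderOf (π d.x) = 2 ^ k := by
    obtain ⟨j, rfl⟩ : ∃ j, k = j + 1 := ⟨k - 1, by omega⟩
    refine orderOf_eq_prime_pow (p := 2) (n := j) (fun e => ?_) ?_
    · rw [← map_pow] at e
      rcases hker _ (pow_mem d.hx _) e with h | h <;>
        rw [← zpow_natCast] at h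
      · rw [d.zpow_eq_one, hh] at h
        have := Int.le_of_dvd (by positivity) h
        push_cast [pow_succ] at this
        have : (0 : ℤ) < 2 ^ j := by positivity
        linarith
      · rw [hz, d.zpow_inj, hh] at h
        have := Int.le_of_dvd (a := 2 * 2 ^ (j + 1)) (b := (2 : ℤ) ^ (j + 1) - ((2 ^ j : ℕ) : ℤ))
          (by push_cast [pow_succ]; have : (0 : ℤ) < 2 ^ j := by positivity
              linarith) (by obtain ⟨t, ht⟩ := h; exact ⟨-t, by linarith⟩)
        push_cast [pow_succ] at this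
        have : (0 : ℤ) < 2 ^ j := by positivity
        linarith
    · rw [← map_pow, ← zpow_natCast, show (((2 ^ (j + 1) : ℕ)) : ℤ) = d.h by rw [hh]; push_cast; rfl]
      exact hzker
  have hcard : Nat.card T' = 2 * 2 ^ k := by
    have h1 := (π.comp (T : Subgroup H).subtype).ker.card_mul_index
    rw [Subgroup.index_ker, hT, MonoidHom.range_comp, Subgroup.range_subtype, ← hT'e] at h1
    have h2 : Nat.card (π.comp (T : Subgroup H).subtype).ker = 2 := by
      have e : (π.comp (T : Subgroup H).subtype).ker =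
          zpowers ⟨z, d.zpow_mem_S d.h⟩ := by
        refine le_antisymm (fun w hw => ?_) (zpowers_le.2 hzker)
        rcases hker w w.2 hw with h | h
        · exact (Subtype.ext h : w = 1) ▸ one_mem _
        · exact (Subtype.ext h : w = ⟨z, _⟩) ▸ mem_zpowers _
      rw [e, Nat.card_zpowers, Subgroup.orderOf_mk, hz]
      exact (orderOf_eq_prime_iff (p := 2)).2
        ⟨by rw [← zpow_natCast, ← zpow_mul, d.zpow_eq_one]; exact dvd_of_eq (by push_cast; ring),
          by rw [Ne, d.zpow_eq_one]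
             exact fun h' => by have := Int.le_of_dvd d.h_pos h'; have := d.h_pos; omega⟩
    rw [h2, show 2 ^ (k + 2) = 2 * (2 * 2 ^ k) by ring] at h1
    exact Nat.eq_of_mul_eq_mul_left two_pos h1
  let d' : MC (T' : Subgroup (H ⧸ N)) := MC.ofCard k ⟨_, hmem _ d.hx⟩ ⟨_, hmem _ d.hy⟩ 0 0
    (by rw [Subgroup.orderOf_mk, hox]) (Or.inl ⟨hk, rfl, rfl⟩)
    (Subtype.ext (by
      have := congrArg π d.conj
      rw [hdε] at this
      simpa using this))
    (Subtype.ext (by
      have := congrArg π d.sqy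
      rw [hdδ, one_mul, show ((2 : ℤ) ^ (d.n - 1)) = d.h from rfl, hzker] at this
      simpa using this))
    (fun ⟨a, ha⟩ => by
      have e : π (d.x ^ (-a) * d.y) = 1 := by
        rw [map_mul, map_zpow, zpow_neg,
          show (π d.x) ^ a = π d.y from (coe_zpow _ _ _).symm.trans (congrArg Subtype.val ha),
          inv_mul_cancel]
      rcases hker _ (mul_mem (d.zpow_mem_S _) d.hy) e with h | h
      · exact d.g_ne_zpow (-a) 0 (h.trans (zpow_zero _).symm)
      · exact d.g_ne_zpow (-a) d.h h) hcard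
  refine ⟨H ⧸ N, inferInstance, inferInstance, T', d', rfl, rfl, rfl, fun hle => hne fun w hw => ?_,
    i, ?_⟩
  · have h1 : π w ∈ (commutator H).map π := by
      rw [commutator_def, map_commutator, ← MonoidHom.range_eq_map, QuotientGroup.range_mk']; exact hle (hmem w hw)
    obtain ⟨c, hc, e⟩ := h1
    have hcw : c⁻¹ * w ∈ N := QuotientGroup.eq.1 e
    have hN' : N ≤ commutator H := zpowers_le.2 hzc
    exact (mul_mem_cancel_left (inv_mem hc)).1 (hN' hcw)
  · have h1 : π (d.g i) ∈ (commutator H).map π := mem_map_of_mem π hi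
    rw [commutator_def, map_commutator, ← MonoidHom.range_eq_map, QuotientGroup.range_mk'] at h1
    have e : d'.g i = π (d.g i) := by
      show π d.x ^ i * π d.y = _
      rw [MC.g, map_mul, map_zpow]
    exact e ▸ h1


/-- `GL₂(q)`: a group with quasidihedral Sylow 2-subgroups whose derived group contains exactly
the reflections of order four. -/
theorem exists_quasiDihedral_oddPart {k : ℕ} (hk : 2 ≤ k) :
    ∃ (G : Type) (_ : Group G) (_ : Finite G) (T : Sylow 2 G) (d : MC (T : Subgroup G)),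
      d.ε = 1 ∧ d.δ = 0 ∧ d.n = k + 1 ∧ ∀ i, d.g i ∈ commutator G ↔ ¬ Even (d.sq i) := by
  haveI : Fact (Nat.Prime 2) := ⟨Nat.prime_two⟩
  obtain ⟨q, hq, hq5, hq4, a, b, ha, hb, e1, e2⟩ := exists_prime_two_part hk
  haveI : Fact q.Prime := ⟨hq⟩
  have hqo : Odd q := hq.odd_of_ne_two (by omega)
  have h2F : (2 : ZMod q) ≠ 0 := Classical.two_ne_zero_of_odd_card (by rwa [Nat.card_zmod])
  obtain ⟨T⟩ : Nonempty (Sylow 2 (GL (Fin 2) (ZMod q))) := inferInstance
  obtain ⟨d, hε, hδ⟩ := MC.nonempty_of_quasiDihedral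
    (Involutions.isQuasiDihedral_sylow_GL (F := ZMod q) (by rw [Nat.card_zmod]; omega) T)
  have hn : d.n = k + 1 := by
    have h1 : Nat.card T = 2 ^ (k + 2) := by
      refine card_sylow_of_eq T rfl (c := b * (q * a * b)) ?_ (hb.mul ((hqo.mul ha).mul hb))
      rw [Classical.card_GL_two, Nat.card_zmod, show q ^ 2 - 1 = (q + 1) * (q - 1) by
        rw [← Nat.sq_sub_sq, one_pow], e1, e2]
      ring
    have := d.card_S.symm.trans h1
    rw [← pow_succ'] at this
    have := Nat.pow_right_injective le_rfl this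
    omega
  have hSL : (Matrix.SpecialLinearGroup.toGL : SL(2, ZMod q) →* GL (Fin 2) (ZMod q)).range ≤
      commutator (GL (Fin 2) (ZMod q)) :=
    (le_commutator_of_perfect _ (Classical.SL_fin_commutator_eq_top 2 le_rfl
      fun _ => by rw [Nat.card_zmod]; omega)).trans (commutator_mono le_top le_top)
  have heven : ∀ i, Even (d.sq i) → d.g i ∉ commutator (GL (Fin 2) (ZMod q)) := by
    intro i hi hc
    have hdet : Matrix.GeneralLinearGroup.det (d.g i) = 1 :=
      MonoidHom.mem_ker.1 (Abelianization.commutator_subset_ker Matrix.GeneralLinearGroup.det hc)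
    have h2 : d.g i * d.g i = 1 := by
      rw [d.g_mul_self, d.zpow_eq_one]
      obtain ⟨t, ht⟩ := hi
      exact ⟨t, by rw [ht]; ring⟩
    have hinv : (d.g i)⁻¹ = d.g i := inv_eq_of_mul_eq_one_left h2
    have hadj : (d.g i).1.adjugate = (d.g i).1 := by
      have h1 : ((d.g i)⁻¹ : GL (Fin 2) (ZMod q)).1 = (d.g i).1 := by rw [hinv]
      rw [Matrix.coe_units_inv, Matrix.inv_def,
        show (d.g i).1.det = 1 from congrArg Units.val hdet] at h1
      simpa using h1
    have e01 := congrFun (congrFun hadj 0) 1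
    have e10 := congrFun (congrFun hadj 1) 0
    have e00 := congrFun (congrFun hadj 0) 0
    simp [Matrix.adjugate_fin_two] at e01 e10 e00
    have z : ∀ w : ZMod q, -w = w → w = 0 := fun w hw =>
      (mul_eq_zero.1 (show (2 : ZMod q) * w = 0 by linear_combination -hw)).resolve_left h2F
    have hcomm : Commute (d.x ^ (1 : ℤ)) (d.g i) := by
      refine Units.ext (Matrix.ext fun r s => ?_)
      fin_cases r <;> fin_cases s <;>
        simp [Matrix.mul_apply, Fin.sum_univ_two, z _ e01, z _ e10, e00] <;> ring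
    have h3 := Int.le_of_dvd one_pos (d.commute_g hcomm)
    have h4 := d.h_pos
    have h5 := d.even_h
    obtain ⟨t, ht⟩ := h5
    omega
  have hnc : ¬ IsCyclic ((T : Subgroup (GL (Fin 2) (ZMod q))) ⊓
      commutator (GL (Fin 2) (ZMod q)) : Subgroup (GL (Fin 2) (ZMod q))) := by
    intro hcy
    obtain ⟨U⟩ : Nonempty (Sylow 2 SL(2, ZMod q)) := inferInstance
    obtain ⟨T₀, hT₀⟩ := (U.2.map Matrix.SpecialLinearGroup.toGL).exists_le_sylow
    obtain ⟨g, hg⟩ := MulAction.exists_smul_eq (GL (Fin 2) (ZMod q)) T₀ T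
    refine Classical.sylow_two_SL2_not_commutative h2F U ⟨⟨fun u v => Subtype.ext ?_⟩⟩
    have hu : ∀ w ∈ (U : Subgroup SL(2, ZMod q)),
        g * Matrix.SpecialLinearGroup.toGL w * g⁻¹ ∈
          (T : Subgroup (GL (Fin 2) (ZMod q))) ⊓ commutator (GL (Fin 2) (ZMod q)) := fun w hw =>
      mem_inf.2 ⟨hg ▸ ⟨_, hT₀ (mem_map_of_mem _ hw), rfl⟩,
        (inferInstance : (commutator (GL (Fin 2) (ZMod q))).Normal).conj_mem _ (hSL ⟨w, rfl⟩) g⟩
    have h' := congrArg Subtype.val
      (hcy.isMulCommutative.is_comm.comm ⟨_, hu u u.2⟩ ⟨_, hu v v.2⟩)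
    simp only [Subgroup.coe_mul, conj_mul, mul_left_inj, mul_right_inj, ← map_mul] at h'
    rw [Subgroup.coe_mul, Subgroup.coe_mul]
    exact Matrix.SpecialLinearGroup.toGL_injective h'
  obtain ⟨i, hi⟩ := d.exists_g_mem (ι := (T : Subgroup (GL (Fin 2) (ZMod q))).subtype)
    (Subgroup.range_subtype _).symm hnc
  have hX : d.X2 ≤ commutator (GL (Fin 2) (ZMod q)) := fun w hw => by
    obtain ⟨w', hw', rfl⟩ := d.X2_le_commutator (T : Subgroup (GL (Fin 2) (ZMod q))).subtype hw
    exact hw'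
  refine ⟨_, inferInstance, inferInstance, T, d, hε, hδ, hn,
    fun j => ⟨fun hj h => heven j h hj, fun hj => ?_⟩⟩
  have hi' : ¬ Even (d.sq i) := fun h => heven i h hi
  rw [MC.sq, hε, hδ] at hj hi'
  simp only [one_mul, add_zero] at hj hi'
  exact d.g_mem_of_even hX (by simp only [Int.even_sub]; tauto) hi

theorem exists_orderOf_eq_dvd {α : Type*} [Group α] [Finite α] [IsCyclic α] {d : ℕ}
    (hd : d ∣ Nat.card α) : ∃ g : α, orderOf g = d := by
  obtain ⟨g, hg⟩ := IsCyclic.exists_generator (α := α)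
  obtain ⟨c, hc⟩ := hd
  refine ⟨g ^ c, ?_⟩
  rw [orderOf_pow, orderOf_eq_card_of_forall_mem_zpowers hg, hc, Nat.gcd_mul_left_left]
  have : 0 < d * c := hc ▸ Nat.card_pos
  rw [Nat.mul_div_cancel _ (by rcases Nat.eq_zero_or_pos c with rfl | h <;> simp_all)]

/-- A group of type `M₁₀`: quasidihedral Sylow 2-subgroups, the derived group containing exactly
the involutory reflections. -/
theorem exists_quasiDihedral_evenPart {k : ℕ} (hk : 2 ≤ k) :
    ∃ (G : Type) (_ : Group G) (_ : Finite G) (T : Sylow 2 G) (d : MC (T : Subgroup G)),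
      d.ε = 1 ∧ d.δ = 0 ∧ d.n = k + 1 ∧ ∀ i, d.g i ∈ commutator G ↔ Even (d.sq i) := by
  haveI : Fact (Nat.Prime 2) := ⟨Nat.prime_two⟩
  obtain ⟨q, hq, hq5, hq4, a, b, ha, hb, e1, e2⟩ := exists_prime_two_part hk
  haveI : Fact q.Prime := ⟨hq⟩
  have hqo : Odd q := hq.odd_of_ne_two (by omega)
  obtain ⟨K, iK, iF, iC, hcK⟩ : ∃ (K : Type) (_ : Field K) (_ : Finite K) (_ : CharP K q),
      Nat.card K = q ^ 2 :=
    ⟨GaloisField q 2, inferInstance, inferInstance, inferInstance,
      GaloisField.card q 2 two_ne_zero⟩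
  have hKodd : Odd (Nat.card K) := by rw [hcK]; exact hqo.pow
  have h2K : (2 : K) ≠ 0 := Classical.two_ne_zero_of_odd_card hKodd
  have hsq : q ^ 2 - 1 = (q + 1) * (q - 1) := by rw [← Nat.sq_sub_sq, one_pow]
  obtain ⟨ζ, hζ⟩ : ∃ ζ : Kˣ, orderOf ζ = 2 ^ (k + 1) := exists_orderOf_eq_dvd (by
    haveI := Fintype.ofFinite K
    rw [Nat.card_units, hcK, hsq, e1, e2]
    exact ⟨a * b, by rw [pow_succ]; ring⟩)
  set z : K := (ζ : K) with hzdef
  have hz0 : z ≠ 0 := ζ.ne_zero
  have hzpow : ∀ m : ℕ, z ^ m = 1 ↔ 2 ^ (k + 1) ∣ m := fun m => by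
    rw [← hζ, orderOf_dvd_iff_pow_eq_one, hzdef, ← Units.val_pow_eq_pow_val, Units.val_eq_one]
  have hneg : z ^ (2 ^ k) = -1 := by
    have h1 : (z ^ (2 ^ k)) ^ 2 = 1 := by
      rw [← pow_mul, hzpow, ← pow_succ]
    refine (sq_eq_one_iff.1 h1).resolve_left fun h => ?_
    have := Nat.le_of_dvd (by positivity) ((hzpow _).1 h)
    rw [pow_succ] at this
    have := Nat.two_pow_pos k
    omega
  have hzq : z ^ q = -z⁻¹ := by
    have : z ^ (q + 1) = -1 := by rw [e1, pow_mul, hneg, ha.neg_one_pow]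
    rw [pow_succ] at this
    field_simp
    linear_combination this
  haveI : ExpChar K q := ExpChar.prime hq
  set σ : K ≃+* K := frobeniusEquiv K q with hσdef
  have hσz : σ z = -z⁻¹ := by rw [hσdef, frobeniusEquiv_def, hzq]
  have hσ1 : σ ≠ 1 := fun h => by
    have h1 : z = -z⁻¹ := (RingEquiv.congr_fun h z).symm.trans hσz
    have h2 : z ^ 4 = 1 := by
      have : z * z = -1 := by
        calc z * z = z * -z⁻¹ := by rw [← h1]
          _ = -1 := by rw [mul_neg, mul_inv_cancel₀ hz0]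
      linear_combination (z * z - 1) * this
    have := Nat.le_of_dvd (by norm_num) ((hzpow _).1 h2)
    have := Nat.pow_le_pow_right two_pos (show 3 ≤ k + 1 by omega)
    omega
  have hσ2 : σ * σ = 1 := RingEquiv.ext fun w => by
    show σ (σ w) = w
    haveI := Fintype.ofFinite K
    rw [hσdef, frobeniusEquiv_def, frobeniusEquiv_def, ← pow_mul, ← _root_.sq, ← hcK,
      Nat.card_eq_fintype_card, FiniteField.pow_card]
  let GA : GL (Fin 2) K := Matrix.GeneralLinearGroup.mkOfDetNeZero !![0, 1; z, 0]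
    (by simp [Matrix.det_fin_two_of, hz0])
  let GW : GL (Fin 2) K := Matrix.GeneralLinearGroup.mkOfDetNeZero !![0, 1; -1, 0]
    (by simp [Matrix.det_fin_two_of])
  let GB : GL (Fin 2) K := Matrix.GeneralLinearGroup.mkOfDetNeZero !![-z⁻¹, 0; 0, z]
    (by simp [Matrix.det_fin_two_of, hz0])
  set mσ : GL (Fin 2) K →* GL (Fin 2) K := Matrix.GeneralLinearGroup.map (σ : K →+* K) with hmσ
  -- images of scalar matrices
  have hscal : ∀ g g' : GL (Fin 2) K, ∀ c : Kˣ,
      (g : Matrix (Fin 2) (Fin 2) K) = (c : K) • (g' : Matrix (Fin 2) (Fin 2) K) →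
      (δ g : MulAut (Matrix.ProjectiveSpecialLinearGroup (Fin 2) K)) = δ g' := by
    intro g g' c h
    have hg : g = Matrix.GeneralLinearGroup.scalar (Fin 2) c * g' := by
      refine Units.ext ?_
      rw [h, Units.val_mul, Matrix.GeneralLinearGroup.coe_scalar, Matrix.scalar_apply,
        ← Matrix.smul_eq_diagonal_mul]
    rw [hg, map_mul, (MonoidHom.mem_ker (f := δ)).1
      (show Matrix.GeneralLinearGroup.scalar (Fin 2) c ∈ _ by
        rw [ker_δ le_rfl]; exact (mem_center_iff_scalar _).2 ⟨c, rfl⟩), one_mul]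
  set α : MulAut (Matrix.ProjectiveSpecialLinearGroup (Fin 2) K) := δ GA * fld σ with hα
  set η : MulAut (Matrix.ProjectiveSpecialLinearGroup (Fin 2) K) := δ GW with hη
  have hAA : GA * mσ GA = GB := by
    refine Units.ext (Matrix.ext fun r s => ?_)
    fin_cases r <;> fin_cases s <;>
      simp [GA, GB, hmσ, Matrix.mul_apply, Fin.sum_univ_two, hσz]
  have hα2 : α * α = δ GB := by
    rw [hα, mul_assoc, ← mul_assoc (fld σ), fld_δ, ← hmσ, mul_assoc, ← map_mul fld, hσ2, map_one,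
      mul_one, ← map_mul, hAA]
  have hBm : ∀ m : ℕ, ((GB ^ m : GL (Fin 2) K) : Matrix (Fin 2) (Fin 2) K) =
      !![(-z⁻¹) ^ m, 0; 0, z ^ m] := by
    intro m
    induction m with
    | zero => simp [Matrix.one_fin_two]
    | succ m ih =>
      rw [pow_succ, Units.val_mul, ih]
      refine Matrix.ext fun r s => ?_
      fin_cases r <;> fin_cases s <;>
        simp [GB, Matrix.mul_apply, Fin.sum_univ_two, pow_succ]
  obtain ⟨j, rfl⟩ : ∃ j, k = j + 2 := ⟨k - 2, by omega⟩
  have hj : (-z⁻¹) ^ (2 ^ (j + 1)) = (z ^ (2 ^ (j + 1)))⁻¹ := by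
    rw [(Nat.even_pow.2 ⟨even_two, by omega⟩).neg_pow, inv_pow]
  have hjj : z ^ (2 ^ (j + 1)) * z ^ (2 ^ (j + 1)) = -1 := by
    rw [← pow_add, ← two_mul, ← pow_succ', hneg]
  -- the element of order two in the cyclic part
  have hαh : α ^ (2 ^ (j + 2)) = δ (GB ^ 2 ^ (j + 1)) := by
    rw [pow_succ', pow_mul, _root_.sq α, hα2, map_pow]
  have hord : orderOf α = 2 ^ (j + 2 + 1) := by
    refine orderOf_eq_prime_pow (p := 2) (n := j + 2) (fun h => ?_) ?_
    · rw [hαh] at h
      have h1 : GB ^ 2 ^ (j + 1) ∈ center (GL (Fin 2) K) := by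
        rw [← ker_δ le_rfl]; exact h
      obtain ⟨u, hu⟩ := (mem_center_iff_scalar _).1 h1
      have hu' := congrArg (fun g : GL (Fin 2) K => (g : Matrix (Fin 2) (Fin 2) K)) hu
      simp only [hBm, hj] at hu'
      have a0 := congrFun (congrFun hu' 0) 0
      have a1 := congrFun (congrFun hu' 1) 1
      simp at a0 a1
      refine h2K ?_
      have : z ^ (2 ^ (j + 1)) * z ^ (2 ^ (j + 1)) = 1 := by
        nth_rw 1 [← a1]
        rw [a0, inv_mul_cancel₀ (pow_ne_zero _ hz0)]
      linear_combination hjj - this + (0 : K)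
    · rw [pow_succ, pow_mul, hαh, ← map_pow, ← pow_mul]
      refine (hscal _ 1 (-1) ?_).trans (map_one _)
      rw [hBm, ← pow_succ, hneg,
        (Nat.even_pow.2 ⟨even_two, by omega⟩).neg_pow, inv_pow, hneg]
      ext r s
      fin_cases r <;> fin_cases s <;> simp
  have hηη : η * η = 1 := by
    rw [hη, ← map_mul]
    refine (hscal _ 1 (-1) ?_).trans (map_one _)
    ext r s
    fin_cases r <;> fin_cases s <;> simp [GW, Matrix.mul_apply, Fin.sum_univ_two]
  have hconj : η * α * η⁻¹ * α = α ^ (2 ^ (j + 2)) := by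
    rw [hαh, hη, hα, inv_eq_of_mul_eq_one_left hηη]
    have hσW : mσ GW = GW := by
      refine Units.ext (Matrix.ext fun r s => ?_)
      fin_cases r <;> fin_cases s <;> simp [GW, hmσ]
    calc δ GW * (δ GA * fld σ) * δ GW * (δ GA * fld σ)
        = δ GW * δ GA * (fld σ * δ GW) * (δ GA * fld σ) := by group
      _ = δ GW * δ GA * δ GW * (fld σ * δ GA) * fld σ := by
          rw [fld_δ, ← hmσ, hσW]; group
      _ = δ (GW * GA * GW * mσ GA) * (fld σ * fld σ) := by
          rw [fld_δ, ← hmσ]; simp only [map_mul]; group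
      _ = δ (GB ^ 2 ^ (j + 1)) := by
          rw [← map_mul fld, hσ2, map_one, mul_one]
          refine hscal _ _ (-ζ ^ 2 ^ (j + 1)) ?_
          rw [hBm, hj]
          ext r s
          fin_cases r <;> fin_cases s <;>
            simp [GW, GA, hmσ, Matrix.mul_apply, Fin.sum_univ_two, hσz, hz0, ← hzdef, hjj]
  have hconj' : η * α * η⁻¹ = α ^ ((2 : ℤ) ^ (j + 2) - 1) := by
    rw [eq_mul_inv_iff_mul_eq.2 hconj, zpow_sub, zpow_one,
      show ((2 : ℤ) ^ (j + 2)) = ((2 ^ (j + 2) : ℕ) : ℤ) by push_cast; rfl, zpow_natCast]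
  have hηnot : η ∉ zpowers α := by
    rintro ⟨m, hm⟩
    have h1 : α ^ ((2 : ℤ) ^ (j + 2) - 1) = α ^ (1 : ℤ) := by
      rw [← hconj', ← hm, zpow_one]; group
    rw [← orderOf_dvd_sub_iff_zpow_eq_zpow, hord] at h1
    have h4 : (2 : ℤ) ^ (j + 2) = 4 * 2 ^ j := by ring
    have h8 : ((2 ^ (j + 2 + 1) : ℕ) : ℤ) = 8 * 2 ^ j := by push_cast; ring
    have := Int.le_of_dvd (by have : (1 : ℤ) ≤ 2 ^ j := one_le_pow₀ (by norm_num)
                              omega) h1
    have : (1 : ℤ) ≤ 2 ^ j := one_le_pow₀ (by norm_num)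
    omega
  -- the ambient group
  set R := Cfsg.Inn (Matrix.ProjectiveSpecialLinearGroup (Fin 2) K) with hR
  have hαnR : α ∈ normalizer (R : Set _) :=
    mem_normalizer_iff.2 fun φ => by
      haveI : R.Normal := Cfsg.innNormal _
      exact ⟨fun h => Subgroup.Normal.conj_mem inferInstance φ h α, fun h => by
        simpa [mul_assoc] using Subgroup.Normal.conj_mem (H := R) inferInstance _ h α⁻¹⟩
  have hαR : α ∉ R := by
    intro h
    rw [hR, inn_eq] at h
    obtain ⟨s, hs⟩ := h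
    exact hσ1 (fld_mem_range (n := 2) le_rfl ⟨GA⁻¹ * Matrix.SpecialLinearGroup.toGL s, by
      rw [map_mul, show δ (Matrix.SpecialLinearGroup.toGL s) = α from hs, hα, map_inv,
        inv_mul_cancel_left]⟩)
  have hαR2 : α * α ∈ R := by
    rw [hα2, hR, δ_mem_inn_iff le_rfl]
    refine ⟨ζ ^ 2 ^ (j + 1), Units.ext ?_⟩
    simp [GB, Matrix.det_fin_two_of, hz0, ← hzdef, _root_.sq, hjj]
  have hηR : η ∈ R := by
    rw [hη, hR, δ_mem_inn_iff le_rfl]
    exact ⟨1, Units.ext (by simp [GW, Matrix.det_fin_two_of])⟩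
  obtain ⟨H, hRH, hαH, hidx⟩ := exists_index_two_ext R hαnR hαR2 hαR
  have hperf : commutator (Matrix.ProjectiveSpecialLinearGroup (Fin 2) K) = ⊤ :=
    Classical.PSL_commutator_eq_top_of_SL
      (Classical.SL_fin_commutator_eq_top 2 le_rfl fun _ => by
        rw [hcK]; exact le_trans (show 4 ≤ 5 ^ 2 by norm_num) (Nat.pow_le_pow_left hq5 2))
  set f : Matrix.ProjectiveSpecialLinearGroup (Fin 2) K →* H :=
    MulAut.conj.codRestrict H fun u => hRH ⟨u, rfl⟩ with hf
  have hRf : R.subgroupOf H = f.range := by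
    ext w
    exact ⟨fun ⟨s, hs⟩ => ⟨s, Subtype.ext hs⟩, fun ⟨s, hs⟩ => ⟨s, congrArg Subtype.val hs⟩⟩
  have hcomm : commutator H = R.subgroupOf H :=
    commutator_eq_of_index_two hidx (hRf ▸ le_commutator_of_perfect f hperf)
  have hfi : Function.Injective f := by
    intro u v e
    have hZ : center (Matrix.ProjectiveSpecialLinearGroup (Fin 2) K) = ⊥ := Classical.center_PSL_two_eq_bot
    have h1 : MulAut.conj u = MulAut.conj v := congrArg Subtype.val e
    have h2 : u⁻¹ * v ∈ center (Matrix.ProjectiveSpecialLinearGroup (Fin 2) K) :=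
      mem_center_iff.2 fun w => by
        have := DFunLike.congr_fun h1 w
        simp only [MulAut.conj_apply] at this
        calc w * (u⁻¹ * v) = u⁻¹ * (u * w * u⁻¹) * v := by group
          _ = u⁻¹ * (v * w * v⁻¹) * v := by rw [this]
          _ = u⁻¹ * v * w := by group
    rw [hZ, mem_bot] at h2
    exact inv_mul_eq_one.1 h2
  obtain ⟨T⟩ : Nonempty (Sylow 2 H) := inferInstance
  have hT : Nat.card T = 2 ^ (j + 4) := by
    obtain ⟨c, hc⟩ : Odd ((q ^ 2) ^ 2 * 0 + 1) := ⟨0, by simp⟩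
    clear hc c
    have hq4' : ∃ c, Odd c ∧ q ^ 2 + 1 = 2 * c := by
      obtain ⟨t, rfl⟩ := hqo
      exact ⟨2 * t * t + 2 * t + 1, ⟨t * t + t, by ring⟩, by ring⟩
    obtain ⟨c, hc, hc2⟩ := hq4'
    refine card_sylow_of_eq T rfl (c := q ^ 2 * c * a * b) ?_
      (((hqo.pow.mul hc).mul ha).mul hb)
    have hPSL := card_PSL2_eq (F := K) hKodd
    rw [hcK, show (q ^ 2) ^ 2 - 1 = (q ^ 2 + 1) * (q ^ 2 - 1) by rw [← Nat.sq_sub_sq, one_pow],
      hc2, hsq, e1, e2] at hPSL
    rw [← (R.subgroupOf H).card_mul_index, hidx, hRf,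
      ← Nat.card_congr (MonoidHom.ofInjective hfi).toEquiv]
    refine Nat.eq_of_mul_eq_mul_left two_pos ?_
    rw [← mul_assoc, hPSL]
    ring
  set x' : H := ⟨α, hαH⟩
  set y' : H := ⟨η, hRH hηR⟩
  have hox : orderOf x' = 2 ^ (j + 2 + 1) := by rw [Subgroup.orderOf_mk, hord]
  have hyn : y' ∈ normalizer (zpowers x' : Set H) := by
    rw [mem_normalizer_iff_map_conj_eq]
    refine Subgroup.eq_of_le_of_card_ge ?_
      (card_map_of_injective (MulAut.conj y').injective).ge
    rw [MonoidHom.map_zpowers, zpowers_le]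
    exact ⟨(2 : ℤ) ^ (j + 2) - 1, Subtype.ext (by
      rw [coe_zpow]; exact hconj'.symm)⟩
  have hy2 : y' * y' ∈ zpowers x' := by
    rw [show y' * y' = 1 from Subtype.ext hηη]; exact one_mem _
  have hy0 : y' ∉ zpowers x' := fun ⟨m, hm⟩ => hηnot ⟨m, by
    simpa using congrArg Subtype.val hm⟩
  obtain ⟨P, hxP, hyP, hPidx⟩ := exists_index_two_ext _ hyn hy2 hy0
  have hP : Nat.card P = 2 ^ (j + 4) := by
    rw [← (zpowers x').subgroupOf P |>.card_mul_index, hPidx,
      Nat.card_congr (subgroupOfEquivOfLe hxP).toEquiv, Nat.card_zpowers, hox]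
    ring
  obtain ⟨T', hPT'⟩ := (IsPGroup.of_card (p := 2) hP).exists_le_sylow
  have hT'c : Nat.card T' = 2 ^ (j + 4) := by
    rw [← hT]; exact Nat.card_congr (Sylow.equiv T' T).toEquiv
  let d : MC (T' : Subgroup H) := MC.ofCard (j + 2 + 1) ⟨x', hPT' (hxP (mem_zpowers _))⟩
    ⟨y', hPT' hyP⟩ 1 0 (by rw [Subgroup.orderOf_mk, hox]) (Or.inr (by omega))
    (Subtype.ext (Subtype.ext (by simpa using hconj')))
    (Subtype.ext (Subtype.ext (by simpa using hηη)))
    (fun ⟨m, hm⟩ => hy0 ⟨m, by simpa using congrArg Subtype.val hm⟩)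
    (by rw [hT'c]; ring)
  refine ⟨H, inferInstance, inferInstance, T', d, rfl, rfl, rfl, fun i => ?_⟩
  have hxi : x' ^ i ∈ R.subgroupOf H ↔ Even i := by
    have hx2 : x' * x' ∈ R.subgroupOf H := hαR2
    have hx1 : x' ∉ R.subgroupOf H := hαR
    rcases Int.even_or_odd i with ⟨t, rfl⟩ | ⟨t, rfl⟩
    · refine iff_of_true ?_ ⟨t, rfl⟩
      rw [show t + t = 2 * t by ring, zpow_mul, zpow_two]
      exact zpow_mem hx2 t
    · refine iff_of_false (fun h => hx1 ?_) (by simp)
      rw [zpow_add, zpow_one, zpow_mul, zpow_two] at h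
      exact ((R.subgroupOf H).mul_mem_cancel_left (zpow_mem hx2 t)).1 h
  show x' ^ i * y' ∈ commutator H ↔ Even (1 * i + 0)
  rw [hcomm, (R.subgroupOf H).mul_mem_cancel_right (show y' ∈ R.subgroupOf H from hηR), hxi,
    one_mul, add_zero]

end CfsgLib.Fusion
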