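import Mathlib
import Cfsg.Agent.Lib.Fusion.Normal
import Cfsg.Agent.Lib.Fusion.Centric
import Cfsg.Agent.Lib.PGroups.MetacyclicTwoAut
import Cfsg.Agent.Lib.PGroups.MaximalClass
import Cfsg.Agent.Lib.PGroups.MaximalClassTwo

/-! A strongly closed metacyclic `2`-subgroup that is neither dihedral, semidihedral nor quaternion
is normal in a saturated system. -/
set_option autoImplicit false

universe u

namespace CfsgLib.Fusion.MetacyclicTwo

open Cfsg Cfsg.FusionSystem

section GroupPart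

variable {G : Type*} [Group G]

theorem isMetacyclic_subgroup (hm : IsMetacyclic G) (H : Subgroup G) : IsMetacyclic H := by
  obtain ⟨N, hN, hNc, hQc⟩ := hm
  refine ⟨N.subgroupOf H, inferInstance, ?_, ?_⟩
  · exact isCyclic_of_injective
      ((H.subtype.comp (N.subgroupOf H).subtype).codRestrict N fun x => x.2)
      (fun x y h => Subtype.ext (Subtype.ext (congrArg (fun z : N => (z : G)) h)))
  · exact isCyclic_of_injective (QuotientGroup.map (N.subgroupOf H) N H.subtype fun x hx => hx)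
      ((injective_iff_map_eq_one _).2 fun v => by
        induction v using QuotientGroup.induction_on with
        | H x => exact fun hx => (QuotientGroup.eq_one_iff x).2 ((QuotientGroup.eq_one_iff (x : G)).1 hx))

theorem mem_zpowers_of_pow_orderOf {C : Type*} [Group C] [Finite C] [IsCyclic C] {x y : C}
    (h : x ^ orderOf y = 1) : x ∈ Subgroup.zpowers y := by
  letI := IsCyclic.commGroup (α := C)
  have h1 : Subgroup.zpowers y = (powMonoidHom (orderOf y) : C →* C).ker := by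
    refine Subgroup.eq_of_le_of_card_ge (Subgroup.zpowers_le.2 ?_) ?_
    · exact pow_orderOf_eq_one y
    · rw [IsCyclic.card_powMonoidHom_ker, Nat.card_zpowers,
        Nat.gcd_eq_right (orderOf_dvd_natCard y)]
  rw [h1]
  exact h

/-- In a metacyclic 2-group a homocyclic subgroup `H` of rank two and exponent at least four is
self-normalising as soon as it contains every element acting on it trivially modulo squares. -/
theorem normalizer_le_of_squares [Finite G] (hG : IsPGroup 2 G) (hm : IsMetacyclic G)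
    (H : Subgroup G) (hab : ∀ x ∈ H, ∀ y ∈ H, x * y = y * x) (n : ℕ) (hn : 2 ≤ n)
    (hexp : ∀ x ∈ H, x ^ 2 ^ n = 1) (hcard : Nat.card H = 2 ^ n * 2 ^ n)
    (hT : ∀ t ∈ Subgroup.normalizer (H : Set G),
      (∀ x ∈ H, ∃ y ∈ H, x⁻¹ * (t * x * t⁻¹) = y ^ 2) → t ∈ H) :
    Subgroup.normalizer (H : Set G) ≤ H := by
  classical
  obtain ⟨N, hN, hNc, hQc⟩ := hm
  set π := QuotientGroup.mk' N with hπ
  -- generators `a` of `N ⊓ H` and `e` of `H` modulo `N`
  have hNH : IsCyclic ↥(N ⊓ H) := isCyclic_of_injective (Subgroup.inclusion (inf_le_left : N ⊓ H ≤ N))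
    (Subgroup.inclusion_injective _)
  obtain ⟨⟨a, ha⟩, hagen⟩ := IsCyclic.exists_generator (α := ↥(N ⊓ H))
  obtain ⟨haN, haH⟩ := Subgroup.mem_inf.1 ha
  have haz : N ⊓ H ≤ Subgroup.zpowers a := by
    intro x hx
    obtain ⟨k, hk⟩ := Subgroup.mem_zpowers_iff.1 (hagen ⟨x, hx⟩)
    exact Subgroup.mem_zpowers_iff.2 ⟨k, congrArg Subtype.val hk⟩
  have haz' : N ⊓ H = Subgroup.zpowers a := le_antisymm haz (Subgroup.zpowers_le.2 ha)
  obtain ⟨⟨_, e, heH, rfl⟩, hegen⟩ := IsCyclic.exists_generator (α := ↥(H.map π))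
  have hez : ∀ x ∈ H, ∃ k l : ℤ, x = e ^ k * a ^ l := by
    intro x hx
    obtain ⟨k, hk⟩ := Subgroup.mem_zpowers_iff.1 (hegen ⟨π x, x, hx, rfl⟩)
    have hk' : π (e ^ k) = π x := by rw [map_zpow]; exact congrArg Subtype.val hk
    obtain ⟨l, hl⟩ := Subgroup.mem_zpowers_iff.1 (haz (Subgroup.mem_inf.2
      ⟨(QuotientGroup.eq.1 hk' : (e ^ k)⁻¹ * x ∈ N),
        H.mul_mem (H.inv_mem (H.zpow_mem heH k)) hx⟩))
    exact ⟨k, l, by rw [hl, mul_inv_cancel_left]⟩
  have hao : orderOf a = 2 ^ n := by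
    have h1 : orderOf a ∣ 2 ^ n := orderOf_dvd_of_pow_eq_one (hexp a haH)
    have h2 : Nat.card (H.map π) ≤ 2 ^ n := by
      have h3 : H.map π ≤ Subgroup.zpowers (π e) := by
        intro y hy
        obtain ⟨k, hk⟩ := Subgroup.mem_zpowers_iff.1 (hegen ⟨y, hy⟩)
        exact Subgroup.mem_zpowers_iff.2 ⟨k, congrArg Subtype.val hk⟩
      refine (Subgroup.card_le_of_le h3).trans ?_
      rw [Nat.card_zpowers]
      exact orderOf_le_of_pow_eq_one (by positivity) (by rw [← map_pow, hexp e heH, map_one])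
    have h4 : π.ker.relIndex H = Nat.card (H.map π) := Subgroup.relIndex_ker (f := π) H
    rw [QuotientGroup.ker_mk', ← Subgroup.inf_relIndex_right] at h4
    have h5 := Subgroup.relIndex_mul_relIndex (⊥ : Subgroup G) (N ⊓ H) H bot_le inf_le_right
    rw [Subgroup.relIndex_bot_left, Subgroup.relIndex_bot_left, h4, haz', Nat.card_zpowers,
      hcard] at h5
    refine le_antisymm (Nat.le_of_dvd (by positivity) h1) ?_
    by_contra h6
    have h7 : orderOf a * Nat.card (H.map π) < 2 ^ n * 2 ^ n :=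
      Nat.mul_lt_mul_of_lt_of_le (not_le.1 h6) h2 (by positivity)
    omega
  have hae : a * e = e * a := hab a haH e heH
  -- trivial action modulo squares, tested on the generators
  have hsq : ∀ t ∈ Subgroup.normalizer (H : Set G), ∀ y z : ℤ × ℤ,
      t * e * t⁻¹ = e * (e ^ y.1 * a ^ y.2) ^ (2 : ℤ) →
      t * a * t⁻¹ = a * (e ^ z.1 * a ^ z.2) ^ (2 : ℤ) → t ∈ H := by
    intro t ht y z hy hz
    refine hT t ht fun x hx => ?_
    obtain ⟨k, l, rfl⟩ := hez x hx
    have hY : e ^ y.1 * a ^ y.2 ∈ H := H.mul_mem (H.zpow_mem heH _) (H.zpow_mem haH _)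
    have hZ : e ^ z.1 * a ^ z.2 ∈ H := H.mul_mem (H.zpow_mem heH _) (H.zpow_mem haH _)
    refine ⟨_, H.mul_mem (H.zpow_mem hY k) (H.zpow_mem hZ l), ?_⟩
    have h1 : t * (e ^ k * a ^ l) * t⁻¹ = (t * e * t⁻¹) ^ k * (t * a * t⁻¹) ^ l := by
      rw [conj_zpow, conj_zpow]
      group
    rw [h1, hy, hz]
    letI : CommGroup H := { (inferInstance : Group H) with
      mul_comm := fun a b => Subtype.ext (hab a a.2 b b.2) }
    have key : ∀ E A Y Z : H,
        (E ^ k * A ^ l)⁻¹ * ((E * Y ^ (2 : ℤ)) ^ k * (A * Z ^ (2 : ℤ)) ^ l)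
          = (Y ^ k * Z ^ l) ^ 2 := by
      intro E A Y Z
      rw [mul_zpow, mul_zpow, mul_pow, ← zpow_natCast (Y ^ k), ← zpow_natCast (Z ^ l),
        ← zpow_mul, ← zpow_mul, ← zpow_mul, ← zpow_mul, mul_mul_mul_comm (E ^ k),
        inv_mul_cancel_left, mul_comm (2 : ℤ) k, mul_comm (2 : ℤ) l]
      rfl
    have := congrArg Subtype.val (key ⟨e, heH⟩ ⟨a, haH⟩ ⟨_, hY⟩ ⟨_, hZ⟩)
    simpa using this
  have hQcomm : ∀ x y : G, π x * π y = π y * π x := fun x y => by
    letI := IsCyclic.commGroup (α := G ⧸ N)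
    exact mul_comm _ _
  intro u hu
  have hconjH : ∀ x ∈ H, u * x * u⁻¹ ∈ H := fun x hx =>
    (Subgroup.mem_normalizer_iff.1 hu x).1 hx
  obtain ⟨r, hr⟩ := Subgroup.mem_zpowers_iff.1
    (haz (Subgroup.mem_inf.2 ⟨hN.conj_mem a haN u, hconjH a haH⟩))
  obtain ⟨s, rfl⟩ : ∃ s, r = 2 * s + 1 := by
    rcases Int.even_or_odd r with ⟨w, hw⟩ | hodd
    · exfalso
      have h1 : (u * a * u⁻¹) ^ 2 ^ (n - 1) = 1 := by
        rw [← hr, hw, ← zpow_natCast, ← zpow_mul]
        refine orderOf_dvd_iff_zpow_eq_one.1 ?_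
        rw [hao]
        refine ⟨w, ?_⟩
        conv_rhs => rw [show n = n - 1 + 1 by omega]
        push_cast
        ring
      rw [conj_pow] at h1
      have h2 : a ^ 2 ^ (n - 1) = 1 := by
        rw [mul_inv_eq_one] at h1
        simpa using h1
      have h3 := Nat.le_of_dvd (by positivity) (hao ▸ orderOf_dvd_of_pow_eq_one h2)
      exact absurd h3 (Nat.pow_lt_pow_right one_lt_two (by omega)).not_ge
    · exact hodd
  obtain ⟨i, hi⟩ := Subgroup.mem_zpowers_iff.1 (haz (Subgroup.mem_inf.2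
    ⟨(QuotientGroup.eq_one_iff (e⁻¹ * (u * e * u⁻¹))).1 (by
      show π _ = 1
      rw [map_mul, map_inv, map_mul, map_mul, map_inv, hQcomm u e, mul_inv_cancel_right,
        inv_mul_cancel]),
      H.mul_mem (H.inv_mem heH) (hconjH e heH)⟩))
  have hue : u * e * u⁻¹ = e * a ^ i := by rw [hi, mul_inv_cancel_left]
  have huu : u * u ∈ Subgroup.normalizer (H : Set G) := Subgroup.mul_mem _ hu hu
  have huuH : u * u ∈ H := by
    refine hsq _ huu (0, i * (1 + s)) (0, 2 * s * s + 2 * s) ?_ ?_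
    · calc u * u * e * (u * u)⁻¹ = u * (u * e * u⁻¹) * u⁻¹ := by group
        _ = (u * e * u⁻¹) * (u * a * u⁻¹) ^ i := by
            conv_lhs => rw [hue]
            rw [conj_zpow]
            group
        _ = _ := by
          rw [hue, ← hr, ← zpow_mul, mul_assoc, ← zpow_add, zpow_zero, one_mul, ← zpow_mul]
          congr 2
          ring
    · calc u * u * a * (u * u)⁻¹ = u * (u * a * u⁻¹) * u⁻¹ := by group
        _ = (u * a * u⁻¹) ^ (2 * s + 1) := by rw [conj_zpow, hr]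
        _ = _ := by
          rw [← hr, ← zpow_mul, zpow_zero, one_mul, ← zpow_mul, ← zpow_one_add]
          congr 1
          ring
  refine hsq u hu (0, i / 2) (0, s) ?_ ?_
  swap
  · rw [← hr, zpow_zero, one_mul, ← zpow_mul, ← zpow_one_add]
    congr 1
    ring
  suffices h2i : 2 ∣ i by
    obtain ⟨w, rfl⟩ := h2i
    rw [hue, zpow_zero, one_mul, ← zpow_mul, Int.mul_ediv_cancel_left _ (by norm_num), mul_comm]
  have hcancel : ∀ d : ℤ, a ^ d = a ^ i → ((2 : ℤ) ^ n ∣ d - i) := fun d hd => by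
    have h1 : a ^ (d - i) = 1 := by rw [zpow_sub, hd, mul_inv_cancel]
    have h2 := orderOf_dvd_iff_zpow_eq_one.2 h1
    rw [hao] at h2
    exact_mod_cast h2
  by_cases hcase : π u ∈ Subgroup.zpowers (π e)
  · obtain ⟨j, hj⟩ := Subgroup.mem_zpowers_iff.1 hcase
    have hm : (e ^ j)⁻¹ * u ∈ N := QuotientGroup.eq.1 ((map_zpow π e j).trans hj)
    have hcomm : u * a = a * u := by
      have h1 : ((e ^ j)⁻¹ * u) * a = a * ((e ^ j)⁻¹ * u) := by
        letI := IsCyclic.commGroup (α := N)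
        exact congrArg Subtype.val (mul_comm (⟨_, hm⟩ : N) ⟨a, haN⟩)
      have h2 : e ^ j * a = a * e ^ j := hab _ (H.zpow_mem heH j) a haH
      calc u * a = e ^ j * (((e ^ j)⁻¹ * u) * a) := by group
        _ = (e ^ j * a) * ((e ^ j)⁻¹ * u) := by rw [h1]; group
        _ = a * u := by rw [h2]; group
    have h1 : u * u * e * (u * u)⁻¹ = e := by
      rw [hab _ huuH e heH, mul_inv_cancel_right]
    have h3 : u * u * e * (u * u)⁻¹ = e * a ^ (i + i) := by
      calc u * u * e * (u * u)⁻¹ = u * (u * e * u⁻¹) * u⁻¹ := by group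
        _ = (u * e * u⁻¹) * (u * a * u⁻¹) ^ i := by
            conv_lhs => rw [hue]
            rw [conj_zpow]
            group
        _ = _ := by rw [hue, hcomm, mul_inv_cancel_right, mul_assoc, ← zpow_add]
    rw [h1, left_eq_mul] at h3
    have h4 := orderOf_dvd_iff_zpow_eq_one.2 h3
    rw [hao] at h4
    push_cast at h4
    have h5 : (4 : ℤ) ∣ i + i := (pow_dvd_pow (2 : ℤ) hn).trans h4
    omega
  · obtain ⟨b, hb⟩ := IsPGroup.iff_orderOf.1 (hG.to_quotient N) (π u)
    obtain ⟨c, hc⟩ := IsPGroup.iff_orderOf.1 (hG.to_quotient N) (π e)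
    have hcb : c < b := by
      by_contra h
      refine hcase (mem_zpowers_of_pow_orderOf ?_)
      rw [hc, show c = b + (c - b) by omega, pow_add, pow_mul,
        show π u ^ 2 ^ b = 1 from hb ▸ pow_orderOf_eq_one _, one_pow]
    obtain ⟨j, hj⟩ := Subgroup.mem_zpowers_iff.1 (mem_zpowers_of_pow_orderOf (x := π e) (y := π u)
      (by rw [hb, show b = c + (b - c) by omega, pow_add, pow_mul,
        show π e ^ 2 ^ c = 1 from hc ▸ pow_orderOf_eq_one _, one_pow]))
    obtain ⟨l, rfl⟩ : ∃ l, j = 2 * l := by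
      rcases Int.even_or_odd j with ⟨w, hw⟩ | ⟨w, hw⟩
      · exact ⟨w, by omega⟩
      · exfalso
        have h1 : (π e) ^ (2 ^ (b - 1) : ℕ) = 1 := by
          rw [show b - 1 = c + (b - 1 - c) by omega, pow_add, pow_mul,
            show π e ^ 2 ^ c = 1 from hc ▸ pow_orderOf_eq_one _, one_pow]
        rw [← hj, hw, ← zpow_natCast, ← zpow_mul] at h1
        have h2 := orderOf_dvd_iff_zpow_eq_one.2 h1
        rw [hb] at h2
        push_cast at h2
        conv_lhs at h2 => rw [show b = b - 1 + 1 by omega, pow_succ']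
        have h3 : (2 : ℤ) ∣ 2 * w + 1 :=
          (mul_dvd_mul_iff_right (pow_ne_zero _ (two_ne_zero : (2 : ℤ) ≠ 0))).1 h2
        omega
    have hv : u ^ (2 * l) ∈ H := by
      rw [zpow_mul, zpow_two]
      exact H.zpow_mem huuH l
    obtain ⟨m, hm⟩ := Subgroup.mem_zpowers_iff.1 (haz (Subgroup.mem_inf.2
      ⟨(QuotientGroup.eq.1 ((map_zpow π u (2 * l)).trans hj) : (u ^ (2 * l))⁻¹ * e ∈ N),
        H.mul_mem (H.inv_mem hv) heH⟩))
    have he' : e = u ^ (2 * l) * a ^ m := by rw [hm, mul_inv_cancel_left]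
    have h1 : u * e * u⁻¹ = e * a ^ (2 * s * m) := by
      calc u * e * u⁻¹ = u ^ (2 * l) * (u * a * u⁻¹) ^ m := by rw [he', conj_zpow]; group
        _ = _ := by
          rw [← hr, he', ← zpow_mul, mul_assoc, ← zpow_add]
          congr 2
          ring
    rw [hue, mul_right_inj] at h1
    have h4 : (4 : ℤ) ∣ 2 * s * m - i := (pow_dvd_pow (2 : ℤ) hn).trans (hcancel _ h1.symm)
    have h5 : (2 : ℤ) ∣ 2 * s * m := ⟨s * m, by ring⟩
    omega

end GroupPart

/-! ### The fusion part -/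

variable {Ω : Type u} [Group Ω] {S : Subgroup Ω} [Finite S] {F : FusionSystem S}
  {P R : Subgroup Ω}

/-- If automorphisms of `P ⊓ R` trivial modulo the characteristic subgroup `L` are 2-elements, then
elements of `P` acting on `P ⊓ R` trivially modulo `L` lie in the radical centric subgroup `R`. -/
theorem mem_of_trivial (hS : IsPGroup 2 S) (hP : F.StronglyClosed P) (hc : F.IsCentric R)
    (hr : F.IsRadical 2 R) {R0 : Subgroup Ω} (hR0 : R0 = P ⊓ R) (L : Subgroup R0)
    [hL : L.Characteristic]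
    (hgood : ∀ β : MulAut R0, (∀ x, x⁻¹ * β x ∈ L) → ∃ a : ℕ, β ^ 2 ^ a = 1)
    {t : Ω} (ht : t ∈ P) (htn : t ∈ Subgroup.normalizer (R0 : Set Ω))
    (htriv : ∀ x ∈ R0, x⁻¹ * cj t x ∈ L.map R0.subtype) : t ∈ R := by
  classical
  haveI : Fact (Nat.Prime 2) := ⟨Nat.prime_two⟩
  have hRS := hc.1
  have hPn := stronglyClosed_le_normalizer hP
  set L' := L.map R0.subtype with hL'
  have hR0R : R0 ≤ R := hR0.le.trans inf_le_right
  have hR0S : R0 ≤ S := hR0R.trans hRS
  have : Finite R := finite_of_le hRS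
  have : Finite R0 := finite_of_le hR0S
  have hLR0 : L' ≤ R0 := Subgroup.map_subtype_le _
  have hLinv : ∀ g ∈ Subgroup.normalizer (R0 : Set Ω), ∀ x ∈ L', cj g x ∈ L' := by
    intro g hg x hx
    obtain ⟨y, hy, rfl⟩ := hx
    refine ⟨R0.normalizerMonoidHom ⟨g, hg⟩ y, ?_, rfl⟩
    exact (Subgroup.characteristic_iff_map_eq.1 hL (R0.normalizerMonoidHom ⟨g, hg⟩)).le
      ⟨y, hy, rfl⟩
  -- the subgroup of such elements
  let T : Subgroup Ω :=
    { carrier := {t | t ∈ P ∧ t ∈ Subgroup.normalizer (R0 : Set Ω) ∧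
        ∀ x ∈ R0, x⁻¹ * cj t x ∈ L'}
      one_mem' := ⟨P.one_mem, Subgroup.one_mem _, fun x _ => by
        rw [cj_one, inv_mul_cancel]; exact L'.one_mem⟩
      mul_mem' := by
        rintro a b ⟨ha, han, hae⟩ ⟨hb, hbn, hbe⟩
        refine ⟨P.mul_mem ha hb, Subgroup.mul_mem _ han hbn, fun x hx => ?_⟩
        have h1 := L'.mul_mem (hbe x hx)
          (hae (cj b x) ((Subgroup.mem_normalizer_iff.1 hbn x).1 hx))
        rw [cj_mul]
        simpa [mul_assoc] using h1
      inv_mem' := by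
        rintro a ⟨ha, han, hae⟩
        refine ⟨P.inv_mem ha, Subgroup.inv_mem _ han, fun x hx => ?_⟩
        have h1 := L'.inv_mem (hae (cj a⁻¹ x)
          ((Subgroup.mem_normalizer_iff.1 (Subgroup.inv_mem _ han) x).1 hx))
        rw [cj_cj_inv] at h1
        simpa using h1 }
  have hRn : R ≤ Subgroup.normalizer (R0 : Set Ω) := by
    intro g hg
    rw [Subgroup.mem_normalizer_iff]
    intro x
    rw [hR0, Subgroup.mem_inf, Subgroup.mem_inf,
      ← Subgroup.mem_normalizer_iff.1 (hPn (hRS hg)) x,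
      ← Subgroup.mem_normalizer_iff.1 (Subgroup.le_normalizer hg) x]
  have hRT : R ≤ Subgroup.normalizer (T : Set Ω) := by
    have key : ∀ g ∈ R, ∀ a ∈ T, g * a * g⁻¹ ∈ T := by
      rintro g hg a ⟨ha, han, hae⟩
      refine ⟨(Subgroup.mem_normalizer_iff.1 (hPn (hRS hg)) a).1 ha,
        Subgroup.mul_mem _ (Subgroup.mul_mem _ (hRn hg) han) (Subgroup.inv_mem _ (hRn hg)),
        fun x hx => ?_⟩
      have hy : cj g⁻¹ x ∈ R0 :=
        (Subgroup.mem_normalizer_iff.1 (Subgroup.inv_mem _ (hRn hg)) x).1 hx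
      have h1 := hLinv g (hRn hg) _ (hae _ hy)
      simpa [cj, mul_assoc] using h1
    intro g hg
    rw [Subgroup.mem_normalizer_iff]
    exact fun x => ⟨key g hg x, fun hx => by
      simpa [mul_assoc] using key g⁻¹ (R.inv_mem hg) _ hx⟩
  suffices hTR : T ≤ R from hTR ⟨ht, htn, htriv⟩
  by_contra hTR
  have hTS : T ≤ S := fun x hx => hP.1 hx.1
  have : Finite ↥(R ⊔ T) := finite_of_le (sup_le hRS hTS)
  obtain ⟨g, hg, hgR⟩ := SetLike.exists_of_lt
    (lt_inf_normalizer (isPGroup_of_le (sup_le hRS hTS) hS) (left_lt_sup.2 hTR))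
  obtain ⟨hgT, hgN⟩ := Subgroup.mem_inf.1 hg
  rw [← SetLike.mem_coe, Subgroup.coe_mul_of_left_le_normalizer_right _ _ hRT] at hgT
  obtain ⟨c, hcR, b, hb, rfl⟩ := hgT
  have hbN : b ∈ Subgroup.normalizer (R : Set Ω) :=
    (Subgroup.mul_mem_cancel_left _ (Subgroup.le_normalizer hcR)).mp hgN
  refine hgR (R.mul_mem hcR ?_)
  -- `b` induces an element of a normal 2-subgroup of the automiser
  let W : ℕ → Subgroup Ω := fun i => if i = 0 then L' else if i = 1 then R0 else R
  have hR0inv : ∀ α ∈ F.autGroup R, ∀ x ∈ R0, autFun α x ∈ R0 := fun α hα x hx =>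
    hR0.ge ⟨(stronglyClosed_iff.1 hP).2 R _ (isMor_autFun hRS hα) x (hR0R hx) (hR0.le hx).1,
      autFun_mem α (hR0R hx)⟩
  have hrestrict : ∀ α ∈ F.autGroup R, ∃ β : MulAut R0, ∀ x ∈ R0, autFun β x = autFun α x :=
    fun α hα => by
      have h1 := (isMor_autFun hRS hα).restrict hR0R
      obtain ⟨β, -, hβ⟩ := exists_aut h1 (h1.img_eq_self (hR0inv α hα))
      exact ⟨β, hβ⟩
  have hW : ∀ α ∈ F.autGroup R, ∀ i, ∀ x ∈ R, x ∈ W i → autFun α x ∈ W i := by
    intro α hα i x hx hxW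
    by_cases h0 : i = 0
    · simp only [W, h0, if_true] at hxW ⊢
      obtain ⟨β, hβ⟩ := hrestrict α hα
      obtain ⟨y, hy, rfl⟩ := hxW
      refine ⟨β y, (Subgroup.characteristic_iff_map_eq.1 hL β).le ⟨y, hy, rfl⟩, ?_⟩
      exact ((autFun_coe β y).symm.trans (hβ _ y.2))
    by_cases h1 : i = 1
    · simp only [W, h1, one_ne_zero, if_false, if_true] at hxW ⊢
      exact hR0inv α hα x hxW
    · simp only [W, h0, h1, if_false] at hxW ⊢
      exact autFun_mem α hx
  set K := seriesStab (F.autGroup R) 2 W hW with hK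
  have hKp : IsPGroup 2 K := by
    rintro ⟨α, hα, hαs⟩
    obtain ⟨β, hβ⟩ := hrestrict α hα
    obtain ⟨a, ha⟩ := hgood β fun x => by
      have h0 : (x : Ω)⁻¹ * autFun α x ∈ L' := by
        have h1 := hαs 0 (by norm_num) x (hR0R x.2) (by simp [W])
        simpa [W] using h1
      obtain ⟨y, hy, hye⟩ := h0
      have : y = x⁻¹ * β x := Subtype.ext <| by
        show (y : Ω) = (x : Ω)⁻¹ * ((β x : R0) : Ω)
        rw [← autFun_coe β x, hβ _ x.2]
        exact hye
      exact this ▸ hy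
    have hpow : ∀ (m : ℕ), ∀ x ∈ R0, autFun (β ^ m) x = autFun (α ^ m) x := by
      intro m
      induction m with
      | zero => intro x hx; rw [pow_zero, pow_zero, autFun_one hx, autFun_one (hR0R hx)]
      | succ m ih =>
        intro x hx
        rw [pow_succ, pow_succ, autFun_mul _ _ hx, autFun_mul _ _ (hR0R hx), hβ x hx,
          ih _ (hR0inv α hα x hx)]
    have hmem : ∀ (m : ℕ), α ^ m ∈ K := fun m => K.pow_mem ⟨hα, hαs⟩ m
    let W' : ℕ → Set Ω := fun i => if i = 0 then {1} else if i = 1 then R0 else R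
    have h2 : IsPGroup 2 (Subgroup.zpowers (α ^ 2 ^ a)) := by
      refine isPGroup_stabilizing hS hRS 2 W' (by simp [W']) (fun x hx => by simp [W', hx])
        fun γ hγ i hi x hx hxW => ?_
      have hfix : ∀ x ∈ R0, autFun (α ^ 2 ^ a) x = x := fun x hx => by
        rw [← hpow _ x hx, ha, autFun_one hx]
      obtain ⟨k, rfl⟩ := mem_powers_iff_mem_zpowers.2 hγ
      have hfix' : ∀ (k : ℕ), ∀ x ∈ R0, autFun ((α ^ 2 ^ a) ^ k) x = x := by
        intro k
        induction k with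
        | zero => intro x hx; rw [pow_zero, autFun_one (hR0R hx)]
        | succ k ih =>
          intro x hx
          rw [pow_succ, autFun_mul _ _ (hR0R hx), hfix x hx, ih x hx]
      interval_cases i
      · simp only [W', Nat.zero_add, one_ne_zero, if_false, if_true] at hxW ⊢
        rw [hfix' k x hxW, inv_mul_cancel]
        exact Set.mem_singleton 1
      · simp only [W', one_ne_zero, if_false, if_true]
        have h3 := (hmem (2 ^ a * k)).2 1 (by norm_num) x hx (by simpa [W] using hx)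
        rw [pow_mul] at h3
        simpa [W] using h3
    obtain ⟨c, hc'⟩ := h2 ⟨α ^ 2 ^ a, Subgroup.mem_zpowers _⟩
    refine ⟨a + c, Subtype.ext ?_⟩
    show α ^ 2 ^ (a + c) = 1
    rw [pow_add, pow_mul]
    exact congrArg Subtype.val hc'
  have hKI : K ≤ Inn R :=
    le_inn_of_radical hr (fun α hα => hα.1) hKp fun a ha k hk => seriesStab_conj ha hk
  obtain ⟨α, hα, e⟩ := exists_autInducedBy (hTS hb) hbN
  refine mem_of_cj_inn hRS (centric_centralizer_le hc) (hTS hb)
    (hKI ⟨autInducedBy_le F hRS hα, fun i hi x hx hxW => ?_⟩) e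
  rw [e x hx]
  interval_cases i
  · simp only [W, Nat.zero_add, one_ne_zero, if_false, if_true] at hxW ⊢
    exact hb.2.2 x hxW
  · simp only [W, one_ne_zero, if_false, if_true]
    refine hR0.ge ⟨?_, R.mul_mem (R.inv_mem hx) ((Subgroup.mem_normalizer_iff.1 hbN x).1 hx)⟩
    have h1 : x⁻¹ * b * x ∈ P := by
      have h2 := (Subgroup.mem_normalizer_iff.1 (hPn (S.inv_mem (hRS hx))) b).1 hb.1
      simpa using h2
    have h2 := P.mul_mem h1 (P.inv_mem hb.1)
    simpa [cj, mul_assoc] using h2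

theorem isNormal_two (hS : IsPGroup 2 S) (hF : F.IsSaturated 2) (hP : F.StronglyClosed P)
    (hm : IsMetacyclic P) (hd : ¬ ∃ m : ℕ, Nonempty (↥P ≃* DihedralGroup m))
    (hq : ¬ ∃ m : ℕ, Nonempty (↥P ≃* QuaternionGroup m)) (hsd : ¬ IsQuasiDihedral ↥P) :
    F.IsNormal P := by
  classical
  haveI : Fact (Nat.Prime 2) := ⟨Nat.prime_two⟩
  by_cases hPab : ∀ x ∈ P, ∀ y ∈ P, x * y = y * x
  · exact isNormal_of_abelian hS hF hP hPab
  refine isNormal_of_stronglyClosed hS hF hP fun R hc hr => ?_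
  by_contra hPR
  have : Finite P := finite_of_le hP.1
  have hPp : IsPGroup 2 P := isPGroup_of_le hP.1 hS
  set H : Subgroup P := (P ⊓ R).subgroupOf P with hHdef
  have hH : H ≠ ⊤ := fun h => hPR fun x hx =>
    (Subgroup.mem_inf.1 (Subgroup.mem_subgroupOf.1 (h ▸ Subgroup.mem_top (⟨x, hx⟩ : P)))).2
  have heq : ↥H ≃* ↥(P ⊓ R) := Subgroup.subgroupOfEquivOfLe inf_le_left
  have hR0m : IsMetacyclic ↥(P ⊓ R) :=
    CfsgLib.OddOrder.isMetacyclic_of_surjective heq.toMonoidHom heq.surjective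
      (isMetacyclic_subgroup hm H)
  have hR0p : IsPGroup 2 ↥(P ⊓ R) := hPp.to_subgroup H |>.of_equiv heq
  have : Finite ↥(P ⊓ R) := Finite.of_equiv _ heq.toEquiv
  have hnorm : ∀ t : P, t ∈ Subgroup.normalizer (H : Set P) →
      (t : Ω) ∈ Subgroup.normalizer ((P ⊓ R : Subgroup Ω) : Set Ω) := by
    intro t ht
    rw [Subgroup.mem_normalizer_iff]
    intro x
    constructor
    · intro hx
      exact (Subgroup.mem_normalizer_iff.1 ht ⟨x, hx.1⟩).1 hx
    · intro hx
      have hxP : x ∈ P := by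
        have h1 := P.mul_mem (P.mul_mem (P.inv_mem t.2) (Subgroup.mem_inf.1 hx).1) t.2
        simpa [mul_assoc] using h1
      exact (Subgroup.mem_normalizer_iff.1 ht ⟨x, hxP⟩).2 hx
  haveI := hPp.isNilpotent
  have hnc : NormalizerCondition P := Group.normalizerCondition_of_isNilpotent
  by_cases hA : IsPGroup 2 (MulAut ↥(P ⊓ R))
  · obtain ⟨u, hu, huH⟩ := SetLike.exists_of_lt
      (hnc H (lt_top_iff_ne_top.2 hH))
    refine huH (Subgroup.mem_subgroupOf.2 ⟨u.2, mem_of_trivial hS hP hc hr rfl ⊤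
      (fun β _ => hA β) u.2 (hnorm u hu) fun x hx => ?_⟩)
    rw [← MonoidHom.range_eq_map, Subgroup.range_subtype]
    exact (P ⊓ R).mul_mem ((P ⊓ R).inv_mem hx) ((Subgroup.mem_normalizer_iff.1 (hnorm u hu) x).1 hx)
  have : Finite (MulAut ↥(P ⊓ R)) := finite_mulAut (inf_le_left.trans hP.1)
  have hgood : ∀ β : MulAut ↥(P ⊓ R), (∀ x, x⁻¹ * β x ∈ frattini ↥(P ⊓ R)) →
      ∃ a : ℕ, β ^ 2 ^ a = 1 := by
    intro β hβ
    have hpow : ∀ (m : ℕ) (x), x⁻¹ * (β ^ m) x ∈ frattini ↥(P ⊓ R) := by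
      intro m
      induction m with
      | zero => intro x; simp
      | succ m ih =>
        intro x
        rw [pow_succ, MulAut.mul_apply]
        have := (frattini ↥(P ⊓ R)).mul_mem (hβ x) (ih (β x))
        simpa [mul_assoc] using this
    obtain ⟨a, m, hm', hm2⟩ := Nat.exists_eq_pow_mul_and_not_dvd (orderOf_pos β).ne' 2 (by norm_num)
    refine ⟨a, ?_⟩
    by_contra hne
    have hγo : orderOf (β ^ 2 ^ a) = m := by
      rw [orderOf_pow_of_dvd (pow_ne_zero a two_ne_zero) (hm2 ▸ dvd_mul_right _ _), hm2,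
        Nat.mul_div_cancel_left _ (Nat.two_pow_pos a)]
    have hm1 : m ≠ 1 := fun h => hne (orderOf_eq_one_iff.1 (hγo.trans h))
    obtain ⟨q, hq', hqd⟩ := Nat.exists_prime_and_dvd hm1
    haveI := Fact.mk hq'
    have hm0 : m ≠ 0 := fun h => hm' (h ▸ dvd_zero 2)
    have ho : orderOf ((β ^ 2 ^ a) ^ (m / q)) = q := by
      rw [orderOf_pow_of_dvd (Nat.div_pos (Nat.le_of_dvd (Nat.pos_of_ne_zero hm0) hqd)
        hq'.pos).ne' (by rw [hγo]; exact Nat.div_dvd_of_dvd hqd), hγo, Nat.div_div_self hqd hm0]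
    have h1 := CfsgLib.PGroups.MetacyclicTwoAut.eq_one_of_trivial (r := q) hR0p
      (fun h => hm' (h ▸ hqd)) (α := (β ^ 2 ^ a) ^ (m / q))
      (ho ▸ pow_orderOf_eq_one _) (fun x => by rw [← pow_mul]; exact hpow _ x)
    rw [h1, orderOf_one] at ho
    exact hq'.one_lt.ne ho
  have hT : ∀ t : P, t ∈ Subgroup.normalizer (H : Set P) →
      (∀ x : ↥(P ⊓ R), (x : Ω)⁻¹ * cj (t : Ω) x ∈ (frattini ↥(P ⊓ R)).map (P ⊓ R).subtype) →
      t ∈ H := fun t ht h => Subgroup.mem_subgroupOf.2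
    ⟨t.2, mem_of_trivial hS hP hc hr rfl _ hgood t.2 (hnorm t ht) fun x hx => h ⟨x, hx⟩⟩
  have hcent : Subgroup.centralizer (H : Set P) ≤ H := by
    intro t ht
    refine hT t (Subgroup.centralizer_le_normalizer _ ht) fun x => ?_
    have h1 : (x : Ω) * t = t * x :=
      congrArg Subtype.val (Subgroup.mem_centralizer_iff.1 ht ⟨x, x.2.1⟩ x.2)
    rw [cj_apply, ← h1, mul_inv_cancel_right, inv_mul_cancel]
    exact Subgroup.one_mem _
  obtain ⟨N, hN⟩ := IsPGroup.iff_card.1 hPp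
  have hclass : Group.nilpotencyClass P = N - 1 → False := by
    intro hcl
    have hN3 : 3 ≤ N := by
      by_contra h
      refine hPab fun x hx y hy => ?_
      rcases (show N ≤ 1 ∨ N = 2 by omega) with h1 | rfl
      · have hcyc : IsCyclic P := by
          rcases (show N = 0 ∨ N = 1 by omega) with rfl | rfl
          · haveI : Subsingleton P := Finite.card_le_one_iff_subsingleton.1 (by simp [hN])
            exact isCyclic_of_subsingleton
          · exact isCyclic_of_prime_card (p := 2) (by simpa using hN)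
        letI := hcyc.commGroup
        exact congrArg Subtype.val (mul_comm (⟨x, hx⟩ : P) ⟨y, hy⟩)
      · exact congrArg Subtype.val
          ((IsPGroup.isMulCommutative_of_card_eq_prime_sq hN).is_comm.comm
            (⟨x, hx⟩ : P) ⟨y, hy⟩)
    rcases CfsgLib.PGroups.maximalClass_two_classification hN3 hN hcl with
      ⟨k, hk⟩ | ⟨k, hk, a, b, ha, hb, hab⟩ | ⟨k, hk⟩
    · exact hd ⟨_, hk⟩
    · exact hsd ⟨k + 3, by omega, hk, a, b, ha, hb, hab⟩
    · exact hq ⟨_, hk⟩
  obtain ⟨r, α, hr', hr2, hα, hα1⟩ := CfsgLib.PGroups.MetacyclicTwoAut.exists_odd_prime_aut hA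
  haveI := Fact.mk hr'
  rcases CfsgLib.PGroups.MetacyclicTwoAut.comm_or_quaternion hR0p hR0m hr2 hα hα1 with hab | hq8
  swap
  · obtain ⟨q⟩ := hq8
    refine hclass (CfsgLib.PGroups.maximalClass_of_centralizer_le hN (B := H) ?_ ?_ hcent)
    · rw [Nat.card_congr (heq.trans q).toEquiv, Nat.card_eq_fintype_card, QuaternionGroup.card]
      norm_num
    · intro hcomm
      have h1 := hcomm.is_comm.comm ((heq.trans q).symm (QuaternionGroup.a 1))
        ((heq.trans q).symm (QuaternionGroup.xa 0))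
      rw [← map_mul, ← map_mul] at h1
      exact absurd ((heq.trans q).symm.injective h1) (by decide)
  obtain ⟨n, a, hn1, -, hao, hdis, htop⟩ :=
    CfsgLib.PGroups.MetacyclicTwoAut.homocyclic hR0p hR0m hr2 hα hα1 hab
  have hHab : ∀ x ∈ H, ∀ y ∈ H, x * y = y * x := fun x hx y hy =>
    congrArg Subtype.val (heq.injective (by rw [map_mul, map_mul, hab] : heq (⟨x, hx⟩ * ⟨y, hy⟩) = heq (⟨y, hy⟩ * ⟨x, hx⟩)))
  haveI : (Subgroup.zpowers (α a)).Normal := ⟨fun x hx y => by
    rw [hab y x, mul_inv_cancel_right]; exact hx⟩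
  have hR0card : Nat.card ↥(P ⊓ R) = 2 ^ n * 2 ^ n := by
    rw [← (Subgroup.isComplement'_of_disjoint_and_mul_eq_univ (disjoint_iff.2 hdis)
      (by rw [← Subgroup.coe_mul_of_left_le_normalizer_right _ _
            (le_top.trans (Subgroup.normalizer_eq_top (H := Subgroup.zpowers (α a))).ge), htop]
          rfl)).card_mul, Nat.card_zpowers, Nat.card_zpowers, α.orderOf_eq, hao]
  have hR0exp : ∀ x : ↥(P ⊓ R), x ^ 2 ^ n = 1 := by
    intro x
    obtain ⟨y, hy, z, hz, rfl⟩ := Subgroup.mem_sup_of_normal_right.1 (htop ▸ Subgroup.mem_top x)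
    obtain ⟨i, rfl⟩ := Subgroup.mem_zpowers_iff.1 hy
    obtain ⟨j, rfl⟩ := Subgroup.mem_zpowers_iff.1 hz
    rw [Commute.mul_pow (hab _ _), ← zpow_natCast, ← zpow_natCast, zpow_comm a, zpow_comm (α a),
      zpow_natCast, zpow_natCast, ← map_pow, ← hao, pow_orderOf_eq_one, map_one, one_zpow,
      one_zpow, one_mul]
  have hHcard : Nat.card H = 2 ^ n * 2 ^ n := (Nat.card_congr heq.toEquiv).trans hR0card
  rcases (show n = 1 ∨ 2 ≤ n by omega) with rfl | hn
  · refine hclass (CfsgLib.PGroups.maximalClass_of_centralizer_eq hN (A := H)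
      (by rw [hHcard]; norm_num) (le_antisymm hcent fun x hx y hy => hHab y hy x hx))
  · have hle := normalizer_le_of_squares hPp hm H hHab n hn
      (fun x hx => congrArg Subtype.val (heq.injective (by rw [map_pow, hR0exp, map_one] :
        heq ((⟨x, hx⟩ : H) ^ 2 ^ n) = heq 1)))
      hHcard fun t ht h => hT t ht fun x => by
        obtain ⟨y, hy, e⟩ := h ⟨x, x.2.1⟩ x.2
        refine ⟨(⟨y, Subgroup.mem_subgroupOf.1 hy⟩ : ↥(P ⊓ R)) ^ 2,
          CfsgLib.PGroups.pow_mem_frattini hR0p _, ?_⟩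
        show (y : Ω) ^ 2 = _
        exact (congrArg Subtype.val e).symm
    exact ((hnc H
      (lt_top_iff_ne_top.2 hH)).trans_le hle).false

end CfsgLib.Fusion.MetacyclicTwo
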