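import Mathlib
import Cfsg.Agent.Lib.Fusion.Saturation
import Cfsg.Agent.Lib.Fusion.Alperin
import Cfsg.Agent.Lib.Base.Cores

/-!
# Tools for the saturation criterion

Stabilizers of subgroups inside an automizer, natural families of normal `p`-subgroups of the
automizers, and the replacement of a map by maps with larger sources.
-/

set_option autoImplicit false
set_option linter.unusedSectionVars false

namespace CfsgLib.Fusion

open Cfsg Cfsg.FusionSystem

variable {Ω : Type*} [Group Ω] {S : Subgroup Ω} {F : FusionSystem S}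

/-- The automorphisms of `R` stabilizing `C`. -/
def stabIn (R C : Subgroup Ω) : Subgroup (MulAut R) where
  carrier := {δ | ∀ x : R, ((δ x : Ω) ∈ C ↔ (x : Ω) ∈ C)}
  one_mem' := fun _ => Iff.rfl
  mul_mem' := fun {a b} ha hb x => (ha (b x)).trans (hb x)
  inv_mem' := fun {a} ha x => by
    have h := ha (a⁻¹ x)
    rw [MulAut.apply_inv_self] at h
    exact h.symm

theorem stabIn_maps {R C : Subgroup Ω} (hCR : C ≤ R) {δ : MulAut R} (hδ : δ ∈ stabIn R C) {x : Ω}
    (hx : x ∈ C) : autFun δ x ∈ C := by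
  rw [autFun_of_mem _ (hCR hx)]
  exact (hδ ⟨x, hCR hx⟩).mpr hx

theorem mem_stabIn_of_maps {R C : Subgroup Ω} [Finite C] (hCR : C ≤ R) {δ : MulAut R}
    (h : ∀ x ∈ C, autFun δ x ∈ C) : δ ∈ stabIn R C := by
  have hmap : ∀ x : R, (x : Ω) ∈ C → (δ x : Ω) ∈ C := fun x hx => by
    rw [← autFun_coe]; exact h x hx
  let f : C → C := fun x => ⟨(δ ⟨x, hCR x.2⟩ : Ω), hmap _ x.2⟩
  have hf : Function.Injective f := fun a b e => by
    have := δ.injective (Subtype.ext (congrArg (fun z : C => (z : Ω)) e) :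
      δ ⟨a, hCR a.2⟩ = δ ⟨b, hCR b.2⟩)
    exact Subtype.ext (congrArg (fun z : R => (z : Ω)) this)
  intro x
  refine ⟨fun hx => ?_, hmap x⟩
  obtain ⟨y, hy⟩ := (Finite.injective_iff_surjective.mp hf) ⟨_, hx⟩
  have : δ ⟨y, hCR y.2⟩ = δ x := Subtype.ext (congrArg (fun z : C => (z : Ω)) hy :)
  rw [← δ.injective this]
  exact y.2

theorem mem_stabIn_of_normalizer {R C : Subgroup Ω} (hCR : C ≤ R) {δ : MulAut R} {g : Ω}
    (hg : g ∈ Subgroup.normalizer (C : Set Ω)) (e : ∀ x ∈ R, autFun δ x = cj g x) :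
    δ ∈ stabIn R C := fun x => by
  rw [← autFun_coe, e x x.2]
  exact ((Subgroup.mem_normalizer_iff.mp hg x).symm)

theorem normalizer_of_mem_stabIn {R C : Subgroup Ω} (hCR : C ≤ R) {δ : MulAut R} {g : Ω}
    (hgR : g ∈ Subgroup.normalizer (R : Set Ω)) (hδ : δ ∈ stabIn R C)
    (e : ∀ x ∈ R, autFun δ x = cj g x) : g ∈ Subgroup.normalizer (C : Set Ω) := by
  refine Subgroup.mem_normalizer_iff.mpr fun x => ⟨fun hx => ?_, fun hx => ?_⟩
  · have := stabIn_maps hCR hδ hx
    rwa [e x (hCR hx)] at this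
  · have hxR : x ∈ R := (Subgroup.mem_normalizer_iff.mp hgR x).mpr (hCR hx)
    refine (hδ ⟨x, hxR⟩).mp ?_
    rw [← autFun_coe, e x hxR]
    exact hx

/-- Restriction from the stabilizer. -/
def resC {R C : Subgroup Ω} (hCR : C ≤ R) : ↥(stabIn R C) →* MulAut C where
  toFun δ :=
    { toFun := fun x => ⟨(δ.1 ⟨x, hCR x.2⟩ : Ω), (δ.2 ⟨x, hCR x.2⟩).mpr x.2⟩
      invFun := fun x => ⟨((δ⁻¹).1 ⟨x, hCR x.2⟩ : Ω), ((δ⁻¹).2 ⟨x, hCR x.2⟩).mpr x.2⟩
      left_inv := fun x => by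
        refine Subtype.ext ?_
        show ((δ.1⁻¹ (δ.1 ⟨x, hCR x.2⟩) : R) : Ω) = x
        rw [MulAut.inv_apply_self]
      right_inv := fun x => by
        refine Subtype.ext ?_
        show ((δ.1 (δ.1⁻¹ ⟨x, hCR x.2⟩) : R) : Ω) = x
        rw [MulAut.apply_inv_self]
      map_mul' := fun x y => Subtype.ext (congrArg (fun z : R => (z : Ω))
        (map_mul δ.1 (⟨x, hCR x.2⟩ : R) ⟨y, hCR y.2⟩)) }
  map_one' := MulEquiv.ext fun _ => rfl
  map_mul' _ _ := MulEquiv.ext fun _ => rfl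

theorem autFun_resC {R C : Subgroup Ω} (hCR : C ≤ R) (δ : ↥(stabIn R C)) {x : Ω} (hx : x ∈ C) :
    autFun (resC hCR δ) x = autFun (δ : MulAut R) x := by
  rw [autFun_of_mem _ hx, autFun_of_mem _ (hCR hx)]
  rfl

/-- A natural family of normal `p`-subgroups of the automizers. -/
structure OFam (F : FusionSystem S) (p : ℕ) where
  O : ∀ A : Subgroup Ω, Subgroup (MulAut A)
  pgroup : ∀ A, IsPGroup p (O A)
  nat : ∀ A B f, IsMor F A f → img A f = B → ∀ α ∈ O A, ∀ β : MulAut B,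
    (∀ x ∈ A, autFun β (f x) = f (autFun α x)) → β ∈ O B

/-- The trivial family. -/
def OFam.bot (F : FusionSystem S) (p : ℕ) : OFam F p where
  O _ := ⊥
  pgroup _ := IsPGroup.of_bot
  nat A B f hf hB α hα β hβ := by
    obtain rfl := Subgroup.mem_bot.mp hα
    refine Subgroup.mem_bot.mpr (autFun_inj fun y hy => ?_)
    subst hB
    obtain ⟨x, hx, rfl⟩ := hf.mem_img.mp hy
    rw [hβ x hx, autFun_one hx, autFun_one hy]

/-- The family `O_p(Aut_F A)`. -/
noncomputable def OFam.core (F : FusionSystem S) (p : ℕ) : OFam F p where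
  O A := (pCore p (F.autGroup A)).map (F.autGroup A).subtype
  pgroup A := CfsgLib.Base.isPGroup_map_pCore p _
  nat A B f hf hB α hα β hβ := by
    obtain ⟨e, he, heA, -⟩ := exists_transport hf hB
    have hβe : β = e α := autFun_inj fun y hy => by
      subst hB
      obtain ⟨x, hx, rfl⟩ := hf.mem_img.mp hy
      rw [hβ x hx, he α x hx]
    obtain ⟨a, ha, rfl⟩ := hα
    have hmap : (F.autGroup A).map e.toMonoidHom = F.autGroup B := by
      ext b
      constructor
      · rintro ⟨x, hx, rfl⟩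
        exact (heA x).mp hx
      · exact fun hb => ⟨e.symm b, (heA _).mpr (by rwa [e.apply_symm_apply]), e.apply_symm_apply b⟩
    let e' : ↥(F.autGroup A) ≃* ↥(F.autGroup B) :=
      (e.subgroupMap (F.autGroup A)).trans (MulEquiv.subgroupCongr hmap)
    exact ⟨e' a, (CfsgLib.Base.map_pCore_mulEquiv e').le ⟨a, ha, rfl⟩, hβe.symm⟩

variable {p : ℕ}

/-- `M(A)`: the elements of `N_S(A)` inducing an element of the family. -/
def OFam.M (o : OFam F p) (A : Subgroup Ω) : Subgroup Ω where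
  carrier := {g | g ∈ normalizerIn S A ∧ ∃ α ∈ o.O A, ∀ x ∈ A, autFun α x = cj g x}
  one_mem' := ⟨Subgroup.one_mem _, 1, Subgroup.one_mem _, fun x hx => by rw [autFun_one hx, cj_one]⟩
  mul_mem' := by
    rintro g h ⟨hg, α, hα, ea⟩ ⟨hh, β, hβ, eb⟩
    refine ⟨Subgroup.mul_mem _ hg hh, α * β, Subgroup.mul_mem _ hα hβ, fun x hx => ?_⟩
    rw [autFun_mul _ _ hx, ea _ (autFun_mem _ hx), eb x hx, cj_mul]
  inv_mem' := by
    rintro g ⟨hg, α, hα, ea⟩
    refine ⟨Subgroup.inv_mem _ hg, α⁻¹, Subgroup.inv_mem _ hα, fun x hx => ?_⟩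
    conv_rhs => rw [← autFun_inv_right α hx, ea _ (autFun_mem _ hx), cj_inv_cj]

theorem OFam.M_le (o : OFam F p) (A : Subgroup Ω) : o.M A ≤ normalizerIn S A := fun _ h => h.1

theorem OFam.M_le_S (o : OFam F p) (A : Subgroup Ω) : o.M A ≤ S :=
  (o.M_le A).trans normalizerIn_le

theorem OFam.M_map (o : OFam F p) {A : Subgroup Ω} {R : Subgroup Ω} {k : Ω → Ω}
    (hk : IsMor F R k) (hA : A ≤ R) {g : Ω} (hgR : g ∈ R) (hg : g ∈ o.M A) :
    k g ∈ o.M (img A k) := by
  obtain ⟨hgn, α, hα, ea⟩ := hg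
  obtain ⟨hgS, hgN⟩ := mem_normalizerIn.mp hgn
  have hkg : k g ∈ normalizerIn S (img A k) :=
    mapsTo_normalizerIn (Q := A)
      (hk.restrict (inf_le_left : R ⊓ Subgroup.normalizer (A : Set Ω) ≤ R))
      (le_inf hA Subgroup.le_normalizer) (fun a ha => mem_normalizerIn.mpr ⟨hk.le ha.1, ha.2⟩)
      g ⟨hgR, hgN⟩
  obtain ⟨e, he, -, -⟩ := exists_transport (hk.restrict hA) rfl
  refine ⟨hkg, e α, o.nat A _ k (hk.restrict hA) rfl α hα _ (he α), fun y hy => ?_⟩
  obtain ⟨x, hx, rfl⟩ := (hk.restrict hA).mem_img.mp hy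
  rw [he α x hx, ea x hx]
  exact hk.map_conj hgR (hA hx)

theorem OFam.M_conj (o : OFam F p) {A : Subgroup Ω} (hA : A ≤ S) {g s : Ω}
    (hs : s ∈ normalizerIn S A) (hg : g ∈ o.M A) : cj s g ∈ o.M A := by
  have h := o.M_map (isMor_cj F le_rfl (mem_normalizerIn.mp hs).1) hA (o.M_le_S A hg) hg
  rwa [img_cj_of_normalizer (mem_normalizerIn.mp hs).2] at h

/-- All classes of subgroups of order above `n` have an automized receptive member. -/
def AboveSat (F : FusionSystem S) (p n : ℕ) : Prop :=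
  ∀ X : Subgroup Ω, X ≤ S → n < Nat.card X →
    ∃ Y, F.IsConj X Y ∧ F.IsFullyAutomized p Y ∧ F.IsReceptive Y

/-- `C ≤ R` with `Aut_S(R)` containing a Sylow subgroup of the stabilizer of `C`. -/
structure Adapted (F : FusionSystem S) (p : ℕ) (R C : Subgroup Ω) : Prop where
  le : C ≤ R
  receptive : F.IsReceptive R
  aut : F.IsFullyAutomized p R
  syl : IsSylIn p (autInducedBy S R ⊓ stabIn R C) (F.autGroup R ⊓ stabIn R C)

variable [hp : Fact p.Prime] [Finite S]

theorem exists_adapted (hS : IsPGroup p S) {R : Subgroup Ω} (hr : F.IsReceptive R)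
    (ha : F.IsFullyAutomized p R) {B : Subgroup Ω} (hB : B ≤ R) :
    ∃ β ∈ F.autGroup R, Adapted F p R (img B (autFun β)) := by
  have := finite_mulAut hr.1
  have hfinR : Finite R := finite_of_le hr.1
  set K := F.autGroup R ⊓ stabIn R B with hK
  obtain ⟨U⟩ : Nonempty (Sylow p K) := inferInstance
  have hUp : IsPGroup p ((U : Subgroup K).map K.subtype) := U.2.map _
  have hUK : (U : Subgroup K).map K.subtype ≤ K := Subgroup.map_subtype_le _
  obtain ⟨β, hβ, hβc⟩ := (isFullyAutomized_iff.mp ha).2.exists_conj_le hUp (hUK.trans inf_le_left)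
  have hmor := isMor_autFun hr.1 hβ
  set C := img B (autFun β) with hC
  have hCR : C ≤ R := img_le fun x hx => autFun_mem β (hB hx)
  have hfinB : Finite B := finite_of_le (hB.trans hr.1)
  have hfinC : Finite C := finite_of_le (hCR.trans hr.1)
  have hconj : ∀ δ, δ ∈ stabIn R B → β * δ * β⁻¹ ∈ stabIn R C := fun δ hδ =>
    mem_stabIn_of_maps hCR fun y hy => by
      obtain ⟨x, hx, rfl⟩ := (hmor.restrict hB).mem_img.mp hy
      rw [autFun_mul _ _ (autFun_mem β (hB hx)), autFun_inv_left β (hB hx),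
        autFun_mul _ _ (hB hx)]
      exact mem_img_of_mem _ (stabIn_maps hB hδ hx)
  have hconj' : ∀ δ, δ ∈ stabIn R C → β⁻¹ * δ * β ∈ stabIn R B := fun δ hδ =>
    mem_stabIn_of_maps hB fun x hx => by
      rw [autFun_mul _ _ (hB hx), autFun_mul _ _ (autFun_mem β (hB hx))]
      obtain ⟨z, hz, hze⟩ := (hmor.restrict hB).mem_img.mp
        (stabIn_maps hCR hδ (mem_img_of_mem (autFun β) hx))
      rw [← hze, autFun_inv_left β (hB hz)]
      exact hz
  refine ⟨β, hβ, hCR, hr, ha, inf_le_inf_right _ (autInducedBy_le F hr.1),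
    isPGroup_of_le inf_le_left (isPGroup_autInducedBy hS), fun D hD hle hDK => ?_⟩
  refine le_antisymm ?_ hle
  have hD' : D.map (MulAut.conj β⁻¹).toMonoidHom ≤ K := by
    rintro _ ⟨d, hd, rfl⟩
    refine ⟨?_, by simpa using hconj' d (hDK hd).2⟩
    simpa using Subgroup.mul_mem _ (Subgroup.mul_mem _ (Subgroup.inv_mem _ hβ) (hDK hd).1) hβ
  have hsub : ((U : Subgroup K).map K.subtype).map (MulAut.conj β).toMonoidHom ≤
      autInducedBy S R ⊓ stabIn R C := by
    rintro _ ⟨u, hu, rfl⟩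
    exact ⟨by simpa using hβc u hu, by simpa using hconj u (hUK hu).2⟩
  have hc1 : Nat.card D ≤ Nat.card (((U : Subgroup K).map K.subtype).map
      (MulAut.conj β).toMonoidHom) := by
    rw [Subgroup.card_map_of_injective (MulAut.conj β).injective,
      Subgroup.card_map_of_injective K.subtype_injective,
      ← Subgroup.card_map_of_injective (K := D) (f := (MulAut.conj β⁻¹).toMonoidHom)
        (MulAut.conj β⁻¹).injective,
      ← Nat.card_congr (Subgroup.subgroupOfEquivOfLe hD').toEquiv]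
    obtain ⟨Q, hQ⟩ := ((hD.map (MulAut.conj β⁻¹).toMonoidHom).comap_of_injective K.subtype
      K.subtype_injective).exists_le_sylow
    refine (Subgroup.card_le_of_le hQ).trans ?_
    rw [Sylow.card_eq_multiplicity, Sylow.card_eq_multiplicity]
  exact (Subgroup.eq_of_le_of_card_ge hle (hc1.trans (Subgroup.card_le_of_le hsub))).ge

/-- A map onto an adapted pair can be extended to `N_S(A) ∩ N_S(R)` after correction. -/
theorem Adapted.toC {R' C : Subgroup Ω} (hS : IsPGroup p S) (had : Adapted F p R' C)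
    {A R : Subgroup Ω} (hAR : A ≤ R) {h : Ω → Ω} (hh : IsMor F R h) (hhR : img R h = R')
    (hhA : img A h = C) :
    ∃ δ, δ ∈ F.autGroup R' ∧ δ ∈ stabIn R' C ∧ ∃ k,
      IsMor F (normalizerIn S A ⊓ normalizerIn S R) k ∧ ∀ x ∈ R, k x = autFun δ (h x) := by
  obtain ⟨e, he, heA, -⟩ := exists_transport hh hhR
  have := finite_mulAut had.receptive.1
  have hfinC : Finite C := finite_of_le (had.le.trans had.receptive.1)
  have hhm : ∀ x ∈ R, h x ∈ R' := fun x hx => hhR ▸ mem_img_of_mem h hx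
  set U := (autInducedBy (normalizerIn S A ⊓ normalizerIn S R) R).map e.toMonoidHom with hU
  have hUle : U ≤ F.autGroup R' ⊓ stabIn R' C := by
    rintro _ ⟨α, hα, rfl⟩
    obtain ⟨g, hg, hgn, hge⟩ := mem_autInducedBy.mp hα
    refine ⟨(heA α).mp (autInducedBy_le F hh.le (mem_autInducedBy.mpr
      ⟨g, (mem_normalizerIn.mp hg.1).1, hgn, hge⟩)), mem_stabIn_of_maps had.le fun y hy => ?_⟩
    obtain ⟨x, hx, rfl⟩ := (hh.restrict hAR).mem_img.mp (hhA.ge hy)
    show autFun (e α) (h x) ∈ C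
    rw [he α x (hAR hx), hge x (hAR hx), ← hhA]
    exact mem_img_of_mem h ((Subgroup.mem_normalizer_iff.mp (mem_normalizerIn.mp hg.1).2 x).mp hx)
  have hUp : IsPGroup p U := by
    refine IsPGroup.map (isPGroup_of_le (fun α hα => ?_) (isPGroup_autInducedBy (S := S) (P := R) hS)) _
    obtain ⟨g, hg, hgn, hge⟩ := mem_autInducedBy.mp hα
    exact mem_autInducedBy.mpr ⟨g, (mem_normalizerIn.mp hg.1).1, hgn, hge⟩
  obtain ⟨δ, hδ, hδc⟩ := had.syl.exists_conj_le hUp hUle
  refine ⟨δ, hδ.1, hδ.2, ?_⟩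
  have hf : IsMor F R (autFun δ ∘ h) := hh.comp (isMor_autFun had.receptive.1 hδ.1) hhm
  have hfi : img R (autFun δ ∘ h) = R' := by rw [← hh.img_comp, hhR, img_autFun]
  obtain ⟨k, hk, hke⟩ := (isReceptive_iff.mp had.receptive).2 R _ hf hfi
  refine ⟨k, hk.restrict fun g hg => ?_, hke⟩
  obtain ⟨hgA, hgR⟩ := Subgroup.mem_inf.mp hg
  obtain ⟨hgS, hgN⟩ := mem_normalizerIn.mp hgR
  obtain ⟨α, hα, hαe⟩ := exists_autInducedBy (P := R) hg hgN
  obtain ⟨t, ht, -, hte⟩ := mem_autInducedBy.mp (hδc _ ⟨α, hα, rfl⟩).1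
  refine ⟨hgS, hgN, t, ht, fun x hx => ?_⟩
  have h1 := hte _ (autFun_mem δ (hhm x hx))
  rw [autFun_mul _ _ (autFun_mem δ (hhm x hx)), autFun_inv_left δ (hhm x hx),
    autFun_mul _ _ (hhm x hx)] at h1
  show autFun δ (h (cj g x)) = cj t (autFun δ (h x))
  rw [← hαe x hx, ← he α x hx]
  exact h1

/-- The middle automorphism of a replacement. -/
theorem Adapted.middle {R C : Subgroup Ω} (hS : IsPGroup p S) (o : OFam F p)
    (had : Adapted F p R C) {η : MulAut R} (hη : η ∈ F.autGroup R) (hηC : η ∈ stabIn R C) :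
    ∃ t ∈ normalizerIn S C, ∃ n, IsMor F (R ⊔ (normalizerIn S R ⊓ o.M C)) n ∧
      img C n = C ∧ ∀ x ∈ C, autFun η x = cj t (n x) := by
  have := finite_mulAut had.receptive.1
  have hfinC : Finite C := finite_of_le (had.le.trans had.receptive.1)
  have := finite_mulAut (had.le.trans had.receptive.1)
  set K := F.autGroup R ⊓ stabIn R C with hKdef
  set T := autInducedBy S R ⊓ stabIn R C with hTdef
  set r := (resC had.le).comp (Subgroup.inclusion (inf_le_right : K ≤ stabIn R C)) with hr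
  set K₀ := ((o.O C).comap r).map K.subtype with hK₀
  have hK₀K : K₀ ≤ K := Subgroup.map_subtype_le _
  have hnorm : ∀ a ∈ K, ∀ b ∈ K₀, a * b * a⁻¹ ∈ K₀ := by
    rintro a ha _ ⟨b, hb, rfl⟩
    refine ⟨⟨a, ha⟩ * b * ⟨a, ha⟩⁻¹, ?_, rfl⟩
    show r _ ∈ o.O C
    set γ := r ⟨a, ha⟩
    have hmor : IsMor F C (autFun γ) :=
      ((isMor_autFun had.receptive.1 ha.1).restrict had.le).congr fun x hx =>
        (show autFun γ x = autFun a x from autFun_resC had.le ⟨a, ha.2⟩ hx).symm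
    refine o.nat C C _ hmor (img_autFun γ) _ hb _ fun x hx => ?_
    rw [map_mul, map_mul, map_inv, autFun_mul _ _ (autFun_mem γ hx), autFun_inv_left γ hx,
      autFun_mul _ _ hx]
  have hsyl : IsSylIn p (T ⊓ K₀) K₀ := by
    refine ⟨inf_le_right, isPGroup_of_le inf_le_left had.syl.2.1, fun D hD hle hDK => ?_⟩
    refine le_antisymm ?_ hle
    obtain ⟨b, hb, hbD⟩ := had.syl.exists_conj_le hD (hDK.trans hK₀K)
    refine (Subgroup.eq_of_le_of_card_ge hle ?_).ge
    rw [← Subgroup.card_map_of_injective (K := D) (f := (MulAut.conj b).toMonoidHom) (MulAut.conj b).injective]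
    refine Subgroup.card_le_of_le ?_
    rintro _ ⟨d, hd, rfl⟩
    exact ⟨hbD d hd, hnorm b hb d (hDK hd)⟩
  obtain ⟨b, hb, hbn⟩ := hsyl.exists_conj_le
    ((isPGroup_of_le (inf_le_left : T ⊓ K₀ ≤ T) had.syl.2.1).map (MulAut.conj η).toMonoidHom) (by
      rintro _ ⟨d, hd, rfl⟩
      simpa using hnorm η ⟨hη, hηC⟩ d hd.2)
  set n := b * η with hn
  have hnK : n ∈ K := K.mul_mem (hK₀K hb) ⟨hη, hηC⟩
  have hnT : ∀ d ∈ T ⊓ K₀, n * d * n⁻¹ ∈ T ⊓ K₀ := fun d hd => by
    have := hbn _ ⟨d, hd, rfl⟩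
    simpa [hn, mul_assoc] using this
  -- restrictions of `K₀` come from the Sylow subgroup
  obtain ⟨u, hu, hue⟩ : ∃ u ∈ T ⊓ K₀, ∀ x ∈ C, autFun u x = autFun b⁻¹ x := by
    obtain ⟨W, hW⟩ := (exists_sylow_iff hsyl.1).mpr hsyl
    let q := (r.comp (Subgroup.inclusion hK₀K)).rangeRestrict
    have hrange : IsPGroup p (r.comp (Subgroup.inclusion hK₀K)).range := isPGroup_of_le (by
      rintro _ ⟨⟨_, a, ha, rfl⟩, rfl⟩
      exact ha) (o.pgroup C)
    have hq : Function.Surjective q := MonoidHom.rangeRestrict_surjective _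
    have htop : ((W.mapSurjective hq : Sylow p _) :
        Subgroup ↥(r.comp (Subgroup.inclusion hK₀K)).range) = ⊤ :=
      ((W.mapSurjective hq).is_maximal' (Q := ⊤) (hrange.of_equiv Subgroup.topEquiv.symm) le_top).symm
    obtain ⟨u, hu, hue⟩ : q ⟨b⁻¹, K₀.inv_mem hb⟩ ∈ ((W.mapSurjective hq : Sylow p _) :
        Subgroup ↥(r.comp (Subgroup.inclusion hK₀K)).range) :=
      htop ▸ Subgroup.mem_top _
    rw [SetLike.mem_coe, hW] at hu
    refine ⟨u, Subgroup.mem_subgroupOf.mp hu, fun x hx => ?_⟩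
    have h1 : resC had.le ⟨(u : MulAut R), (hK₀K u.2).2⟩ =
        resC had.le ⟨b⁻¹, (hK₀K (K₀.inv_mem hb)).2⟩ := congrArg Subtype.val hue
    rw [← autFun_resC had.le ⟨(u : MulAut R), (hK₀K u.2).2⟩ hx, h1, autFun_resC had.le _ hx]
  obtain ⟨t, ht, htn, hte⟩ := mem_autInducedBy.mp hu.1.1
  have htC := normalizer_of_mem_stabIn had.le htn hu.1.2 hte
  obtain ⟨k, hk, hke⟩ := (isReceptive_iff.mp had.receptive).2 R _ (isMor_autFun had.receptive.1 hnK.1)
    (img_autFun n)
  refine ⟨t, mem_normalizerIn.mpr ⟨ht, htC⟩, k, hk.restrict (sup_le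
    (le_nExt (isMor_autFun had.receptive.1 hnK.1)) fun g hg => ?_), ?_, fun x hx => ?_⟩
  · obtain ⟨hgR, hgM⟩ := Subgroup.mem_inf.mp hg
    obtain ⟨hgS, hgN⟩ := mem_normalizerIn.mp hgR
    obtain ⟨α, hα, hαe⟩ := exists_autInducedBy (P := R) hgS hgN
    have hαC : α ∈ stabIn R C :=
      mem_stabIn_of_normalizer had.le (mem_normalizerIn.mp (o.M_le C hgM)).2 hαe
    obtain ⟨-, γ, hγ, hγe⟩ := hgM
    have hαK₀ : α ∈ K₀ := by
      refine ⟨⟨α, autInducedBy_le F had.receptive.1 hα, hαC⟩, ?_, rfl⟩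
      show r _ ∈ o.O C
      convert hγ using 1
      refine autFun_inj fun x hx => ?_
      rw [hγe x hx, ← hαe x (had.le hx)]
      exact autFun_resC had.le _ hx
    obtain ⟨h, hh, -, hhe⟩ := mem_autInducedBy.mp (hnT α ⟨⟨hα, hαC⟩, hαK₀⟩).1.1
    exact ⟨hgS, hgN, h, hh, fun x hx => (mul_conj_aut hαe hhe).mp rfl x hx⟩
  · have hfin : Finite C := hfinC
    refine ((hk.restrict ((had.le.trans (le_nExt (isMor_autFun had.receptive.1 hnK.1))))).img_eq_self
      fun x hx => ?_)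
    rw [hke x (had.le hx)]
    exact stabIn_maps had.le hnK.2 hx
  · rw [hke x (had.le hx), hn, ← hte _ (autFun_mem _ (had.le hx))]
    have hx' : autFun (b * η) x ∈ C := stabIn_maps had.le hnK.2 hx
    rw [hue _ hx', autFun_mul _ _ (had.le hx), autFun_inv_left b (autFun_mem η (had.le hx))]

end CfsgLib.Fusion
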