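import Mathlib
import Cfsg.Agent.Lib.Fusion.SatTools
import Cfsg.Agent.Lib.Fusion.Centric

/-!
# The saturation criterion

A fusion system generated by the maps on a conjugation closed family `ℋ` of subgroups, saturated
on `ℋ`, is saturated as soon as every centric class outside `ℋ` has a member `Q` with
`Aut_S(Q) ∩ O_p(Aut(Q))` larger than `Inn(Q)`.
-/

set_option autoImplicit false
set_option linter.unusedSectionVars false

namespace CfsgLib.Fusion

open Cfsg Cfsg.FusionSystem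
open scoped Pointwise

variable {Ω : Type*} [Group Ω] {S : Subgroup Ω} {F : FusionSystem S} {p : ℕ}
  [hp : Fact p.Prime] [Finite S]

/-- A map of `N_S(A)` carrying `A` to `B`. -/
def Full (F : FusionSystem S) (A B : Subgroup Ω) : Prop :=
  ∃ a, IsMor F (normalizerIn S A) a ∧ img A a = B

/-- Two subgroups have a common full image. -/
def Joined (F : FusionSystem S) (A B : Subgroup Ω) : Prop :=
  ∃ D, Full F A D ∧ Full F B D

/-- Composites of restrictions of maps with strictly larger sources, on subgroups of order `n`. -/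
inductive Chain (F : FusionSystem S) (n : ℕ) : Subgroup Ω → (Ω → Ω) → Prop
  | step {A R : Subgroup Ω} {g f : Ω → Ω} : Nat.card A = n → A < R → IsMor F R g →
      (∀ x ∈ A, f x = g x) → Chain F n A f
  | comp {A : Subgroup Ω} {f h k : Ω → Ω} : Chain F n A f → Chain F n (img A f) h →
      (∀ x ∈ A, k x = h (f x)) → Chain F n A k

theorem Chain.isMor {n : ℕ} {A : Subgroup Ω} {f : Ω → Ω} (h : Chain F n A f) : IsMor F A f := by
  induction h with
  | step _ hR hg e => exact (hg.restrict hR.le).congr fun x hx => (e x hx).symm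
  | @comp A f h k _ _ e ih1 ih2 =>
    exact (ih1.comp ih2 fun x hx => mem_img_of_mem f hx).congr fun x hx => (e x hx).symm

theorem Chain.congr {n : ℕ} {A : Subgroup Ω} {f f' : Ω → Ω} (h : Chain F n A f)
    (e : ∀ x ∈ A, f x = f' x) : Chain F n A f' := by
  cases h with
  | step h1 h2 h3 h4 => exact .step h1 h2 h3 fun x hx => (e x hx).symm.trans (h4 x hx)
  | comp h1 h2 h3 => exact .comp h1 h2 fun x hx => (e x hx).symm.trans (h3 x hx)

theorem Chain.inverse {n : ℕ} {A : Subgroup Ω} {f : Ω → Ω} (h : Chain F n A f) :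
    ∃ g, Chain F n (img A f) g ∧ ∀ x ∈ A, g (f x) = x := by
  induction h with
  | @step A R g f hn hR hg e =>
    obtain ⟨gi, hgi, hl, -, -⟩ := hg.inverse
    refine ⟨gi, .step ?_ ?_ hgi fun _ _ => rfl, fun x hx => by rw [e x hx, hl x (hR.le hx)]⟩
    · rw [img_congr e, (hg.restrict hR.le).card_img, hn]
    · rw [img_congr e]
      refine lt_of_le_of_ne (img_mono g hR.le) fun h => ?_
      exact hR.ne (le_antisymm hR.le (hg.le_of_img_le le_rfl hR.le h.ge))
  | @comp A f h k h1 h2 e ih1 ih2 =>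
    obtain ⟨g1, hg1, e1⟩ := ih1
    obtain ⟨g2, hg2, e2⟩ := ih2
    have hi : img (img A f) h = img A k := by
      rw [h1.isMor.img_comp, img_congr e]; rfl
    have hi2 : img (img A k) g2 = img A f := by
      rw [← hi, h2.isMor.img_comp]
      exact (img_congr (g := id) fun x hx => e2 x hx).trans (img_id _)
    rw [hi] at hg2
    rw [← hi2] at hg1
    refine ⟨g1 ∘ g2, .comp hg2 hg1 fun _ _ => rfl, fun x hx => ?_⟩
    rw [Function.comp_apply, e x hx, e2 _ (mem_img_of_mem f hx), e1 x hx]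

/-- The hypotheses on the classes above order `n` and on the generation of order `n`. -/
structure CritHyp (F : FusionSystem S) (p : ℕ) (P : Subgroup Ω) : Prop where
  above : AboveSat F p (Nat.card P)
  gen : ∀ A f, F.IsConj P A → IsMor F A f → Chain F (Nat.card P) A f

theorem lt_normalizerIn_inf (hS : IsPGroup p S) {A R : Subgroup Ω} (hAS : A ≤ S) (hAR : A ≤ R)
    (hRA : R < normalizerIn S A) : R < normalizerIn S A ⊓ normalizerIn S R := by
  have : Finite ↥(normalizerIn S A) := finite_of_le normalizerIn_le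
  refine lt_of_lt_of_le (lt_inf_normalizer (isPGroup_of_le normalizerIn_le hS) hRA) ?_
  exact fun x hx => ⟨hx.1, mem_normalizerIn.mpr ⟨normalizerIn_le hx.1, hx.2⟩⟩

/-- Replacement of one step. -/
theorem exists_replacement (hS : IsPGroup p S) {A : Subgroup Ω} {R : Subgroup Ω} {g : Ω → Ω}
    (habove : AboveSat F p (Nat.card A)) (hg : IsMor F R g) (hAR : A < R) :
    ∃ R' C δA δB kA kB, Adapted F p R' C ∧ δA ∈ F.autGroup R' ∧ δA ∈ stabIn R' C ∧
      δB ∈ F.autGroup R' ∧ δB ∈ stabIn R' C ∧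
      IsMor F (normalizerIn S A ⊓ normalizerIn S R) kA ∧ img A kA = C ∧ img R kA = R' ∧
      IsMor F (normalizerIn S (img A g) ⊓ normalizerIn S (img R g)) kB ∧ img (img A g) kB = C ∧
      ∀ x ∈ A, kB (g x) = autFun (δB * δA⁻¹) (kA x) := by
  have hRS := hg.le
  obtain ⟨R', hR', haut, hrec⟩ := habove R hRS (card_lt_of_lt hRS hAR)
  obtain ⟨h₀, hh₀, hh₀i⟩ := isConj_iff.mp hR'
  obtain ⟨β, hβ, had⟩ := exists_adapted hS hrec haut
    (hh₀i ▸ img_mono h₀ hAR.le : img A h₀ ≤ R')
  set C := img (img A h₀) (autFun β) with hC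
  have hh₀m : ∀ x ∈ R, h₀ x ∈ R' := fun x hx => hh₀i ▸ mem_img_of_mem h₀ hx
  set hA := autFun β ∘ h₀ with hhA
  have hAmor : IsMor F R hA := hh₀.comp (isMor_autFun hrec.1 hβ) hh₀m
  have hAi : img R hA = R' := by rw [hhA, ← hh₀.img_comp, hh₀i, img_autFun]
  have hAC : img A hA = C := by rw [hhA, ← (hh₀.restrict hAR.le).img_comp]
  obtain ⟨gi, hgi, hgl, -, hgii⟩ := hg.inverse
  have hBmor : IsMor F (img R g) (hA ∘ gi) := hgi.comp hAmor fun y hy => hgii ▸ mem_img_of_mem gi hy
  have hBi : img (img R g) (hA ∘ gi) = R' := by rw [← hgi.img_comp, hgii, hAi]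
  have hgiA : img (img A g) gi = A := by
    rw [(hg.restrict hAR.le).img_comp]
    exact (img_congr (g := id) fun x hx => hgl x (hAR.le hx)).trans (img_id _)
  have hBC : img (img A g) (hA ∘ gi) = C := by
    rw [← (hgi.restrict (img_mono g hAR.le)).img_comp, hgiA, hAC]
  obtain ⟨δA, hδA, hδA', kA, hkA, hkAe⟩ := had.toC hS hAR.le hAmor hAi hAC
  obtain ⟨δB, hδB, hδB', kB, hkB, hkBe⟩ := had.toC hS (img_mono g hAR.le) hBmor hBi hBC
  have hR'fin : Finite R' := finite_of_le hrec.1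
  have hCfin : Finite C := finite_of_le (had.le.trans hrec.1)
  refine ⟨R', C, δA, δB, kA, kB, had, hδA, hδA', hδB, hδB', hkA, ?_, ?_, hkB, ?_, fun x hx => ?_⟩
  · rw [img_congr fun x hx => hkAe x (hAR.le hx)]
    show img A (autFun δA ∘ hA) = C
    rw [← (hAmor.restrict hAR.le).img_comp, hAC]
    exact (((isMor_autFun hrec.1 hδA).restrict had.le).img_eq_self fun y hy =>
      stabIn_maps had.le hδA' hy)
  · rw [img_congr hkAe]
    show img R (autFun δA ∘ hA) = R'
    rw [← hAmor.img_comp, hAi, img_autFun]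
  · rw [img_congr fun x hx => hkBe x (img_mono g hAR.le hx)]
    show img (img A g) (autFun δB ∘ (hA ∘ gi)) = C
    rw [← (hBmor.restrict (img_mono g hAR.le)).img_comp, hBC]
    exact (((isMor_autFun hrec.1 hδB).restrict had.le).img_eq_self fun y hy =>
      stabIn_maps had.le hδB' hy)
  · have hxR := hAR.le hx
    have hm : hA x ∈ R' := hAi ▸ mem_img_of_mem hA hxR
    rw [hkBe _ (mem_img_of_mem g hxR), hkAe x hxR, Function.comp_apply, hgl x hxR,
      autFun_mul _ _ (autFun_mem δA hm), autFun_inv_left δA hm]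

/-- Every step joins its ends. -/
theorem joined_of_step (hS : IsPGroup p S) (n : ℕ) (habove : AboveSat F p n) :
    ∀ (d : ℕ) (A R : Subgroup Ω) (g : Ω → Ω), Nat.card A = n → IsMor F R g → A < R →
      R ≤ normalizerIn S A → Nat.card S - Nat.card R = d → Joined F A (img A g) := by
  intro d
  induction d using Nat.strong_induction_on with
  | _ d ih =>
  intro A R g hn hg hAR hRN hd
  subst hd
  have hAS : A ≤ S := hAR.le.trans hg.le
  have hBS : img A g ≤ S := (hg.restrict hAR.le).img_le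
  rcases eq_or_lt_of_le hRN with hR | hR
  · exact ⟨img A g, ⟨g, hR ▸ hg, rfl⟩, ⟨id, isMor_id F normalizerIn_le, img_id _⟩⟩
  set B := img A g with hB
  set Y := img R g with hY
  have hYN : Y ≤ normalizerIn S B := img_le fun x hx => mapsTo_normalizerIn hg hAR.le hRN x hx
  have hBY : B < Y := by
    refine lt_of_le_of_ne (img_mono g hAR.le) fun h => ?_
    exact hAR.ne (le_antisymm hAR.le (hg.le_of_img_le le_rfl hAR.le h.ge))
  have hcardY : Nat.card Y = Nat.card R := hg.card_img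
  rcases eq_or_lt_of_le hYN with hY' | hY'
  · obtain ⟨gi, hgi, hgl, -, -⟩ := hg.inverse
    refine ⟨A, ⟨id, isMor_id F normalizerIn_le, img_id _⟩, ⟨gi, hY' ▸ hgi, ?_⟩⟩
    rw [(hg.restrict hAR.le).img_comp]
    exact (img_congr (g := id) fun x hx => hgl x (hAR.le hx)).trans (img_id _)
  obtain ⟨R', C, δA, δB, kA, kB, had, -, -, -, -, hkA, hkAC, -, hkB, hkBC, -⟩ :=
    exists_replacement hS (hn ▸ habove) hg hAR
  set SA := normalizerIn S A ⊓ normalizerIn S R with hSA
  set SB := normalizerIn S B ⊓ normalizerIn S Y with hSB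
  have hRSg : R < SA := lt_normalizerIn_inf hS hAS hAR.le hR
  have hYSg : Y < SB := lt_normalizerIn_inf hS hBS hBY.le hY'
  have hSgS : SA ≤ S := inf_le_left.trans normalizerIn_le
  have hSBS : SB ≤ S := inf_le_left.trans normalizerIn_le
  have hcA := card_lt_of_lt hSgS hRSg
  have hcB := card_lt_of_lt hSBS hYSg
  have hScard : ∀ {X : Subgroup Ω}, X ≤ S → Nat.card X ≤ Nat.card S :=
    fun h => Subgroup.card_le_of_le h
  have h1 := ih _ (by have := hScard hSgS; omega) A SA kA hn hkA (hAR.trans hRSg) inf_le_left rfl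
  have hBn : Nat.card B = n := by rw [hB, (hg.restrict hAR.le).card_img, hn]
  have h2 := ih _ (by have := hScard hSBS; omega) B SB kB hBn hkB (hBY.trans hYSg) inf_le_left rfl
  rw [hkAC] at h1
  rw [hkBC] at h2
  obtain ⟨D, ⟨a, ha, haD⟩, ⟨c, hc, hcD⟩⟩ := h1
  obtain ⟨D', ⟨b, hb, hbD⟩, ⟨c', hc', hcD'⟩⟩ := h2
  -- the step from `D` to `D'` through `C`
  have hCS : C ≤ S := had.le.trans had.receptive.1
  obtain ⟨ci, hci, hcl, -, hcii⟩ := hc.inverse
  have hstep : IsMor F (img (normalizerIn S C) c) (c' ∘ ci) :=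
    hci.comp hc' fun y hy => hcii ▸ mem_img_of_mem ci hy
  have hCN : C ≤ normalizerIn S C := le_normalizerIn hCS
  have hDsrc : img (normalizerIn S C) c ≤ normalizerIn S D :=
    img_le fun x hx => hcD ▸ mapsTo_normalizerIn hc hCN le_rfl x hx
  have hSgC : Nat.card SA ≤ Nat.card (normalizerIn S C) := by
    refine card_le_of_img_le hkA normalizerIn_le (img_le fun x hx => ?_)
    exact hkAC ▸ mapsTo_normalizerIn hkA ((hAR.le.trans hRSg.le)) inf_le_left x hx
  have hcC : Nat.card C = n := by rw [← hkAC, (hkA.restrict (hAR.le.trans hRSg.le)).card_img, hn]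
  have hDn : Nat.card D = n := by rw [← hcD, (hc.restrict hCN).card_img, hcC]
  have hDlt : D < img (normalizerIn S C) c := by
    refine lt_of_le_of_ne (hcD ▸ img_mono c hCN) fun h => ?_
    have h3 := hc.card_img
    rw [← h, hDn] at h3
    have := card_lt_of_lt hg.le hAR
    omega
  have hlt : Nat.card S - Nat.card (img (normalizerIn S C) c) < Nat.card S - Nat.card R := by
    have := hc.card_img
    have := hScard (X := normalizerIn S C) normalizerIn_le
    omega
  have h3 := ih _ hlt D _ (c' ∘ ci) hDn hstep hDlt hDsrc rfl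
  have hDD' : img D (c' ∘ ci) = D' := by
    rw [← hcD, (hc.restrict hCN).img_comp, img_congr (g := c') fun x hx => by
      simp [hcl x (hCN hx)], hcD']
  rw [hDD'] at h3
  obtain ⟨E, ⟨u, hu, huE⟩, ⟨v, hv, hvE⟩⟩ := h3
  refine ⟨E, ⟨u ∘ a, ha.comp hu fun x hx => ?_, ?_⟩, ⟨v ∘ b, hb.comp hv fun x hx => ?_, ?_⟩⟩
  · exact haD ▸ mapsTo_normalizerIn ha (le_normalizerIn hAS) le_rfl x hx
  · rw [← (ha.restrict (le_normalizerIn hAS)).img_comp, haD, huE]
  · exact hbD ▸ mapsTo_normalizerIn hb (le_normalizerIn hBS) le_rfl x hx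
  · rw [← (hb.restrict (le_normalizerIn hBS)).img_comp, hbD, hvE]

theorem joined_trans (hS : IsPGroup p S) {n : ℕ} (habove : AboveSat F p n) {A B C : Subgroup Ω}
    (hn : Nat.card B = n) (hBS : B < S) (h1 : Joined F A B) (h2 : Joined F B C)
    (hA : A ≤ S) (hC : C ≤ S) : Joined F A C := by
  obtain ⟨D, ⟨a, ha, haD⟩, ⟨b, hb, hbD⟩⟩ := h1
  obtain ⟨D', ⟨b', hb', hbD'⟩, ⟨c, hc, hcD⟩⟩ := h2
  have hBN : B < normalizerIn S B := normalizerIn_gt hS hBS
  obtain ⟨bi, hbi, hbl, -, hbii⟩ := hb.inverse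
  have hstep : IsMor F (img (normalizerIn S B) b) (b' ∘ bi) :=
    hbi.comp hb' fun y hy => hbii ▸ mem_img_of_mem bi hy
  have hlt : D < img (normalizerIn S B) b := by
    refine lt_of_le_of_ne (hbD ▸ img_mono b hBN.le) fun h => ?_
    rw [← hbD] at h
    exact hBN.ne (le_antisymm hBN.le (hb.le_of_img_le le_rfl hBN.le h.ge))
  have hsrc : img (normalizerIn S B) b ≤ normalizerIn S D :=
    img_le fun x hx => hbD ▸ mapsTo_normalizerIn hb hBN.le le_rfl x hx
  have h3 := joined_of_step hS n habove _ D _ _ (by rw [← hbD, (hb.restrict hBN.le).card_img, hn])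
    hstep hlt hsrc rfl
  have hDD' : img D (b' ∘ bi) = D' := by
    rw [← hbD, (hb.restrict hBN.le).img_comp, img_congr (g := b') fun x hx => by
      simp [hbl x (hBN.le hx)], hbD']
  rw [hDD'] at h3
  obtain ⟨E, ⟨u, hu, huE⟩, ⟨v, hv, hvE⟩⟩ := h3
  refine ⟨E, ⟨u ∘ a, ha.comp hu fun x hx => ?_, ?_⟩, ⟨v ∘ c, hc.comp hv fun x hx => ?_, ?_⟩⟩
  · exact haD ▸ mapsTo_normalizerIn ha (le_normalizerIn hA) le_rfl x hx
  · rw [← (ha.restrict (le_normalizerIn hA)).img_comp, haD, huE]
  · exact hcD ▸ mapsTo_normalizerIn hc (le_normalizerIn hC) le_rfl x hx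
  · rw [← (hc.restrict (le_normalizerIn hC)).img_comp, hcD, hvE]

theorem lt_of_isConj {P A : Subgroup Ω} (hPS : P < S) (h : F.IsConj P A) : A < S := by
  refine lt_of_le_of_ne (isConj_le h).2 fun e => ?_
  have h1 := isConj_card h
  have h2 := card_lt_of_lt le_rfl hPS
  rw [e] at h1
  omega

/-- Every member of the class is sent to a fully normalized one by a map of its normalizer. -/
theorem exists_full (hS : IsPGroup p S) {P : Subgroup Ω} (hPS : P < S) (hyp : CritHyp F p P)
    (hP : F.IsFullyNormalized P) {Q : Subgroup Ω} (hQ : F.IsConj P Q) : Full F Q P := by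
  have key : ∀ {n : ℕ} {A : Subgroup Ω} {f : Ω → Ω}, Chain F n A f → n = Nat.card P →
      F.IsConj P A → Joined F A (img A f) := by
    intro n A f h
    induction h with
    | @step A R g f hn hR hg e =>
      intro hnP hA
      rw [img_congr e]
      have hfin : Finite R := finite_of_le hg.le
      exact joined_of_step hS n (hnP ▸ hyp.above) _ A (R ⊓ Subgroup.normalizer (A : Set Ω)) g hn
        (hg.restrict inf_le_left) (lt_inf_normalizer (isPGroup_of_le hg.le hS) hR)
        (fun x hx => mem_normalizerIn.mpr ⟨hg.le hx.1, hx.2⟩) rfl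
    | @comp A f h k h1 h2 e ih1 ih2 =>
      intro hnP hA
      have hB := isConj_trans hA (isConj_img h1.isMor)
      have hk : img A k = img (img A f) h := by rw [h1.isMor.img_comp, img_congr e]; rfl
      rw [hk]
      exact joined_trans hS (n := Nat.card P) hyp.above (isConj_card hB) (lt_of_isConj hPS hB)
        (ih1 hnP hA) (ih2 hnP hB) (isConj_le hA).2 (h2.isMor.img_le)
  obtain ⟨f, hf, hfi⟩ := isConj_iff.mp hQ
  obtain ⟨D, ⟨a, ha, haD⟩, ⟨b, hb, hbD⟩⟩ :=
    hfi ▸ key (hyp.gen P f (isConj_refl F hP.1) hf) rfl (isConj_refl F hP.1)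
  have hDc : F.IsConj P D := isConj_iff.mpr ⟨a, ha.restrict (le_normalizerIn hP.1), haD⟩
  have hsub : img (normalizerIn S P) a ≤ normalizerIn S D :=
    img_le fun x hx => haD ▸ mapsTo_normalizerIn ha (le_normalizerIn hP.1) le_rfl x hx
  have heq : img (normalizerIn S P) a = normalizerIn S D :=
    eq_of_le_of_card normalizerIn_le hsub (by rw [ha.card_img]; exact hP.2 D hDc)
  obtain ⟨ai, hai, hal, -, -⟩ := ha.inverse
  refine ⟨ai ∘ b, hb.comp hai fun x hx => ?_, ?_⟩
  · rw [heq]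
    exact hbD ▸ mapsTo_normalizerIn hb (le_normalizerIn (isConj_le hQ).2) le_rfl x hx
  · rw [← (hb.restrict (le_normalizerIn (isConj_le hQ).2)).img_comp, hbD, ← haD,
      (ha.restrict (le_normalizerIn hP.1)).img_comp]
    exact (img_congr (g := id) fun x hx => hal x (le_normalizerIn hP.1 hx)).trans (img_id _)

/-- `f` extends to `P ⊔ M(P)`. -/
def GoodM (F : FusionSystem S) {p : ℕ} (o : OFam F p) (P : Subgroup Ω) (f : Ω → Ω) : Prop :=
  ∃ k, IsMor F (P ⊔ o.M P) k ∧ img P k = P ∧ ∀ x ∈ P, k x = f x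

theorem GoodM.congr {o : OFam F p} {P : Subgroup Ω} {f f' : Ω → Ω} (h : GoodM F o P f)
    (e : ∀ x ∈ P, f x = f' x) : GoodM F o P f' := by
  obtain ⟨k, hk, hkP, hke⟩ := h
  exact ⟨k, hk, hkP, fun x hx => (hke x hx).trans (e x hx)⟩

theorem goodM_maps {o : OFam F p} {P : Subgroup Ω} {k : Ω → Ω} (hk : IsMor F (P ⊔ o.M P) k)
    (hkP : img P k = P) : img (P ⊔ o.M P) k = P ⊔ o.M P := by
  refine eq_of_le_of_card hk.le ?_ hk.card_img.ge
  rw [hk.img_sup, hkP]
  refine sup_le_sup le_rfl (img_le fun x hx => ?_)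
  have := o.M_map hk le_sup_left (Subgroup.mem_sup_right hx) hx
  rwa [hkP] at this

theorem GoodM.comp {o : OFam F p} {P : Subgroup Ω} {f g : Ω → Ω} (hf : GoodM F o P f)
    (hg : GoodM F o P g) : GoodM F o P (g ∘ f) := by
  obtain ⟨k, hk, hkP, hke⟩ := hf
  obtain ⟨l, hl, hlP, hle⟩ := hg
  refine ⟨l ∘ k, hk.comp hl fun x hx => (goodM_maps hk hkP).le (mem_img_of_mem k hx), ?_,
    fun x hx => ?_⟩
  · rw [← (hk.restrict le_sup_left).img_comp, hkP, hlP]
  · rw [Function.comp_apply, Function.comp_apply, hke x hx]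
    exact hle _ (by rw [← hke x hx]; exact hkP.le (mem_img_of_mem k hx))

theorem GoodM.inv {o : OFam F p} {P : Subgroup Ω} {f g : Ω → Ω} (hf : GoodM F o P f)
    (hg : ∀ x ∈ P, g (f x) = x) : GoodM F o P g := by
  obtain ⟨k, hk, hkP, hke⟩ := hf
  obtain ⟨l, hl, hll, -, -⟩ := hk.inverse
  rw [goodM_maps hk hkP] at hl
  refine ⟨l, hl, ?_, fun y hy => ?_⟩
  · conv_lhs => rw [← hkP]
    rw [(hk.restrict le_sup_left).img_comp]
    exact (img_congr (g := id) fun x hx => hll x (Subgroup.mem_sup_left hx)).trans (img_id _)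
  · obtain ⟨x, hx, rfl⟩ := (hk.restrict le_sup_left).mem_img.mp (hkP.ge hy)
    rw [hll x (Subgroup.mem_sup_left hx), hke x hx, hg x hx]

/-- An automorphism extending above `P` extends to `P ⊔ M(P)`. -/
theorem goodM_of_step (hS : IsPGroup p S) {P : Subgroup Ω} (hPS : P < S) (hyp : CritHyp F p P)
    (hP : F.IsFullyNormalized P) (o : OFam F p) :
    ∀ (d : ℕ) (R : Subgroup Ω) (g : Ω → Ω), IsMor F R g → P < R → R ≤ normalizerIn S P →
      img P g = P → Nat.card S - Nat.card ↥(R ⊓ o.M P) = d → GoodM F o P g := by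
  intro d
  induction d using Nat.strong_induction_on with
  | _ d ih =>
  intro R g hg hPR hRN hgP hd
  subst hd
  have hPS' : P ≤ S := hP.1
  set M := o.M P with hM
  by_cases hMR : M ≤ R
  · exact ⟨g, hg.restrict (sup_le hPR.le hMR), hgP, fun _ _ => rfl⟩
  set Y := img R g with hY
  have hYN : Y ≤ normalizerIn S P := img_le fun x hx => hgP ▸ mapsTo_normalizerIn hg hPR.le hRN x hx
  have hMS : M ≤ S := o.M_le_S P
  have hRfin : Finite R := finite_of_le hg.le
  have hMY : ¬ M ≤ Y := fun h => hMR (by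
    have h1 : Nat.card M ≤ Nat.card ↥(R ⊓ M) := by
      obtain ⟨gi, hgi, hgl, -, hgii⟩ := hg.inverse
      refine card_le_of_img_le (hgi.restrict h) (inf_le_right.trans hMS) (img_le fun x hx => ?_)
      have h2 := o.M_map hgi (hgP ▸ img_mono g hPR.le) (h hx) hx
      refine ⟨hgii ▸ mem_img_of_mem gi (h hx), ?_⟩
      have h3 : img P gi = P := by
        conv_lhs => rw [← hgP]
        rw [(hg.restrict hPR.le).img_comp]
        exact (img_congr (g := id) fun x hx => hgl x (hPR.le hx)).trans (img_id _)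
      rwa [h3] at h2
    exact (eq_of_le_of_card hMS inf_le_right h1).ge.trans inf_le_left)
  -- growth of the weights
  have hgrow : ∀ X : Subgroup Ω, P ≤ X → X ≤ normalizerIn S P → ¬ M ≤ X →
      Nat.card ↥(X ⊓ M) < Nat.card ↥((normalizerIn S P ⊓ normalizerIn S X) ⊓ M) := by
    intro X hPX hXN hMX
    have hXS : X ≤ S := hXN.trans normalizerIn_le
    have hnorm : X ≤ Subgroup.normalizer (M : Set Ω) := fun x hx =>
      Subgroup.mem_normalizer_iff.mpr fun y => ⟨fun hy => o.M_conj hPS' (hXN hx) hy, fun hy => by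
        have := o.M_conj hPS' (Subgroup.inv_mem _ (hXN hx)) hy
        simpa [cj, mul_assoc] using this⟩
    have hlt : X < X ⊔ M := lt_of_le_of_ne le_sup_left fun h => hMX (le_sup_right.trans h.ge)
    have : Finite ↥(X ⊔ M) := finite_of_le (sup_le hXS hMS)
    obtain ⟨z, hz, hzX⟩ := SetLike.exists_of_lt
      (lt_inf_normalizer (isPGroup_of_le (sup_le hXS hMS) hS) hlt)
    obtain ⟨hzsup, hzN⟩ := Subgroup.mem_inf.mp hz
    have hzm : z ∈ ((X : Set Ω) * (M : Set Ω)) := by
      rw [← Subgroup.coe_mul_of_left_le_normalizer_right X M hnorm]; exact hzsup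
    obtain ⟨x, hx, m, hm, rfl⟩ := hzm
    have hmX : m ∉ X := fun h => hzX (X.mul_mem hx h)
    have hmN : m ∈ Subgroup.normalizer (X : Set Ω) := by
      have := Subgroup.mul_mem _ (Subgroup.inv_mem _ (Subgroup.le_normalizer hx)) hzN
      rwa [inv_mul_cancel_left] at this
    refine card_lt_of_lt (inf_le_right.trans hMS) (lt_of_le_of_ne ?_ fun h => hmX ?_)
    · exact inf_le_inf_right M fun y hy => ⟨hXN hy,
        mem_normalizerIn.mpr ⟨hXS hy, Subgroup.le_normalizer hy⟩⟩
    · exact (h.ge ⟨⟨o.M_le P hm, mem_normalizerIn.mpr ⟨hMS hm, hmN⟩⟩, hm⟩).1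
  have hgR := hgrow R hPR.le hRN hMR
  have hgY := hgrow Y (hgP ▸ img_mono g hPR.le) hYN hMY
  have hYM : Nat.card ↥(R ⊓ M) ≤ Nat.card ↥(Y ⊓ M) := by
    refine card_le_of_img_le (hg.restrict inf_le_left) (inf_le_right.trans hMS) (img_le fun x hx => ?_)
    have h2 := o.M_map hg hPR.le hx.1 hx.2
    rw [hgP] at h2
    exact ⟨mem_img_of_mem g hx.1, h2⟩
  have habove' : AboveSat F p (Nat.card P) := hyp.above
  obtain ⟨R', C, δA, δB, kA, kB, had, hδA, hδA', hδB, hδB', hkA, hkAC, hkAR, hkB, hkBC, hkey⟩ :=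
    exists_replacement hS habove' hg hPR
  rw [hgP] at hkB hkBC
  set SA := normalizerIn S P ⊓ normalizerIn S R with hSA
  set SB := normalizerIn S P ⊓ normalizerIn S Y with hSB
  have hRSg : R ≤ SA := le_inf hRN (le_normalizerIn hg.le)
  have hPSg : P < SA := lt_of_lt_of_le hPR hRSg
  have hPSB : P < SB := by
    refine lt_of_lt_of_le ?_ (le_inf hYN (le_normalizerIn hg.img_le))
    refine lt_of_le_of_ne (hgP ▸ img_mono g hPR.le) fun h => ?_
    have h2 : img R g = img P g := h.symm.trans hgP.symm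
    exact hPR.ne (le_antisymm hPR.le (hg.le_of_img_le le_rfl hPR.le h2.le))
  have hC : F.IsConj P C := isConj_iff.mpr ⟨kA, hkA.restrict hPSg.le, hkAC⟩
  obtain ⟨φ, hφ, hφC⟩ := exists_full hS hPS hyp hP hC
  have hCS : C ≤ S := (isConj_le hC).2
  have hCN : C ≤ normalizerIn S C := le_normalizerIn hCS
  have hScard : Nat.card M ≤ Nat.card S := Subgroup.card_le_of_le hMS
  have hwle : ∀ X : Subgroup Ω, Nat.card ↥(X ⊓ M) ≤ Nat.card S := fun X =>
    Subgroup.card_le_of_le (inf_le_right.trans hMS)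
  have hmk : ∀ (Sx : Subgroup Ω) (k : Ω → Ω), IsMor F Sx k → P < Sx → Sx ≤ normalizerIn S P →
      img P k = C → Nat.card ↥(R ⊓ M) < Nat.card ↥(Sx ⊓ M) → GoodM F o P (φ ∘ k) := by
    intro Sx k hk hPs hsN hkC hw
    refine ih _ (by have := hwle Sx; omega) Sx (φ ∘ k) (hk.comp hφ fun x hx => ?_) hPs hsN ?_ rfl
    · exact hkC ▸ mapsTo_normalizerIn hk hPs.le hsN x hx
    · rw [← (hk.restrict hPs.le).img_comp, hkC, hφC]
  have gA := hmk SA kA hkA hPSg inf_le_left hkAC hgR
  have gB := hmk SB kB hkB hPSB inf_le_left hkBC (hYM.trans_lt hgY)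
  -- the middle
  obtain ⟨t, ht, n, hn, hnC, hne⟩ := had.middle hS o (F.autGroup R' |>.mul_mem hδB (Subgroup.inv_mem _ hδA))
    ((stabIn R' C).mul_mem hδB' (Subgroup.inv_mem _ hδA'))
  set Sn := R' ⊔ (normalizerIn S R' ⊓ o.M C) with hSn
  have hCSg : C ≤ Sn := had.le.trans le_sup_left
  have hR'N : R' ≤ normalizerIn S C := by
    rw [← hkAR]
    exact img_le fun x hx => hkAC ▸ mapsTo_normalizerIn hkA hPSg.le inf_le_left x (hRSg hx)
  have hSnN : Sn ≤ normalizerIn S C := sup_le hR'N (inf_le_right.trans (o.M_le C))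
  obtain ⟨φi, hφi, hφl, -, hφii⟩ := hφ.inverse
  have hφm : IsMor F (img Sn φ) φi := hφi.restrict (img_mono φ hSnN)
  have hback : ∀ y ∈ img Sn φ, φi y ∈ Sn := fun y hy => by
    obtain ⟨x, hx, rfl⟩ := (hφ.restrict hSnN).mem_img.mp hy
    rwa [hφl x (hSnN hx)]
  have hnN : ∀ x ∈ Sn, n x ∈ normalizerIn S C := fun x hx =>
    hnC ▸ mapsTo_normalizerIn hn hCSg hSnN x hx
  have hmid : IsMor F (img Sn φ) (φ ∘ (n ∘ φi)) :=
    (hφm.comp hn hback).comp hφ fun y hy => hnN _ (hback y hy)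
  have hPimg : P < img Sn φ := by
    refine lt_of_le_of_ne (hφC ▸ img_mono φ hCSg) fun h => ?_
    have h1 := (hφ.restrict hSnN).card_img
    rw [← h] at h1
    have h2 : Nat.card R' ≤ Nat.card Sn := by
      have : Finite Sn := finite_of_le hn.le
      exact Subgroup.card_le_of_le le_sup_left
    rw [← hkAR, (hkA.restrict hRSg).card_img] at h2
    have := card_lt_of_lt hg.le hPR
    omega
  have gN : GoodM F o P (φ ∘ (n ∘ φi)) := by
    refine ih _ ?_ _ _ hmid hPimg ?_ ?_ rfl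
    · have h1 : Nat.card ↥(SA ⊓ M) ≤ Nat.card ↥(normalizerIn S R' ⊓ o.M C) := by
        refine card_le_of_img_le (hkA.restrict inf_le_left) (inf_le_right.trans (o.M_le_S C))
          (img_le fun x hx => ⟨?_, hkAC ▸ o.M_map hkA hPSg.le hx.1 hx.2⟩)
        exact hkAR ▸ mapsTo_normalizerIn hkA hRSg inf_le_right x hx.1
      have h2 : Nat.card ↥(normalizerIn S R' ⊓ o.M C) ≤ Nat.card ↥(img Sn φ ⊓ M) := by
        refine card_le_of_img_le (hφ.restrict (le_sup_right.trans hSnN)) (inf_le_right.trans hMS)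
          (img_le fun x hx => ⟨mem_img_of_mem φ (Subgroup.mem_sup_right hx), ?_⟩)
        have h3 := o.M_map hφ hCN (hSnN (Subgroup.mem_sup_right hx)) hx.2
        rw [hφC] at h3
        exact h3
      have := hwle (img Sn φ)
      omega
    · exact img_le fun x hx => hφC ▸ mapsTo_normalizerIn hφ hCN le_rfl x (hSnN hx)
    · conv_lhs => rw [← hφC]
      rw [(hφ.restrict hCN).img_comp, img_congr (g := φ ∘ n) fun x hx => by
        simp [hφl x (hCN hx)], ← (hn.restrict hCSg).img_comp, hnC, hφC]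
  have hφt : φ t ∈ normalizerIn S P := hφC ▸ mapsTo_normalizerIn hφ hCN le_rfl t ht
  have gT : GoodM F o P (cj (φ t)) :=
    ⟨cj (φ t), isMor_cj F (sup_le hPS' hMS) (mem_normalizerIn.mp hφt).1,
      img_cj_of_normalizer (mem_normalizerIn.mp hφt).2, fun _ _ => rfl⟩
  -- assemble
  obtain ⟨kBi, hkBi, hkBl, -, -⟩ := (hkB.restrict hPSB.le).inverse
  rw [hkBC] at hkBi
  set gBi := kBi ∘ φi with hgBi
  have gB' : GoodM F o P gBi := gB.inv fun x hx => by
    have hm : kB x ∈ C := hkBC ▸ mem_img_of_mem kB hx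
    simp [hgBi, hφl _ (hCN hm), hkBl x hx]
  refine ((((gA.comp gN).comp gT).comp gB')).congr fun x hx => ?_
  have hkx : kA x ∈ C := hkAC ▸ mem_img_of_mem kA hx
  have hnx : n (kA x) ∈ C := hnC.le (mem_img_of_mem n hkx)
  have htx : cj t (n (kA x)) ∈ C :=
    (Subgroup.mem_normalizer_iff.mp (mem_normalizerIn.mp ht).2 _).mp hnx
  have hgx : g x ∈ P := hgP.le (mem_img_of_mem g hx)
  simp only [Function.comp_apply, hgBi]
  rw [hφl _ (hCN hkx)]
  have e2 : cj (φ t) (φ (n (kA x))) = φ (cj t (n (kA x))) :=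
    (hφ.map_conj ht (hCN hnx)).symm
  rw [e2, hφl _ (hCN htx), ← hne _ hkx, ← hkey x hx, hkBl _ hgx]

end CfsgLib.Fusion
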