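import Mathlib
import Cfsg.Agent.Lib.Fusion.SatCriterion
import Cfsg.Agent.Lib.Fusion.Criteria

/-!
# The saturation criterion: automization, receptivity, and the final statement
-/

set_option autoImplicit false
set_option linter.unusedSectionVars false

namespace CfsgLib.Fusion

open Cfsg Cfsg.FusionSystem

variable {Ω : Type*} [Group Ω] {S : Subgroup Ω} {F : FusionSystem S} {p : ℕ}
  [hp : Fact p.Prime] [Finite S]

theorem automized_receptive_of_crit (hS : IsPGroup p S) {P₀ : Subgroup Ω} (hPS : P₀ < S)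
    (hyp : CritHyp F p P₀) (o : OFam F p) (hne : ∃ Q, F.IsConj P₀ Q ∧ ¬ o.M Q ≤ Q) :
    ∃ Q, F.IsConj P₀ Q ∧ F.IsFullyAutomized p Q ∧ F.IsReceptive Q := by
  obtain ⟨P₁, hP₁, hP₁n⟩ := exists_fullyNormalized F hPS.le
  have hyp' : ∀ {P}, F.IsConj P₀ P → CritHyp F p P := fun {P} h =>
    ⟨(isConj_card h).symm ▸ hyp.above, fun A f hA hf =>
      (isConj_card h).symm ▸ hyp.gen A f (isConj_trans h hA) hf⟩
  obtain ⟨Q, hQ, hMQ⟩ := hne
  obtain ⟨φ, hφ, hφQ⟩ := exists_full hS (lt_of_isConj hPS hP₁) (hyp' hP₁) hP₁n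
    (isConj_trans (isConj_symm hP₁) hQ)
  have hQS := (isConj_le hQ).2
  -- `W = P₁ M(P₁)` is larger than `P₁`
  have hP₁W : P₁ < P₁ ⊔ o.M P₁ := by
    refine lt_of_le_of_ne le_sup_left fun h => hMQ fun x hx => ?_
    have h1 := o.M_map hφ (le_normalizerIn hQS) (o.M_le Q hx) hx
    rw [hφQ] at h1
    have h2 : φ x ∈ img Q φ := hφQ.symm ▸ h.ge (Subgroup.mem_sup_right h1)
    exact (hφ.mem_img_iff (le_normalizerIn hQS) (o.M_le Q hx)).mp h2
  have hWS : P₁ ⊔ o.M P₁ ≤ S := sup_le hP₁n.1 (o.M_le_S P₁)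
  obtain ⟨W', hW', haut, hrec⟩ := hyp.above _ hWS
    (isConj_card hP₁ ▸ card_lt_of_lt hWS hP₁W)
  obtain ⟨h₀, hh₀, hh₀i⟩ := isConj_iff.mp hW'
  obtain ⟨β, hβ, had⟩ := exists_adapted hS hrec haut
    (hh₀i ▸ img_mono h₀ le_sup_left : img P₁ h₀ ≤ W')
  set h := autFun β ∘ h₀ with hh
  set P := img (img P₁ h₀) (autFun β) with hPdef
  have hmor : IsMor F (P₁ ⊔ o.M P₁) h :=
    hh₀.comp (isMor_autFun hrec.1 hβ) fun x hx => hh₀i ▸ mem_img_of_mem h₀ hx
  have hi : img (P₁ ⊔ o.M P₁) h = W' := by rw [hh, ← hh₀.img_comp, hh₀i, img_autFun]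
  have hiP : img P₁ h = P := by rw [hh, ← (hh₀.restrict le_sup_left).img_comp]
  obtain ⟨δ, hδ, hδ', k, hk, hke⟩ := had.toC hS le_sup_left hmor hi hiP
  set N₁ := normalizerIn S P₁ with hN₁
  have hP₁N : P₁ ≤ N₁ := le_normalizerIn hP₁n.1
  have hWN : P₁ ⊔ o.M P₁ ≤ N₁ := sup_le hP₁N (o.M_le P₁)
  have hN₁W : N₁ ≤ normalizerIn S (P₁ ⊔ o.M P₁) := by
    intro s hs
    obtain ⟨hsS, hsN⟩ := mem_normalizerIn.mp hs
    refine mem_normalizerIn.mpr ⟨hsS, ?_⟩
    have hfin : Finite ↥(P₁ ⊔ o.M P₁) := finite_of_le hWS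
    refine Subgroup.mem_normalizer_fintype fun x hx => ?_
    refine (sup_le (fun a ha => ?_) (fun a ha => ?_) :
      P₁ ⊔ o.M P₁ ≤ (P₁ ⊔ o.M P₁).comap (MulAut.conj s).toMonoidHom) hx
    · exact Subgroup.mem_sup_left ((Subgroup.mem_normalizer_iff.mp hsN a).mp ha)
    · exact Subgroup.mem_sup_right (o.M_conj hP₁n.1 hs ha)
  have hkN : IsMor F N₁ k := hk.restrict (le_inf le_rfl hN₁W)
  have hPW : P ≤ W' := had.le
  have hPSle : P ≤ S := hPW.trans hrec.1
  have hPfin : Finite P := finite_of_le hPSle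
  have hkP : img P₁ k = P := by
    rw [img_congr fun x hx => hke x (Subgroup.mem_sup_left hx)]
    show img P₁ (autFun δ ∘ h) = P
    rw [← (hmor.restrict le_sup_left).img_comp, hiP]
    exact ((isMor_autFun hrec.1 hδ).restrict hPW).img_eq_self fun y hy => stabIn_maps hPW hδ' hy
  have hP : F.IsConj P₀ P :=
    isConj_trans hP₁ (isConj_iff.mpr ⟨k, hkN.restrict hP₁N, hkP⟩)
  have hkimg : img N₁ k = normalizerIn S P := by
    refine eq_of_le_of_card normalizerIn_le
      (img_le fun x hx => hkP ▸ mapsTo_normalizerIn hkN hP₁N le_rfl x hx) ?_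
    rw [hkN.card_img]
    exact hP₁n.2 P (isConj_trans (isConj_symm hP₁) hP)
  have hPn : F.IsFullyNormalized P := ⟨hPSle, fun R hR => by
    rw [← hkimg, hkN.card_img]
    exact hP₁n.2 R (isConj_trans (isConj_symm hP₁) (isConj_trans hP hR))⟩
  have hkW : img (P₁ ⊔ o.M P₁) k = W' := by
    rw [img_congr hke]
    show img _ (autFun δ ∘ h) = W'
    rw [← hmor.img_comp, hi, img_autFun]
  -- `W' = P M(P)`
  have hWeq : W' = P ⊔ o.M P := by
    obtain ⟨ki, hki, hkl, -, hkii⟩ := hkN.inverse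
    refine le_antisymm ?_ (sup_le hPW ?_)
    · rw [← hkW, (hkN.restrict hWN).img_sup, hkP]
      refine sup_le_sup le_rfl (img_le fun x hx => ?_)
      have := o.M_map hkN hP₁N (o.M_le P₁ hx) hx
      rwa [hkP] at this
    · intro y hy
      obtain ⟨x, hx, rfl⟩ := hkN.mem_img.mp (hkimg.ge (o.M_le P hy))
      have hxM : x ∈ o.M P₁ := by
        have h1 := o.M_map hki (hkP ▸ img_mono k hP₁N) (mem_img_of_mem k hx) hy
        rw [hkl x hx] at h1
        have h2 : img P ki = P₁ := by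
          rw [← hkP, (hkN.restrict hP₁N).img_comp]
          exact (img_congr (g := id) fun z hz => hkl z (hP₁N hz)).trans (img_id _)
        rwa [h2] at h1
      rw [← hkW]
      exact mem_img_of_mem k (Subgroup.mem_sup_right hxM)
  have hPlt : P < S := lt_of_isConj hPS hP
  have hcrit := hyp' hP
  -- every automorphism of `P` extends to `W'`
  have hgood : ∀ f, IsMor F P f → img P f = P → GoodM F o P f := by
    have key : ∀ {n : ℕ} {A : Subgroup Ω} {f : Ω → Ω}, Chain F n A f → n = Nat.card P →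
        F.IsConj P A → ∀ φA φB, IsMor F (normalizerIn S A) φA → img A φA = P →
          IsMor F (normalizerIn S (img A f)) φB → img (img A f) φB = P →
          ∀ ψ, (∀ x ∈ A, ψ (φA x) = φB (f x)) → GoodM F o P ψ := by
      intro n A f hc
      induction hc with
      | @step A R g f hn hR hg e =>
        intro hnP hA φA φB hφA hφAP hφB hφBP ψ hψ
        have hAS : A ≤ S := (isConj_le hA).2
        have hfinR : Finite R := finite_of_le hg.le
        set R₁ := R ⊓ Subgroup.normalizer (A : Set Ω) with hR₁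
        have hAR₁ : A < R₁ := lt_inf_normalizer (isPGroup_of_le hg.le hS) hR
        have hR₁N : R₁ ≤ normalizerIn S A :=
          fun x hx => mem_normalizerIn.mpr ⟨hg.le hx.1, hx.2⟩
        obtain ⟨φi, hφi, hφl, -, -⟩ := hφA.inverse
        have hgN : ∀ x ∈ R₁, g x ∈ normalizerIn S (img A f) := fun x hx => by
          rw [img_congr e]
          exact mapsTo_normalizerIn (hg.restrict inf_le_left) hAR₁.le hR₁N x hx
        have hback : ∀ y ∈ img R₁ φA, φi y ∈ R₁ := fun y hy => by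
          obtain ⟨x, hx, rfl⟩ := (hφA.restrict hR₁N).mem_img.mp hy
          rwa [hφl x (hR₁N hx)]
        have hm : IsMor F (img R₁ φA) (φB ∘ (g ∘ φi)) :=
          ((hφi.restrict (img_mono φA hR₁N)).comp (hg.restrict inf_le_left) hback).comp hφB
            fun y hy => hgN _ (hback y hy)
        have hsub : img R₁ φA ≤ normalizerIn S P := img_le fun x hx =>
          hφAP ▸ mapsTo_normalizerIn hφA (le_normalizerIn hAS) le_rfl x (hR₁N hx)
        have hlt : P < img R₁ φA := by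
          refine lt_of_le_of_ne (hφAP ▸ img_mono φA hAR₁.le) fun h => ?_
          have h1 : img R₁ φA ≤ img A φA := h.ge.trans hφAP.ge
          exact hAR₁.ne (le_antisymm hAR₁.le (hφA.le_of_img_le hR₁N (le_normalizerIn hAS) h1))
        have hval : ∀ x ∈ A, (φB ∘ (g ∘ φi)) (φA x) = φB (f x) := fun x hx => by
          simp [hφl x (le_normalizerIn hAS hx), e x hx]
        have hPimg : img P (φB ∘ (g ∘ φi)) = P := by
          conv_lhs => rw [← hφAP]
          rw [(hφA.restrict (le_normalizerIn hAS)).img_comp,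
            img_congr (f := (φB ∘ (g ∘ φi)) ∘ φA) (g := φB ∘ f) fun x hx => hval x hx]
          have hfm : IsMor F A f := (hg.restrict hR.le).congr fun x hx => (e x hx).symm
          rw [← hfm.img_comp, hφBP]
        refine (goodM_of_step hS hPlt hcrit hPn o _ _ _ hm hlt hsub hPimg rfl).congr fun y hy => ?_
        obtain ⟨x, hx, rfl⟩ := (hφA.restrict (le_normalizerIn hAS)).mem_img.mp (hφAP.ge hy)
        rw [hval x hx, hψ x hx]
      | @comp A f h k h1 h2 e ih1 ih2 =>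
        intro hnP hA φA φB hφA hφAP hφB hφBP ψ hψ
        have hAS : A ≤ S := (isConj_le hA).2
        have hB := isConj_trans hA (isConj_img h1.isMor)
        obtain ⟨φ, hφ, hφP⟩ := exists_full hS hPlt hcrit hPn hB
        obtain ⟨φi, -, hφl, -, -⟩ := hφA.inverse
        obtain ⟨φj, -, hφjl, -, -⟩ := hφ.inverse
        have hBS : img A f ≤ S := h1.isMor.img_le
        have hk' : img A k = img (img A f) h := by rw [h1.isMor.img_comp, img_congr e]; rfl
        rw [hk'] at hφB hφBP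
        have g1 := ih1 hnP hA φA φ hφA hφAP hφ hφP (φ ∘ (f ∘ φi)) fun x hx => by
          simp [hφl x (le_normalizerIn hAS hx)]
        have g2 := ih2 hnP hB φ φB hφ hφP hφB hφBP (φB ∘ (h ∘ φj)) fun x hx => by
          simp [hφjl x (le_normalizerIn hBS hx)]
        refine (g1.comp g2).congr fun y hy => ?_
        obtain ⟨x, hx, rfl⟩ := (hφA.restrict (le_normalizerIn hAS)).mem_img.mp (hφAP.ge hy)
        simp only [Function.comp_apply]
        rw [hφl x (le_normalizerIn hAS hx),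
          hφjl _ (le_normalizerIn hBS (mem_img_of_mem f hx)), ← e x hx, hψ x hx]
    intro f hf hfP
    refine key (hcrit.gen P f (isConj_refl F hPSle) hf) rfl (isConj_refl F hPSle) id id
      (isMor_id F normalizerIn_le) (img_id P) (hfP.symm ▸ isMor_id F normalizerIn_le) ?_ f fun x _ => rfl
    rw [hfP, img_id]
  have hres : ∀ f, IsMor F P f → img P f = P → ∃ τ, τ ∈ F.autGroup W' ∧ τ ∈ stabIn W' P ∧
      ∀ x ∈ P, autFun τ x = f x := by
    intro f hf hfP
    obtain ⟨l, hl, hlP, hle⟩ := hgood f hf hfP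
    have himg := goodM_maps hl hlP
    rw [← hWeq] at hl himg
    obtain ⟨τ, hτ, hτe⟩ := exists_aut hl himg
    have h1 : ∀ x ∈ P, autFun τ x = f x := fun x hx => by rw [hτe x (hPW hx), hle x hx]
    exact ⟨τ, hτ, mem_stabIn_of_maps hPW fun x hx => h1 x hx ▸ hfP.le (mem_img_of_mem f hx), h1⟩
  set K := F.autGroup W' ⊓ stabIn W' P with hK
  set T := autInducedBy S W' ⊓ stabIn W' P with hT
  have hTN : ∀ τ ∈ T, ∃ g ∈ normalizerIn S P, ∀ x ∈ W', autFun τ x = cj g x := fun τ hτ => by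
    obtain ⟨g, hg, hgn, hge⟩ := mem_autInducedBy.mp hτ.1
    exact ⟨g, mem_normalizerIn.mpr ⟨hg, normalizer_of_mem_stabIn hPW hgn hτ.2 hge⟩, hge⟩
  have hNT : ∀ g ∈ normalizerIn S P, ∃ τ ∈ T, ∀ x ∈ W', autFun τ x = cj g x := fun g hg => by
    obtain ⟨x, hx, rfl⟩ := hkN.mem_img.mp (hkimg.ge hg)
    obtain ⟨hgS, hgN⟩ := mem_normalizerIn.mp hg
    have hxW := hN₁W hx
    have hgW : k x ∈ Subgroup.normalizer (W' : Set Ω) := by
      have := mapsTo_normalizerIn hkN hWN hN₁W x hx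
      rw [hkW] at this
      exact (mem_normalizerIn.mp this).2
    obtain ⟨τ, hτ, hτe⟩ := exists_autInducedBy (P := W') hgS hgW
    exact ⟨τ, ⟨hτ, mem_stabIn_of_normalizer hPW hgN hτe⟩, hτe⟩
  have := finite_mulAut hPSle
  have := finite_mulAut hrec.1
  let r : K →* MulAut P := (resC hPW).comp (Subgroup.inclusion inf_le_right)
  have hr : ∀ (τ : K), ∀ x ∈ P, autFun (r τ) x = autFun (τ : MulAut W') x := fun τ x hx =>
    autFun_resC hPW _ hx
  -- automized
  have hfa : F.IsFullyAutomized p P := by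
    refine isFullyAutomized_iff.mpr ⟨hPSle, autInducedBy_le F hPSle, isPGroup_autInducedBy hS,
      fun D hD hle hDF => le_antisymm (fun α hα => ?_) hle⟩
    obtain ⟨U, hU⟩ := (hD.comap_of_injective (F.autGroup P).subtype
      (F.autGroup P).subtype_injective).exists_le_sylow
    have hsurj : ∀ a ∈ F.autGroup P, ∃ τ : K, r τ = a := fun a ha => by
      obtain ⟨τ, hτ, hτ', hτe⟩ := hres _ (isMor_autFun hPSle ha) (img_autFun a)
      exact ⟨⟨τ, hτ, hτ'⟩, autFun_inj fun x hx => by rw [hr _ x hx]; exact hτe x hx⟩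
    -- lift `D` and conjugate it into `T`
    set D' := (D.comap r).map K.subtype with hD'
    obtain ⟨R, hR⟩ := (exists_sylow_iff had.syl.1).mpr had.syl
    obtain ⟨Q, hQ⟩ : ∃ Q : Subgroup K, IsPGroup p Q ∧ Q.map r = D := by
      obtain ⟨Q⟩ : Nonempty (Sylow p (D.comap r)) := inferInstance
      let rd : ↥(D.comap r) →* D := (r.comp (D.comap r).subtype).codRestrict D fun x => x.2
      have hrd : Function.Surjective rd := fun d => by
        obtain ⟨τ, hτ⟩ := hsurj d (hDF d.2)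
        exact ⟨⟨τ, show r τ ∈ D by rw [hτ]; exact d.2⟩, Subtype.ext hτ⟩
      have htop : ((Q.mapSurjective hrd : Sylow p D) : Subgroup D) = ⊤ :=
        ((Q.mapSurjective hrd).is_maximal' (Q := ⊤) (hD.of_equiv Subgroup.topEquiv.symm) le_top).symm
      refine ⟨(Q : Subgroup (D.comap r)).map (D.comap r).subtype, Q.2.map _, ?_⟩
      rw [Subgroup.map_map, show r.comp (D.comap r).subtype = D.subtype.comp rd from rfl,
        ← Subgroup.map_map, show (Q : Subgroup (D.comap r)).map rd = ⊤ from htop,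
        ← MonoidHom.range_eq_map, Subgroup.range_subtype]
    obtain ⟨b, hb, hbT⟩ := had.syl.exists_conj_le (hQ.1.map K.subtype) (Subgroup.map_subtype_le _)
    -- so `D` is conjugate into `Aut_S(P)`
    have hc : ∀ d ∈ D, r ⟨b, hb⟩ * d * (r ⟨b, hb⟩)⁻¹ ∈ autInducedBy S P := by
      intro d hd
      obtain ⟨q, hq, rfl⟩ := hQ.2.ge hd
      rw [← map_inv, ← map_mul, ← map_mul]
      obtain ⟨g, hg, hge⟩ := hTN _ (hbT _ ⟨q, hq, rfl⟩)
      refine mem_autInducedBy.mpr ⟨g, (mem_normalizerIn.mp hg).1, (mem_normalizerIn.mp hg).2,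
        fun x hx => ?_⟩
      rw [hr _ x hx]
      exact hge x (hPW hx)
    have hcard : Nat.card D ≤ Nat.card (autInducedBy S P) := by
      rw [← Subgroup.card_map_of_injective (K := D)
        (f := (MulAut.conj (r ⟨b, hb⟩)).toMonoidHom) (MulAut.conj _).injective]
      refine Subgroup.card_le_of_le ?_
      rintro _ ⟨d, hd, rfl⟩
      exact hc d hd
    exact (Subgroup.eq_of_le_of_card_ge hle hcard).ge hα
  -- receptive
  refine ⟨P, hP, hfa, isReceptive_iff.mpr ⟨hPSle, fun R f hf hfR => ?_⟩⟩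
  have hRc : F.IsConj P R := isConj_symm (hfR ▸ isConj_img hf)
  obtain ⟨φ, hφ, hφR⟩ := exists_full hS hPlt hcrit hPn hRc
  have hRS := hf.le
  have hRN : R ≤ normalizerIn S R := le_normalizerIn hRS
  obtain ⟨φi, hφi, hφl, -, -⟩ := hφ.inverse
  have hfφ : IsMor F P (f ∘ φi) := by
    refine ((hφi.restrict (hφR ▸ img_mono φ hRN)).comp hf fun y hy => ?_)
    obtain ⟨x, hx, rfl⟩ := (hφ.restrict hRN).mem_img.mp (hφR.ge hy)
    rwa [hφl x (hRN hx)]
  have hfφP : img P (f ∘ φi) = P := by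
    conv_lhs => rw [← hφR]
    rw [(hφ.restrict hRN).img_comp, img_congr (g := f) fun x hx => by simp [hφl x (hRN hx)], hfR]
  obtain ⟨τ, hτ, hτ', hτe⟩ := hres _ hfφ hfφP
  -- the conjugation actions to be realized
  set X := img (nExt S R f) φ with hX
  have hXN : X ≤ normalizerIn S P := img_le fun x hx =>
    hφR ▸ mapsTo_normalizerIn hφ hRN le_rfl x (nExt_le f hx)
  set L := ((autInducedBy S P).comap r).map K.subtype with hL
  set U := ((T ⊓ autInducedBy X W').map (MulAut.conj τ).toMonoidHom) with hU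
  have hUp : IsPGroup p U := (isPGroup_of_le inf_le_left had.syl.2.1).map _
  have hUL : U ≤ L := by
    rintro _ ⟨σ, ⟨hσT, hσX⟩, rfl⟩
    obtain ⟨y, hy, hyn, hye⟩ := mem_autInducedBy.mp hσX
    obtain ⟨g, hg, rfl⟩ := (hφ.restrict (nExt_le f)).mem_img.mp hy
    obtain ⟨hgS, hgN, h, hh, hhe⟩ := id hg
    refine ⟨⟨τ * σ * τ⁻¹, K.mul_mem (K.mul_mem ⟨hτ, hτ'⟩ (had.syl.1 hσT)) (K.inv_mem ⟨hτ, hτ'⟩)⟩,
      ?_, rfl⟩
    refine mem_autInducedBy.mpr ⟨h, hh, ?_, fun x hx => ?_⟩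
    · refine Subgroup.mem_normalizer_fintype fun x hx => ?_
      obtain ⟨z, hz, rfl⟩ := hf.mem_img.mp (hfR.ge hx)
      show cj h (f z) ∈ P
      rw [← hhe z hz]
      exact hfR ▸ mem_img_of_mem f ((Subgroup.mem_normalizer_iff.mp hgN z).mp hz)
    · obtain ⟨z, hz, rfl⟩ := hf.mem_img.mp (hfR.ge hx)
      have hzφ : φ z ∈ P := hφR ▸ mem_img_of_mem φ hz
      have hcg : cj g z ∈ R := (Subgroup.mem_normalizer_iff.mp hgN z).mp hz
      have hfz : f z = autFun τ (φ z) := by rw [hτe _ hzφ]; simp [hφl z (hRN hz)]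
      rw [hr _ _ hx, autFun_mul _ _ (hPW hx), autFun_mul _ _ (autFun_mem _ (hPW hx)), ← hhe z hz]
      rw [hfz, autFun_inv_left τ (hPW hzφ), hye _ (hPW hzφ)]
      show autFun τ (cj (φ g) (φ z)) = f (cj g z)
      rw [show cj (φ g) (φ z) = φ (cj g z) from (hφ.map_conj (nExt_le f hg) (hRN hz)).symm,
        hτe _ (hφR ▸ mem_img_of_mem φ hcg)]
      simp [hφl _ (hRN hcg)]
  have hTL : T ≤ L := fun σ hσ => by
    obtain ⟨g, hg, hge⟩ := hTN σ hσ
    exact ⟨⟨σ, had.syl.1 hσ⟩, mem_autInducedBy.mpr ⟨g, (mem_normalizerIn.mp hg).1,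
      (mem_normalizerIn.mp hg).2, fun x hx => by rw [hr _ x hx]; exact hge x (hPW hx)⟩, rfl⟩
  have hTsyl : IsSylIn p T L := ⟨hTL, had.syl.2.1, fun D hD hle hDL =>
    had.syl.2.2 D hD hle (hDL.trans (Subgroup.map_subtype_le _))⟩
  obtain ⟨b, hb, hbU⟩ := hTsyl.exists_conj_le hUp hUL
  obtain ⟨⟨b', hb'K⟩, hb', rfl⟩ := hb
  obtain ⟨g, hgS, hgN, hge⟩ := mem_autInducedBy.mp (hb' : r _ ∈ autInducedBy S P)
  obtain ⟨t, htT, hte⟩ := hNT g (mem_normalizerIn.mpr ⟨hgS, hgN⟩)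
  set z := t⁻¹ * b' with hz
  have hzfix : ∀ x ∈ P, autFun z x = x := fun x hx => by
    have h1 : autFun b' x = cj g x := by rw [← hge x hx, hr _ x hx]
    rw [hz, autFun_mul _ _ (hPW hx), h1, ← hte x (hPW hx), autFun_inv_left t (hPW hx)]
  set τ' := z * τ with hτ'd
  have hτ'K : τ' ∈ K := K.mul_mem (K.mul_mem (K.inv_mem (had.syl.1 htT)) hb'K) ⟨hτ, hτ'⟩
  have hτ'T : ∀ σ ∈ T ⊓ autInducedBy X W', τ' * σ * τ'⁻¹ ∈ T := fun σ hσ => by
    have h1 := T.mul_mem (T.mul_mem (T.inv_mem htT) (hbU _ ⟨σ, hσ, rfl⟩)) htT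
    simpa [hτ'd, hz, mul_assoc] using h1
  obtain ⟨l, hl, hle⟩ := (isReceptive_iff.mp hrec).2 W' _ (isMor_autFun hrec.1 hτ'K.1)
    (img_autFun τ')
  have hXl : X ≤ nExt S W' (autFun τ') := fun y hy => by
    obtain ⟨σ, hσT, hσe⟩ := hNT y (hXN hy)
    have hyW : y ∈ Subgroup.normalizer (W' : Set Ω) := by
      obtain ⟨x, hx, rfl⟩ := hkN.mem_img.mp (hkimg.ge (hXN hy))
      have := mapsTo_normalizerIn hkN hWN hN₁W x hx
      rw [hkW] at this
      exact (mem_normalizerIn.mp this).2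
    have hσX : σ ∈ autInducedBy X W' := mem_autInducedBy.mpr ⟨y, hy, hyW, hσe⟩
    obtain ⟨h, hh, -, hhe⟩ := mem_autInducedBy.mp (hτ'T σ ⟨hσT, hσX⟩).1
    exact ⟨(mem_normalizerIn.mp (hXN hy)).1, hyW, h, hh,
      fun x hx => (mul_conj_aut hσe hhe).mp rfl x hx⟩
  refine ⟨l ∘ φ, (hφ.restrict (nExt_le f)).comp hl fun x hx => hXl (mem_img_of_mem φ hx),
    fun x hx => ?_⟩
  have hxφ : φ x ∈ P := hφR ▸ mem_img_of_mem φ hx
  rw [Function.comp_apply, hle _ (hPW hxφ), hτ'd, autFun_mul _ _ (hPW hxφ), hτe _ hxφ,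
    Function.comp_apply, hφl x (hRN hx), hzfix _ (hfR ▸ mem_img_of_mem f hx)]

/-- Generation by `ℋ` gives chains in every class outside `ℋ`. -/
theorem chain_of_gen {ℋ : Set (Subgroup Ω)}
    (hconj : ∀ P ∈ ℋ, ∀ Q, F.IsConj P Q → Q ∈ ℋ)
    (hgen : ∀ E : FusionSystem S, (∀ P ∈ ℋ, F.Hom P ⊆ E.Hom P) → F ≤ E)
    {P : Subgroup Ω} (hP : P ∉ ℋ) (hPS : P < S) :
    ∀ A f, F.IsConj P A → IsMor F A f → Chain F (Nat.card P) A f := by
  let M : Subgroup Ω → (Ω → Ω) → Prop := fun X f =>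
    IsMor F X f ∧ ∀ A ≤ X, F.IsConj P A → Chain F (Nat.card P) A f
  have hM : ∃ E : FusionSystem S, ∀ X f, IsMor E X f ↔ M X f := by
    refine ⟨ofPred S M (fun X f h => ⟨h.1.le, fun x hx => h.1.mem hx⟩)
      (fun X f h x hx y hy e => h.1.inj hx hy e) ?_ ?_ ?_ ?_, fun X f => ?_⟩
    · exact fun X f f' h e => ⟨h.1.congr e, fun A hA hc =>
        (h.2 A hA hc).congr fun x hx => e x (hA hx)⟩
    · exact fun X a hX ha => ⟨isMor_cj F hX ha, fun A hA hc =>
        .step (isConj_card hc) (lt_of_isConj hPS hc) (isMor_cj F le_rfl ha) fun _ _ => rfl⟩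
    · refine fun X R f k hf hk hfR => ⟨hf.1.comp hk.1 hfR, fun A hA hc => ?_⟩
      exact .comp (hf.2 A hA hc) (hk.2 (img A f) (img_le fun x hx => hfR x (hA hx))
        (isConj_trans hc (isConj_img (hf.1.restrict hA)))) fun _ _ => rfl
    · rintro X f hf -
      obtain ⟨g, hg, hl, -, hgi⟩ := hf.1.inverse
      refine ⟨g, ⟨hg, fun B hB hc => ?_⟩, hl⟩
      have hA : img B g ≤ X := hgi ▸ img_mono g hB
      have hfb : img (img B g) f = B := by
        rw [(hg.restrict hB).img_comp]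
        refine (img_congr (g := id) fun y hy => ?_).trans (img_id _)
        obtain ⟨x, hx, rfl⟩ := hf.1.mem_img.mp (hB hy)
        simp [hl x hx]
      obtain ⟨g', hg', hg'e⟩ :=
        (hf.2 _ hA (isConj_trans hc (isConj_img (hg.restrict hB)))).inverse
      rw [hfb] at hg'
      refine hg'.congr fun y hy => ?_
      obtain ⟨x, hx, rfl⟩ := hf.1.mem_img.mp (hB hy)
      have hxA : x ∈ img B g := by
        have := mem_img_of_mem g hy
        rwa [hl x hx] at this
      rw [hg'e x hxA, hl x hx]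
    · rw [isMor_ofPred fun h x hx y hy => h.1.map_mul hx hy]
  obtain ⟨E, hE⟩ := hM
  have hle := hgen E fun X hX φ hφ => by
    refine mem_hom_iff.mpr ((hE X _).mpr ⟨isMor_of_mem hφ, fun A hA hc => ?_⟩)
    have hAX : A ≠ X := fun h => hP (hconj A (h ▸ hX) P (isConj_symm hc))
    exact .step (isConj_card hc) (lt_of_le_of_ne hA hAX) (isMor_of_mem hφ) fun _ _ => rfl
  intro A f hA hf
  exact ((hE A f).mp (le_iff_isMor.mp hle A f hf)).2 A le_rfl hA

/-- **The saturation criterion.** -/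
theorem saturated_of_crit (hS : IsPGroup p S) {ℋ : Set (Subgroup Ω)}
    (hconj : ∀ P ∈ ℋ, ∀ Q, F.IsConj P Q → Q ∈ ℋ)
    (hsat : ∀ P ∈ ℋ, ∃ Q, F.IsConj P Q ∧ F.IsFullyAutomized p Q ∧ F.IsReceptive Q)
    (hgen : ∀ E : FusionSystem S, (∀ P ∈ ℋ, F.Hom P ⊆ E.Hom P) → F ≤ E)
    (hstar : ∀ P : Subgroup Ω, F.IsCentric P → P ∉ ℋ → ∃ Q, F.IsConj P Q ∧
      ¬ (autInducedBy S Q ⊓ (pCore p ↥(F.autGroup Q)).map (F.autGroup Q).subtype ≤ Inn Q)) :
    F.IsSaturated p := by
  have key : ∀ d, ∀ P : Subgroup Ω, P ≤ S → Nat.card S - Nat.card P = d →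
      ∃ Q, F.IsConj P Q ∧ F.IsFullyAutomized p Q ∧ F.IsReceptive Q := by
    intro d
    induction d using Nat.strong_induction_on with
    | _ d ih =>
    intro P hPS hd
    subst hd
    by_cases hPH : P ∈ ℋ
    · exact hsat P hPH
    have habove : AboveSat F p (Nat.card P) := fun X hX hc => by
      refine ih _ ?_ X hX rfl
      have := Subgroup.card_le_of_le hX
      omega
    have hPlt : P < S := by
      refine lt_of_le_of_ne hPS fun e => ?_
      subst e
      have hc : ∀ Q, F.IsConj P Q → Q = P := fun Q hQ =>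
        eq_of_le_of_card le_rfl (isConj_le hQ).2 (isConj_card hQ).ge
      obtain ⟨Q, hQ, hQn⟩ := hstar P ⟨le_rfl, fun Q hQ => hc Q hQ ▸ centralizerIn_le⟩ hPH
      obtain rfl := hc Q hQ
      exact hQn (inf_le_left.trans inn_eq_autInducedBy.ge)
    have hyp : CritHyp F p P := ⟨habove, chain_of_gen hconj hgen hPH hPlt⟩
    by_cases hcen : F.IsCentric P
    · obtain ⟨Q, hQ, hQn⟩ := hstar P hcen hPH
      refine automized_receptive_of_crit hS hPlt hyp (OFam.core F p) ⟨Q, hQ, fun hle => hQn ?_⟩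
      rintro α ⟨hα, hαO⟩
      obtain ⟨g, hg, hgn, hge⟩ := mem_autInducedBy.mp hα
      exact mem_inn.mpr ⟨g, hle ⟨mem_normalizerIn.mpr ⟨hg, hgn⟩, α, hαO, hge⟩, hge⟩
    · obtain ⟨Q, hQ, hQn⟩ : ∃ Q, F.IsConj P Q ∧ ¬ centralizerIn S Q ≤ Q := by
        by_contra h
        exact hcen ⟨hPS, fun Q hQ => by_contra fun h' => h ⟨Q, hQ, h'⟩⟩
      refine automized_receptive_of_crit hS hPlt hyp (OFam.bot F p) ⟨Q, hQ, fun hle => hQn ?_⟩
      intro g hg
      refine hle ⟨centralizerIn_le_normalizerIn hg, 1, Subgroup.one_mem _, fun x hx => ?_⟩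
      rw [autFun_one hx, (mem_centralizerIn.mp hg).2 x hx]
  exact fun P hP => key _ P hP rfl

end CfsgLib.Fusion
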