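import Mathlib
import Cfsg.Agent.Lib.Fusion.Saturation

/-! The fusion system of a finite group on a Sylow subgroup. -/
set_option autoImplicit false

namespace CfsgLib.Fusion

open Cfsg Cfsg.FusionSystem

variable {G : Type*} [Group G] [Finite G] {p : ℕ} [Fact p.Prime]

omit [Finite G] [Fact p.Prime] in
theorem img_cj_cj (P : Subgroup G) (g h : G) : img (img P (cj g)) (cj h) = img P (cj (h * g)) := by
  ext x
  rw [mem_img_cj, mem_img_cj, mem_img_cj]
  simp [mul_assoc]

omit [Fact p.Prime] in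
theorem card_img_cj (P : Subgroup G) (g : G) : Nat.card (img P (cj g)) = Nat.card P := by
  rw [img_cj]
  exact (Nat.card_congr (P.equivMapOfInjective _ (MulAut.conj g).injective).toEquiv).symm

omit [Finite G] [Fact p.Prime] in
theorem isPGroup_img_cj {P : Subgroup G} (hP : IsPGroup p P) (g : G) :
    IsPGroup p (img P (cj g)) := by
  rw [img_cj]
  exact hP.map _

theorem exists_conj_le_sylow (S : Sylow p G) {P : Subgroup G} (hP : IsPGroup p P) :
    ∃ g : G, img P (cj g) ≤ (S : Subgroup G) := by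
  have hS : IsSylIn p (S : Subgroup G) ⊤ :=
    ⟨le_top, S.2, fun C hC hle _ => S.3 hC hle⟩
  obtain ⟨g, -, hg⟩ := hS.exists_conj_le hP le_top
  exact ⟨g, img_le hg⟩

omit [Finite G] [Fact p.Prime] in
theorem cj_mem_normalizer_img {P : Subgroup G} {g a : G}
    (ha : a ∈ Subgroup.normalizer (P : Set G)) :
    cj g a ∈ Subgroup.normalizer (img P (cj g) : Set G) := by
  rw [img_cj]
  exact Subgroup.le_normalizer_map _ ⟨a, ha, rfl⟩

omit [Finite G] [Fact p.Prime] in
theorem cj_mem_centralizer_img {P : Subgroup G} {g a : G}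
    (ha : a ∈ Subgroup.centralizer (P : Set G)) :
    cj g a ∈ Subgroup.centralizer (img P (cj g) : Set G) := by
  rw [Subgroup.mem_centralizer_iff]
  intro y hy
  rw [SetLike.mem_coe, mem_img_cj] at hy
  have h := congrArg (cj g) (Subgroup.mem_centralizer_iff.mp ha _ hy)
  rw [cj_map_mul, cj_map_mul] at h
  simpa [cj, mul_assoc] using h

omit [Finite G] [Fact p.Prime] in
theorem cj_mem_centralizer {P : Subgroup G} {g a : G}
    (hg : g ∈ Subgroup.normalizer (P : Set G)) (ha : a ∈ Subgroup.centralizer (P : Set G)) :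
    cj g a ∈ Subgroup.centralizer (P : Set G) := by
  have := cj_mem_centralizer_img (g := g) ha
  rwa [img_cj_of_normalizer hg] at this

omit [Finite G] [Fact p.Prime] in
theorem centralizer_le_normalizer (P : Subgroup G) :
    Subgroup.centralizer (P : Set G) ≤ Subgroup.normalizer (P : Set G) := by
  intro g hg
  exact (mem_normalizerIn.mp (centralizerIn_le_normalizerIn (S := ⊤)
    (Subgroup.mem_inf.mpr ⟨trivial, hg⟩))).2

omit [Finite G] [Fact p.Prime] in
theorem isConj_group_iff {S P Q : Subgroup G} :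
    (groupFusionSystem S).IsConj P Q ↔ P ≤ S ∧ Q ≤ S ∧ ∃ g, img P (cj g) = Q := by
  constructor
  · intro h
    obtain ⟨f, hf, e⟩ := isConj_iff.mp h
    obtain ⟨-, -, g, hg⟩ := isMor_group.mp hf
    exact ⟨(isConj_le h).1, (isConj_le h).2, g, (img_congr hg).symm.trans e⟩
  · rintro ⟨hP, hQ, g, rfl⟩
    exact isConj_iff.mpr ⟨cj g,
      isMor_group.mpr ⟨hP, fun x hx => hQ (mem_img_of_mem _ hx), g, fun _ _ => rfl⟩, rfl⟩

theorem exists_sylow_normalizer (S : Sylow p G) {P : Subgroup G} (hP : P ≤ (S : Subgroup G)) :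
    ∃ g : G, img P (cj g) ≤ (S : Subgroup G) ∧
      IsSylIn p (normalizerIn (S : Subgroup G) (img P (cj g)))
        (Subgroup.normalizer (img P (cj g) : Set G)) := by
  obtain ⟨R, hR, hRs⟩ := exists_isSylIn_of_isPGroup (p := p)
    (A := normalizerIn (S : Subgroup G) P) (B := Subgroup.normalizer (P : Set G))
    (isPGroup_of_le inf_le_left S.2) inf_le_right
  obtain ⟨g, hg⟩ := exists_conj_le_sylow S hRs.2.1
  have hQ : img P (cj g) ≤ (S : Subgroup G) :=
    (img_mono _ ((le_normalizerIn hP).trans hR)).trans hg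
  refine ⟨g, hQ, inf_le_right, isPGroup_of_le inf_le_left S.2, fun C hC hle hCN => ?_⟩
  have hback : img C (cj g⁻¹) = R := by
    refine hRs.2.2 _ (isPGroup_img_cj hC _) (fun r hr => ?_) (img_le fun c hc => ?_)
    · have : cj g r ∈ C :=
        hle ⟨hg (mem_img_of_mem _ hr), cj_mem_normalizer_img (hRs.1 hr)⟩
      exact cj_inv_cj g r ▸ mem_img_of_mem _ this
    · have := cj_mem_normalizer_img (g := g⁻¹) (hCN hc)
      rwa [img_cj_cj, inv_mul_cancel, img_congr (g := id) (fun x _ => cj_one x), img_id] at this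
  refine le_antisymm (fun c hc => ⟨?_, hCN hc⟩) hle
  have := hg (mem_img_of_mem (cj g) (hback.le (mem_img_of_mem (cj g⁻¹) hc)))
  rwa [cj_cj_inv] at this

theorem sylow_centralizer_of_normalizer (S : Sylow p G) {Q : Subgroup G}
    (h : IsSylIn p (normalizerIn (S : Subgroup G) Q) (Subgroup.normalizer (Q : Set G))) :
    IsSylIn p (centralizerIn (S : Subgroup G) Q) (Subgroup.centralizer (Q : Set G)) := by
  refine ⟨inf_le_right, isPGroup_of_le inf_le_left S.2, fun C hC hle hCC => ?_⟩
  obtain ⟨b, hb, hbc⟩ := h.exists_conj_le hC (hCC.trans (centralizer_le_normalizer Q))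
  refine (Subgroup.eq_of_le_of_card_ge hle ?_).symm
  rw [← card_img_cj C b]
  exact Subgroup.card_le_of_le (img_le fun c hc =>
    ⟨(hbc c hc).1, cj_mem_centralizer hb (hCC hc)⟩)

omit [Finite G] [Fact p.Prime] in
theorem autGroup_group {S P : Subgroup G} (hP : P ≤ S) :
    (groupFusionSystem S).autGroup P = autInducedBy ⊤ P := by
  ext α
  rw [autGroup_eq_set hP, isMor_group, mem_autInducedBy]
  constructor
  · rintro ⟨-, -, g, hg⟩
    refine ⟨g, trivial, ?_, hg⟩
    rw [Subgroup.mem_normalizer_iff_map_conj_eq]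
    exact (img_cj P g).symm.trans ((img_congr hg).symm.trans (img_autFun α))
  · rintro ⟨g, -, -, hg⟩
    exact ⟨hP, fun x hx => hP (autFun_mem α hx), g, hg⟩

omit [Finite G] [Fact p.Prime] in
theorem autInducedBy_eq_map (K P : Subgroup G) : autInducedBy K P =
    ((K.subgroupOf (Subgroup.normalizer (P : Set G))).map P.normalizerMonoidHom) := by
  ext α
  rw [mem_autInducedBy]
  constructor
  · rintro ⟨g, hg, hn, e⟩
    refine ⟨⟨g, hn⟩, hg, autFun_inj fun x hx => ?_⟩
    rw [e x hx, autFun_of_mem _ hx]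
    rfl
  · rintro ⟨⟨g, hn⟩, hg, rfl⟩
    refine ⟨g, hg, hn, fun x hx => ?_⟩
    rw [autFun_of_mem _ hx]
    rfl

theorem sylow_aut_of_normalizer (S : Sylow p G) {Q : Subgroup G}
    (h : IsSylIn p (normalizerIn (S : Subgroup G) Q) (Subgroup.normalizer (Q : Set G))) :
    IsSylIn p (autInducedBy (S : Subgroup G) Q) (autInducedBy ⊤ Q) := by
  obtain ⟨R, hR⟩ := (exists_sylow_iff h.1).mpr h
  let ρ := Q.normalizerMonoidHom
  have hsurj := ρ.rangeRestrict_surjective
  have htop : autInducedBy ⊤ Q = ρ.range := by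
    rw [autInducedBy_eq_map, MonoidHom.range_eq_map]
    simp [ρ]
  have he : autInducedBy (S : Subgroup G) Q =
      ((R.mapSurjective hsurj : Subgroup ρ.range)).map ρ.range.subtype := by
    rw [Sylow.coe_mapSurjective, Subgroup.map_map, hR, autInducedBy_eq_map]
    congr 1
    ext x
    simp [Subgroup.mem_subgroupOf, mem_normalizerIn, x.2]
  have hle : autInducedBy (S : Subgroup G) Q ≤ ρ.range := he ▸ Subgroup.map_subtype_le _
  rw [htop]
  refine (exists_sylow_iff hle).mp ⟨R.mapSurjective hsurj, ?_⟩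
  rw [he, Subgroup.subgroupOf, Subgroup.comap_map_eq_self_of_injective ρ.range.subtype_injective]

/-- Lifting a conjugation to the extender by adjusting with a centralizing element. -/
theorem exists_conj_into_sylow (S : Sylow p G) {Q M : Subgroup G}
    (h : IsSylIn p (normalizerIn (S : Subgroup G) Q) (Subgroup.normalizer (Q : Set G)))
    (hM : IsPGroup p M)
    (hle : M ≤ normalizerIn (S : Subgroup G) Q ⊔ Subgroup.centralizer (Q : Set G)) :
    ∃ c ∈ Subgroup.centralizer (Q : Set G),
      img M (cj c) ≤ normalizerIn (S : Subgroup G) Q := by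
  have hK : normalizerIn (S : Subgroup G) Q ⊔ Subgroup.centralizer (Q : Set G) ≤
      Subgroup.normalizer (Q : Set G) := sup_le h.1 (centralizer_le_normalizer Q)
  have hS' : IsSylIn p (normalizerIn (S : Subgroup G) Q)
      (normalizerIn (S : Subgroup G) Q ⊔ Subgroup.centralizer (Q : Set G)) :=
    ⟨le_sup_left, h.2.1, fun C hC hl hu => h.2.2 C hC hl (hu.trans hK)⟩
  obtain ⟨b, hb, hbM⟩ := hS'.exists_conj_le hM hle
  have hnorm : normalizerIn (S : Subgroup G) Q ≤
      Subgroup.normalizer (Subgroup.centralizer (Q : Set G) : Set G) := by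
    intro n hn
    rw [Subgroup.mem_normalizer_iff]
    refine fun a => ⟨fun ha => cj_mem_centralizer (h.1 hn) ha, fun ha => ?_⟩
    have := cj_mem_centralizer (Subgroup.inv_mem _ (h.1 hn)) ha
    simpa [cj, mul_assoc] using this
  rw [← SetLike.mem_coe, Subgroup.coe_mul_of_left_le_normalizer_right _ _ hnorm] at hb
  obtain ⟨n, hn, c, hc, rfl⟩ := hb
  refine ⟨c, hc, img_le fun m hm => ?_⟩
  have h1 : cj (n * c) m ∈ normalizerIn (S : Subgroup G) Q := hbM m hm
  rw [cj_mul] at h1
  have h2 := Subgroup.mul_mem _ (Subgroup.mul_mem _ (Subgroup.inv_mem _ hn) h1) hn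
  simpa [cj, mul_assoc] using h2

theorem receptive_of_sylow_normalizer (S : Sylow p G) {Q : Subgroup G}
    (hQ : Q ≤ (S : Subgroup G))
    (h : IsSylIn p (normalizerIn (S : Subgroup G) Q) (Subgroup.normalizer (Q : Set G))) :
    (groupFusionSystem (S : Subgroup G)).IsReceptive Q := by
  refine isReceptive_iff.mpr ⟨hQ, fun P f hf hfi => ?_⟩
  obtain ⟨hP, -, g, hg⟩ := isMor_group.mp hf
  obtain ⟨c, hc, hcM⟩ := exists_conj_into_sylow S h
    (M := img (nExt (S : Subgroup G) P f) (cj g))
    (isPGroup_img_cj (isPGroup_of_le ((nExt_le f).trans normalizerIn_le) S.2) g) (img_le fun a ha => by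
      obtain ⟨haS, han, k, hk, hke⟩ := ha
      have hgi : img P (cj g) = Q := (img_congr hg).symm.trans hfi
      have hga : cj g a ∈ Subgroup.normalizer (Q : Set G) := hgi ▸ cj_mem_normalizer_img han
      have hcomm : ∀ y ∈ Q, cj (cj g a) y = cj k y := by
        intro y hy
        rw [← hgi, mem_img_cj] at hy
        have h1 := hke _ hy
        have hm : cj a (g⁻¹ * y * g) ∈ P := (Subgroup.mem_normalizer_iff.mp han _).mp hy
        rw [hg _ hm, hg _ hy] at h1
        simpa [cj, mul_assoc] using h1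
      have hkn : k ∈ Subgroup.normalizer (Q : Set G) := by
        rw [Subgroup.mem_normalizer_iff_map_conj_eq]
        refine (img_cj Q k).symm.trans ((img_congr fun y hy => (hcomm y hy).symm).trans ?_)
        exact img_cj_of_normalizer hga
      have h3 : k⁻¹ * cj g a ∈ Subgroup.centralizer (Q : Set G) := by
        rw [Subgroup.mem_centralizer_iff]
        intro y hy
        refine (cj_fixed_iff.mp ?_).symm
        show cj (k⁻¹ * cj g a) y = y
        rw [cj_mul, hcomm y hy, cj_inv_cj]
      have h4 := Subgroup.mul_mem _ (Subgroup.mem_sup_left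
        (T := Subgroup.centralizer (Q : Set G)) (mem_normalizerIn.mpr ⟨hk, hkn⟩))
        (Subgroup.mem_sup_right (S := normalizerIn (S : Subgroup G) Q) h3)
      rwa [mul_inv_cancel_left] at h4)
  refine ⟨cj (c * g), isMor_group.mpr ⟨fun x hx => hx.1, fun x hx => ?_, _, fun _ _ => rfl⟩,
    fun x hx => ?_⟩
  · rw [cj_mul]
    exact (mem_normalizerIn.mp (hcM (mem_img_of_mem _ (mem_img_of_mem _ hx)))).1
  · rw [cj_mul, ← hg x hx]
    refine cj_fixed_iff.mpr ((Subgroup.mem_centralizer_iff.mp hc _ ?_).symm)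
    exact hfi.le (mem_img_of_mem f hx)

theorem good_of_sylow_normalizer (S : Sylow p G) {Q : Subgroup G} (hQ : Q ≤ (S : Subgroup G))
    (h : IsSylIn p (normalizerIn (S : Subgroup G) Q) (Subgroup.normalizer (Q : Set G))) :
    (groupFusionSystem (S : Subgroup G)).IsFullyAutomized p Q ∧
      (groupFusionSystem (S : Subgroup G)).IsReceptive Q :=
  ⟨isFullyAutomized_iff.mpr ⟨hQ, (autGroup_group hQ).symm ▸ sylow_aut_of_normalizer S h⟩,
    receptive_of_sylow_normalizer S hQ h⟩

theorem groupFusion_isSaturated (S : Sylow p G) :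
    (groupFusionSystem (S : Subgroup G)).IsSaturated p := by
  intro P hP
  obtain ⟨g, hQ, h⟩ := exists_sylow_normalizer S hP
  exact ⟨_, isConj_group_iff.mpr ⟨hP, hQ, g, rfl⟩, good_of_sylow_normalizer S hQ h⟩

theorem fullyNormalized_group_iff (S : Sylow p G) {P : Subgroup G} (hP : P ≤ (S : Subgroup G)) :
    (groupFusionSystem (S : Subgroup G)).IsFullyNormalized P ↔
      IsSylIn p (normalizerIn (S : Subgroup G) P) (Subgroup.normalizer (P : Set G)) := by
  refine ⟨fun hn => ?_, fun h => ?_⟩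
  · obtain ⟨g, hQ, h⟩ := exists_sylow_normalizer S hP
    refine ⟨inf_le_right, isPGroup_of_le inf_le_left S.2, fun C hC hle hCN => ?_⟩
    obtain ⟨b, -, hbC⟩ := h.exists_conj_le (isPGroup_img_cj hC g)
      (img_le fun c hc => cj_mem_normalizer_img (hCN hc))
    refine (Subgroup.eq_of_le_of_card_ge hle ?_).symm
    refine le_trans ?_ (hn.2 _ (isConj_group_iff.mpr ⟨hP, hQ, g, rfl⟩))
    rw [← card_img_cj C g, ← card_img_cj (img C (cj g)) b]
    exact Subgroup.card_le_of_le (img_le hbC)
  · obtain ⟨h₁, h₂⟩ := good_of_sylow_normalizer S hP h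
    exact isFullyNormalized_of_automized S.2 h₁ h₂

theorem fullyCentralized_group_iff (S : Sylow p G) {P : Subgroup G} (hP : P ≤ (S : Subgroup G)) :
    (groupFusionSystem (S : Subgroup G)).IsFullyCentralized P ↔
      IsSylIn p (centralizerIn (S : Subgroup G) P) (Subgroup.centralizer (P : Set G)) := by
  refine ⟨fun hn => ?_, fun h => ⟨hP, fun R hR => ?_⟩⟩
  · obtain ⟨g, hQ, h⟩ := exists_sylow_normalizer S hP
    refine ⟨inf_le_right, isPGroup_of_le inf_le_left S.2, fun C hC hle hCN => ?_⟩
    obtain ⟨b, -, hbC⟩ := (sylow_centralizer_of_normalizer S h).exists_conj_le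
      (isPGroup_img_cj hC g) (img_le fun c hc => cj_mem_centralizer_img (hCN hc))
    refine (Subgroup.eq_of_le_of_card_ge hle ?_).symm
    refine le_trans ?_ (hn.2 _ (isConj_group_iff.mpr ⟨hP, hQ, g, rfl⟩))
    rw [← card_img_cj C g, ← card_img_cj (img C (cj g)) b]
    exact Subgroup.card_le_of_le (img_le hbC)
  · obtain ⟨-, -, g, rfl⟩ := isConj_group_iff.mp hR
    have hback : img (img P (cj g)) (cj g⁻¹) = P := by
      rw [img_cj_cj, inv_mul_cancel, img_congr (g := id) (fun x _ => cj_one x), img_id]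
    obtain ⟨b, -, hbC⟩ := h.exists_conj_le
      (C := img (centralizerIn (S : Subgroup G) (img P (cj g))) (cj g⁻¹))
      (isPGroup_img_cj (isPGroup_of_le inf_le_left S.2) _)
      (img_le fun c hc => by
        have := cj_mem_centralizer_img (g := g⁻¹) (P := img P (cj g)) hc.2
        rwa [hback] at this)
    rw [← card_img_cj (centralizerIn (S : Subgroup G) (img P (cj g))) g⁻¹, ← card_img_cj (img _ (cj g⁻¹)) b]
    exact Subgroup.card_le_of_le (img_le hbC)

end CfsgLib.Fusion
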