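import Mathlib
import Cfsg.Agent.Lib.Fusion.Alperin

/-! Alperin's fusion theorem for the maps with large source. -/
set_option autoImplicit false

namespace CfsgLib.Fusion

open Cfsg Cfsg.FusionSystem

variable {Ω : Type*} [Group Ω] {S : Subgroup Ω} {F : FusionSystem S} {P Q : Subgroup Ω}
  {p : ℕ} [hp : Fact p.Prime] [Finite S]

/-- Alperin's fusion theorem, above a given order. -/
theorem alperin_above (m : ℕ) (hS : IsPGroup p S) (hF : F.IsSaturated p) {E : FusionSystem S}
    (hE : ∀ P : Subgroup Ω, m < Nat.card P → (P = S ∨ F.IsEssential p P) →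
      F.autGroup P ≤ E.autGroup P) :
    ∀ P f, IsMor F P f → m < Nat.card P → IsMor E P f := by
  suffices h : ∀ d (P : Subgroup Ω) f, Nat.card S - Nat.card P = d → IsMor F P f →
      m < Nat.card P → IsMor E P f from
    fun P f hf hm => h _ P f rfl hf hm
  intro d
  induction d using Nat.strong_induction_on with
  | _ d ih =>
    intro P f hd hf hm
    subst hd
    rcases eq_or_lt_of_le hf.le with rfl | hPS
    · obtain ⟨α, hα, e⟩ := exists_autGroup_self hf
      exact (isMor_autFun le_rfl (hE _ hm (Or.inl rfl) hα)).congr e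
    obtain ⟨Q, hQ, hQn⟩ := exists_fullyNormalized F hf.le
    have hQc := isConj_card hQ
    have hQS : Q < S := lt_of_le_of_ne hQn.1 fun e => by
      have := card_lt_of_lt le_rfl hPS
      rw [e] at hQc
      omega
    have hAut : F.autGroup Q ≤ E.autGroup Q := by
      rcases extGroup_dichotomy hS hF hQS hQn with ⟨-, h⟩ | ⟨h, -⟩
      · rw [← h]
        refine (Subgroup.closure_le _).mpr ?_
        rintro α ⟨R, g, hQR, hg, e⟩
        have hmR : m < Nat.card R := (hQc ▸ hm : m < Nat.card Q).trans (card_lt_of_lt hg.le hQR)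
        have hgE := ih _ (hQc ▸ card_sub_lt hg.le hQR) R g rfl hg hmR
        exact (autGroup_eq_set hQn.1 α).mpr ((hgE.restrict hQR.le).congr e)
      · exact hE Q (hQc ▸ hm) (Or.inr h)
    have key : ∀ R, F.IsConj R Q → ∃ θ, IsMor F R θ ∧ IsMor E R θ ∧ img R θ = Q := by
      intro R hR
      obtain ⟨θ, hθ, hθi, -⟩ := exists_map_fullyNormalized hS hF hQn hR
      have hRS : R < S := lt_of_le_of_ne (isConj_le hR).1 fun e => by
        have h1 := card_lt_of_lt le_rfl hQS
        have h2 := isConj_card hR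
        rw [e] at h2
        omega
      have hcard : Nat.card R = Nat.card P := by rw [← isConj_card hR, hQc]
      have hmR : m < Nat.card (normalizerIn S R) := (hcard ▸ hm : m < Nat.card R).trans
        (card_lt_of_lt normalizerIn_le (normalizerIn_gt hS hRS))
      have hθE := ih _ (hcard ▸ card_sub_lt normalizerIn_le (normalizerIn_gt hS hRS)) _ θ rfl hθ hmR
      exact ⟨θ, hθ.restrict (le_normalizerIn hRS.le), hθE.restrict (le_normalizerIn hRS.le), hθi⟩
    obtain ⟨θ, hθF, hθE, hθi⟩ := key P hQ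
    obtain ⟨θ', hθF', hθE', hθi'⟩ := key (img P f) (isConj_trans (isConj_symm (isConj_img hf)) hQ)
    obtain ⟨ψ, hψ, hψl, -, hψi⟩ := hθF.inverse
    rw [hθi] at hψ hψi
    have hψP : ∀ x ∈ Q, ψ x ∈ P := fun x hx => hψi ▸ mem_img_of_mem ψ hx
    have hcomp : IsMor F Q (θ' ∘ f ∘ ψ) :=
      (hψ.comp hf hψP).comp hθF' fun x hx => mem_img_of_mem f (hψP x hx)
    have himg : img Q (θ' ∘ f ∘ ψ) = Q := hcomp.img_eq_self fun x hx =>
      hθi' ▸ mem_img_of_mem θ' (mem_img_of_mem f (hψP x hx))
    obtain ⟨α, hα, hαe⟩ := exists_aut hcomp himg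
    obtain ⟨χ, hχ, hχl, -, -⟩ := hθE'.inverse
    rw [hθi'] at hχ
    refine ((hθE.comp (isMor_autFun hQn.1 (hAut hα)) fun x hx => hθi ▸ mem_img_of_mem θ hx).comp hχ
      fun x hx => autFun_mem α (hθi ▸ mem_img_of_mem θ hx)).congr fun x hx => ?_
    simp only [Function.comp_apply]
    rw [hαe _ (hθi ▸ mem_img_of_mem θ hx), Function.comp_apply, Function.comp_apply, hψl x hx]
    exact hχl _ (mem_img_of_mem f hx)

end CfsgLib.Fusion
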