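import Mathlib
import Cfsg.Agent.Lib.Fusion.Criteria

/-! The Frattini factorization for invariant subsystems. -/
set_option autoImplicit false

namespace CfsgLib.Fusion

open Cfsg Cfsg.FusionSystem

variable {Ω : Type*} [Group Ω] {S T : Subgroup Ω} {F : FusionSystem S} {E : FusionSystem T}

/-- `E` is closed under transport along maps of `F` (strong invariance). -/
def StrongInv (E : FusionSystem T) (F : FusionSystem S) : Prop :=
  ∀ (P Q : Subgroup Ω) (f g : Ω → Ω), P ≤ Q → Q ≤ T → IsMor E P f → (∀ x ∈ P, f x ∈ Q) →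
    IsMor F Q g → ∃ k, IsMor E (img P g) k ∧ ∀ x ∈ P, k (g x) = g (f x)

theorem strongInv_iff : StrongInv E F ↔
    ∀ (P Q : Subgroup Ω) (hPQ : P ≤ Q) (_ : Q ≤ T) (φ : P →* Ω) (_ : φ ∈ E.Hom P)
      (hφQ : ∀ x : P, φ x ∈ Q) (ψ : Q →* Ω) (_ : ψ ∈ F.Hom Q),
      ∃ χ ∈ E.Hom ((P.subgroupOf Q).map ψ), ∀ (x : P)
        (hx : ψ (Subgroup.inclusion hPQ x) ∈ (P.subgroupOf Q).map ψ),
        χ ⟨ψ (Subgroup.inclusion hPQ x), hx⟩ = ψ ⟨φ x, hφQ x⟩ := by
  constructor
  · intro h P Q hPQ hQT φ hφ hφQ ψ hψ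
    obtain ⟨k, hk, hke⟩ := h P Q (toFun φ) (toFun ψ) hPQ hQT (isMor_of_mem hφ)
      (fun x hx => by rw [toFun_of_mem φ hx]; exact hφQ _) (isMor_of_mem hψ)
    rw [← map_subgroupOf_eq_img (fun x => (toFun_coe ψ x).symm) hPQ] at hk
    obtain ⟨χ, hχ, hχk⟩ := hk
    refine ⟨χ, hχ, fun x hx => ?_⟩
    have := hke x x.2
    rw [toFun_coe φ, toFun_of_mem ψ (hφQ x), toFun_of_mem ψ (hPQ x.2)] at this
    rw [hχk]
    exact this
  · intro h P Q f g hPQ hQT hf hfQ hg
    obtain ⟨φ, hφ, hφf⟩ := hf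
    obtain ⟨ψ, hψ, hψg⟩ := hg
    obtain ⟨χ, hχ, hχe⟩ := h P Q hPQ hQT φ hφ (fun x => hφf x ▸ hfQ x x.2) ψ hψ
    have e := map_subgroupOf_eq_img hψg hPQ
    refine ⟨toFun χ, e ▸ isMor_of_mem hχ, fun x hx => ?_⟩
    have hm : ψ (Subgroup.inclusion hPQ ⟨x, hx⟩) ∈ (P.subgroupOf Q).map ψ :=
      ⟨_, hx, rfl⟩
    have := hχe ⟨x, hx⟩ hm
    rw [show g x = ψ (Subgroup.inclusion hPQ ⟨x, hx⟩) from (hψg (Subgroup.inclusion hPQ ⟨x, hx⟩)).symm, toFun_of_mem χ hm, this,
      hψg]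
    exact congrArg g (hφf ⟨x, hx⟩)

/-- `f` is an automorphism of `T` in `F` following a map of `E`. -/
def Factors (E : FusionSystem T) (F : FusionSystem S) (P : Subgroup Ω) (f : Ω → Ω) : Prop :=
  ∃ α ∈ F.autGroup T, ∃ e, IsMor E P e ∧ ∀ x ∈ P, f x = autFun α (e x)

theorem isSylIn_inf {G : Type*} [Group G] [Finite G] {p : ℕ} [Fact p.Prime] {A B N : Subgroup G}
    (h : IsSylIn p A B) (hN : N ≤ B) (hn : ∀ b ∈ B, ∀ n ∈ N, b * n * b⁻¹ ∈ N) :
    IsSylIn p (A ⊓ N) N := by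
  refine ⟨inf_le_right, isPGroup_of_le inf_le_left h.2.1, fun C hC hle hCN => ?_⟩
  obtain ⟨b, hb, hbC⟩ := h.exists_conj_le hC (hCN.trans hN)
  refine (Subgroup.eq_of_le_of_card_ge hle ?_).symm
  rw [Nat.card_congr (C.equivMapOfInjective (MulAut.conj b).toMonoidHom (MulAut.conj b).injective).toEquiv]
  refine Subgroup.card_le_of_le ?_
  rintro _ ⟨c, hc, rfl⟩
  exact ⟨hbC c hc, hn b hb c (hCN hc)⟩

variable [Finite S] {p : ℕ} [hp : Fact p.Prime]

/-- The Frattini factorization. -/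
theorem factors_of_strongInv (hS : IsPGroup p S) (hF : F.IsSaturated p) (hsub : E.IsSubsystemOf F)
    (hT : F.StronglyClosed T) (hinv : StrongInv E F) {P : Subgroup Ω} {f : Ω → Ω}
    (hf : IsMor F P f) (hPT : P ≤ T) : Factors E F P f := by
  have hTS := hT.1
  have hsc := (stronglyClosed_iff.mp hT).2
  have hcongr : ∀ P f g, Factors E F P f → (∀ x ∈ P, f x = g x) → Factors E F P g := by
    rintro P f g ⟨α, hα, e, he, hfe⟩ h
    exact ⟨α, hα, e, he, fun x hx => (h x hx).symm.trans (hfe x hx)⟩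
  have htr : ∀ (γ : MulAut T), γ ∈ F.autGroup T → ∀ P e, P ≤ T → IsMor E P e →
      ∃ e', IsMor E (img P (autFun γ)) e' ∧
        ∀ x ∈ P, e' (autFun γ x) = autFun γ (e x) := fun γ hγ P e hP he =>
    hinv P T e (autFun γ) hP le_rfl he (fun x hx => he.mem hx) (isMor_autFun hTS hγ)
  have hcomp : ∀ P R f g, Factors E F P f → Factors E F R g → P ≤ T → R ≤ T →
      (∀ x ∈ P, f x ∈ R) → Factors E F P (g ∘ f) := by
    rintro P R f g ⟨α, hα, e, he, hfe⟩ ⟨α', hα', e', he', hge⟩ hP hR hfR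
    obtain ⟨e'', he'', hee⟩ := htr α⁻¹ (Subgroup.inv_mem _ hα) R e' hR he'
    have hmap : ∀ x ∈ P, e x ∈ img R (autFun α⁻¹) := fun x hx => by
      have := mem_img_of_mem (autFun α⁻¹) (hfR x hx)
      rwa [hfe x hx, autFun_inv_left α (he.mem hx)] at this
    refine ⟨α' * α, Subgroup.mul_mem _ hα' hα, e'' ∘ e, he.comp he'' hmap, fun x hx => ?_⟩
    show g (f x) = autFun (α' * α) (e'' (e x))
    rw [hge _ (hfR x hx), autFun_mul _ _ (he''.mem (hmap x hx))]
    congr 1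
    have h1 := hee _ (hfR x hx)
    rw [hfe x hx, autFun_inv_left α (he.mem hx)] at h1
    rw [h1, autFun_inv_right α (he'.mem (hfe x hx ▸ hfR x hx)), hfe x hx]
  have hinverse : ∀ P f, Factors E F P f → P ≤ T →
      ∃ g, Factors E F (img P f) g ∧ ∀ x ∈ P, g (f x) = x := by
    rintro P f ⟨α, hα, e, he, hfe⟩ hP
    obtain ⟨ei, hei, hl, -, -⟩ := he.inverse
    obtain ⟨e', he', hee⟩ := htr α hα _ ei (img_le fun x hx => he.mem hx) hei
    have hi : img P f = img (img P e) (autFun α) := by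
      rw [he.img_comp]
      exact img_congr hfe
    refine ⟨autFun α⁻¹ ∘ e', hi ▸ ⟨α⁻¹, Subgroup.inv_mem _ hα, e', he', fun _ _ => rfl⟩,
      fun x hx => ?_⟩
    show autFun α⁻¹ (e' (f x)) = x
    rw [hfe x hx, hee _ (mem_img_of_mem e hx), hl x hx, autFun_inv_left α (hP hx)]
  have : Finite T := finite_of_le hTS
  induction hd : Nat.card T - Nat.card P using Nat.strong_induction_on generalizing P f with
  | _ d ih =>
    subst hd
    rcases eq_or_lt_of_le hPT with rfl | hlt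
    · obtain ⟨α, hα, e⟩ := exists_aut hf (hf.img_eq_self fun x hx => hsc P f hf x hx hx)
      exact ⟨α, hα, id, isMor_id E le_rfl, fun x hx => (e x hx).symm⟩
    obtain ⟨R, hR, hRn⟩ := exists_fullyNormalized F hf.le
    have hRT : R ≤ T := by
      obtain ⟨g, hg, rfl⟩ := isConj_iff.mp hR
      exact img_le fun x hx => hsc P g hg x hx (hPT hx)
    have hcard := isConj_card hR
    have key : ∀ P₁, F.IsConj P₁ R → P₁ ≤ T →
        ∃ θ, IsMor F P₁ θ ∧ img P₁ θ = R ∧ Factors E F P₁ θ := by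
      intro P₁ hP₁ hP₁T
      obtain ⟨θ, hθ, hθi, -⟩ := exists_map_fullyNormalized hS hF hRn hP₁
      have hc : Nat.card P₁ = Nat.card P := by rw [← isConj_card hP₁, hcard]
      have hlt' : P₁ < T := lt_of_le_of_ne hP₁T fun e => by
        have := card_lt_of_lt le_rfl hlt
        rw [e] at hc
        omega
      have hN : P₁ < T ⊓ Subgroup.normalizer (P₁ : Set Ω) :=
        lt_inf_normalizer (isPGroup_of_le hTS hS) hlt'
      have hθ' := hθ.restrict (inf_le_inf_right _ hTS : T ⊓ Subgroup.normalizer (P₁ : Set Ω) ≤ normalizerIn S P₁)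
      obtain ⟨α, hα, e, he, hfe⟩ := ih _ (by
        have := card_lt_of_lt (inf_le_left.trans hTS) hN
        have := Subgroup.card_le_of_le (inf_le_left : T ⊓ Subgroup.normalizer (P₁ : Set Ω) ≤ T)
        omega) hθ' inf_le_left rfl
      exact ⟨θ, hθ.restrict (le_normalizerIn (hP₁T.trans hTS)), hθi,
        α, hα, e, he.restrict hN.le, fun x hx => hfe x (hN.le hx)⟩
    obtain ⟨θ, hθ, hθi, hθD⟩ := key P hR hPT
    have hfT : img P f ≤ T := img_le fun x hx => hsc P f hf x hx (hPT hx)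
    obtain ⟨θ', hθ', hθi', hθD'⟩ := key _ (isConj_trans (isConj_symm (isConj_img hf)) hR) hfT
    obtain ⟨θi, hθi₁, hθl, -, hθii⟩ := hθ.inverse
    rw [hθi] at hθi₁ hθii
    have hmapsR : ∀ x ∈ R, θi x ∈ P := fun x hx => hθii ▸ mem_img_of_mem θi hx
    have hγ : IsMor F R (θ' ∘ f ∘ θi) :=
      (hθi₁.comp hf hmapsR).comp hθ' fun x hx => mem_img_of_mem f (hmapsR x hx)
    obtain ⟨γ, hγA, hγe⟩ := exists_aut hγ (hγ.img_eq_self fun x hx =>
      hθi' ▸ mem_img_of_mem θ' (mem_img_of_mem f (hmapsR x hx)))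
    have hRS := hRn.1
    obtain ⟨hfa, hrec⟩ := isFullyAutomized_of_normalized hS hF hRn
    have := finite_mulAut hRS
    have hAF : E.autGroup R ≤ F.autGroup R := autGroup_mono hsub
    have hAn : ∀ b ∈ F.autGroup R, ∀ a ∈ E.autGroup R, b * a * b⁻¹ ∈ E.autGroup R := by
      intro b hb a ha
      obtain ⟨k, hk, hke⟩ := hinv R R (autFun a) (autFun b) le_rfl hRT (isMor_autFun hRT ha)
        (fun x hx => autFun_mem a hx) (isMor_autFun hRS hb)
      rw [img_autFun] at hk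
      refine (autGroup_eq_set hRT _).mpr (hk.congr fun y hy => ?_)
      rw [autFun_mul _ _ hy, autFun_mul _ _ (autFun_mem b⁻¹ hy), ← hke _ (autFun_mem b⁻¹ hy),
        autFun_inv_right b hy]
    have hC := isSylIn_inf (isFullyAutomized_iff.mp hfa).2 hAF hAn
    obtain ⟨a, ha, haC⟩ := hC.exists_conj_le
      (C := (autInducedBy S R ⊓ E.autGroup R).map (MulAut.conj γ).toMonoidHom)
      (hC.2.1.map _) (by
        rintro _ ⟨c, hc, rfl⟩
        exact hAn γ hγA c hc.2)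
    have hδ : a * γ ∈ F.autGroup R := Subgroup.mul_mem _ (hAF ha) hγA
    obtain ⟨k, hk, hke⟩ :=
      (isReceptive_iff.mp hrec).2 R _ (isMor_autFun hRS hδ) (img_autFun (a * γ))
    have hRlt : R < T := lt_of_le_of_ne hRT fun e => by
      have := card_lt_of_lt le_rfl hlt
      rw [e] at hcard
      omega
    have hN : R < T ⊓ Subgroup.normalizer (R : Set Ω) :=
      lt_inf_normalizer (isPGroup_of_le hTS hS) hRlt
    have hle : T ⊓ Subgroup.normalizer (R : Set Ω) ≤ nExt S R (autFun (a * γ)) := by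
      intro t ht
      obtain ⟨c, hc, hce⟩ := exists_autInducedBy (hTS ht.1) ht.2
      have hcE : c ∈ E.autGroup R :=
        (autGroup_eq_set hRT c).mpr ((isMor_cj E hRT ht.1).congr fun x hx => (hce x hx).symm)
      obtain ⟨h, hh, -, hhe⟩ := mem_autInducedBy.mp
        (haC _ ⟨c, ⟨hc, hcE⟩, rfl⟩).1
      refine ⟨hTS ht.1, ht.2, h, hh, (mul_conj_aut (α := a * γ) hce hhe).mp ?_⟩
      simp [mul_assoc]
    obtain ⟨β, hβ, e, he, hke'⟩ := ih _ (by
        have := card_lt_of_lt (inf_le_left.trans hTS) hN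
        have := Subgroup.card_le_of_le (inf_le_left : T ⊓ Subgroup.normalizer (R : Set Ω) ≤ T)
        omega) (hk.restrict hle) inf_le_left rfl
    have hδD : Factors E F R (autFun (a * γ)) :=
      ⟨β, hβ, e, he.restrict hN.le, fun x hx => (hke x hx).symm.trans (hke' x (hN.le hx))⟩
    have haD : Factors E F R (autFun a⁻¹) :=
      ⟨1, Subgroup.one_mem _, _, isMor_autFun hRT (Subgroup.inv_mem _ ha),
        fun x hx => (autFun_one (hRT (autFun_mem _ hx))).symm⟩
    have hγD : Factors E F R (autFun γ) :=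
      hcongr _ _ _ (hcomp _ _ _ _ hδD haD hRT hRT fun x hx => autFun_mem _ hx) fun x hx => by
        rw [Function.comp_apply, ← autFun_mul _ _ hx, inv_mul_cancel_left]
    obtain ⟨χ, hχ, hχl⟩ := hinverse _ θ' hθD' hfT
    rw [hθi'] at hχ
    have h1 := hcomp _ _ _ _ (hcomp _ _ _ _ hθD hγD hPT hRT fun x hx => hθi ▸ mem_img_of_mem θ hx)
      hχ hPT hRT fun x hx => autFun_mem γ (hθi ▸ mem_img_of_mem θ hx)
    refine hcongr _ _ _ h1 fun x hx => ?_
    simp only [Function.comp_apply]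
    rw [hγe _ (hθi ▸ mem_img_of_mem θ hx)]
    simp only [Function.comp_apply]
    rw [hθl x hx]
    exact hχl _ (mem_img_of_mem f hx)

end CfsgLib.Fusion
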