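import Mathlib
import Cfsg.Agent.Lib.Fusion.Alperin
import Cfsg.Agent.Lib.Fusion.Normal
import Cfsg.Agent.Lib.Fusion.Invariant

/-! Every map agrees modulo a strongly closed subgroup with a map whose source contains it. -/
set_option autoImplicit false

namespace CfsgLib.Fusion

open Cfsg Cfsg.FusionSystem

variable {Ω : Type*} [Group Ω] {S : Subgroup Ω} {F : FusionSystem S} {T : Subgroup Ω}

/-- `f` agrees modulo `T` with a map defined on `P ⊔ T`. -/
def Liftable (F : FusionSystem S) (T P : Subgroup Ω) (f : Ω → Ω) : Prop :=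
  ∃ g, IsMor F (P ⊔ T) g ∧ ∀ x ∈ P, (f x)⁻¹ * g x ∈ T

theorem mapsTo_sup (hT : F.StronglyClosed T) {P Q : Subgroup Ω} {f g : Ω → Ω}
    (hg : IsMor F (P ⊔ T) g) (hgf : ∀ x ∈ P, (f x)⁻¹ * g x ∈ T) (hfQ : ∀ x ∈ P, f x ∈ Q) :
    img (P ⊔ T) g ≤ Q ⊔ T := by
  rw [hg.img_sup, sup_le_iff]
  refine ⟨img_le fun x hx => ?_, img_le fun x hx => Subgroup.mem_sup_right
    ((stronglyClosed_iff.mp hT).2 _ g hg x (Subgroup.mem_sup_right hx) hx)⟩
  have := (Q ⊔ T).mul_mem (Subgroup.mem_sup_left (hfQ x hx)) (Subgroup.mem_sup_right (hgf x hx))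
  rwa [mul_inv_cancel_left] at this

theorem exists_map_sup [Finite S] {p : ℕ} [Fact p.Prime] (hS : IsPGroup p S) (hF : F.IsSaturated p)
    (hT : F.StronglyClosed T) {P : Subgroup Ω} {f : Ω → Ω} (hf : IsMor F P f) :
    Liftable F T P f := by
  have hTS := hT.1
  have hsc := (stronglyClosed_iff.mp hT).2
  have hTn := stronglyClosed_le_normalizer hT
  suffices main : ∀ d P f, IsMor F P f → Nat.card S - Nat.card P = d → Liftable F T P f from
    main _ P f hf rfl
  clear! P f
  intro d
  induction d using Nat.strong_induction_on with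
  | _ d ih =>
    intro P₀ f₀ hf₀ hd₀
    let M : Subgroup Ω → (Ω → Ω) → Prop := fun P f =>
      IsMor F P f ∧ (Nat.card S - Nat.card P ≤ d → Liftable F T P f)
    have hcongr : ∀ P f g, M P f → (∀ x ∈ P, f x = g x) → M P g := by
      rintro P f g ⟨h1, h2⟩ e
      refine ⟨h1.congr e, fun hle => ?_⟩
      obtain ⟨k, hk, hkf⟩ := h2 hle
      exact ⟨k, hk, fun x hx => e x hx ▸ hkf x hx⟩
    let E : FusionSystem S := ofPred S M (fun P f h => ⟨h.1.le, fun x hx => h.1.mem hx⟩)
      (fun P f h x hx y hy e => h.1.inj hx hy e) hcongr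
      (fun P g hP hg => ⟨isMor_cj F hP hg, fun _ =>
        ⟨cj g, isMor_cj F (sup_le hP hTS) hg, fun x _ => by simp⟩⟩)
      (by
        rintro P Q f g ⟨hf, hfl⟩ ⟨hg, hgl⟩ hfQ
        refine ⟨hf.comp hg hfQ, fun hle => ?_⟩
        obtain ⟨k, hk, hkf⟩ := hfl hle
        have : Finite Q := finite_of_le hg.le
        have hcard : Nat.card P ≤ Nat.card Q := hf.card_img.ge.trans
          (Subgroup.card_le_of_le (img_le hfQ))
        obtain ⟨l, hl, hlg⟩ := hgl (by omega)
        have hm : ∀ x ∈ P ⊔ T, k x ∈ Q ⊔ T := fun x hx =>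
          mapsTo_sup hT hk hkf hfQ (mem_img_of_mem k hx)
        refine ⟨l ∘ k, hk.comp hl hm, fun x hx => ?_⟩
        have h1 := hkf x hx
        have h2 : l (k x) = l (f x) * l ((f x)⁻¹ * k x) := by
          rw [← hl.map_mul (Subgroup.mem_sup_left (hfQ x hx)) (Subgroup.mem_sup_right h1),
            mul_inv_cancel_left]
        show (g (f x))⁻¹ * l (k x) ∈ T
        rw [h2, ← mul_assoc]
        exact T.mul_mem (hlg _ (hfQ x hx)) (hsc _ l hl _ (Subgroup.mem_sup_right h1) h1))
      (by
        rintro P f ⟨hf, hfl⟩ -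
        obtain ⟨g, hg, hgl', hgr, hgi⟩ := hf.inverse
        refine ⟨g, ⟨hg, fun hle => ?_⟩, hgl'⟩
        rw [hf.card_img] at hle
        obtain ⟨k, hk, hkf⟩ := hfl hle
        obtain ⟨l, hl, hll, -, -⟩ := hk.inverse
        have hle' : img P f ⊔ T ≤ img (P ⊔ T) k := by
          refine sup_le (img_le fun x hx => ?_) ?_
          · have h1 := hkf x hx
            have hT' : T ≤ img (P ⊔ T) k := by
              refine le_of_eq_of_le ?_ (img_mono k (le_sup_right : T ≤ P ⊔ T))
              exact ((hk.restrict le_sup_right).img_eq_self fun y hy =>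
                hsc _ k hk y (Subgroup.mem_sup_right hy) hy).symm
            have := (img (P ⊔ T) k).mul_mem (mem_img_of_mem k (Subgroup.mem_sup_left hx : x ∈ P ⊔ T))
              ((img (P ⊔ T) k).inv_mem (hT' h1))
            simpa using this
          · refine le_of_eq_of_le ?_ (img_mono k (le_sup_right : T ≤ P ⊔ T))
            exact ((hk.restrict le_sup_right).img_eq_self fun y hy =>
              hsc _ k hk y (Subgroup.mem_sup_right hy) hy).symm
        refine ⟨l, hl.restrict hle', fun y hy => ?_⟩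
        obtain ⟨x, hx, rfl⟩ := hf.mem_img.mp hy
        rw [hgl' x hx]
        have h1 := hkf x hx
        have hfx := hle' (Subgroup.mem_sup_left hy)
        have h2 : l (k x) = l (f x) * l ((f x)⁻¹ * k x) := by
          rw [← hl.map_mul hfx (hle' (Subgroup.mem_sup_right h1)), mul_inv_cancel_left]
        rw [hll x (Subgroup.mem_sup_left hx)] at h2
        have h3 : x⁻¹ * l (f x) = (l ((f x)⁻¹ * k x))⁻¹ := by
          calc x⁻¹ * l (f x) = x⁻¹ * (l (f x) * l ((f x)⁻¹ * k x)) * (l ((f x)⁻¹ * k x))⁻¹ := by group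
            _ = _ := by rw [← h2, inv_mul_cancel, one_mul]
        rw [h3]
        exact T.inv_mem (hsc _ l hl _ (hle' (Subgroup.mem_sup_right h1)) h1))
    suffices hle : F ≤ E from
      ((isMor_ofPred (fun h x hx y hy => h.1.map_mul hx hy)).mp
        (le_iff_isMor.mp hle P₀ f₀ hf₀)).2 hd₀.le
    refine alperin hS hF fun P hP α hα => ?_
    have hPn : F.IsFullyNormalized P := by
      rcases hP with rfl | hP
      exacts [isFullyNormalized_self F, hP.2.1]
    have hPS := hPn.1
    have hαm := isMor_autFun hPS hα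
    refine (autGroup_eq_set hPS α).mpr ((isMor_ofPred (fun h x hx y hy => h.1.map_mul hx hy)).mpr
      ⟨hαm, fun hle => ?_⟩)
    rcases hle.lt_or_eq with hlt | hde
    · exact ih _ hlt P _ hαm rfl
    by_cases hTP : T ≤ P
    · exact ⟨autFun α, by rwa [sup_eq_left.mpr hTP], fun x _ => by simp⟩
    have : Finite P := finite_of_le hPS
    have : Finite (MulAut P) := finite_mulAut hPS
    obtain ⟨hfa, hrec⟩ := isFullyAutomized_of_normalized hS hF hPn
    let W : ℕ → Subgroup Ω := fun i => if i = 0 then P ⊓ T else P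
    have hW : ∀ a ∈ F.autGroup P, ∀ i, ∀ x ∈ P, x ∈ W i → autFun a x ∈ W i := by
      intro a ha i x hx hxW
      by_cases hi : i = 0
      · simp only [W, hi, if_true] at hxW ⊢
        exact ⟨autFun_mem a hx, hsc P _ (isMor_autFun hPS ha) x hx hxW.2⟩
      · simp only [W, hi, if_false]
        exact autFun_mem a hx
    let K := seriesStab (F.autGroup P) 1 W hW
    have hR := isSylIn_inf (N := K) (isFullyAutomized_iff.mp hfa).2 (fun a ha => ha.1)
      fun b hb n hn => seriesStab_conj hb hn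
    set R := autInducedBy S P ⊓ K with hRdef
    obtain ⟨k, hk, hkR⟩ := hR.exists_conj_le (C := R.map (MulAut.conj α).toMonoidHom)
      (hR.2.1.map _) (by
        rintro _ ⟨r, hr, rfl⟩
        exact seriesStab_conj hα hr.2)
    set β := k * α with hβdef
    have hβA : β ∈ F.autGroup P := Subgroup.mul_mem _ hk.1 hα
    have hβR : ∀ r ∈ R, β * r * β⁻¹ ∈ R := fun r hr => by
      have := hkR _ (Subgroup.mem_map_of_mem _ hr)
      simpa [hβdef, mul_assoc] using this
    have hN : P ⊔ (T ⊓ Subgroup.normalizer (P : Set Ω)) ≤ nExt S P (autFun β) := by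
      refine sup_le (le_nExt (isMor_autFun hPS hβA)) ?_
      rintro g ⟨hgT, hgn⟩
      obtain ⟨c, hc, hce⟩ := exists_autInducedBy (hTS hgT) hgn
      have hcK : c ∈ K := ⟨autInducedBy_le F hPS hc, fun i hi x hx _ => by
        obtain rfl : i = 0 := by omega
        rw [hce x hx]
        refine ⟨P.mul_mem (P.inv_mem hx) ((Subgroup.mem_normalizer_iff.mp hgn x).mp hx), ?_⟩
        have h1 : x⁻¹ * g * x ∈ T := by
          have := (Subgroup.mem_normalizer_iff.mp (hTn (S.inv_mem (hPS hx))) g).mp hgT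
          simpa using this
        simpa [cj, mul_assoc] using T.mul_mem h1 (T.inv_mem hgT)⟩
      obtain ⟨h, hh, -, hhe⟩ := mem_autInducedBy.mp (hβR c ⟨hc, hcK⟩).1
      refine ⟨hTS hgT, hgn, h, hh, fun x hx => ?_⟩
      have := hhe _ (autFun_mem β hx)
      rw [autFun_mul _ _ (autFun_mem β hx), autFun_inv_left β hx, autFun_mul _ _ hx, hce x hx] at this
      exact this
    set M' := P ⊔ (T ⊓ Subgroup.normalizer (P : Set Ω))
    have hPM : P < M' := by
      refine lt_of_le_of_ne le_sup_left fun e => hTP ?_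
      have hRS : P ⊔ T ≤ S := sup_le hPS hTS
      have : Finite ↥(P ⊔ T) := finite_of_le hRS
      by_contra hTP
      obtain ⟨g, hg, hgP⟩ := SetLike.exists_of_lt
        (lt_inf_normalizer (isPGroup_of_le hRS hS) (left_lt_sup.mpr hTP))
      obtain ⟨hgR, hgN⟩ := Subgroup.mem_inf.mp hg
      rw [← SetLike.mem_coe, Subgroup.coe_mul_of_left_le_normalizer_right _ _
        (hPS.trans hTn)] at hgR
      obtain ⟨a, ha, b, hb, rfl⟩ := hgR
      have hbN : b ∈ Subgroup.normalizer (P : Set Ω) :=
        (Subgroup.mul_mem_cancel_left _ (Subgroup.le_normalizer ha)).mp hgN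
      exact hgP (P.mul_mem ha (e ▸ Subgroup.mem_sup_right ⟨hb, hbN⟩))
    obtain ⟨ψ, hψ, hψe⟩ := (isReceptive_iff.mp hrec).2 P _ (isMor_autFun hPS hβA)
      (img_autFun β)
    have hψM := hψ.restrict hN
    obtain ⟨g, hg, hge⟩ := ih (Nat.card S - Nat.card M') (by
      have := card_sub_lt hψM.le hPM
      omega) M' ψ hψM rfl
    refine ⟨g, hg.restrict (sup_le_sup_right le_sup_left T), fun x hx => ?_⟩
    have h1 := hge x (Subgroup.mem_sup_left hx)
    rw [hψe x hx, hβdef, autFun_mul _ _ hx] at h1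
    have hy := autFun_mem α hx
    have h2 : (autFun α x)⁻¹ * autFun k (autFun α x) ∈ T :=
      (hk.2 0 Nat.one_pos _ hy (by simpa [W] using hy)).2
    have := T.mul_mem h2 h1
    simpa [mul_assoc] using this

end CfsgLib.Fusion
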