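import Mathlib
import Cfsg.Prelude.Def_FusionComponents
import Cfsg.Agent.Lib.Fusion.Morphism

/-! Factor systems: preimages and induced maps. -/
set_option autoImplicit false

namespace CfsgLib.Fusion

open Cfsg Cfsg.FusionSystem

variable {Ω Ω' : Type*} [Group Ω] [Group Ω'] {S : Subgroup Ω} {S₀ : Subgroup Ω} {θ : S →* Ω'}
  {F : FusionSystem S}

theorem mem_preimageAlong {P' : Subgroup Ω'} {x : Ω} :
    x ∈ preimageAlong θ P' ↔ ∃ hx : x ∈ S, θ ⟨x, hx⟩ ∈ P' :=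
  ⟨fun ⟨y, hy, e⟩ => e ▸ ⟨y.2, hy⟩, fun ⟨hx, h⟩ => ⟨⟨x, hx⟩, h, rfl⟩⟩

theorem preimageAlong_le (P' : Subgroup Ω') : preimageAlong θ P' ≤ S := Subgroup.map_subtype_le _

theorem mem_imageAlong {P : Subgroup Ω} {y : Ω'} :
    y ∈ imageAlong θ P ↔ ∃ x : S, (x : Ω) ∈ P ∧ θ x = y := Iff.rfl

theorem imageAlong_le_range (P : Subgroup Ω) : imageAlong θ P ≤ θ.range :=
  fun _ ⟨x, _, e⟩ => ⟨x, e⟩

theorem le_preimageAlong (hker : ∀ s : S, θ s = 1 ↔ (s : Ω) ∈ S₀) (hS₀ : S₀ ≤ S)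
    (P' : Subgroup Ω') : S₀ ≤ preimageAlong θ P' := fun x hx =>
  mem_preimageAlong.mpr ⟨hS₀ hx, by rw [(hker ⟨x, hS₀ hx⟩).mpr hx]; exact P'.one_mem⟩

theorem preimage_image (hker : ∀ s : S, θ s = 1 ↔ (s : Ω) ∈ S₀) (hS₀ : S₀ ≤ S) {P : Subgroup Ω}
    (hP : P ≤ S) : preimageAlong θ (imageAlong θ P) = P ⊔ S₀ := by
  refine le_antisymm (fun x hx => ?_)
    (sup_le (fun x hx => mem_preimageAlong.mpr ⟨hP hx, ⟨x, hP hx⟩, hx, rfl⟩)
      (le_preimageAlong hker hS₀ _))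
  obtain ⟨hxS, y, hy, e⟩ := mem_preimageAlong.mp hx
  have h1 : θ (y⁻¹ * ⟨x, hxS⟩) = 1 := by rw [map_mul, map_inv, e, inv_mul_cancel]
  have h2 : (y : Ω)⁻¹ * x ∈ S₀ := (hker _).mp h1
  have := (P ⊔ S₀).mul_mem (Subgroup.mem_sup_left hy) (Subgroup.mem_sup_right h2)
  simpa using this

/-- A map on a full preimage induces a homomorphism on the image. -/
theorem exists_induced (hker : ∀ s : S, θ s = 1 ↔ (s : Ω) ∈ S₀) (hS₀ : F.StronglyClosed S₀)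
    {P' : Subgroup Ω'} (hP' : P' ≤ θ.range) {g : Ω → Ω}
    (hg : IsMor F (preimageAlong θ P') g) :
    ∃ φ' : P' →* Ω', ∀ (x : S) (hx : θ x ∈ P') (hgx : g x ∈ S), φ' ⟨θ x, hx⟩ = θ ⟨g x, hgx⟩ := by
  classical
  have hlift : ∀ y : P', ∃ x : S, θ x = y := fun y => hP' y.2
  choose s hs using hlift
  have hsm : ∀ y, (s y : Ω) ∈ preimageAlong θ P' := fun y =>
    mem_preimageAlong.mpr ⟨(s y).2, by rw [Subtype.coe_eta, hs]; exact y.2⟩
  let v : P' → Ω' := fun y => θ ⟨g (s y), hg.mem (hsm y)⟩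
  have key : ∀ (x : S) (hx : θ x ∈ P') (hgx : g x ∈ S), v ⟨θ x, hx⟩ = θ ⟨g x, hgx⟩ := by
    intro x hx hgx
    have hxm : (x : Ω) ∈ preimageAlong θ P' := mem_preimageAlong.mpr ⟨x.2, hx⟩
    set y : P' := ⟨θ x, hx⟩
    have h1 : (x : Ω)⁻¹ * s y ∈ S₀ := (hker (x⁻¹ * s y)).mp (by
      rw [map_mul, map_inv, hs]; exact inv_mul_cancel _)
    have hzm := (preimageAlong θ P').mul_mem ((preimageAlong θ P').inv_mem hxm) (hsm y)
    have h2 := (stronglyClosed_iff.mp hS₀).2 _ g hg _ hzm h1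
    rw [hg.map_mul ((preimageAlong θ P').inv_mem hxm) (hsm y), hg.map_inv hxm] at h2
    refine (inv_mul_eq_one.mp ?_).symm
    rw [← map_inv, ← map_mul]
    exact (hker _).mpr h2
  refine ⟨MonoidHom.mk' v fun a b => ?_, key⟩
  have ha := hsm a
  have hb := hsm b
  have hθ : θ (s a * s b) = ((a * b : P') : Ω') := by rw [map_mul, hs, hs]; rfl
  have hmem : θ (s a * s b) ∈ P' := hθ ▸ (a * b).2
  have hgx : g ((s a * s b : S) : Ω) ∈ S := hg.mem ((preimageAlong θ P').mul_mem ha hb)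
  have h := key (s a * s b) hmem hgx
  rw [show (⟨θ (s a * s b), hmem⟩ : P') = a * b from Subtype.ext hθ] at h
  rw [h, ← map_mul]
  congr 1
  exact Subtype.ext (hg.map_mul ha hb)

/-- Every map of the system induces a map of the factor system. -/
theorem factor_isMorphism [Finite S] {p : ℕ} [Fact p.Prime] (hS : IsPGroup p S)
    (hF : F.IsSaturated p) (hS₀ : F.StronglyClosed S₀) {S' : Subgroup Ω'} {E : FusionSystem S'}
    (hE : F.IsFactorSystem S₀ θ E) : F.IsMorphism E θ := by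
  obtain ⟨hle, hker, hrange, hmaps⟩ := hE
  refine ⟨fun s => hrange ▸ ⟨s, rfl⟩, fun P φ hφ => ?_⟩
  have hP : P ≤ S := (F.le_of_mem hφ).1
  obtain ⟨g, hg, hgf⟩ := exists_map_sup hS hF hS₀ (isMor_of_mem hφ)
  rw [← preimage_image hker hle hP] at hg
  obtain ⟨φ', hφ'⟩ := exists_induced hker hS₀ (imageAlong_le_range P) hg
  obtain ⟨ψ, hψ, hψg⟩ := id hg
  refine ⟨φ', (hmaps _ φ').mpr ⟨(imageAlong_le_range P).trans hrange.le, ψ, hψ,
    preimageAlong_le _, fun x => (F.le_of_mem hψ).2 x,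
    fun x => (mem_preimageAlong.mp x.2).2, fun x => ?_⟩,
    hP, fun x => (F.le_of_mem hφ).2 x, fun x => ⟨⟨x, hP x.2⟩, x.2, rfl⟩, fun x => ?_⟩
  · rw [hφ' _ _ (hψg x ▸ (F.le_of_mem hψ).2 x)]
    congr 1
    exact Subtype.ext (hψg x).symm
  · have hgx : g x ∈ S := hg.mem (mem_preimageAlong.mpr ⟨hP x.2, ⟨x, hP x.2⟩, x.2, rfl⟩)
    refine (hφ' ⟨x, hP x.2⟩ _ hgx).trans ?_
    refine inv_mul_eq_one.mp ?_
    rw [← map_inv, ← map_mul]
    have h1 := hgf x x.2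
    rw [toFun_coe] at h1
    refine (hker _).mpr ?_
    have := S₀.inv_mem h1
    rwa [mul_inv_rev, inv_inv] at this

end CfsgLib.Fusion
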