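import Mathlib
import Cfsg.Agent.Lib.Fusion.Factor
import Cfsg.Agent.Lib.Fusion.Group

/-! Existence of factor systems. -/
set_option autoImplicit false

namespace CfsgLib.Fusion

open Cfsg Cfsg.FusionSystem

variable {Ω Ω' : Type*} [Group Ω] [Group Ω'] {S : Subgroup Ω} {S₀ : Subgroup Ω} {θ : S →* Ω'}
  {F : FusionSystem S}

theorem mem_of_map_mem [Finite S] (hS₀ : F.StronglyClosed S₀) {R : Subgroup Ω} {g : Ω → Ω}
    (hg : IsMor F R g) (hR : S₀ ≤ R) {x : Ω} (hx : x ∈ R) (h : g x ∈ S₀) : x ∈ S₀ := by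
  have hS := (hg.restrict hR).img_eq_self fun y hy =>
    (stronglyClosed_iff.mp hS₀).2 R g hg y (hR hy) hy
  exact (hg.mem_img_iff hR hx).mp (hS.ge h)

theorem exists_factorSystem [Finite S] (hS₀ : F.StronglyClosed S₀)
    (hker : ∀ s : S, θ s = 1 ↔ (s : Ω) ∈ S₀) {S' : Subgroup Ω'} (hrange : θ.range = S') :
    ∃ E : FusionSystem S', F.IsFactorSystem S₀ θ E := by
  let M : Subgroup Ω' → (Ω' → Ω') → Prop := fun P' f =>
    P' ≤ S' ∧ ∃ g, IsMor F (preimageAlong θ P') g ∧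
      ∀ s : S, θ s ∈ P' → ∀ hgs : g s ∈ S, f (θ s) = θ ⟨g s, hgs⟩
  have hlift : ∀ {P'}, P' ≤ S' → ∀ y ∈ P', ∃ s : S, θ s = y ∧ (s : Ω) ∈ preimageAlong θ P' := by
    intro P' hP' y hy
    obtain ⟨s, rfl⟩ := (hrange.ge (hP' hy) : y ∈ θ.range)
    exact ⟨s, rfl, mem_preimageAlong.mpr ⟨s.2, hy⟩⟩
  let E : FusionSystem S' := ofPred S' M
    (by
      rintro P' f ⟨hP', g, hg, he⟩
      refine ⟨hP', fun y hy => ?_⟩
      obtain ⟨s, rfl, hs⟩ := hlift hP' y hy
      rw [he s hy (hg.mem hs)]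
      exact hrange ▸ ⟨_, rfl⟩)
    (by
      rintro P' f ⟨hP', g, hg, he⟩ a ha b hb e
      obtain ⟨s, rfl, hs⟩ := hlift hP' a ha
      obtain ⟨t, rfl, ht⟩ := hlift hP' b hb
      rw [he s ha (hg.mem hs), he t hb (hg.mem ht), ← inv_mul_eq_one, ← map_inv, ← map_mul, hker] at e
      have hst := (preimageAlong θ P').mul_mem ((preimageAlong θ P').inv_mem hs) ht
      have h1 : g ((s : Ω)⁻¹ * t) ∈ S₀ := by
        rw [hg.map_mul ((preimageAlong θ P').inv_mem hs) ht, hg.map_inv hs]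
        exact e
      have h2 := mem_of_map_mem hS₀ hg (le_preimageAlong hker hS₀.1 P') hst h1
      rw [← inv_mul_eq_one, ← map_inv, ← map_mul]
      exact (hker _).mpr h2)
    (by
      rintro P' f f' ⟨hP', g, hg, he⟩ e
      exact ⟨hP', g, hg, fun s hs hgs => (e _ hs).symm.trans (he s hs hgs)⟩)
    (by
      intro P' y hP' hy
      obtain ⟨s, rfl⟩ := (hrange.ge hy : y ∈ θ.range)
      refine ⟨hP', cj (s : Ω), isMor_cj F (preimageAlong_le _) s.2, fun t _ hgs => ?_⟩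
      rw [show (⟨cj (s : Ω) t, hgs⟩ : S) = s * t * s⁻¹ from rfl, map_mul, map_mul, map_inv]
      rfl)
    (by
      rintro P' Q' f f' ⟨hP', g, hg, he⟩ ⟨hQ', g', hg', he'⟩ hfQ
      have hm : ∀ x ∈ preimageAlong θ P', g x ∈ preimageAlong θ Q' := fun x hx => by
        obtain ⟨hxS, hxP⟩ := mem_preimageAlong.mp hx
        exact mem_preimageAlong.mpr ⟨hg.mem hx, he ⟨x, hxS⟩ hxP (hg.mem hx) ▸ hfQ _ hxP⟩
      refine ⟨hP', g' ∘ g, hg.comp hg' hm, fun s hs hgs => ?_⟩
      have hsm : (s : Ω) ∈ preimageAlong θ P' := mem_preimageAlong.mpr ⟨s.2, hs⟩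
      show f' (f (θ s)) = _
      obtain ⟨hgS, hgQ⟩ := mem_preimageAlong.mp (hm _ hsm)
      rw [he s hs hgS, he' ⟨_, hgS⟩ hgQ hgs]
      rfl)
    (by
      rintro P' f ⟨hP', g, hg, he⟩ hmul
      obtain ⟨k, hk, hkl, hkr, hki⟩ := hg.inverse
      have hS₀img : S₀ ≤ img (preimageAlong θ P') g :=
        ((hg.restrict (le_preimageAlong hker hS₀.1 P')).img_eq_self fun y hy =>
          (stronglyClosed_iff.mp hS₀).2 _ g hg y (le_preimageAlong hker hS₀.1 P' hy) hy).ge.trans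
          (img_mono g (le_preimageAlong hker hS₀.1 P'))
      have himg : img P' f ≤ S' := img_le fun y hy => by
        obtain ⟨s, rfl, hs⟩ := hlift hP' y hy
        rw [he s hy (hg.mem hs)]
        exact hrange ▸ ⟨_, rfl⟩
      have hpre : preimageAlong θ (img P' f) ≤ img (preimageAlong θ P') g := by
        intro x hx
        obtain ⟨hxS, hxm⟩ := mem_preimageAlong.mp hx
        have hsub : img P' f ≤ ((img (preimageAlong θ P') g).subgroupOf S).map θ := img_le fun y hy => by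
          obtain ⟨s, rfl, hs⟩ := hlift hP' y hy
          exact ⟨⟨g s, hg.mem hs⟩, mem_img_of_mem g hs, (he s hy _).symm⟩
        obtain ⟨w, hw, hwe⟩ := hsub hxm
        have h1 : θ (w⁻¹ * ⟨x, hxS⟩) = 1 := by rw [map_mul, map_inv, hwe, inv_mul_cancel]
        have := (img (preimageAlong θ P') g).mul_mem hw (hS₀img ((hker _).mp h1))
        simpa using this
      have hinj : ∀ a ∈ P', ∀ b ∈ P', f a = f b → a = b := fun a ha b hb e => by
        obtain ⟨s, rfl, hs⟩ := hlift hP' a ha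
        obtain ⟨t, rfl, ht⟩ := hlift hP' b hb
        rw [he s ha (hg.mem hs), he t hb (hg.mem ht), ← inv_mul_eq_one, ← map_inv, ← map_mul, hker] at e
        have h1 : g ((s : Ω)⁻¹ * t) ∈ S₀ := by
          rw [hg.map_mul ((preimageAlong θ P').inv_mem hs) ht, hg.map_inv hs]
          exact e
        have h2 := mem_of_map_mem hS₀ hg (le_preimageAlong hker hS₀.1 P')
          ((preimageAlong θ P').mul_mem ((preimageAlong θ P').inv_mem hs) ht) h1
        rw [← inv_mul_eq_one, ← map_inv, ← map_mul]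
        exact (hker _).mpr h2
      classical
      let f' : Ω' → Ω' := fun y => if h : ∃ a ∈ P', f a = y then h.choose else 1
      have hf' : ∀ a ∈ P', f' (f a) = a := fun a ha => by
        have h : ∃ b ∈ P', f b = f a := ⟨a, ha, rfl⟩
        simp only [f', dif_pos h]
        exact hinj _ h.choose_spec.1 a ha h.choose_spec.2
      refine ⟨f', ⟨himg, k, hk.restrict hpre, fun t ht hkt => ?_⟩, hf'⟩
      have htm := hpre (mem_preimageAlong.mpr ⟨t.2, ht⟩)
      have hkP : k (t : Ω) ∈ preimageAlong θ P' := hki ▸ mem_img_of_mem k htm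
      obtain ⟨_, hkP'⟩ := mem_preimageAlong.mp hkP
      have h2 := he ⟨k t, hkt⟩ hkP' (hg.mem hkP)
      have e : θ t = f (θ ⟨k t, hkt⟩) := by
        rw [h2]
        congr 1
        exact Subtype.ext (hkr _ htm).symm
      rw [e, hf' _ hkP'])
  refine ⟨E, hS₀.1, hker, hrange, fun P' φ' => ?_⟩
  change M P' (toFun φ') ↔ _
  constructor
  · rintro ⟨hP', g, ⟨φ, hφ, hφg⟩, he⟩
    refine ⟨hP', φ, hφ, preimageAlong_le P', fun x => (F.le_of_mem hφ).2 x,
      fun x => (mem_preimageAlong.mp x.2).2, fun x => ?_⟩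
    have hx := (mem_preimageAlong.mp x.2).2
    have := he ⟨x, preimageAlong_le P' x.2⟩ hx (hφg x ▸ (F.le_of_mem hφ).2 x)
    rw [toFun_of_mem φ' hx] at this
    rw [this]
    congr 1
    exact Subtype.ext (hφg x).symm
  · rintro ⟨hP', φ, hφ, hR, hφS, hmem, hind⟩
    refine ⟨hP', toFun φ, isMor_of_mem hφ, fun s hs hgs => ?_⟩
    have hsm : (s : Ω) ∈ preimageAlong θ P' := mem_preimageAlong.mpr ⟨s.2, hs⟩
    rw [toFun_of_mem φ' hs]
    refine (hind ⟨s, hsm⟩).trans ?_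
    congr 1
    exact Subtype.ext (toFun_of_mem φ hsm).symm

/-- The system of `G/H` is the factor system modulo `S ⊓ H`. -/
theorem group_factorSystem {G : Type*} [Group G] [Finite G] {p : ℕ} [Fact p.Prime] (S : Sylow p G)
    (H : Subgroup G) [H.Normal] :
    (groupFusionSystem (S : Subgroup G)).IsFactorSystem ((S : Subgroup G) ⊓ H)
      ((QuotientGroup.mk' H).comp (S : Subgroup G).subtype)
      (groupFusionSystem ((S : Subgroup G).map (QuotientGroup.mk' H))) := by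
  set π := QuotientGroup.mk' H
  set θ := π.comp (S : Subgroup G).subtype with hθ
  have hker : ∀ s : (S : Subgroup G), θ s = 1 ↔ (s : G) ∈ (S : Subgroup G) ⊓ H := fun s =>
    ⟨fun h => ⟨s.2, (QuotientGroup.eq_one_iff _).mp h⟩, fun h => (QuotientGroup.eq_one_iff _).mpr h.2⟩
  refine ⟨inf_le_left, hker, ?_, fun P' φ' => ⟨?_, ?_⟩⟩
  · rw [hθ, MonoidHom.range_comp, Subgroup.range_subtype]
  · rintro ⟨hP', hφS, gq, hgq⟩
    obtain ⟨g, rfl⟩ := QuotientGroup.mk'_surjective H gq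
    refine ⟨hP', ?_⟩
    set R := preimageAlong θ P' with hR
    have hRS : R ≤ (S : Subgroup G) := preimageAlong_le P'
    have hC : R.map (MulAut.conj g).toMonoidHom ≤ (S : Subgroup G) ⊔ H := by
      rintro _ ⟨x, hx, rfl⟩
      obtain ⟨hxS, hxP⟩ := mem_preimageAlong.mp hx
      obtain ⟨s, hs, hse⟩ := hφS ⟨_, hxP⟩
      rw [hgq] at hse
      have h1 : π (s⁻¹ * (g * x * g⁻¹)) = 1 := by
        rw [map_mul, map_inv, hse, map_mul, map_mul, map_inv]
        exact inv_mul_cancel _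
      have := ((S : Subgroup G) ⊔ H).mul_mem (Subgroup.mem_sup_left hs)
        (Subgroup.mem_sup_right ((QuotientGroup.eq_one_iff _).mp h1))
      rwa [mul_inv_cancel_left] at this
    have hSyl : IsSylIn p (S : Subgroup G) ((S : Subgroup G) ⊔ H) :=
      ⟨le_sup_left, S.2, fun C hC hle _ => S.3 hC hle⟩
    obtain ⟨b, hb, hbC⟩ := hSyl.exists_conj_le ((isPGroup_of_le hRS S.2).map _) hC
    rw [← SetLike.mem_coe, Subgroup.mul_normal] at hb
    obtain ⟨s, hs, h, hh, rfl⟩ := hb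
    have hin : ∀ x ∈ R, cj (h * g) x ∈ (S : Subgroup G) := fun x hx => by
      have h1 := hbC _ (Subgroup.mem_map_of_mem _ hx)
      have h2 := (S : Subgroup G).mul_mem ((S : Subgroup G).mul_mem ((S : Subgroup G).inv_mem hs) h1) hs
      simpa [cj, mul_assoc] using h2
    have hm : IsMor (groupFusionSystem (S : Subgroup G)) R (cj (h * g)) :=
      isMor_group.mpr ⟨hRS, hin, _, fun _ _ => rfl⟩
    obtain ⟨φ, hφ, hφe⟩ := hm
    refine ⟨φ, hφ, hRS, fun x => ((groupFusionSystem (S : Subgroup G)).le_of_mem hφ).2 x,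
      fun x => (mem_preimageAlong.mp x.2).2, fun x => ?_⟩
    rw [hgq]
    show π g * π x * (π g)⁻¹ = π (φ x)
    have hh1 : π h = 1 := (QuotientGroup.eq_one_iff _).mpr hh
    rw [hφe, cj_apply, map_mul, map_mul, map_inv, map_mul, hh1, one_mul]
  · rintro ⟨hP', φ, ⟨hR, hφS', g, hg⟩, hR', hφS, hmem, hind⟩
    refine ⟨hP', ?_, π g, ?_⟩
    · rintro ⟨y, hy⟩
      obtain ⟨s, hs, rfl⟩ := hP' hy
      have hm : s ∈ preimageAlong θ P' := mem_preimageAlong.mpr ⟨hs, hy⟩
      exact ⟨φ ⟨s, hm⟩, hφS _, (hind ⟨s, hm⟩).symm⟩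
    · rintro ⟨y, hy⟩
      obtain ⟨s, hs, rfl⟩ := hP' hy
      have hm : s ∈ preimageAlong θ P' := mem_preimageAlong.mpr ⟨hs, hy⟩
      refine (hind ⟨s, hm⟩).trans ?_
      show π (φ ⟨s, hm⟩) = π g * π s * (π g)⁻¹
      rw [hg, map_mul, map_mul, map_inv]

end CfsgLib.Fusion
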