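import Mathlib
import Cfsg.Agent.Lib.Fusion.Factor
import Cfsg.Agent.Lib.Fusion.Saturation

/-! Factor systems of saturated systems are saturated. -/
set_option autoImplicit false

namespace CfsgLib.Fusion

open Cfsg Cfsg.FusionSystem

variable {Ω Ω' : Type*} [Group Ω] [Group Ω'] {S : Subgroup Ω} {S₀ : Subgroup Ω} {θ : S →* Ω'}
  {F : FusionSystem S} {S' : Subgroup Ω'} {E : FusionSystem S'}

/-- A map of the factor system lifts to the full preimage. -/
theorem factor_lift (hE : F.IsFactorSystem S₀ θ E) {P' : Subgroup Ω'} {f' : Ω' → Ω'}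
    (hf : IsMor E P' f') :
    ∃ g, IsMor F (preimageAlong θ P') g ∧
      ∀ (x : S) (hgx : g x ∈ S), θ x ∈ P' → f' (θ x) = θ ⟨g x, hgx⟩ := by
  obtain ⟨φ', hφ', e⟩ := hf
  obtain ⟨-, φ, hφ, hR, hφS, hmem, hind⟩ := (hE.2.2.2 P' φ').mp hφ'
  refine ⟨toFun φ, isMor_of_mem hφ, fun x hgx hx => ?_⟩
  rw [← e ⟨θ x, hx⟩]
  refine (hind ⟨x, mem_preimageAlong.mpr ⟨x.2, hx⟩⟩).trans ?_
  congr 1
  exact Subtype.ext (toFun_coe φ ⟨(x : Ω), mem_preimageAlong.mpr ⟨x.2, hx⟩⟩).symm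

/-- A map on a full preimage induces a map of the factor system. -/
theorem factor_push (hE : F.IsFactorSystem S₀ θ E) (hS₀ : F.StronglyClosed S₀) {P' : Subgroup Ω'}
    (hP' : P' ≤ S') {g : Ω → Ω} (hg : IsMor F (preimageAlong θ P') g) :
    ∃ f', IsMor E P' f' ∧
      ∀ (x : S) (hgx : g x ∈ S), θ x ∈ P' → f' (θ x) = θ ⟨g x, hgx⟩ := by
  obtain ⟨φ', hφ'⟩ := exists_induced hE.2.1 hS₀ (hE.2.2.1 ▸ hP') hg
  obtain ⟨φ, hφ, hφg⟩ := id hg
  refine ⟨toFun φ', isMor_of_mem ((hE.2.2.2 P' φ').mpr ⟨hP', φ, hφ, preimageAlong_le _,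
    fun x => (F.le_of_mem hφ).2 x, fun x => (mem_preimageAlong.mp x.2).2, fun x => ?_⟩),
    fun x hgx hx => ?_⟩
  · rw [hφ' _ _ (hφg x ▸ (F.le_of_mem hφ).2 x)]
    congr 1
    exact Subtype.ext (hφg x).symm
  · rw [toFun_of_mem φ' hx]
    exact hφ' x hx hgx

theorem factor_isSaturated [Finite S] {p : ℕ} [Fact p.Prime] (hS : IsPGroup p S)
    (hF : F.IsSaturated p) (hS₀ : F.StronglyClosed S₀) (hE : F.IsFactorSystem S₀ θ E) :
    E.IsSaturated p := by
  obtain ⟨hle, hker, hrange, -⟩ := id hE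
  have hsc := (stronglyClosed_iff.mp hS₀).2
  have : Finite S' := hrange ▸ Finite.of_surjective _ θ.rangeRestrict_surjective
  have hlift : ∀ y ∈ S', ∃ x : S, θ x = y := fun y hy => hrange.ge hy
  intro P' hP'
  set R := preimageAlong θ P' with hR
  obtain ⟨Q, hQc, hQn⟩ := exists_fullyNormalized F (preimageAlong_le P' : R ≤ S)
  have hQS := hQn.1
  have : Finite Q := finite_of_le hQS
  obtain ⟨φ₀, hφ₀, hφ₀i⟩ := isConj_iff.mp hQc
  have hS₀Q : S₀ ≤ Q := by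
    intro x hx
    have h := ((hφ₀.restrict (le_preimageAlong hker hle P')).img_eq_self fun y hy =>
      hsc _ φ₀ hφ₀ y (le_preimageAlong hker hle P' hy) hy).ge hx
    exact hφ₀i ▸ img_mono φ₀ (le_preimageAlong hker hle P') h
  set Q' := imageAlong θ Q with hQ'
  have hQ'S : Q' ≤ S' := (imageAlong_le_range Q).trans hrange.le
  have hpreQ : preimageAlong θ Q' = Q := by
    rw [hQ', preimage_image hker hle hQS, sup_eq_left.mpr hS₀Q]
  obtain ⟨f₀, hf₀, hf₀e⟩ := factor_push hE hS₀ hP' hφ₀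
  have hconj : E.IsConj P' Q' := by
    refine isConj_iff.mpr ⟨f₀, hf₀, le_antisymm (img_le fun y hy => ?_) ?_⟩
    · obtain ⟨x, rfl⟩ := hlift y (hP' hy)
      have hxR : (x : Ω) ∈ R := mem_preimageAlong.mpr ⟨x.2, hy⟩
      rw [hf₀e x (hφ₀.mem hxR) hy]
      exact ⟨_, hφ₀i ▸ mem_img_of_mem φ₀ hxR, rfl⟩
    · rintro _ ⟨z, hz, rfl⟩
      have hz' : (z : Ω) ∈ img R φ₀ := hφ₀i.ge hz
      obtain ⟨x, hx, hxz⟩ := hφ₀.mem_img.mp hz'
      obtain ⟨hxS, hxP⟩ := mem_preimageAlong.mp hx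
      have := mem_img_of_mem f₀ hxP
      rw [hf₀e ⟨x, hxS⟩ (hφ₀.mem hx) hxP] at this
      convert this using 2
      exact Subtype.ext hxz.symm
  set A := F.autGroup Q with hA
  have hAfin := finite_mulAut (P := Q) hQS
  -- restriction to the quotient
  have hres : ∀ α : A, ∃ β : MulAut Q', β ∈ E.autGroup Q' ∧
      ∀ (x : S) (hx : (x : Ω) ∈ Q), autFun β (θ x) = θ ⟨autFun (α : MulAut Q) x,
        hQS (autFun_mem _ hx)⟩ := by
    intro α
    have hm := (isMor_autFun hQS α.2).restrict hpreQ.le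
    obtain ⟨f', hf', hf'e⟩ := factor_push hE hS₀ hQ'S hm
    have : Finite Q' := finite_of_le hQ'S
    obtain ⟨β, hβ, hβe⟩ := exists_aut hf' (hf'.img_eq_self (by
      rintro _ ⟨x, hx, rfl⟩
      rw [hf'e x (hQS (autFun_mem _ hx)) ⟨x, hx, rfl⟩]
      exact ⟨⟨_, hQS (autFun_mem _ hx)⟩, autFun_mem (α : MulAut Q) hx, rfl⟩))
    exact ⟨β, hβ, fun x hx => (hβe _ ⟨x, hx, rfl⟩).trans (hf'e x _ ⟨x, hx, rfl⟩)⟩
  choose r hrA hr using hres
  have hruniq : ∀ (α : A) (β : MulAut Q'), (∀ (x : S) (hx : (x : Ω) ∈ Q),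
      autFun β (θ x) = θ ⟨autFun (α : MulAut Q) x, hQS (autFun_mem _ hx)⟩) → r α = β := by
    intro α β h
    refine autFun_inj ?_
    rintro _ ⟨x, hx, rfl⟩
    rw [hr α x hx, h x hx]
  let ρ : A →* MulAut Q' := MonoidHom.mk' r fun a b => by
    refine hruniq (a * b) _ fun x hx => ?_
    rw [autFun_mul _ _ (show θ x ∈ Q' from ⟨x, hx, rfl⟩), hr b x hx,
      hr a ⟨_, hQS (autFun_mem _ hx)⟩ (autFun_mem _ hx)]
    congr 1
    exact Subtype.ext (autFun_mul _ _ hx).symm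
  have hρrange : ρ.range = E.autGroup Q' := by
    refine le_antisymm (by rintro _ ⟨a, rfl⟩; exact hrA a) fun β hβ => ?_
    obtain ⟨g, hg, hge⟩ := factor_lift hE (isMor_autFun hQ'S hβ)
    rw [hpreQ] at hg
    have hmaps : ∀ x ∈ Q, g x ∈ Q := fun x hx => by
      rw [← hpreQ]
      refine mem_preimageAlong.mpr ⟨hg.mem hx, ?_⟩
      rw [← hge ⟨x, hQS hx⟩ (hg.mem hx) ⟨⟨x, hQS hx⟩, hx, rfl⟩]
      exact autFun_mem β ⟨⟨x, hQS hx⟩, hx, rfl⟩
    obtain ⟨α, hα, hαe⟩ := exists_aut hg (hg.img_eq_self hmaps)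
    refine ⟨⟨α, hα⟩, hruniq _ β fun x hx => ?_⟩
    rw [hge x (hg.mem hx) ⟨x, hx, rfl⟩]
    congr 1
    exact Subtype.ext (hαe x hx).symm
  have hSle := autInducedBy_le F hQS
  obtain ⟨hfa, hrec⟩ := isFullyAutomized_of_normalized hS hF hQn
  obtain ⟨R₀, hR₀⟩ := (exists_sylow_iff hSle).mpr (isFullyAutomized_iff.mp hfa).2
  have hρS : (R₀ : Subgroup A).map ρ = autInducedBy S' Q' := by
    ext β
    rw [hR₀, mem_autInducedBy]
    constructor
    · rintro ⟨a, ha, rfl⟩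
      obtain ⟨g, hg, hn, hge⟩ := mem_autInducedBy.mp ha
      have hval : ∀ y ∈ Q', autFun (ρ a) y = cj (θ ⟨g, hg⟩) y := by
        rintro _ ⟨x, hx, rfl⟩
        rw [show ρ a = r a from rfl, hr a x hx, cj_apply, ← map_inv, ← map_mul, ← map_mul]
        congr 1
        exact Subtype.ext (hge x hx)
      refine ⟨θ ⟨g, hg⟩, hrange ▸ ⟨_, rfl⟩, ?_, hval⟩
      rw [Subgroup.mem_normalizer_iff_map_conj_eq]
      exact (img_cj Q' _).symm.trans ((img_congr hval).symm.trans (img_autFun _))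
    · rintro ⟨h', hh', hn', he⟩
      obtain ⟨g, rfl⟩ := hlift h' hh'
      have hgn : ∀ x ∈ Q, cj (g : Ω) x ∈ Q := fun x hx => by
        rw [← hpreQ]
        refine mem_preimageAlong.mpr ⟨S.mul_mem (S.mul_mem g.2 (hQS hx)) (S.inv_mem g.2), ?_⟩
        have := (Subgroup.mem_normalizer_iff.mp hn' _).mp (show θ ⟨x, hQS hx⟩ ∈ Q' from ⟨_, hx, rfl⟩)
        rwa [← map_inv, ← map_mul, ← map_mul] at this
      have hgN : (g : Ω) ∈ Subgroup.normalizer (Q : Set Ω) := by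
        rw [Subgroup.mem_normalizer_iff_map_conj_eq]
        exact (img_cj Q _).symm.trans ((isMor_cj F hQS g.2).img_eq_self hgn)
      obtain ⟨α, hα, hαe⟩ := exists_autInducedBy g.2 hgN
      refine ⟨⟨α, hSle hα⟩, hα, hruniq _ β fun x hx => ?_⟩
      rw [he _ ⟨x, hx, rfl⟩, cj_apply, ← map_inv, ← map_mul, ← map_mul]
      congr 1
      exact Subtype.ext (hαe x hx).symm
  refine ⟨Q', hconj, isFullyAutomized_iff.mpr ⟨hQ'S, ?_⟩, isReceptive_iff.mpr ⟨hQ'S, ?_⟩⟩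
  · have hsurj := ρ.rangeRestrict_surjective
    have he : autInducedBy S' Q' = ((R₀.mapSurjective hsurj : Subgroup ρ.range)).map ρ.range.subtype := by
      rw [Sylow.coe_mapSurjective, Subgroup.map_map, ρ.subtype_comp_rangeRestrict, hρS]
    have hle' : autInducedBy S' Q' ≤ ρ.range := he ▸ Subgroup.map_subtype_le _
    rw [← hρrange]
    refine (exists_sylow_iff hle').mp ⟨R₀.mapSurjective hsurj, ?_⟩
    rw [he, Subgroup.subgroupOf, Subgroup.comap_map_eq_self_of_injective ρ.range.subtype_injective]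
  · intro P'' f' hf' himg
    obtain ⟨g, hg, hge⟩ := factor_lift hE hf'
    set R' := preimageAlong θ P'' with hR'
    have hP''S := hf'.le
    have hgQ : img R' g = Q := by
      refine le_antisymm (img_le fun x hx => ?_) fun z hz => ?_
      · obtain ⟨hxS, hxP⟩ := mem_preimageAlong.mp hx
        rw [← hpreQ]
        refine mem_preimageAlong.mpr ⟨hg.mem hx, ?_⟩
        rw [← hge ⟨x, hxS⟩ (hg.mem hx) hxP, ← himg]
        exact mem_img_of_mem f' hxP
      · have hθz : θ ⟨z, hQS hz⟩ ∈ img P'' f' := himg.ge ⟨_, hz, rfl⟩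
        obtain ⟨y, hy, hye⟩ := hf'.mem_img.mp hθz
        obtain ⟨x, rfl⟩ := hlift y (hP''S hy)
        have hxR : (x : Ω) ∈ R' := mem_preimageAlong.mpr ⟨x.2, hy⟩
        rw [hge x (hg.mem hxR) hy] at hye
        have h1 : θ (⟨g x, hg.mem hxR⟩⁻¹ * ⟨z, hQS hz⟩) = 1 := by
          rw [map_mul, map_inv, hye, inv_mul_cancel]
        have h2 : S₀ ≤ img R' g :=
          ((hg.restrict (le_preimageAlong hker hle P'')).img_eq_self fun w hw =>
            hsc _ g hg w (le_preimageAlong hker hle P'' hw) hw).ge.trans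
            (img_mono g (le_preimageAlong hker hle P''))
        have := (img R' g).mul_mem (mem_img_of_mem g hxR) (h2 ((hker _).mp h1))
        simpa using this
    set N' := nExt S' P'' f' with hN'
    have hN'S : N' ≤ S' := fun y hy => hy.1
    set M := preimageAlong θ N' with hM
    have hMR : R' ≤ M := fun x hx => by
      obtain ⟨hxS, hxP⟩ := mem_preimageAlong.mp hx
      exact mem_preimageAlong.mpr ⟨hxS, le_nExt hf' hxP⟩
    have hMnorm : ∀ m ∈ M, ∀ x ∈ R', cj m x ∈ R' := fun m hm x hx => by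
      obtain ⟨hmS, hmN⟩ := mem_preimageAlong.mp hm
      obtain ⟨hxS, hxP⟩ := mem_preimageAlong.mp hx
      refine mem_preimageAlong.mpr ⟨S.mul_mem (S.mul_mem hmS hxS) (S.inv_mem hmS), ?_⟩
      have := (Subgroup.mem_normalizer_iff.mp hmN.2.1 _).mp hxP
      rwa [← map_inv, ← map_mul, ← map_mul] at this
    -- the transported action of `M` on `Q`
    have hτ : ∀ m : M, ∃ γ : A, ∀ x ∈ R', autFun (γ : MulAut Q) (g x) = g (cj (m : Ω) x) := by
      intro m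
      obtain ⟨k, hk, hkl, -, hki⟩ := hg.inverse
      rw [hgQ] at hk hki
      have hmS : (m : Ω) ∈ S := preimageAlong_le _ m.2
      have hk' : ∀ y ∈ Q, k y ∈ R' := fun y hy => hki ▸ mem_img_of_mem k hy
      have hm1 : IsMor F Q (cj (m : Ω) ∘ k) :=
        hk.comp (isMor_cj F (preimageAlong_le P'') hmS) hk'
      have hm2 : IsMor F Q (g ∘ (cj (m : Ω) ∘ k)) :=
        hm1.comp hg fun y hy => hMnorm _ m.2 _ (hk' y hy)
      obtain ⟨γ, hγ, hγe⟩ := exists_aut hm2 (hm2.img_eq_self fun y hy =>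
        hgQ ▸ mem_img_of_mem g (hMnorm _ m.2 _ (hk' y hy)))
      refine ⟨⟨γ, hγ⟩, fun x hx => ?_⟩
      rw [hγe _ (hgQ ▸ mem_img_of_mem g hx)]
      show g (cj (m : Ω) (k (g x))) = _
      rw [hkl x hx]
    choose τ hτe using hτ
    let τh : M →* A := MonoidHom.mk' τ fun a b => by
      refine Subtype.ext (autFun_inj fun z hz => ?_)
      obtain ⟨x, hx, rfl⟩ := hg.mem_img.mp (hgQ.ge hz)
      rw [hτe _ x hx, Subgroup.coe_mul, Subgroup.coe_mul, autFun_mul _ _ hz, hτe _ x hx,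
        hτe _ _ (hMnorm _ b.2 x hx), cj_mul]
    have hX : τh.range ≤ (R₀ : Subgroup A) ⊔ ρ.ker := by
      rw [← Subgroup.comap_map_eq, hρS]
      rintro _ ⟨m, rfl⟩
      obtain ⟨hmS, hmN⟩ := mem_preimageAlong.mp m.2
      obtain ⟨-, hn, h', hh', hhe⟩ := hmN
      have hval : ∀ y ∈ Q', autFun (ρ (τ m)) y = cj h' y := by
        rintro _ ⟨z, hz, rfl⟩
        obtain ⟨x, hx, hxz⟩ := hg.mem_img.mp (hgQ.ge hz)
        obtain ⟨hxS, hxP⟩ := mem_preimageAlong.mp hx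
        rw [show ρ (τ m) = r (τ m) from rfl, hr _ z hz]
        have e1 : θ z = f' (θ ⟨x, hxS⟩) := by
          rw [hge ⟨x, hxS⟩ (hg.mem hx) hxP]
          congr 1
          exact Subtype.ext hxz.symm
        rw [e1, ← hhe _ hxP]
        have hcx := hMnorm _ m.2 x hx
        obtain ⟨hcS, hcP⟩ := mem_preimageAlong.mp hcx
        have e2 : cj (θ ⟨m, hmS⟩) (θ ⟨x, hxS⟩) = θ ⟨cj (m : Ω) x, hcS⟩ := by
          rw [cj_apply, ← map_inv, ← map_mul, ← map_mul]
          rfl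
        rw [e2, hge ⟨_, hcS⟩ (hg.mem hcx) hcP]
        congr 1
        refine Subtype.ext ?_
        show autFun _ (z : Ω) = g (cj (m : Ω) x)
        rw [show (z : Ω) = g x from hxz.symm, hτe m x hx]
      refine mem_autInducedBy.mpr ⟨h', hh', ?_, hval⟩
      rw [Subgroup.mem_normalizer_iff_map_conj_eq]
      exact (img_cj Q' _).symm.trans ((img_congr hval).symm.trans (img_autFun _))
    have hXp : IsPGroup p τh.range :=
      (isPGroup_of_le (preimageAlong_le N') hS).of_surjective τh.rangeRestrict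
        τh.rangeRestrict_surjective
    have hB : IsSylIn p (R₀ : Subgroup A) ((R₀ : Subgroup A) ⊔ ρ.ker) :=
      ⟨le_sup_left, R₀.2, fun C hC hle _ => R₀.3 hC hle⟩
    obtain ⟨b, hb, hbX⟩ := hB.exists_conj_le hXp hX
    rw [← SetLike.mem_coe, Subgroup.mul_normal] at hb
    obtain ⟨s, hs, κ, hκ, rfl⟩ := hb
    have hκX : ∀ γ ∈ τh.range, κ * γ * κ⁻¹ ∈ (R₀ : Subgroup A) := fun γ hγ => by
      have h1 := Subgroup.mul_mem _ (Subgroup.mul_mem _ (Subgroup.inv_mem _ hs) (hbX γ hγ)) hs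
      simpa [mul_assoc] using h1
    have hg₁ : IsMor F R' (autFun (κ : MulAut Q) ∘ g) :=
      hg.comp (isMor_autFun hQS κ.2) fun x hx => hgQ ▸ mem_img_of_mem g hx
    have hg₁Q : img R' (autFun (κ : MulAut Q) ∘ g) = Q := by
      rw [← hg.img_comp, hgQ, img_autFun]
    obtain ⟨ψ, hψ, hψe⟩ := (isReceptive_iff.mp hrec).2 R' _ hg₁ hg₁Q
    have hMN : M ≤ nExt S R' (autFun (κ : MulAut Q) ∘ g) := by
      intro m hm
      have hmS : m ∈ S := preimageAlong_le _ hm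
      have hκm := hκX _ (⟨⟨m, hm⟩, rfl⟩ : τh ⟨m, hm⟩ ∈ τh.range)
      rw [hR₀, show τh ⟨m, hm⟩ = τ ⟨m, hm⟩ from rfl] at hκm
      obtain ⟨h, hh, -, hhe⟩ := mem_autInducedBy.mp hκm
      have : Finite R' := finite_of_le (preimageAlong_le _)
      refine ⟨hmS, ?_, h, hh, fun x hx => ?_⟩
      · rw [Subgroup.mem_normalizer_iff_map_conj_eq]
        exact (img_cj R' m).symm.trans
          ((isMor_cj F (preimageAlong_le _) hmS).img_eq_self (hMnorm m hm))
      · have hgx : g x ∈ Q := hgQ ▸ mem_img_of_mem g hx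
        have := hhe _ (autFun_mem (κ : MulAut Q) hgx)
        simp only [Subgroup.coe_mul, InvMemClass.coe_inv, Subgroup.coe_subtype] at this
        rw [autFun_mul _ _ (autFun_mem _ hgx), autFun_inv_left _ hgx, autFun_mul _ _ hgx,
          hτe ⟨m, hm⟩ x hx] at this
        exact this
    obtain ⟨k', hk', hk'e⟩ := factor_push hE hS₀ hN'S (hψ.restrict hMN)
    refine ⟨k', hk', fun y hy => ?_⟩
    obtain ⟨x, rfl⟩ := hlift y (hP''S hy)
    have hxR : (x : Ω) ∈ R' := mem_preimageAlong.mpr ⟨x.2, hy⟩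
    have hψm : ψ x ∈ S := hψ.mem (hMN (hMR hxR))
    rw [hk'e x hψm (le_nExt hf' hy), hge x (hg.mem hxR) hy]
    have h1 : ρ κ = 1 := hκ
    have h2 := hr κ ⟨g x, hg.mem hxR⟩ (hgQ ▸ mem_img_of_mem g hxR)
    rw [show r κ = ρ κ from rfl, h1, autFun_one (show θ ⟨g x, hg.mem hxR⟩ ∈ Q' from
      ⟨_, hgQ ▸ mem_img_of_mem g hxR, rfl⟩)] at h2
    refine Eq.trans ?_ h2.symm
    congr 1
    exact Subtype.ext (hψe x hxR)

/-- A surjective morphism exhibits the target as a factor system by the kernel. -/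
theorem factor_of_surjectiveMorphism (h : F.IsSurjectiveMorphism E θ) :
    ∃ K : Subgroup Ω, F.StronglyClosed K ∧ F.IsFactorSystem K θ E := by
  obtain ⟨⟨hval, hind⟩, hrange, hsurj⟩ := h
  have hker : ∀ s : S, θ s = 1 ↔ (s : Ω) ∈ θ.ker.map S.subtype := fun s =>
    ⟨fun h => ⟨s, h, rfl⟩, fun ⟨t, ht, e⟩ => (Subtype.ext e : t = s) ▸ ht⟩
  refine ⟨_, ⟨Subgroup.map_subtype_le _, fun R hR φ hφ x => ?_⟩, Subgroup.map_subtype_le _, hker,
    hrange, fun P' φ' => ⟨fun hφ' => ⟨(E.le_of_mem hφ').1, hsurj P' (E.le_of_mem hφ').1 φ' hφ'⟩, ?_⟩⟩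
  · obtain ⟨φ'', -, hP, hφS, hmem, he⟩ := hind R φ hφ
    refine ⟨⟨φ x, hφS x⟩, ?_, rfl⟩
    show θ ⟨φ x, hφS x⟩ = 1
    rw [← he x, ← φ''.map_one]
    exact congrArg φ'' (Subtype.ext ((hker _).mpr (hR x.2)))
  · rintro ⟨hP', φ, hφ, hR, hφS, hmem, he⟩
    obtain ⟨ψ', hψ', hR', hφS', hmem', he'⟩ := hind _ φ hφ
    have himg : imageAlong θ (preimageAlong θ P') = P' := by
      refine le_antisymm ?_ fun y hy => ?_
      · rintro _ ⟨x, hx, rfl⟩
        exact (mem_preimageAlong.mp hx).2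
      · obtain ⟨x, rfl⟩ : y ∈ θ.range := hrange.ge (hP' hy)
        exact ⟨x, mem_preimageAlong.mpr ⟨x.2, hy⟩, rfl⟩
    have : IsMor E P' (toFun ψ') := (isMor_of_mem hψ').restrict himg.ge
    refine this.mem_hom ?_
    rintro ⟨y, hy⟩
    obtain ⟨x, rfl⟩ : y ∈ θ.range := hrange.ge (hP' hy)
    have hx : (x : Ω) ∈ preimageAlong θ P' := mem_preimageAlong.mpr ⟨x.2, hy⟩
    rw [toFun_of_mem ψ' (hmem' ⟨x, hx⟩)]
    exact (he ⟨x, hx⟩).trans (he' ⟨x, hx⟩).symm

end CfsgLib.Fusion
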