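import Mathlib
import Cfsg.Agent.Lib.Fusion.Normal
import Cfsg.Agent.Lib.OddOrder.OmegaFixed

/-! Automorphisms of order prime to `p` of subgroups of a `p`-group. -/
set_option autoImplicit false

namespace CfsgLib.Fusion

open Cfsg Cfsg.FusionSystem

variable {Ω : Type*} [Group Ω] {R : Subgroup Ω} {p : ℕ} [hp : Fact p.Prime]

omit hp in
theorem autFun_map_one (β : MulAut R) : autFun β 1 = 1 := by
  rw [autFun_of_mem β R.one_mem]
  exact congrArg Subtype.val (_root_.map_one β)

omit hp in
theorem autFun_map_pow (β : MulAut R) {y : Ω} (hy : y ∈ R) (k : ℕ) :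
    autFun β (y ^ k) = autFun β y ^ k := by
  induction k with
  | zero => rw [pow_zero, pow_zero, autFun_map_one]
  | succ k ih => rw [pow_succ, pow_succ, autFun_map_mul β (R.pow_mem hy k) hy, ih]

theorem fix_of_diff_fixed (hR : IsPGroup p R) {β : MulAut R} (hβ : (orderOf β).Coprime p) {x : Ω}
    (hx : x ∈ R) (h : autFun β (x⁻¹ * autFun β x) = x⁻¹ * autFun β x) : autFun β x = x := by
  set y := x⁻¹ * autFun β x with hydef
  have hy : y ∈ R := R.mul_mem (R.inv_mem hx) (autFun_mem β hx)
  have hb : autFun β x = x * y := by rw [hydef, mul_inv_cancel_left]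
  have hpow : ∀ m : ℕ, autFun (β ^ m) x = x * y ^ m := by
    intro m
    induction m with
    | zero => rw [pow_zero, autFun_one hx, pow_zero, mul_one]
    | succ m ihm =>
      rw [pow_succ' β, autFun_mul _ _ hx, ihm, autFun_map_mul β hx (R.pow_mem hy m),
        autFun_map_pow β hy, h, hb, pow_succ' y, mul_assoc]
  have h1 := hpow (orderOf β)
  rw [pow_orderOf_eq_one, autFun_one hx] at h1
  have h2 : y ^ orderOf β = 1 := left_eq_mul.mp h1
  obtain ⟨k, hk⟩ := hR ⟨y, hy⟩
  have h4 : y = 1 := orderOf_eq_one_iff.mp (Nat.eq_one_of_dvd_coprimes (hβ.pow_right k)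
    (orderOf_dvd_of_pow_eq_one h2) (orderOf_dvd_of_pow_eq_one (congrArg Subtype.val hk)))
  rw [hb, h4, mul_one]

theorem isPGroup_of_coprime_trivial [Finite R] {K : Subgroup (MulAut R)}
    (h : ∀ β ∈ K, (orderOf β).Coprime p → β = 1) : IsPGroup p K := by
  have : Finite (MulAut R) := Finite.of_injective (fun β : MulAut R => (β : R → R))
    DFunLike.coe_injective
  rintro ⟨α, hα⟩
  obtain ⟨a, c, hc, hn⟩ := Nat.exists_eq_pow_mul_and_not_dvd (orderOf_pos α).ne' p hp.1.ne_one
  refine ⟨a, Subtype.ext (h _ (K.pow_mem hα _) ?_)⟩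
  show (orderOf (α ^ p ^ a)).Coprime p
  rw [orderOf_pow_of_dvd (pow_ne_zero a hp.1.ne_zero) (hn ▸ dvd_mul_right _ _), hn,
    Nat.mul_div_cancel_left _ (pow_pos hp.1.pos a)]
  exact (Nat.Coprime.symm ((hp.1.coprime_iff_not_dvd).mpr hc))

theorem fix_of_fix_order_p [Finite R] (hp2 : p ≠ 2) {β : MulAut R} (hβ : (orderOf β).Coprime p)
    {T : Subgroup Ω} (hTR : T ≤ R) (hT : IsPGroup p T) (hinv : ∀ x ∈ T, autFun β x ∈ T)
    (h : ∀ x ∈ T, x ^ p = 1 → autFun β x = x) : ∀ x ∈ T, autFun β x = x := by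
  have : Finite (MulAut R) := Finite.of_injective (fun β : MulAut R => (β : R → R))
    DFunLike.coe_injective
  have : Finite T := Finite.of_injective _ (Subgroup.inclusion_injective hTR)
  let φ : Subgroup.zpowers β →* MulAut R := (Subgroup.zpowers β).subtype
  have : Finite (R ⋊[φ] Subgroup.zpowers β) := Finite.of_equiv _ SemidirectProduct.equivProd.symm
  let T' : Subgroup (R ⋊[φ] Subgroup.zpowers β) := (T.subgroupOf R).map SemidirectProduct.inl
  let b : R ⋊[φ] Subgroup.zpowers β := SemidirectProduct.inr ⟨β, Subgroup.mem_zpowers β⟩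
  have hbconj : ∀ r : R, b * SemidirectProduct.inl r * b⁻¹ = SemidirectProduct.inl (β r) :=
    fun r => by
      rw [show b = SemidirectProduct.inr ⟨β, Subgroup.mem_zpowers β⟩ from rfl, ← map_inv,
        ← SemidirectProduct.inl_aut]
      rfl
  have hbn : b ∈ Subgroup.normalizer (T' : Set (R ⋊[φ] Subgroup.zpowers β)) := by
    rw [Subgroup.mem_normalizer_iff_map_conj_eq]
    refine Subgroup.eq_of_le_of_card_ge ?_
      (Nat.card_congr (T'.equivMapOfInjective _ (MulAut.conj b).injective).toEquiv).le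
    rintro _ ⟨_, ⟨r, hr, rfl⟩, rfl⟩
    refine ⟨β r, ?_, (hbconj r).symm⟩
    have := hinv r hr
    rw [autFun_coe] at this
    exact this
  have hQ : (Nat.card (Subgroup.zpowers b)).Coprime p := by
    rw [Nat.card_zpowers, orderOf_injective _ SemidirectProduct.inr_injective]
    exact (Subgroup.orderOf_coe (⟨β, Subgroup.mem_zpowers β⟩ : Subgroup.zpowers β)).symm ▸ hβ
  have hcen := CfsgLib.OddOrder.le_centralizer_of_fix_order_prime hp2 T' (Subgroup.zpowers b)
    ((hT.comap_of_injective R.subtype R.subtype_injective).map _) hQ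
    (Subgroup.zpowers_le.mpr hbn) (by
      rintro _ ⟨r, hr, rfl⟩ hxp q ⟨m, rfl⟩
      refine Commute.zpow_left ?_ m
      have hr1 : r ^ p = 1 := SemidirectProduct.inl_injective (by simpa using hxp)
      have := h r hr (by simpa using congrArg Subtype.val hr1)
      rw [autFun_coe] at this
      have h1 := hbconj r
      rw [Subtype.ext this] at h1
      exact mul_inv_eq_iff_eq_mul.mp h1)
  intro x hx
  have hm : SemidirectProduct.inl (⟨x, hTR hx⟩ : R) ∈ T' := Subgroup.mem_map_of_mem _ hx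
  have h1 := hbconj ⟨x, hTR hx⟩
  rw [mul_inv_eq_iff_eq_mul.mpr ((Subgroup.mem_centralizer_iff.mp
    (hcen (Subgroup.mem_zpowers b)) _ hm).symm)] at h1
  have := congrArg Subtype.val (SemidirectProduct.inl_injective h1)
  rw [autFun_of_mem β (hTR hx)]
  exact this.symm

end CfsgLib.Fusion
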