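import Mathlib
import Cfsg.Agent.Lib.Fusion.Normal
import Cfsg.Agent.Lib.Fusion.Centric
import Cfsg.Agent.Lib.Fusion.Group
import Cfsg.Agent.Lib.Fusion.FactorExists
import Cfsg.Agent.Lib.Fusion.FactorSaturated
import Cfsg.Agent.Lib.Base.Cores

/-! Properties of realizing groups and models. -/
set_option autoImplicit false

namespace CfsgLib.Fusion

open Cfsg Cfsg.FusionSystem

variable {Ω : Type*} [Group Ω] {S : Subgroup Ω} {F : FusionSystem S} {p : ℕ}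
  {G : Type*} [Group G] {ι : S →* G}

/-- `g` induces `f` on `P` through `ι`. -/
def Induces (ι : S →* G) (P : Subgroup Ω) (f : Ω → Ω) (g : G) : Prop :=
  ∀ a b : S, (a : Ω) ∈ P → (b : Ω) = f a → ι b = g * ι a * g⁻¹

theorem exists_induces (h : F.IsRealizedBy ι) {P : Subgroup Ω} {f : Ω → Ω} (hf : IsMor F P f) :
    ∃ g, Induces ι P f g := by
  obtain ⟨φ, hφ, e⟩ := hf
  obtain ⟨hP, hφS⟩ := F.le_of_mem hφ
  obtain ⟨g, hg⟩ := (h.2 P hP φ hφS).mp hφ
  refine ⟨g, fun a b ha hb => ?_⟩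
  have h1 := hg ⟨(a : Ω), ha⟩
  rwa [show (⟨φ ⟨(a : Ω), ha⟩, hφS _⟩ : S) = b from
    Subtype.ext ((e ⟨(a : Ω), ha⟩).trans hb.symm)] at h1

theorem isMor_of_induces (h : F.IsRealizedBy ι) {P : Subgroup Ω} (hP : P ≤ S) {f : Ω → Ω}
    (hfS : ∀ x ∈ P, f x ∈ S) {g : G} (hg : Induces ι P f g) : IsMor F P f := by
  have hval : ∀ (x : P), ι ⟨f x, hfS x x.2⟩ = g * ι ⟨x, hP x.2⟩ * g⁻¹ := fun x =>
    hg _ _ x.2 rfl
  let φ : P →* Ω := MonoidHom.mk' (fun x => f x) fun x y => by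
    have h1 : (⟨f (x * y : P), hfS _ (x * y).2⟩ : S) = ⟨f x, hfS x x.2⟩ * ⟨f y, hfS y y.2⟩ := by
      refine h.1 ?_
      rw [map_mul, hval, hval, hval,
        show (⟨((x * y : P) : Ω), hP (x * y).2⟩ : S) = ⟨x, hP x.2⟩ * ⟨y, hP y.2⟩ from rfl, map_mul]
      simp [mul_assoc]
    exact congrArg Subtype.val h1
  exact ⟨φ, (h.2 P hP φ fun x => hfS x x.2).mpr ⟨g, hval⟩, fun _ => rfl⟩

/-- Conjugation by `g`, read through `ι`. -/
noncomputable def pullConj (ι : S →* G) (g : G) : Ω → Ω :=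
  open Classical in fun x =>
    if h : ∃ b : S, ∃ hx : x ∈ S, ι b = g * ι ⟨x, hx⟩ * g⁻¹ then (h.choose : Ω) else 1

theorem pullConj_spec (ι : S →* G) {g : G} {a : S} (h : g * ι a * g⁻¹ ∈ ι.range) :
    ∃ b : S, (b : Ω) = pullConj ι g a ∧ ι b = g * ι a * g⁻¹ := by
  classical
  obtain ⟨b, hb⟩ := h
  have hex : ∃ c : S, ∃ hx : (a : Ω) ∈ S, ι c = g * ι ⟨a, hx⟩ * g⁻¹ := ⟨b, a.2, hb⟩
  refine ⟨hex.choose, ?_, ?_⟩
  · rw [pullConj, dif_pos hex]
  · obtain ⟨_, hc⟩ := hex.choose_spec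
    exact hc

theorem isMor_pullConj (h : F.IsRealizedBy ι) {P : Subgroup Ω} (hP : P ≤ S) {g : G}
    (hg : ∀ a : S, (a : Ω) ∈ P → g * ι a * g⁻¹ ∈ ι.range) :
    IsMor F P (pullConj ι g) ∧ Induces ι P (pullConj ι g) g := by
  have hind : Induces ι P (pullConj ι g) g := fun a b ha hb => by
    obtain ⟨c, hc, hce⟩ := pullConj_spec ι (hg a ha)
    rw [show b = c from Subtype.ext (hb.trans hc.symm), hce]
  refine ⟨isMor_of_induces h hP (fun x hx => ?_) hind, hind⟩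
  obtain ⟨c, hc, -⟩ := pullConj_spec ι (hg ⟨x, hP hx⟩ hx)
  exact hc ▸ c.2

theorem realized_isSaturated [Finite S] [hp : Fact p.Prime] [Finite G] (h : F.IsRealizedBy ι)
    (T : Sylow p G) (hT : (T : Subgroup G) = ι.range) : F.IsSaturated p := by
  let e : S ≃* ι.range := MonoidHom.ofInjective h.1
  let θ : (T : Subgroup G) →* Ω :=
    (S.subtype.comp e.symm.toMonoidHom).comp (Subgroup.inclusion hT.le)
  have hι : ∀ t : (T : Subgroup G), ι (e.symm (Subgroup.inclusion hT.le t)) = t := fun t => by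
    have := congrArg Subtype.val (e.apply_symm_apply (Subgroup.inclusion hT.le t))
    exact this
  have hθ : ∀ s : S, θ ⟨ι s, hT.ge ⟨s, rfl⟩⟩ = s := fun s => by
    refine congrArg Subtype.val (h.1 ?_ : e.symm _ = s)
    exact hι ⟨ι s, hT.ge ⟨s, rfl⟩⟩
  have hθS : ∀ t, θ t ∈ S := fun t => (e.symm _).2
  have hθinj : Function.Injective θ := fun a b hab =>
    Subtype.ext (by rw [← hι a, ← hι b]; exact congrArg ι (Subtype.ext hab))
  have hsc : (groupFusionSystem (T : Subgroup G)).StronglyClosed ⊥ :=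
    stronglyClosed_iff.mpr ⟨bot_le, fun P f hf x _ hx => by
      rw [Subgroup.mem_bot] at hx ⊢
      rw [hx]
      exact hf.map_one⟩
  refine factor_isSaturated (θ := θ) T.2 (groupFusion_isSaturated T) hsc
    ⟨bot_le, fun t => ?_, ?_, fun P' φ' => ⟨fun hφ => ?_, ?_⟩⟩
  · rw [Subgroup.mem_bot]
    exact ⟨fun e' => congrArg Subtype.val (hθinj (e'.trans θ.map_one.symm)),
      fun e' => by rw [show t = 1 from Subtype.ext e', map_one]⟩
  · exact le_antisymm (by rintro _ ⟨t, rfl⟩; exact hθS t) fun s hs => ⟨_, hθ ⟨s, hs⟩⟩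
  · obtain ⟨hP', hφS⟩ := F.le_of_mem hφ
    obtain ⟨g, hg⟩ := (h.2 P' hP' φ' hφS).mp hφ
    refine ⟨hP', ?_⟩
    set R := preimageAlong θ P'
    have hR : ∀ x (hx : x ∈ R), θ ⟨x, preimageAlong_le _ hx⟩ ∈ P' := fun x hx =>
      (mem_preimageAlong.mp hx).2
    have hval : ∀ x (hx : x ∈ R), g * x * g⁻¹ = ι ⟨φ' ⟨_, hR x hx⟩, hφS _⟩ := fun x hx => by
      rw [hg ⟨_, hR x hx⟩]
      congr 2
      exact (hι ⟨x, preimageAlong_le _ hx⟩).symm
    have hm : IsMor (groupFusionSystem (T : Subgroup G)) R (cj g) :=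
      isMor_group.mpr ⟨preimageAlong_le _, fun x hx => by
        show g * x * g⁻¹ ∈ _
        rw [hval x hx]; exact hT.ge ⟨_, rfl⟩, g, fun _ _ => rfl⟩
    obtain ⟨ψ, hψ, hψe⟩ := hm
    refine ⟨ψ, hψ, preimageAlong_le _,
      fun x => ((groupFusionSystem (T : Subgroup G)).le_of_mem hψ).2 x,
      fun x => hR x x.2, fun x => ?_⟩
    have hmT : ι ⟨φ' ⟨_, hR x x.2⟩, hφS _⟩ ∈ (T : Subgroup G) := hT.ge ⟨_, rfl⟩
    refine (hθ ⟨φ' ⟨_, hR x x.2⟩, hφS _⟩).symm.trans ?_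
    congr 1
    exact Subtype.ext ((hψe x).trans (hval x x.2)).symm
  · rintro ⟨hP', ψ, hψ, hR, hψS, hmem, hind⟩
    obtain ⟨-, -, g, hg⟩ := isMor_group.mp (isMor_of_mem hψ)
    have hpre : ∀ x : P', ∃ hm : ι ⟨x, hP' x.2⟩ ∈ preimageAlong θ P',
        φ' x = θ ⟨ψ ⟨_, hm⟩, hψS _⟩ := fun x => by
      have hm : ι ⟨x, hP' x.2⟩ ∈ preimageAlong θ P' :=
        mem_preimageAlong.mpr ⟨hT.ge ⟨_, rfl⟩, by rw [hθ]; exact x.2⟩
      refine ⟨hm, ?_⟩
      rw [← hind ⟨_, hm⟩]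
      congr 1
      exact Subtype.ext (hθ ⟨x, hP' x.2⟩).symm
    have hφS : ∀ x, φ' x ∈ S := fun x => by
      obtain ⟨hm, e'⟩ := hpre x
      exact e' ▸ hθS _
    refine (h.2 P' hP' φ' hφS).mpr ⟨g, fun x => ?_⟩
    obtain ⟨hm, e'⟩ := hpre x
    have h2 : ι ⟨φ' x, hφS x⟩ = ψ ⟨_, hm⟩ := by
      rw [show (⟨φ' x, hφS x⟩ : S) = e.symm (Subgroup.inclusion hT.le ⟨ψ ⟨_, hm⟩, hψS _⟩) from
        Subtype.ext e']
      exact hι _
    rw [h2, ← toFun_coe ψ ⟨_, hm⟩]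
    exact hg _ hm

/-- The subgroup of `S` corresponding to a normal subgroup is normal in the system. -/
theorem isNormal_comap [Finite S] (h : F.IsRealizedBy ι) {N : Subgroup G} [N.Normal]
    (hN : N ≤ ι.range) : F.IsNormal ((N.comap ι).map S.subtype) := by
  set Q := (N.comap ι).map S.subtype with hQ
  have hQS : Q ≤ S := Subgroup.map_subtype_le _
  refine isNormal_iff.mpr ⟨hQS, fun P f hf => ?_⟩
  obtain ⟨g, hg⟩ := exists_induces h hf
  have hgood : ∀ a : S, (a : Ω) ∈ P ⊔ Q → g * ι a * g⁻¹ ∈ ι.range := by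
    intro a ha
    have hsup : (P.subgroupOf S) ⊔ (Q.subgroupOf S) ≤
        ι.range.comap ((MulAut.conj g).toMonoidHom.comp ι) := by
      refine sup_le (fun x hx => ?_) fun x hx => ?_
      · refine ⟨⟨f x, hf.mem hx⟩, ?_⟩
        exact hg x _ hx rfl
      · obtain ⟨y, hy, e⟩ := hx
        rw [← show y = x from Subtype.ext e]
        exact hN ((inferInstance : N.Normal).conj_mem (ι y) hy g)
    refine hsup ?_
    rw [← Subgroup.subgroupOf_sup hf.le hQS]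
    exact ha
  obtain ⟨hk, hki⟩ := isMor_pullConj h (sup_le hf.le hQS) hgood
  refine ⟨_, hk, fun x hx => ?_, ?_⟩
  · obtain ⟨b, hb, hbe⟩ := pullConj_spec ι (hgood ⟨x, hf.le hx⟩ (Subgroup.mem_sup_left hx))
    rw [← hb]
    exact congrArg Subtype.val (h.1 (hbe.trans (hg ⟨x, hf.le hx⟩ ⟨f x, hf.mem hx⟩ hx rfl).symm))
  · refine (hk.restrict le_sup_right).img_eq_self fun x hx => ?_
    obtain ⟨b, hb, hbe⟩ := pullConj_spec ι (hgood ⟨x, hQS hx⟩ (Subgroup.mem_sup_right hx))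
    obtain ⟨y, hy, e⟩ := hx
    refine ⟨b, ?_, hb⟩
    show ι b ∈ N
    rw [hbe, show (⟨x, hQS ⟨y, hy, e⟩⟩ : S) = y from Subtype.ext e.symm]
    exact (inferInstance : N.Normal).conj_mem (ι y) hy g

theorem model_pCore_le_range [hp : Fact p.Prime] (h : F.IsModel p G ι) : pCore p G ≤ ι.range := by
  obtain ⟨T, hT⟩ := h.2.2.1
  exact hT ▸ CfsgLib.Base.pCore_le_sylow T

/-- The subgroup of `S` corresponding to `O_p(G)` is normal and centric. -/
theorem isNormal_centric_pCore [Finite S] [hp : Fact p.Prime] (h : F.IsModel p G ι) :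
    F.IsNormal (((pCore p G).comap ι).map S.subtype) ∧
      F.IsCentric (((pCore p G).comap ι).map S.subtype) := by
  have := h.1
  have hn := isNormal_comap (N := pCore p G) h.2.1 (model_pCore_le_range h)
  refine ⟨hn, hn.1, fun Q hQ => ?_⟩
  obtain ⟨f, hf, rfl⟩ := isConj_iff.mp hQ
  rw [hf.img_eq_self fun x hx =>
    (stronglyClosed_iff.mp (isNormal_stronglyClosed hn)).2 _ f hf x hx hx]
  intro x hx
  obtain ⟨hxS, hxc⟩ := mem_centralizerIn.mp hx
  refine ⟨⟨x, hxS⟩, h.2.2.2 (Subgroup.mem_centralizer_iff.mpr fun y hy => ?_), rfl⟩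
  obtain ⟨b, rfl⟩ := (model_pCore_le_range h) hy
  rw [← map_mul, ← map_mul]
  refine congrArg ι (Subtype.ext ?_)
  exact (cj_fixed_iff.mp (hxc b ⟨b, hy, rfl⟩)).symm

theorem model_isConstrained [Finite S] [hp : Fact p.Prime] (h : F.IsModel p G ι) :
    F.IsConstrained p := by
  have := h.1
  obtain ⟨T, hT⟩ := h.2.2.1
  exact ⟨realized_isSaturated h.2.1 T hT, _, (isNormal_centric_pCore h).1, (isNormal_centric_pCore h).2⟩

/-- Normal centric subgroups of the system are normal in a model. -/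
theorem model_normal_of_isNormal [Finite S] [hp : Fact p.Prime] (h : F.IsModel p G ι)
    {Q : Subgroup Ω} (hQ : F.IsNormal Q) {g : G} {a : S} (ha : (a : Ω) ∈ Q) :
    ∃ b : S, (b : Ω) ∈ Q ∧ ι b = g * ι a * g⁻¹ := by
  have := h.1
  set R := ((pCore p G).comap ι).map S.subtype with hR
  have hgR : ∀ c : S, (c : Ω) ∈ R → g * ι c * g⁻¹ ∈ ι.range := fun c ⟨y, hy, e⟩ => by
    rw [show c = y from Subtype.ext e.symm]
    exact (model_pCore_le_range h) ((inferInstance : (pCore p G).Normal).conj_mem (ι y) hy g)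
  obtain ⟨hf, hfi⟩ := isMor_pullConj h.2.1 (Subgroup.map_subtype_le _) hgR
  obtain ⟨k, hk, hkf, hkQ⟩ := (isNormal_iff.mp hQ).2 R _ hf
  obtain ⟨t, ht⟩ := exists_induces h.2.1 hk
  have hc : g⁻¹ * t ∈ Subgroup.centralizer ((pCore p G : Subgroup G) : Set G) := by
    refine Subgroup.mem_centralizer_iff.mpr fun y hy => ?_
    obtain ⟨c, rfl⟩ := (model_pCore_le_range h) hy
    have hcR : (c : Ω) ∈ R := ⟨c, hy, rfl⟩
    have h1 := ht c ⟨k c, hk.mem (Subgroup.mem_sup_left hcR)⟩ (Subgroup.mem_sup_left hcR) rfl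
    have h2 := hfi c ⟨k c, hk.mem (Subgroup.mem_sup_left hcR)⟩ hcR (hkf _ hcR)
    rw [h1] at h2
    calc ι c * (g⁻¹ * t) = g⁻¹ * (g * ι c * g⁻¹) * t := by group
      _ = g⁻¹ * t * ι c := by rw [← h2]; group
  obtain ⟨u, hu⟩ := (model_pCore_le_range h) (h.2.2.2 hc)
  obtain ⟨hQS, -⟩ := id hQ
  -- replace `a` by its conjugate under `u⁻¹`
  have huQ : ((u⁻¹ * a * u : S) : Ω) ∈ Q := by
    have := (stronglyClosed_iff.mp (isNormal_stronglyClosed hQ)).2 S _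
      (isMor_cj F le_rfl (S.inv_mem u.2)) (a : Ω) a.2 ha
    simpa [cj] using this
  refine ⟨⟨_, hk.mem (Subgroup.mem_sup_right huQ)⟩, hkQ.le (mem_img_of_mem k huQ), ?_⟩
  rw [ht _ _ (Subgroup.mem_sup_right huQ) rfl, map_mul, map_mul, map_inv, hu]
  group

/-- The centralizer in a model of a normal centric subgroup is its centre. -/
theorem model_centralizer [Finite S] [hp : Fact p.Prime] (h : F.IsModel p G ι) {Q : Subgroup Ω}
    (hQ : F.IsNormal Q) (hQc : F.IsCentric Q) {g : G}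
    (hg : ∀ a : S, (a : Ω) ∈ Q → g * ι a * g⁻¹ = ι a) :
    ∃ z : S, ι z = g ∧ (z : Ω) ∈ Q ∧ ∀ a : S, (a : Ω) ∈ Q → z * a = a * z := by
  have := h.1
  obtain ⟨T, hT⟩ := h.2.2.1
  let C : Subgroup G := Subgroup.centralizer ((Q.subgroupOf S).map ι : Set G)
  have hmemC : ∀ x, x ∈ C ↔ ∀ a : S, (a : Ω) ∈ Q → x * ι a * x⁻¹ = ι a := fun x => by
    rw [Subgroup.mem_centralizer_iff]
    constructor
    · intro hx a ha
      rw [mul_inv_eq_iff_eq_mul]
      exact (hx _ ⟨a, ha, rfl⟩).symm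
    · rintro hx _ ⟨a, ha, rfl⟩
      exact (mul_inv_eq_iff_eq_mul.mp (hx a ha)).symm
  have hCn : C.Normal := ⟨fun x hx t => (hmemC _).mpr fun a ha => by
    obtain ⟨b, hb, hbe⟩ := model_normal_of_isNormal h hQ (g := t⁻¹) ha
    have h1 := (hmemC x).mp hx b hb
    rw [hbe] at h1
    calc t * x * t⁻¹ * ι a * (t * x * t⁻¹)⁻¹
        = t * (x * (t⁻¹ * ι a * t⁻¹⁻¹) * x⁻¹) * t⁻¹ := by group
      _ = ι a := by rw [h1]; group⟩
  have hCT : ∀ z : S, ι z ∈ C → (z : Ω) ∈ Q ∧ ∀ a : S, (a : Ω) ∈ Q → z * a = a * z := by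
    intro z hz
    have hc : ∀ a : S, (a : Ω) ∈ Q → z * a * z⁻¹ = a := fun a ha => h.2.1.1 (by
      rw [map_mul, map_mul, map_inv]; exact (hmemC _).mp hz a ha)
    refine ⟨hQc.2 Q (isConj_refl F hQc.1) (mem_centralizerIn.mpr ⟨z.2, fun y hy => ?_⟩),
      fun a ha => mul_inv_eq_iff_eq_mul.mp (hc a ha)⟩
    exact congrArg Subtype.val (hc ⟨y, hQc.1 hy⟩ hy)
  have hcop : ∀ x ∈ C, (orderOf x).Coprime p → x = 1 := by
    intro x hx hxc
    have hxR : x ∈ Subgroup.centralizer ((pCore p G : Subgroup G) : Set G) := by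
      refine Subgroup.mem_centralizer_iff.mpr fun r hr => ?_
      have hd1 : r⁻¹ * (x * r * x⁻¹) ∈ C := by
        have := C.mul_mem (hCn.conj_mem x hx r⁻¹) (C.inv_mem hx)
        simpa [mul_assoc] using this
      have hd2 : r⁻¹ * (x * r * x⁻¹) ∈ pCore p G :=
        mul_mem (inv_mem hr) (Subgroup.Normal.conj_mem inferInstance _ hr x)
      set d := r⁻¹ * (x * r * x⁻¹) with hd
      obtain ⟨z, hz⟩ := (model_pCore_le_range h) hd2
      obtain ⟨hzQ, -⟩ := hCT z (hz ▸ hd1)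
      have hxd : x * d * x⁻¹ = d := by rw [← hz]; exact (hmemC x).mp hx z hzQ
      have hit : ∀ n : ℕ, x ^ n * r * (x ^ n)⁻¹ = r * d ^ n := by
        intro n
        induction n with
        | zero => simp
        | succ n ih =>
          calc x ^ (n + 1) * r * (x ^ (n + 1))⁻¹ = x * (x ^ n * r * (x ^ n)⁻¹) * x⁻¹ := by
                rw [pow_succ']; group
            _ = (x * r * x⁻¹) * (x * d * x⁻¹) ^ n := by rw [ih, conj_pow]; group
            _ = r * d ^ (n + 1) := by rw [hxd, pow_succ', ← mul_assoc, hd]; group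
      have h1 := hit (orderOf x)
      rw [pow_orderOf_eq_one, one_mul, inv_one, mul_one, left_eq_mul] at h1
      obtain ⟨k, hk⟩ := (CfsgLib.Base.isPGroup_pCore p G) ⟨d, hd2⟩
      have hk' : d ^ p ^ k = 1 := congrArg Subtype.val hk
      have h2 := pow_gcd_eq_one.mpr ⟨h1, hk'⟩
      rw [Nat.Coprime.pow_right k hxc, pow_one] at h2
      rw [hd, inv_mul_eq_one] at h2
      calc r * x = x * r * x⁻¹ * x := by rw [← h2]
        _ = x * r := inv_mul_cancel_right _ _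
    obtain ⟨k, hk⟩ := (CfsgLib.Base.isPGroup_pCore p G) ⟨x, h.2.2.2 hxR⟩
    have hk' : x ^ p ^ k = 1 := congrArg Subtype.val hk
    have h2 := pow_gcd_eq_one.mpr ⟨pow_orderOf_eq_one x, hk'⟩
    rwa [Nat.Coprime.pow_right k hxc, pow_one] at h2
  have hCp : IsPGroup p C := by
    rintro ⟨x, hx⟩
    obtain ⟨a, c, hc, hn⟩ :=
      Nat.exists_eq_pow_mul_and_not_dvd (orderOf_pos x).ne' p hp.out.ne_one
    refine ⟨a, Subtype.ext ?_⟩
    show x ^ p ^ a = 1
    refine hcop _ (pow_mem hx _) (Nat.Coprime.coprime_dvd_left ?_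
      (Nat.Coprime.symm ((hp.out.coprime_iff_not_dvd).mpr hc)))
    refine orderOf_dvd_of_pow_eq_one ?_
    rw [← pow_mul, ← hn, pow_orderOf_eq_one]
  have hgC : g ∈ C := (hmemC g).mpr hg
  obtain ⟨z, hz⟩ := hT.le (CfsgLib.Base.pCore_le_sylow T (CfsgLib.Base.le_pCore (hN := hCn) hCp hgC))
  exact ⟨z, hz, hCT z (hz ▸ hgC)⟩

end CfsgLib.Fusion
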