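import Mathlib
import Cfsg.Agent.Lib.Fusion.ModelProps

/-! Rigidity and uniqueness of models. -/
set_option autoImplicit false

namespace CfsgLib.Fusion

open Cfsg Cfsg.FusionSystem
open scoped IsMulCommutative

variable {Ω : Type*} [Group Ω] {S : Subgroup Ω} [Finite S] {F : FusionSystem S} {p : ℕ}
  [hp : Fact p.Prime]

theorem isMulCommutative_centralizer_pCore {G : Type*} [Group G]
    (h : Subgroup.centralizer ((pCore p G : Subgroup G) : Set G) ≤ pCore p G) :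
    IsMulCommutative (Subgroup.centralizer ((pCore p G : Subgroup G) : Set G)) :=
  ⟨⟨fun a b => Subtype.ext ((Subgroup.mem_centralizer_iff.mp a.2 b (h b.2)).symm)⟩⟩

/-- Model theorem, rigidity. -/
theorem model_rigid {G : Type*} [Group G] {ι : S →* G} (hS : IsPGroup p S)
    (hG : F.IsModel p G ι) (ψ : G ≃* G) (hψ : ∀ x : S, ψ (ι x) = ι x) :
    ∃ z : S, z ∈ Subgroup.center S ∧ ∀ g : G, ψ g = ι z * g * (ι z)⁻¹ := by
  classical
  have := hG.1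
  obtain ⟨T, hT⟩ := hG.2.2.1
  set R := pCore p G with hR
  set Z := Subgroup.centralizer ((R : Subgroup G) : Set G) with hZ
  have := isMulCommutative_centralizer_pCore hG.2.2.2
  have hRT : R ≤ ι.range := model_pCore_le_range hG
  have hfixR : ∀ r ∈ R, ψ r = r := fun r hr => by
    obtain ⟨x, rfl⟩ := hRT hr
    exact hψ x
  have hRn : R.Normal := by rw [hR]; infer_instance
  have hc : ∀ g, ψ g * g⁻¹ ∈ Z := by
    intro g
    refine Subgroup.mem_centralizer_iff.mpr fun r hr => ?_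
    have h1 := hfixR _ (hRn.conj_mem r hr g⁻¹)
    simp only [map_mul, map_inv, hfixR r hr] at h1
    calc r * (ψ g * g⁻¹) = ψ g * ((ψ g)⁻¹ * r * (ψ g)⁻¹⁻¹) * g⁻¹ := by group
      _ = ψ g * g⁻¹ * r := by rw [h1]; group
  let T' : Subgroup G := ι.range
  let c : G → Z := fun g => ⟨_, hc g⟩
  have hcT : ∀ g, ∀ s ∈ T', c (g * s) = c g := fun g s hs => by
    obtain ⟨x, rfl⟩ := hs
    refine Subtype.ext ?_
    show ψ (g * ι x) * (g * ι x)⁻¹ = ψ g * g⁻¹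
    rw [map_mul, hψ]
    group
  have hcn : ∀ g, ∀ z : Z, g * (z : G) * g⁻¹ ∈ Z := fun g z => by
    refine Subgroup.mem_centralizer_iff.mpr fun r hr => ?_
    have h1 := Subgroup.mem_centralizer_iff.mp z.2 _ (hRn.conj_mem r hr g⁻¹)
    calc r * (g * (z : G) * g⁻¹) = g * ((g⁻¹ * r * g⁻¹⁻¹) * z) * g⁻¹ := by group
      _ = g * (z : G) * g⁻¹ * r := by rw [h1]; group
  let act : G → Z →* Z := fun g => MonoidHom.mk' (fun z => ⟨_, hcn g z⟩) fun a b =>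
    Subtype.ext (by simp [mul_assoc])
  have hcm : ∀ g h, c (g * h) = c g * act g (c h) := fun g h => Subtype.ext (by
    show ψ (g * h) * (g * h)⁻¹ = ψ g * g⁻¹ * (g * (ψ h * h⁻¹) * g⁻¹)
    rw [map_mul]
    group)
  have := Fintype.ofFinite (G ⧸ T')
  let a : Z := ∏ ω : G ⧸ T', c ω.out
  set n := Fintype.card (G ⧸ T') with hn
  have hrel : ∀ g, a = c g ^ n * act g a := by
    intro g
    have h1 : ∀ ω : G ⧸ T', c (g • ω).out = c g * act g (c ω.out) := by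
      intro ω
      rw [← hcm]
      obtain ⟨s, hs⟩ := QuotientGroup.mk_out_eq_mul T' (g * ω.out)
      rw [show g • ω = ((g * ω.out : G) : G ⧸ T') by
        conv_lhs => rw [← QuotientGroup.out_eq' ω]
        rfl, hs]
      exact hcT _ _ s.2
    calc a = ∏ ω : G ⧸ T', c (g • ω).out :=
          (Equiv.prod_comp (MulAction.toPerm g) (fun ω : G ⧸ T' => c ω.out)).symm
      _ = _ := by
          simp only [h1, Finset.prod_mul_distrib, Finset.prod_const, Finset.card_univ, map_prod, a, n]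
  have hnp : ¬ p ∣ n := by
    rw [hn, ← Nat.card_eq_fintype_card]
    show ¬ p ∣ T'.index
    rw [show T' = (T : Subgroup G) from hT.symm]
    exact T.not_dvd_index
  have hZp : IsPGroup p Z :=
    (CfsgLib.Base.isPGroup_pCore p G).of_injective _ (Subgroup.inclusion_injective hG.2.2.2)
  obtain ⟨k, hk⟩ := IsPGroup.iff_card.mp hZp
  have hco : (Nat.card Z).Coprime n := by
    rw [hk]
    exact Nat.Coprime.pow_left _ (hp.out.coprime_iff_not_dvd.mpr hnp)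
  obtain ⟨z, hz⟩ := (powCoprime hco).surjective a
  change z ^ n = a at hz
  have hconj : ∀ g, ψ g = (z : G) * g * (z : G)⁻¹ := by
    intro g
    have h1 : c g = z * (act g z)⁻¹ := by
      refine (powCoprime hco).injective ?_
      show c g ^ n = (z * (act g z)⁻¹) ^ n
      rw [mul_pow, inv_pow, ← map_pow, hz, eq_mul_inv_iff_mul_eq]
      exact (hrel g).symm
    have h2 : ψ g * g⁻¹ = (z : G) * (g * (z : G) * g⁻¹)⁻¹ := congrArg Subtype.val h1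
    rw [mul_inv_eq_iff_eq_mul] at h2
    rw [h2]
    group
  obtain ⟨y, hy⟩ := hRT (hG.2.2.2 z.2)
  refine ⟨y, Subgroup.mem_center_iff.mpr fun x => hG.2.1.1 ?_, fun g => hy ▸ hconj g⟩
  have h := hconj (ι x)
  rw [hψ, ← hy, eq_mul_inv_iff_mul_eq] at h
  rw [map_mul, map_mul]
  exact h

/-- Model theorem, uniqueness. -/
theorem model_unique {G₁ G₂ : Type*} [Group G₁] [Group G₂] {ι₁ : S →* G₁} {ι₂ : S →* G₂}
    (hS : IsPGroup p S) (h₁ : F.IsModel p G₁ ι₁) (h₂ : F.IsModel p G₂ ι₂) :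
    ∃ φ : G₁ ≃* G₂, ∀ x : S, φ (ι₁ x) = ι₂ x := by
  classical
  have := h₁.1
  have := h₂.1
  obtain ⟨hQ, hQc⟩ := isNormal_centric_pCore h₁
  set Q := ((pCore p G₁).comap ι₁).map S.subtype with hQdef
  have hQS : Q ≤ S := hQ.1
  let Rel : G₁ → G₂ → Prop := fun g h => ∀ a : S, (a : Ω) ∈ Q →
    ∃ b : S, (b : Ω) ∈ Q ∧ ι₁ b = g * ι₁ a * g⁻¹ ∧ ι₂ b = h * ι₂ a * h⁻¹
  have hrel_mul : ∀ {g g' h h'}, Rel g h → Rel g' h' → Rel (g * g') (h * h') := by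
    intro g g' h h' r r' a ha
    obtain ⟨b, hb, e1, e2⟩ := r' a ha
    obtain ⟨c, hc, e3, e4⟩ := r b hb
    exact ⟨c, hc, by rw [e3, e1]; group, by rw [e4, e2]; group⟩
  have hrel_one : Rel 1 1 := fun a ha => ⟨a, ha, by simp, by simp⟩
  have hrel_inv : ∀ {g h}, Rel g h → Rel g⁻¹ h⁻¹ := by
    intro g h r a ha
    obtain ⟨b, hb, hbe⟩ := model_normal_of_isNormal h₁ hQ (g := g⁻¹) ha
    obtain ⟨a', ha', e1, e2⟩ := r b hb
    have : a' = a := h₁.2.1.1 (by rw [e1, hbe]; group)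
    subst this
    exact ⟨b, hb, hbe, by rw [e2]; group⟩
  have hrel_T : ∀ s : S, Rel (ι₁ s) (ι₂ s) := fun s a ha => by
    refine ⟨s * a * s⁻¹, ?_, by simp, by simp⟩
    exact (stronglyClosed_iff.mp (isNormal_stronglyClosed hQ)).2 S _
      (isMor_cj F le_rfl s.2) (a : Ω) a.2 ha
  let T₁ : Subgroup G₁ := ι₁.range
  -- exact lift of an element on the intersection `T ∩ r T r⁻¹`
  let InU : G₁ → S → Prop := fun r u => r⁻¹ * ι₁ u * r ∈ T₁
  have hlift : ∀ r : G₁, ∃ r' : G₂, Rel r r' ∧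
      ∀ u v : S, ι₁ v = r⁻¹ * ι₁ u * r → r' * ι₂ v * r'⁻¹ = ι₂ u := by
    intro r
    let U : Subgroup Ω :=
      (T₁.comap ((MulAut.conj r⁻¹).toMonoidHom.comp ι₁)).map S.subtype
    have hU : ∀ a : S, (a : Ω) ∈ U → r⁻¹ * ι₁ a * (r⁻¹)⁻¹ ∈ ι₁.range := fun a ⟨y, hy, e⟩ => by
      rw [show a = y from Subtype.ext e.symm]
      exact hy
    have hmemU : ∀ a : S, r⁻¹ * ι₁ a * (r⁻¹)⁻¹ ∈ ι₁.range → (a : Ω) ∈ U := fun a ha => ⟨a, ha, rfl⟩
    obtain ⟨hf, hfi⟩ := isMor_pullConj h₁.2.1 (Subgroup.map_subtype_le _) hU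
    obtain ⟨h, hh⟩ := exists_induces h₂.2.1 hf
    have key : ∀ u v : S, ι₁ v = r⁻¹ * ι₁ u * r → h⁻¹ * ι₂ v * h⁻¹⁻¹ = ι₂ u := by
      intro u v hv
      have hm : (u : Ω) ∈ U := hmemU u ⟨v, by rw [hv, inv_inv]⟩
      obtain ⟨b, hb, hbe⟩ := pullConj_spec ι₁ (hU u hm)
      have hbv : b = v := h₁.2.1.1 (by rw [hbe, hv, inv_inv])
      subst hbv
      rw [hh u b hm hb]
      group
    refine ⟨h⁻¹, fun a ha => ?_, key⟩
    obtain ⟨b, hb, hbe⟩ := model_normal_of_isNormal h₁ hQ (g := r) ha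
    exact ⟨b, hb, hbe, (key b a (by rw [hbe]; group)).symm⟩
  choose L hLrel hL using hlift
  let o := MulAction.orbitRel T₁ (G₁ ⧸ T₁)
  let rr : G₁ ⧸ T₁ → G₁ := fun ω => (Quotient.mk o ω).out.out
  have hex : ∀ ω : G₁ ⧸ T₁, ∃ t : S, ((ι₁ t * rr ω : G₁) : G₁ ⧸ T₁) = ω := fun ω => by
    obtain ⟨⟨_, t, rfl⟩, ht⟩ := MulAction.orbitRel_apply.mp
      (o.symm' (Quotient.exact (Quotient.out_eq (Quotient.mk o ω))))
    refine ⟨t, Eq.trans ?_ ht⟩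
    show ((ι₁ t * rr ω : G₁) : G₁ ⧸ T₁) = ι₁ t • (Quotient.mk o ω).out
    rw [← smul_eq_mul, ← MulAction.Quotient.smul_mk, QuotientGroup.out_eq']
  choose t ht using hex
  let R₁ : G₁ ⧸ T₁ → G₁ := fun ω => ι₁ (t ω) * rr ω
  let R₂ : G₁ ⧸ T₁ → G₂ := fun ω => ι₂ (t ω) * L (rr ω)
  have hRrel : ∀ ω, Rel (R₁ ω) (R₂ ω) := fun ω => hrel_mul (hrel_T _) (hLrel _)
  have hsh : ∀ (g : G₁) (ω : G₁ ⧸ T₁), ∃ s : S, g * R₁ ω = R₁ (g • ω) * ι₁ s := by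
    intro g ω
    have h1 : ((g * R₁ ω : G₁) : G₁ ⧸ T₁) = ((R₁ (g • ω) : G₁) : G₁ ⧸ T₁) := by
      rw [ht, ← smul_eq_mul, ← MulAction.Quotient.smul_mk, ht]
    obtain ⟨s, hs⟩ := QuotientGroup.eq.mp h1.symm
    exact ⟨s, by rw [hs, mul_inv_cancel_left]⟩
  choose sh hsh using hsh
  let d : G₁ → G₁ ⧸ T₁ → G₂ := fun g ω => R₂ (g • ω) * ι₂ (sh g ω) * (R₂ ω)⁻¹
  have hdrel : ∀ g ω, Rel g (d g ω) := fun g ω => by
    have := hrel_mul (hrel_mul (hRrel (g • ω)) (hrel_T (sh g ω))) (hrel_inv (hRrel ω))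
    rwa [← hsh, mul_inv_cancel_right] at this
  have hdmul : ∀ g h ω, d (g * h) ω = d g (h • ω) * d h ω := by
    intro g h ω
    have hs : sh (g * h) ω = sh g (h • ω) * sh h ω := by
      refine h₁.2.1.1 ?_
      have e1 := hsh (g * h) ω
      rw [mul_smul, mul_assoc g h, hsh h ω, ← mul_assoc, hsh g (h • ω), mul_assoc] at e1
      rw [map_mul]
      exact (mul_left_cancel e1).symm
    show R₂ ((g * h) • ω) * _ * _ = _
    rw [hs, mul_smul, map_mul]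
    show _ = R₂ (g • h • ω) * ι₂ (sh g (h • ω)) * (R₂ (h • ω))⁻¹ *
      (R₂ (h • ω) * ι₂ (sh h ω) * (R₂ ω)⁻¹)
    group
  have hdT : ∀ s ω, d (ι₁ s) ω = ι₂ s := by
    intro s ω
    have horb : Quotient.mk o (ι₁ s • ω) = Quotient.mk o ω :=
      Quotient.sound (MulAction.orbitRel_apply.mpr ⟨⟨ι₁ s, s, rfl⟩, rfl⟩)
    have hrr : rr (ι₁ s • ω) = rr ω := congrArg (fun q => Quotient.out (Quotient.out q)) horb
    have h1 := hsh (ι₁ s) ω
    show R₂ (ι₁ s • ω) * ι₂ (sh (ι₁ s) ω) * (R₂ ω)⁻¹ = ι₂ s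
    set v := sh (ι₁ s) ω
    set t' := t (ι₁ s • ω)
    change ι₁ s * (ι₁ (t ω) * rr ω) = ι₁ t' * rr (ι₁ s • ω) * ι₁ v at h1
    show ι₂ t' * L (rr (ι₁ s • ω)) * ι₂ v * (ι₂ (t ω) * L (rr ω))⁻¹ = ι₂ s
    rw [hrr] at h1 ⊢
    have hu : ι₁ v = (rr ω)⁻¹ * ι₁ (t'⁻¹ * s * t ω) * rr ω := by
      rw [map_mul, map_mul, map_inv]
      calc ι₁ v = (rr ω)⁻¹ * (ι₁ t')⁻¹ * (ι₁ t' * rr ω * ι₁ v) := by group
        _ = _ := by rw [← h1]; group
    have h2 := hL (rr ω) _ _ hu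
    rw [map_mul, map_mul, map_inv] at h2
    calc ι₂ t' * L (rr ω) * ι₂ v * (ι₂ (t ω) * L (rr ω))⁻¹
        = ι₂ t' * (L (rr ω) * ι₂ v * (L (rr ω))⁻¹) * (ι₂ (t ω))⁻¹ := by group
      _ = ι₂ s := by rw [h2]; group
  -- the kernel
  let Z : Subgroup G₂ :=
    Subgroup.centralizer ((Q.subgroupOf S).map ι₂ : Set G₂)
  have hZ : ∀ x, x ∈ Z ↔ ∀ a : S, (a : Ω) ∈ Q → x * ι₂ a * x⁻¹ = ι₂ a := fun x => by
    rw [Subgroup.mem_centralizer_iff]
    constructor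
    · intro hx a ha
      rw [mul_inv_eq_iff_eq_mul]
      exact (hx _ ⟨a, ha, rfl⟩).symm
    · rintro hx _ ⟨a, ha, rfl⟩
      exact (mul_inv_eq_iff_eq_mul.mp (hx a ha)).symm
  have hZmem : ∀ x ∈ Z, ∃ z : S, ι₂ z = x ∧ (z : Ω) ∈ Q ∧ ∀ a : S, (a : Ω) ∈ Q → z * a = a * z :=
    fun x hx => model_centralizer h₂ hQ hQc ((hZ x).mp hx)
  have : IsMulCommutative Z := ⟨⟨fun x y => Subtype.ext (by
    obtain ⟨a, ha, -, hac⟩ := hZmem x x.2
    obtain ⟨b, hb, hbQ, -⟩ := hZmem y y.2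
    show (x : G₂) * y = y * x
    rw [← ha, ← hb, ← map_mul, ← map_mul, hac b hbQ])⟩⟩
  have hZn : ∀ x ∈ Z, ∀ h : G₂, h⁻¹ * x * h ∈ Z := fun x hx h => (hZ _).mpr fun a ha => by
    obtain ⟨b, hb, hbe⟩ := model_normal_of_isNormal h₂ hQ (g := h) ha
    have h1 := (hZ x).mp hx b hb
    rw [hbe] at h1
    calc h⁻¹ * x * h * ι₂ a * (h⁻¹ * x * h)⁻¹ = h⁻¹ * (x * (h * ι₂ a * h⁻¹) * x⁻¹) * h := by group
      _ = ι₂ a := by rw [h1]; group
  have hdiff : ∀ {g h h'}, Rel g h → Rel g h' → h⁻¹ * h' ∈ Z := by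
    intro g h h' r r'
    refine (hZ _).mpr fun a ha => ?_
    obtain ⟨b, -, e1, e2⟩ := r a ha
    obtain ⟨b', -, e1', e2'⟩ := r' a ha
    obtain rfl : b = b' := h₁.2.1.1 (e1.trans e1'.symm)
    calc h⁻¹ * h' * ι₂ a * (h⁻¹ * h')⁻¹ = h⁻¹ * (h' * ι₂ a * h'⁻¹) * h := by group
      _ = ι₂ a := by rw [← e2', e2]; group
  have hrelZ : ∀ {g h x}, Rel g h → x ∈ Z → Rel g (h * x) := by
    intro g h x r hx a ha
    obtain ⟨b, hb, e1, e2⟩ := r a ha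
    refine ⟨b, hb, e1, ?_⟩
    calc ι₂ b = h * (x * ι₂ a * x⁻¹) * h⁻¹ := by rw [(hZ x).mp hx a ha, e2]
      _ = _ := by group
  have := Fintype.ofFinite (G₁ ⧸ T₁)
  set ω₀ : G₁ ⧸ T₁ := ((1 : G₁) : G₁ ⧸ T₁)
  set n := Fintype.card (G₁ ⧸ T₁) with hn
  have hnp : ¬ p ∣ n := by
    obtain ⟨T, hT⟩ := h₁.2.2.1
    rw [hn, ← Nat.card_eq_fintype_card]
    show ¬ p ∣ T₁.index
    rw [show T₁ = (T : Subgroup G₁) from hT.symm]
    exact T.not_dvd_index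
  have hZp : IsPGroup p Z := by
    rintro ⟨x, hx⟩
    obtain ⟨z, rfl, -, -⟩ := hZmem x hx
    obtain ⟨k, hk⟩ := hS z
    exact ⟨k, Subtype.ext (show ι₂ z ^ p ^ k = 1 by rw [← map_pow, hk, map_one])⟩
  obtain ⟨k, hk⟩ := IsPGroup.iff_card.mp hZp
  have hco : (Nat.card Z).Coprime n := by
    rw [hk]
    exact Nat.Coprime.pow_left _ (hp.out.coprime_iff_not_dvd.mpr hnp)
  let δ : G₁ → G₁ ⧸ T₁ → Z := fun g ω => ⟨_, hdiff (hdrel g ω₀) (hdrel g ω)⟩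
  let M : G₁ → Z := fun g => (powCoprime hco).symm (∏ ω, δ g ω)
  have hM : ∀ g, M g ^ n = ∏ ω, δ g ω := fun g => (powCoprime hco).apply_symm_apply _
  let φ : G₁ →* G₂ := MonoidHom.mk' (fun g => d g ω₀ * (M g : G₂)) fun g h => by
    let cj' : Z →* Z := MonoidHom.mk' (fun x => ⟨_, hZn x x.2 (d h ω₀)⟩)
      fun x y => Subtype.ext (by simp [mul_assoc])
    have h1 : ∀ ω, cj' (δ g (h • ω₀)) * δ (g * h) ω = cj' (δ g (h • ω)) * δ h ω := fun ω =>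
      Subtype.ext (by
        show (d h ω₀)⁻¹ * ((d g ω₀)⁻¹ * d g (h • ω₀)) * d h ω₀ *
            ((d (g * h) ω₀)⁻¹ * d (g * h) ω) =
          (d h ω₀)⁻¹ * ((d g ω₀)⁻¹ * d g (h • ω)) * d h ω₀ * ((d h ω₀)⁻¹ * d h ω)
        rw [hdmul, hdmul]
        group)
    have h2 : cj' (δ g (h • ω₀)) * M (g * h) = cj' (M g) * M h := by
      refine (powCoprime hco).injective ?_
      show (cj' (δ g (h • ω₀)) * M (g * h)) ^ n = (cj' (M g) * M h) ^ n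
      rw [mul_pow, mul_pow, ← map_pow cj' (M g), hM, hM, hM, map_prod,
        show cj' (δ g (h • ω₀)) ^ n = ∏ _ω : G₁ ⧸ T₁, cj' (δ g (h • ω₀)) by
          rw [Finset.prod_const, Finset.card_univ, hn],
        ← Finset.prod_mul_distrib, Finset.prod_congr rfl (fun ω _ => h1 ω), Finset.prod_mul_distrib]
      congr 1
      exact Equiv.prod_comp (MulAction.toPerm h) (fun ω : G₁ ⧸ T₁ => cj' (δ g ω))
    have h3 := congrArg (fun x : Z => d g ω₀ * d h ω₀ * (x : G₂)) h2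
    show d (g * h) ω₀ * (M (g * h) : G₂) = d g ω₀ * (M g : G₂) * (d h ω₀ * (M h : G₂))
    rw [hdmul]
    calc d g (h • ω₀) * d h ω₀ * (M (g * h) : G₂)
        = d g ω₀ * d h ω₀ * ((d h ω₀)⁻¹ * ((d g ω₀)⁻¹ * d g (h • ω₀)) * d h ω₀ * (M (g * h) : G₂)) := by
          group
      _ = d g ω₀ * d h ω₀ * ((d h ω₀)⁻¹ * (M g : G₂) * d h ω₀ * (M h : G₂)) := h3
      _ = _ := by group
  have hφrel : ∀ g, Rel g (φ g) := fun g => hrelZ (hdrel g ω₀) (M g).2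
  have hφT : ∀ s, φ (ι₁ s) = ι₂ s := fun s => by
    have : M (ι₁ s) = 1 := (powCoprime hco).injective (by
      show M (ι₁ s) ^ n = 1 ^ n
      rw [hM, one_pow]
      exact Finset.prod_eq_one fun ω _ => Subtype.ext (by
        show (d (ι₁ s) ω₀)⁻¹ * d (ι₁ s) ω = 1
        rw [hdT, hdT, inv_mul_cancel]))
    show d (ι₁ s) ω₀ * (M (ι₁ s) : G₂) = ι₂ s
    rw [this, hdT, Subgroup.coe_one, mul_one]
  have hinj : Function.Injective φ := by
    refine (injective_iff_map_eq_one _).mpr fun g hg => ?_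
    have hgc : ∀ a : S, (a : Ω) ∈ Q → g * ι₁ a * g⁻¹ = ι₁ a := fun a ha => by
      obtain ⟨b, -, e1, e2⟩ := hφrel g a ha
      rw [hg, one_mul, inv_one, mul_one] at e2
      rw [← e1, h₂.2.1.1 e2]
    obtain ⟨z, rfl, -, -⟩ := model_centralizer h₁ hQ hQc hgc
    rw [hφT] at hg
    rw [h₂.2.1.1 (hg.trans (map_one ι₂).symm), map_one]
  have hsurj : Function.Surjective φ := by
    intro h
    have hgood : ∀ a : S, (a : Ω) ∈ Q → h * ι₂ a * h⁻¹ ∈ ι₂.range := fun a ha => by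
      obtain ⟨b, -, hb⟩ := model_normal_of_isNormal h₂ hQ (g := h) ha
      exact ⟨b, hb⟩
    obtain ⟨hf, hfi⟩ := isMor_pullConj h₂.2.1 hQS hgood
    obtain ⟨g, hg⟩ := exists_induces h₁.2.1 hf
    have hr : Rel g h := fun a ha => by
      obtain ⟨b, hb, hbe⟩ := model_normal_of_isNormal h₂ hQ (g := h) ha
      obtain ⟨c, hc, hce⟩ := pullConj_spec ι₂ (hgood a ha)
      obtain rfl : c = b := h₂.2.1.1 (hce.trans hbe.symm)
      exact ⟨c, hb, hg a c ha hc, hbe⟩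
    obtain ⟨z, hz, -, -⟩ := hZmem _ (hdiff (hφrel g) hr)
    exact ⟨g * ι₁ z, by rw [map_mul, hφT, hz, mul_inv_cancel_left]⟩
  exact ⟨MulEquiv.ofBijective φ ⟨hinj, hsurj⟩, hφT⟩

end CfsgLib.Fusion
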