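import Mathlib
import Cfsg.Agent.Lib.Fusion.Saturation

/-! Normalizer and centralizer systems of saturated systems are saturated. -/
set_option autoImplicit false

namespace CfsgLib.Fusion

open Cfsg Cfsg.FusionSystem

variable {Ω : Type*} [Group Ω] {S : Subgroup Ω}

/-- A condition on the behaviour of maps on `Q`, closed under composition and inverses. -/
structure MapCond (F : FusionSystem S) (Q : Subgroup Ω) where
  Good : (Ω → Ω) → Prop
  le : Q ≤ S
  congr : ∀ {g g' : Ω → Ω}, Good g → (∀ x ∈ Q, g x = g' x) → Good g'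
  id' : Good id
  maps : ∀ {g : Ω → Ω}, Good g → ∀ x ∈ Q, g x ∈ Q
  comp : ∀ {g g' : Ω → Ω}, Good g → Good g' → Good (g' ∘ g)
  inv : ∀ {g g' : Ω → Ω}, IsMor F Q g → Good g → (∀ x ∈ Q, g' (g x) = x) → Good g'

variable {F : FusionSystem S} {Q : Subgroup Ω}

theorem MapCond.img_eq [Finite S] (c : MapCond F Q) {g : Ω → Ω} (hg : IsMor F Q g)
    (h : c.Good g) : img Q g = Q := hg.img_eq_self (c.maps h)

/-- The automorphisms of `X` that satisfy the condition and restrict to `P` as members of `B`. -/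
def MapCond.lift [Finite S] (c : MapCond F Q) (X P : Subgroup Ω) (hP : P ≤ X) (hQ : Q ≤ X)
    (hX : X ≤ S) (B : Subgroup (MulAut P)) : Subgroup (MulAut X) where
  carrier := {α | α ∈ F.autGroup X ∧ c.Good (autFun α) ∧
    ∃ γ ∈ B, ∀ x ∈ P, autFun α x = autFun γ x}
  one_mem' := ⟨one_mem _, c.congr c.id' fun x hx => (autFun_one (hQ hx)).symm, 1, one_mem _,
    fun x hx => by rw [autFun_one (hP hx), autFun_one hx]⟩
  mul_mem' := by
    rintro a b ⟨ha, hga, γ, hγ, he⟩ ⟨hb, hgb, δ, hδ, he'⟩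
    refine ⟨mul_mem ha hb, c.congr (c.comp hgb hga) fun x hx => (autFun_mul a b (hQ hx)).symm,
      γ * δ, mul_mem hγ hδ, fun x hx => ?_⟩
    rw [autFun_mul _ _ (hP hx), autFun_mul _ _ hx, he' x hx, he _ (autFun_mem δ hx)]
  inv_mem' := by
    rintro a ⟨ha, hga, γ, hγ, he⟩
    refine ⟨inv_mem ha, c.inv ((isMor_autFun hX ha).restrict hQ) hga
      fun x hx => autFun_inv_left a (hQ hx), γ⁻¹, inv_mem hγ, fun x hx => ?_⟩
    conv_lhs => rw [← autFun_inv_right γ hx, ← he _ (autFun_mem γ⁻¹ hx)]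
    rw [autFun_inv_left a (hP (autFun_mem γ⁻¹ hx))]

theorem MapCond.mem_lift [Finite S] (c : MapCond F Q) {X P : Subgroup Ω} {hP : P ≤ X} {hQ : Q ≤ X}
    {hX : X ≤ S} {B : Subgroup (MulAut P)} {α : MulAut X} :
    α ∈ c.lift X P hP hQ hX B ↔ α ∈ F.autGroup X ∧ c.Good (autFun α) ∧
      ∃ γ ∈ B, ∀ x ∈ P, autFun α x = autFun γ x := Iff.rfl

variable {p : ℕ} [hp : Fact p.Prime]

/-- In each class some subgroup is receptive and has the full Sylow group of the condition. -/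
theorem MapCond.exists_good_conj [Finite S] (hS : IsPGroup p S) (hF : F.IsSaturated p)
    (c : MapCond F Q) {N : Subgroup Ω}
    (hN : ∀ a, a ∈ N ↔ a ∈ S ∧ a ∈ Subgroup.normalizer (Q : Set Ω) ∧ c.Good (cj a))
    (hrec : ∀ φ : Ω → Ω, IsMor F Q φ → ∃ (D : Subgroup Ω) (g : Ω → Ω), IsMor F D g ∧
      img Q φ ≤ D ∧ c.Good (g ∘ φ) ∧
      ∀ h ∈ S, h ∈ Subgroup.normalizer (img Q φ : Set Ω) →
        (∃ k, c.Good k ∧ ∀ x ∈ Q, cj h (φ x) = φ (k x)) → h ∈ D)
    {P : Subgroup Ω} (hP : P ≤ N) :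
    ∃ (P₀ : Subgroup Ω) (ψ : Ω → Ω) (hP₀ : P₀ ≤ N) (h1 : P₀ ⊔ Q ≤ S),
      IsMor F (P ⊔ Q) ψ ∧ c.Good ψ ∧ img P ψ = P₀ ∧ F.IsReceptive (P₀ ⊔ Q) ∧
      IsSylIn p (autInducedBy (N ⊓ Subgroup.normalizer (P₀ : Set Ω)) (P₀ ⊔ Q))
        (c.lift (P₀ ⊔ Q) P₀ le_sup_left le_sup_right h1 ⊤) := by
  classical
  have hNS : N ≤ S := fun a ha => ((hN a).mp ha).1
  have hXS : P ⊔ Q ≤ S := sup_le (hP.trans hNS) c.le
  obtain ⟨R, hR, hRn⟩ := exists_fullyNormalized F hXS
  obtain ⟨φ₀, hφ₀, hφ₀i⟩ := isConj_iff.mp hR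
  obtain ⟨e₀, he₀, he₀A, -⟩ := exists_transport hφ₀ hφ₀i
  have := finite_mulAut (P := P ⊔ Q) hXS
  have := finite_mulAut (P := R) hRn.1
  set L := c.lift (P ⊔ Q) P le_sup_left le_sup_right hXS ⊤ with hL
  obtain ⟨T, -⟩ := (IsPGroup.of_bot (G := L) (p := p)).exists_le_sylow
  set T' : Subgroup (MulAut ↥(P ⊔ Q)) := (T : Subgroup L).map L.subtype with hT'
  have hT'L : T' ≤ L := Subgroup.map_subtype_le _
  have hT'syl : IsSylIn p T' L := (exists_sylow_iff hT'L).mp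
    ⟨T, (Subgroup.comap_map_eq_self_of_injective L.subtype_injective _).symm⟩
  obtain ⟨h₁, h₂⟩ := isFullyAutomized_of_normalized hS hF hRn
  obtain ⟨β, hβ, hβc⟩ := (isFullyAutomized_iff.mp h₁).2.exists_conj_le
    (C := T'.map e₀.toMonoidHom) (hT'syl.2.1.map _) (by
      rintro _ ⟨a, ha, rfl⟩
      exact (he₀A a).mp (c.mem_lift.mp (hT'L ha)).1)
  set φ := autFun β ∘ φ₀ with hφdef
  have hφ : IsMor F (P ⊔ Q) φ :=
    hφ₀.comp (isMor_autFun hRn.1 hβ) fun x hx => hφ₀i ▸ mem_img_of_mem φ₀ hx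
  have hφi : img (P ⊔ Q) φ = R := by rw [hφdef, ← hφ₀.img_comp, hφ₀i, img_autFun]
  have hTc : ∀ α ∈ T', ∃ h ∈ S, h ∈ Subgroup.normalizer (R : Set Ω) ∧
      ∀ x ∈ P ⊔ Q, φ (autFun α x) = cj h (φ x) := by
    intro α hα
    obtain ⟨h, hh, hn, he⟩ := mem_autInducedBy.mp (hβc _ ⟨α, hα, rfl⟩)
    refine ⟨h, hh, hn, fun x hx => ?_⟩
    have hfx : φ₀ x ∈ R := hφ₀i ▸ mem_img_of_mem φ₀ hx
    have h2 := he _ (autFun_mem β hfx)
    rw [autFun_mul _ _ (autFun_mem β hfx), autFun_inv_left β hfx, autFun_mul _ _ hfx] at h2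
    show autFun β (φ₀ (autFun α x)) = cj h (autFun β (φ₀ x))
    rw [← he₀ α x hx]
    exact h2
  obtain ⟨D, g, hg, hQD, hgood, hD⟩ := hrec φ (hφ.restrict le_sup_right)
  have hQR : img Q φ ≤ R := hφi ▸ img_mono φ le_sup_right
  have hQn : ∀ a ∈ P ⊔ Q, a ∈ Subgroup.normalizer (Q : Set Ω) := fun a ha =>
    (sup_le (fun b hb => ((hN b).mp (hP hb)).2.1) Subgroup.le_normalizer :
      P ⊔ Q ≤ Subgroup.normalizer (Q : Set Ω)) ha
  have hPD : ∀ x ∈ P, φ x ∈ D := by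
    intro x hx
    obtain ⟨-, hxn, hxg⟩ := (hN x).mp (hP hx)
    have hcl : ∀ y ∈ Q, cj (φ x) (φ y) = φ (cj x y) := fun y hy =>
      (hφ.map_conj (Subgroup.mem_sup_left hx) (Subgroup.mem_sup_right hy)).symm
    refine hD _ (hφ.mem (Subgroup.mem_sup_left hx)) ?_ ⟨cj x, hxg, hcl⟩
    rw [Subgroup.mem_normalizer_iff_map_conj_eq]
    show (img Q φ).map (MulAut.conj (φ x)).toMonoidHom = _
    rw [← img_cj, (hφ.restrict le_sup_right).img_comp,
      img_congr (f := cj (φ x) ∘ φ) (g := φ ∘ cj x) (fun y hy => hcl y hy),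
      ← ((isMor_cj F c.le (((hN x).mp (hP hx)).1))).img_comp, img_cj_of_normalizer hxn]
  have hRD : R ≤ D := by
    rw [← hφi, hφ.img_sup, sup_le_iff]
    exact ⟨img_le hPD, hQD⟩
  set ψ := g ∘ φ with hψdef
  have hψ : IsMor F (P ⊔ Q) ψ :=
    hφ.comp hg fun x hx => hRD (hφi ▸ mem_img_of_mem φ hx)
  have hψQ : img Q ψ = Q := c.img_eq (hψ.restrict le_sup_right) hgood
  set P₀ := img P ψ with hP₀def
  have hXi : img (P ⊔ Q) ψ = P₀ ⊔ Q := by rw [hψ.img_sup, hψQ]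
  have h1 : P₀ ⊔ Q ≤ S := hXi ▸ hψ.img_le
  have hgR : img R g = P₀ ⊔ Q := by rw [← hφi, hφ.img_comp, ← hψdef, hXi]
  have hP₀N : P₀ ≤ N := by
    refine img_le fun x hx => (hN _).mpr ?_
    obtain ⟨hxS, hxn, hxg⟩ := (hN x).mp (hP hx)
    have hm := hψ.mem (Subgroup.mem_sup_left hx)
    have hcl : ∀ y ∈ Q, cj (ψ x) (ψ y) = ψ (cj x y) := fun y hy =>
      (hψ.map_conj (Subgroup.mem_sup_left hx) (Subgroup.mem_sup_right hy)).symm
    have hgc : c.Good (cj (ψ x)) := by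
      obtain ⟨k, hk, hkl, hkr, -⟩ := (hψ.restrict le_sup_right).inverse
      rw [hψQ] at hk hkr
      refine c.congr (c.comp (c.comp (c.inv (hψ.restrict le_sup_right) hgood
        fun y hy => hkl y hy) hxg) hgood) fun y hy => ?_
      have hky : k y ∈ Q := c.maps (c.inv (hψ.restrict le_sup_right) hgood hkl) y hy
      show ψ (cj x (k y)) = cj (ψ x) y
      rw [← hcl _ hky, hkr y hy]
    refine ⟨hm, ?_, hgc⟩
    rw [Subgroup.mem_normalizer_iff_map_conj_eq]
    show Q.map (MulAut.conj (ψ x)).toMonoidHom = Q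
    rw [← img_cj]
    exact c.img_eq (isMor_cj F c.le hm) hgc
  have hrecX : F.IsReceptive (P₀ ⊔ Q) := by
    refine isReceptive_of_centralized hS hF ⟨h1, fun U hU => ?_⟩
    have hU' : F.IsConj R U := isConj_trans (isConj_symm hR)
      (isConj_trans (isConj_iff.mpr ⟨ψ, hψ, hXi⟩) hU)
    refine ((isFullyCentralized_of_normalized hS hF hRn).2 U hU').trans ?_
    have hCD : centralizerIn S R ≤ D := by
      intro h hh
      obtain ⟨hhS, hc⟩ := mem_centralizerIn.mp hh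
      refine hD h hhS ?_ ⟨id, c.id', fun x hx =>
        hc _ (hφi ▸ mem_img_of_mem φ (Subgroup.mem_sup_right hx))⟩
      refine (mem_normalizerIn.mp (centralizerIn_le_normalizerIn (S := S) (P := img Q φ) ?_)).2
      exact mem_centralizerIn.mpr ⟨hhS, fun y hy => hc y (hQR hy)⟩
    refine card_le_of_img_le (hg.restrict hCD) centralizerIn_le (img_le fun h hh => ?_)
    obtain ⟨hhS, hc⟩ := mem_centralizerIn.mp hh
    refine mem_centralizerIn.mpr ⟨hg.mem (hCD hh), fun y hy => ?_⟩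
    obtain ⟨z, hz, rfl⟩ := (hg.restrict hRD).mem_img.mp (hgR.ge hy)
    show g h * g z * (g h)⁻¹ = g z
    rw [← hg.map_conj (hCD hh) (hRD hz)]
    exact congrArg g (hc z hz)
  refine ⟨P₀, ψ, hP₀N, h1, hψ, hgood, rfl, hrecX, ?_⟩
  obtain ⟨e, he, heA, -⟩ := exists_transport hψ hXi
  have := finite_mulAut (P := P₀ ⊔ Q) h1
  have hA0le : autInducedBy (N ⊓ Subgroup.normalizer (P₀ : Set Ω)) (P₀ ⊔ Q) ≤
      c.lift (P₀ ⊔ Q) P₀ le_sup_left le_sup_right h1 ⊤ := by
    intro α hα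
    obtain ⟨a, ha, -, hae⟩ := mem_autInducedBy.mp hα
    obtain ⟨haS, han, hag⟩ := (hN a).mp (Subgroup.mem_inf.mp ha).1
    obtain ⟨γ, -, hγe⟩ := exists_autInducedBy (K := S) haS (Subgroup.mem_inf.mp ha).2
    refine ⟨(autGroup_eq_set h1 α).mpr ((isMor_cj F h1 haS).congr fun x hx => (hae x hx).symm),
      c.congr hag fun x hx => (hae x (Subgroup.mem_sup_right hx)).symm, γ, trivial, fun x hx => ?_⟩
    rw [hae x (Subgroup.mem_sup_left hx), hγe x hx]
  have hTA0 : T'.map e.toMonoidHom ≤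
      autInducedBy (N ⊓ Subgroup.normalizer (P₀ : Set Ω)) (P₀ ⊔ Q) := by
    rintro _ ⟨α, hα, rfl⟩
    obtain ⟨hαA, hαg, γ, -, hαγ⟩ := c.mem_lift.mp (hT'L hα)
    obtain ⟨h, hh, hn, hhe⟩ := hTc α hα
    have hhQ : h ∈ Subgroup.normalizer (img Q φ : Set Ω) := by
      rw [Subgroup.mem_normalizer_iff_map_conj_eq]
      show (img Q φ).map (MulAut.conj h).toMonoidHom = _
      rw [← img_cj, (hφ.restrict le_sup_right).img_comp,
        img_congr (f := cj h ∘ φ) (g := φ ∘ autFun α) (fun y hy => (hhe y (Subgroup.mem_sup_right hy)).symm),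
        ← ((isMor_autFun hXS hαA).restrict le_sup_right).img_comp,
        c.img_eq ((isMor_autFun hXS hαA).restrict le_sup_right) hαg]
    have hhD : h ∈ D := hD h hh hhQ
      ⟨autFun α, hαg, fun x hx => (hhe x (Subgroup.mem_sup_right hx)).symm⟩
    have hcl : ∀ x ∈ P ⊔ Q, ψ (autFun α x) = cj (g h) (ψ x) := by
      intro x hx
      show g (φ (autFun α x)) = cj (g h) (g (φ x))
      rw [hhe x hx]
      exact hg.map_conj hhD (hRD (hφi ▸ mem_img_of_mem φ hx))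
    have hgh := hg.mem hhD
    have hgood' : c.Good (cj (g h)) := by
      obtain ⟨k, hk, hkl, hkr, -⟩ := (hψ.restrict le_sup_right).inverse
      rw [hψQ] at hk hkr
      have hkg := c.inv (hψ.restrict le_sup_right) hgood hkl
      refine c.congr (c.comp (c.comp hkg hαg) hgood) fun y hy => ?_
      show ψ (autFun α (k y)) = cj (g h) y
      rw [hcl _ (Subgroup.mem_sup_right (c.maps hkg y hy)), hkr y hy]
    have hnQ : g h ∈ Subgroup.normalizer (Q : Set Ω) := by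
      rw [Subgroup.mem_normalizer_iff_map_conj_eq]
      show Q.map (MulAut.conj (g h)).toMonoidHom = Q
      rw [← img_cj]
      exact c.img_eq (isMor_cj F c.le hgh) hgood'
    have hnP : g h ∈ Subgroup.normalizer (P₀ : Set Ω) := by
      rw [Subgroup.mem_normalizer_iff_map_conj_eq]
      show P₀.map (MulAut.conj (g h)).toMonoidHom = P₀
      rw [← img_cj, hP₀def, (hψ.restrict le_sup_left).img_comp,
        img_congr (f := cj (g h) ∘ ψ) (g := ψ ∘ autFun γ) (fun y hy => by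
          show cj (g h) (ψ y) = ψ (autFun γ y)
          rw [← hcl y (Subgroup.mem_sup_left hy), hαγ y hy]),
        ← ((isMor_autFun hXS hαA).restrict le_sup_left |>.congr hαγ).img_comp, img_autFun]
    have hnX : g h ∈ Subgroup.normalizer ((P₀ ⊔ Q : Subgroup Ω) : Set Ω) := by
      rw [Subgroup.mem_normalizer_iff_map_conj_eq]
      show (P₀ ⊔ Q).map (MulAut.conj (g h)).toMonoidHom = P₀ ⊔ Q
      rw [Subgroup.map_sup]
      exact congrArg₂ (· ⊔ ·) (Subgroup.mem_normalizer_iff_map_conj_eq.mp hnP)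
        (Subgroup.mem_normalizer_iff_map_conj_eq.mp hnQ)
    refine mem_autInducedBy.mpr ⟨g h, ⟨(hN _).mpr ⟨hgh, hnQ, hgood'⟩, hnP⟩, hnX, fun y hy => ?_⟩
    obtain ⟨x, hx, rfl⟩ := hψ.mem_img.mp (hXi.ge hy)
    show autFun (e α) (ψ x) = _
    rw [he α x hx, hcl x hx]
  refine ⟨hA0le, isPGroup_of_le (fun α hα => ?_) (isPGroup_autInducedBy (P := P₀ ⊔ Q) hS), ?_⟩
  · obtain ⟨a, ha, hn, hae⟩ := mem_autInducedBy.mp hα
    exact mem_autInducedBy.mpr ⟨a, hNS (Subgroup.mem_inf.mp ha).1, hn, hae⟩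
  · intro C hC hAC hCL
    refine le_antisymm (le_trans ?_ hTA0) hAC
    have hback : C.map e.symm.toMonoidHom = T' := by
      refine hT'syl.2.2 _ (hC.map _) (fun α hα => ?_) ?_
      · exact ⟨e α, hAC (hTA0 ⟨α, hα, rfl⟩), e.symm_apply_apply α⟩
      · rintro _ ⟨γ', hγ', rfl⟩
        obtain ⟨hA, hgd, δ, -, hδ⟩ := c.mem_lift.mp (hCL hγ')
        set α := e.symm γ'
        have hea : e α = γ' := e.apply_symm_apply γ'
        have hαA : α ∈ F.autGroup (P ⊔ Q) := (heA α).mpr (hea ▸ hA)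
        have hαm := isMor_autFun hXS hαA
        have key : ∀ x ∈ P ⊔ Q, ψ (autFun α x) = autFun γ' (ψ x) := fun x hx => by
          rw [← hea, he α x hx]
        have hαP : ∀ x ∈ P, autFun α x ∈ P := fun x hx => by
          refine (hψ.mem_img_iff le_sup_left (autFun_mem α (Subgroup.mem_sup_left hx))).mp ?_
          rw [key x (Subgroup.mem_sup_left hx), hδ _ (mem_img_of_mem ψ hx)]
          exact autFun_mem δ (mem_img_of_mem ψ hx)
        have hαm' := hαm.restrict (le_sup_left : P ≤ P ⊔ Q)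
        obtain ⟨δ', -, hδ'⟩ := exists_aut hαm' (hαm'.img_eq_self hαP)
        refine c.mem_lift.mpr ⟨hαA, ?_, δ', trivial, fun x hx => (hδ' x hx).symm⟩
        obtain ⟨k, -, hkl, -, -⟩ := hψ.inverse
        refine c.congr (c.comp (c.comp hgood hgd)
          (c.inv (hψ.restrict le_sup_right) hgood fun y hy => hkl y (Subgroup.mem_sup_right hy)))
          fun x hx => ?_
        show k (autFun γ' (ψ x)) = autFun α x
        rw [← key x (Subgroup.mem_sup_right hx), hkl _ (autFun_mem α (Subgroup.mem_sup_right hx))]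
    intro γ' hγ'
    exact ⟨e.symm γ', hback.le ⟨γ', hγ', rfl⟩, e.apply_symm_apply γ'⟩

/-- A system cut out of a saturated system by such a condition is saturated. -/
theorem MapCond.isSaturated [Finite S] (hS : IsPGroup p S) (hF : F.IsSaturated p)
    (c : MapCond F Q) {N : Subgroup Ω} (E : FusionSystem N)
    (hN : ∀ a, a ∈ N ↔ a ∈ S ∧ a ∈ Subgroup.normalizer (Q : Set Ω) ∧ c.Good (cj a))
    (hE : ∀ P f, IsMor E P f ↔ IsMor F P f ∧ P ≤ N ∧ (∀ x ∈ P, f x ∈ N) ∧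
      ∃ g, IsMor F (P ⊔ Q) g ∧ (∀ x ∈ P, g x = f x) ∧ c.Good g)
    (hrec : ∀ φ : Ω → Ω, IsMor F Q φ → ∃ (D : Subgroup Ω) (g : Ω → Ω), IsMor F D g ∧
      img Q φ ≤ D ∧ c.Good (g ∘ φ) ∧
      ∀ h ∈ S, h ∈ Subgroup.normalizer (img Q φ : Set Ω) →
        (∃ k, c.Good k ∧ ∀ x ∈ Q, cj h (φ x) = φ (k x)) → h ∈ D) :
    E.IsSaturated p := by
  classical
  have hNS : N ≤ S := fun a ha => ((hN a).mp ha).1
  intro P hP
  obtain ⟨P₀, ψ, hP₀N, h1, hψ, hψg, hψi, hrecX, hsyl⟩ := c.exists_good_conj hS hF hN hrec hP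
  set A₀ := autInducedBy (N ⊓ Subgroup.normalizer (P₀ : Set Ω)) (P₀ ⊔ Q) with hA₀
  have hP₀S := hP₀N.trans hNS
  have := finite_mulAut (P := P₀ ⊔ Q) h1
  have := finite_mulAut (P := P₀) hP₀S
  refine ⟨P₀, isConj_iff.mpr ⟨ψ, (hE P ψ).mpr ⟨hψ.restrict le_sup_left, hP,
    fun x hx => hP₀N (hψi ▸ mem_img_of_mem ψ hx), ψ, hψ, fun _ _ => rfl, hψg⟩, hψi⟩, ?_, ?_⟩
  · refine isFullyAutomized_iff.mpr ⟨hP₀N, ?_⟩
    by_contra hns
    obtain ⟨γ, hγ, hγA, hγn, k, hk⟩ := exists_normalizing (autInducedBy_le E hP₀N)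
      (isPGroup_autInducedBy (hS.of_injective _ (Subgroup.inclusion_injective hNS))) hns
    obtain ⟨-, -, -, g, hg, hgγ, hgg⟩ := (hE _ _).mp (isMor_autFun hP₀N hγ)
    have hgi : img (P₀ ⊔ Q) g = P₀ ⊔ Q := by
      rw [hg.img_sup, img_congr hgγ, img_autFun, c.img_eq (hg.restrict le_sup_right) hgg]
    obtain ⟨α, hα, hαe⟩ := exists_aut hg hgi
    set B := Subgroup.normalizer (autInducedBy N P₀ : Set (MulAut P₀))
    have hαres : ∀ x ∈ P₀, autFun α x = autFun γ x := fun x hx =>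
      (hαe x (Subgroup.mem_sup_left hx)).trans (hgγ x hx)
    have hαL : α ∈ c.lift (P₀ ⊔ Q) P₀ le_sup_left le_sup_right h1 B :=
      ⟨hα, c.congr hgg fun x hx => (hαe x (Subgroup.mem_sup_right hx)).symm, γ, hγn, hαres⟩
    obtain ⟨a, m, hm, hn⟩ := Nat.exists_eq_pow_mul_and_not_dvd (orderOf_pos α).ne' p hp.out.ne_one
    have hcop : (p ^ (a + k)).Coprime m :=
      Nat.Coprime.pow_left _ ((hp.out.coprime_iff_not_dvd).mpr hm)
    obtain ⟨j, hj1, hj2⟩ := Nat.chineseRemainder hcop 1 0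
    have hαp : (α ^ j) ^ p ^ a = 1 := by
      rw [← pow_mul, ← orderOf_dvd_iff_pow_eq_one, hn, mul_comm j]
      exact Nat.mul_dvd_mul_left _ (Nat.modEq_zero_iff_dvd.mp hj2)
    have hγj : γ ^ j = γ := by
      have h2 : j ≡ 1 [MOD orderOf γ] := hj1.of_dvd
        ((orderOf_dvd_of_pow_eq_one hk).trans (Nat.pow_dvd_pow p (Nat.le_add_left k a)))
      simpa using pow_eq_pow_iff_modEq.mpr h2
    have hres : ∀ n : ℕ, ∀ x ∈ P₀, autFun (α ^ n) x = autFun (γ ^ n) x := by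
      intro n
      induction n with
      | zero => intro x hx; rw [pow_zero, pow_zero, autFun_one (Subgroup.mem_sup_left hx), autFun_one hx]
      | succ n ih =>
        intro x hx
        rw [pow_succ', pow_succ', autFun_mul _ _ (Subgroup.mem_sup_left hx), autFun_mul _ _ hx,
          ih x hx, hαres _ (autFun_mem _ hx)]
    have hA₀B : A₀ ≤ c.lift (P₀ ⊔ Q) P₀ le_sup_left le_sup_right h1 B := by
      intro δ hδ
      obtain ⟨hδA, hδg, -⟩ := c.mem_lift.mp (hsyl.1 hδ)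
      obtain ⟨n, hn', -, hne⟩ := mem_autInducedBy.mp hδ
      obtain ⟨hnN, hnP⟩ := Subgroup.mem_inf.mp hn'
      obtain ⟨ε, hε, hεe⟩ := exists_autInducedBy (K := N) hnN hnP
      exact ⟨hδA, hδg, ε, Subgroup.le_normalizer hε, fun x hx => by
        rw [hne x (Subgroup.mem_sup_left hx), hεe x hx]⟩
    have hsylB : IsSylIn p A₀ (c.lift (P₀ ⊔ Q) P₀ le_sup_left le_sup_right h1 B) :=
      ⟨hA₀B, hsyl.2.1, fun C hC hAC hCB => hsyl.2.2 C hC hAC fun δ hδ =>
        let ⟨q1, q2, ε, _, q4⟩ := c.mem_lift.mp (hCB hδ)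
        c.mem_lift.mpr ⟨q1, q2, ε, trivial, q4⟩⟩
    obtain ⟨b, hb, hbc⟩ := hsylB.exists_conj_le (C := Subgroup.zpowers (α ^ j))
      (by
        rintro ⟨_, i, rfl⟩
        refine ⟨a, Subtype.ext ?_⟩
        show ((α ^ j) ^ i) ^ p ^ a = 1
        rw [← zpow_natCast, ← zpow_mul, mul_comm, zpow_mul, zpow_natCast, hαp, one_zpow])
      (Subgroup.zpowers_le.mpr (pow_mem hαL j))
    obtain ⟨-, -, δ, hδ, hbδ⟩ := c.mem_lift.mp hb
    obtain ⟨n, hn', -, hne⟩ := mem_autInducedBy.mp (hbc _ (Subgroup.mem_zpowers _))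
    obtain ⟨hnN, hnP⟩ := Subgroup.mem_inf.mp hn'
    obtain ⟨ε, hε, hεe⟩ := exists_autInducedBy (K := N) hnN hnP
    have hbinv : ∀ x ∈ P₀, autFun b⁻¹ x = autFun δ⁻¹ x := fun x hx => by
      conv_lhs => rw [← autFun_inv_right δ hx, ← hbδ _ (autFun_mem δ⁻¹ hx)]
      rw [autFun_inv_left b (Subgroup.mem_sup_left (autFun_mem δ⁻¹ hx))]
    have heq : ε = δ * γ * δ⁻¹ := autFun_inj fun x hx => by
      rw [hεe x hx, ← hne x (Subgroup.mem_sup_left hx),
        autFun_mul _ _ (Subgroup.mem_sup_left hx), hbinv x hx,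
        autFun_mul _ _ (Subgroup.mem_sup_left (autFun_mem δ⁻¹ hx)),
        hres j _ (autFun_mem δ⁻¹ hx), hγj, hbδ _ (autFun_mem γ (autFun_mem δ⁻¹ hx)),
        autFun_mul _ _ hx, autFun_mul _ _ (autFun_mem δ⁻¹ hx)]
    exact hγA ((Subgroup.mem_normalizer_iff.mp hδ γ).mpr (heq ▸ hε))
  · refine isReceptive_iff.mpr ⟨hP₀N, fun R f hf hfi => ?_⟩
    obtain ⟨hfF, hRN, -, g, hg, hgf, hgg⟩ := (hE R f).mp hf
    have hgi : img (R ⊔ Q) g = P₀ ⊔ Q := by
      rw [hg.img_sup, img_congr hgf, hfi, c.img_eq (hg.restrict le_sup_right) hgg]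
    set M := nExt N R f with hM
    have hMN : M ≤ N := (nExt_le f).trans normalizerIn_le
    have hMX : ∀ a ∈ M, a ∈ Subgroup.normalizer ((R ⊔ Q : Subgroup Ω) : Set Ω) := fun a ha => by
      rw [Subgroup.mem_normalizer_iff_map_conj_eq]
      show (R ⊔ Q).map (MulAut.conj a).toMonoidHom = R ⊔ Q
      rw [Subgroup.map_sup]
      exact congrArg₂ (· ⊔ ·) (Subgroup.mem_normalizer_iff_map_conj_eq.mp ha.2.1)
        (Subgroup.mem_normalizer_iff_map_conj_eq.mp ((hN a).mp ha.1).2.1)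
    set B := autInducedBy N P₀ with hB
    have hA₀B : A₀ ≤ c.lift (P₀ ⊔ Q) P₀ le_sup_left le_sup_right h1 B := by
      intro δ hδ
      obtain ⟨hδA, hδg, -⟩ := c.mem_lift.mp (hsyl.1 hδ)
      obtain ⟨n, hn', -, hne⟩ := mem_autInducedBy.mp hδ
      obtain ⟨hnN, hnP⟩ := Subgroup.mem_inf.mp hn'
      obtain ⟨ε, hε, hεe⟩ := exists_autInducedBy (K := N) hnN hnP
      exact ⟨hδA, hδg, ε, hε, fun x hx => by rw [hne x (Subgroup.mem_sup_left hx), hεe x hx]⟩
    have hsylB : IsSylIn p A₀ (c.lift (P₀ ⊔ Q) P₀ le_sup_left le_sup_right h1 B) :=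
      ⟨hA₀B, hsyl.2.1, fun C hC hAC hCB => hsyl.2.2 C hC hAC fun δ hδ =>
        let ⟨q1, q2, ε, _, q4⟩ := c.mem_lift.mp (hCB hδ)
        c.mem_lift.mpr ⟨q1, q2, ε, trivial, q4⟩⟩
    obtain ⟨e, he, heA, -⟩ := exists_transport hg hgi
    have hRS : R ⊔ Q ≤ S := hg.le
    set T := (autInducedBy M (R ⊔ Q)).map e.toMonoidHom with hT
    have hTp : IsPGroup p T :=
      (isPGroup_autInducedBy (hS.of_injective _
        (Subgroup.inclusion_injective (hMN.trans hNS)))).map _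
    have hTle : T ≤ c.lift (P₀ ⊔ Q) P₀ le_sup_left le_sup_right h1 B := by
      rintro _ ⟨δ, hδ, rfl⟩
      obtain ⟨a, ha, -, hae⟩ := mem_autInducedBy.mp hδ
      obtain ⟨haN, han, h, hh, hhe⟩ := mem_nExt.mp ha
      obtain ⟨haS, haQ, haG⟩ := (hN a).mp haN
      have hδA : δ ∈ F.autGroup (R ⊔ Q) :=
        (autGroup_eq_set hRS δ).mpr ((isMor_cj F hRS haS).congr fun x hx => (hae x hx).symm)
      have hhn : h ∈ Subgroup.normalizer (P₀ : Set Ω) := by
        rw [Subgroup.mem_normalizer_iff_map_conj_eq]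
        show P₀.map (MulAut.conj h).toMonoidHom = P₀
        rw [← img_cj, ← hfi, hfF.img_comp,
          img_congr (f := cj h ∘ f) (g := f ∘ cj a) (fun x hx => (hhe x hx).symm),
          ← (isMor_cj F hfF.le haS).img_comp, img_cj_of_normalizer han]
      obtain ⟨ε, hε, hεe⟩ := exists_autInducedBy (K := N) hh hhn
      refine ⟨(heA δ).mp hδA, ?_, ε, hε, fun y hy => ?_⟩
      · obtain ⟨k, hk, hkl, hkr, -⟩ := (hg.restrict le_sup_right).inverse
        rw [c.img_eq (hg.restrict le_sup_right) hgg] at hk hkr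
        have hkg := c.inv (hg.restrict le_sup_right) hgg hkl
        refine c.congr (c.comp (c.comp hkg haG) hgg) fun y hy => ?_
        have hky : k y ∈ Q := c.maps hkg y hy
        show g (cj a (k y)) = autFun (e δ) y
        conv_rhs => rw [← hkr y hy]
        rw [he δ _ (Subgroup.mem_sup_right hky), hae _ (Subgroup.mem_sup_right hky)]
      · obtain ⟨x, hx, rfl⟩ := hfF.mem_img.mp (hfi.ge hy)
        have hax : cj a x ∈ R := (Subgroup.mem_normalizer_iff.mp han x).mp hx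
        rw [hεe _ hy, ← hhe x hx, ← hgf x hx]
        show autFun (e δ) (g x) = f (cj a x)
        rw [he δ x (Subgroup.mem_sup_left hx), hae x (Subgroup.mem_sup_left hx), hgf _ hax]
    obtain ⟨b, hb, hbc⟩ := hsylB.exists_conj_le hTp hTle
    obtain ⟨hbA, hbg, ε, hε, hbε⟩ := c.mem_lift.mp hb
    obtain ⟨n, hn, hnP, hne⟩ := mem_autInducedBy.mp hε
    obtain ⟨hnS, hnQ, hnG⟩ := (hN n).mp hn
    have hnX : n ∈ Subgroup.normalizer ((P₀ ⊔ Q : Subgroup Ω) : Set Ω) := by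
      rw [Subgroup.mem_normalizer_iff_map_conj_eq]
      show (P₀ ⊔ Q).map (MulAut.conj n).toMonoidHom = P₀ ⊔ Q
      rw [Subgroup.map_sup]
      exact congrArg₂ (· ⊔ ·) (Subgroup.mem_normalizer_iff_map_conj_eq.mp hnP)
        (Subgroup.mem_normalizer_iff_map_conj_eq.mp hnQ)
    have hnGi : c.Good (cj n⁻¹) := c.inv (isMor_cj F c.le hnS) hnG fun x _ => cj_inv_cj n x
    have hgX : ∀ x ∈ R ⊔ Q, g x ∈ P₀ ⊔ Q := fun x hx => hgi ▸ mem_img_of_mem g hx
    -- the corrected extension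
    set g' := cj n⁻¹ ∘ autFun b ∘ g with hg'def
    have hg' : IsMor F (R ⊔ Q) g' :=
      (hg.comp (isMor_autFun h1 hbA) hgX).comp (isMor_cj F h1 (inv_mem hnS))
        (fun x hx => autFun_mem b (hgX x hx))
    have hg'R : ∀ x ∈ R, g' x = f x := fun x hx => by
      have hfx : f x ∈ P₀ := hfi ▸ mem_img_of_mem f hx
      show cj n⁻¹ (autFun b (g x)) = f x
      rw [hgf x hx, hbε _ hfx, hne _ hfx, cj_inv_cj]
    have hg'g : c.Good g' := c.comp (c.comp hgg hbg) hnGi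
    have hg'i : img (R ⊔ Q) g' = P₀ ⊔ Q := by
      rw [hg'.img_sup, img_congr hg'R, hfi, c.img_eq (hg'.restrict le_sup_right) hg'g]
    have hMle : M ⊔ Q ≤ nExt S (R ⊔ Q) g' := by
      refine sup_le (fun a ha => ?_) (le_sup_right.trans (le_nExt hg'))
      obtain ⟨δ, hδ, hδe⟩ := exists_autInducedBy (K := M) ha (hMX a ha)
      obtain ⟨l, hl, -, hle⟩ := mem_autInducedBy.mp (hbc _ ⟨δ, hδ, rfl⟩)
      refine ⟨hNS (hMN ha), hMX a ha, n⁻¹ * l * n,
        S.mul_mem (S.mul_mem (inv_mem hnS) (hNS (Subgroup.mem_inf.mp hl).1)) hnS, fun x hx => ?_⟩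
      have h2 := hle _ (autFun_mem b (hgX x hx))
      rw [autFun_mul _ _ (autFun_mem b (hgX x hx)), autFun_inv_left b (hgX x hx),
        autFun_mul _ _ (hgX x hx)] at h2
      show cj n⁻¹ (autFun b (g (cj a x))) = cj (n⁻¹ * l * n) (cj n⁻¹ (autFun b (g x)))
      rw [← hδe x hx, ← he δ x hx, cj_mul, cj_mul, cj_cj_inv]
      exact congrArg (cj n⁻¹) h2
    obtain ⟨K, hK, hKg⟩ := (isReceptive_iff.mp hrecX).2 _ g' hg' hg'i
    have hKM := hK.restrict hMle
    have hKgood : c.Good K := c.congr hg'g fun x hx => (hKg x (Subgroup.mem_sup_right hx)).symm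
    have hKQ := c.img_eq (hKM.restrict le_sup_right) hKgood
    refine ⟨K, (hE M K).mpr ⟨hKM.restrict le_sup_left, hMN, fun a ha => ?_, K, hKM, fun _ _ => rfl,
      hKgood⟩, fun x hx => (hKg x (Subgroup.mem_sup_left hx)).trans (hg'R x hx)⟩
    obtain ⟨haS, haQ, haG⟩ := (hN a).mp (hMN ha)
    have hcl : ∀ y ∈ Q, cj (K a) (K y) = K (cj a y) := fun y hy =>
      (hKM.map_conj (Subgroup.mem_sup_left ha) (Subgroup.mem_sup_right hy)).symm
    have hKa := hKM.mem (Subgroup.mem_sup_left ha)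
    have hgc : c.Good (cj (K a)) := by
      obtain ⟨k, hk, hkl, hkr, -⟩ := (hKM.restrict le_sup_right).inverse
      rw [hKQ] at hk hkr
      have hkg := c.inv (hKM.restrict le_sup_right) hKgood hkl
      refine c.congr (c.comp (c.comp hkg haG) hKgood) fun y hy => ?_
      show K (cj a (k y)) = cj (K a) y
      rw [← hcl _ (c.maps hkg y hy), hkr y hy]
    refine (hN _).mpr ⟨hKa, ?_, hgc⟩
    rw [Subgroup.mem_normalizer_iff_map_conj_eq]
    show Q.map (MulAut.conj (K a)).toMonoidHom = Q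
    rw [← img_cj]
    exact c.img_eq (isMor_cj F c.le hKa) hgc

theorem isMor_normalizerSystem {E : FusionSystem (normalizerIn S Q)}
    (hE : F.IsNormalizerSystem Q E) {P : Subgroup Ω} {f : Ω → Ω} :
    IsMor E P f ↔ IsMor F P f ∧ P ≤ normalizerIn S Q ∧ (∀ x ∈ P, f x ∈ normalizerIn S Q) ∧
      ∃ g, IsMor F (P ⊔ Q) g ∧ (∀ x ∈ P, g x = f x) ∧ img Q g = Q := by
  constructor
  · rintro ⟨φ, hφ, e⟩
    rw [hE P] at hφ
    obtain ⟨h1, h2, h3, g, hg, hge, hgQ⟩ := mem_normalizerHom.mp hφ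
    have e' : ∀ x ∈ P, toFun φ x = f x := fun x hx => (toFun_of_mem φ hx).trans (e _)
    exact ⟨h1.congr e', h2, fun x hx => e' x hx ▸ h3 x hx, g, hg,
      fun x hx => (hge x hx).trans (e' x hx), hgQ⟩
  · rintro ⟨h1, h2, h3, g, hg, hge, hgQ⟩
    obtain ⟨φ, hφ, e⟩ := id h1
    have e' : ∀ x ∈ P, toFun φ x = f x := fun x hx => (toFun_of_mem φ hx).trans (e _)
    refine ⟨φ, ?_, e⟩
    rw [hE P]
    exact mem_normalizerHom.mpr ⟨h1.congr fun x hx => (e' x hx).symm, h2,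
      fun x hx => (e' x hx).symm ▸ h3 x hx, g, hg,
      fun x hx => (hge x hx).trans (e' x hx).symm, hgQ⟩

theorem isMor_centralizerSystem {E : FusionSystem (centralizerIn S Q)}
    (hE : F.IsCentralizerSystem Q E) {P : Subgroup Ω} {f : Ω → Ω} :
    IsMor E P f ↔ IsMor F P f ∧ P ≤ centralizerIn S Q ∧ (∀ x ∈ P, f x ∈ centralizerIn S Q) ∧
      ∃ g, IsMor F (P ⊔ Q) g ∧ (∀ x ∈ P, g x = f x) ∧ ∀ x ∈ Q, g x = x := by
  constructor
  · rintro ⟨φ, hφ, e⟩
    rw [hE P] at hφ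
    obtain ⟨h1, h2, h3, g, hg, hge, hgQ⟩ := mem_centralizerHom.mp hφ
    have e' : ∀ x ∈ P, toFun φ x = f x := fun x hx => (toFun_of_mem φ hx).trans (e _)
    exact ⟨h1.congr e', h2, fun x hx => e' x hx ▸ h3 x hx, g, hg,
      fun x hx => (hge x hx).trans (e' x hx), hgQ⟩
  · rintro ⟨h1, h2, h3, g, hg, hge, hgQ⟩
    obtain ⟨φ, hφ, e⟩ := id h1
    have e' : ∀ x ∈ P, toFun φ x = f x := fun x hx => (toFun_of_mem φ hx).trans (e _)
    refine ⟨φ, ?_, e⟩
    rw [hE P]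
    exact mem_centralizerHom.mpr ⟨h1.congr fun x hx => (e' x hx).symm, h2,
      fun x hx => (e' x hx).symm ▸ h3 x hx, g, hg,
      fun x hx => (hge x hx).trans (e' x hx).symm, hgQ⟩

theorem normalizerSystem_isSaturated [Finite S] (hS : IsPGroup p S) (hF : F.IsSaturated p)
    (hQ : F.IsFullyNormalized Q) {E : FusionSystem (normalizerIn S Q)}
    (hE : F.IsNormalizerSystem Q E) : E.IsSaturated p := by
  let c : MapCond F Q :=
    { Good := fun g => ∀ x ∈ Q, g x ∈ Q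
      le := hQ.1
      congr := fun h e x hx => e x hx ▸ h x hx
      id' := fun x hx => hx
      maps := fun h => h
      comp := fun h h' x hx => h' _ (h x hx)
      inv := fun {g g'} hg h e y hy => by
        obtain ⟨x, hx, rfl⟩ := hg.mem_img.mp ((hg.img_eq_self h).ge hy)
        rw [e x hx]
        exact hx }
  have hmem : ∀ a : Ω, a ∈ Subgroup.normalizer (Q : Set Ω) → ∀ x ∈ Q, cj a x ∈ Q :=
    fun a ha x hx => (Subgroup.mem_normalizer_iff.mp ha x).mp hx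
  refine c.isSaturated hS hF E
    (fun a => ⟨fun h => ⟨(mem_normalizerIn.mp h).1, (mem_normalizerIn.mp h).2,
      hmem a (mem_normalizerIn.mp h).2⟩, fun h => mem_normalizerIn.mpr ⟨h.1, h.2.1⟩⟩)
    (fun P f => ?_) fun φ hφ => ?_
  · rw [isMor_normalizerSystem hE]
    refine and_congr_right fun _ => and_congr_right fun _ => and_congr_right fun _ =>
      exists_congr fun g => and_congr_right fun hg => and_congr_right fun _ => ⟨fun h x hx =>
        h.le (mem_img_of_mem g hx), fun h => (hg.restrict le_sup_right).img_eq_self h⟩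
  · obtain ⟨g, hg, hgi, -⟩ := exists_map_fullyNormalized hS hF hQ
      (isConj_symm (isConj_img hφ) : F.IsConj (img Q φ) Q)
    exact ⟨_, g, hg, le_normalizerIn hφ.img_le,
      fun x hx => hgi.le (mem_img_of_mem g (mem_img_of_mem φ hx)),
      fun h hh hn _ => mem_normalizerIn.mpr ⟨hh, hn⟩⟩

theorem centralizerSystem_isSaturated [Finite S] (hS : IsPGroup p S) (hF : F.IsSaturated p)
    (hQ : F.IsFullyCentralized Q) {E : FusionSystem (centralizerIn S Q)}
    (hE : F.IsCentralizerSystem Q E) : E.IsSaturated p := by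
  let c : MapCond F Q :=
    { Good := fun g => ∀ x ∈ Q, g x = x
      le := hQ.1
      congr := fun h e x hx => (e x hx).symm.trans (h x hx)
      id' := fun x _ => rfl
      maps := fun h x hx => (h x hx).symm ▸ hx
      comp := fun {g g'} h h' x hx => by rw [Function.comp_apply, h x hx, h' x hx]
      inv := fun {g g'} _ h e x hx => by
        conv_lhs => rw [← h x hx]
        exact e x hx }
  refine c.isSaturated hS hF E (fun a => ?_) (fun P f => isMor_centralizerSystem hE) fun φ hφ => ?_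
  · constructor
    · intro h
      exact ⟨(mem_centralizerIn.mp h).1,
        (mem_normalizerIn.mp (centralizerIn_le_normalizerIn h)).2, (mem_centralizerIn.mp h).2⟩
    · exact fun h => mem_centralizerIn.mpr ⟨h.1, h.2.2⟩
  · obtain ⟨k, hk, hkl, -, hki⟩ := hφ.inverse
    obtain ⟨g, hg, hge, -⟩ :=
      exists_map_centralizer (isReceptive_of_centralized hS hF hQ) hk hki
    refine ⟨_, g, hg, le_sup_right,
      fun x hx => (hge _ (mem_img_of_mem φ hx)).trans (hkl x hx), fun h hh _ hk' => ?_⟩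
    obtain ⟨k', hk', he⟩ := hk'
    refine Subgroup.mem_sup_left (mem_centralizerIn.mpr ⟨hh, fun y hy => ?_⟩)
    obtain ⟨x, hx, rfl⟩ := hφ.mem_img.mp hy
    rw [he x hx, hk' x hx]

end CfsgLib.Fusion
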