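import Mathlib
import Cfsg.Agent.Lib.Fusion.NormalizerSaturated
import Cfsg.Agent.Lib.Fusion.ModelProps
import Cfsg.Agent.Lib.Fusion.ModelExists
import Cfsg.Agent.Lib.Fusion.ModelUnique
import Cfsg.Agent.Lib.Fusion.Coprime
import Cfsg.Agent.S5096

/-! Models of normalizer subsystems embed in models of the ambient system. -/
set_option autoImplicit false

universe u

namespace CfsgLib.Fusion

open Cfsg Cfsg.FusionSystem

variable {Ω : Type u} [Group Ω] {S : Subgroup Ω} [Finite S] {F : FusionSystem S} {p : ℕ}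
  [hp : Fact p.Prime]

/-- In the normalizer system of a centric subgroup this subgroup is normal and centric. -/
theorem normalizerSystem_isNormal {X : Subgroup Ω} (hXS : X ≤ S)
    {E : FusionSystem (normalizerIn S X)} (hE : F.IsNormalizerSystem X E) : E.IsNormal X := by
  have hXN : X ≤ normalizerIn S X := le_normalizerIn hXS
  refine isNormal_iff.mpr ⟨hXN, fun P f hf => ?_⟩
  obtain ⟨-, hP, hPN, g, hg, hgf, hgX⟩ := (isMor_normalizerSystem hE).mp hf
  refine ⟨g, (isMor_normalizerSystem hE).mpr ⟨hg, sup_le hP hXN, fun x hx => ?_, g, ?_,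
    fun _ _ => rfl, hgX⟩, hgf, hgX⟩
  · have h1 := mem_img_of_mem g hx
    rw [hg.img_sup, hgX] at h1
    exact sup_le (img_le fun y hy => hgf y hy ▸ hPN y hy) hXN h1
  · rwa [sup_assoc, sup_idem]

theorem normalizerSystem_isCentric {X : Subgroup Ω} (hXc : F.IsCentric X)
    {E : FusionSystem (normalizerIn S X)} (hE : F.IsNormalizerSystem X E) : E.IsCentric X := by
  have : Finite ↥(normalizerIn S X) := finite_of_le normalizerIn_le
  refine ⟨le_normalizerIn hXc.1, fun U hU => ?_⟩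
  obtain ⟨f, hf, rfl⟩ := isConj_iff.mp hU
  rw [hf.img_eq_self fun x hx => (stronglyClosed_iff.mp
    (isNormal_stronglyClosed (normalizerSystem_isNormal hXc.1 hE))).2 _ f hf x hx hx]
  intro x hx
  obtain ⟨hxN, hxc⟩ := mem_centralizerIn.mp hx
  exact hXc.2 X (isConj_refl F hXc.1) (mem_centralizerIn.mpr ⟨normalizerIn_le hxN, hxc⟩)

theorem normalizerSystem_isConstrained (hS : IsPGroup p S) (hF : F.IsSaturated p) {X : Subgroup Ω}
    (hXn : F.IsFullyNormalized X) (hXc : F.IsCentric X) {E : FusionSystem (normalizerIn S X)}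
    (hE : F.IsNormalizerSystem X E) : E.IsConstrained p :=
  ⟨normalizerSystem_isSaturated hS hF hXn hE, X, normalizerSystem_isNormal hXn.1 hE,
    normalizerSystem_isCentric hXc hE⟩

/-- The action of a model on a normal subgroup of the system. -/
theorem exists_normalHom {G : Type*} [Group G] {M : Subgroup Ω} [Finite M] {D : FusionSystem M}
    {ι : M →* G} (h : D.IsModel p G ι) {X : Subgroup Ω} (hX : D.IsNormal X) :
    ∃ π : G →* MulAut X, ∀ (g : G) (a : X),
      ι ⟨π g a, hX.1 (π g a).2⟩ = g * ι ⟨a, hX.1 a.2⟩ * g⁻¹ := by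
  choose act hact hacte using fun (g : G) (a : X) =>
    model_normal_of_isNormal h hX (g := g) (a := ⟨a, hX.1 a.2⟩) a.2
  let e : G → X → X := fun g a => ⟨act g a, hact g a⟩
  have he : ∀ g a, ι ⟨e g a, hX.1 (e g a).2⟩ = g * ι ⟨a, hX.1 a.2⟩ * g⁻¹ := hacte
  have hinj : ∀ a b : X, ι ⟨a, hX.1 a.2⟩ = ι ⟨b, hX.1 b.2⟩ → a = b := fun a b hab =>
    Subtype.ext (congrArg (fun s : M => (s : Ω)) (h.2.1.1 hab))
  have hmul : ∀ g k a, e (g * k) a = e g (e k a) := fun g k a => hinj _ _ (by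
    rw [he, he, he]; group)
  have hone : ∀ a, e 1 a = a := fun a => hinj _ _ (by rw [he]; group)
  let π₀ : G →* MulAut X := MonoidHom.mk' (fun g =>
    { toFun := e g
      invFun := e g⁻¹
      left_inv := fun a => by rw [← hmul, inv_mul_cancel, hone]
      right_inv := fun a => by rw [← hmul, mul_inv_cancel, hone]
      map_mul' := fun a b => hinj _ _ (by
        rw [he, show (⟨((a * b : X) : Ω), hX.1 (a * b).2⟩ : M) =
            ⟨a, hX.1 a.2⟩ * ⟨b, hX.1 b.2⟩ from rfl,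
          show (⟨((e g a * e g b : X) : Ω), hX.1 (e g a * e g b).2⟩ : M) =
            ⟨e g a, hX.1 (e g a).2⟩ * ⟨e g b, hX.1 (e g b).2⟩ from rfl, map_mul, map_mul, he, he]
        group) })
    fun g k => MulEquiv.ext fun a => hmul g k a
  exact ⟨π₀, he⟩

variable {Q : Subgroup Ω}

/-- A model of the normalizer of a centric subgroup in a system cut out by a condition on `Q`
embeds in the model of a fully normalized centric conjugate of `R Q`. -/
theorem MapCond.exists_model_embedding_conj (hS : IsPGroup p S) (hF : F.IsSaturated p) (c : MapCond F Q)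
    {N : Subgroup Ω} {E : FusionSystem N}
    (hN : ∀ a, a ∈ N ↔ a ∈ S ∧ a ∈ Subgroup.normalizer (Q : Set Ω) ∧ c.Good (cj a))
    (hE : ∀ P f, IsMor E P f ↔ IsMor F P f ∧ P ≤ N ∧ (∀ x ∈ P, f x ∈ N) ∧
      ∃ g, IsMor F (P ⊔ Q) g ∧ (∀ x ∈ P, g x = f x) ∧ c.Good g)
    (hrec : ∀ φ : Ω → Ω, IsMor F Q φ → ∃ (D : Subgroup Ω) (g : Ω → Ω), IsMor F D g ∧
      img Q φ ≤ D ∧ c.Good (g ∘ φ) ∧
      ∀ h ∈ S, h ∈ Subgroup.normalizer (img Q φ : Set Ω) →
        (∃ k, c.Good k ∧ ∀ x ∈ Q, cj h (φ x) = φ (k x)) → h ∈ D)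
    (hQN : Q ≤ N) {R : Subgroup Ω} (hR : E.IsFullyNormalized R) (hRc : E.IsCentric R)
    {NE : FusionSystem (normalizerIn N R)} (hNE : E.IsNormalizerSystem R NE)
    {L : Type*} [Group L] {ι : ↥(normalizerIn N R) →* L} (hL : NE.IsModel p L ι) :
    ∃ (X : Subgroup Ω) (N' : FusionSystem (normalizerIn S X)) (L' : Type u) (_ : Group L')
      (ι' : ↥(normalizerIn S X) →* L'), F.IsConj (R ⊔ Q) X ∧ F.IsFullyNormalized X ∧ F.IsCentric X ∧
        F.IsNormalizerSystem X N' ∧ N'.IsModel p L' ι' ∧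
        ∃ f : L →* L', Function.Injective f := by
  classical
  have hNS : N ≤ S := fun a ha => ((hN a).mp ha).1
  have hRN : R ≤ N := hR.1
  have hRS : R ≤ S := hRN.trans hNS
  have hXS : R ⊔ Q ≤ S := sup_le hRS c.le
  have := finite_of_le (P := R ⊔ Q) hXS
  -- elements transported into `N`
  have hback : ∀ (φ g : Ω → Ω) (D : Subgroup Ω), IsMor F Q φ → IsMor F D g → img Q φ ≤ D →
      c.Good (g ∘ φ) → ∀ h ∈ D, h ∈ Subgroup.normalizer (img Q φ : Set Ω) →
      ∀ k, c.Good k → (∀ x ∈ Q, cj h (φ x) = φ (k x)) → g h ∈ N := by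
    intro φ g D hφ hg hQD hgood h hh hhn k hk hke
    have hgφ : IsMor F Q (g ∘ φ) := hφ.comp hg fun x hx => hQD (mem_img_of_mem φ hx)
    have hi : img Q (g ∘ φ) = Q := c.img_eq hgφ hgood
    obtain ⟨l, hl, hle, -, -⟩ := hgφ.inverse
    rw [hi] at hl
    have hlg : c.Good l := c.inv hgφ hgood hle
    have key : ∀ y ∈ Q, cj (g h) y = (g ∘ φ) (k (l y)) := fun y hy => by
      obtain ⟨x, hx, rfl⟩ := hgφ.mem_img.mp (hi.ge hy)
      rw [hle x hx, Function.comp_apply, Function.comp_apply, ← hke x hx]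
      exact (hg.map_conj hh (hQD (mem_img_of_mem φ hx))).symm
    have hgc : c.Good (cj (g h)) :=
      c.congr (c.comp (c.comp hlg hk) hgood) fun y hy => (key y hy).symm
    refine (hN _).mpr ⟨hg.mem hh, ?_, hgc⟩
    rw [Subgroup.mem_normalizer_iff_map_conj_eq]
    show Q.map (MulAut.conj (g h)).toMonoidHom = Q
    rw [← img_cj]
    exact c.img_eq (isMor_cj F c.le (hg.mem hh)) hgc
  have hcentN : centralizerIn S Q ≤ N := fun a ha => by
    obtain ⟨haS, hac⟩ := mem_centralizerIn.mp ha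
    exact (hN a).mpr ⟨haS, (mem_normalizerIn.mp (centralizerIn_le_normalizerIn ha)).2,
      c.congr c.id' fun x hx => (hac x hx).symm⟩
  -- elements of `φ(R)` satisfy the condition
  have hRcond : ∀ φ, IsMor F (R ⊔ Q) φ → ∀ y ∈ img R φ, y ∈ S ∧
      y ∈ Subgroup.normalizer (img Q φ : Set Ω) ∧
      ∃ k, c.Good k ∧ ∀ x ∈ Q, cj y (φ x) = φ (k x) := by
    intro φ hφ y hy
    obtain ⟨r, hr, rfl⟩ := (hφ.restrict le_sup_left).mem_img.mp hy
    obtain ⟨-, hrn, hrg⟩ := (hN r).mp (hRN hr)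
    have hrr : Subgroup.zpowers r ⊔ Q ≤ R ⊔ Q := sup_le_sup_right (Subgroup.zpowers_le.mpr hr) Q
    have hc1 : ∀ x ∈ Q, cj (φ r) (φ x) = φ (cj r x) := fun x hx =>
      (hφ.map_conj (Subgroup.mem_sup_left hr) (Subgroup.mem_sup_right hx)).symm
    refine ⟨hφ.mem (Subgroup.mem_sup_left hr), ?_, cj r, hrg, hc1⟩
    rw [Subgroup.mem_normalizer_iff_map_conj_eq]
    show (img Q φ).map (MulAut.conj (φ r)).toMonoidHom = img Q φ
    rw [← img_cj, (hφ.restrict le_sup_right).img_comp,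
      img_congr (f := cj (φ r) ∘ φ) (g := φ ∘ cj r) hc1,
      ← (isMor_cj F c.le (hRS hr)).img_comp, img_cj_of_normalizer hrn]
  have hconj : ∀ φ, IsMor F (R ⊔ Q) φ → ∃ (D : Subgroup Ω) (g : Ω → Ω), IsMor F D g ∧
      img (R ⊔ Q) φ ≤ D ∧ c.Good (g ∘ φ) ∧ IsMor E R (g ∘ φ) ∧
      ∀ h ∈ S, h ∈ Subgroup.normalizer (img Q φ : Set Ω) →
        (∃ k, c.Good k ∧ ∀ x ∈ Q, cj h (φ x) = φ (k x)) → h ∈ D ∧ g h ∈ N := by
    intro φ hφ
    obtain ⟨D, g, hg, hQD, hgood, hD⟩ := hrec φ (hφ.restrict le_sup_right)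
    have hRD : img R φ ≤ D := fun y hy => by
      obtain ⟨h1, h2, h3⟩ := hRcond φ hφ y hy
      exact hD y h1 h2 h3
    have hXD : img (R ⊔ Q) φ ≤ D := by rw [hφ.img_sup]; exact sup_le hRD hQD
    have hgφ : IsMor F (R ⊔ Q) (g ∘ φ) := hφ.comp hg fun x hx => hXD (mem_img_of_mem φ hx)
    refine ⟨D, g, hg, hXD, hgood, (hE R _).mpr ⟨hgφ.restrict le_sup_left, hRN, fun x hx => ?_,
      g ∘ φ, hgφ, fun _ _ => rfl, hgood⟩, fun h h1 h2 h3 => ⟨hD h h1 h2 h3, ?_⟩⟩
    · obtain ⟨h1, h2, k, hk, hke⟩ := hRcond φ hφ _ (mem_img_of_mem φ hx)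
      exact hback φ g D (hφ.restrict le_sup_right) hg hQD hgood _
        (hRD (mem_img_of_mem φ hx)) h2 k hk hke
    · obtain ⟨k, hk, hke⟩ := h3
      exact hback φ g D (hφ.restrict le_sup_right) hg hQD hgood h (hD h h1 h2 ⟨k, hk, hke⟩) h2 k hk
        hke
  -- `R Q` is centric
  have hXc : F.IsCentric (R ⊔ Q) := by
    refine ⟨hXS, fun U hU => ?_⟩
    obtain ⟨φ, hφ, rfl⟩ := isConj_iff.mp hU
    obtain ⟨D, g, hg, hXD, hgood, hgE, hD⟩ := hconj φ hφ
    intro z hz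
    obtain ⟨hzS, hzc⟩ := mem_centralizerIn.mp hz
    have hQU : img Q φ ≤ img (R ⊔ Q) φ := img_mono φ le_sup_right
    obtain ⟨hzD, hgz⟩ := hD z hzS
      (centralizer_le_normalizer _ (Subgroup.mem_centralizer_iff.mpr fun y hy =>
        (cj_fixed_iff.mp (hzc y (hQU hy))).symm))
      ⟨id, c.id', fun x hx => hzc _ (hQU (mem_img_of_mem φ hx))⟩
    have hm : g z ∈ centralizerIn N (img R (g ∘ φ)) := by
      refine mem_centralizerIn.mpr ⟨hgz, fun y hy => ?_⟩
      obtain ⟨x, hx, rfl⟩ := hgE.mem_img.mp hy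
      have h5 : φ x ∈ img (R ⊔ Q) φ := mem_img_of_mem φ (Subgroup.mem_sup_left hx)
      show cj (g z) (g (φ x)) = g (φ x)
      rw [show cj (g z) (g (φ x)) = g (cj z (φ x)) from (hg.map_conj hzD (hXD h5)).symm]
      exact congrArg g (hzc _ h5)
    obtain ⟨x, hx, hxe⟩ := hgE.mem_img.mp (hRc.2 _ (isConj_img hgE) hm)
    have h6 : φ x ∈ img (R ⊔ Q) φ := mem_img_of_mem φ (Subgroup.mem_sup_left hx)
    rwa [← hg.inj (hXD h6) hzD hxe]
  -- the model of a fully normalized conjugate of `R Q`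
  obtain ⟨X, hX, hXn⟩ := exists_fullyNormalized F hXS
  obtain ⟨α, hα, hαi, hαN⟩ := exists_map_fullyNormalized hS hF hXn hX
  have hXc' : F.IsCentric X := centric_of_isConj hXc hX
  obtain ⟨N', hN'⟩ := Cfsg.Agent.S5096.result F X hXn.1
  have hcon := normalizerSystem_isConstrained hS hF hXn hXc' hN'
  have : Finite ↥(normalizerIn S X) := finite_of_le normalizerIn_le
  obtain ⟨L', _, ι', hL'⟩ := exists_model (hS.of_injective _ (Subgroup.inclusion_injective
    normalizerIn_le)) hcon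
  have := hL'.1
  refine ⟨X, N', L', inferInstance, ι', hX, hXn, hXc', hN', hL', ?_⟩
  have hfinM : Finite ↥(normalizerIn N R) := finite_of_le (normalizerIn_le.trans hNS)
  have hMN : (normalizerIn N R) ≤ N := normalizerIn_le
  have hMX : (normalizerIn N R) ≤ normalizerIn S (R ⊔ Q) := fun a ha => by
    obtain ⟨haN, haR⟩ := mem_normalizerIn.mp ha
    obtain ⟨haS, haQ, -⟩ := (hN a).mp haN
    refine mem_normalizerIn.mpr ⟨haS, ?_⟩
    rw [Subgroup.mem_normalizer_iff_map_conj_eq] at haR haQ ⊢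
    rw [Subgroup.map_sup, haR, haQ]
  have hXN : R ⊔ Q ≤ normalizerIn S (R ⊔ Q) := le_normalizerIn hXS
  have hαmem : ∀ x ∈ normalizerIn S (R ⊔ Q), α x ∈ normalizerIn S X := fun x hx =>
    hαN (mem_img_of_mem α hx)
  let A : ↥(normalizerIn S (R ⊔ Q)) →* ↥(normalizerIn S X) :=
    MonoidHom.mk' (fun x => ⟨α x, hαmem x x.2⟩) fun x y => Subtype.ext (hα.map_mul x.2 y.2)
  have hAinj : Function.Injective A := fun x y e =>
    Subtype.ext (hα.inj x.2 y.2 (congrArg Subtype.val e))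
  let j : ↥(normalizerIn S (R ⊔ Q)) →* L' := ι'.comp A
  have hj : Function.Injective j := hL'.2.1.1.comp hAinj
  have hnX := normalizerSystem_isNormal hXn.1 hN'
  obtain ⟨π, hπ⟩ := exists_normalHom hL' hnX
  obtain ⟨αi, hαi', hαl, -, -⟩ := hα.inverse
  have hαX : ∀ a ∈ R ⊔ Q, α a ∈ X := fun a ha => hαi ▸ mem_img_of_mem α ha
  have hXimg : ∀ y ∈ X, αi y ∈ R ⊔ Q ∧ α (αi y) = y := by
    intro y hy
    obtain ⟨a, ha, rfl⟩ := (hα.restrict hXN).mem_img.mp (hαi.ge hy)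
    rw [hαl a (hXN ha)]
    exact ⟨ha, rfl⟩
  -- the action of the model on `R Q`
  let π₁ : L' →* MulAut ↥(R ⊔ Q) :=
    (MulAut.congr
      ({ toFun := fun y => ⟨αi y, (hXimg y y.2).1⟩
         invFun := fun a => ⟨α a, hαX a a.2⟩
         left_inv := fun y => Subtype.ext (hXimg y y.2).2
         right_inv := fun a => Subtype.ext (hαl a (hXN a.2))
         map_mul' := fun y z => Subtype.ext (hαi'.map_mul
           (img_mono α hXN (hαi.ge y.2)) (img_mono α hXN (hαi.ge z.2))) } :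
        ↥X ≃* ↥(R ⊔ Q))).toMonoidHom.comp π
  have hπ₁ : ∀ (l : L') (a : ↥(R ⊔ Q)),
      j (Subgroup.inclusion hXN (π₁ l a)) = l * j (Subgroup.inclusion hXN a) * l⁻¹ := by
    intro l a
    refine (congrArg ι' (Subtype.ext ?_)).trans (hπ l ⟨α a, hαX a a.2⟩)
    exact (hXimg _ (π l ⟨α a, hαX a a.2⟩).2).2
  let H : Subgroup L' :=
    (c.lift (R ⊔ Q) R le_sup_left le_sup_right hXS ⊤).comap π₁
  have haut : ∀ l, π₁ l ∈ F.autGroup (R ⊔ Q) := by
    intro l
    have hgood : ∀ b : ↥(normalizerIn S X), (b : Ω) ∈ X → l * ι' b * l⁻¹ ∈ ι'.range :=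
      fun b hb => ⟨_, hπ l ⟨b, hb⟩⟩
    obtain ⟨hk, hki⟩ := isMor_pullConj hL'.2.1 (le_normalizerIn hXn.1) hgood
    have hkF := ((isMor_normalizerSystem hN').mp hk).1
    have hkv : ∀ a : ↥(R ⊔ Q), pullConj ι' l (α a) = α (π₁ l a) := fun a => by
      obtain ⟨b, hb, hbe⟩ := pullConj_spec ι' (hgood ⟨α a, hαmem a (hXN a.2)⟩ (hαX a a.2))
      rw [← hb]
      exact congrArg Subtype.val (hL'.2.1.1 (a₁ := b) (a₂ := A (Subgroup.inclusion hXN (π₁ l a)))
        (hbe.trans (hπ₁ l a).symm))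
    have hXk : ∀ a ∈ R ⊔ Q, pullConj ι' l (α a) ∈ img (normalizerIn S (R ⊔ Q)) α := fun a ha => by
      rw [hkv ⟨a, ha⟩]; exact mem_img_of_mem α (hXN (π₁ l ⟨a, ha⟩).2)
    refine (autGroup_eq_set hXS _).mpr ((((hα.restrict hXN).comp hkF fun a ha => hαX a ha).comp
      hαi' hXk).congr fun a ha => ?_)
    show αi (pullConj ι' l (α a)) = _
    rw [hkv ⟨a, ha⟩, hαl _ (hXN (π₁ l ⟨a, ha⟩).2), autFun_of_mem _ ha]
  have hmemH : ∀ l, l ∈ H ↔ c.Good (autFun (π₁ l)) ∧ ∀ x ∈ R, autFun (π₁ l) x ∈ R := by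
    intro l
    refine ⟨fun ⟨_, hg, γ, _, he⟩ => ⟨hg, fun x hx => he x hx ▸ autFun_mem γ hx⟩,
      fun ⟨hg, hR'⟩ => ⟨haut l, hg, ?_⟩⟩
    have hm := (isMor_autFun hXS (haut l)).restrict (le_sup_left : R ≤ R ⊔ Q)
    obtain ⟨γ, -, hγ⟩ := exists_aut hm (hm.img_eq_self hR')
    exact ⟨γ, trivial, fun x hx => (hγ x hx).symm⟩
  have hjconj : ∀ (a : ↥(normalizerIn S (R ⊔ Q))), ∀ x ∈ R ⊔ Q,
      autFun (π₁ (j a)) x = cj (a : Ω) x := by
    intro a x hx
    rw [autFun_of_mem _ hx]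
    have h1 := hπ₁ (j a) ⟨x, hx⟩
    rw [← map_inv, ← map_mul, ← map_mul] at h1
    exact congrArg Subtype.val (hj h1)
  have hjH : ∀ a : (normalizerIn N R), j (Subgroup.inclusion hMX a) ∈ H := by
    intro a
    obtain ⟨haN, haR⟩ := mem_normalizerIn.mp a.2
    refine (hmemH _).mpr ⟨c.congr ((hN _).mp haN).2.2 fun x hx =>
      (hjconj (Subgroup.inclusion hMX a) x (Subgroup.mem_sup_right hx)).symm, fun x hx => ?_⟩
    rw [hjconj _ x (Subgroup.mem_sup_left hx)]
    exact (Subgroup.mem_normalizer_iff.mp haR x).mp hx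
  let κ : (normalizerIn N R) →* H := (j.comp (Subgroup.inclusion hMX)).codRestrict H hjH
  have hκ : Function.Injective κ := fun a b e =>
    Subgroup.inclusion_injective hMX (hj (congrArg Subtype.val e))
  -- `κ` realizes the normalizer system
  have hreal : NE.IsRealizedBy κ := by
    refine ⟨hκ, fun P hP φ hφ => ⟨fun hm => ?_, ?_⟩⟩
    · obtain ⟨-, -, -, g, hg, hgf, hgR⟩ := (isMor_normalizerSystem hNE).mp (isMor_of_mem hm)
      obtain ⟨-, hPR, hgN, g', hg', hg'g, hg'Q⟩ := (hE _ _).mp hg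
      have hd : P ⊔ (R ⊔ Q) ≤ P ⊔ R ⊔ Q := (sup_assoc P R Q).ge
      have hPX : P ⊔ (R ⊔ Q) ≤ normalizerIn S (R ⊔ Q) := sup_le (hP.trans hMX) hXN
      have hXi : img (R ⊔ Q) g' = R ⊔ Q := by
        have h2 := hg'.restrict ((le_sup_right : R ⊔ Q ≤ P ⊔ (R ⊔ Q)).trans hd)
        rw [h2.img_sup, img_congr (fun x hx => hg'g x (Subgroup.mem_sup_right hx)), hgR,
          c.img_eq (h2.restrict le_sup_right) hg'Q]
      have hg'P : ∀ x : P, g' x = φ x := fun x => by
        rw [hg'g x (Subgroup.mem_sup_left x.2), hgf x x.2, toFun_coe]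
      have hmapsN : ∀ x ∈ P ⊔ (R ⊔ Q), g' x ∈ normalizerIn S (R ⊔ Q) := by
        intro x hx
        have h2 := mem_img_of_mem g' hx
        rw [(hg'.restrict hd).img_sup, hXi] at h2
        exact sup_le (img_le fun y hy => hg'P ⟨y, hy⟩ ▸ hMX (hφ _)) hXN h2
      set P' := img (P ⊔ (R ⊔ Q)) α
      have hαP := hα.restrict hPX
      obtain ⟨q, hq, hql, -, hqi⟩ := hαP.inverse
      have hqv : ∀ x ∈ P ⊔ (R ⊔ Q), (α ∘ g' ∘ q) (α x) = α (g' x) := fun x hx => by
        simp [Function.comp_apply, hql x hx]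
      have hk : IsMor F P' (α ∘ g' ∘ q) :=
        ((hq.comp (hg'.restrict hd) fun y hy => hqi ▸ mem_img_of_mem q hy).comp hα fun y hy =>
          hmapsN _ (hqi ▸ mem_img_of_mem q hy))
      have hXP' : X ≤ P' := hαi.ge.trans (img_mono α le_sup_right)
      have hkN : IsMor N' P' (α ∘ g' ∘ q) := by
        refine (isMor_normalizerSystem hN').mpr ⟨hk, (img_mono α hPX).trans hαN, fun y hy => ?_,
          α ∘ g' ∘ q, by rwa [sup_eq_left.mpr hXP'], fun _ _ => rfl, ?_⟩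
        · obtain ⟨x, hx, rfl⟩ := hαP.mem_img.mp hy
          rw [hqv x hx]
          exact hαmem _ (hmapsN x hx)
        · refine (hk.restrict hXP').img_eq_self fun y hy => ?_
          obtain ⟨x, hx, rfl⟩ := (hα.restrict hXN).mem_img.mp (hαi.ge hy)
          rw [hqv x (Subgroup.mem_sup_right hx)]
          exact hαX _ (hXi.le (mem_img_of_mem g' hx))
      obtain ⟨l, hl⟩ := exists_induces hL'.2.1 hkN
      have hlv : ∀ (x : Ω) (hx : x ∈ P ⊔ (R ⊔ Q)),
          j ⟨g' x, hmapsN x hx⟩ = l * j ⟨x, hPX hx⟩ * l⁻¹ := fun x hx =>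
        hl (A ⟨x, hPX hx⟩) (A ⟨g' x, hmapsN x hx⟩) (mem_img_of_mem α hx) (hqv x hx).symm
      have hlπ : ∀ x (hx : x ∈ R ⊔ Q), autFun (π₁ l) x = g' x := fun x hx => by
        rw [autFun_of_mem _ hx]
        have h3 := (hπ₁ l ⟨x, hx⟩).trans (hlv x (Subgroup.mem_sup_right hx)).symm
        exact congrArg Subtype.val (hj h3)
      have hlH : l ∈ H := (hmemH l).mpr ⟨c.congr hg'Q fun x hx =>
        (hlπ x (Subgroup.mem_sup_right hx)).symm, fun x hx => by
          rw [hlπ x (Subgroup.mem_sup_left hx), hg'g x (Subgroup.mem_sup_right hx)]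
          exact hgR.le (mem_img_of_mem g hx)⟩
      refine ⟨⟨l, hlH⟩, fun x => Subtype.ext ?_⟩
      show j _ = l * j _ * l⁻¹
      refine Eq.trans ?_ (hlv x (Subgroup.mem_sup_left x.2))
      exact congrArg j (Subtype.ext (hg'P x).symm)
    · rintro ⟨⟨l, hlH⟩, hl⟩
      obtain ⟨hlQ, hlR⟩ := (hmemH l).mp hlH
      have hl' : ∀ x : P, j (Subgroup.inclusion hMX ⟨φ x, hφ x⟩) =
          l * j (Subgroup.inclusion hMX ⟨x, hP x.2⟩) * l⁻¹ := fun x =>
        congrArg Subtype.val (hl x)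
      have hPX : P ⊔ (R ⊔ Q) ≤ normalizerIn S (R ⊔ Q) := sup_le (hP.trans hMX) hXN
      set P' := img (P ⊔ (R ⊔ Q)) α
      have hαP := hα.restrict hPX
      have hP'N : P' ≤ normalizerIn S X := (img_mono α hPX).trans hαN
      have hvals : ∀ x : ↥(normalizerIn S (R ⊔ Q)), (x : Ω) ∈ P ⊔ (R ⊔ Q) →
          ∃ y : ↥(normalizerIn S (R ⊔ Q)), j y = l * j x * l⁻¹ := by
        intro x hx
        have hsup : (P.subgroupOf (normalizerIn S (R ⊔ Q))) ⊔
            ((R ⊔ Q).subgroupOf (normalizerIn S (R ⊔ Q))) ≤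
            j.range.comap ((MulAut.conj l).toMonoidHom.comp j) :=
          sup_le (fun z hz => ⟨_, hl' ⟨z, hz⟩⟩) fun z hz => ⟨_, hπ₁ l ⟨z, hz⟩⟩
        refine hsup ?_
        rw [← Subgroup.subgroupOf_sup (hP.trans hMX) hXN]
        exact hx
      have hgood : ∀ b : ↥(normalizerIn S X), (b : Ω) ∈ P' → l * ι' b * l⁻¹ ∈ ι'.range := by
        intro b hb
        obtain ⟨x, hx, hxe⟩ := hαP.mem_img.mp hb
        obtain ⟨y, hy⟩ := hvals ⟨x, hPX hx⟩ hx
        rw [show b = A ⟨x, hPX hx⟩ from Subtype.ext hxe.symm]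
        exact ⟨A y, hy⟩
      obtain ⟨hk, hki⟩ := isMor_pullConj hL'.2.1 hP'N hgood
      have hkF := ((isMor_normalizerSystem hN').mp hk).1
      have hkv : ∀ (x y : ↥(normalizerIn S (R ⊔ Q))), (x : Ω) ∈ P ⊔ (R ⊔ Q) →
          j y = l * j x * l⁻¹ → pullConj ι' l (α x) = α y := by
        intro x y hx hy
        obtain ⟨b, hb, hbe⟩ := pullConj_spec ι' (hgood (A x) (mem_img_of_mem α hx))
        have h4 : b = A y := hL'.2.1.1 (hbe.trans hy.symm)
        rw [h4] at hb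
        exact hb.symm
      have hg : IsMor F (P ⊔ (R ⊔ Q)) (αi ∘ pullConj ι' l ∘ α) :=
        ((hαP.comp hkF fun x hx => mem_img_of_mem α hx).comp hαi' fun x hx => by
          obtain ⟨y, hy⟩ := hvals ⟨x, hPX hx⟩ hx
          show pullConj ι' l (α x) ∈ _
          rw [hkv _ y hx hy]
          exact mem_img_of_mem α y.2)
      set g := αi ∘ pullConj ι' l ∘ α with hgdef
      have hgP : ∀ x : P, g x = φ x := fun x => by
        show αi (pullConj ι' l (α x)) = φ x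
        rw [show pullConj ι' l (α x) = α (φ x) from
          hkv (Subgroup.inclusion hMX ⟨x, hP x.2⟩) _ (Subgroup.mem_sup_left x.2) (hl' x)]
        exact hαl _ (hMX (hφ x))
      have hgX : ∀ x (hx : x ∈ R ⊔ Q), g x = autFun (π₁ l) x := fun x hx => by
        show αi (pullConj ι' l (α x)) = _
        rw [hkv ⟨x, hXN hx⟩ (Subgroup.inclusion hXN (π₁ l ⟨x, hx⟩)) (Subgroup.mem_sup_right hx)
          (hπ₁ l ⟨x, hx⟩), autFun_of_mem _ hx]
        exact hαl _ (hXN (π₁ l ⟨x, hx⟩).2)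
      have hd : P ⊔ R ⊔ Q ≤ P ⊔ (R ⊔ Q) := (sup_assoc P R Q).le
      have hPR : P ⊔ R ≤ P ⊔ (R ⊔ Q) := le_sup_left.trans hd
      have hgR : img R g = R := (hg.restrict (le_sup_left.trans le_sup_right)).img_eq_self
        fun x hx => hgX x (Subgroup.mem_sup_left hx) ▸ hlR x hx
      have hgm : IsMor E (P ⊔ R) g := by
        refine (hE _ _).mpr ⟨hg.restrict hPR, sup_le (hP.trans hMN) hRN, fun x hx => ?_, g,
          hg.restrict hd, fun _ _ => rfl,
          c.congr hlQ fun x hx => (hgX x (Subgroup.mem_sup_right hx)).symm⟩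
        have h2 := mem_img_of_mem g hx
        rw [(hg.restrict hPR).img_sup, hgR] at h2
        exact sup_le (img_le fun y hy => hgP ⟨y, hy⟩ ▸ hMN (hφ _)) hRN h2
      refine IsMor.mem_hom ((isMor_normalizerSystem hNE (f := g)).mpr
        ⟨hgm.restrict le_sup_left, hP, fun x hx => hgP ⟨x, hx⟩ ▸ hφ _, g, hgm,
          fun _ _ => rfl, hgR⟩) fun x => (hgP x).symm
  -- the image is a Sylow subgroup
  have hMp : IsPGroup p κ.range :=
    (hS.of_injective _ (Subgroup.inclusion_injective ((hMN.trans hNS) : (normalizerIn N R) ≤ S))).of_surjective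
      κ.rangeRestrict κ.rangeRestrict_surjective
  obtain ⟨T, hT⟩ := hL'.2.2.1
  have hbound : ∀ U : Subgroup H, IsPGroup p U → Nat.card U ≤ Nat.card (normalizerIn N R) := by
    intro U hU
    obtain ⟨W, hW⟩ := (hU.map H.subtype).exists_le_sylow
    obtain ⟨l, hl⟩ := MulAction.exists_smul_eq L' W T
    have hmemT : ∀ u ∈ U, l * (u : L') * l⁻¹ ∈ ι'.range := fun u hu => by
      rw [← hT, ← hl, Sylow.coe_subgroup_smul]
      exact Subgroup.smul_mem_pointwise_smul (u : L') (MulAut.conj l) _ (hW ⟨u, hu, rfl⟩)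
    set φ := α ∘ autFun (π₁ l) with hφdef
    have hβm := isMor_autFun hXS (haut l)
    have hφ : IsMor F (R ⊔ Q) φ :=
      hβm.comp hα fun x hx => hXN (autFun_mem _ hx)
    obtain ⟨D, g, hg, hXD, hgood, hgE, hD⟩ := hconj φ hφ
    have hφj : ∀ x (hx : x ∈ R ⊔ Q), ι' ⟨φ x, hαmem _ (hXN (autFun_mem _ hx))⟩ =
        l * j ⟨x, hXN hx⟩ * l⁻¹ := fun x hx => by
      refine Eq.trans ?_ (hπ₁ l ⟨x, hx⟩)
      exact congrArg ι' (Subtype.ext (congrArg α (autFun_of_mem _ hx)))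
    have hkey : ∀ (u : U) (t : ↥(normalizerIn S X)), ι' t = l * ((u : H) : L') * l⁻¹ →
        (t : Ω) ∈ D ∧ g t ∈ normalizerIn N (img R (g ∘ φ)) := by
      intro u t ht
      obtain ⟨huQ, huR⟩ := (hmemH _).mp (u : H).2
      have hcjt : ∀ x ∈ R ⊔ Q, cj (t : Ω) (φ x) = φ (autFun (π₁ ((u : H) : L')) x) := fun x hx => by
        have hx' : autFun (π₁ ((u : H) : L')) x ∈ R ⊔ Q := autFun_mem _ hx
        refine congrArg Subtype.val (hL'.2.1.1 (a₁ := t * ⟨φ x, hαmem _ (hXN (autFun_mem _ hx))⟩ * t⁻¹)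
          (a₂ := ⟨φ _, hαmem _ (hXN (autFun_mem _ hx'))⟩) ?_)
        rw [map_mul, map_mul, map_inv, hφj x hx, hφj _ hx', ht,
          show (⟨autFun (π₁ ((u : H) : L')) x, hXN hx'⟩ : ↥(normalizerIn S (R ⊔ Q))) =
            Subgroup.inclusion hXN (π₁ ((u : H) : L') ⟨x, hx⟩) from
            Subtype.ext (autFun_of_mem _ hx), hπ₁]
        group
        rfl
      have htn : ∀ (Y : Subgroup Ω), Y ≤ R ⊔ Q → (∀ x ∈ Y, autFun (π₁ ((u : H) : L')) x ∈ Y) →
          (t : Ω) ∈ Subgroup.normalizer (img Y φ : Set Ω) := by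
        intro Y hY hYm
        have hm := (isMor_autFun hXS (haut ((u : H) : L'))).restrict hY
        rw [Subgroup.mem_normalizer_iff_map_conj_eq]
        show (img Y φ).map (MulAut.conj (t : Ω)).toMonoidHom = img Y φ
        rw [← img_cj, (hφ.restrict hY).img_comp,
          img_congr (f := cj (t : Ω) ∘ φ) (g := φ ∘ autFun (π₁ ((u : H) : L')))
            (fun x hx => hcjt x (hY hx)),
          ← hm.img_comp, hm.img_eq_self hYm]
      have htS : (t : Ω) ∈ S := normalizerIn_le t.2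
      obtain ⟨h1, h2⟩ := hD _ htS (htn Q le_sup_right fun x hx => c.maps huQ x hx)
        ⟨_, huQ, fun x hx => hcjt x (Subgroup.mem_sup_right hx)⟩
      refine ⟨h1, mem_normalizerIn.mpr ⟨h2, ?_⟩⟩
      have hRD : ∀ x ∈ R, φ x ∈ D := fun x hx => hXD (mem_img_of_mem φ (Subgroup.mem_sup_left hx))
      have hmR := (isMor_autFun hXS (haut ((u : H) : L'))).restrict (le_sup_left : R ≤ R ⊔ Q)
      rw [Subgroup.mem_normalizer_iff_map_conj_eq]
      show (img R (g ∘ φ)).map (MulAut.conj (g t)).toMonoidHom = _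
      rw [← img_cj, hgE.img_comp,
        img_congr (f := cj (g t) ∘ (g ∘ φ)) (g := (g ∘ φ) ∘ autFun (π₁ ((u : H) : L'))) (fun x hx => by
          show cj (g t) (g (φ x)) = g (φ _)
          rw [← hcjt x (Subgroup.mem_sup_left hx)]
          exact (hg.map_conj h1 (hRD x hx)).symm),
        ← hmR.img_comp, hmR.img_eq_self huR]
    choose t ht using fun u : U => hmemT u u.2
    let f : U → ↥(normalizerIn N (img R (g ∘ φ))) := fun u => ⟨g (t u), (hkey u (t u) (ht u)).2⟩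
    have hf : Function.Injective f := fun u v e => by
      have h1 := hg.inj (hkey u _ (ht u)).1 (hkey v _ (ht v)).1 (congrArg Subtype.val e)
      have h2 := congrArg ι' (Subtype.ext h1 : t u = t v)
      rw [ht, ht, mul_left_inj, mul_right_inj] at h2
      exact Subtype.ext (Subtype.ext h2)
    have : Finite ↥(normalizerIn N (img R (g ∘ φ))) := finite_of_le (normalizerIn_le.trans hNS)
    exact (Nat.card_le_card_of_injective f hf).trans (hR.2 _ (isConj_img hgE))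
  have hcard : Nat.card κ.range = Nat.card (normalizerIn N R) :=
    (Nat.card_congr (MonoidHom.ofInjective hκ).toEquiv).symm
  have hsyl : ∃ T₁ : Sylow p H, (T₁ : Subgroup H) = κ.range :=
    ⟨⟨κ.range, hMp, fun {U} hU hle =>
      (Subgroup.eq_of_le_of_card_ge hle (hcard ▸ hbound U hU)).symm⟩, rfl⟩
  -- the centralizer of the `p`-core
  let R' : Subgroup H := (R.subgroupOf (normalizerIn N R)).map κ
  have hRM : R ≤ (normalizerIn N R) := le_normalizerIn hRN
  have hR'n : R'.Normal := ⟨by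
    rintro _ ⟨r, hr, rfl⟩ ⟨l, hl⟩
    obtain ⟨-, hlR⟩ := (hmemH l).mp hl
    have hr' : (r : Ω) ∈ R ⊔ Q := Subgroup.mem_sup_left hr
    refine ⟨⟨autFun (π₁ l) r, hRM (hlR _ hr)⟩, hlR _ hr, Subtype.ext ?_⟩
    show j _ = l * j _ * l⁻¹
    refine Eq.trans ?_ (hπ₁ l ⟨r, hr'⟩)
    exact congrArg j (Subtype.ext (autFun_of_mem _ hr'))⟩
  have hR'p : IsPGroup p R' :=
    hMp.to_le (by rintro _ ⟨r, -, rfl⟩; exact ⟨r, rfl⟩)
  obtain ⟨T₁, hT₁⟩ := hsyl
  have hcop : ∀ h ∈ Subgroup.centralizer (R' : Set H), (orderOf h).Coprime p → h = 1 := by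
    intro h hh hord
    have hfix : ∀ r ∈ R, autFun (π₁ (h : L')) r = r := fun r hr => by
      have hr' : r ∈ R ⊔ Q := Subgroup.mem_sup_left hr
      rw [autFun_of_mem _ hr']
      have h1 := hπ₁ (h : L') ⟨r, hr'⟩
      have h2 := congrArg Subtype.val (Subgroup.mem_centralizer_iff.mp hh (κ ⟨r, hRM hr⟩)
        ⟨⟨r, hRM hr⟩, hr, rfl⟩)
      rw [show (h : L') * j (Subgroup.inclusion hXN ⟨r, hr'⟩) * (h : L')⁻¹ =
        j (Subgroup.inclusion hXN ⟨r, hr'⟩) from mul_inv_eq_iff_eq_mul.mpr h2.symm] at h1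
      exact congrArg Subtype.val (hj h1)
    obtain ⟨hhQ, -⟩ := (hmemH _).mp h.2
    -- the elements of `Q` fixed by `h`
    let K : Subgroup Ω :=
      { carrier := {x | x ∈ R ⊔ Q ∧ autFun (π₁ (h : L')) x = x}
        one_mem' := ⟨one_mem _, autFun_map_one _⟩
        mul_mem' := fun {a b} ha hb => ⟨Subgroup.mul_mem _ ha.1 hb.1, by
          rw [autFun_map_mul _ ha.1 hb.1, ha.2, hb.2]⟩
        inv_mem' := fun {a} ha => ⟨Subgroup.inv_mem _ ha.1, by
          rw [autFun_inv_map _ ha.1, ha.2]⟩ }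
    have hRK : R ≤ K := fun r hr => ⟨Subgroup.mem_sup_left hr, hfix r hr⟩
    have hQn : ∀ r ∈ R ⊔ Q, ∀ x ∈ Q, cj r x ∈ Q := by
      intro r hr x hx
      have : R ⊔ Q ≤ Subgroup.normalizer (Q : Set Ω) :=
        sup_le (fun y hy => ((hN y).mp (hRN hy)).2.1) Subgroup.le_normalizer
      exact (Subgroup.mem_normalizer_iff.mp (this hr) x).mp hx
    have hKX : K = R ⊔ Q := by
      refine (eq_or_lt_of_le (fun x hx => hx.1 : K ≤ R ⊔ Q)).resolve_right fun hlt => ?_
      obtain ⟨y, hy, hyK⟩ := SetLike.exists_of_lt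
        (lt_inf_normalizer (isPGroup_of_le hXS hS) hlt)
      obtain ⟨hyX, hyn⟩ := Subgroup.mem_inf.mp hy
      set b := π₁ (h : L')
      set d := y⁻¹ * autFun b y with hd
      have hbX : autFun b y ∈ R ⊔ Q := autFun_mem b hyX
      have hdX : d ∈ R ⊔ Q := Subgroup.mul_mem _ (Subgroup.inv_mem _ hyX) hbX
      have hdK : d ∈ K := by
        have hdR : ∀ r ∈ R, cj d r = r := by
          intro r hr
          have h2 : autFun b (cj y r) = cj y r :=
            ((Subgroup.mem_normalizer_iff.mp hyn r).mp (hRK hr)).2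
          rw [cj, autFun_map_mul _ (Subgroup.mul_mem _ hyX (Subgroup.mem_sup_left hr))
            (Subgroup.inv_mem _ hyX), autFun_map_mul _ hyX (Subgroup.mem_sup_left hr),
            autFun_inv_map _ hyX, hfix r hr] at h2
          rw [hd, cj_mul, show cj (autFun b y) r = cj y r from h2, cj_inv_cj]
        exact hRK (hRc.2 R (isConj_refl E hRN)
          (mem_centralizerIn.mpr ⟨sup_le hRN hQN hdX, hdR⟩))
      have hit : ∀ n : ℕ, autFun (b ^ n) y = y * d ^ n := by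
        intro n
        induction n with
        | zero => rw [pow_zero, autFun_one hyX, pow_zero, mul_one]
        | succ n ih =>
          have h6 : ∀ m : ℕ, autFun b (d ^ m) = d ^ m := fun m => (K.pow_mem hdK m).2
          rw [pow_succ', autFun_mul _ _ hyX, ih,
            autFun_map_mul _ hyX (Subgroup.pow_mem _ hdX n), h6, pow_succ', ← mul_assoc, hd,
            mul_inv_cancel_left]
      have h7 := hit (orderOf h)
      have hbn : b ^ orderOf h = 1 := by
        rw [← map_pow, ← SubmonoidClass.coe_pow, pow_orderOf_eq_one, Subgroup.coe_one, map_one]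
      rw [hbn, autFun_one hyX, left_eq_mul] at h7
      obtain ⟨k, hk⟩ := (isPGroup_of_le hXS hS) ⟨d, hdX⟩
      have h8 := pow_gcd_eq_one.mpr ⟨h7, (congrArg Subtype.val hk : d ^ p ^ k = 1)⟩
      rw [Nat.Coprime.pow_right k hord, pow_one] at h8
      refine hyK ⟨hyX, ?_⟩
      rw [hd, inv_mul_eq_one] at h8
      exact h8.symm
    obtain ⟨z, hz, -⟩ := model_centralizer hL' hnX (normalizerSystem_isCentric hXc' hN')
      (g := (h : L')) fun b hb => by
        obtain ⟨x, hx, hxe⟩ := (hα.restrict hXN).mem_img.mp (hαi.ge hb)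
        rw [show b = A ⟨x, hXN hx⟩ from Subtype.ext hxe.symm]
        refine (hπ₁ (h : L') ⟨x, hx⟩).symm.trans (congrArg j (Subtype.ext ?_))
        show ((π₁ (h : L') ⟨x, hx⟩ : ↥(R ⊔ Q)) : Ω) = x
        rw [← autFun_of_mem _ hx]
        exact (hKX.ge hx).2
    obtain ⟨k, hk⟩ := (hS.of_injective _ (Subgroup.inclusion_injective normalizerIn_le)) z
    have h9 : (h : L') ^ p ^ k = 1 := by rw [← hz, ← map_pow, hk, map_one]
    have h10 := pow_gcd_eq_one.mpr ⟨pow_orderOf_eq_one h, (Subtype.ext h9 : h ^ p ^ k = 1)⟩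
    rwa [Nat.Coprime.pow_right k hord, pow_one] at h10
  have hcent : Subgroup.centralizer ((pCore p H : Subgroup H) : Set H) ≤ pCore p H := by
    have hCn : (Subgroup.centralizer (R' : Set H)).Normal := Subgroup.normal_centralizer
    have hCp : IsPGroup p (Subgroup.centralizer (R' : Set H)) := by
      rintro ⟨x, hx⟩
      obtain ⟨a, m, hm, hn⟩ :=
        Nat.exists_eq_pow_mul_and_not_dvd (orderOf_pos x).ne' p hp.out.ne_one
      refine ⟨a, Subtype.ext ?_⟩
      show x ^ p ^ a = 1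
      refine hcop _ (pow_mem hx _) (Nat.Coprime.coprime_dvd_left ?_
        (Nat.Coprime.symm ((hp.out.coprime_iff_not_dvd).mpr hm)))
      refine orderOf_dvd_of_pow_eq_one ?_
      rw [← pow_mul, ← hn, pow_orderOf_eq_one]
    have hR'le : R' ≤ pCore p H := CfsgLib.Base.le_pCore (hN := hR'n) hR'p
    refine (Subgroup.centralizer_le (by exact hR'le)).trans fun x hx => hR'le ?_
    obtain ⟨m, rfl⟩ := hT₁.le (CfsgLib.Base.pCore_le_sylow T₁
      (CfsgLib.Base.le_pCore (hN := hCn) hCp hx))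
    refine ⟨m, hRc.2 R (isConj_refl E hRN)
      (mem_centralizerIn.mpr ⟨hMN m.2, fun r hr => ?_⟩), rfl⟩
    have h11 := Subgroup.mem_centralizer_iff.mp hx (κ ⟨r, hRM hr⟩) ⟨⟨r, hRM hr⟩, hr, rfl⟩
    rw [← map_mul, ← map_mul] at h11
    exact cj_fixed_iff.mpr (congrArg Subtype.val (hκ h11)).symm
  obtain ⟨e, -⟩ := model_unique ((hS.of_injective _ (Subgroup.inclusion_injective
    ((hMN.trans hNS) : (normalizerIn N R) ≤ S)))) hL ⟨inferInstance, hreal, ⟨T₁, hT₁⟩, hcent⟩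
  exact ⟨H.subtype.comp e.toMonoidHom, H.subtype_injective.comp e.injective⟩

/-- A model of the normalizer of a centric subgroup in a system cut out by a condition on `Q`
embeds in the model of a fully normalized centric subgroup of `F`. -/
theorem MapCond.exists_model_embedding (hS : IsPGroup p S) (hF : F.IsSaturated p) (c : MapCond F Q)
    {N : Subgroup Ω} {E : FusionSystem N}
    (hN : ∀ a, a ∈ N ↔ a ∈ S ∧ a ∈ Subgroup.normalizer (Q : Set Ω) ∧ c.Good (cj a))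
    (hE : ∀ P f, IsMor E P f ↔ IsMor F P f ∧ P ≤ N ∧ (∀ x ∈ P, f x ∈ N) ∧
      ∃ g, IsMor F (P ⊔ Q) g ∧ (∀ x ∈ P, g x = f x) ∧ c.Good g)
    (hrec : ∀ φ : Ω → Ω, IsMor F Q φ → ∃ (D : Subgroup Ω) (g : Ω → Ω), IsMor F D g ∧
      img Q φ ≤ D ∧ c.Good (g ∘ φ) ∧
      ∀ h ∈ S, h ∈ Subgroup.normalizer (img Q φ : Set Ω) →
        (∃ k, c.Good k ∧ ∀ x ∈ Q, cj h (φ x) = φ (k x)) → h ∈ D)
    (hQN : Q ≤ N) {R : Subgroup Ω} (hR : E.IsFullyNormalized R) (hRc : E.IsCentric R)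
    {NE : FusionSystem (normalizerIn N R)} (hNE : E.IsNormalizerSystem R NE)
    {L : Type*} [Group L] {ι : ↥(normalizerIn N R) →* L} (hL : NE.IsModel p L ι) :
    ∃ (X : Subgroup Ω) (N' : FusionSystem (normalizerIn S X)) (L' : Type u) (_ : Group L')
      (ι' : ↥(normalizerIn S X) →* L'), F.IsFullyNormalized X ∧ F.IsCentric X ∧
        F.IsNormalizerSystem X N' ∧ N'.IsModel p L' ι' ∧
        ∃ f : L →* L', Function.Injective f := by
  obtain ⟨X, N', L', i, ι', -, h⟩ := c.exists_model_embedding_conj hS hF hN hE hrec hQN hR hRc hNE hL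
  exact ⟨X, N', L', i, ι', h⟩

end CfsgLib.Fusion
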