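import Mathlib
import Cfsg.Prelude.Def_FusionReduction
import Cfsg.Prelude.Def_LocalEven
import Cfsg.Prelude.Def_PLocal
import Cfsg.Agent.Lib.Fusion.LocalModels

/-! Section freeness of fusion systems passes to normalizer systems. -/
set_option autoImplicit false

universe u

namespace CfsgLib.Fusion

open Cfsg Cfsg.FusionSystem

theorem involves_of_injective {H : Type*} [Group H] {L L' : Type*} [Group L] [Group L'] (f : L →* L')
    (hf : Function.Injective f) (h : Involves H L) : Involves H L' := by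
  obtain ⟨K, R, hn, ⟨e⟩⟩ := h
  let g : K →* K.map f := (K.equivMapOfInjective f hf).toMonoidHom
  have hg : (R.map f).subgroupOf (K.map f) = (R.subgroupOf K).map g := by
    ext x
    obtain ⟨y, rfl⟩ := (K.equivMapOfInjective f hf).surjective x
    constructor
    · rintro ⟨r, hr, e'⟩
      exact ⟨y, show (y : L) ∈ R from hf e' ▸ hr, rfl⟩
    · rintro ⟨z, hz, e'⟩
      obtain rfl := (K.equivMapOfInjective f hf).injective e'
      exact ⟨z, hz, rfl⟩
  have hn' : ((R.map f).subgroupOf (K.map f)).Normal := by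
    rw [hg]; exact hn.map g (K.equivMapOfInjective f hf).surjective
  exact ⟨K.map f, R.map f, hn', ⟨(QuotientGroup.congr _ _ (K.equivMapOfInjective f hf) hg.symm).symm.trans e⟩⟩

variable {Ω : Type u} [Group Ω] {S : Subgroup Ω} [Finite S] {F : FusionSystem S} {p : ℕ}
  [hp : Fact p.Prime] {Q : Subgroup Ω}

/-- The condition cutting out the normalizer system. -/
def normalizerCond (F : FusionSystem S) {Q : Subgroup Ω} (hQ : Q ≤ S) : MapCond F Q where
  Good g := ∀ x ∈ Q, g x ∈ Q
  le := hQ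
  congr h e x hx := e x hx ▸ h x hx
  id' _ hx := hx
  maps h := h
  comp h h' x hx := h' _ (h x hx)
  inv {g g'} hg h e y hy := by
    obtain ⟨x, hx, rfl⟩ := hg.mem_img.mp ((hg.img_eq_self h).ge hy)
    rw [e x hx]
    exact hx

theorem normalizerCond_hN (hQ : Q ≤ S) (a : Ω) : a ∈ normalizerIn S Q ↔
    a ∈ S ∧ a ∈ Subgroup.normalizer (Q : Set Ω) ∧ (normalizerCond F hQ).Good (cj a) :=
  ⟨fun h => ⟨(mem_normalizerIn.mp h).1, (mem_normalizerIn.mp h).2,
      fun x hx => (Subgroup.mem_normalizer_iff.mp (mem_normalizerIn.mp h).2 x).mp hx⟩,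
    fun h => mem_normalizerIn.mpr ⟨h.1, h.2.1⟩⟩

theorem normalizerCond_hE (hQ : Q ≤ S) {E : FusionSystem (normalizerIn S Q)}
    (hE : F.IsNormalizerSystem Q E) (P : Subgroup Ω) (f : Ω → Ω) :
    IsMor E P f ↔ IsMor F P f ∧ P ≤ normalizerIn S Q ∧ (∀ x ∈ P, f x ∈ normalizerIn S Q) ∧
      ∃ g, IsMor F (P ⊔ Q) g ∧ (∀ x ∈ P, g x = f x) ∧ (normalizerCond F hQ).Good g := by
  rw [isMor_normalizerSystem hE]
  refine and_congr_right fun _ => and_congr_right fun _ => and_congr_right fun _ =>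
    exists_congr fun g => and_congr_right fun hg => and_congr_right fun _ => ⟨fun h x hx =>
      h.le (mem_img_of_mem g hx), fun h => (hg.restrict le_sup_right).img_eq_self h⟩

theorem normalizerCond_hrec (hS : IsPGroup p S) (hF : F.IsSaturated p) (hQ : F.IsFullyNormalized Q)
    (φ : Ω → Ω) (hφ : IsMor F Q φ) : ∃ (D : Subgroup Ω) (g : Ω → Ω), IsMor F D g ∧
      img Q φ ≤ D ∧ (normalizerCond F hQ.1).Good (g ∘ φ) ∧
      ∀ h ∈ S, h ∈ Subgroup.normalizer (img Q φ : Set Ω) →
        (∃ k, (normalizerCond F hQ.1).Good k ∧ ∀ x ∈ Q, cj h (φ x) = φ (k x)) → h ∈ D := by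
  obtain ⟨g, hg, hgi, -⟩ := exists_map_fullyNormalized hS hF hQ
    (isConj_symm (isConj_img hφ) : F.IsConj (img Q φ) Q)
  exact ⟨_, g, hg, le_normalizerIn hφ.img_le,
    fun x hx => hgi.le (mem_img_of_mem g (mem_img_of_mem φ hx)),
    fun h hh hn _ => mem_normalizerIn.mpr ⟨hh, hn⟩⟩

/-- A normalizer system of a section free system is section free. -/
theorem isSectionFree_normalizerSystem {H : Type*} [Group H] (hS : IsPGroup p S)
    (hF : F.IsSaturated p) (hfree : F.IsSectionFree p H) (hQ : F.IsFullyNormalized Q)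
    {E : FusionSystem (normalizerIn S Q)} (hE : F.IsNormalizerSystem Q E) :
    E.IsSectionFree p H := by
  intro R hR hRc NE hNE L _ ι hL hinv
  obtain ⟨X, N', L', _, ι', hXn, hXc, hN', hL', f, hf⟩ :=
    (normalizerCond F hQ.1).exists_model_embedding hS hF (normalizerCond_hN hQ.1)
      (normalizerCond_hE hQ.1 hE) (normalizerCond_hrec hS hF hQ) (le_normalizerIn hQ.1) hR hRc
      hNE hL
  exact hfree X hXn hXc N' hN' L' ι' hL' (involves_of_injective f hf hinv)

end CfsgLib.Fusion
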