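import Mathlib
import Cfsg.Agent.Lib.Fusion.FactorExists
import Cfsg.Agent.Lib.Fusion.FactorSaturated
import Cfsg.Agent.Lib.Fusion.Criteria

/-! Solvable fusion systems. -/
set_option autoImplicit false

namespace CfsgLib.Fusion

open Cfsg Cfsg.FusionSystem
open scoped commutatorElement

variable {Ω : Type*} [Group Ω] {S : Subgroup Ω} {F : FusionSystem S} [Finite S] {p : ℕ}
  [hp : Fact p.Prime]

omit [Finite S] hp in
theorem stronglyClosed_self (F : FusionSystem S) : F.StronglyClosed S :=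
  stronglyClosed_iff.mpr ⟨le_rfl, fun _ _ hf _ hx _ => hf.mem hx⟩

omit [Finite S] hp in
theorem stronglyClosed_inf {A B : Subgroup Ω} (hA : F.StronglyClosed A) (hB : F.StronglyClosed B) :
    F.StronglyClosed (A ⊓ B) :=
  stronglyClosed_iff.mpr ⟨inf_le_left.trans hA.1, fun P f hf x hxP hx =>
    ⟨(stronglyClosed_iff.mp hA).2 P f hf x hxP hx.1, (stronglyClosed_iff.mp hB).2 P f hf x hxP hx.2⟩⟩

theorem stronglyClosed_sup (hS : IsPGroup p S) (hF : F.IsSaturated p) {A B : Subgroup Ω}
    (hA : F.StronglyClosed A) (hB : F.StronglyClosed B) : F.StronglyClosed (A ⊔ B) := by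
  have hn := hB.1.trans (stronglyClosed_le_normalizer hA)
  refine stronglyClosed_iff.mpr ⟨sup_le hA.1 hB.1, fun P f hf x hxP hx => ?_⟩
  rw [← SetLike.mem_coe, Subgroup.coe_mul_of_right_le_normalizer_left _ _ hn] at hx
  obtain ⟨a, ha, b, hb, rfl⟩ := hx
  obtain ⟨g, hg, hgf⟩ := exists_map_sup hS hF hA (hf.restrict (Subgroup.zpowers_le.mpr hxP))
  have hx' := Subgroup.mem_zpowers (a * b)
  have ha' : a ∈ Subgroup.zpowers (a * b) ⊔ A := Subgroup.mem_sup_right ha
  have hb' : b ∈ Subgroup.zpowers (a * b) ⊔ A :=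
    (Subgroup.mul_mem_cancel_left _ ha').mp (Subgroup.mem_sup_left hx')
  have h1 : g (a * b) ∈ A ⊔ B := by
    rw [hg.map_mul ha' hb']
    exact Subgroup.mul_mem _
      (Subgroup.mem_sup_left ((stronglyClosed_iff.mp hA).2 _ g hg a ha' ha))
      (Subgroup.mem_sup_right ((stronglyClosed_iff.mp hB).2 _ g hg b hb' hb))
  have h2 := (A ⊔ B).mul_mem h1 ((A ⊔ B).inv_mem (Subgroup.mem_sup_left (hgf _ hx')))
  simpa using h2

variable {Ω' : Type*} [Group Ω'] {S' : Subgroup Ω'} {E : FusionSystem S'} {R : Subgroup Ω}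
  {θ : S →* Ω'}

omit [Finite S] hp in
theorem stronglyClosed_image (hE : F.IsFactorSystem R θ E) {X : Subgroup Ω}
    (hX : F.StronglyClosed X) (hRX : R ≤ X) : E.StronglyClosed (imageAlong θ X) := by
  obtain ⟨hle, hker, hrange, -⟩ := id hE
  refine stronglyClosed_iff.mpr ⟨(imageAlong_le_range X).trans hrange.le, fun P' f' hf' y hyP hy => ?_⟩
  obtain ⟨g, hg, hge⟩ := factor_lift hE hf'
  obtain ⟨x, hx, rfl⟩ := hy
  have hxm : (x : Ω) ∈ preimageAlong θ P' := mem_preimageAlong.mpr ⟨x.2, hyP⟩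
  rw [hge x (hg.mem hxm) hyP]
  exact ⟨_, (stronglyClosed_iff.mp hX).2 _ g hg x hxm hx, rfl⟩

theorem stronglyClosed_preimage (hS : IsPGroup p S) (hF : F.IsSaturated p) (hR : F.StronglyClosed R)
    (hE : F.IsFactorSystem R θ E) {X' : Subgroup Ω'} (hX : E.StronglyClosed X') :
    F.StronglyClosed (preimageAlong θ X') := by
  refine stronglyClosed_iff.mpr ⟨preimageAlong_le _, fun P f hf x hxP hx => ?_⟩
  obtain ⟨φ, hφ, hφf⟩ := hf
  obtain ⟨φ', hφ', hP, hφS, hmem, he⟩ := (factor_isMorphism hS hF hR hE).2 P φ hφ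
  have h1 := (stronglyClosed_iff.mp hX).2 _ _ (isMor_of_mem hφ') _ (hmem ⟨x, hxP⟩)
    (mem_preimageAlong.mp hx).2
  rw [toFun_of_mem φ' (hmem ⟨x, hxP⟩), he ⟨x, hxP⟩] at h1
  rw [← hφf ⟨x, hxP⟩]
  exact mem_preimageAlong.mpr ⟨_, h1⟩

/-- A series of strongly closed subgroups with abelian quotients from `R` to `S`. -/
def AbSeries (F : FusionSystem S) (R : Subgroup Ω) : Prop :=
  ∃ (n : ℕ) (T : ℕ → Subgroup Ω), T 0 = R ∧ T n = S ∧ Monotone T ∧
    (∀ i, F.StronglyClosed (T i)) ∧ ∀ i < n, ⁅T (i + 1), T (i + 1)⁆ ≤ T i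

theorem abSeries_of_solvable (hS : IsPGroup p S) (hF : F.IsSaturated p) (h : F.IsSolvableSystem) :
    ∀ R : Subgroup Ω, F.StronglyClosed R → AbSeries F R := by
  suffices ∀ d R, F.StronglyClosed R → Nat.card S - Nat.card R = d → AbSeries F R from
    fun R hR => this _ R hR rfl
  intro d
  induction d using Nat.strong_induction_on with
  | _ d ih =>
    intro R hR hd
    subst hd
    rcases eq_or_lt_of_le hR.1 with rfl | hlt
    · exact ⟨0, fun _ => R, rfl, rfl, monotone_const, fun _ => hR, fun i hi => absurd hi (by omega)⟩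
    have hn : (R.subgroupOf S).Normal :=
      Subgroup.normal_subgroupOf_iff_le_normalizer hR.1 |>.mpr (stronglyClosed_le_normalizer hR)
    obtain ⟨E, hE⟩ := exists_factorSystem hR
      (θ := QuotientGroup.mk' (R.subgroupOf S)) (fun s => QuotientGroup.eq_one_iff s)
      (S' := ⊤) (MonoidHom.range_eq_top.mpr (QuotientGroup.mk'_surjective _))
    have hEs := factor_isSaturated hS hF hR hE
    have hne := h R hR hlt.ne E hE
    have hcore := isNormal_core E
    have hQp : IsPGroup p (S ⧸ R.subgroupOf S) := hS.to_quotient _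
    have hcp : IsPGroup p E.core := hQp.to_subgroup _
    have : Nontrivial E.core := (Subgroup.nontrivial_iff_ne_bot _).mpr hne
    have hc := hcp.center_nontrivial
    set Z := (Subgroup.center E.core).map E.core.subtype with hZ
    have hZn : E.IsNormal Z := by
      refine isNormal_of_characteristic hcore (Subgroup.map_subtype_le _) ?_
      rw [show Z.subgroupOf E.core = Subgroup.center E.core from
        Subgroup.comap_map_eq_self_of_injective E.core.subtype_injective _]
      exact inferInstance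
    set X := preimageAlong (QuotientGroup.mk' (R.subgroupOf S)) Z with hX
    have hXc := stronglyClosed_preimage hS hF hR hE (isNormal_stronglyClosed hZn)
    have hker : ∀ s : S, QuotientGroup.mk' (R.subgroupOf S) s = 1 ↔ (s : Ω) ∈ R :=
      fun s => QuotientGroup.eq_one_iff s
    have hRX : R ≤ X := le_preimageAlong hker hR.1 Z
    have hlt' : R < X := by
      refine lt_of_le_of_ne hRX fun e => ?_
      refine ((Subgroup.nontrivial_iff_ne_bot _).mp hc) ?_
      refine (Subgroup.map_eq_bot_iff_of_injective _ E.core.subtype_injective).mp ?_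
      refine le_bot_iff.mp fun z hz => ?_
      obtain ⟨s, rfl⟩ := QuotientGroup.mk'_surjective _ z
      refine Subgroup.mem_bot.mpr ((hker s).mpr ?_)
      exact e.ge (mem_preimageAlong.mpr ⟨s.2, hz⟩)
    obtain ⟨n, T, h0, hnS, hmono, hsc, hab⟩ := ih _ (by
      have := card_sub_lt hXc.1 hlt'
      omega) X hXc rfl
    refine ⟨n + 1, fun i => if i = 0 then R else T (i - 1), rfl, by simp [hnS], ?_, ?_, ?_⟩
    · refine monotone_nat_of_le_succ fun i => ?_
      rcases i with _ | i
      · simp [h0, hRX]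
      · simpa using hmono i.le_succ
    · intro i
      rcases i with _ | i
      · simpa using hR
      · simpa using hsc i
    · intro i hi
      rcases i with _ | i
      · simp only [Nat.zero_add, one_ne_zero, if_false, if_true, Nat.sub_self, h0]
        refine Subgroup.commutator_le.mpr fun a ha b hb => ?_
        obtain ⟨haS, ha'⟩ := mem_preimageAlong.mp ha
        obtain ⟨hbS, hb'⟩ := mem_preimageAlong.mp hb
        obtain ⟨za, hza, hzae⟩ := ha'
        obtain ⟨zb, hzb, hzbe⟩ := hb'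
        have h1 : ⁅za, zb⁆ = 1 := commutatorElement_eq_one_iff_mul_comm.mpr
          ((Subgroup.mem_center_iff.mp hza zb).symm)
        have h2 := congrArg E.core.subtype h1
        rw [map_one, map_commutatorElement, hzae, hzbe, ← map_commutatorElement] at h2
        exact (hker _).mp h2
      · simpa using hab i (by omega)

theorem solvable_of_abSeries (hS : IsPGroup p S) (hF : F.IsSaturated p) (h : AbSeries F ⊥) :
    F.IsSolvableSystem := by
  intro R hR hne hn E hE
  obtain ⟨n, T, h0, hnS, hmono, hsc, hab⟩ := h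
  classical
  have hex : ∃ i, ¬ T i ≤ R := ⟨n, fun h => hne (le_antisymm hR.1 (hnS ▸ h))⟩
  have hk := Nat.find_spec hex
  obtain ⟨i, hi⟩ : ∃ i, Nat.find hex = i + 1 := by
    rcases hh : Nat.find hex with _ | i
    · rw [hh, h0] at hk
      exact absurd bot_le hk
    · exact ⟨i, rfl⟩
  rw [hi] at hk
  have hTi : T i ≤ R := by
    by_contra hc
    exact Nat.find_min hex (by omega) hc
  have hin : i < n := by
    have := Nat.find_min' hex (fun h => hne (le_antisymm hR.1 (hnS ▸ h)) : ¬ T n ≤ R)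
    omega
  set X := T (i + 1) ⊔ R with hX
  have hXc := stronglyClosed_sup hS hF (hsc (i + 1)) hR
  have hXE := stronglyClosed_image hE hXc le_sup_right
  have hEs := factor_isSaturated hS hF hR hE
  have hQp : IsPGroup p (S ⧸ R.subgroupOf S) := hS.to_quotient _
  have hnormal : E.IsNormal (imageAlong (QuotientGroup.mk' (R.subgroupOf S)) X) := by
    refine isNormal_of_abelian (hQp.to_subgroup _) hEs hXE ?_
    have hsub : imageAlong (QuotientGroup.mk' (R.subgroupOf S)) X ≤
        ((T (i + 1)).subgroupOf S).map (QuotientGroup.mk' (R.subgroupOf S)) := by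
      rintro _ ⟨x, hx, rfl⟩
      have hxX : (x : Ω) ∈ ((T (i + 1) ⊔ R : Subgroup Ω) : Set Ω) := hx
      rw [Subgroup.coe_mul_of_left_le_normalizer_right _ _
        ((hsc _).1.trans (stronglyClosed_le_normalizer hR))] at hxX
      obtain ⟨a, ha, b, hb, e⟩ := hxX
      refine ⟨⟨a, (hsc _).1 ha⟩, ha, ?_⟩
      refine QuotientGroup.eq.mpr (?_ : ((⟨a, (hsc _).1 ha⟩ : S)⁻¹ * x : S) ∈ R.subgroupOf S)
      show a⁻¹ * (x : Ω) ∈ R
      rw [← e]
      simpa using hb
    intro u hu v hv
    obtain ⟨a, ha, rfl⟩ := hsub hu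
    obtain ⟨b, hb, rfl⟩ := hsub hv
    rw [← commutatorElement_eq_one_iff_mul_comm, ← map_commutatorElement]
    refine (QuotientGroup.eq_one_iff _).mpr (hTi (hab i hin ?_))
    exact Subgroup.commutator_mem_commutator ha hb
  intro hbot
  have := le_core hnormal
  rw [hbot] at this
  refine hk fun x hx => ?_
  have hxS : x ∈ S := (hsc _).1 hx
  have hm : QuotientGroup.mk' (R.subgroupOf S) ⟨x, hxS⟩ ∈
      imageAlong (QuotientGroup.mk' (R.subgroupOf S)) X :=
    ⟨⟨x, hxS⟩, Subgroup.mem_sup_left hx, rfl⟩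
  exact (QuotientGroup.eq_one_iff (⟨x, hxS⟩ : S)).mp (Subgroup.mem_bot.mp (this hm))

theorem constrained_of_abSeries (hS : IsPGroup p S) (hF : F.IsSaturated p) (h : AbSeries F ⊥) :
    F.IsConstrained p := by
  obtain ⟨Q, hQdef⟩ : ∃ Q, Q = F.core := ⟨_, rfl⟩
  have hQ : F.IsNormal Q := hQdef ▸ isNormal_core F
  have hQc := isNormal_stronglyClosed hQ
  refine ⟨hF, Q, hQ, hQ.1, fun R hR => ?_⟩
  obtain ⟨f, hf, rfl⟩ := isConj_iff.mp hR
  rw [hf.img_eq_self fun x hx => (stronglyClosed_iff.mp hQc).2 Q f hf x hx hx]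
  by_contra hC
  obtain ⟨n, T, h0, hnS, hmono, hsc, hab⟩ := h
  have hCc : F.StronglyClosed (Q ⊔ centralizerIn S Q) := by
    have hn : centralizerIn S Q ≤ Subgroup.normalizer (Q : Set Ω) :=
      fun x hx => stronglyClosed_le_normalizer hQc (mem_centralizerIn.mp hx).1
    refine stronglyClosed_iff.mpr ⟨sup_le hQ.1 centralizerIn_le, fun P g hg x hxP hx => ?_⟩
    rw [← SetLike.mem_coe, Subgroup.coe_mul_of_right_le_normalizer_left _ _ hn] at hx
    obtain ⟨a, ha, b, hb, rfl⟩ := hx
    obtain ⟨k, hk, hkg, hkQ⟩ := (isNormal_iff.mp hQ).2 P g hg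
    have ha' : a ∈ P ⊔ Q := Subgroup.mem_sup_right ha
    have hb' : b ∈ P ⊔ Q :=
      (Subgroup.mul_mem_cancel_left _ ha').mp (Subgroup.mem_sup_left hxP)
    rw [← hkg _ hxP, hk.map_mul ha' hb']
    refine Subgroup.mul_mem _ (Subgroup.mem_sup_left (hkQ ▸ mem_img_of_mem k ha))
      (Subgroup.mem_sup_right (mem_centralizerIn.mpr ⟨hk.mem hb', fun y hy => ?_⟩))
    rw [← hkQ] at hy
    obtain ⟨y₀, hy₀, rfl⟩ := (hk.restrict (le_sup_right : Q ≤ P ⊔ Q)).mem_img.mp hy
    have := hk.map_conj hb' (Subgroup.mem_sup_right hy₀)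
    have e : b * y₀ * b⁻¹ = y₀ := (mem_centralizerIn.mp hb).2 y₀ hy₀
    rw [e] at this
    exact this.symm
  set C := Q ⊔ centralizerIn S Q with hCdef
  classical
  have hex : ∃ i, ¬ T i ⊓ C ≤ Q := ⟨n, fun h =>
    hC fun x hx => h ⟨hnS.ge (mem_centralizerIn.mp hx).1, Subgroup.mem_sup_right hx⟩⟩
  have hk := Nat.find_spec hex
  obtain ⟨i, hi⟩ : ∃ i, Nat.find hex = i + 1 := by
    rcases hh : Nat.find hex with _ | i
    · rw [hh, h0] at hk
      exact absurd (inf_le_left.trans bot_le) hk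
    · exact ⟨i, rfl⟩
  rw [hi] at hk
  have hTi : T i ⊓ C ≤ Q := by
    by_contra hc
    exact Nat.find_min hex (by omega) hc
  have hin : i < n := by
    have := Nat.find_min' hex (fun h =>
      hC fun x hx => h ⟨hnS.ge (mem_centralizerIn.mp hx).1, Subgroup.mem_sup_right hx⟩ : ¬ T n ⊓ C ≤ Q)
    omega
  set X := Q ⊔ (T (i + 1) ⊓ C) with hX
  have hXC : X ≤ C := sup_le le_sup_left inf_le_right
  have hXc := stronglyClosed_sup hS hF hQc (stronglyClosed_inf (hsc (i + 1)) hCc)
  have hnX : T (i + 1) ⊓ C ≤ Subgroup.normalizer (Q : Set Ω) :=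
    fun x hx => stronglyClosed_le_normalizer hQc ((hsc _).1 hx.1)
  have hnC : centralizerIn S Q ≤ Subgroup.normalizer (Q : Set Ω) :=
    fun x hx => stronglyClosed_le_normalizer hQc (mem_centralizerIn.mp hx).1
  obtain ⟨m, Qs, hQ0, hQm, hQmono, hQsc, hQcomm⟩ := exists_chain_of_isNormal hS hQ
  have hXn : F.IsNormal X := by
    refine isNormal_of_chain hS hF (m + 1) (fun j => if j ≤ m then Qs j else X) (by simp [hQ0])
      (by simp) (fun j _ => ?_) fun j hj => ?_
    · by_cases hj : j ≤ m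
      · simpa [hj] using hQsc j
      · simpa [hj] using hXc
    · rcases (Nat.le_of_lt_succ hj).lt_or_eq with hlt | rfl
      · simp only [hlt.le, Nat.succ_le_of_lt hlt, if_true]
        refine (Subgroup.commutator_mono hXC le_rfl).trans (Subgroup.commutator_le.mpr fun x hx y hy => ?_)
        rw [hCdef, ← SetLike.mem_coe, Subgroup.coe_mul_of_right_le_normalizer_left _ _ hnC] at hx
        obtain ⟨a, ha, b, hb, rfl⟩ := hx
        have hyQ : y ∈ Q := hQm.le (hQmono (Nat.succ_le_of_lt hlt) hy)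
        have e : b * y * b⁻¹ = y := (mem_centralizerIn.mp hb).2 y hyQ
        have := hQcomm j hlt (Subgroup.commutator_mem_commutator ha hy)
        rw [commutatorElement_def] at this ⊢
        rwa [show a * b * y * (a * b)⁻¹ * y⁻¹ = a * (b * y * b⁻¹) * a⁻¹ * y⁻¹ by group, e]
      · simp only [le_refl, if_true, Nat.not_succ_le_self, if_false, hQm]
        refine Subgroup.commutator_le.mpr fun x hx y hy => ?_
        have hnq : (Q.subgroupOf X).Normal := Subgroup.normal_subgroupOf_iff_le_normalizer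
          le_sup_left |>.mpr (hXc.1.trans (stronglyClosed_le_normalizer hQc))
        let π := QuotientGroup.mk' (Q.subgroupOf X)
        have hgen : ∀ z : X, ∃ w : Ω, ∃ hw : w ∈ T (i + 1) ⊓ C,
            π z = π ⟨w, Subgroup.mem_sup_right hw⟩ := by
          rintro ⟨z, hz⟩
          have hz' : z ∈ ((Q ⊔ (T (i + 1) ⊓ C) : Subgroup Ω) : Set Ω) := hz
          rw [Subgroup.coe_mul_of_right_le_normalizer_left _ _ hnX] at hz'
          obtain ⟨a, ha, b, hb, rfl⟩ := hz'
          refine ⟨b, hb, ?_⟩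
          have e : (⟨a * b, hz⟩ : X) = ⟨a, Subgroup.mem_sup_left ha⟩ * ⟨b, Subgroup.mem_sup_right hb⟩ := rfl
          have h0 : π ⟨a, Subgroup.mem_sup_left ha⟩ = 1 :=
            (QuotientGroup.eq_one_iff (⟨a, Subgroup.mem_sup_left ha⟩ : X)).mpr ha
          rw [e, map_mul, h0, one_mul]
        obtain ⟨u, hu, hue⟩ := hgen ⟨x, hx⟩
        obtain ⟨v, hv, hve⟩ := hgen ⟨y, hy⟩
        have h1 : π ⁅(⟨x, hx⟩ : X), ⟨y, hy⟩⁆ = 1 := by
          rw [map_commutatorElement, hue, hve, ← map_commutatorElement]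
          refine (QuotientGroup.eq_one_iff _).mpr (hTi ⟨?_, ?_⟩)
          · exact hab i hin (Subgroup.commutator_mem_commutator hu.1 hv.1)
          · exact C.mul_mem (C.mul_mem (C.mul_mem hu.2 hv.2) (C.inv_mem hu.2)) (C.inv_mem hv.2)
        exact (QuotientGroup.eq_one_iff ((⁅(⟨x, hx⟩ : X), (⟨y, hy⟩ : X)⁆) : X)).mp h1
  exact hk fun x hx => hQdef ▸ le_core hXn (Subgroup.mem_sup_right hx)

omit [Finite S] in
theorem abSeries_iff_fin : AbSeries F ⊥ ↔
    ∃ (n : ℕ) (T : Fin (n + 1) → Subgroup Ω), T 0 = ⊥ ∧ T (Fin.last n) = S ∧ Monotone T ∧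
      (∀ i, F.StronglyClosed (T i)) ∧ ∀ i : Fin n, ⁅T i.succ, T i.succ⁆ ≤ T (Fin.castSucc i) := by
  constructor
  · rintro ⟨n, T, h0, hn, hmono, hsc, hab⟩
    exact ⟨n, fun i => T i, h0, hn, fun i j h => hmono h, fun i => hsc i,
      fun i => by simpa using hab i i.2⟩
  · rintro ⟨n, T, h0, hn, hmono, hsc, hab⟩
    refine ⟨n, fun i => T ⟨min i n, by omega⟩, ?_, ?_, fun i j h => hmono (by simp; omega),
      fun i => hsc _, fun i hi => ?_⟩
    · simpa using h0
    · simpa [Fin.last] using hn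
    · have := hab ⟨i, hi⟩
      simpa [Fin.castSucc, Fin.succ, Nat.min_eq_left hi.le, Nat.min_eq_left (Nat.succ_le_of_lt hi)] using this

end CfsgLib.Fusion
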