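import Mathlib
import Cfsg.Agent.Lib.Fusion.SectionFree
import Cfsg.Agent.Lib.Fusion.Criteria
import Cfsg.Agent.Lib.Fusion.Invariant
import Cfsg.Agent.Lib.Fusion.FactorSaturated
import Cfsg.Agent.Lib.Fusion.Solvable

/-! The system `S C_F(Q)` of a normal subgroup `Q`, and the reduction to `F / Q`. -/
set_option autoImplicit false

universe u

namespace CfsgLib.Fusion

open Cfsg Cfsg.FusionSystem

variable {Ω : Type u} [Group Ω] {S : Subgroup Ω} [Finite S] {F : FusionSystem S} {p : ℕ}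
  [hp : Fact p.Prime] {Q : Subgroup Ω}

theorem conj_mem_of_isNormal (hQ : F.IsNormal Q) {s x : Ω} (hs : s ∈ S) (hx : x ∈ Q) :
    cj s x ∈ Q :=
  (stronglyClosed_iff.mp (isNormal_stronglyClosed hQ)).2 Q _ (isMor_cj F hQ.1 hs) x hx hx

/-- The condition "acts on `Q` as an element of `S`". -/
def innerCond (F : FusionSystem S) (hQ : F.IsNormal Q) : MapCond F Q where
  Good g := ∃ s ∈ S, ∀ x ∈ Q, g x = cj s x
  le := hQ.1
  congr h e := ⟨h.choose, h.choose_spec.1, fun x hx => (e x hx).symm.trans (h.choose_spec.2 x hx)⟩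
  id' := ⟨1, S.one_mem, fun x _ => (cj_one x).symm⟩
  maps h x hx := h.choose_spec.2 x hx ▸ conj_mem_of_isNormal hQ h.choose_spec.1 hx
  comp := by
    rintro g g' ⟨s, hs, e⟩ ⟨t, ht, e'⟩
    refine ⟨t * s, S.mul_mem ht hs, fun x hx => ?_⟩
    rw [Function.comp_apply, e x hx, e' _ (conj_mem_of_isNormal hQ hs hx), cj_mul]
  inv := by
    rintro g g' - ⟨s, hs, e⟩ hl
    refine ⟨s⁻¹, S.inv_mem hs, fun x hx => ?_⟩
    have hm := conj_mem_of_isNormal hQ (S.inv_mem hs) hx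
    have := hl _ hm
    rwa [e _ hm, cj_cj_inv] at this

theorem innerCond_hN (hQ : F.IsNormal Q) (a : Ω) : a ∈ S ↔
    a ∈ S ∧ a ∈ Subgroup.normalizer (Q : Set Ω) ∧ (innerCond F hQ).Good (cj a) := by
  refine ⟨fun h => ⟨h, ?_, a, h, fun _ _ => rfl⟩, fun h => h.1⟩
  rw [Subgroup.mem_normalizer_iff]
  exact fun x => ⟨conj_mem_of_isNormal hQ h, fun hx => by
    have := conj_mem_of_isNormal hQ (S.inv_mem h) hx
    simpa [cj, mul_assoc] using this⟩

theorem innerCond_hrec (hS : IsPGroup p S) (hF : F.IsSaturated p) (hQ : F.IsNormal Q)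
    (φ : Ω → Ω) (hφ : IsMor F Q φ) : ∃ (D : Subgroup Ω) (g : Ω → Ω), IsMor F D g ∧
      img Q φ ≤ D ∧ (innerCond F hQ).Good (g ∘ φ) ∧
      ∀ h ∈ S, h ∈ Subgroup.normalizer (img Q φ : Set Ω) →
        (∃ k, (innerCond F hQ).Good k ∧ ∀ x ∈ Q, cj h (φ x) = φ (k x)) → h ∈ D := by
  have hi : img Q φ = Q := hφ.img_eq_self fun x hx =>
    (stronglyClosed_iff.mp (isNormal_stronglyClosed hQ)).2 Q φ hφ x hx hx
  obtain ⟨l, hl, hle, -, hli⟩ := hφ.inverse
  rw [hi] at hl hli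
  have hQn : F.IsFullyNormalized Q := ⟨hQ.1, fun U hU => by
    obtain ⟨f, hf, rfl⟩ := isConj_iff.mp hU
    rw [hf.img_eq_self fun x hx =>
      (stronglyClosed_iff.mp (isNormal_stronglyClosed hQ)).2 Q f hf x hx hx]⟩
  obtain ⟨g, hg, hge⟩ :=
    (isReceptive_iff.mp (isFullyAutomized_of_normalized hS hF hQn).2).2 Q l hl hli
  rw [hi]
  refine ⟨_, g, hg, le_nExt hl, ⟨1, S.one_mem, fun x hx => ?_⟩, ?_⟩
  · rw [Function.comp_apply, hge _ (hi.le (mem_img_of_mem φ hx)), hle x hx, cj_one]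
  · rintro h hh hn ⟨k, ⟨s, hs, hks⟩, hk⟩
    refine ⟨hh, hn, s, hs, fun y hy => ?_⟩
    obtain ⟨x, hx, rfl⟩ := hφ.mem_img.mp (hi.ge hy)
    rw [hk x hx, hle x hx, hks x hx, hle _ (conj_mem_of_isNormal hQ hs hx)]

/-- The system `S C_F(Q)`. -/
theorem exists_innerSystem (hQ : F.IsNormal Q) :
    ∃ E : FusionSystem S, ∀ P f, IsMor E P f ↔ IsMor F P f ∧ P ≤ S ∧ (∀ x ∈ P, f x ∈ S) ∧
      ∃ g, IsMor F (P ⊔ Q) g ∧ (∀ x ∈ P, g x = f x) ∧ (innerCond F hQ).Good g := by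
  set c := innerCond F hQ
  let M : Subgroup Ω → (Ω → Ω) → Prop := fun P f => IsMor F P f ∧
    ∃ g, IsMor F (P ⊔ Q) g ∧ (∀ x ∈ P, g x = f x) ∧ c.Good g
  refine ⟨ofPred S M (fun P f h => ⟨h.1.le, fun x hx => h.1.mem hx⟩)
    (fun P f h x hx y hy e => h.1.inj hx hy e) ?_ ?_ ?_ ?_, fun P f => ?_⟩
  · rintro P f f' ⟨hf, g, hg, hgf, hgQ⟩ e
    exact ⟨hf.congr e, g, hg, fun x hx => (hgf x hx).trans (e x hx), hgQ⟩
  · exact fun P a hP ha => ⟨isMor_cj F hP ha, cj a, isMor_cj F (sup_le hP hQ.1) ha,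
      fun _ _ => rfl, a, ha, fun _ _ => rfl⟩
  · rintro P R f k ⟨hf, g, hg, hgf, hgQ⟩ ⟨hk, g', hg', hgk, hgQ'⟩ hfR
    refine ⟨hf.comp hk hfR, g' ∘ g, hg.comp hg' ?_, fun x hx => ?_, c.comp hgQ hgQ'⟩
    · intro x hx
      have h1 := mem_img_of_mem g hx
      rw [hg.img_sup, c.img_eq (hg.restrict le_sup_right) hgQ, img_congr hgf] at h1
      exact sup_le_sup_right (img_le hfR) Q h1
    · show g' (g x) = k (f x)
      rw [hgf x hx, hgk _ (hfR x hx)]
  · rintro P f ⟨hf, g, hg, hgf, hgQ⟩ -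
    obtain ⟨g', hg', hl, -, -⟩ := hg.inverse
    have hgi := c.img_eq (hg.restrict le_sup_right) hgQ
    have hle : img P f ≤ img (P ⊔ Q) g :=
      (img_congr (fun x hx => (hgf x hx).symm)).le.trans (img_mono g le_sup_left)
    have hl' : ∀ x ∈ P, g' (f x) = x := fun x hx => by
      rw [← hgf x hx]; exact hl x (Subgroup.mem_sup_left hx)
    exact ⟨g', ⟨hg'.restrict hle, g', hg'.restrict (sup_le hle (hgi.ge.trans (img_mono g le_sup_right))),
      fun _ _ => rfl, c.inv (hg.restrict le_sup_right) hgQ fun x hx => hl x (Subgroup.mem_sup_right hx)⟩,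
      hl'⟩
  · rw [isMor_ofPred fun h x hx y hy => h.1.map_mul hx hy]
    exact ⟨fun ⟨h, hg⟩ => ⟨h, h.le, fun x hx => h.mem hx, hg⟩, fun ⟨h, _, _, hg⟩ => ⟨h, hg⟩⟩

theorem innerSystem_isSaturated (hS : IsPGroup p S) (hF : F.IsSaturated p) (hQ : F.IsNormal Q)
    {E : FusionSystem S} (hE : ∀ P f, IsMor E P f ↔ IsMor F P f ∧ P ≤ S ∧ (∀ x ∈ P, f x ∈ S) ∧
      ∃ g, IsMor F (P ⊔ Q) g ∧ (∀ x ∈ P, g x = f x) ∧ (innerCond F hQ).Good g) :
    E.IsSaturated p :=
  (innerCond F hQ).isSaturated hS hF E (innerCond_hN hQ) hE (innerCond_hrec hS hF hQ)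

theorem innerSystem_isSectionFree {H : Type*} [Group H] (hS : IsPGroup p S) (hF : F.IsSaturated p)
    (hfree : F.IsSectionFree p H) (hQ : F.IsNormal Q)
    {E : FusionSystem S} (hE : ∀ P f, IsMor E P f ↔ IsMor F P f ∧ P ≤ S ∧ (∀ x ∈ P, f x ∈ S) ∧
      ∃ g, IsMor F (P ⊔ Q) g ∧ (∀ x ∈ P, g x = f x) ∧ (innerCond F hQ).Good g) :
    E.IsSectionFree p H := by
  intro R hR hRc NE hNE L _ ι hL hinv
  obtain ⟨X, N', L', _, ι', hXn, hXc, hN', hL', f, hf⟩ :=
    (innerCond F hQ).exists_model_embedding hS hF (innerCond_hN hQ) hE (innerCond_hrec hS hF hQ)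
      hQ.1 hR hRc hNE hL
  exact hfree X hXn hXc N' hN' L' ι' hL' (involves_of_injective f hf hinv)

/-- Frattini decomposition: a map on `X ≥ Q` is a map fixing `Q` after a map stabilizing
`Q C_S(Q)`. -/
theorem exists_decomp (hS : IsPGroup p S) (hF : F.IsSaturated p) (hQ : F.IsNormal Q)
    {X : Subgroup Ω} {g : Ω → Ω} (hg : IsMor F X g) (hQX : Q ≤ X) :
    ∃ n c, IsMor F (X ⊔ (Q ⊔ centralizerIn S Q)) n ∧
      img (Q ⊔ centralizerIn S Q) n = Q ⊔ centralizerIn S Q ∧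
      IsMor F (img X n) c ∧ (∀ z ∈ Q, c z = z) ∧ ∀ x ∈ X, c (n x) = g x := by
  have hQsc := (stronglyClosed_iff.mp (isNormal_stronglyClosed hQ)).2
  have hXS := hg.le
  set C := Q ⊔ centralizerIn S Q with hCdef
  have hCS : C ≤ S := sup_le hQ.1 centralizerIn_le
  have hQn : F.IsFullyNormalized Q := ⟨hQ.1, fun U hU => by
    obtain ⟨f, hf, rfl⟩ := isConj_iff.mp hU
    rw [hf.img_eq_self fun x hx => hQsc Q f hf x hx hx]⟩
  have hgQ := hg.restrict hQX
  have hgi : img Q g = Q := hgQ.img_eq_self fun x hx => hQsc Q g hgQ x hx hx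
  -- `C` is normal in `S`
  have hcS : ∀ s ∈ S, ∀ x ∈ C, cj s x ∈ C := by
    intro s hs x hx
    refine (sup_le ?_ ?_ : C ≤ C.comap (MulAut.conj s).toMonoidHom) hx
    · exact fun y hy => Subgroup.mem_sup_left (show cj s y ∈ Q from conj_mem_of_isNormal hQ hs hy)
    · intro y hy
      obtain ⟨hyS, hyc⟩ := mem_centralizerIn.mp hy
      refine Subgroup.mem_sup_right (mem_centralizerIn.mpr
        ⟨S.mul_mem (S.mul_mem hs hyS) (S.inv_mem hs), fun z hz => ?_⟩)
      have h1 := hyc _ (conj_mem_of_isNormal hQ (S.inv_mem hs) hz)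
      show cj (cj s y) z = z
      rw [show cj (cj s y) z = cj s (cj y (cj s⁻¹ z)) by simp [cj, mul_assoc],
        show cj y (cj s⁻¹ z) = cj s⁻¹ z from h1, cj_cj_inv]
  have hCn : F.IsFullyNormalized C := ⟨hCS, fun U hU => by
    rw [show normalizerIn S C = S from le_antisymm normalizerIn_le fun s hs =>
      mem_normalizerIn.mpr ⟨hs, Subgroup.mem_normalizer_iff.mpr fun x => ⟨hcS s hs x, fun hx => by
        have := hcS _ (S.inv_mem hs) _ hx
        simpa [cj, mul_assoc] using this⟩⟩]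
    exact Subgroup.card_le_of_le normalizerIn_le⟩
  obtain ⟨hfa, hrec⟩ := isFullyAutomized_of_normalized hS hF hCn
  obtain ⟨n₀, hn₀, hn₀e⟩ :=
    (isReceptive_iff.mp (isFullyAutomized_of_normalized hS hF hQn).2).2 Q g hgQ hgi
  have hn₀C := hn₀.restrict (sup_le (le_nExt hgQ) (centralizerIn_le_nExt g) : C ≤ nExt S Q g)
  have hn₀i : img C n₀ = C := hn₀C.img_eq_self fun x hx => by
    have h1 := mem_img_of_mem n₀ hx
    rw [hn₀C.img_sup, img_congr hn₀e, hgi] at h1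
    refine sup_le le_sup_left (img_le fun y hy => ?_) h1
    have h2 := mapsTo_centralizerIn hn₀C (le_sup_left : Q ≤ C) le_sup_right y hy
    rw [img_congr hn₀e, hgi] at h2
    exact Subgroup.mem_sup_right h2
  obtain ⟨γ, hγ, hγe⟩ := exists_aut hn₀C hn₀i
  have hγQ : ∀ z ∈ Q, autFun γ z = g z := fun z hz =>
    (hγe z (Subgroup.mem_sup_left hz)).trans (hn₀e z hz)
  have hgmem : ∀ z ∈ Q, g z ∈ Q := fun z hz => hgi ▸ mem_img_of_mem g hz
  -- the automorphisms of `C` fixing `Q`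
  let K : Subgroup (MulAut C) :=
    { carrier := {α | α ∈ F.autGroup C ∧ ∀ z ∈ Q, autFun α z = z}
      one_mem' := ⟨one_mem _, fun z hz => autFun_one (Subgroup.mem_sup_left hz)⟩
      mul_mem' := fun {a b} ha hb => ⟨mul_mem ha.1 hb.1, fun z hz => by
        rw [autFun_mul _ _ (Subgroup.mem_sup_left hz), hb.2 z hz, ha.2 z hz]⟩
      inv_mem' := fun {a} ha => ⟨inv_mem ha.1, fun z hz => by
        conv_lhs => rw [← ha.2 z hz, autFun_inv_left a (Subgroup.mem_sup_left hz)]⟩ }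
  have hKn : ∀ b ∈ F.autGroup C, ∀ k ∈ K, b * k * b⁻¹ ∈ K := by
    intro b hb k hk
    refine ⟨mul_mem (mul_mem hb hk.1) (inv_mem hb), fun z hz => ?_⟩
    have hzC : z ∈ C := Subgroup.mem_sup_left hz
    have hbz : autFun b⁻¹ z ∈ Q := hQsc C _ (isMor_autFun hCS (inv_mem hb)) z hzC hz
    rw [autFun_mul _ _ hzC, autFun_mul _ _ (autFun_mem _ hzC), hk.2 _ hbz, autFun_inv_right b hzC]
  set AS := autInducedBy S C with hAS
  have hKsyl : IsSylIn p (AS ⊓ K) K :=
    haveI := finite_mulAut (P := C) hCS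
    isSylIn_inf (isFullyAutomized_iff.mp hfa).2 (fun a ha => ha.1) hKn
  -- those acting on `Q` as elements of the image of `X`
  let Y : Subgroup (MulAut C) :=
    { carrier := {α | α ∈ F.autGroup C ∧ ∃ y ∈ img X g, ∀ z ∈ Q, autFun α z = cj y z}
      one_mem' := ⟨one_mem _, 1, one_mem _, fun z hz => by
        rw [autFun_one (Subgroup.mem_sup_left hz), cj_one]⟩
      mul_mem' := by
        rintro a b ⟨ha, y, hy, hay⟩ ⟨hb, w, hw, hbw⟩
        refine ⟨mul_mem ha hb, y * w, mul_mem hy hw, fun z hz => ?_⟩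
        rw [autFun_mul _ _ (Subgroup.mem_sup_left hz), hbw z hz,
          hay _ (conj_mem_of_isNormal hQ (hg.img_le hw) hz), cj_mul]
      inv_mem' := by
        rintro a ⟨ha, y, hy, hay⟩
        refine ⟨inv_mem ha, y⁻¹, inv_mem hy, fun z hz => ?_⟩
        have hm := conj_mem_of_isNormal hQ (S.inv_mem (hg.img_le hy)) hz
        conv_lhs => rw [← cj_cj_inv y z, ← hay _ hm, autFun_inv_left a (Subgroup.mem_sup_left hm)] }
  have hYdecomp : ∀ b ∈ Y, ∃ a ∈ AS, a ∈ Y ∧ ∃ k ∈ K, b = a * k := by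
    rintro b ⟨hb, y, hy, hby⟩
    have hyS := hg.img_le hy
    have hyn : y ∈ Subgroup.normalizer (C : Set Ω) :=
      Subgroup.mem_normalizer_iff.mpr fun x => ⟨hcS y hyS x, fun hx => by
        have := hcS _ (S.inv_mem hyS) _ hx
        simpa [cj, mul_assoc] using this⟩
    obtain ⟨a, ha, hae⟩ := exists_autInducedBy hyS hyn
    have haF := autInducedBy_le F hCS ha
    refine ⟨a, ha, ⟨haF, y, hy, fun z hz => hae z (Subgroup.mem_sup_left hz)⟩, a⁻¹ * b,
      ⟨mul_mem (inv_mem haF) hb, fun z hz => ?_⟩, (mul_inv_cancel_left a b).symm⟩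
    have hzC : z ∈ C := Subgroup.mem_sup_left hz
    rw [autFun_mul _ _ hzC, hby z hz, ← hae z hzC, autFun_inv_left a hzC]
  have hYsyl : IsSylIn p (AS ⊓ Y) Y := by
    refine ⟨inf_le_right, isPGroup_of_le inf_le_left (isPGroup_autInducedBy hS), fun B hB hle hBY => ?_⟩
    refine le_antisymm (fun b hb => ?_) hle
    obtain ⟨a, ha, haY, k, hk, rfl⟩ := hYdecomp b (hBY hb)
    have haB : a ∈ B := hle ⟨ha, haY⟩
    have hkB : k ∈ B ⊓ K := ⟨by simpa using B.mul_mem (B.inv_mem haB) hb, hk⟩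
    have h3 : B ⊓ K = AS ⊓ K := hKsyl.2.2 (B ⊓ K) (isPGroup_of_le inf_le_left hB)
      (le_inf (fun x hx => hle ⟨hx.1, hx.2.1, 1, one_mem _, fun z hz => by rw [hx.2.2 z hz, cj_one]⟩)
        inf_le_right) inf_le_right
    exact ⟨AS.mul_mem ha (h3.le hkB).1, hBY hb⟩
  let Z := (autInducedBy X C).map (MulAut.conj γ).toMonoidHom
  have hZY : Z ≤ Y := by
    rintro _ ⟨a, ha, rfl⟩
    obtain ⟨x, hx, -, hax⟩ := mem_autInducedBy.mp ha
    have haF : a ∈ F.autGroup C := autInducedBy_le F hCS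
      (mem_autInducedBy.mpr ⟨x, hXS hx, (mem_autInducedBy.mp ha).choose_spec.2.1 |> fun _ =>
        Subgroup.mem_normalizer_iff.mpr fun w => ⟨hcS x (hXS hx) w, fun hw => by
          have := hcS _ (S.inv_mem (hXS hx)) _ hw
          simpa [cj, mul_assoc] using this⟩, hax⟩)
    refine ⟨mul_mem (mul_mem hγ haF) (inv_mem hγ), g x, mem_img_of_mem g hx, fun z hz => ?_⟩
    have hzC : z ∈ C := Subgroup.mem_sup_left hz
    show autFun (γ * a * γ⁻¹) z = _
    obtain ⟨w, hw, rfl⟩ := hgQ.mem_img.mp (hgi.ge hz)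
    rw [autFun_mul _ _ hzC, autFun_mul _ _ (autFun_mem _ hzC)]
    conv_lhs => rw [← hγQ w hw, autFun_inv_left γ (Subgroup.mem_sup_left hw)]
    rw [hax w (Subgroup.mem_sup_left hw),
      hγQ _ (conj_mem_of_isNormal hQ (hXS hx) hw)]
    exact hg.map_conj hx (hQX hw)
  have hZp : IsPGroup p Z := (isPGroup_of_le
    (fun a ha => by
      obtain ⟨x, hx, hxn, hax⟩ := mem_autInducedBy.mp ha
      exact mem_autInducedBy.mpr ⟨x, hXS hx, hxn, hax⟩) (isPGroup_autInducedBy hS)).map _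
  have := finite_mulAut (P := C) hCS
  obtain ⟨b, hb, hbZ⟩ := hYsyl.exists_conj_le hZp hZY
  obtain ⟨a, ha, -, k, hk, rfl⟩ := hYdecomp b hb
  have hδF : k * γ ∈ F.autGroup C := mul_mem hk.1 hγ
  have hδQ : ∀ z ∈ Q, autFun (k * γ) z = g z := fun z hz => by
    rw [autFun_mul _ _ (Subgroup.mem_sup_left hz), hγQ z hz, hk.2 _ (hgmem z hz)]
  obtain ⟨ψ, hψ, hψe⟩ := (isReceptive_iff.mp hrec).2 C _ (isMor_autFun hCS hδF) (img_autFun _)
  have hXle : X ⊔ C ≤ nExt S C (autFun (k * γ)) := by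
    refine sup_le (fun x hx => ?_) (le_nExt (isMor_autFun hCS hδF))
    have hxn : x ∈ Subgroup.normalizer (C : Set Ω) :=
      Subgroup.mem_normalizer_iff.mpr fun w => ⟨hcS x (hXS hx) w, fun hw => by
        have := hcS _ (S.inv_mem (hXS hx)) _ hw
        simpa [cj, mul_assoc] using this⟩
    obtain ⟨c, hc, hce⟩ := exists_autInducedBy (K := X) hx hxn
    have h4 : (k * γ) * c * (k * γ)⁻¹ ∈ AS := by
      have h5 := (hbZ _ ⟨c, hc, rfl⟩).1
      have h6 := AS.mul_mem (AS.mul_mem (AS.inv_mem ha) h5) ha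
      rw [show (k * γ) * c * (k * γ)⁻¹ =
        a⁻¹ * (a * k * (MulAut.conj γ).toMonoidHom c * (a * k)⁻¹) * a by
        simp [MulAut.conj_apply, mul_assoc]]
      exact h6
    obtain ⟨h, hh, -, hhe⟩ := mem_autInducedBy.mp h4
    refine ⟨hXS hx, hxn, h, hh, (mul_conj_aut (α := k * γ) hce hhe).mp ?_⟩
    simp [mul_assoc]
  have hn : IsMor F (X ⊔ C) ψ := hψ.restrict hXle
  obtain ⟨ni, hni, hnl, -, hnii⟩ := (hn.restrict (le_sup_left : X ≤ X ⊔ C)).inverse
  refine ⟨ψ, g ∘ ni, hn, (img_congr hψe).trans (img_autFun _),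
    hni.comp hg fun y hy => hnii ▸ mem_img_of_mem ni hy, fun z hz => ?_, fun x hx => ?_⟩
  · obtain ⟨w, hw, rfl⟩ := hgQ.mem_img.mp (hgi.ge hz)
    have hv : ψ w = g w := (hψe w (Subgroup.mem_sup_left hw)).trans (hδQ w hw)
    show g (ni (g w)) = g w
    rw [← hv, hnl w (hQX hw), hv]
  · show g (ni (ψ x)) = g x
    rw [hnl x hx]

/-- If `F = S C_F(Q)`, normal subgroups of `F / Q` pull back to normal subgroups of `F`. -/
theorem isNormal_preimage {Ω' : Type*} [Group Ω'] {S' : Subgroup Ω'} {θ : S →* Ω'}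
    {E : FusionSystem S'} (hS : IsPGroup p S) (hF : F.IsSaturated p) (hQ : F.IsNormal Q)
    (hinn : ∀ f, IsMor F Q f → ∃ s ∈ S, ∀ x ∈ Q, f x = cj s x)
    (hE : F.IsFactorSystem Q θ E) {Vb : Subgroup Ω'} (hVb : E.IsNormal Vb) :
    F.IsNormal (preimageAlong θ Vb) := by
  obtain ⟨hQS, hker, hrange, -⟩ := id hE
  set V := preimageAlong θ Vb with hV
  have hVS : V ≤ S := preimageAlong_le Vb
  have hQsc := stronglyClosed_iff.mp (isNormal_stronglyClosed hQ)
  have hVsc := stronglyClosed_preimage hS hF (isNormal_stronglyClosed hQ) hE (isNormal_stronglyClosed hVb)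
  refine isNormal_of_stronglyClosed hS hF hVsc fun R hRc hRr => ?_
  have hR : R ≤ S := hRc.1
  have hQR : Q ≤ R := le_of_normal_of_radical hS hQ hRc hRr
  have hRV : R ⊔ V ≤ S := sup_le hR hVS
  -- congruence modulo `Q`
  let r : Ω → Ω → Prop := fun a b => a⁻¹ * b ∈ Q
  have rtrans : ∀ {a b c}, r a b → r b c → r a c := fun {a b c} h1 h2 => by
    have := Q.mul_mem h1 h2
    simpa [r, mul_assoc] using this
  have rsymm : ∀ {a b}, r a b → r b a := fun {a b} h => by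
    have := Q.inv_mem h
    simpa [r] using this
  have rcj : ∀ {s a b}, s ∈ S → r a b → r (cj s a) (cj s b) := fun {s a b} hs h => by
    have := conj_mem_of_isNormal hQ hs h
    simpa [r, cj, mul_assoc] using this
  have rmor : ∀ {U f a b}, IsMor F U f → a ∈ U → b ∈ U → r a b → r (f a) (f b) :=
    fun {U f a b} hf ha hb h => by
    have hab : a⁻¹ * b ∈ U := U.mul_mem (U.inv_mem ha) hb
    have := hQsc.2 U f hf _ hab h
    rwa [hf.map_mul (U.inv_mem ha) hb, hf.map_inv ha] at this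
  let T := (R ⊔ V) ⊓ Subgroup.normalizer (R : Set Ω)
  have hTR : ∀ y ∈ T, ∀ x ∈ R, cj y x ∈ R := fun y hy x hx =>
    (Subgroup.mem_normalizer_iff.mp hy.2 x).mp hx
  let K : Subgroup (MulAut R) :=
    { carrier := {γ | γ ∈ F.autGroup R ∧ ∃ y ∈ T, ∀ x ∈ R, r (cj y x) (autFun γ x)}
      one_mem' := ⟨one_mem _, 1, one_mem _, fun x hx => by
        rw [autFun_one hx, cj_one]; simp [r]⟩
      mul_mem' := by
        rintro a b ⟨ha, y, hy, hay⟩ ⟨hb, w, hw, hbw⟩
        refine ⟨mul_mem ha hb, y * w, mul_mem hy hw, fun x hx => ?_⟩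
        rw [autFun_mul _ _ hx, cj_mul]
        exact rtrans (rcj (hRV hy.1) (hbw x hx)) (hay _ (autFun_mem b hx))
      inv_mem' := by
        rintro a ⟨ha, y, hy, hay⟩
        refine ⟨inv_mem ha, y⁻¹, inv_mem hy, fun x hx => ?_⟩
        have h1 := rcj (S.inv_mem (hRV hy.1)) (hay _ (autFun_mem a⁻¹ hx))
        rw [cj_inv_cj, autFun_inv_right a hx] at h1
        exact rsymm h1 }
  have hKn : ∀ a ∈ F.autGroup R, ∀ k ∈ K, a * k * a⁻¹ ∈ K := by
    rintro a ha k ⟨hk, y, hy, hky⟩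
    refine ⟨mul_mem (mul_mem ha hk) (inv_mem ha), ?_⟩
    have ham := isMor_autFun hR ha
    have hpre : preimageAlong θ (imageAlong θ R) = R := by
      rw [preimage_image hker hQS hR, sup_eq_left.mpr hQR]
    obtain ⟨ab, hab, habe⟩ := factor_push hE (isNormal_stronglyClosed hQ)
      ((imageAlong_le_range R).trans hrange.le) (show IsMor F (preimageAlong θ (imageAlong θ R)) (autFun a) by rw [hpre]; exact ham)
    obtain ⟨gb, hgb, hgbe, hgbV⟩ := (isNormal_iff.mp hVb).2 _ _ hab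
    obtain ⟨G, hG, hGe⟩ := factor_lift hE hgb
    have hsub : R ⊔ V ≤ preimageAlong θ (imageAlong θ R ⊔ Vb) := sup_le
      (fun x hx => mem_preimageAlong.mpr ⟨hR hx, Subgroup.mem_sup_left ⟨⟨x, hR hx⟩, hx, rfl⟩⟩)
      fun x hx => mem_preimageAlong.mpr
        ⟨hVS hx, Subgroup.mem_sup_right (mem_preimageAlong.mp hx).2⟩
    have hG' := hG.restrict hsub
    have hGa : ∀ x ∈ R, r (autFun a x) (G x) := fun x hx => by
      have hxS : x ∈ S := hR hx
      have himg : θ ⟨x, hxS⟩ ∈ imageAlong θ R := ⟨⟨x, hxS⟩, hx, rfl⟩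
      have h1 := hGe ⟨x, hxS⟩ (hG'.mem (Subgroup.mem_sup_left hx)) (Subgroup.mem_sup_left himg)
      rw [hgbe _ himg, habe ⟨x, hxS⟩ (hR (autFun_mem a hx)) himg] at h1
      exact (hker (⟨_, hR (autFun_mem a hx)⟩⁻¹ * ⟨_, hG'.mem (Subgroup.mem_sup_left hx)⟩)).mp (by
        rw [map_mul, map_inv, h1, inv_mul_cancel])
    have hGR : ∀ x ∈ R, G x ∈ R := fun x hx => by
      have := R.mul_mem (autFun_mem a hx) (hQR (hGa x hx))
      rwa [mul_inv_cancel_left] at this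
    have hGRV : ∀ x ∈ R ⊔ V, G x ∈ R ⊔ V := fun x hx => by
      have h1 := mem_img_of_mem G hx
      rw [hG'.img_sup] at h1
      exact sup_le_sup (img_le hGR) (img_le fun v hv =>
        (stronglyClosed_iff.mp hVsc).2 _ G hG' v (Subgroup.mem_sup_right hv) hv) h1
    have hGi : img R G = R := (hG'.restrict le_sup_left).img_eq_self hGR
    refine ⟨G y, Subgroup.mem_inf.mpr ⟨hGRV y hy.1, ?_⟩, fun x hx => ?_⟩
    · rw [Subgroup.mem_normalizer_iff_map_conj_eq]
      show R.map (MulAut.conj (G y)).toMonoidHom = R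
      rw [← img_cj]
      conv_lhs => rw [← hGi, (hG'.restrict le_sup_left).img_comp]
      rw [img_congr (f := cj (G y) ∘ G) (g := G ∘ cj y) fun x hx =>
        (hG'.map_conj hy.1 (Subgroup.mem_sup_left hx)).symm,
        ← (isMor_cj F hR (hRV hy.1)).img_comp, img_cj_of_normalizer hy.2, hGi]
    · obtain ⟨z, hz, rfl⟩ : ∃ z ∈ R, autFun a z = x :=
        ⟨autFun a⁻¹ x, autFun_mem _ hx, autFun_inv_right a hx⟩
      have hyz : cj y z ∈ R := hTR y hy z hz
      rw [autFun_mul _ _ hx, autFun_mul _ _ (autFun_mem _ hx), autFun_inv_left a hz]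
      have h1 : r (cj (G y) (autFun a z)) (cj (G y) (G z)) :=
        rcj (hRV (hGRV y hy.1)) (hGa z hz)
      have h2 : cj (G y) (G z) = G (cj y z) := (hG'.map_conj hy.1 (Subgroup.mem_sup_left hz)).symm
      rw [h2] at h1
      exact rtrans (rtrans h1 (rsymm (hGa _ hyz)))
        (rmor ham hyz (autFun_mem k hz) (hky z hz))
  have hKp : IsPGroup p K := by
    rintro ⟨γ, hγ, y, hy, hγy⟩
    obtain ⟨m, hm⟩ := hS ⟨y, hRV hy.1⟩
    have hym : y ^ p ^ m = 1 := congrArg Subtype.val hm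
    have hpow : ∀ n : ℕ, ∀ x ∈ R, r (cj (y ^ n) x) (autFun (γ ^ n) x) := by
      intro n
      induction n with
      | zero => intro x hx; rw [pow_zero, pow_zero, autFun_one hx, cj_one]; simp [r]
      | succ n ih =>
        intro x hx
        rw [pow_succ', pow_succ', autFun_mul _ _ hx, cj_mul]
        exact rtrans (rcj (hRV hy.1) (ih x hx)) (hγy _ (autFun_mem _ hx))
    set δ := γ ^ p ^ m
    have hδF : δ ∈ F.autGroup R := pow_mem hγ _
    have hδ : ∀ x ∈ R, r x (autFun δ x) := fun x hx => by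
      have := hpow (p ^ m) x hx
      rwa [hym, cj_one] at this
    obtain ⟨s, hs, hse⟩ := hinn _ ((isMor_autFun hR hδF).restrict hQR)
    obtain ⟨l, hl⟩ := hS ⟨s, hs⟩
    have hsl : s ^ p ^ l = 1 := congrArg Subtype.val hl
    have hδQ : ∀ n : ℕ, ∀ x ∈ Q, autFun (δ ^ n) x = cj (s ^ n) x := by
      intro n
      induction n with
      | zero => intro x hx; rw [pow_zero, pow_zero, autFun_one (hQR hx), cj_one]
      | succ n ih =>
        intro x hx
        rw [pow_succ', pow_succ', autFun_mul _ _ (hQR hx), ih x hx,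
          hse _ (conj_mem_of_isNormal hQ (Subgroup.pow_mem _ hs n) hx), cj_mul]
    let K₂ : Subgroup (MulAut R) :=
      { carrier := {α | (∀ x ∈ Q, autFun α x = x) ∧ ∀ x ∈ R, r x (autFun α x)}
        one_mem' := ⟨fun x hx => autFun_one (hQR hx), fun x hx => by rw [autFun_one hx]; simp [r]⟩
        mul_mem' := fun {a b} ha hb => ⟨fun x hx => by
            rw [autFun_mul _ _ (hQR hx), hb.1 x hx, ha.1 x hx], fun x hx => by
            rw [autFun_mul _ _ hx]; exact rtrans (hb.2 x hx) (ha.2 _ (autFun_mem b hx))⟩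
        inv_mem' := fun {a} ha => ⟨fun x hx => by
            conv_lhs => rw [← ha.1 x hx, autFun_inv_left a (hQR hx)], fun x hx => by
            have := ha.2 _ (autFun_mem a⁻¹ hx)
            rw [autFun_inv_right a hx] at this
            exact rsymm this⟩ }
    let W : ℕ → Set Ω := fun i => if i = 0 then {1} else if i = 1 then (Q : Set Ω) else (R : Set Ω)
    have hK₂ : IsPGroup p K₂ := by
      refine isPGroup_stabilizing hS hR 2 W (by simp [W]) (fun x hx => by simpa [W] using hx)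
        fun α hα i hi x hx hxW => ?_
      rcases i with _ | _ | i
      · have hxQ : x ∈ Q := by simpa [W] using hxW
        simp [W, hα.1 x hxQ]
      · simpa [W] using hα.2 x hx
      · omega
    have hmem : δ ^ p ^ l ∈ K₂ := by
      refine ⟨fun x hx => by rw [hδQ _ x hx, hsl, cj_one], fun x hx => ?_⟩
      have := hpow (p ^ m * p ^ l) x hx
      rwa [pow_mul, pow_mul, hym, one_pow, cj_one] at this
    obtain ⟨j, hj⟩ := hK₂ ⟨_, hmem⟩
    refine ⟨m + l + j, Subtype.ext ?_⟩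
    show γ ^ p ^ (m + l + j) = 1
    rw [pow_add, pow_add, pow_mul, pow_mul]
    exact congrArg Subtype.val hj
  have hKI := le_inn_of_radical hRr (show K ≤ F.autGroup R from fun a ha => ha.1) hKp hKn
  by_contra hVR
  have hlt : R < R ⊔ V := left_lt_sup.mpr hVR
  have : Finite ↥(R ⊔ V) := finite_of_le hRV
  obtain ⟨y, hy, hyR⟩ := SetLike.exists_of_lt (lt_inf_normalizer (isPGroup_of_le hRV hS) hlt)
  obtain ⟨α, hα, e⟩ := exists_autInducedBy (K := S) (hRV (Subgroup.mem_inf.mp hy).1)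
    (Subgroup.mem_inf.mp hy).2
  have hαK : α ∈ K := ⟨autInducedBy_le F hR hα, y, hy, fun x hx => by rw [e x hx]; simp [r]⟩
  exact hyR (mem_of_cj_inn hR (centric_centralizer_le hRc) (hRV (Subgroup.mem_inf.mp hy).1)
    (hKI hαK) e)

end CfsgLib.Fusion
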