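import Mathlib
import Cfsg.Agent.Lib.Fusion.ModelProps
import Cfsg.Agent.Lib.Fusion.Criteria
import Cfsg.Agent.Lib.Fusion.SylowAux
import Cfsg.Agent.Lib.Fusion.ModelExists
import Cfsg.Agent.Lib.PLocal.PSolvable

/-! p-solvable realizing groups and models. -/
set_option autoImplicit false

universe u

namespace CfsgLib.Fusion

open Cfsg Cfsg.FusionSystem

variable {Ω : Type*} [Group Ω] {S : Subgroup Ω} [Finite S] {F : FusionSystem S} {p : ℕ}
  [hp : Fact p.Prime] {G : Type*} [Group G] {ι : S →* G}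

/-- Dividing out a normal subgroup of order prime to `p` does not change the system. -/
theorem realized_quotient [Finite G] (h : F.IsRealizedBy ι) (T : Sylow p G)
    (hT : (T : Subgroup G) = ι.range) (N : Subgroup G) [N.Normal]
    (hN : (Nat.card N).Coprime p) :
    F.IsRealizedBy ((QuotientGroup.mk' N).comp ι) ∧
      ∃ T' : Sylow p (G ⧸ N), (T' : Subgroup (G ⧸ N)) = ((QuotientGroup.mk' N).comp ι).range := by
  have hTN : (T : Subgroup G) ⊓ N = ⊥ := CfsgLib.Base.inf_eq_bot_of_isPGroup_of_coprime T.2 hN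
  have heq : ∀ a b : G, a ∈ (T : Subgroup G) → b ∈ (T : Subgroup G) →
      QuotientGroup.mk' N a = QuotientGroup.mk' N b → a = b := fun a b ha hb e => by
    have h1 : a⁻¹ * b ∈ (T : Subgroup G) ⊓ N := ⟨Subgroup.mul_mem _ (Subgroup.inv_mem _ ha) hb,
      (QuotientGroup.eq).mp e⟩
    rw [hTN, Subgroup.mem_bot, inv_mul_eq_one] at h1
    exact h1
  have hι : ∀ x, ι x ∈ (T : Subgroup G) := fun x => hT.ge ⟨x, rfl⟩
  refine ⟨⟨fun a b e => h.1 (heq _ _ (hι a) (hι b) e), fun P hP φ hφ => ⟨fun hm => ?_, ?_⟩⟩,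
    T.mapSurjective (QuotientGroup.mk'_surjective N), ?_⟩
  · obtain ⟨g, hg⟩ := (h.2 P hP φ hφ).mp hm
    exact ⟨QuotientGroup.mk' N g, fun x => by simp [hg x]⟩
  · rintro ⟨q, hq⟩
    obtain ⟨g, rfl⟩ := QuotientGroup.mk'_surjective N q
    let A : Subgroup G := ((P.subgroupOf S).map ι).map (MulAut.conj g).toMonoidHom
    have hA : A ≤ (T : Subgroup G) ⊔ N := by
      rintro _ ⟨_, ⟨a, ha, rfl⟩, rfl⟩
      have h1 := hq ⟨a, ha⟩
      simp only [MonoidHom.comp_apply, ← map_inv, ← map_mul] at h1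
      have h2 := Subgroup.mul_mem _ (Subgroup.mem_sup_left (T := N) (hι ⟨φ ⟨a, ha⟩, hφ _⟩))
        (Subgroup.mem_sup_right (S := (T : Subgroup G)) (QuotientGroup.eq.mp h1))
      rw [mul_inv_cancel_left] at h2
      exact h2
    have hAp : IsPGroup p A := (T.2.to_le (fun y hy => by
      obtain ⟨a, -, rfl⟩ := hy; exact hι a)).map _
    have hSyl : IsSylIn p (T : Subgroup G) ((T : Subgroup G) ⊔ N) :=
      ⟨le_sup_left, T.2, fun C hC hle _ => T.3 hC hle⟩
    obtain ⟨b, hb, hbA⟩ := hSyl.exists_conj_le hAp hA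
    rw [← SetLike.mem_coe, Subgroup.mul_normal] at hb
    obtain ⟨s, hs, n, hn, rfl⟩ := hb
    refine (h.2 P hP φ hφ).mpr ⟨n * g, fun x => ?_⟩
    have h3 := hbA _ ⟨_, ⟨⟨x, hP x.2⟩, x.2, rfl⟩, rfl⟩
    have h4 : n * g * ι ⟨x, hP x.2⟩ * (n * g)⁻¹ ∈ (T : Subgroup G) := by
      have := Subgroup.mul_mem _ (Subgroup.mul_mem _ (Subgroup.inv_mem _ hs) h3) hs
      simpa [MulAut.conj_apply, mul_assoc] using this
    refine heq _ _ (hι _) h4 ?_
    have h5 := hq x
    have hn1 : QuotientGroup.mk' N n = 1 := (QuotientGroup.eq_one_iff n).mpr hn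
    simp only [map_mul, map_inv, hn1, one_mul]
    exact h5
  · rw [Sylow.coe_mapSurjective, hT, MonoidHom.range_comp]

/-- In a model the normal centric subgroup `O_p(F)` is invariant, which gives a map onto its
automizer with kernel inside the image of `S`. -/
theorem exists_coreHom (h : F.IsModel p G ι) :
    ∃ π : G →* F.autGroup F.core, Function.Surjective π ∧ π.ker ≤ ι.range := by
  have := h.1
  have hC := isNormal_core F
  have hCS : F.core ≤ S := hC.1
  have hCc : F.IsCentric F.core := by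
    obtain ⟨-, Q, hQ, hQc⟩ := model_isConstrained h
    exact centric_mono hQc (le_core hQ) hCS
  choose act hact hacte using fun (g : G) (a : F.core) =>
    model_normal_of_isNormal h hC (g := g) (a := ⟨a, hCS a.2⟩) a.2
  let e : G → F.core → F.core := fun g a => ⟨act g a, hact g a⟩
  have he : ∀ g a, ι ⟨e g a, hCS (e g a).2⟩ = g * ι ⟨a, hCS a.2⟩ * g⁻¹ := hacte
  have hinj : ∀ a b : F.core, ι ⟨a, hCS a.2⟩ = ι ⟨b, hCS b.2⟩ → a = b := fun a b hab =>
    Subtype.ext (congrArg (fun s : S => (s : Ω)) (h.2.1.1 hab))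
  have hmul : ∀ g k a, e (g * k) a = e g (e k a) := fun g k a => hinj _ _ (by
    rw [he, he, he]; group)
  have hone : ∀ a, e 1 a = a := fun a => hinj _ _ (by rw [he]; group)
  let π₀ : G →* MulAut F.core := MonoidHom.mk' (fun g =>
    { toFun := e g
      invFun := e g⁻¹
      left_inv := fun a => by rw [← hmul, inv_mul_cancel, hone]
      right_inv := fun a => by rw [← hmul, mul_inv_cancel, hone]
      map_mul' := fun a b => hinj _ _ (by
        rw [he, show (⟨((a * b : F.core) : Ω), hCS (a * b).2⟩ : S) =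
            ⟨a, hCS a.2⟩ * ⟨b, hCS b.2⟩ from rfl,
          show (⟨((e g a * e g b : F.core) : Ω), hCS (e g a * e g b).2⟩ : S) =
            ⟨e g a, hCS (e g a).2⟩ * ⟨e g b, hCS (e g b).2⟩ from rfl, map_mul, map_mul, he, he]
        group) })
    fun g k => MulEquiv.ext fun a => hmul g k a
  have hmem : ∀ g, π₀ g ∈ F.autGroup F.core := fun g => by
    refine (autGroup_eq_set hCS _).mpr (isMor_of_induces h.2.1 hCS
      (fun x hx => hCS (autFun_mem _ hx)) (g := g) fun a b ha hb => ?_)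
    rw [show b = ⟨e g ⟨a, ha⟩, hCS (e g ⟨a, ha⟩).2⟩ from
      Subtype.ext (hb.trans (autFun_of_mem _ ha))]
    exact he g ⟨a, ha⟩
  refine ⟨π₀.codRestrict _ hmem, ?_, fun g hg => ?_⟩
  · rintro ⟨α, hα⟩
    obtain ⟨g, hg⟩ := exists_induces h.2.1 (isMor_autFun hCS hα)
    refine ⟨g, Subtype.ext (MulEquiv.ext fun a => hinj _ _ ?_)⟩
    show ι ⟨e g a, hCS (e g a).2⟩ = _
    rw [he]
    exact (hg ⟨a, hCS a.2⟩ ⟨α a, hCS (α a).2⟩ a.2 (autFun_coe α a).symm).symm
  · have hg' : π₀ g = 1 := congrArg Subtype.val (MonoidHom.mem_ker.mp hg)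
    obtain ⟨z, hz, -⟩ := model_centralizer h hC hCc (g := g) fun a ha => by
      have := he g ⟨a, ha⟩
      rw [show e g ⟨a, ha⟩ = ⟨a, ha⟩ from
        congrArg (fun β : MulAut F.core => β ⟨a, ha⟩) hg'] at this
      exact this.symm
    exact ⟨z, hz⟩

/-- A saturated system has a `p`-solvable realizing group exactly when it is constrained with
`p`-solvable automizer of `O_p(F)`. -/
theorem pSolvable_realizable_iff {Ω : Type u} [Group Ω] {S : Subgroup Ω} [Finite S] {p : ℕ}
    [Fact p.Prime] (hS : IsPGroup p S) (F : FusionSystem S) :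
    (∃ (G : Type u) (_ : Group G) (_ : Finite G) (ι : S →* G), IsPSolvable p G ∧
        F.IsRealizedBy ι ∧ ∃ T : Sylow p G, (T : Subgroup G) = ι.range) ↔
      (F.IsConstrained p ∧ IsPSolvable p ↥(F.autGroup F.core)) := by
  constructor
  · rintro ⟨G, _, _, ι, hsol, hr, T, hT⟩
    have hq := CfsgLib.PLocal.isPSolvable_quotient hsol (pPrimeCore p G)
    obtain ⟨hr', T', hT'⟩ := realized_quotient hr T hT _
      (CfsgLib.Base.pPrimeCore_coprime p G)
    have hM : F.IsModel p (G ⧸ pPrimeCore p G) ((QuotientGroup.mk' _).comp ι) :=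
      ⟨inferInstance, hr', ⟨T', hT'⟩, CfsgLib.PLocal.centralizer_pCore_le hq
        (CfsgLib.Base.pPrimeCore_quotient_pPrimeCore p G)⟩
    obtain ⟨π, hπ, -⟩ := exists_coreHom hM
    exact ⟨model_isConstrained hM, CfsgLib.PLocal.isPSolvable_of_surjective π hπ hq⟩
  · rintro ⟨hc, hsol⟩
    obtain ⟨G, _, ι, hM⟩ := exists_model hS hc
    have := hM.1
    obtain ⟨π, hπ, hker⟩ := exists_coreHom hM
    refine ⟨G, inferInstance, inferInstance, ι, ?_, hM.2.1, hM.2.2.1⟩
    obtain ⟨T, hT⟩ := hM.2.2.1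
    exact CfsgLib.PLocal.isPSolvable_of_normal π.ker
      (CfsgLib.PLocal.isPSolvable_of_isPGroup (T.2.to_le (hker.trans hT.ge)))
      ((CfsgLib.PLocal.isPSolvable_congr (QuotientGroup.quotientKerEquivOfSurjective π hπ)).mpr
        hsol)

end CfsgLib.Fusion
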