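import Mathlib
import Cfsg.Agent.Lib.Fusion.SectionFree
import Cfsg.Agent.Lib.Fusion.PSolvableModel
import Cfsg.Agent.Lib.Fusion.FactorSaturated
import Cfsg.Agent.Lib.Fusion.Criteria
import Cfsg.Agent.Lib.Fusion.Invariant

/-! Section freeness of fusion systems passes to factor systems by normal subgroups. -/
set_option autoImplicit false

universe u v

namespace CfsgLib.Fusion

open Cfsg Cfsg.FusionSystem

theorem involves_of_quotient {H : Type*} [Group H] {L L' : Type*} [Group L] [Group L'] (π : L' →* L)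
    (hπ : Function.Surjective π) (h : Involves H L) : Involves H L' := by
  obtain ⟨K, R, hn, ⟨e⟩⟩ := h
  let f : ↥(K.comap π) →* K := MonoidHom.mk' (fun x => ⟨π x, x.2⟩) fun x y => Subtype.ext (map_mul π _ _)
  have hf : Function.Surjective f := fun y => by
    obtain ⟨x, hx⟩ := hπ y
    exact ⟨⟨x, show π x ∈ K from hx ▸ y.2⟩, Subtype.ext hx⟩
  let g : ↥(K.comap π) →* (K ⧸ R.subgroupOf K) := (QuotientGroup.mk' _).comp f
  have hg : Function.Surjective g := (QuotientGroup.mk'_surjective _).comp hf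
  have hk : (R.comap π).subgroupOf (K.comap π) = g.ker := by
    ext x
    rw [MonoidHom.mem_ker, MonoidHom.comp_apply, QuotientGroup.mk'_apply, QuotientGroup.eq_one_iff]
    rfl
  have hn' : ((R.comap π).subgroupOf (K.comap π)).Normal := hk ▸ inferInstance
  exact ⟨K.comap π, R.comap π, hn', ⟨((QuotientGroup.quotientMulEquivOfEq hk).trans
    (QuotientGroup.quotientKerEquivOfSurjective g hg)).trans e⟩⟩

/-- Dividing out the `p'`-core gives a model when a normal `p`-subgroup is self centralizing in a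
Sylow subgroup. -/
theorem centralizer_le_of_sylow {G : Type*} [Group G] [Finite G] {p : ℕ} [Fact p.Prime] (T : Sylow p G)
    {R : Subgroup G} [R.Normal] (hRp : IsPGroup p R)
    (hT : (T : Subgroup G) ⊓ Subgroup.centralizer (R : Set G) ≤ R) :
    Subgroup.centralizer ((pCore p (G ⧸ pPrimeCore p G) : Subgroup _) : Set (G ⧸ pPrimeCore p G)) ≤
      pCore p (G ⧸ pPrimeCore p G) := by
  set O := pPrimeCore p G
  set π := QuotientGroup.mk' O
  have hsurj : Function.Surjective π := QuotientGroup.mk'_surjective O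
  have hdisj : R ⊓ O = ⊥ :=
    CfsgLib.Base.inf_eq_bot_of_isPGroup_of_coprime hRp (CfsgLib.Base.pPrimeCore_coprime p G)
  let R₁ := R.map π
  have hR₁n : R₁.Normal := Subgroup.Normal.map inferInstance π hsurj
  have hR₁p : IsPGroup p R₁ := hRp.map π
  let C := Subgroup.centralizer (R₁ : Set (G ⧸ O))
  have hCn : C.Normal := Subgroup.normal_centralizer
  have hC : ∀ x : G, π x ∈ C → x ∈ Subgroup.centralizer (R : Set G) := by
    intro x hx
    refine Subgroup.mem_centralizer_iff.mpr fun r hr => ?_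
    have h1 := Subgroup.mem_centralizer_iff.mp hx (π r) ⟨r, hr, rfl⟩
    have h2 : (r * x)⁻¹ * (x * r) ∈ R ⊓ O := by
      refine ⟨?_, QuotientGroup.eq.mp ((map_mul π r x).trans (h1.trans (map_mul π x r).symm))⟩
      have : (r * x)⁻¹ * (x * r) = (x⁻¹ * r⁻¹ * x) * r := by group
      rw [this]
      refine R.mul_mem ?_ hr
      simpa using (inferInstance : R.Normal).conj_mem r⁻¹ (R.inv_mem hr) x⁻¹
    rw [hdisj, Subgroup.mem_bot, inv_mul_eq_one] at h2
    exact h2
  set T₁ := T.mapSurjective hsurj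
  have hTO : ∀ x : G, π x ∈ (T₁ : Subgroup (G ⧸ O)) → ∃ t ∈ (T : Subgroup G), π t = π x := fun x hx => by
    rw [Sylow.coe_mapSurjective] at hx
    exact hx
  have hTC : (T₁ : Subgroup (G ⧸ O)) ⊓ C ≤ R₁ := by
    rintro q ⟨hqT, hqC⟩
    obtain ⟨x, rfl⟩ := hsurj q
    obtain ⟨t, ht, e⟩ := hTO x hqT
    exact e ▸ ⟨t, hT ⟨ht, hC t (e ▸ hqC)⟩, rfl⟩
  have hle : C ≤ R₁ := by
    let Z := (T₁ : Subgroup (G ⧸ O)) ⊓ C
    have hZ : C ≤ Z := by
      refine CfsgLib.PLocal.le_of_central_of_pPrimeCore_eq_bot (p := p)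
        (CfsgLib.Base.pPrimeCore_quotient_pPrimeCore p G) inf_le_right (fun c hc => ?_)
        (T₁.2.to_le inf_le_left) ?_
      · exact Subgroup.mem_centralizer_iff.mpr fun z hz =>
          Subgroup.mem_centralizer_iff.mp hc z (hTC hz)
      · have hsyl : IsSylIn p Z C := isSylIn_inf (A := (T₁ : Subgroup (G ⧸ O))) (B := ⊤)
          ⟨le_top, T₁.2, fun B hB hle _ => T₁.3 hB hle⟩ le_top
          fun b _ n hn => hCn.conj_mem n hn b
        obtain ⟨U, hU⟩ := (exists_sylow_iff hsyl.1).mpr hsyl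
        refine ((Fact.out : p.Prime).coprime_iff_not_dvd.mpr ?_).symm
        rw [Subgroup.relIndex, ← hU]
        exact U.not_dvd_index
    exact hZ.trans hTC
  exact (Subgroup.centralizer_le (CfsgLib.Base.le_pCore hR₁p)).trans
    (hle.trans (CfsgLib.Base.le_pCore hR₁p))

variable {Ω : Type u} [Group Ω] {S : Subgroup Ω} [Finite S] {F : FusionSystem S} {p : ℕ}
  [hp : Fact p.Prime] {Q : Subgroup Ω} {Ω' : Type v} [Group Ω'] {S' : Subgroup Ω'} {θ : S →* Ω'}
  {E : FusionSystem S'}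

/-- A factor system by a normal subgroup of a section free system is section free. -/
theorem isSectionFree_factor {H : Type*} [Group H] (hS : IsPGroup p S) (hF : F.IsSaturated p)
    (hfree : F.IsSectionFree p H) (hQ : F.IsNormal Q) (hE : F.IsFactorSystem Q θ E) :
    E.IsSectionFree p H := by
  classical
  intro Rb hRb hRbc NE hNE L _ ιL hL hinv
  obtain ⟨hQS, hker, hrange, -⟩ := id hE
  have hQc : F.StronglyClosed Q := isNormal_stronglyClosed hQ
  have hlift : ∀ y ∈ S', ∃ x : S, θ x = y := fun y hy => hrange.ge hy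
  have : Finite S' := hrange ▸ Finite.of_surjective _ θ.rangeRestrict_surjective
  have hS' : IsPGroup p S' := hrange ▸ hS.of_surjective _ θ.rangeRestrict_surjective
  set R := preimageAlong θ Rb with hR
  have hRS : R ≤ S := preimageAlong_le Rb
  have hQR : Q ≤ R := le_preimageAlong hker hQS Rb
  -- conjugates of the preimage
  have hconj : ∀ U, F.IsConj R U → ∃ Ub, E.IsConj Rb Ub ∧ U = preimageAlong θ Ub := by
    intro U hU
    obtain ⟨f, hf, rfl⟩ := isConj_iff.mp hU
    have hQU : Q ≤ img R f := fun x hx => img_mono f hQR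
      (((hf.restrict hQR).img_eq_self fun y hy =>
        (stronglyClosed_iff.mp hQc).2 R f hf y (hQR hy) hy).ge hx)
    refine ⟨imageAlong θ (img R f), ?_, ?_⟩
    · obtain ⟨f', hf', hf'e⟩ := factor_push hE hQc hRb.1 hf
      refine isConj_iff.mpr ⟨f', hf', le_antisymm (img_le fun y hy => ?_) ?_⟩
      · obtain ⟨x, rfl⟩ := hlift y (hRb.1 hy)
        have hxR : (x : Ω) ∈ R := mem_preimageAlong.mpr ⟨x.2, hy⟩
        rw [hf'e x (hf.mem hxR) hy]
        exact ⟨_, mem_img_of_mem f hxR, rfl⟩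
      · rintro _ ⟨z, hz, rfl⟩
        obtain ⟨x, hx, hxz⟩ := hf.mem_img.mp hz
        obtain ⟨hxS, hxP⟩ := mem_preimageAlong.mp hx
        have := mem_img_of_mem f' hxP
        rw [hf'e ⟨x, hxS⟩ (hf.mem hx) hxP] at this
        convert this using 2
        exact Subtype.ext hxz.symm
    · rw [preimage_image hker hQS hf.img_le, sup_eq_left.mpr hQU]
  have hnorm : ∀ Ub, Ub ≤ S' → ∀ x : S, (x : Ω) ∈ normalizerIn S (preimageAlong θ Ub) ↔
      θ x ∈ normalizerIn S' Ub := by
    intro Ub hUb x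
    have hmem : ∀ a : S, (a : Ω) ∈ preimageAlong θ Ub ↔ θ a ∈ Ub := fun a =>
      ⟨fun h => (mem_preimageAlong.mp h).2, fun h => mem_preimageAlong.mpr ⟨a.2, h⟩⟩
    constructor
    · intro h
      refine mem_normalizerIn.mpr ⟨hrange.le ⟨x, rfl⟩, Subgroup.mem_normalizer_iff.mpr fun y => ?_⟩
      constructor
      · intro hy
        obtain ⟨a, rfl⟩ := hlift y (hUb hy)
        have h1 := (Subgroup.mem_normalizer_iff.mp (mem_normalizerIn.mp h).2 a).mp ((hmem a).mpr hy)
        have h2 := (hmem (x * a * x⁻¹)).mp h1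
        rwa [map_mul, map_mul, map_inv] at h2
      · intro hy
        obtain ⟨b, hb⟩ := hlift _ (hUb hy)
        have h1 : ((x⁻¹ * b * x : S) : Ω) ∈ preimageAlong θ Ub := by
          refine (Subgroup.mem_normalizer_iff.mp (mem_normalizerIn.mp h).2 _).mpr ?_
          have h3 := (hmem b).mpr (hb ▸ hy)
          simpa [mul_assoc] using h3
        have h2 := (hmem _).mp h1
        rw [map_mul, map_mul, map_inv, hb] at h2
        simpa [mul_assoc] using h2
    · intro h
      refine mem_normalizerIn.mpr ⟨x.2, Subgroup.mem_normalizer_iff.mpr fun y => ?_⟩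
      have hn := Subgroup.mem_normalizer_iff.mp (mem_normalizerIn.mp h).2
      constructor
      · intro hy
        obtain ⟨hyS, hyU⟩ := mem_preimageAlong.mp hy
        refine (hmem (x * ⟨y, hyS⟩ * x⁻¹)).mpr ?_
        rw [map_mul, map_mul, map_inv]
        exact (hn _).mp hyU
      · intro hy
        obtain ⟨hyS, hyU⟩ := mem_preimageAlong.mp hy
        have h4 : y ∈ S := by
          have := S.mul_mem (S.mul_mem (S.inv_mem x.2) hyS) x.2
          simpa [mul_assoc] using this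
        refine (hmem ⟨y, h4⟩).mpr ((hn _).mpr ?_)
        rw [← map_inv, ← map_mul, ← map_mul]
        exact hyU
  have hcardN : ∀ Ub, Ub ≤ S' → Nat.card (normalizerIn S (preimageAlong θ Ub)) =
      Nat.card θ.ker * Nat.card (normalizerIn S' Ub) := by
    intro Ub hUb
    let f : ↥(normalizerIn S (preimageAlong θ Ub)) →* ↥(normalizerIn S' Ub) :=
      MonoidHom.mk' (fun a => ⟨θ ⟨a, normalizerIn_le a.2⟩,
        (hnorm Ub hUb ⟨a, normalizerIn_le a.2⟩).mp a.2⟩) fun a b => Subtype.ext (map_mul θ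
          ⟨a, normalizerIn_le a.2⟩ ⟨b, normalizerIn_le b.2⟩)
    have hfs : Function.Surjective f := fun y => by
      obtain ⟨a, ha⟩ := hlift y (normalizerIn_le y.2)
      exact ⟨⟨a, (hnorm Ub hUb a).mpr (ha ▸ y.2)⟩, Subtype.ext ha⟩
    let e : f.ker ≃ θ.ker :=
      { toFun := fun a => ⟨⟨a.1, normalizerIn_le a.1.2⟩, congrArg Subtype.val a.2⟩
        invFun := fun a => ⟨⟨a.1, (hnorm Ub hUb a.1).mpr (by rw [a.2]; exact one_mem _)⟩,
          Subtype.ext a.2⟩
        left_inv := fun a => rfl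
        right_inv := fun a => rfl }
    rw [Subgroup.card_eq_card_quotient_mul_card_subgroup f.ker,
      Nat.card_congr (QuotientGroup.quotientKerEquivOfSurjective f hfs).toEquiv, Nat.card_congr e,
      mul_comm]
  have hRn : F.IsFullyNormalized R := ⟨hRS, fun U hU => by
    obtain ⟨Ub, hUb, rfl⟩ := hconj U hU
    rw [hcardN Ub (isConj_le hUb).2, hR, hcardN Rb hRb.1]
    exact Nat.mul_le_mul_left _ (hRb.2 Ub hUb)⟩
  have hRc : F.IsCentric R := ⟨hRS, fun U hU z hz => by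
    obtain ⟨Ub, hUb, rfl⟩ := hconj U hU
    obtain ⟨hzS, hzc⟩ := mem_centralizerIn.mp hz
    refine mem_preimageAlong.mpr ⟨hzS, hRbc.2 Ub hUb (mem_centralizerIn.mpr ⟨hrange.le ⟨_, rfl⟩,
      fun y hy => ?_⟩)⟩
    obtain ⟨a, rfl⟩ := hlift y ((isConj_le hUb).2 hy)
    rw [cj_apply, ← map_inv, ← map_mul, ← map_mul]
    exact congrArg θ (Subtype.ext (hzc a (mem_preimageAlong.mpr ⟨a.2, hy⟩)))⟩
  -- the model
  obtain ⟨NR, hNR⟩ := Cfsg.Agent.S5096.result F R hRS
  have : Finite ↥(normalizerIn S R) := finite_of_le normalizerIn_le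
  have hSR : IsPGroup p ↥(normalizerIn S R) :=
    hS.of_injective _ (Subgroup.inclusion_injective normalizerIn_le)
  obtain ⟨L', _, ι', hL'⟩ := exists_model hSR (normalizerSystem_isConstrained hS hF hRn hRc hNR)
  refine hfree R hRn hRc NR hNR L' ι' hL' ?_
  have := hL'.1
  have hRN : R ≤ normalizerIn S R := le_normalizerIn hRS
  have hQN : NR.IsNormal Q := by
    refine isNormal_iff.mpr ⟨hQR.trans hRN, fun P f hf => ?_⟩
    obtain ⟨-, hP, hPN, g, hg, hgf, hgR⟩ := (isMor_normalizerSystem hNR).mp hf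
    have hd : P ⊔ Q ≤ P ⊔ R := sup_le_sup_left hQR P
    refine ⟨g, (isMor_normalizerSystem hNR).mpr ⟨hg.restrict hd, sup_le hP (hQR.trans hRN),
      fun x hx => ?_, g, hg.restrict (sup_le hd le_sup_right), fun _ _ => rfl, hgR⟩, hgf,
      (hg.restrict (hQR.trans le_sup_right)).img_eq_self fun x hx =>
        (stronglyClosed_iff.mp hQc).2 _ g hg x (Subgroup.mem_sup_right (hQR hx)) hx⟩
    have h1 := mem_img_of_mem g (hd hx)
    rw [hg.img_sup, hgR] at h1
    exact sup_le (img_le fun y hy => hgf y hy ▸ hPN y hy) hRN h1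
  let Qi : Subgroup L' := (Q.subgroupOf (normalizerIn S R)).map ι'
  have hQi : Qi.Normal := ⟨by
    rintro _ ⟨a, ha, rfl⟩ t
    obtain ⟨b, hb, hbe⟩ := model_normal_of_isNormal hL' hQN (g := t) ha
    exact ⟨b, hb, hbe⟩⟩
  let π := QuotientGroup.mk' Qi
  let Nb := normalizerIn S' Rb
  have hmemN : ∀ a : ↥(normalizerIn S R), θ ⟨a, normalizerIn_le a.2⟩ ∈ Nb := fun a =>
    (hnorm Rb hRb.1 ⟨a, normalizerIn_le a.2⟩).mp a.2
  let ρ : ↥(normalizerIn S R) →* Nb := MonoidHom.mk'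
    (fun a => ⟨θ ⟨a, normalizerIn_le a.2⟩, hmemN a⟩) fun a b =>
    Subtype.ext (map_mul θ ⟨a, normalizerIn_le a.2⟩ ⟨b, normalizerIn_le b.2⟩)
  have hρ : Function.Surjective ρ := fun y => by
    obtain ⟨a, ha⟩ := hlift y (normalizerIn_le y.2)
    exact ⟨⟨a, (hnorm Rb hRb.1 a).mpr (ha ▸ y.2)⟩, Subtype.ext ha⟩
  have hρker : ∀ a, ρ a = 1 ↔ (a : Ω) ∈ Q := fun a =>
    Subtype.ext_iff.trans (hker ⟨a, normalizerIn_le a.2⟩)
  have hkerle : ρ.ker ≤ (π.comp ι').ker := fun a ha => by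
    rw [MonoidHom.mem_ker, MonoidHom.comp_apply, QuotientGroup.mk'_apply, QuotientGroup.eq_one_iff]
    exact ⟨a, (hρker a).mp ha, rfl⟩
  let κ : Nb →* (L' ⧸ Qi) := ρ.liftOfSurjective hρ ⟨π.comp ι', hkerle⟩
  have hκ : ∀ a, κ (ρ a) = π (ι' a) := fun a =>
    MonoidHom.liftOfRightInverse_comp_apply _ _ _ ⟨π.comp ι', hkerle⟩ a
  have hκinj : Function.Injective κ := by
    refine (injective_iff_map_eq_one κ).mpr fun y hy => ?_
    obtain ⟨a, rfl⟩ := hρ y
    rw [hκ, QuotientGroup.mk'_apply, QuotientGroup.eq_one_iff] at hy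
    obtain ⟨b, hb, hbe⟩ := hy
    exact (hρker a).mpr (hL'.2.1.1 hbe ▸ hb)
  have hreal : NE.IsRealizedBy κ := by
    refine ⟨hκinj, fun P hP φ hφ => ⟨fun hm => ?_, ?_⟩⟩
    · obtain ⟨-, -, -, g, hg, hgf, hgR⟩ := (isMor_normalizerSystem hNE).mp (isMor_of_mem hm)
      obtain ⟨G₁, hG₁, hG₁e⟩ := factor_lift hE hg
      set U := preimageAlong θ (P ⊔ Rb)
      have hUR : R ≤ U := fun x hx =>
        mem_preimageAlong.mpr ⟨(mem_preimageAlong.mp hx).1,
          Subgroup.mem_sup_right (mem_preimageAlong.mp hx).2⟩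
      have hUN : U ≤ normalizerIn S R := fun x hx => by
        obtain ⟨hxS, hx'⟩ := mem_preimageAlong.mp hx
        exact (hnorm Rb hRb.1 ⟨x, hxS⟩).mpr (sup_le hP (le_normalizerIn hRb.1) hx')
      have hG₁R : img R G₁ = R := (hG₁.restrict hUR).img_eq_self fun x hx => by
        obtain ⟨hxS, hxR⟩ := mem_preimageAlong.mp hx
        refine mem_preimageAlong.mpr ⟨hG₁.mem (hUR hx), ?_⟩
        rw [← hG₁e ⟨x, hxS⟩ (hG₁.mem (hUR hx)) (Subgroup.mem_sup_right hxR)]
        exact hgR.le (mem_img_of_mem g hxR)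
      have hNRm : IsMor NR U G₁ := by
        refine (isMor_normalizerSystem hNR).mpr ⟨hG₁, hUN, fun x hx => ?_, G₁,
          by rwa [sup_eq_left.mpr hUR], fun _ _ => rfl, hG₁R⟩
        obtain ⟨hxS, hx'⟩ := mem_preimageAlong.mp hx
        refine (hnorm Rb hRb.1 ⟨G₁ x, hG₁.mem hx⟩).mpr ?_
        rw [← hG₁e ⟨x, hxS⟩ (hG₁.mem hx) hx']
        have h2 := mem_img_of_mem g hx'
        rw [hg.img_sup, hgR] at h2
        exact sup_le (img_le fun y hy => by rw [hgf y hy, toFun_of_mem φ hy]; exact hφ _)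
          (le_normalizerIn hRb.1) h2
      obtain ⟨l, hl⟩ := exists_induces hL'.2.1 hNRm
      refine ⟨π l, fun x => ?_⟩
      obtain ⟨a, ha⟩ := hρ ⟨x, hP x.2⟩
      have hax : θ ⟨a, normalizerIn_le a.2⟩ = x := congrArg Subtype.val ha
      have haU : (a : Ω) ∈ U := mem_preimageAlong.mpr
        ⟨normalizerIn_le a.2, hax ▸ Subgroup.mem_sup_left x.2⟩
      let b : ↥(normalizerIn S R) := ⟨G₁ a, hNRm.mem haU⟩
      have hb : ρ b = ⟨φ x, hφ x⟩ := Subtype.ext (by
        show θ ⟨G₁ a, _⟩ = φ x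
        rw [← hG₁e ⟨a, normalizerIn_le a.2⟩ (hG₁.mem haU) (by rw [hax]; exact Subgroup.mem_sup_left x.2),
          hax, hgf x x.2, toFun_coe])
      rw [← hb, ← ha, hκ, hκ, hl a b haU rfl, map_mul, map_mul, map_inv]
    · rintro ⟨q, hq⟩
      obtain ⟨l, rfl⟩ := QuotientGroup.mk'_surjective Qi q
      set U := preimageAlong θ P
      have hUN : U ≤ normalizerIn S R := fun x hx => by
        obtain ⟨hxS, hx'⟩ := mem_preimageAlong.mp hx
        exact (hnorm Rb hRb.1 ⟨x, hxS⟩).mpr (hP hx')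
      have hRnorm : ∀ a : ↥(normalizerIn S R), (a : Ω) ∈ R →
          ∃ b : ↥(normalizerIn S R), (b : Ω) ∈ R ∧ ι' b = l * ι' a * l⁻¹ := fun a ha =>
        model_normal_of_isNormal hL' (normalizerSystem_isNormal hRS hNR) ha
      have hgood : ∀ a : ↥(normalizerIn S R), (a : Ω) ∈ U ⊔ R → l * ι' a * l⁻¹ ∈ ι'.range := by
        intro a ha
        have hsup : (U.subgroupOf (normalizerIn S R)) ⊔ (R.subgroupOf (normalizerIn S R)) ≤
            ι'.range.comap ((MulAut.conj l).toMonoidHom.comp ι') := by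
          refine sup_le (fun z hz => ?_) fun z hz => ?_
          · obtain ⟨hzS, hzP⟩ := mem_preimageAlong.mp hz
            obtain ⟨c, hc⟩ := hρ ⟨φ ⟨_, hzP⟩, hφ _⟩
            have h1 := hq ⟨_, hzP⟩
            rw [← hc] at h1
            change κ (ρ c) = π l * κ (ρ z) * (π l)⁻¹ at h1
            rw [hκ, hκ, ← map_inv, ← map_mul, ← map_mul] at h1
            obtain ⟨d, -, hd⟩ := (QuotientGroup.eq.mp h1 : _ ∈ Qi)
            exact ⟨c * d, by rw [map_mul, hd, mul_inv_cancel_left]; rfl⟩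
          · obtain ⟨b, -, hb⟩ := hRnorm z hz
            exact ⟨b, hb⟩
        refine hsup ?_
        rw [← Subgroup.subgroupOf_sup hUN hRN]
        exact ha
      obtain ⟨hk, hki⟩ := isMor_pullConj hL'.2.1 (sup_le hUN hRN) hgood
      set k := pullConj ι' l
      have hkF := ((isMor_normalizerSystem hNR).mp hk).1
      have hkR : ∀ x ∈ R, k x ∈ R := fun x hx => by
        obtain ⟨b, hb, hbe⟩ := hRnorm ⟨x, hRN hx⟩ hx
        obtain ⟨c, hc, hce⟩ := pullConj_spec ι' (hgood ⟨x, hRN hx⟩ (Subgroup.mem_sup_right hx))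
        rw [show k x = (c : Ω) from hc.symm, hL'.2.1.1 (hce.trans hbe.symm)]
        exact hb
      have hPR : preimageAlong θ (P ⊔ Rb) ≤ U ⊔ R := by
        intro x hx
        obtain ⟨hxS, hx'⟩ := mem_preimageAlong.mp hx
        have hle : P ⊔ Rb ≤ imageAlong θ (U ⊔ R) := sup_le
          (fun y hy => by
            obtain ⟨a, rfl⟩ := hlift y (normalizerIn_le (hP hy))
            exact ⟨a, Subgroup.mem_sup_left (mem_preimageAlong.mpr ⟨a.2, hy⟩), rfl⟩)
          fun y hy => by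
            obtain ⟨a, rfl⟩ := hlift y (hRb.1 hy)
            exact ⟨a, Subgroup.mem_sup_right (mem_preimageAlong.mpr ⟨a.2, hy⟩), rfl⟩
        obtain ⟨a, ha, hax⟩ := hle hx'
        have h3 : ((a⁻¹ * ⟨x, hxS⟩ : S) : Ω) ∈ Q := (hker _).mp (by
          rw [map_mul, map_inv, hax, inv_mul_cancel])
        have h4 := (U ⊔ R).mul_mem ha (Subgroup.mem_sup_right (hQR h3))
        simpa using h4
      have hPS : P ⊔ Rb ≤ S' := sup_le (hP.trans normalizerIn_le) hRb.1
      obtain ⟨f', hf', hf'e⟩ := factor_push hE hQc hPS (hkF.restrict hPR)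
      have hf'P : ∀ x : P, f' x = φ x := fun x => by
        obtain ⟨a, ha⟩ := hρ ⟨x, hP x.2⟩
        have hax : θ ⟨a, normalizerIn_le a.2⟩ = x := congrArg Subtype.val ha
        have haU : (a : Ω) ∈ U := mem_preimageAlong.mpr ⟨normalizerIn_le a.2, hax ▸ x.2⟩
        obtain ⟨c, hc, hce⟩ := pullConj_spec ι' (hgood a (Subgroup.mem_sup_left haU))
        have h5 : κ (ρ c) = κ ⟨φ x, hφ x⟩ := by
          rw [hq x, ← ha, hκ, hκ, hce, map_mul, map_mul, map_inv]
        have h6 : θ ⟨c, normalizerIn_le c.2⟩ = φ x := congrArg Subtype.val (hκinj h5)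
        rw [← hax, hf'e ⟨a, normalizerIn_le a.2⟩ (hkF.mem (Subgroup.mem_sup_left haU))
          (by rw [hax]; exact Subgroup.mem_sup_left x.2), ← h6]
        exact congrArg θ (Subtype.ext hc.symm)
      have hfR : img Rb f' = Rb := (hf'.restrict le_sup_right).img_eq_self fun y hy => by
        obtain ⟨a, rfl⟩ := hlift y (hRb.1 hy)
        have haR : (a : Ω) ∈ R := mem_preimageAlong.mpr ⟨a.2, hy⟩
        rw [hf'e a (hkF.mem (Subgroup.mem_sup_right haR)) (Subgroup.mem_sup_right hy)]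
        exact (mem_preimageAlong.mp (hkR _ haR)).2
      exact IsMor.mem_hom ((isMor_normalizerSystem hNE (f := f')).mpr
        ⟨hf'.restrict le_sup_left, hP, fun x hx => hf'P ⟨x, hx⟩ ▸ hφ _, f', hf', fun _ _ => rfl,
          hfR⟩) fun x => (hf'P x).symm
  obtain ⟨T, hT⟩ := hL'.2.2.1
  have hsurj : Function.Surjective π := QuotientGroup.mk'_surjective Qi
  set Tq := T.mapSurjective hsurj with hTq
  have hTκ : (Tq : Subgroup (L' ⧸ Qi)) = κ.range := by
    rw [hTq, Sylow.coe_mapSurjective, hT]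
    ext y
    constructor
    · rintro ⟨_, ⟨a, rfl⟩, rfl⟩
      exact ⟨ρ a, hκ a⟩
    · rintro ⟨z, rfl⟩
      obtain ⟨a, rfl⟩ := hρ z
      exact ⟨_, ⟨a, rfl⟩, (hκ a).symm⟩
  let R₁ : Subgroup (L' ⧸ Qi) := ((R.subgroupOf (normalizerIn S R)).map ι').map π
  have hR₀n : ((R.subgroupOf (normalizerIn S R)).map ι').Normal := ⟨by
    rintro _ ⟨a, ha, rfl⟩ t
    obtain ⟨b, hb, hbe⟩ := model_normal_of_isNormal hL' (normalizerSystem_isNormal hRS hNR) (g := t) ha
    exact ⟨b, hb, hbe⟩⟩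
  have hR₁n : R₁.Normal := Subgroup.Normal.map hR₀n π hsurj
  have hR₁p : IsPGroup p R₁ := ((hSR.to_subgroup _).map ι').map π
  have hTc : (Tq : Subgroup (L' ⧸ Qi)) ⊓ Subgroup.centralizer (R₁ : Set (L' ⧸ Qi)) ≤ R₁ := by
    rintro x ⟨hxT, hxc⟩
    obtain ⟨y, rfl⟩ := hTκ.le hxT
    obtain ⟨a, rfl⟩ := hρ y
    have hy : θ ⟨a, normalizerIn_le a.2⟩ ∈ Rb := by
      refine hRbc.2 Rb (isConj_refl E hRb.1) (mem_centralizerIn.mpr ⟨normalizerIn_le (hmemN a),
        fun z hz => ?_⟩)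
      obtain ⟨b, hb⟩ := hρ ⟨z, le_normalizerIn hRb.1 hz⟩
      have hbR : (b : Ω) ∈ R := mem_preimageAlong.mpr ⟨normalizerIn_le b.2, by
        rw [show θ ⟨b, normalizerIn_le b.2⟩ = z from congrArg Subtype.val hb]; exact hz⟩
      have h1 := Subgroup.mem_centralizer_iff.mp hxc (π (ι' b)) ⟨_, ⟨b, hbR, rfl⟩, rfl⟩
      rw [← hκ b, ← map_mul, ← map_mul, ← map_mul, ← map_mul] at h1
      have h2 := congrArg Subtype.val (hκinj h1)
      rw [map_mul, map_mul] at h2
      rw [← show θ ⟨b, normalizerIn_le b.2⟩ = z from congrArg Subtype.val hb]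
      exact cj_fixed_iff.mpr h2.symm
    rw [hκ]
    exact ⟨_, ⟨a, mem_preimageAlong.mpr ⟨normalizerIn_le a.2, hy⟩, rfl⟩, rfl⟩
  have : Finite ↥Nb := finite_of_le normalizerIn_le
  obtain ⟨hr', T', hT'⟩ := realized_quotient hreal Tq hTκ (pPrimeCore p (L' ⧸ Qi))
    (CfsgLib.Base.pPrimeCore_coprime p _)
  obtain ⟨e, -⟩ := model_unique (hS'.of_injective _ (Subgroup.inclusion_injective
    (normalizerIn_le : Nb ≤ S'))) hL
    ⟨inferInstance, hr', ⟨T', hT'⟩, centralizer_le_of_sylow Tq hR₁p hTc⟩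
  exact involves_of_quotient ((QuotientGroup.mk' (pPrimeCore p (L' ⧸ Qi))).comp π)
    ((QuotientGroup.mk'_surjective _).comp hsurj)
    (involves_of_injective e.toMonoidHom e.injective hinv)

end CfsgLib.Fusion
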