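import Mathlib
import Cfsg.Agent.Lib.Fusion.InnerCond
import Cfsg.Agent.Lib.Fusion.AlperinAbove
import Cfsg.Agent.Lib.Fusion.SectionFreeFactor
import Cfsg.Agent.Lib.Fusion.FactorExists

/-! Control of fusion by a characteristic functor: from models to saturated systems. -/
set_option autoImplicit false

universe u

namespace CfsgLib.Fusion

open Cfsg Cfsg.FusionSystem

variable {p : ℕ} [hp : Fact p.Prime]

/-- A functor assigning subgroups to finite `p`-groups, compatibly with isomorphisms. -/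
structure PFunctor' (p : ℕ) where
  W : ∀ (Q : Type u) [Group Q], Subgroup Q
  ne_bot : ∀ (Q : Type u) [Group Q] [Finite Q], IsPGroup p Q → Nontrivial Q → W Q ≠ ⊥
  equiv : ∀ (Q R : Type u) [Group Q] [Group R] [Finite Q], IsPGroup p Q → ∀ φ : Q ≃* R,
    (W Q).map φ.toMonoidHom = W R

variable {Ω : Type u} [Group Ω] {S : Subgroup Ω} {F : FusionSystem S}

/-- The value of the functor at a subgroup. -/
def PFunctor'.at (w : PFunctor'.{u} p) (P : Subgroup Ω) : Subgroup Ω := (w.W ↥P).map P.subtype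

theorem PFunctor'.at_le (w : PFunctor'.{u} p) (P : Subgroup Ω) : w.at P ≤ P :=
  Subgroup.map_subtype_le _

theorem PFunctor'.at_ne_bot (w : PFunctor'.{u} p) {P : Subgroup Ω} [Finite P] (hP : IsPGroup p P)
    (h : P ≠ ⊥) : w.at P ≠ ⊥ := by
  rw [PFunctor'.at, Ne, Subgroup.map_eq_bot_iff_of_injective _ P.subtype_injective]
  exact w.ne_bot ↥P hP ((Subgroup.nontrivial_iff_ne_bot P).mpr h)

theorem PFunctor'.img_at [Finite S] (w : PFunctor'.{u} p) (hS : IsPGroup p S) {P : Subgroup Ω}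
    {f : Ω → Ω} (hf : IsMor F P f) : img (w.at P) f = w.at (img P f) := by
  have : Finite P := finite_of_le hf.le
  let e : P ≃* ↥(img P f) := MulEquiv.ofBijective
    (MonoidHom.mk' (fun x : P => (⟨f x, mem_img_of_mem f x.2⟩ : img P f))
      fun x y => Subtype.ext (hf.map_mul x.2 y.2))
    ⟨fun x y h => Subtype.ext (hf.inj x.2 y.2 (congrArg Subtype.val h)), fun y => by
      obtain ⟨x, hx, e⟩ := hf.mem_img.mp y.2
      exact ⟨⟨x, hx⟩, Subtype.ext e⟩⟩
  refine le_antisymm (img_le ?_) ?_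
  · rintro _ ⟨x, hx, rfl⟩
    refine ⟨e x, ?_, rfl⟩
    rw [← w.equiv _ _ (isPGroup_of_le hf.le hS) e]
    exact ⟨x, hx, rfl⟩
  · rintro _ ⟨y, hy, rfl⟩
    rw [← w.equiv _ _ (isPGroup_of_le hf.le hS) e] at hy
    obtain ⟨x, hx, rfl⟩ := hy
    exact mem_img_of_mem f ⟨x, hx, rfl⟩

theorem exists_system_of_eq {T : Subgroup Ω} (h : T = S) (D : FusionSystem T) :
    ∃ E : FusionSystem S, ∀ P f, IsMor E P f ↔ IsMor D P f := by
  subst h
  exact ⟨D, fun _ _ => Iff.rfl⟩

theorem mem_normalizer_of_conj_le [Finite S] {Q : Subgroup Ω}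
    (h : ∀ s ∈ S, img Q (cj s) ≤ Q) : normalizerIn S Q = S := by
  refine le_antisymm normalizerIn_le fun s hs => mem_normalizerIn.mpr ⟨hs, ?_⟩
  refine Subgroup.mem_normalizer_iff.mpr fun x => ⟨fun hx => h s hs (mem_img_of_mem _ hx),
    fun hx => ?_⟩
  have := h _ (S.inv_mem hs) (mem_img_of_mem (cj s⁻¹) hx)
  rwa [show cj s⁻¹ (s * x * s⁻¹) = x from cj_inv_cj s x] at this

theorem normalizerIn_of_isNormal [Finite S] {Q : Subgroup Ω} (hQ : F.IsNormal Q) :
    normalizerIn S Q = S :=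
  mem_normalizer_of_conj_le fun _ hs => img_le fun _ hx => conj_mem_of_isNormal hQ hs hx

theorem isFullyNormalized_of_normal [Finite S] {Q : Subgroup Ω} (hQS : Q ≤ S)
    (h : normalizerIn S Q = S) : F.IsFullyNormalized Q :=
  ⟨hQS, fun U _ => by rw [h]; exact Subgroup.card_le_of_le normalizerIn_le⟩

/-- A measure of the size of a system. -/
noncomputable def sysSize (F : FusionSystem S) : ℕ :=
  Nat.card (Σ P : Subgroup S, ↥(F.autGroup (P.map S.subtype)))

theorem sysSize_lt [Finite S] (hS : IsPGroup p S) (hF : F.IsSaturated p) {E : FusionSystem S}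
    (hsub : E.IsSubsystemOf F) (hne : ¬ F ≤ E) : sysSize E < sysSize F := by
  by_contra hle
  apply hne
  have : ∀ P : Subgroup S, Finite ↥(F.autGroup (P.map S.subtype)) := fun P => by
    have := finite_mulAut (P := P.map S.subtype) (Subgroup.map_subtype_le P)
    infer_instance
  let i : (Σ P : Subgroup S, ↥(E.autGroup (P.map S.subtype))) →
      Σ P : Subgroup S, ↥(F.autGroup (P.map S.subtype)) :=
    fun x => ⟨x.1, ⟨x.2.1, autGroup_mono hsub x.2.2⟩⟩
  have hi : Function.Injective i := by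
    rintro ⟨P, a, ha⟩ ⟨P', a', ha'⟩ h
    obtain ⟨rfl, h2⟩ := Sigma.mk.inj_iff.mp h
    have h3 := eq_of_heq h2
    cases h3
    rfl
  have hb := hi.bijective_of_nat_card_le (Nat.le_of_not_lt hle)
  refine alperin hS hF fun P hP α hα => ?_
  have hPS : P ≤ S := hP.elim (fun h => h.le) essential_le
  have key : ∀ P' : Subgroup S, ∀ β ∈ F.autGroup (P'.map S.subtype),
      β ∈ E.autGroup (P'.map S.subtype) := by
    intro P' β hβ
    obtain ⟨⟨P₂, γ, hγ⟩, hx⟩ := hb.2 ⟨P', β, hβ⟩
    obtain ⟨rfl, h2⟩ := Sigma.mk.inj_iff.mp hx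
    have h3 := congrArg Subtype.val (eq_of_heq h2)
    exact (show γ = β from h3) ▸ hγ
  have hk := key (P.subgroupOf S)
  rw [Subgroup.map_subgroupOf_eq_of_le hPS] at hk
  exact hk α hα

/-- If all models satisfy the control property, so does every saturated system. -/
theorem control_of_models (w : PFunctor'.{u} p) (H : Type*) [Group H]
    (hloc : ∀ (L : Type u) [Group L] [Finite L] (P : Sylow p L),
      Subgroup.centralizer ((pCore p L : Subgroup L) : Set L) ≤ pCore p L → ¬ Involves H L →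
      (((w.W ↥(P : Subgroup L)).map (P : Subgroup L).subtype : Subgroup L)).Normal) :
    ∀ (n m : ℕ) (Ω : Type u) [Group Ω] (S : Subgroup Ω) [Finite S] (F : FusionSystem S),
      Nat.card S = n → sysSize F = m → IsPGroup p S → F.IsSaturated p → F.IsSectionFree p H →
      F.IsNormal (w.at S) := by
  intro n
  induction n using Nat.strong_induction_on with
  | _ n ih₁ =>
  intro m
  induction m using Nat.strong_induction_on with
  | _ m ih₂ =>
  intro Ω _ S _ F hn hm hS hF hfree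
  subst hn hm
  by_cases hS1 : S = ⊥
  · rw [show w.at S = ⊥ from le_bot_iff.mp ((w.at_le S).trans hS1.le)]
    exact isNormal_bot F
  set W₀ := w.at S with hW₀
  have hW₀S : W₀ ≤ S := w.at_le S
  -- smaller systems over `S`
  have hsmall : ∀ (T : Subgroup Ω) (D : FusionSystem T), T = S → D.IsSubsystemOf F → D.IsSaturated p →
      D.IsSectionFree p H → (∃ P f, IsMor F P f ∧ ¬ IsMor D P f) → D.IsNormal W₀ := by
    intro T D hT hsub hsat hfr hne
    subst hT
    refine ih₂ (sysSize D) (sysSize_lt hS hF hsub fun h => ?_) Ω _ D rfl rfl hS hsat hfr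
    obtain ⟨P, f, hf, hnf⟩ := hne
    exact hnf (le_iff_isMor.mp h P f hf)
  -- constrained case
  have hconstr : ∀ Q, F.IsNormal Q → F.IsCentric Q → F.IsNormal W₀ := by
    intro Q hQ hQc
    have hN := normalizerIn_of_isNormal hQ
    have hQn := isFullyNormalized_of_normal (F := F) hQ.1 hN
    obtain ⟨NQ, hNQ⟩ := Cfsg.Agent.S5096.result F Q hQ.1
    have hfinN : Finite ↥(normalizerIn S Q) := finite_of_le normalizerIn_le
    have hpN : IsPGroup p ↥(normalizerIn S Q) := isPGroup_of_le normalizerIn_le hS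
    obtain ⟨L, _, ι, hL⟩ := exists_model hpN (normalizerSystem_isConstrained hS hF hQn hQc hNQ)
    have hLfree := hfree Q hQn hQc NQ hNQ L ι hL
    obtain ⟨hLf, hLr, ⟨T, hT⟩, hLc⟩ := hL
    let N : Subgroup L := (w.W ↥(T : Subgroup L)).map (T : Subgroup L).subtype
    have hNn : N.Normal := hloc L T hLc hLfree
    have hNle : N ≤ ι.range := (Subgroup.map_subtype_le _).trans hT.le
    have h1 := isNormal_comap hLr (N := N) hNle
    let e : ↥(normalizerIn S Q) ≃* ↥(T : Subgroup L) :=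
      (MonoidHom.ofInjective hLr.1).trans (MulEquiv.subgroupCongr hT.symm)
    have heq : (N.comap ι).map (normalizerIn S Q).subtype = w.at (normalizerIn S Q) := by
      rw [PFunctor'.at]
      congr 1
      ext x
      have h2 := w.equiv _ _ hpN e
      constructor
      · rintro ⟨y, hy, hye⟩
        rw [← h2] at hy
        obtain ⟨z, hz, rfl⟩ := hy
        have : z = x := hLr.1 hye
        exact this ▸ hz
      · intro hx
        exact ⟨e x, h2.le ⟨x, hx, rfl⟩, rfl⟩
    rw [heq] at h1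
    obtain ⟨-, h3⟩ := isNormal_iff.mp h1
    refine isNormal_iff.mpr ⟨hW₀S, fun P f hf => ?_⟩
    obtain ⟨g, hg, hgf, hgQ⟩ := (isNormal_iff.mp hQ).2 P f hf
    have hfN : IsMor NQ P f := (isMor_normalizerSystem hNQ).mpr
      ⟨hf, hN.symm ▸ hf.le, fun x hx => hN.symm ▸ hf.mem hx, g, hg, hgf, hgQ⟩
    obtain ⟨k, hk, hkf, hkW⟩ := h3 P f hfN
    rw [show w.at (normalizerIn S Q) = W₀ by rw [hW₀, hN]] at hk hkW
    exact ⟨k, ((isMor_normalizerSystem hNQ).mp hk).1, hkf, hkW⟩
  -- a proper normalizer system of a subgroup normal in `S`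
  have hnormS : ∀ Q, Q ≤ S → normalizerIn S Q = S → ¬ F.IsNormal Q →
      ∀ P f, IsMor F P f → (∃ g, IsMor F (P ⊔ Q) g ∧ (∀ x ∈ P, g x = f x) ∧ img Q g = Q) →
        ∃ k, IsMor F (P ⊔ W₀) k ∧ (∀ x ∈ P, k x = f x) ∧ img W₀ k = W₀ := by
    intro Q hQS hN hnQ P f hf hg
    obtain ⟨g, hg, hgf, hgQ⟩ := hg
    obtain ⟨NQ, hNQ⟩ := Cfsg.Agent.S5096.result F Q hQS
    have hQn := isFullyNormalized_of_normal (F := F) hQS hN
    have hfinN : Finite ↥(normalizerIn S Q) := finite_of_le normalizerIn_le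
    have hm : ∀ P' f', IsMor NQ P' f' → IsMor F P' f' := fun _ _ h =>
      ((isMor_normalizerSystem hNQ).mp h).1
    have hne : ∃ P' f', IsMor F P' f' ∧ ¬ IsMor NQ P' f' := by
      by_contra hno
      push Not at hno
      refine hnQ (isNormal_iff.mpr ⟨hQS, fun P' f' hf' => ?_⟩)
      obtain ⟨-, -, -, k, hk, hkf, hkQ⟩ := (isMor_normalizerSystem hNQ).mp (hno P' f' hf')
      exact ⟨k, hk, hkf, hkQ⟩
    have h1 := hsmall _ NQ hN (le_iff_isMor.mpr hm) (normalizerSystem_isSaturated hS hF hQn hNQ)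
      (isSectionFree_normalizerSystem hS hF hfree hQn hNQ) hne
    obtain ⟨k, hk, hkf, hkW⟩ := (isNormal_iff.mp h1).2 P f ((isMor_normalizerSystem hNQ).mpr
      ⟨hf, hN.symm ▸ hf.le, fun x hx => hN.symm ▸ hf.mem hx, g, hg, hgf, hgQ⟩)
    exact ⟨k, hm _ _ hk, hkf, hkW⟩
  -- the case of a nontrivial normal subgroup
  have hnormal : ∀ Q, Q ≠ ⊥ → F.IsNormal Q → F.IsNormal W₀ := by
    intro Q' hQ'1 hQ'
    set Q := F.core with hQdef
    have hQ : F.IsNormal Q := isNormal_core F
    have hQ1 : Q ≠ ⊥ := fun h => hQ'1 (le_bot_iff.mp ((le_core hQ').trans h.le))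
    by_cases hQc : centralizerIn S Q ≤ Q
    · refine hconstr Q hQ ⟨hQ.1, fun U hU => ?_⟩
      obtain ⟨f, hf, rfl⟩ := isConj_iff.mp hU
      rwa [hf.img_eq_self fun x hx =>
        (stronglyClosed_iff.mp (isNormal_stronglyClosed hQ)).2 Q f hf x hx hx]
    set C := Q ⊔ centralizerIn S Q with hC
    have hCS : C ≤ S := sup_le hQ.1 centralizerIn_le
    have hCn : normalizerIn S C = S := mem_normalizer_of_conj_le fun s hs => img_le fun x hx => by
      refine (sup_le ?_ ?_ : C ≤ C.comap (MulAut.conj s).toMonoidHom) hx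
      · exact fun y hy => Subgroup.mem_sup_left (show cj s y ∈ Q from conj_mem_of_isNormal hQ hs hy)
      · intro y hy
        obtain ⟨hyS, hyc⟩ := mem_centralizerIn.mp hy
        refine Subgroup.mem_sup_right (mem_centralizerIn.mpr
          ⟨S.mul_mem (S.mul_mem hs hyS) (S.inv_mem hs), fun z hz => ?_⟩)
        have h1 := hyc _ (conj_mem_of_isNormal hQ (S.inv_mem hs) hz)
        show cj (cj s y) z = z
        rw [show cj (cj s y) z = cj s (cj y (cj s⁻¹ z)) by simp [cj, mul_assoc],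
          show cj y (cj s⁻¹ z) = cj s⁻¹ z from h1, cj_cj_inv]
    have hCnn : ¬ F.IsNormal C := fun h => hQc (le_sup_right.trans (le_core h))
    obtain ⟨F₁, hF₁⟩ := exists_innerSystem hQ
    have hm : ∀ P f, IsMor F₁ P f → IsMor F P f := fun _ _ h => ((hF₁ _ _).mp h).1
    by_cases hne : ∃ P f, IsMor F P f ∧ ¬ IsMor F₁ P f
    · have h1 := hsmall S F₁ rfl (le_iff_isMor.mpr hm) (innerSystem_isSaturated hS hF hQ hF₁)
        (innerSystem_isSectionFree hS hF hfree hQ hF₁) hne
      refine isNormal_iff.mpr ⟨hW₀S, fun P f hf => ?_⟩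
      obtain ⟨g, hg, hgf, hgQ⟩ := (isNormal_iff.mp hQ).2 P f hf
      obtain ⟨ν, c, hν, hνC, hc, hcQ, hce⟩ := exists_decomp hS hF hQ hg le_sup_right
      have hν' := hν.restrict (le_sup_left : P ⊔ Q ≤ (P ⊔ Q) ⊔ C)
      obtain ⟨k, hk, hkν, hkW⟩ := hnormS C hCS hCn hCnn _ ν hν' ⟨ν, hν, fun _ _ => rfl, hνC⟩
      have hi : img Q ν = Q := (hν'.restrict le_sup_right).img_eq_self fun x hx =>
        (stronglyClosed_iff.mp (isNormal_stronglyClosed hQ)).2 _ ν hν' x (Subgroup.mem_sup_right hx) hx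
      have hcF₁ : IsMor F₁ (img (P ⊔ Q) ν) c := by
        refine (hF₁ _ _).mpr ⟨hc, hν'.img_le, fun x hx => hc.mem hx, c, ?_, fun _ _ => rfl,
          1, S.one_mem, fun x hx => by rw [hcQ x hx, cj_one]⟩
        rwa [sup_eq_left.mpr (hi.ge.trans (img_mono ν le_sup_right))]
      obtain ⟨l, hl, hlc, hlW⟩ := (isNormal_iff.mp h1).2 _ c hcF₁
      have hPW : P ⊔ W₀ ≤ P ⊔ Q ⊔ W₀ := sup_le_sup_right le_sup_left _
      refine ⟨l ∘ k, ((hk.comp (hm _ _ hl) fun x hx => ?_)).restrict hPW, fun x hx => ?_, ?_⟩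
      · have h2 := mem_img_of_mem k hx
        rwa [hk.img_sup, img_congr hkν, hkW] at h2
      · have hx' : x ∈ P ⊔ Q := Subgroup.mem_sup_left hx
        rw [Function.comp_apply, hkν x hx', hlc _ (mem_img_of_mem ν hx'), hce x hx', hgf x hx]
      · rw [← (hk.restrict le_sup_right).img_comp, hkW, hlW]
    · exfalso
      push Not at hne
      have hinn : ∀ f, IsMor F Q f → ∃ s ∈ S, ∀ x ∈ Q, f x = cj s x := fun f hf => by
        obtain ⟨-, -, -, g, hg, hgf, s, hs, hgs⟩ := (hF₁ Q f).mp (hne Q f hf)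
        exact ⟨s, hs, fun x hx => (hgf x hx).symm.trans (hgs x hx)⟩
      have hQnS : (Q.subgroupOf S).Normal := ⟨fun a ha s =>
        conj_mem_of_isNormal hQ s.2 (Subgroup.mem_subgroupOf.mp ha)⟩
      set θ := QuotientGroup.mk' (Q.subgroupOf S)
      have hker : ∀ s : S, θ s = 1 ↔ (s : Ω) ∈ Q := fun s =>
        (QuotientGroup.eq_one_iff s).trans Subgroup.mem_subgroupOf
      have hrange : θ.range = ⊤ := MonoidHom.range_eq_top.mpr (QuotientGroup.mk'_surjective _)
      obtain ⟨E, hE⟩ := exists_factorSystem (isNormal_stronglyClosed hQ) hker hrange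
      have hqc : Nat.card ↥(⊤ : Subgroup (↥S ⧸ Q.subgroupOf S)) < Nat.card S := by
        rw [Nat.card_congr Subgroup.topEquiv.toEquiv]
        have h1 : 1 < Nat.card ↥(Q.subgroupOf S) := by
          rw [Nat.card_congr (Subgroup.subgroupOfEquivOfLe hQ.1).toEquiv]
          have : Finite Q := finite_of_le hQ.1
          exact Finite.one_lt_card_iff_nontrivial.mpr ((Subgroup.nontrivial_iff_ne_bot Q).mpr hQ1)
        have h2 := Subgroup.card_eq_card_quotient_mul_card_subgroup (Q.subgroupOf S)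
        have h3 : 0 < Nat.card (↥S ⧸ Q.subgroupOf S) := Nat.card_pos
        rw [h2]
        exact lt_mul_of_one_lt_right h3 h1
      have hpq : IsPGroup p ↥(⊤ : Subgroup (↥S ⧸ Q.subgroupOf S)) :=
        (hS.to_quotient _).of_equiv Subgroup.topEquiv.symm
      have h4 := ih₁ _ hqc _ _ ⊤ E rfl rfl hpq (factor_isSaturated hS hF (isNormal_stronglyClosed hQ) hE)
        (isSectionFree_factor hS hF hfree hQ hE)
      have h5 := le_core (isNormal_preimage hS hF hQ hinn hE h4)
      refine w.at_ne_bot hpq ?_ (le_bot_iff.mp ?_)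
      · intro h
        refine hQc fun x hx => ?_
        have h6 : θ ⟨x, centralizerIn_le hx⟩ ∈ (⊥ : Subgroup (↥S ⧸ Q.subgroupOf S)) :=
          h ▸ Subgroup.mem_top _
        exact (hker _).mp (Subgroup.mem_bot.mp h6)
      · intro y hy
        obtain ⟨s, rfl⟩ := QuotientGroup.mk'_surjective (Q.subgroupOf S) y
        exact Subgroup.mem_bot.mpr ((hker s).mpr (h5 (mem_preimageAlong.mpr ⟨s.2, hy⟩)))
  -- general case
  by_contra hgoal
  apply hgoal
  have hW₀n : normalizerIn S W₀ = S := mem_normalizer_of_conj_le fun s hs => by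
    have hi : img S (cj s) = S :=
      (isMor_cj F le_rfl hs).img_eq_self fun x hx => (isMor_cj F le_rfl hs).mem hx
    rw [hW₀, w.img_at hS (isMor_cj F le_rfl hs), hi]
  obtain ⟨NS, hNS⟩ := Cfsg.Agent.S5096.result F W₀ hW₀S
  obtain ⟨E, hE⟩ := exists_system_of_eq hW₀n NS
  have hEmem : ∀ P f, IsMor E P f ↔ IsMor F P f ∧
      ∃ g, IsMor F (P ⊔ W₀) g ∧ (∀ x ∈ P, g x = f x) ∧ img W₀ g = W₀ := fun P f => by
    rw [hE, isMor_normalizerSystem hNS, hW₀n]
    exact ⟨fun h => ⟨h.1, h.2.2.2⟩, fun h => ⟨h.1, h.1.le, fun x hx => h.1.mem hx, h.2⟩⟩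
  have hAutS : F.autGroup S ≤ E.autGroup S := fun α hα => by
    have ha := isMor_autFun le_rfl hα
    refine (autGroup_eq_set le_rfl α).mpr ((hEmem _ _).mpr ⟨ha, autFun α, ?_, fun _ _ => rfl, ?_⟩)
    · rwa [sup_eq_left.mpr hW₀S]
    · rw [hW₀, w.img_at hS ha, img_autFun]
  suffices hA : ∀ d, ∀ Q : Subgroup Ω, Nat.card S - Nat.card (normalizerIn S Q) = d → Q ≠ ⊥ →
      F.IsFullyNormalized Q → ∀ P f, IsMor F P f → P ≤ normalizerIn S Q →
      (∀ x ∈ P, f x ∈ normalizerIn S Q) →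
      (∃ g, IsMor F (P ⊔ Q) g ∧ (∀ x ∈ P, g x = f x) ∧ img Q g = Q) → IsMor E P f by
    refine isNormal_iff.mpr ⟨hW₀S, fun P f hf => ((hEmem P f).mp (le_iff_isMor.mp (alperin hS hF
      fun R hR => ?_) P f hf)).2⟩
    rcases hR with rfl | hR
    · exact hAutS
    · intro α hα
      have hRS := essential_le hR
      have hR1 : R ≠ ⊥ := fun h => hS1 (le_bot_iff.mp fun x hx => by
        have h1 := hR.1.2 R (isConj_refl F hRS)
        have h2 : x ∈ centralizerIn S R := mem_centralizerIn.mpr ⟨hx, fun y hy => by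
          rw [show y = 1 by rw [h] at hy; exact Subgroup.mem_bot.mp hy]; simp [cj]⟩
        exact h ▸ h1 h2)
      have ha := isMor_autFun hRS hα
      exact (autGroup_eq_set hRS α).mpr (hA _ R rfl hR1 hR.2.1 R _ ha (le_normalizerIn hRS)
        (fun x hx => le_normalizerIn hRS (autFun_mem α hx)) ⟨autFun α, by rwa [sup_idem],
          fun _ _ => rfl, img_autFun α⟩)
  intro d
  induction d using Nat.strong_induction_on with
  | _ d ih =>
  intro Q hd hQ1 hQn P f hf hPM hfM hg
  subst hd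
  set M := normalizerIn S Q with hMdef
  have hMS : M ≤ S := normalizerIn_le
  rcases eq_or_lt_of_le hMS with hMeq | hMlt
  · by_cases hQnormal : F.IsNormal Q
    · exact absurd (hnormal Q hQ1 hQnormal) hgoal
    · exact (hEmem P f).mpr ⟨hf, hnormS Q hQn.1 hMeq hQnormal P f hf hg⟩
  obtain ⟨NQ, hNQ⟩ := Cfsg.Agent.S5096.result F Q hQn.1
  have hfinM : Finite ↥(normalizerIn S Q) := finite_of_le normalizerIn_le
  have hpM : IsPGroup p ↥(normalizerIn S Q) := isPGroup_of_le normalizerIn_le hS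
  have h1 := ih₁ _ (card_lt_of_lt le_rfl hMlt) _ Ω _ NQ rfl rfl hpM
    (normalizerSystem_isSaturated hS hF hQn hNQ) (isSectionFree_normalizerSystem hS hF hfree hQn hNQ)
  set WM := w.at M with hWM
  have hWMM : WM ≤ M := w.at_le M
  have hWMS := hWMM.trans hMS
  have hM1 : M ≠ ⊥ := fun h => hQ1 (le_bot_iff.mp ((le_normalizerIn hQn.1).trans h.le))
  have hWM1 : WM ≠ ⊥ := w.at_ne_bot hpM hM1
  have hgt : M < normalizerIn S WM := by
    refine lt_of_lt_of_le (normalizerIn_gt hS hMlt) fun x hx => ?_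
    obtain ⟨hxS, hxM⟩ := mem_normalizerIn.mp hx
    refine mem_normalizerIn.mpr ⟨hxS, ?_⟩
    rw [Subgroup.mem_normalizer_iff_map_conj_eq]
    show WM.map (MulAut.conj x).toMonoidHom = WM
    rw [← img_cj, hWM, w.img_at hS (isMor_cj F hMS hxS), img_cj_of_normalizer hxM]
  have hlarge : ∀ P f, IsMor F P f → Nat.card M < Nat.card P → IsMor E P f := by
    refine alperin_above (Nat.card M) hS hF fun R hR hRe α hα => ?_
    rcases hRe with rfl | hRe
    · exact hAutS hα
    have hRS := essential_le hRe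
    have hR1 : R ≠ ⊥ := fun h => by
      rw [h, Subgroup.card_bot] at hR
      exact absurd (Nat.card_pos : 0 < Nat.card M) (by omega)
    have hlt : Nat.card S - Nat.card (normalizerIn S R) < Nat.card S - Nat.card M := by
      have : Finite ↥(normalizerIn S R) := finite_of_le normalizerIn_le
      have := hR.trans_le (Subgroup.card_le_of_le (le_normalizerIn hRS))
      have := Subgroup.card_le_of_le (normalizerIn_le : normalizerIn S R ≤ S)
      omega
    have ha := isMor_autFun hRS hα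
    exact (autGroup_eq_set hRS α).mpr (ih _ hlt R rfl hR1 hRe.2.1 R _ ha (le_normalizerIn hRS)
      (fun x hx => le_normalizerIn hRS (autFun_mem α hx)) ⟨autFun α, by rwa [sup_idem],
        fun _ _ => rfl, img_autFun α⟩)
  obtain ⟨U, hU, hUn⟩ := exists_fullyNormalized F hWMS
  obtain ⟨β, hβ, hβi, hβN⟩ := exists_map_fullyNormalized hS hF hUn hU
  have hcardβ : Nat.card M < Nat.card (normalizerIn S WM) := card_lt_of_lt normalizerIn_le hgt
  have hβE := hlarge _ β hβ hcardβ
  obtain ⟨βi, hβiE, hβl, -, hβii⟩ := hβE.inverse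
  have hU1 : U ≠ ⊥ := fun h => hWM1 (by
    have := (hβ.restrict (le_normalizerIn hWMS)).card_img
    rw [hβi, h, Subgroup.card_bot] at this
    exact Subgroup.card_eq_one.mp this.symm)
  obtain ⟨g₀, hg₀⟩ := hg
  obtain ⟨k, hk, hkf, hkW⟩ := (isNormal_iff.mp h1).2 P f ((isMor_normalizerSystem hNQ).mpr
    ⟨hf, hPM, hfM, g₀, hg₀⟩)
  set X := P ⊔ WM
  have hXM : X ≤ M := sup_le hPM hWMM
  have hXN : X ≤ normalizerIn S WM := hXM.trans hgt.le
  have hkF := ((isMor_normalizerSystem hNQ).mp hk).1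
  have hkM : ∀ x ∈ X, k x ∈ normalizerIn S WM := fun x hx => hgt.le (hk.mem hx)
  obtain ⟨q, hq, hql, -, hqi⟩ := (hβ.restrict hXN).inverse
  have hk' : IsMor F (img X β) (β ∘ k ∘ q) :=
    ((hq.comp hkF fun y hy => hqi ▸ mem_img_of_mem q hy).comp hβ fun y hy =>
      hkM _ (hqi ▸ mem_img_of_mem q hy))
  have hv : ∀ x ∈ X, (β ∘ k ∘ q) (β x) = β (k x) := fun x hx => by
    simp [Function.comp_apply, hql x hx]
  have hUX : U ≤ img X β := hβi.ge.trans (img_mono β le_sup_right)
  have hlt : Nat.card S - Nat.card (normalizerIn S U) < Nat.card S - Nat.card M := by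
    have h2 : Nat.card (normalizerIn S WM) ≤ Nat.card (normalizerIn S U) := by
      have : Finite ↥(normalizerIn S U) := finite_of_le normalizerIn_le
      rw [← hβ.card_img]
      exact Subgroup.card_le_of_le hβN
    have := Subgroup.card_le_of_le (normalizerIn_le : normalizerIn S U ≤ S)
    omega
  have h3 : IsMor E (img X β) (β ∘ k ∘ q) := by
    refine ih _ hlt U rfl hU1 hUn _ _ hk' ((img_mono β hXN).trans hβN) (fun y hy => ?_)
      ⟨β ∘ k ∘ q, by rwa [sup_eq_left.mpr hUX], fun _ _ => rfl, (hk'.restrict hUX).img_eq_self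
        fun y hy => ?_⟩
    · obtain ⟨x, hx, rfl⟩ := (hβ.restrict hXN).mem_img.mp hy
      rw [hv x hx]
      exact hβN (mem_img_of_mem β (hkM x hx))
    · obtain ⟨x, hx, rfl⟩ := (hβ.restrict (le_normalizerIn hWMS)).mem_img.mp (hβi.ge hy)
      rw [hv x (Subgroup.mem_sup_right hx)]
      exact hβi.le (mem_img_of_mem β (hkW.le (mem_img_of_mem k hx)))
  have h4 : IsMor E X (βi ∘ (β ∘ k ∘ q) ∘ β) :=
    (((hβE.restrict hXN).comp h3 fun x hx => mem_img_of_mem β hx).comp hβiE fun x hx => by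
      rw [Function.comp_apply, hv x hx]
      exact mem_img_of_mem β (hkM x hx))
  refine (h4.restrict le_sup_left).congr fun x hx => ?_
  have hxX : x ∈ X := Subgroup.mem_sup_left hx
  show βi ((β ∘ k ∘ q) (β x)) = f x
  rw [hv x hxX, hβl _ (hkM x hxX), hkf x hx]

omit hp in
theorem normalizer_hom_eq [Finite S] (w : PFunctor'.{u} p) (hW : F.IsNormal (w.at S))
    (N : FusionSystem (normalizerIn S (w.at S))) (hN : F.IsNormalizerSystem (w.at S) N)
    (P : Subgroup Ω) : N.Hom P = F.Hom P := by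
  refine hom_eq_iff.mpr fun f => ?_
  refine ⟨fun h => ((isMor_normalizerSystem hN).mp h).1, fun hf => ?_⟩
  have hS' := normalizerIn_of_isNormal hW
  obtain ⟨g, hg, hgf, hgW⟩ := (isNormal_iff.mp hW).2 P f hf
  exact (isMor_normalizerSystem hN).mpr
    ⟨hf, hS'.symm ▸ hf.le, fun x hx => hS'.symm ▸ hf.mem hx, g, hg, hgf, hgW⟩

end CfsgLib.Fusion
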