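import Mathlib
import Cfsg.Agent.Lib.Fusion.Control

/-! A target subsystem for local-to-global arguments. -/
set_option autoImplicit false

universe u

namespace CfsgLib.Fusion

open Cfsg Cfsg.FusionSystem

variable {p : ℕ} [hp : Fact p.Prime] {Ω : Type u} [Group Ω] {S : Subgroup Ω}

/-- The maps of `F` normalizing `V` lie in `E`. -/
def NGood (F E : FusionSystem S) (V : Subgroup Ω) : Prop :=
  ∀ P f, IsMor F P f → P ≤ normalizerIn S V →
    (∃ g, IsMor F (P ⊔ V) g ∧ (∀ x ∈ P, g x = f x) ∧ img V g = V) → IsMor E P f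

/-- Every map of `F` lies in `E`. -/
def AllGood (F E : FusionSystem S) : Prop := ∀ P f, IsMor F P f → IsMor E P f

/-- `E'` consists of the maps of `E` between subgroups of `T`. -/
def IsRestriction (E : FusionSystem S) {T : Subgroup Ω} (E' : FusionSystem T) : Prop :=
  ∀ P f, IsMor E' P f ↔ IsMor E P f ∧ P ≤ T ∧ ∀ x ∈ P, f x ∈ T

omit hp in
theorem exists_restriction (E : FusionSystem S) {T : Subgroup Ω} (hT : T ≤ S) :
    ∃ E' : FusionSystem T, IsRestriction E E' := by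
  let M : Subgroup Ω → (Ω → Ω) → Prop := fun P f => IsMor E P f ∧ P ≤ T ∧ ∀ x ∈ P, f x ∈ T
  refine ⟨ofPred T M (fun P f h => ⟨h.2.1, h.2.2⟩) (fun P f h x hx y hy e => h.1.inj hx hy e)
    ?_ ?_ ?_ ?_, fun P f => ?_⟩
  · exact fun P f f' h e => ⟨h.1.congr e, h.2.1, fun x hx => e x hx ▸ h.2.2 x hx⟩
  · exact fun P a hP ha => ⟨isMor_cj E (hP.trans hT) (hT ha), hP,
      fun x hx => T.mul_mem (T.mul_mem ha (hP hx)) (T.inv_mem ha)⟩
  · exact fun P R f k hf hk hfR => ⟨hf.1.comp hk.1 hfR, hf.2.1, fun x hx => hk.2.2 _ (hfR x hx)⟩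
  · rintro P f ⟨hf, hP, hfT⟩ -
    obtain ⟨g, hg, hl, -, hgi⟩ := hf.inverse
    refine ⟨g, ⟨hg, img_le hfT, fun y hy => ?_⟩, hl⟩
    exact hP (hgi ▸ mem_img_of_mem g hy)
  · rw [isMor_ofPred fun h x hx y hy => h.1.map_mul hx hy]

end CfsgLib.Fusion
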