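import Mathlib
import Cfsg.Agent.Lib.Fusion.GoodBase

/-! From models to saturated systems, for membership in a target subsystem. -/
set_option autoImplicit false

universe u

namespace CfsgLib.Fusion

open Cfsg Cfsg.FusionSystem

variable {p : ℕ} [hp : Fact p.Prime]

/-- A property of a system and a target subsystem forcing containment in all models forces it in
all saturated systems; the models may use the quotient by the largest normal subgroup. -/
theorem good_of_models' (H : Type*) [Group H]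
    (Hyp : ∀ (Ω : Type u) [Group Ω] (S : Subgroup Ω), FusionSystem S → FusionSystem S → Prop)
    (hmono : ∀ (Ω : Type u) [Group Ω] (S : Subgroup Ω) (F E D : FusionSystem S),
      (∀ P f, IsMor D P f → IsMor F P f) → Hyp Ω S F E → Hyp Ω S D E)
    (hdesc : ∀ (Ω : Type u) [Group Ω] (S T : Subgroup Ω) [Finite S] (F E : FusionSystem S)
      (D E' : FusionSystem T), IsPGroup p S → F.IsSaturated p → Hyp Ω S F E → T ≤ S → T ≠ ⊥ →
      S ⊓ Subgroup.centralizer (S : Set Ω) ≤ T → IsRestriction E E' →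
      (∀ P f, IsMor D P f → IsMor F P f) →
      (∀ V, V ≠ ⊥ → V ≤ T → (∀ f, IsMor F T f → img T f = T → img V f = V) → NGood D E' V) →
      Hyp Ω T D E')
    (hquot : ∀ (Ω : Type u) [Group Ω] (S : Subgroup Ω) [Finite S] (F E : FusionSystem S)
      (Q : Subgroup Ω) (Ω' : Type u) [Group Ω'] (S' : Subgroup Ω') (θ : S →* Ω')
      (Fb : FusionSystem S'), IsPGroup p S → F.IsSaturated p → Hyp Ω S F E →
      F.IsFactorSystem Q θ Fb → F.IsNormal Q → Q ≠ ⊥ →
      (∀ f, IsMor F Q f → ∃ s ∈ S, ∀ x ∈ Q, f x = cj s x) → S' ≠ ⊥ →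
      (∀ V, V ≠ ⊥ → V ≤ S' → normalizerIn S' V = S' → ∀ P f, IsMor Fb P f →
        (∃ g, IsMor Fb (P ⊔ V) g ∧ (∀ x ∈ P, g x = f x) ∧ img V g = V) →
        ∃ G, IsMor F (preimageAlong θ P) G ∧ IsMor E (preimageAlong θ P) G ∧
          ∀ (x : S) (hgx : G x ∈ S), θ x ∈ P → f (θ x) = θ ⟨G x, hgx⟩) →
      (∀ Eb : FusionSystem S', Hyp Ω' S' Fb Eb → AllGood Fb Eb) → AllGood F E)
    (hmodel : ∀ (Ω : Type u) [Group Ω] (S : Subgroup Ω) [Finite S] (F E : FusionSystem S),
      IsPGroup p S → F.IsSaturated p → Hyp Ω S F E → ∀ (L : Type u) [Group L] (ι : S →* L),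
        F.IsModel p L ι → ¬ Involves H L →
        (∃ (Q : Subgroup Ω) (Ω' : Type u) (_ : Group Ω') (S' : Subgroup Ω') (θ : S →* Ω')
          (Fb : FusionSystem S'), Q = F.core ∧ F.IsFactorSystem Q θ Fb ∧
          (∀ V, V ≠ ⊥ → V ≤ S' → normalizerIn S' V = S' → ∀ P f, IsMor Fb P f →
            (∃ g, IsMor Fb (P ⊔ V) g ∧ (∀ x ∈ P, g x = f x) ∧ img V g = V) →
            ∃ G, IsMor F (preimageAlong θ P) G ∧ IsMor E (preimageAlong θ P) G ∧
              ∀ (x : S) (hgx : G x ∈ S), θ x ∈ P → f (θ x) = θ ⟨G x, hgx⟩) ∧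
          ∀ Eb : FusionSystem S', Hyp Ω' S' Fb Eb → AllGood Fb Eb) → AllGood F E) :
    ∀ (n m : ℕ) (Ω : Type u) [Group Ω] (S : Subgroup Ω) [Finite S] (F E : FusionSystem S),
      Nat.card S = n → sysSize F = m → IsPGroup p S → F.IsSaturated p → F.IsSectionFree p H →
      Hyp Ω S F E → AllGood F E := by
  intro n
  induction n using Nat.strong_induction_on with
  | _ n ih₁ =>
  intro m
  induction m using Nat.strong_induction_on with
  | _ m ih₂ =>
  intro Ω _ S _ F E hn hm hS hF hfree hH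
  subst hn hm
  by_cases hS1 : S = ⊥
  · intro P f hf
    refine (isMor_cj E hf.le S.one_mem).congr fun x hx => ?_
    have : x = 1 := Subgroup.mem_bot.mp (hS1 ▸ hf.le hx)
    rw [this, hf.map_one, cj_one]
  -- a proper normalizer system of a subgroup normal in `S`
  have hsmall : ∀ D : FusionSystem S, (∀ P f, IsMor D P f → IsMor F P f) → D.IsSaturated p →
      D.IsSectionFree p H → (∃ P f, IsMor F P f ∧ ¬ IsMor D P f) → AllGood D E := by
    intro D hsub hsat hfr hne
    refine ih₂ (sysSize D) (sysSize_lt hS hF (le_iff_isMor.mpr hsub) fun h => ?_) Ω _ D E rfl rfl hS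
      hsat hfr (hmono Ω _ F E D hsub hH)
    obtain ⟨P, f, hf, hnf⟩ := hne
    exact hnf (le_iff_isMor.mp h P f hf)
  have hnormS : ∀ Q, Q ≤ S → normalizerIn S Q = S → ¬ F.IsNormal Q → NGood F E Q := by
    intro Q hQS hN hnQ P f hf hP hg
    obtain ⟨g, hg, hgf, hgQ⟩ := hg
    obtain ⟨NQ, hNQ⟩ := Cfsg.Agent.S5096.result F Q hQS
    have hQn := isFullyNormalized_of_normal (F := F) hQS hN
    have : ∀ (T : Subgroup Ω) (D : FusionSystem T), T = S →
        (∀ P' f', IsMor D P' f' → IsMor F P' f') → D.IsSaturated p → D.IsSectionFree p H →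
        (∃ P' f', IsMor F P' f' ∧ ¬ IsMor D P' f') → IsMor D P f → IsMor E P f := by
      intro T D hT hsub hsat hfr hne hfD
      subst hT
      exact hsmall D hsub hsat hfr hne P f hfD
    refine this _ NQ hN (fun _ _ h => ((isMor_normalizerSystem hNQ).mp h).1)
      (normalizerSystem_isSaturated hS hF hQn hNQ)
      (isSectionFree_normalizerSystem hS hF hfree hQn hNQ) ?_
      ((isMor_normalizerSystem hNQ).mpr ⟨hf, hP, fun x hx => hN.symm ▸ hf.mem hx, g, hg, hgf, hgQ⟩)
    by_contra hno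
    push Not at hno
    refine hnQ (isNormal_iff.mpr ⟨hQS, fun P' f' hf' => ?_⟩)
    obtain ⟨-, -, -, k, hk, hkf, hkQ⟩ := (isMor_normalizerSystem hNQ).mp (hno P' f' hf')
    exact ⟨k, hk, hkf, hkQ⟩
  -- the case of a nontrivial normal subgroup
  have hnormal : ∀ Q, Q ≠ ⊥ → F.IsNormal Q → AllGood F E := by
    intro Q' hQ'1 hQ'
    set Q := F.core with hQdef
    have hQ : F.IsNormal Q := isNormal_core F
    have hQ1 : Q ≠ ⊥ := fun h => hQ'1 (le_bot_iff.mp ((le_core hQ').trans h.le))
    have hQsc := (stronglyClosed_iff.mp (isNormal_stronglyClosed hQ)).2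
    have hfactor : ∃ (Q : Subgroup Ω) (Ω' : Type u) (_ : Group Ω') (S' : Subgroup Ω') (θ : S →* Ω')
          (Fb : FusionSystem S'), Q = F.core ∧ F.IsFactorSystem Q θ Fb ∧
          (∀ V, V ≠ ⊥ → V ≤ S' → normalizerIn S' V = S' → ∀ P f, IsMor Fb P f →
            (∃ g, IsMor Fb (P ⊔ V) g ∧ (∀ x ∈ P, g x = f x) ∧ img V g = V) →
            ∃ G, IsMor F (preimageAlong θ P) G ∧ IsMor E (preimageAlong θ P) G ∧
              ∀ (x : S) (hgx : G x ∈ S), θ x ∈ P → f (θ x) = θ ⟨G x, hgx⟩) ∧
          ∀ Eb : FusionSystem S', Hyp Ω' S' Fb Eb → AllGood Fb Eb := by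
      have hQnS : (Q.subgroupOf S).Normal := ⟨fun a ha s =>
        conj_mem_of_isNormal hQ s.2 (Subgroup.mem_subgroupOf.mp ha)⟩
      set θ := QuotientGroup.mk' (Q.subgroupOf S)
      have hker : ∀ s : S, θ s = 1 ↔ (s : Ω) ∈ Q := fun s =>
        (QuotientGroup.eq_one_iff s).trans Subgroup.mem_subgroupOf
      have hrange : θ.range = ⊤ := MonoidHom.range_eq_top.mpr (QuotientGroup.mk'_surjective _)
      obtain ⟨Fb, hE⟩ := exists_factorSystem (isNormal_stronglyClosed hQ) hker hrange
      have hqc : Nat.card ↥(⊤ : Subgroup (↥S ⧸ Q.subgroupOf S)) < Nat.card S := by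
        rw [Nat.card_congr Subgroup.topEquiv.toEquiv]
        have h1 : 1 < Nat.card ↥(Q.subgroupOf S) := by
          rw [Nat.card_congr (Subgroup.subgroupOfEquivOfLe hQ.1).toEquiv]
          have : Finite Q := finite_of_le hQ.1
          exact Finite.one_lt_card_iff_nontrivial.mpr ((Subgroup.nontrivial_iff_ne_bot Q).mpr hQ1)
        have h2 := Subgroup.card_eq_card_quotient_mul_card_subgroup (Q.subgroupOf S)
        have h3 : 0 < Nat.card (↥S ⧸ Q.subgroupOf S) := Nat.card_pos
        rw [h2]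
        exact lt_mul_of_one_lt_right h3 h1
      have hpq : IsPGroup p ↥(⊤ : Subgroup (↥S ⧸ Q.subgroupOf S)) :=
        (hS.to_quotient _).of_equiv Subgroup.topEquiv.symm
      refine ⟨Q, _, inferInstance, ⊤, θ, Fb, rfl, hE, ?_, fun Eb hEb =>
        ih₁ _ hqc _ _ ⊤ Fb Eb rfl rfl hpq (factor_isSaturated hS hF (isNormal_stronglyClosed hQ) hE)
          (isSectionFree_factor hS hF hfree hQ hE) hEb⟩
      intro V hV1 _ hVn
      set U := preimageAlong θ V
      have hUS : U ≤ S := preimageAlong_le V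
      have hUn : normalizerIn S U = S := mem_normalizer_of_conj_le fun s hs => img_le fun x hx => by
        obtain ⟨hxS, hxV⟩ := mem_preimageAlong.mp hx
        refine mem_preimageAlong.mpr ⟨S.mul_mem (S.mul_mem hs hxS) (S.inv_mem hs), ?_⟩
        have h1 := (Subgroup.mem_normalizer_iff.mp
          (mem_normalizerIn.mp (hVn.ge (Subgroup.mem_top (θ ⟨s, hs⟩)))).2 _).mp hxV
        rw [← map_inv, ← map_mul, ← map_mul] at h1
        exact h1
      have hUn' : ¬ F.IsNormal U := fun h => hV1 (le_bot_iff.mp fun y hy => by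
        obtain ⟨x, rfl⟩ := QuotientGroup.mk'_surjective (Q.subgroupOf S) y
        exact Subgroup.mem_bot.mpr ((hker x).mpr (le_core h (mem_preimageAlong.mpr ⟨x.2, hy⟩))))
      intro P f hf hg
      obtain ⟨g, hg, hgf, hgV⟩ := hg
      obtain ⟨G, hG, hGe⟩ := factor_lift hE hg
      set X := preimageAlong θ (P ⊔ V)
      have hUX : U ≤ X := fun x hx => mem_preimageAlong.mpr
        ⟨(mem_preimageAlong.mp hx).1, Subgroup.mem_sup_right (mem_preimageAlong.mp hx).2⟩
      have hGU : img U G = U := (hG.restrict hUX).img_eq_self fun x hx => by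
        obtain ⟨hxS, hxV⟩ := mem_preimageAlong.mp hx
        refine mem_preimageAlong.mpr ⟨hG.mem (hUX hx), ?_⟩
        rw [← hGe ⟨x, hxS⟩ (hG.mem (hUX hx)) (Subgroup.mem_sup_right hxV)]
        exact hgV.le (mem_img_of_mem g hxV)
      have hGE := hnormS U hUS hUn hUn' X G hG (hUn.symm ▸ hG.le)
        ⟨G, by rwa [sup_eq_left.mpr hUX], fun _ _ => rfl, hGU⟩
      have hle : preimageAlong θ P ≤ X := fun x hx => mem_preimageAlong.mpr
        ⟨(mem_preimageAlong.mp hx).1, Subgroup.mem_sup_left (mem_preimageAlong.mp hx).2⟩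
      refine ⟨G, hG.restrict hle, hGE.restrict hle, fun x hgx hx => ?_⟩
      rw [← hgf _ hx, hGe x hgx (Subgroup.mem_sup_left hx)]
    by_cases hQc : centralizerIn S Q ≤ Q
    · have hQcen : F.IsCentric Q := ⟨hQ.1, fun U hU => by
        obtain ⟨f, hf, rfl⟩ := isConj_iff.mp hU
        rwa [hf.img_eq_self fun x hx => hQsc Q f hf x hx hx]⟩
      obtain ⟨L, _, ι, hL⟩ := exists_model hS ⟨hF, Q, hQ, hQcen⟩
      have hN := normalizerIn_of_isNormal hQ
      obtain ⟨NQ, hNQ⟩ := Cfsg.Agent.S5096.result F Q hQ.1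
      have heq : ∀ P f, IsMor NQ P f ↔ IsMor F P f := fun P f => by
        refine ⟨fun h => ((isMor_normalizerSystem hNQ).mp h).1, fun hf => ?_⟩
        obtain ⟨g, hg, hgf, hgQ⟩ := (isNormal_iff.mp hQ).2 P f hf
        exact (isMor_normalizerSystem hNQ).mpr
          ⟨hf, hN.symm ▸ hf.le, fun x hx => hN.symm ▸ hf.mem hx, g, hg, hgf, hgQ⟩
      have hfree' := hfree Q (isFullyNormalized_of_normal hQ.1 hN) hQcen NQ hNQ
      have : ∀ (T : Subgroup Ω) (D : FusionSystem T), T = S → (∀ P f, IsMor D P f ↔ IsMor F P f) →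
          (∀ (L' : Type u) [Group L'] (ι' : T →* L'), D.IsModel p L' ι' → ¬ Involves H L') →
          ¬ Involves H L := by
        intro T D hT e hfr
        subst hT
        exact hfr L ι (by rw [fusion_ext e]; exact hL)
      exact hmodel Ω S F E hS hF hH L ι hL (this _ NQ hN heq hfree') hfactor
    set C := Q ⊔ centralizerIn S Q with hC
    have hCS : C ≤ S := sup_le hQ.1 centralizerIn_le
    have hCn : normalizerIn S C = S := mem_normalizer_of_conj_le fun s hs => img_le fun x hx => by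
      refine (sup_le ?_ ?_ : C ≤ C.comap (MulAut.conj s).toMonoidHom) hx
      · exact fun y hy => Subgroup.mem_sup_left (show cj s y ∈ Q from conj_mem_of_isNormal hQ hs hy)
      · intro y hy
        obtain ⟨hyS, hyc⟩ := mem_centralizerIn.mp hy
        refine Subgroup.mem_sup_right (mem_centralizerIn.mpr
          ⟨S.mul_mem (S.mul_mem hs hyS) (S.inv_mem hs), fun z hz => ?_⟩)
        have h1 := hyc _ (conj_mem_of_isNormal hQ (S.inv_mem hs) hz)
        show cj (cj s y) z = z
        rw [show cj (cj s y) z = cj s (cj y (cj s⁻¹ z)) by simp [cj, mul_assoc],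
          show cj y (cj s⁻¹ z) = cj s⁻¹ z from h1, cj_cj_inv]
    have hCt := hnormS C hCS hCn fun h => hQc (le_sup_right.trans (le_core h))
    obtain ⟨F₁, hF₁⟩ := exists_innerSystem hQ
    by_cases hne : ∃ P f, IsMor F P f ∧ ¬ IsMor F₁ P f
    · have h1 := hsmall F₁ (fun _ _ h => ((hF₁ _ _).mp h).1)
        (innerSystem_isSaturated hS hF hQ hF₁) (innerSystem_isSectionFree hS hF hfree hQ hF₁) hne
      intro P f hf
      obtain ⟨g, hg, hgf, hgQ⟩ := (isNormal_iff.mp hQ).2 P f hf
      obtain ⟨ν, c, hν, hνC, hc, hcQ, hce⟩ := exists_decomp hS hF hQ hg le_sup_right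
      have hν' := hν.restrict (le_sup_left : P ⊔ Q ≤ (P ⊔ Q) ⊔ C)
      have hνE := hCt _ ν hν' (hCn.symm ▸ hν'.le) ⟨ν, hν, fun _ _ => rfl, hνC⟩
      have hi : img Q ν = Q := (hν'.restrict le_sup_right).img_eq_self fun x hx =>
        hQsc _ ν hν' x (Subgroup.mem_sup_right hx) hx
      have hcF₁ : IsMor F₁ (img (P ⊔ Q) ν) c := by
        refine (hF₁ _ _).mpr ⟨hc, hν'.img_le, fun x hx => hc.mem hx, c, ?_, fun _ _ => rfl,
          1, S.one_mem, fun x hx => by rw [hcQ x hx, cj_one]⟩
        rwa [sup_eq_left.mpr (hi.ge.trans (img_mono ν le_sup_right))]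
      refine (((hνE.comp (h1 _ c hcF₁) fun x hx => mem_img_of_mem ν hx)).restrict
        le_sup_left).congr fun x hx => ?_
      rw [Function.comp_apply, hce x (Subgroup.mem_sup_left hx), hgf x hx]
    · push Not at hne
      have hinn : ∀ f, IsMor F Q f → ∃ s ∈ S, ∀ x ∈ Q, f x = cj s x := fun f hf => by
        obtain ⟨-, -, -, g, hg, hgf, s, hs, hgs⟩ := (hF₁ Q f).mp (hne Q f hf)
        exact ⟨s, hs, fun x hx => (hgf x hx).symm.trans (hgs x hx)⟩
      have htop' := hfactor
      obtain ⟨Q', Ω', _, S', θ, Fb, rfl, hE, hNT, hIH⟩ := htop'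
      refine hquot Ω S F E F.core Ω' S' θ Fb hS hF hH hE hQ hQ1 hinn (fun h => ?_) hNT hIH
      refine hQc fun x hx => ?_
      have h6 : θ ⟨x, centralizerIn_le hx⟩ ∈ (⊥ : Subgroup Ω') :=
        h ▸ (id hE).2.2.1.le ⟨_, rfl⟩
      exact ((id hE).2.1 _).mp (Subgroup.mem_bot.mp h6)
  -- general case
  by_contra hgoal
  suffices hA : ∀ d, ∀ Q : Subgroup Ω, Nat.card S - Nat.card (normalizerIn S Q) = d → Q ≠ ⊥ →
      F.IsFullyNormalized Q → NGood F E Q by
    apply hgoal
    refine fun P f hf => le_iff_isMor.mp (alperin hS hF fun R hR α hα => ?_) P f hf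
    have hRS : R ≤ S := hR.elim (fun h => h.le) essential_le
    have hR1 : R ≠ ⊥ := by
      rcases hR with rfl | hR
      · exact hS1
      · exact fun h => hS1 (le_bot_iff.mp fun x hx => by
          have h1 := hR.1.2 R (isConj_refl F hRS)
          have h2 : x ∈ centralizerIn S R := mem_centralizerIn.mpr ⟨hx, fun y hy => by
            rw [show y = 1 by rw [h] at hy; exact Subgroup.mem_bot.mp hy]; simp [cj]⟩
          exact h ▸ h1 h2)
    have hRn : F.IsFullyNormalized R := by
      rcases hR with rfl | hR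
      · exact isFullyNormalized_self F
      · exact hR.2.1
    have ha := isMor_autFun hRS hα
    exact (autGroup_eq_set hRS α).mpr (hA _ R rfl hR1 hRn R _ ha
      (le_normalizerIn hRS) ⟨autFun α, by rwa [sup_idem], fun _ _ => rfl, img_autFun α⟩)
  intro d
  induction d using Nat.strong_induction_on with
  | _ d ih =>
  intro Q hd hQ1 hQn
  subst hd
  rcases eq_or_lt_of_le (normalizerIn_le : normalizerIn S Q ≤ S) with hMeq | hMlt
  · by_cases hQnormal : F.IsNormal Q
    · exact absurd (hnormal Q hQ1 hQnormal) hgoal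
    · exact hnormS Q hQn.1 hMeq hQnormal
  have hMS : normalizerIn S Q ≤ S := normalizerIn_le
  have hfinM : Finite ↥(normalizerIn S Q) := finite_of_le hMS
  have hpM : IsPGroup p ↥(normalizerIn S Q) := isPGroup_of_le hMS hS
  have hlarge : ∀ P f, IsMor F P f → Nat.card (normalizerIn S Q) < Nat.card P → IsMor E P f := by
    refine alperin_above (Nat.card (normalizerIn S Q)) hS hF fun R hR hRe α hα => ?_
    have hRS : R ≤ S := hRe.elim (fun h => h.le) essential_le
    have hRn : F.IsFullyNormalized R := by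
      rcases hRe with rfl | hRe
      · exact isFullyNormalized_self F
      · exact hRe.2.1
    have hR1 : R ≠ ⊥ := fun h => by
      rw [h, Subgroup.card_bot] at hR
      have := (Nat.card_pos : 0 < Nat.card (normalizerIn S Q))
      omega
    have hlt : Nat.card S - Nat.card (normalizerIn S R) <
        Nat.card S - Nat.card (normalizerIn S Q) := by
      have : Finite ↥(normalizerIn S R) := finite_of_le normalizerIn_le
      have := hR.trans_le (Subgroup.card_le_of_le (le_normalizerIn hRS))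
      have := Subgroup.card_le_of_le (normalizerIn_le : normalizerIn S R ≤ S)
      omega
    have ha := isMor_autFun hRS hα
    exact (autGroup_eq_set hRS α).mpr (ih _ hlt R rfl hR1 hRn R _ ha
      (le_normalizerIn hRS) ⟨autFun α, by rwa [sup_idem], fun _ _ => rfl, img_autFun α⟩)
  obtain ⟨NQ, hNQ⟩ := Cfsg.Agent.S5096.result F Q hQn.1
  obtain ⟨E', hE'⟩ := exists_restriction E hMS
  have hsubF : ∀ P f, IsMor NQ P f → IsMor F P f := fun _ _ h =>
    ((isMor_normalizerSystem hNQ).mp h).1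
  have hM1 : normalizerIn S Q ≠ ⊥ := fun h =>
    hQ1 (le_bot_iff.mp ((le_normalizerIn hQn.1).trans h.le))
  have hcenter : S ⊓ Subgroup.centralizer (S : Set Ω) ≤ normalizerIn S Q :=
    le_trans (inf_le_inf_left S (Subgroup.centralizer_le hQn.1)) centralizerIn_le_normalizerIn
  have hDH : Hyp Ω (normalizerIn S Q) NQ E' := by
    refine hdesc Ω S _ F E NQ E' hS hF hH hMS hM1 hcenter hE' hsubF fun V hV1 hVM hVinv => ?_
    have hVS := hVM.trans hMS
    have hgt : normalizerIn S Q < normalizerIn S V := by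
      refine lt_of_lt_of_le (normalizerIn_gt hS hMlt) fun x hx => ?_
      obtain ⟨hxS, hxM⟩ := mem_normalizerIn.mp hx
      refine mem_normalizerIn.mpr ⟨hxS, ?_⟩
      rw [Subgroup.mem_normalizer_iff_map_conj_eq]
      show V.map (MulAut.conj x).toMonoidHom = V
      rw [← img_cj]
      exact hVinv _ (isMor_cj F hMS hxS) (img_cj_of_normalizer hxM)
    obtain ⟨U, hU, hUn⟩ := exists_fullyNormalized F hVS
    obtain ⟨β, hβ, hβi, hβN⟩ := exists_map_fullyNormalized hS hF hUn hU
    have hβE := hlarge _ β hβ (card_lt_of_lt normalizerIn_le hgt)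
    obtain ⟨βi, hβiE, hβl, -, -⟩ := hβE.inverse
    have hU1 : U ≠ ⊥ := fun h => hV1 (by
      have := (hβ.restrict (le_normalizerIn hVS)).card_img
      rw [hβi, h, Subgroup.card_bot] at this
      exact Subgroup.card_eq_one.mp this.symm)
    have hlt : Nat.card S - Nat.card (normalizerIn S U) <
        Nat.card S - Nat.card (normalizerIn S Q) := by
      have h2 : Nat.card (normalizerIn S V) ≤ Nat.card (normalizerIn S U) := by
        have : Finite ↥(normalizerIn S U) := finite_of_le normalizerIn_le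
        rw [← hβ.card_img]
        exact Subgroup.card_le_of_le hβN
      have := Subgroup.card_le_of_le (normalizerIn_le : normalizerIn S U ≤ S)
      have := card_lt_of_lt (S := S) normalizerIn_le hgt
      omega
    have hUT := ih _ hlt U rfl hU1 hUn
    intro P f hf _ hg
    obtain ⟨g, hg, hgf, hgV⟩ := hg
    refine (hE' P f).mpr ⟨?_, hf.le, fun x hx => hf.mem hx⟩
    have hXM : P ⊔ V ≤ normalizerIn S Q := hg.le
    set X := P ⊔ V
    have hXN : X ≤ normalizerIn S V := hXM.trans hgt.le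
    have hgF := hsubF _ _ hg
    have hgM : ∀ x ∈ X, g x ∈ normalizerIn S V := fun x hx => hgt.le (hg.mem hx)
    obtain ⟨q, hq, hql, -, hqi⟩ := (hβ.restrict hXN).inverse
    have hk' : IsMor F (img X β) (β ∘ g ∘ q) :=
      ((hq.comp hgF fun y hy => hqi ▸ mem_img_of_mem q hy).comp hβ fun y hy =>
        hgM _ (hqi ▸ mem_img_of_mem q hy))
    have hv : ∀ x ∈ X, (β ∘ g ∘ q) (β x) = β (g x) := fun x hx => by
      simp [Function.comp_apply, hql x hx]
    have hUX : U ≤ img X β := hβi.ge.trans (img_mono β le_sup_right)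
    have h3 : IsMor E (img X β) (β ∘ g ∘ q) := by
      refine hUT _ _ hk' ((img_mono β hXN).trans hβN)
        ⟨β ∘ g ∘ q, by rwa [sup_eq_left.mpr hUX], fun _ _ => rfl, (hk'.restrict hUX).img_eq_self
          fun y hy => ?_⟩
      obtain ⟨x, hx, rfl⟩ := (hβ.restrict (le_normalizerIn hVS)).mem_img.mp (hβi.ge hy)
      rw [hv x (Subgroup.mem_sup_right hx)]
      exact hβi.le (mem_img_of_mem β (hgV.le (mem_img_of_mem g hx)))
    have h4 : IsMor E X (βi ∘ (β ∘ g ∘ q) ∘ β) :=
      (((hβE.restrict hXN).comp h3 fun x hx => mem_img_of_mem β hx).comp hβiE fun x hx => by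
        rw [Function.comp_apply, hv x hx]
        exact mem_img_of_mem β (hgM x hx))
    refine (h4.restrict le_sup_left).congr fun x hx => ?_
    have hxX : x ∈ X := Subgroup.mem_sup_left hx
    show βi ((β ∘ g ∘ q) (β x)) = f x
    rw [hv x hxX, hβl _ (hgM x hxX), hgf x hx]
  have h1 := ih₁ _ (card_lt_of_lt le_rfl hMlt) _ Ω _ NQ E' rfl rfl hpM
    (normalizerSystem_isSaturated hS hF hQn hNQ) (isSectionFree_normalizerSystem hS hF hfree hQn hNQ)
    hDH
  intro P f hf hP hg
  obtain ⟨g, hg, hgf, hgQ⟩ := hg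
  have hfN : ∀ x ∈ P, f x ∈ normalizerIn S Q := fun x hx => by
    have h2 := mapsTo_normalizerIn (hg.restrict (le_refl _)) (le_sup_right : Q ≤ P ⊔ Q)
      (sup_le hP (le_normalizerIn hQn.1)) x (Subgroup.mem_sup_left hx)
    rwa [hgQ, hgf x hx] at h2
  exact ((hE' P f).mp (h1 P f ((isMor_normalizerSystem hNQ).mpr
    ⟨hf, hP, hfN, g, hg, hgf, hgQ⟩))).1


/-- A property of a system and a target subsystem forcing containment in all models forces it in
all saturated systems. -/
theorem good_of_models (H : Type*) [Group H]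
    (Hyp : ∀ (Ω : Type u) [Group Ω] (S : Subgroup Ω), FusionSystem S → FusionSystem S → Prop)
    (hmono : ∀ (Ω : Type u) [Group Ω] (S : Subgroup Ω) (F E D : FusionSystem S),
      (∀ P f, IsMor D P f → IsMor F P f) → Hyp Ω S F E → Hyp Ω S D E)
    (hdesc : ∀ (Ω : Type u) [Group Ω] (S T : Subgroup Ω) [Finite S] (F E : FusionSystem S)
      (D E' : FusionSystem T), IsPGroup p S → F.IsSaturated p → Hyp Ω S F E → T ≤ S → T ≠ ⊥ →
      S ⊓ Subgroup.centralizer (S : Set Ω) ≤ T → IsRestriction E E' →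
      (∀ P f, IsMor D P f → IsMor F P f) →
      (∀ V, V ≠ ⊥ → V ≤ T → (∀ f, IsMor F T f → img T f = T → img V f = V) → NGood D E' V) →
      Hyp Ω T D E')
    (hquot : ∀ (Ω : Type u) [Group Ω] (S : Subgroup Ω) [Finite S] (F E : FusionSystem S)
      (Q : Subgroup Ω) (Ω' : Type u) [Group Ω'] (S' : Subgroup Ω') (θ : S →* Ω')
      (Fb : FusionSystem S'), IsPGroup p S → F.IsSaturated p → Hyp Ω S F E →
      F.IsFactorSystem Q θ Fb → F.IsNormal Q → Q ≠ ⊥ →
      (∀ f, IsMor F Q f → ∃ s ∈ S, ∀ x ∈ Q, f x = cj s x) → S' ≠ ⊥ →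
      (∀ V, V ≠ ⊥ → V ≤ S' → normalizerIn S' V = S' → ∀ P f, IsMor Fb P f →
        (∃ g, IsMor Fb (P ⊔ V) g ∧ (∀ x ∈ P, g x = f x) ∧ img V g = V) →
        ∃ G, IsMor F (preimageAlong θ P) G ∧ IsMor E (preimageAlong θ P) G ∧
          ∀ (x : S) (hgx : G x ∈ S), θ x ∈ P → f (θ x) = θ ⟨G x, hgx⟩) →
      (∀ Eb : FusionSystem S', Hyp Ω' S' Fb Eb → AllGood Fb Eb) → AllGood F E)
    (hmodel : ∀ (Ω : Type u) [Group Ω] (S : Subgroup Ω) [Finite S] (F E : FusionSystem S),
      IsPGroup p S → F.IsSaturated p → Hyp Ω S F E → ∀ (L : Type u) [Group L] (ι : S →* L),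
        F.IsModel p L ι → ¬ Involves H L → AllGood F E) :
    ∀ (n m : ℕ) (Ω : Type u) [Group Ω] (S : Subgroup Ω) [Finite S] (F E : FusionSystem S),
      Nat.card S = n → sysSize F = m → IsPGroup p S → F.IsSaturated p → F.IsSectionFree p H →
      Hyp Ω S F E → AllGood F E :=
  good_of_models' H Hyp hmono hdesc hquot fun Ω _ S _ F E hS hF hH L _ ι hL hn _ =>
    hmodel Ω S F E hS hF hH L ι hL hn

end CfsgLib.Fusion
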