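import Mathlib
import Cfsg.Agent.Lib.Fusion.Good
import Cfsg.Agent.Lib.Transfer.NormalPComplement

/-! Tools for systems inner on their largest normal subgroup. -/
set_option autoImplicit false

universe u

namespace CfsgLib.Fusion

open Cfsg Cfsg.FusionSystem

variable {p : ℕ} [hp : Fact p.Prime] {Ω : Type u} [Group Ω] {S : Subgroup Ω} [Finite S]
  {F : FusionSystem S}

/-- The automizer of a fully normalized subgroup is generated by the inner part and the elements of
order prime to `p`. -/
theorem autGroup_le_of_coprime (hS : IsPGroup p S) (hF : F.IsSaturated p) {R : Subgroup Ω}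
    (hR : F.IsFullyNormalized R) {K : Subgroup (MulAut R)} (hK : autInducedBy S R ≤ K)
    (hcop : ∀ α ∈ F.autGroup R, (orderOf α).Coprime p → α ∈ K) : F.autGroup R ≤ K := by
  obtain ⟨⟨-, T, hT⟩, -⟩ := isFullyAutomized_of_normalized hS hF hR
  have : Finite (MulAut R) := finite_mulAut hR.1
  have h1 : (⊤ : Subgroup (F.autGroup R)) ≤ K.subgroupOf (F.autGroup R) := by
    rw [← Transfer.sup_pResidual_eq_top T]
    refine sup_le (fun a ha => hK (show (a : MulAut R) ∈ autInducedBy S R from hT.le ha)) ?_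
    refine (Subgroup.closure_le _).mpr fun a ha => hcop a a.2 ?_
    rwa [Subgroup.orderOf_coe]
  exact fun a ha => h1 (Subgroup.mem_top ⟨a, ha⟩)

/-- If all maps are inner on the normal subgroup `Q`, automorphisms of order prime to `p` fix it. -/
theorem coprime_fixes_normal (hS : IsPGroup p S) {Q : Subgroup Ω} (hQ : F.IsNormal Q)
    (hinn : ∀ f, IsMor F Q f → ∃ s ∈ S, ∀ x ∈ Q, f x = cj s x) {R : Subgroup Ω} (hR : R ≤ S)
    (hQR : Q ≤ R) {α : MulAut R} (hα : α ∈ F.autGroup R) (hcop : (orderOf α).Coprime p) :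
    ∀ x ∈ Q, autFun α x = x := by
  obtain ⟨s, hs, hse⟩ := hinn _ ((isMor_autFun hR hα).restrict hQR)
  obtain ⟨l, hl⟩ := hS ⟨s, hs⟩
  have hsl : s ^ p ^ l = 1 := congrArg Subtype.val hl
  have key : ∀ n : ℕ, ∀ x ∈ Q, autFun (α ^ n) x = cj (s ^ n) x := by
    intro n
    induction n with
    | zero => intro x hx; rw [pow_zero, pow_zero, autFun_one (hQR hx), cj_one]
    | succ n ih =>
      intro x hx
      rw [pow_succ', pow_succ', autFun_mul _ _ (hQR hx), ih x hx,
        hse _ (conj_mem_of_isNormal hQ (Subgroup.pow_mem _ hs n) hx), cj_mul]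
  obtain ⟨j, hj⟩ := exists_pow_eq_self_of_coprime (x := α) (n := p ^ l) (hcop.symm.pow_left l)
  intro x hx
  conv_lhs => rw [← hj, ← pow_mul]
  rw [key _ x hx, pow_mul, hsl, one_pow, cj_one]

/-- An element of a `p`-group moved within its coset by an automorphism of order prime to `p` fixing
the normal subgroup is fixed. -/
theorem coprime_fixes_coset (hS : IsPGroup p S) {Q : Subgroup Ω} (hQS : Q ≤ S) {R : Subgroup Ω}
    (hQR : Q ≤ R) {α : MulAut R} (hcop : (orderOf α).Coprime p)
    (hfix : ∀ x ∈ Q, autFun α x = x) {z : Ω} (hz : z ∈ R) (h : z⁻¹ * autFun α z ∈ Q) :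
    autFun α z = z := by
  set u := z⁻¹ * autFun α z with hu
  have key : ∀ n : ℕ, autFun (α ^ n) z = z * u ^ n := by
    intro n
    induction n with
    | zero => rw [pow_zero, autFun_one hz, pow_zero, mul_one]
    | succ n ih =>
      rw [pow_succ', autFun_mul _ _ hz, ih, autFun_map_mul α hz (hQR (Subgroup.pow_mem _ h n)),
        hfix _ (Subgroup.pow_mem _ h n), pow_succ', ← mul_assoc]
      congr 1
      rw [hu, mul_inv_cancel_left]
  have h1 := key (orderOf α)
  rw [pow_orderOf_eq_one, autFun_one hz, left_eq_mul] at h1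
  obtain ⟨k, hk⟩ := hS ⟨u, hQS h⟩
  have h2 := Nat.dvd_gcd (orderOf_dvd_of_pow_eq_one h1)
    (orderOf_dvd_of_pow_eq_one (congrArg Subtype.val hk : u ^ p ^ k = 1))
  rw [(hcop.pow_right k).gcd_eq_one, Nat.dvd_one, orderOf_eq_one_iff, hu, inv_mul_eq_one] at h2
  exact h2.symm

end CfsgLib.Fusion
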