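import Mathlib
import Cfsg.Agent.Lib.Fusion.Control

/-! Normal `p`-complement criteria: from models to saturated systems. -/
set_option autoImplicit false

universe u

namespace CfsgLib.Fusion

open Cfsg Cfsg.FusionSystem

variable {p : ℕ} [hp : Fact p.Prime] {Ω : Type u} [Group Ω] {S : Subgroup Ω} {F : FusionSystem S}

/-- Every map is conjugation by an element of `S`. -/
def Thin (F : FusionSystem S) : Prop :=
  ∀ P f, IsMor F P f → ∃ s ∈ S, ∀ x ∈ P, f x = cj s x

/-- The maps normalizing `V` are conjugations by elements of `S`. -/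
def NThin (F : FusionSystem S) (V : Subgroup Ω) : Prop :=
  ∀ P f, IsMor F P f → P ≤ normalizerIn S V →
    (∃ g, IsMor F (P ⊔ V) g ∧ (∀ x ∈ P, g x = f x) ∧ img V g = V) →
    ∃ s ∈ S, ∀ x ∈ P, f x = cj s x

theorem Thin.hom_eq (h : Thin F) (P : Subgroup Ω) : F.Hom P = (innerFusionSystem S).Hom P :=
  hom_eq_iff.mpr fun f => ⟨fun hf => isMor_inner.mpr ⟨hf.le, h P f hf⟩, fun hf => by
    obtain ⟨hP, s, hs, e⟩ := isMor_inner.mp hf
    exact (isMor_cj F hP hs).congr fun x hx => (e x hx).symm⟩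

theorem Thin.of_hom_eq (h : ∀ P : Subgroup Ω, F.Hom P = (innerFusionSystem S).Hom P) : Thin F :=
  fun P f hf => (isMor_inner.mp ((hom_eq_iff.mp (h P) f).mp hf)).2

theorem nthin_iff {V : Subgroup Ω} (hV : V ≤ S) : NThin F V ↔
    ∀ N : FusionSystem (normalizerIn S V), F.IsNormalizerSystem V N →
      ∀ P : Subgroup Ω, N.Hom P = (innerFusionSystem (normalizerIn S V)).Hom P := by
  constructor
  · intro h N hN
    refine Thin.hom_eq fun P f hf => ?_
    obtain ⟨hfF, hP, -, g, hg, hgf, hgV⟩ := (isMor_normalizerSystem hN).mp hf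
    have hd : P ⊔ V ≤ normalizerIn S V := sup_le hP (le_normalizerIn hV)
    obtain ⟨s, hs, e⟩ := h (P ⊔ V) g hg hd ⟨g, by rwa [sup_assoc, sup_idem], fun _ _ => rfl, hgV⟩
    refine ⟨s, mem_normalizerIn.mpr ⟨hs, ?_⟩, fun x hx =>
      (hgf x hx).symm.trans (e x (Subgroup.mem_sup_left hx))⟩
    rw [Subgroup.mem_normalizer_iff_map_conj_eq]
    show V.map (MulAut.conj s).toMonoidHom = V
    rw [← img_cj]
    exact (img_congr (f := g) (g := cj s) fun x hx => e x (Subgroup.mem_sup_right hx)).symm.trans hgV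
  · intro h P f hf hP hg
    obtain ⟨N, hN⟩ := Cfsg.Agent.S5096.result F V hV
    obtain ⟨g, hg, hgf, hgV⟩ := hg
    have hfN : ∀ x ∈ P, f x ∈ normalizerIn S V := fun x hx => by
      refine mem_normalizerIn.mpr ⟨hf.mem hx, ?_⟩
      rw [← hgf x hx, Subgroup.mem_normalizer_iff_map_conj_eq]
      show V.map (MulAut.conj (g x)).toMonoidHom = V
      rw [← img_cj]
      conv_lhs => rw [← hgV, (hg.restrict le_sup_right).img_comp]
      rw [img_congr (f := cj (g x) ∘ g) (g := g ∘ cj x) fun y hy =>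
          (hg.map_conj (Subgroup.mem_sup_left hx) (Subgroup.mem_sup_right hy)).symm,
        ← (isMor_cj F hV (hf.le hx)).img_comp,
        img_cj_of_normalizer (mem_normalizerIn.mp (hP hx)).2, hgV]
    obtain ⟨-, s, hs, e⟩ := isMor_inner.mp ((hom_eq_iff.mp (h N hN P) f).mp
      ((isMor_normalizerSystem hN).mpr ⟨hf, hP, hfN, g, hg, hgf, hgV⟩))
    exact ⟨s, normalizerIn_le hs, e⟩

theorem isModel_congr {T : Subgroup Ω} {D : FusionSystem T} (h : T = S)
    (e : ∀ P f, IsMor D P f ↔ IsMor F P f) {L : Type*} [Group L] {ι : S →* L}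
    (hL : F.IsModel p L ι) : ∃ ι' : T →* L, D.IsModel p L ι' := by
  subst h
  rw [fusion_ext e]
  exact ⟨ι, hL⟩

/-- If the quotient is thin then the automizers above `Q` are `p`-groups. -/
theorem isPGroup_aut_of_quotient [Finite S] {Q : Subgroup Ω} {Ω' : Type*} [Group Ω']
    {S' : Subgroup Ω'} {θ : S →* Ω'} {E : FusionSystem S'} (hS : IsPGroup p S) (hQ : F.IsNormal Q)
    (hinn : ∀ f, IsMor F Q f → ∃ s ∈ S, ∀ x ∈ Q, f x = cj s x)
    (hE : F.IsFactorSystem Q θ E) (hthin : Thin E) {R : Subgroup Ω} (hR : R ≤ S) (hQR : Q ≤ R) :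
    IsPGroup p (F.autGroup R) := by
  obtain ⟨hQS, hker, hrange, -⟩ := id hE
  rintro ⟨γ, hγ⟩
  have hpre : preimageAlong θ (imageAlong θ R) = R := by
    rw [preimage_image hker hQS hR, sup_eq_left.mpr hQR]
  obtain ⟨gb, hgb, hgbe⟩ := factor_push hE (isNormal_stronglyClosed hQ)
    ((imageAlong_le_range R).trans hrange.le)
    (show IsMor F (preimageAlong θ (imageAlong θ R)) (autFun γ) by rw [hpre]; exact isMor_autFun hR hγ)
  obtain ⟨sb, hsb, hse⟩ := hthin _ _ hgb
  obtain ⟨y, rfl⟩ := hrange.ge hsb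
  let r : Ω → Ω → Prop := fun a b => a⁻¹ * b ∈ Q
  have rtrans : ∀ {a b c}, r a b → r b c → r a c := fun {a b c} h1 h2 => by
    have := Q.mul_mem h1 h2
    simpa [r, mul_assoc] using this
  have rsymm : ∀ {a b}, r a b → r b a := fun {a b} h => by
    have := Q.inv_mem h
    simpa [r] using this
  have rcj : ∀ {s a b}, s ∈ S → r a b → r (cj s a) (cj s b) := fun {s a b} hs h => by
    have := conj_mem_of_isNormal hQ hs h
    simpa [r, cj, mul_assoc] using this
  have hγy : ∀ x ∈ R, r (cj (y : Ω) x) (autFun γ x) := fun x hx => by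
    have himg : θ ⟨x, hR hx⟩ ∈ imageAlong θ R := ⟨⟨x, hR hx⟩, hx, rfl⟩
    have h1 := hgbe ⟨x, hR hx⟩ (hR (autFun_mem γ hx)) himg
    rw [hse _ himg, cj_apply, ← map_inv, ← map_mul, ← map_mul] at h1
    exact (hker ((y * ⟨x, hR hx⟩ * y⁻¹)⁻¹ * ⟨_, hR (autFun_mem γ hx)⟩)).mp (by
      rw [map_mul, map_inv, h1, inv_mul_cancel])
  obtain ⟨m, hm⟩ := hS y
  have hym : (y : Ω) ^ p ^ m = 1 := congrArg Subtype.val hm
  have hpow : ∀ n : ℕ, ∀ x ∈ R, r (cj ((y : Ω) ^ n) x) (autFun (γ ^ n) x) := by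
    intro n
    induction n with
    | zero => intro x hx; rw [pow_zero, pow_zero, autFun_one hx, cj_one]; simp [r]
    | succ n ih =>
      intro x hx
      rw [pow_succ', pow_succ', autFun_mul _ _ hx, cj_mul]
      exact rtrans (rcj y.2 (ih x hx)) (hγy _ (autFun_mem _ hx))
  set δ := γ ^ p ^ m
  have hδF : δ ∈ F.autGroup R := pow_mem hγ _
  obtain ⟨s, hs, hse'⟩ := hinn _ ((isMor_autFun hR hδF).restrict hQR)
  obtain ⟨l, hl⟩ := hS ⟨s, hs⟩
  have hsl : s ^ p ^ l = 1 := congrArg Subtype.val hl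
  have hδQ : ∀ n : ℕ, ∀ x ∈ Q, autFun (δ ^ n) x = cj (s ^ n) x := by
    intro n
    induction n with
    | zero => intro x hx; rw [pow_zero, pow_zero, autFun_one (hQR hx), cj_one]
    | succ n ih =>
      intro x hx
      rw [pow_succ', pow_succ', autFun_mul _ _ (hQR hx), ih x hx,
        hse' _ (conj_mem_of_isNormal hQ (Subgroup.pow_mem _ hs n) hx), cj_mul]
  let K₂ : Subgroup (MulAut R) :=
    { carrier := {α | (∀ x ∈ Q, autFun α x = x) ∧ ∀ x ∈ R, r x (autFun α x)}
      one_mem' := ⟨fun x hx => autFun_one (hQR hx), fun x hx => by rw [autFun_one hx]; simp [r]⟩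
      mul_mem' := fun {a b} ha hb => ⟨fun x hx => by
          rw [autFun_mul _ _ (hQR hx), hb.1 x hx, ha.1 x hx], fun x hx => by
          rw [autFun_mul _ _ hx]; exact rtrans (hb.2 x hx) (ha.2 _ (autFun_mem b hx))⟩
      inv_mem' := fun {a} ha => ⟨fun x hx => by
          conv_lhs => rw [← ha.1 x hx, autFun_inv_left a (hQR hx)], fun x hx => by
          have := ha.2 _ (autFun_mem a⁻¹ hx)
          rw [autFun_inv_right a hx] at this
          exact rsymm this⟩ }
  let W : ℕ → Set Ω := fun i => if i = 0 then {1} else if i = 1 then (Q : Set Ω) else (R : Set Ω)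
  have hK₂ : IsPGroup p K₂ := by
    refine isPGroup_stabilizing hS hR 2 W (by simp [W]) (fun x hx => by simpa [W] using hx)
      fun α hα i hi x hx hxW => ?_
    rcases i with _ | _ | i
    · have hxQ : x ∈ Q := by simpa [W] using hxW
      simp [W, hα.1 x hxQ]
    · simpa [W] using hα.2 x hx
    · omega
  have hmem : δ ^ p ^ l ∈ K₂ := by
    refine ⟨fun x hx => by rw [hδQ _ x hx, hsl, cj_one], fun x hx => ?_⟩
    have := hpow (p ^ m * p ^ l) x hx
    rwa [pow_mul, pow_mul, hym, one_pow, cj_one] at this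
  obtain ⟨j, hj⟩ := hK₂ ⟨_, hmem⟩
  refine ⟨m + l + j, Subtype.ext ?_⟩
  show γ ^ p ^ (m + l + j) = 1
  rw [pow_add, pow_add, pow_mul, pow_mul]
  exact congrArg Subtype.val hj

/-- If all models with the property are thin, so is every saturated system with the property. -/
theorem thin_of_models (H : Type*) [Group H]
    (Hyp : ∀ (Ω : Type u) [Group Ω] (S : Subgroup Ω), FusionSystem S → Prop)
    (hmono : ∀ (Ω : Type u) [Group Ω] (S : Subgroup Ω) (F D : FusionSystem S),
      (∀ P f, IsMor D P f → IsMor F P f) → Hyp Ω S F → Hyp Ω S D)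
    (hdesc : ∀ (Ω : Type u) [Group Ω] (S T : Subgroup Ω) [Finite S] (F : FusionSystem S)
      (D : FusionSystem T), IsPGroup p S → F.IsSaturated p → Hyp Ω S F → T ≤ S → T ≠ ⊥ →
      (∀ P f, IsMor D P f → IsMor F P f) →
      (∀ V, V ≠ ⊥ → V ≤ T → (∀ f, IsMor F T f → img T f = T → img V f = V) → NThin D V) →
      Hyp Ω T D)
    (hquot : ∀ (Ω : Type u) [Group Ω] (S : Subgroup Ω) [Finite S] (F : FusionSystem S)
      (Q : Subgroup Ω) (Ω' : Type u) [Group Ω'] (S' : Subgroup Ω') (θ : S →* Ω')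
      (E : FusionSystem S'), IsPGroup p S → F.IsSaturated p → Hyp Ω S F →
      F.IsFactorSystem Q θ E → F.IsNormal Q → S' ≠ ⊥ →
      (∀ V, V ≠ ⊥ → V ≤ S' → normalizerIn S' V = S' → NThin E V) → Hyp Ω' S' E)
    (hmodel : ∀ (Ω : Type u) [Group Ω] (S : Subgroup Ω) [Finite S] (F : FusionSystem S),
      IsPGroup p S → F.IsSaturated p → Hyp Ω S F → ∀ (L : Type u) [Group L] (ι : S →* L),
        F.IsModel p L ι → ¬ Involves H L → Thin F) :
    ∀ (n m : ℕ) (Ω : Type u) [Group Ω] (S : Subgroup Ω) [Finite S] (F : FusionSystem S),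
      Nat.card S = n → sysSize F = m → IsPGroup p S → F.IsSaturated p → F.IsSectionFree p H →
      Hyp Ω S F → Thin F := by
  intro n
  induction n using Nat.strong_induction_on with
  | _ n ih₁ =>
  intro m
  induction m using Nat.strong_induction_on with
  | _ m ih₂ =>
  intro Ω _ S _ F hn hm hS hF hfree hH
  subst hn hm
  by_cases hS1 : S = ⊥
  · intro P f hf
    refine ⟨1, S.one_mem, fun x hx => ?_⟩
    have : x = 1 := Subgroup.mem_bot.mp (hS1 ▸ hf.le hx)
    rw [this, hf.map_one, cj_one]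
  -- smaller systems over `S`
  have hsmall : ∀ (T : Subgroup Ω) (D : FusionSystem T), T = S → D.IsSubsystemOf F → D.IsSaturated p →
      D.IsSectionFree p H → (∃ P f, IsMor F P f ∧ ¬ IsMor D P f) → Thin D := by
    intro T D hT hsub hsat hfr hne
    subst hT
    refine ih₂ (sysSize D) (sysSize_lt hS hF hsub fun h => ?_) Ω _ D rfl rfl hS hsat hfr
      (hmono Ω _ F D (le_iff_isMor.mp hsub) hH)
    obtain ⟨P, f, hf, hnf⟩ := hne
    exact hnf (le_iff_isMor.mp h P f hf)
  -- a proper normalizer system of a subgroup normal in `S`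
  have hnormS : ∀ Q, Q ≤ S → normalizerIn S Q = S → ¬ F.IsNormal Q → NThin F Q := by
    intro Q hQS hN hnQ
    obtain ⟨NQ, hNQ⟩ := Cfsg.Agent.S5096.result F Q hQS
    have hQn := isFullyNormalized_of_normal (F := F) hQS hN
    have hne : ∃ P' f', IsMor F P' f' ∧ ¬ IsMor NQ P' f' := by
      by_contra hno
      push Not at hno
      refine hnQ (isNormal_iff.mpr ⟨hQS, fun P' f' hf' => ?_⟩)
      obtain ⟨-, -, -, k, hk, hkf, hkQ⟩ := (isMor_normalizerSystem hNQ).mp (hno P' f' hf')
      exact ⟨k, hk, hkf, hkQ⟩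
    have h1 := hsmall _ NQ hN (le_iff_isMor.mpr fun _ _ h => ((isMor_normalizerSystem hNQ).mp h).1)
      (normalizerSystem_isSaturated hS hF hQn hNQ)
      (isSectionFree_normalizerSystem hS hF hfree hQn hNQ) hne
    intro P f hf hP hg
    obtain ⟨g, hg, hgf, hgQ⟩ := hg
    obtain ⟨s, hs, e⟩ := h1 P f ((isMor_normalizerSystem hNQ).mpr
      ⟨hf, hP, fun x hx => hN.symm ▸ hf.mem hx, g, hg, hgf, hgQ⟩)
    exact ⟨s, normalizerIn_le hs, e⟩
  -- the case of a nontrivial normal subgroup
  have hnormal : ∀ Q, Q ≠ ⊥ → F.IsNormal Q → Thin F := by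
    intro Q' hQ'1 hQ'
    set Q := F.core with hQdef
    have hQ : F.IsNormal Q := isNormal_core F
    have hQ1 : Q ≠ ⊥ := fun h => hQ'1 (le_bot_iff.mp ((le_core hQ').trans h.le))
    have hQsc := (stronglyClosed_iff.mp (isNormal_stronglyClosed hQ)).2
    by_cases hQc : centralizerIn S Q ≤ Q
    · have hQcen : F.IsCentric Q := ⟨hQ.1, fun U hU => by
        obtain ⟨f, hf, rfl⟩ := isConj_iff.mp hU
        rwa [hf.img_eq_self fun x hx => hQsc Q f hf x hx hx]⟩
      obtain ⟨L, _, ι, hL⟩ := exists_model hS ⟨hF, Q, hQ, hQcen⟩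
      have hN := normalizerIn_of_isNormal hQ
      obtain ⟨NQ, hNQ⟩ := Cfsg.Agent.S5096.result F Q hQ.1
      have heq : ∀ P f, IsMor NQ P f ↔ IsMor F P f := fun P f => by
        refine ⟨fun h => ((isMor_normalizerSystem hNQ).mp h).1, fun hf => ?_⟩
        obtain ⟨g, hg, hgf, hgQ⟩ := (isNormal_iff.mp hQ).2 P f hf
        exact (isMor_normalizerSystem hNQ).mpr
          ⟨hf, hN.symm ▸ hf.le, fun x hx => hN.symm ▸ hf.mem hx, g, hg, hgf, hgQ⟩
      obtain ⟨ι', hι'⟩ := isModel_congr hN heq hL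
      exact hmodel Ω S F hS hF hH L ι hL
        (hfree Q (isFullyNormalized_of_normal hQ.1 hN) hQcen NQ hNQ L ι' hι')
    set C := Q ⊔ centralizerIn S Q with hC
    have hCS : C ≤ S := sup_le hQ.1 centralizerIn_le
    have hCn : normalizerIn S C = S := mem_normalizer_of_conj_le fun s hs => img_le fun x hx => by
      refine (sup_le ?_ ?_ : C ≤ C.comap (MulAut.conj s).toMonoidHom) hx
      · exact fun y hy => Subgroup.mem_sup_left (show cj s y ∈ Q from conj_mem_of_isNormal hQ hs hy)
      · intro y hy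
        obtain ⟨hyS, hyc⟩ := mem_centralizerIn.mp hy
        refine Subgroup.mem_sup_right (mem_centralizerIn.mpr
          ⟨S.mul_mem (S.mul_mem hs hyS) (S.inv_mem hs), fun z hz => ?_⟩)
        have h1 := hyc _ (conj_mem_of_isNormal hQ (S.inv_mem hs) hz)
        show cj (cj s y) z = z
        rw [show cj (cj s y) z = cj s (cj y (cj s⁻¹ z)) by simp [cj, mul_assoc],
          show cj y (cj s⁻¹ z) = cj s⁻¹ z from h1, cj_cj_inv]
    have hCt := hnormS C hCS hCn fun h => hQc (le_sup_right.trans (le_core h))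
    obtain ⟨F₁, hF₁⟩ := exists_innerSystem hQ
    by_cases hne : ∃ P f, IsMor F P f ∧ ¬ IsMor F₁ P f
    · have h1 := hsmall S F₁ rfl (le_iff_isMor.mpr fun _ _ h => ((hF₁ _ _).mp h).1)
        (innerSystem_isSaturated hS hF hQ hF₁) (innerSystem_isSectionFree hS hF hfree hQ hF₁) hne
      intro P f hf
      obtain ⟨g, hg, hgf, hgQ⟩ := (isNormal_iff.mp hQ).2 P f hf
      obtain ⟨ν, c, hν, hνC, hc, hcQ, hce⟩ := exists_decomp hS hF hQ hg le_sup_right
      have hν' := hν.restrict (le_sup_left : P ⊔ Q ≤ (P ⊔ Q) ⊔ C)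
      obtain ⟨t, ht, hte⟩ := hCt _ ν hν' (hCn.symm ▸ hν'.le) ⟨ν, hν, fun _ _ => rfl, hνC⟩
      have hi : img Q ν = Q := (hν'.restrict le_sup_right).img_eq_self fun x hx =>
        hQsc _ ν hν' x (Subgroup.mem_sup_right hx) hx
      have hcF₁ : IsMor F₁ (img (P ⊔ Q) ν) c := by
        refine (hF₁ _ _).mpr ⟨hc, hν'.img_le, fun x hx => hc.mem hx, c, ?_, fun _ _ => rfl,
          1, S.one_mem, fun x hx => by rw [hcQ x hx, cj_one]⟩
        rwa [sup_eq_left.mpr (hi.ge.trans (img_mono ν le_sup_right))]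
      obtain ⟨s, hs, hse⟩ := h1 _ c hcF₁
      refine ⟨s * t, S.mul_mem hs ht, fun x hx => ?_⟩
      have hx' : x ∈ P ⊔ Q := Subgroup.mem_sup_left hx
      rw [← hgf x hx, ← hce x hx', hse _ (mem_img_of_mem ν hx'), hte x hx', cj_mul]
    · push Not at hne
      have hinn : ∀ f, IsMor F Q f → ∃ s ∈ S, ∀ x ∈ Q, f x = cj s x := fun f hf => by
        obtain ⟨-, -, -, g, hg, hgf, s, hs, hgs⟩ := (hF₁ Q f).mp (hne Q f hf)
        exact ⟨s, hs, fun x hx => (hgf x hx).symm.trans (hgs x hx)⟩
      have hQnS : (Q.subgroupOf S).Normal := ⟨fun a ha s =>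
        conj_mem_of_isNormal hQ s.2 (Subgroup.mem_subgroupOf.mp ha)⟩
      set θ := QuotientGroup.mk' (Q.subgroupOf S)
      have hker : ∀ s : S, θ s = 1 ↔ (s : Ω) ∈ Q := fun s =>
        (QuotientGroup.eq_one_iff s).trans Subgroup.mem_subgroupOf
      have hrange : θ.range = ⊤ := MonoidHom.range_eq_top.mpr (QuotientGroup.mk'_surjective _)
      obtain ⟨E, hE⟩ := exists_factorSystem (isNormal_stronglyClosed hQ) hker hrange
      have hqc : Nat.card ↥(⊤ : Subgroup (↥S ⧸ Q.subgroupOf S)) < Nat.card S := by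
        rw [Nat.card_congr Subgroup.topEquiv.toEquiv]
        have h1 : 1 < Nat.card ↥(Q.subgroupOf S) := by
          rw [Nat.card_congr (Subgroup.subgroupOfEquivOfLe hQ.1).toEquiv]
          have : Finite Q := finite_of_le hQ.1
          exact Finite.one_lt_card_iff_nontrivial.mpr ((Subgroup.nontrivial_iff_ne_bot Q).mpr hQ1)
        have h2 := Subgroup.card_eq_card_quotient_mul_card_subgroup (Q.subgroupOf S)
        have h3 : 0 < Nat.card (↥S ⧸ Q.subgroupOf S) := Nat.card_pos
        rw [h2]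
        exact lt_mul_of_one_lt_right h3 h1
      have hpq : IsPGroup p ↥(⊤ : Subgroup (↥S ⧸ Q.subgroupOf S)) :=
        (hS.to_quotient _).of_equiv Subgroup.topEquiv.symm
      have htop : (⊤ : Subgroup (↥S ⧸ Q.subgroupOf S)) ≠ ⊥ := fun h => by
        refine hQc fun x hx => ?_
        have h6 : θ ⟨x, centralizerIn_le hx⟩ ∈ (⊥ : Subgroup (↥S ⧸ Q.subgroupOf S)) :=
          h ▸ Subgroup.mem_top _
        exact (hker _).mp (Subgroup.mem_bot.mp h6)
      have hNT : ∀ V, V ≠ ⊥ → V ≤ (⊤ : Subgroup (↥S ⧸ Q.subgroupOf S)) →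
          normalizerIn ⊤ V = ⊤ → NThin E V := by
        intro V hV1 _ hVn
        set U := preimageAlong θ V
        have hUS : U ≤ S := preimageAlong_le V
        have hUn : normalizerIn S U = S := mem_normalizer_of_conj_le fun s hs => img_le fun x hx => by
          obtain ⟨hxS, hxV⟩ := mem_preimageAlong.mp hx
          refine mem_preimageAlong.mpr ⟨S.mul_mem (S.mul_mem hs hxS) (S.inv_mem hs), ?_⟩
          have h1 := (Subgroup.mem_normalizer_iff.mp
            (mem_normalizerIn.mp (hVn.ge (Subgroup.mem_top (θ ⟨s, hs⟩)))).2 _).mp hxV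
          rw [← map_inv, ← map_mul, ← map_mul] at h1
          exact h1
        have hUn' : ¬ F.IsNormal U := fun h => hV1 (le_bot_iff.mp fun y hy => by
          obtain ⟨x, rfl⟩ := QuotientGroup.mk'_surjective (Q.subgroupOf S) y
          exact Subgroup.mem_bot.mpr ((hker x).mpr (le_core h (mem_preimageAlong.mpr ⟨x.2, hy⟩))))
        intro P f hf _ hg
        obtain ⟨g, hg, hgf, hgV⟩ := hg
        obtain ⟨G, hG, hGe⟩ := factor_lift hE hg
        set X := preimageAlong θ (P ⊔ V)
        have hUX : U ≤ X := fun x hx => mem_preimageAlong.mpr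
          ⟨(mem_preimageAlong.mp hx).1, Subgroup.mem_sup_right (mem_preimageAlong.mp hx).2⟩
        have hGU : img U G = U := (hG.restrict hUX).img_eq_self fun x hx => by
          obtain ⟨hxS, hxV⟩ := mem_preimageAlong.mp hx
          refine mem_preimageAlong.mpr ⟨hG.mem (hUX hx), ?_⟩
          rw [← hGe ⟨x, hxS⟩ (hG.mem (hUX hx)) (Subgroup.mem_sup_right hxV)]
          exact hgV.le (mem_img_of_mem g hxV)
        obtain ⟨s, hs, hse⟩ := hnormS U hUS hUn hUn' X G hG (hUn.symm ▸ hG.le)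
          ⟨G, by rwa [sup_eq_left.mpr hUX], fun _ _ => rfl, hGU⟩
        refine ⟨θ ⟨s, hs⟩, Subgroup.mem_top _, fun y hy => ?_⟩
        obtain ⟨x, rfl⟩ := QuotientGroup.mk'_surjective (Q.subgroupOf S) y
        have hxX : (x : Ω) ∈ X := mem_preimageAlong.mpr ⟨x.2, Subgroup.mem_sup_left hy⟩
        rw [← hgf _ hy, hGe x (hG.mem hxX) (Subgroup.mem_sup_left hy), cj_apply, ← map_inv, ← map_mul,
          ← map_mul]
        exact congrArg θ (Subtype.ext (hse _ hxX))
      have h4 : Thin E := ih₁ _ hqc _ _ ⊤ E rfl rfl hpq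
        (factor_isSaturated hS hF (isNormal_stronglyClosed hQ) hE)
        (isSectionFree_factor hS hF hfree hQ hE) (hquot Ω S F Q _ ⊤ θ E hS hF hH hE hQ htop hNT)
      refine Thin.of_hom_eq fun P => ?_
      rw [fusion_le_antisymm (alperin hS hF fun R hR => ?_) (inner_isSubsystemOf F)]
      rw [autGroup_inner (hR.elim (fun h => h.le) essential_le)]
      rcases hR with rfl | hR
      · rw [← inn_eq_autInducedBy]
        exact autGroup_le_inn_of_isPGroup hS hF
          (isPGroup_aut_of_quotient hS hQ hinn hE h4 le_rfl hQ.1)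
      · have hQR := le_of_normal_of_radical hS hQ hR.1 (essential_radical hS hR)
        have hRp := isPGroup_aut_of_quotient hS hQ hinn hE h4 (essential_le hR) hQR
        exact absurd ⟨⟨⊤, hRp.to_subgroup ⊤, fun _ hle => top_le_iff.mp hle⟩,
          ⟨fun k _ a => trivial⟩⟩ (not_pClosed_of_essential hS hR)
  -- general case
  by_contra hgoal
  suffices hA : ∀ d, ∀ Q : Subgroup Ω, Nat.card S - Nat.card (normalizerIn S Q) = d → Q ≠ ⊥ →
      F.IsFullyNormalized Q → NThin F Q by
    apply hgoal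
    refine Thin.of_hom_eq fun P => ?_
    rw [fusion_le_antisymm (alperin hS hF fun R hR α hα => ?_) (inner_isSubsystemOf F)]
    have hRS : R ≤ S := hR.elim (fun h => h.le) essential_le
    have hR1 : R ≠ ⊥ := by
      rcases hR with rfl | hR
      · exact hS1
      · exact fun h => hS1 (le_bot_iff.mp fun x hx => by
          have h1 := hR.1.2 R (isConj_refl F hRS)
          have h2 : x ∈ centralizerIn S R := mem_centralizerIn.mpr ⟨hx, fun y hy => by
            rw [show y = 1 by rw [h] at hy; exact Subgroup.mem_bot.mp hy]; simp [cj]⟩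
          exact h ▸ h1 h2)
    have hRn : F.IsFullyNormalized R := by
      rcases hR with rfl | hR
      · exact isFullyNormalized_self F
      · exact hR.2.1
    have ha := isMor_autFun hRS hα
    exact (autGroup_eq_set hRS α).mpr (isMor_inner.mpr ⟨hRS, hA _ R rfl hR1 hRn R _ ha
      (le_normalizerIn hRS) ⟨autFun α, by rwa [sup_idem], fun _ _ => rfl, img_autFun α⟩⟩)
  intro d
  induction d using Nat.strong_induction_on with
  | _ d ih =>
  intro Q hd hQ1 hQn
  subst hd
  rcases eq_or_lt_of_le (normalizerIn_le : normalizerIn S Q ≤ S) with hMeq | hMlt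
  · by_cases hQnormal : F.IsNormal Q
    · exact absurd (hnormal Q hQ1 hQnormal) hgoal
    · exact hnormS Q hQn.1 hMeq hQnormal
  set M := normalizerIn S Q with hMdef
  have hlarge : ∀ P f, IsMor F P f → Nat.card M < Nat.card P →
      IsMor (innerFusionSystem S) P f := by
    refine alperin_above (Nat.card M) hS hF fun R hR hRe α hα => ?_
    have hRS : R ≤ S := hRe.elim (fun h => h.le) essential_le
    have hRn : F.IsFullyNormalized R := by
      rcases hRe with rfl | hRe
      · exact isFullyNormalized_self F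
      · exact hRe.2.1
    have hR1 : R ≠ ⊥ := fun h => by
      rw [h, Subgroup.card_bot] at hR
      have : Finite ↥M := finite_of_le normalizerIn_le
      have := (Nat.card_pos : 0 < Nat.card M)
      omega
    have hlt : Nat.card S - Nat.card (normalizerIn S R) < Nat.card S - Nat.card M := by
      have : Finite ↥(normalizerIn S R) := finite_of_le normalizerIn_le
      have : Finite ↥M := finite_of_le normalizerIn_le
      have := hR.trans_le (Subgroup.card_le_of_le (le_normalizerIn hRS))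
      have := Subgroup.card_le_of_le (normalizerIn_le : normalizerIn S R ≤ S)
      omega
    have ha := isMor_autFun hRS hα
    exact (autGroup_eq_set hRS α).mpr (isMor_inner.mpr ⟨hRS, ih _ hlt R rfl hR1 hRn R _ ha
      (le_normalizerIn hRS) ⟨autFun α, by rwa [sup_idem], fun _ _ => rfl, img_autFun α⟩⟩)
  obtain ⟨NQ, hNQ⟩ := Cfsg.Agent.S5096.result F Q hQn.1
  have hfinM : Finite ↥(normalizerIn S Q) := finite_of_le normalizerIn_le
  have hpM : IsPGroup p ↥(normalizerIn S Q) := isPGroup_of_le normalizerIn_le hS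
  have hsubF : ∀ P f, IsMor NQ P f → IsMor F P f := fun _ _ h =>
    ((isMor_normalizerSystem hNQ).mp h).1
  have hMS : M ≤ S := normalizerIn_le
  have hM1 : M ≠ ⊥ := fun h => hQ1 (le_bot_iff.mp ((le_normalizerIn hQn.1).trans h.le))
  have hDH : Hyp Ω M NQ := by
    refine hdesc Ω S M F NQ hS hF hH hMS hM1 hsubF fun V hV1 hVM hVinv => ?_
    have hVS := hVM.trans hMS
    have hMV : M ≤ normalizerIn S V := fun a ha => by
      refine mem_normalizerIn.mpr ⟨hMS ha, ?_⟩
      rw [Subgroup.mem_normalizer_iff_map_conj_eq]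
      show V.map (MulAut.conj a).toMonoidHom = V
      rw [← img_cj]
      exact hVinv _ (isMor_cj F hMS (hMS ha)) (img_cj_of_normalizer (Subgroup.le_normalizer ha))
    have hgt : M < normalizerIn S V := by
      refine lt_of_lt_of_le (normalizerIn_gt hS hMlt) fun x hx => ?_
      obtain ⟨hxS, hxM⟩ := mem_normalizerIn.mp hx
      refine mem_normalizerIn.mpr ⟨hxS, ?_⟩
      rw [Subgroup.mem_normalizer_iff_map_conj_eq]
      show V.map (MulAut.conj x).toMonoidHom = V
      rw [← img_cj]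
      exact hVinv _ (isMor_cj F hMS hxS) (img_cj_of_normalizer hxM)
    obtain ⟨U, hU, hUn⟩ := exists_fullyNormalized F hVS
    obtain ⟨β, hβ, hβi, hβN⟩ := exists_map_fullyNormalized hS hF hUn hU
    have hcardβ : Nat.card M < Nat.card (normalizerIn S V) := card_lt_of_lt normalizerIn_le hgt
    obtain ⟨-, t, ht, hte⟩ := isMor_inner.mp (hlarge _ β hβ hcardβ)
    have hU1 : U ≠ ⊥ := fun h => hV1 (by
      have := (hβ.restrict (le_normalizerIn hVS)).card_img
      rw [hβi, h, Subgroup.card_bot] at this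
      exact Subgroup.card_eq_one.mp this.symm)
    have hlt : Nat.card S - Nat.card (normalizerIn S U) < Nat.card S - Nat.card M := by
      have h2 : Nat.card (normalizerIn S V) ≤ Nat.card (normalizerIn S U) := by
        have : Finite ↥(normalizerIn S U) := finite_of_le normalizerIn_le
        rw [← hβ.card_img]
        exact Subgroup.card_le_of_le hβN
      have := Subgroup.card_le_of_le (normalizerIn_le : normalizerIn S U ≤ S)
      omega
    have hUT := ih _ hlt U rfl hU1 hUn
    intro P f hf _ hg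
    obtain ⟨g, hg, hgf, hgV⟩ := hg
    obtain ⟨-, hXM, hgM, g', hg', hg'g, hg'Q⟩ := (isMor_normalizerSystem hNQ).mp hg
    set X := P ⊔ V ⊔ Q
    have hXN : X ≤ normalizerIn S V :=
      (sup_le hXM (le_normalizerIn hQn.1) : X ≤ M).trans hMV
    have hg'M : ∀ x ∈ X, g' x ∈ normalizerIn S V := fun x hx => by
      have h1 := mem_img_of_mem g' hx
      rw [hg'.img_sup, hg'Q, img_congr hg'g] at h1
      exact hMV (sup_le (img_le hgM) (le_normalizerIn hQn.1) h1)
    have htU : ∀ x ∈ normalizerIn S V, cj t x ∈ normalizerIn S U := fun x hx =>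
      hte x hx ▸ hβN (mem_img_of_mem β hx)
    have hmV : IsMor F (img X (cj t)) (cj t ∘ g' ∘ cj t⁻¹) :=
      (((isMor_cj F (img_le fun x hx => normalizerIn_le (htU x (hXN hx))) (S.inv_mem ht)).comp hg'
        fun y hy => by
          obtain ⟨x, hx, rfl⟩ := (isMor_cj F (hXN.trans normalizerIn_le) ht).mem_img.mp hy
          rwa [cj_inv_cj]).comp (isMor_cj F (normalizerIn_le : normalizerIn S V ≤ S) ht) fun y hy => by
          obtain ⟨x, hx, rfl⟩ := (isMor_cj F (hXN.trans normalizerIn_le) ht).mem_img.mp hy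
          rw [Function.comp_apply, cj_inv_cj]
          exact hg'M x hx)
    have hUimg : img V (cj t) = U := by
      rw [← hβi]
      exact img_congr fun x hx => (hte x (le_normalizerIn hVS hx)).symm
    have hUle : U ≤ img X (cj t) := hUimg.ge.trans (img_mono _ (le_sup_right.trans le_sup_left))
    obtain ⟨w, hw, hwe⟩ := hUT _ _ hmV (img_le fun x hx => htU x (hXN hx))
      ⟨cj t ∘ g' ∘ cj t⁻¹, by rwa [sup_eq_left.mpr hUle], fun _ _ => rfl,
        (hmV.restrict hUle).img_eq_self fun y hy => by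
          obtain ⟨x, hx, rfl⟩ := (isMor_cj F hVS ht).mem_img.mp (hUimg.ge hy)
          rw [Function.comp_apply, Function.comp_apply, cj_inv_cj]
          refine hUimg.le (mem_img_of_mem _ ?_)
          rw [hg'g x (Subgroup.mem_sup_right hx)]
          exact hgV.le (mem_img_of_mem g hx)⟩
    set mm := t⁻¹ * w * t
    have hmmv : ∀ x ∈ X, g' x = cj mm x := fun x hx => by
      have h1 := hwe _ (mem_img_of_mem (cj t) hx)
      rw [Function.comp_apply, Function.comp_apply, cj_inv_cj] at h1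
      rw [cj_mul, cj_mul, ← h1, cj_inv_cj]
    refine ⟨mm, mem_normalizerIn.mpr ⟨S.mul_mem (S.mul_mem (S.inv_mem ht) hw) ht, ?_⟩, fun x hx => ?_⟩
    · rw [Subgroup.mem_normalizer_iff_map_conj_eq]
      show Q.map (MulAut.conj mm).toMonoidHom = Q
      rw [← img_cj]
      exact (img_congr (f := g') (g := cj mm) fun x hx =>
        hmmv x (Subgroup.mem_sup_right hx)).symm.trans hg'Q
    · rw [← hgf x hx, ← hg'g x (Subgroup.mem_sup_left hx),
        hmmv x (Subgroup.mem_sup_left (Subgroup.mem_sup_left hx))]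
  have h1 := ih₁ _ (card_lt_of_lt le_rfl hMlt) _ Ω M NQ rfl rfl hpM
    (normalizerSystem_isSaturated hS hF hQn hNQ) (isSectionFree_normalizerSystem hS hF hfree hQn hNQ)
    hDH
  intro P f hf hP hg
  obtain ⟨g, hg, hgf, hgQ⟩ := hg
  have hfN : ∀ x ∈ P, f x ∈ M := fun x hx => by
    have h2 := mapsTo_normalizerIn (hg.restrict (le_refl _)) (le_sup_right : Q ≤ P ⊔ Q)
      (sup_le hP (le_normalizerIn hQn.1)) x (Subgroup.mem_sup_left hx)
    rwa [hgQ, hgf x hx] at h2
  obtain ⟨s, hs, e⟩ := h1 P f ((isMor_normalizerSystem hNQ).mpr ⟨hf, hP, hfN, g, hg, hgf, hgQ⟩)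
  exact ⟨s, normalizerIn_le hs, e⟩

end CfsgLib.Fusion
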