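import Mathlib
import Cfsg.Agent.Lib.Fusion.Thin
import Cfsg.Agent.Lib.Fusion.ModelProps
import Cfsg.Agent.Lib.Fusion.SectionFree
import Cfsg.Agent.Lib.Transfer.Fusion
import Cfsg.Agent.Lib.Base.Cores
import Cfsg.Agent.Lib.Base.Transport

/-! Normal `p`-complement criteria given by a functor. -/
set_option autoImplicit false

universe u

namespace CfsgLib.Fusion

open Cfsg Cfsg.FusionSystem

variable {p : ℕ} [hp : Fact p.Prime] {Ω : Type u} [Group Ω] {S : Subgroup Ω} {F : FusionSystem S}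
  {L : Type u} [Group L] {ι : S →* L}

theorem model_range_eq_top (hL : F.IsModel p L ι) (h : HasNormalPComplement p L) : ι.range = ⊤ := by
  obtain ⟨hfin, -, ⟨T, hT⟩, hc⟩ := id hL
  obtain ⟨P, K, hK, hKP⟩ := h
  have hdis : K ⊓ pCore p L = ⊥ :=
    le_bot_iff.mp ((inf_le_inf_left K (CfsgLib.Base.pCore_le_sylow P)).trans hKP.disjoint.le_bot)
  have hKc : K ≤ Subgroup.centralizer (pCore p L : Set L) :=
    CfsgLib.Base.le_centralizer_of_normal_disjoint hdis
  have hK1 : K = ⊥ := le_bot_iff.mp ((le_inf le_rfl (hKc.trans hc)).trans hdis.le)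
  subst hK1
  have hP : (P : Subgroup L) = ⊤ := Subgroup.isComplement'_bot_left.mp hKP
  have hpL : IsPGroup p L := (hP ▸ P.2).of_equiv Subgroup.topEquiv
  rw [← hT]
  exact (T.3 (hpL.to_subgroup ⊤) le_top).symm

theorem thin_of_range_eq_top (hL : F.IsRealizedBy ι) (h : ι.range = ⊤) : Thin F := by
  intro P f hf
  obtain ⟨g, hg⟩ := exists_induces hL hf
  obtain ⟨s, rfl⟩ := h.ge (Subgroup.mem_top g)
  refine ⟨s, s.2, fun x hx => ?_⟩
  have h1 := hg ⟨x, hf.le hx⟩ ⟨f x, hf.mem hx⟩ hx rfl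
  rw [← map_inv, ← map_mul, ← map_mul] at h1
  exact congrArg Subtype.val (hL.1 h1)

/-- In a model, thinness of the normalizer system of an invariant subgroup gives a normal
`p`-complement in the normalizer. -/
theorem model_normalizer_complement [Finite S] (hL : F.IsModel p L ι) {V : Subgroup Ω} (hVS : V ≤ S)
    (hN : normalizerIn S V = S) (hV : NThin F V) :
    HasNormalPComplement p (Subgroup.normalizer ((V.subgroupOf S).map ι : Set L)) := by
  obtain ⟨hfin, hr, ⟨T, hT⟩, -⟩ := id hL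
  set W := (V.subgroupOf S).map ι with hW
  have hTN : (T : Subgroup L) ≤ Subgroup.normalizer (W : Set L) := by
    rintro _ ht
    obtain ⟨s, rfl⟩ := hT.le ht
    have hsn : s ∈ Subgroup.normalizer (V.subgroupOf S : Set S) :=
      Subgroup.mem_normalizer_iff.mpr fun a =>
        Subgroup.mem_normalizer_iff.mp (mem_normalizerIn.mp (hN.ge s.2)).2 (a : Ω)
    exact Subgroup.le_normalizer_map ι ⟨s, hsn, rfl⟩
  refine CfsgLib.Transfer.hasNormalPComplement_of_fusion (T.subtype hTN) fun x hx g hgx => ?_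
  obtain ⟨a, ha⟩ := hT.le hx
  set P := Subgroup.zpowers (a : Ω)
  have hPS : P ≤ S := Subgroup.zpowers_le.mpr a.2
  have hgood : ∀ b : S, (b : Ω) ∈ P ⊔ V → (g : L) * ι b * (g : L)⁻¹ ∈ ι.range := by
    intro b hb
    have hsup : (P.subgroupOf S) ⊔ (V.subgroupOf S) ≤
        ι.range.comap ((MulAut.conj (g : L)).toMonoidHom.comp ι) := by
      refine sup_le (fun c hc => ?_) fun c hc => ?_
      · obtain ⟨n, hn⟩ := Subgroup.mem_zpowers_iff.mp (Subgroup.mem_subgroupOf.mp hc)
        have : c = a ^ n := Subtype.ext (hn.symm.trans (SubgroupClass.coe_zpow a n).symm)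
        rw [this]
        refine Subgroup.zpow_mem _ ?_ n
        show (g : L) * ι a * (g : L)⁻¹ ∈ ι.range
        rw [ha]
        exact hT.le hgx
      · have := ((Subgroup.mem_normalizer_iff.mp g.2) (ι c)).mp ⟨c, hc, rfl⟩
        obtain ⟨d, -, hd⟩ := this
        exact ⟨d, hd⟩
    rw [← Subgroup.subgroupOf_sup hPS hVS] at hsup
    exact hsup (Subgroup.mem_subgroupOf.mpr hb)
  obtain ⟨hf, hind⟩ := isMor_pullConj hr (sup_le hPS hVS) hgood
  have hVi : img V (pullConj ι (g : L)) = V := (hf.restrict le_sup_right).img_eq_self fun y hy => by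
    obtain ⟨d, hd, hde⟩ := ((Subgroup.mem_normalizer_iff.mp g.2) (ι ⟨y, hVS hy⟩)).mp
      ⟨⟨y, hVS hy⟩, hy, rfl⟩
    have h1 := hind ⟨y, hVS hy⟩ ⟨_, hf.mem (Subgroup.mem_sup_right hy)⟩
      (Subgroup.mem_sup_right hy) rfl
    have h2 : (d : Ω) = pullConj ι (g : L) y := congrArg Subtype.val (hr.1 (hde.trans h1.symm))
    rw [← h2]
    exact hd
  obtain ⟨s, hs, e⟩ := hV P _ (hf.restrict le_sup_left) (hN.symm ▸ hPS)
    ⟨pullConj ι (g : L), hf, fun _ _ => rfl, hVi⟩
  have ha' : (a : Ω) ∈ P := Subgroup.mem_zpowers _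
  have h1 := hind a ⟨_, hf.mem (Subgroup.mem_sup_left ha')⟩ (Subgroup.mem_sup_left ha') rfl
  rw [show (⟨_, hf.mem (Subgroup.mem_sup_left ha')⟩ : S) = ⟨s, hs⟩ * a * ⟨s, hs⟩⁻¹ from
    Subtype.ext (e _ ha'), map_mul, map_mul, map_inv, ha] at h1
  exact ⟨⟨ι ⟨s, hs⟩, hTN (hT.ge ⟨_, rfl⟩)⟩, hT.ge ⟨⟨s, hs⟩, rfl⟩, Subtype.ext h1⟩

/-- The group version of a functorial criterion. -/
def GroupCriterion (w : PFunctor'.{u} p) : Prop :=
  ∀ (G : Type u) [Group G] [Finite G] (P : Sylow p G),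
    HasNormalPComplement p (Subgroup.normalizer (w.at (P : Subgroup G) : Set G)) →
      HasNormalPComplement p G

theorem PFunctor'.map_at_eq [Finite S] (w : PFunctor'.{u} p) (hS : IsPGroup p S)
    (hι : Function.Injective ι) :
    ((w.at S).subgroupOf S).map ι = w.at ι.range := by
  have h1 : (w.at S).subgroupOf S = w.W ↥S :=
    Subgroup.comap_map_eq_self_of_injective S.subtype_injective _
  rw [h1, PFunctor'.at, ← w.equiv ↥S ↥ι.range hS (MonoidHom.ofInjective hι), Subgroup.map_map]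
  rfl

theorem model_thin_of_functor [Finite S] (w : PFunctor'.{u} p) (hw : GroupCriterion w)
    (hS : IsPGroup p S) (hL : F.IsModel p L ι) (hH : NThin F (w.at S)) : Thin F := by
  obtain ⟨hfin, hr, ⟨T, hT⟩, -⟩ := id hL
  refine thin_of_range_eq_top hr (model_range_eq_top hL (hw L T ?_))
  rw [hT, ← w.map_at_eq hS hr.1]
  refine model_normalizer_complement hL (w.at_le S) (mem_normalizer_of_conj_le fun s hs => ?_) hH
  have hm := isMor_cj F (le_refl S) hs
  rw [w.img_at hS hm, img_cj_of_normalizer (Subgroup.le_normalizer hs)]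

theorem not_involves_int (G : Type*) [Group G] [Finite G] :
    ¬ Involves (Multiplicative ℤ) G := by
  rintro ⟨U, N, _, ⟨e⟩⟩
  have : Finite (Multiplicative ℤ) := Finite.of_equiv _ e.toEquiv
  exact not_finite (Multiplicative ℤ)

theorem isSectionFree_int : F.IsSectionFree p (Multiplicative ℤ) := fun Q _ _ N _ L _ ι hι =>
  haveI := hι.1
  not_involves_int L

/-- The functorial criterion for saturated fusion systems. -/
theorem thin_of_functor (w : PFunctor'.{u} p) (hw : GroupCriterion w) [Finite S]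
    (hS : IsPGroup p S) (hF : F.IsSaturated p) (hH : NThin F (w.at S)) : Thin F := by
  refine thin_of_models (p := p) (Multiplicative ℤ) (fun Ω' _ S' F' => NThin F' (w.at S'))
    ?_ ?_ ?_ ?_ _ _ Ω S F rfl rfl hS hF isSectionFree_int hH
  · intro Ω' _ S' F' D hsub h P f hf hP hg
    obtain ⟨g, hg, hgf, hgV⟩ := hg
    exact h P f (hsub _ _ hf) hP ⟨g, hsub _ _ hg, hgf, hgV⟩
  · intro Ω' _ S' T _ F' D hS' _ _ hTS hT hsub hV
    have : Finite T := finite_of_le hTS
    refine hV _ (w.at_ne_bot (isPGroup_of_le hTS hS') hT) (w.at_le T) fun f hf hfT => ?_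
    rw [w.img_at hS' hf, hfT]
  · intro Ω₁ _ S₁ _ F₁ Q Ω₂ _ S₂ θ E hS₁ _ _ hE _ hS₂ hV
    have hr : θ.range = S₂ := (id hE).2.2.1
    have : Finite S₂ := hr ▸ Finite.of_surjective _ θ.rangeRestrict_surjective
    have hp₂ : IsPGroup p S₂ := hr ▸ hS₁.of_surjective _ θ.rangeRestrict_surjective
    refine hV _ (w.at_ne_bot hp₂ hS₂) (w.at_le S₂) (mem_normalizer_of_conj_le fun s hs => ?_)
    have hm := isMor_cj E (le_refl S₂) hs
    rw [w.img_at hp₂ hm, img_cj_of_normalizer (Subgroup.le_normalizer hs)]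
  · intro Ω₁ _ S₁ _ F₁ hS₁ _ h L₁ _ ι₁ hL₁ _
    exact model_thin_of_functor w hw hS₁ hL₁ h

theorem nthin_of_thin {V : Subgroup Ω} (h : Thin F) : NThin F V := fun P f hf _ _ => h P f hf

theorem thin_iff : Thin F ↔ ∀ P : Subgroup Ω, F.Hom P = (innerFusionSystem S).Hom P :=
  ⟨fun h => h.hom_eq, Thin.of_hom_eq⟩

/-- A functorial criterion in the form of the statements. -/
theorem inner_iff_functor (w : PFunctor'.{u} p) (hw : GroupCriterion w) [Finite S]
    (hS : IsPGroup p S) (hF : F.IsSaturated p) {V : Subgroup Ω} (hV : w.at S = V) :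
    (∀ P : Subgroup Ω, F.Hom P = (innerFusionSystem S).Hom P) ↔
      ∀ N : FusionSystem (normalizerIn S V), F.IsNormalizerSystem V N →
        ∀ P : Subgroup Ω, N.Hom P = (innerFusionSystem (normalizerIn S V)).Hom P := by
  subst hV
  rw [← thin_iff, ← nthin_iff (w.at_le S)]
  exact ⟨nthin_of_thin, thin_of_functor w hw hS hF⟩

end CfsgLib.Fusion
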