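import Mathlib
import Cfsg.Agent.Lib.Fusion.GoodTools
import Cfsg.Agent.Lib.Fusion.ThinFunctor
import Cfsg.Agent.Lib.Fusion.Transfer
import Cfsg.Agent.Lib.Fusion.Hyperfocal
import Cfsg.Agent.Lib.Base.Cores

/-! Control of transfer: from models to saturated systems. -/
set_option autoImplicit false

universe u

namespace CfsgLib.Fusion

open Cfsg Cfsg.FusionSystem
open scoped commutatorElement

variable {p : ℕ} [hp : Fact p.Prime] {Ω : Type u} [Group Ω] {S : Subgroup Ω} {F : FusionSystem S}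

omit hp in
/-- The maps moving elements within the cosets of a subgroup containing `[S,S]` form a system. -/
theorem exists_congrSys {K : Subgroup Ω} (hK : ⁅S, S⁆ ≤ K) :
    ∃ E : FusionSystem S, ∀ P f, IsMor E P f ↔ IsMor F P f ∧ ∀ x ∈ P, x⁻¹ * f x ∈ K := by
  let M : Subgroup Ω → (Ω → Ω) → Prop := fun P f => IsMor F P f ∧ ∀ x ∈ P, x⁻¹ * f x ∈ K
  refine ⟨ofPred S M (fun P f h => ⟨h.1.le, fun x hx => h.1.mem hx⟩)
    (fun P f h x hx y hy e => h.1.inj hx hy e) ?_ ?_ ?_ ?_, fun P f => ?_⟩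
  · exact fun P f f' h e => ⟨h.1.congr e, fun x hx => e x hx ▸ h.2 x hx⟩
  · refine fun P a hP ha => ⟨isMor_cj F hP ha, fun x hx => hK ?_⟩
    have := Subgroup.commutator_mem_commutator (S.inv_mem (hP hx)) ha
    simpa [commutatorElement_def, cj, mul_assoc] using this
  · refine fun P R f k hf hk hfR => ⟨hf.1.comp hk.1 hfR, fun x hx => ?_⟩
    have := K.mul_mem (hf.2 x hx) (hk.2 _ (hfR x hx))
    simpa [mul_assoc] using this
  · rintro P f ⟨hf, hc⟩ -
    obtain ⟨g, hg, hl, -, -⟩ := hf.inverse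
    refine ⟨g, ⟨hg, fun y hy => ?_⟩, hl⟩
    obtain ⟨x, hx, rfl⟩ := hf.mem_img.mp hy
    rw [hl x hx]
    simpa using K.inv_mem (hc x hx)
  · rw [isMor_ofPred fun h x hx y hy => h.1.map_mul hx hy]

omit hp in
theorem commutator_le_focal : ⁅S, S⁆ ≤ F.focalSubgroup := by
  rw [Subgroup.commutator_le]
  intro a ha b hb
  have h1 := le_focal (isMor_cj F (le_refl S) hb) (S.inv_mem ha)
  simpa [commutatorElement_def, cj, mul_assoc] using h1

/-- An element of the focal subgroup whose powers move only within their cosets modulo `K` lies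
in `K`. -/
theorem mem_of_mem_focal [Finite S] (hS : IsPGroup p S) (hF : F.IsSaturated p) {K : Subgroup Ω}
    (hK : ⁅S, S⁆ ≤ K) {q : Ω} (hqS : q ∈ S) (hq : q ∈ F.focalSubgroup)
    (hcong : ∀ P f, IsMor F P f → ∀ n : ℤ, q ^ n ∈ P → (q ^ n)⁻¹ * f (q ^ n) ∈ K) : q ∈ K := by
  have hKn : (K.subgroupOf S).Normal := ⟨fun a ha s => by
    have h1 : ⁅(s : Ω), (a : Ω)⁆ ∈ K := hK (Subgroup.commutator_mem_commutator s.2 a.2)
    have h2 := K.mul_mem h1 (Subgroup.mem_subgroupOf.mp ha)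
    rw [commutatorElement_def, inv_mul_cancel_right] at h2
    exact h2⟩
  let : CommGroup (↥S ⧸ K.subgroupOf S) :=
    { (inferInstance : Group (↥S ⧸ K.subgroupOf S)) with
      mul_comm := fun a b => by
        induction a using QuotientGroup.induction_on with
        | _ a =>
          induction b using QuotientGroup.induction_on with
          | _ b =>
            rw [← QuotientGroup.mk_mul, ← QuotientGroup.mk_mul, QuotientGroup.eq]
            refine Subgroup.mem_subgroupOf.mpr ?_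
            have h1 : ⁅(b : Ω)⁻¹, (a : Ω)⁻¹⁆ ∈ K :=
              hK (Subgroup.commutator_mem_commutator (S.inv_mem b.2) (S.inv_mem a.2))
            simpa [commutatorElement_def, mul_assoc] using h1 }
  let χ : ↥S →* ↥S ⧸ K.subgroupOf S := QuotientGroup.mk' _
  obtain ⟨B⟩ := exists_charBiset hS hF
  obtain ⟨D⟩ := exists_transferData B
  have h2 := D.transfer_of_congr χ (z := ⟨q, hqS⟩) fun P f hf n hn h => by
    show ((⟨f (q ^ n), h⟩ : S) : ↥S ⧸ K.subgroupOf S) = (((⟨q, hqS⟩ : S) ^ n : S) : ↥S ⧸ K.subgroupOf S)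
    refine (QuotientGroup.eq.mpr (Subgroup.mem_subgroupOf.mpr ?_)).symm
    rw [Subgroup.coe_mul, Subgroup.coe_inv, Subgroup.coe_zpow]
    exact hcong P f hf n hn
  rw [D.transfer_eq_one_of_mem_focal χ hq, eq_comm, inv_eq_one] at h2
  obtain ⟨l, hl⟩ := hS ⟨q, hqS⟩
  have h3 := Nat.dvd_gcd (orderOf_dvd_of_pow_eq_one h2)
    (orderOf_dvd_of_pow_eq_one (show χ ⟨q, hqS⟩ ^ p ^ l = 1 by rw [← map_pow, hl, map_one]))
  rw [((Nat.coprime_comm.mp (hp.out.coprime_iff_not_dvd.mpr B.not_dvd)).pow_right l).gcd_eq_one,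
    Nat.dvd_one, orderOf_eq_one_iff] at h3
  exact Subgroup.mem_subgroupOf.mp ((QuotientGroup.eq_one_iff _).mp h3)

/-- `E` is cut out by congruence modulo `K` and contains the maps normalizing `W(S)`. -/
def FocalHyp (w : PFunctor'.{u} p) (F E : FusionSystem S) : Prop :=
  ∃ K : Subgroup Ω, ⁅S, S⁆ ≤ K ∧ (∀ P f, IsMor E P f → ∀ x ∈ P, x⁻¹ * f x ∈ K) ∧
    (∀ P f, IsMor F P f → (∀ x ∈ P, x⁻¹ * f x ∈ K) → IsMor E P f) ∧ NGood F E (w.at S)

/-- The common step: all maps are congruent modulo `K` once the elements of `foc(F) ∩ Q` lie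
in `K`. -/
theorem focalHyp_quot (w : PFunctor'.{u} p) [Finite S] {E : FusionSystem S} {Q : Subgroup Ω}
    {Ω' : Type u} [Group Ω'] {S' : Subgroup Ω'} {θ : S →* Ω'} {Fb : FusionSystem S'}
    (hS : IsPGroup p S) (hH : FocalHyp w F E) (hE : F.IsFactorSystem Q θ Fb) (hQ : F.IsNormal Q)
    (hQK : ∀ K : Subgroup Ω, ⁅S, S⁆ ≤ K → (∀ P f, IsMor E P f → IsMor F P f → ∀ x ∈ P, x⁻¹ * f x ∈ K) →
      ∀ q ∈ Q, q ∈ F.focalSubgroup → q ∈ K)
    (hNT : ∀ V, V ≠ ⊥ → V ≤ S' → normalizerIn S' V = S' → ∀ P f, IsMor Fb P f →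
      (∃ g, IsMor Fb (P ⊔ V) g ∧ (∀ x ∈ P, g x = f x) ∧ img V g = V) →
      ∃ G, IsMor F (preimageAlong θ P) G ∧ IsMor E (preimageAlong θ P) G ∧
        ∀ (x : S) (hgx : G x ∈ S), θ x ∈ P → f (θ x) = θ ⟨G x, hgx⟩)
    (hIH : ∀ Eb : FusionSystem S', FocalHyp w Fb Eb → AllGood Fb Eb) : AllGood F E := by
  obtain ⟨K, hK, hE1, hE2, -⟩ := hH
  set K₀ := K ⊓ F.focalSubgroup with hK₀
  have hK₀S : ⁅S, S⁆ ≤ K₀ := le_inf hK commutator_le_focal
  have hr : θ.range = S' := (id hE).2.2.1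
  have hker := (id hE).2.1
  have : Finite S' := hr ▸ Finite.of_surjective _ θ.rangeRestrict_surjective
  have hp' : IsPGroup p S' := hr ▸ hS.of_surjective _ θ.rangeRestrict_surjective
  set Kb := imageAlong θ K₀ with hKb
  have hKbS : ⁅S', S'⁆ ≤ Kb := by
    rw [Subgroup.commutator_le]
    intro y₁ h₁ y₂ h₂
    obtain ⟨a, rfl⟩ := hr.ge h₁
    obtain ⟨b, rfl⟩ := hr.ge h₂
    rw [← map_commutatorElement]
    exact ⟨_, hK₀S (Subgroup.commutator_mem_commutator a.2 b.2), rfl⟩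
  obtain ⟨Eb, hEb⟩ := exists_congrSys (F := Fb) hKbS
  have hall : AllGood Fb Eb := by
    by_cases hS'1 : S' = ⊥
    · intro P f hf
      refine (hEb P f).mpr ⟨hf, fun x hx => ?_⟩
      have : x = 1 := Subgroup.mem_bot.mp (hS'1 ▸ hf.le hx)
      rw [this, hf.map_one, inv_one, one_mul]
      exact Kb.one_mem
    refine hIH Eb ⟨Kb, hKbS, fun P f hf => ((hEb P f).mp hf).2, fun P f hf h => (hEb P f).mpr ⟨hf, h⟩,
      fun P f hf hP hg => (hEb P f).mpr ⟨hf, fun x hx => ?_⟩⟩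
    have hVn : normalizerIn S' (w.at S') = S' := mem_normalizer_of_conj_le fun s hs => by
      rw [w.img_at hp' (isMor_cj Fb (le_refl S') hs), img_cj_of_normalizer (Subgroup.le_normalizer hs)]
    obtain ⟨G, hG, hGE, hGe⟩ := hNT _ (w.at_ne_bot hp' hS'1) (w.at_le S') hVn P f hf hg
    obtain ⟨a, rfl⟩ := hr.ge (hf.le hx)
    have haP : (a : Ω) ∈ preimageAlong θ P := mem_preimageAlong.mpr ⟨a.2, hx⟩
    refine ⟨a⁻¹ * ⟨_, hG.mem haP⟩, ?_, ?_⟩
    · exact ⟨hE1 _ _ hGE _ haP, le_focal hG haP⟩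
    · rw [map_mul, map_inv, hGe a (hG.mem haP) hx]
  intro P f hf
  refine hE2 P f hf fun x hx => ?_
  obtain ⟨g, hg, hgf, -⟩ := (isNormal_iff.mp hQ).2 P f hf
  have hXS : P ⊔ Q ≤ S := hg.le
  have hpre : preimageAlong θ (imageAlong θ (P ⊔ Q)) = P ⊔ Q := by
    rw [preimage_image hker hQ.1 hXS, sup_eq_left.mpr le_sup_right]
  obtain ⟨gb, hgb, hgbe⟩ := factor_push hE (isNormal_stronglyClosed hQ)
    ((imageAlong_le_range _).trans hr.le)
    (show IsMor F (preimageAlong θ (imageAlong θ (P ⊔ Q))) g by rw [hpre]; exact hg)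
  have hxX : x ∈ P ⊔ Q := Subgroup.mem_sup_left hx
  have hxS : x ∈ S := hXS hxX
  have hgxS : g x ∈ S := hg.mem hxX
  have hxI : θ ⟨x, hxS⟩ ∈ imageAlong θ (P ⊔ Q) := ⟨⟨x, hxS⟩, hxX, rfl⟩
  have h1 := ((hEb _ _).mp (hall _ _ hgb)).2 _ hxI
  rw [hgbe ⟨x, hxS⟩ hgxS hxI, ← map_inv, ← map_mul] at h1
  obtain ⟨k, hk, hke⟩ := h1
  have hq1 : (k : Ω)⁻¹ * (x⁻¹ * g x) ∈ Q := (hker (k⁻¹ * (⟨x, hxS⟩⁻¹ * ⟨g x, hgxS⟩))).mp (by
    rw [map_mul, map_inv θ k, hke, inv_mul_cancel])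
  have hq2 : (k : Ω)⁻¹ * (x⁻¹ * g x) ∈ F.focalSubgroup :=
    F.focalSubgroup.mul_mem (F.focalSubgroup.inv_mem (Subgroup.mem_inf.mp hk).2) (le_focal hg hxX)
  have hq3 := hQK K₀ hK₀S (fun P' f' hf'E hf'F y hy => ⟨hE1 P' f' hf'E y hy, le_focal hf'F hy⟩)
    _ hq1 hq2
  have h4 := K.mul_mem (show (k : Ω) ∈ K from (Subgroup.mem_inf.mp hk).1) (Subgroup.mem_inf.mp hq3).1
  rw [mul_inv_cancel_left, hgf x hx] at h4
  exact h4

variable {L : Type u} [Group L] {ι : S →* L}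

/-- In a model, the elements of `O_p` in the focal subgroup lie in `K`. -/
theorem focal_model [Finite S] (w : PFunctor'.{u} p) (hS : IsPGroup p S) {E : FusionSystem S}
    (hL : F.IsModel p L ι) (hN : NGood F E (w.at S))
    (hloc : ∀ T : Sylow p L, pCore p L ⊓ commutator L = pCore p L ⊓
      (commutator ↥(Subgroup.normalizer (w.at (T : Subgroup L) : Set L))).map
        (Subgroup.normalizer (w.at (T : Subgroup L) : Set L)).subtype)
    {Q : Subgroup Ω} (hQ : F.IsNormal Q)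
    (K : Subgroup Ω) (_ : ⁅S, S⁆ ≤ K)
    (hKE : ∀ P f, IsMor E P f → IsMor F P f → ∀ x ∈ P, x⁻¹ * f x ∈ K) :
    ∀ q ∈ Q, q ∈ F.focalSubgroup → q ∈ K := by
  intro q hqQ hqf
  obtain ⟨hfin, hr, ⟨T, hT⟩, -⟩ := id hL
  have hqS := hQ.1 hqQ
  have hq1 : ι ⟨q, hqS⟩ ∈ pCore p L := by
    have hn : ((Q.subgroupOf S).map ι).Normal := ⟨fun _ ⟨a, ha, e⟩ g => by
      obtain ⟨b, hb, hbe⟩ := model_normal_of_isNormal hL hQ (g := g) (a := a) ha
      exact ⟨b, hb, by rw [hbe, e]⟩⟩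
    exact CfsgLib.Base.le_pCore (N := (Q.subgroupOf S).map ι) ((hS.to_subgroup _).map ι)
      ⟨⟨q, hqS⟩, hqQ, rfl⟩
  have hq2 : ι ⟨q, hqS⟩ ∈ commutator L := by
    have hle : F.focalSubgroup ≤ ((commutator L).comap ι).map S.subtype := by
      refine (Subgroup.closure_le _).mpr ?_
      rintro _ ⟨P, φ, x, hφ, rfl⟩
      have hf := isMor_of_mem hφ
      obtain ⟨g, hg⟩ := exists_induces hr hf
      refine ⟨⟨x, hf.le x.2⟩⁻¹ * ⟨toFun φ x, hf.mem x.2⟩, ?_, ?_⟩
      · rw [SetLike.mem_coe, Subgroup.mem_comap, map_mul, map_inv,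
          hg ⟨x, hf.le x.2⟩ ⟨_, hf.mem x.2⟩ x.2 rfl]
        have := Subgroup.commutator_mem_commutator (Subgroup.mem_top (ι ⟨x, hf.le x.2⟩)⁻¹)
          (Subgroup.mem_top g)
        rw [← commutator_def, commutatorElement_def, inv_inv] at this
        simpa [mul_assoc] using this
      · exact congrArg (fun t => (x : Ω)⁻¹ * t) (toFun_coe φ x)
    obtain ⟨a, ha, e⟩ := hle hqf
    rwa [show a = ⟨q, hqS⟩ from Subtype.ext e] at ha
  have h3 : ι ⟨q, hqS⟩ ∈ pCore p L ⊓ commutator L := ⟨hq1, hq2⟩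
  rw [hloc T] at h3
  set U := Subgroup.normalizer (w.at (T : Subgroup L) : Set L) with hU
  obtain ⟨n, hn, hne⟩ := (Subgroup.mem_inf.mp h3).2
  have hTU : (T : Subgroup L) ≤ U := fun t ht => by
    rw [hU, Subgroup.mem_normalizer_iff_map_conj_eq]
    obtain ⟨s, rfl⟩ := hT.le ht
    have h5 : normalizerIn S (w.at S) = S := mem_normalizer_of_conj_le fun a ha => by
      rw [w.img_at hS (isMor_cj F (le_refl S) ha), img_cj_of_normalizer (Subgroup.le_normalizer ha)]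
    rw [hT, ← w.map_at_eq hS hr.1]
    refine Subgroup.mem_normalizer_iff_map_conj_eq.mp (Subgroup.le_normalizer_map ι ⟨s, ?_, rfl⟩)
    exact Subgroup.mem_normalizer_iff.mpr fun a =>
      Subgroup.mem_normalizer_iff.mp (mem_normalizerIn.mp (h5.ge s.2)).2 (a : Ω)
  have h4 : n ∈ _root_.commutator ↥U ⊓ ↑(T.subtype hTU) :=
    ⟨hn, show (n : L) ∈ (T : Subgroup L) by rw [show (n : L) = _ from hne]; exact hT.ge ⟨_, rfl⟩⟩
  rw [Subgroup.commutator_inf_eq_focalSubgroup] at h4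
  have hle : Subgroup.focalSubgroup (↑(T.subtype hTU) : Subgroup U) ≤
      (((K.subgroupOf S).map ι)).comap U.subtype := by
    refine (Subgroup.closure_le _).mpr ?_
    rintro c ⟨hcT, x, hx, u, rfl⟩
    obtain ⟨a, ha⟩ := hT.le (show (x : L) ∈ (T : Subgroup L) from hx)
    obtain ⟨b, hb⟩ := hT.le ((T : Subgroup L).mul_mem
      ((T : Subgroup L).inv_mem (show (x : L) ∈ (T : Subgroup L) from hx))
      (show ((⁅x, u⁆ : U) : L) ∈ (T : Subgroup L) from hcT))
    -- `ι b = u x⁻¹ u⁻¹`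
    have hbe : ι b = (u : L) * ι a⁻¹ * (u : L)⁻¹ := by
      rw [hb, map_inv, ha]; simp [commutatorElement_def, mul_assoc]
    set V := w.at S
    set P := Subgroup.zpowers (a : Ω) with hP
    have hPS : P ≤ S := Subgroup.zpowers_le.mpr a.2
    have hu : (u : L) ∈ Subgroup.normalizer ((V.subgroupOf S).map ι : Set L) := by
      rw [w.map_at_eq hS hr.1, ← hT]; exact u.2
    have hgood : ∀ c : S, (c : Ω) ∈ P ⊔ V → (u : L) * ι c * (u : L)⁻¹ ∈ ι.range := by
      intro c hc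
      have hsup : (P.subgroupOf S) ⊔ (V.subgroupOf S) ≤
          ι.range.comap ((MulAut.conj (u : L)).toMonoidHom.comp ι) := by
        refine sup_le (fun d hd => ?_) fun d hd => ?_
        · obtain ⟨m, hm⟩ := Subgroup.mem_zpowers_iff.mp (Subgroup.mem_subgroupOf.mp hd)
          rw [show d = a ^ m from Subtype.ext (by rw [SubgroupClass.coe_zpow]; exact hm.symm)]
          refine Subgroup.zpow_mem _ ?_ m
          show (u : L) * ι a * (u : L)⁻¹ ∈ ι.range
          exact ⟨b⁻¹, by rw [map_inv, hbe, map_inv]; group⟩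
        · obtain ⟨e, -, he⟩ := ((Subgroup.mem_normalizer_iff.mp hu) (ι d)).mp ⟨d, hd, rfl⟩
          exact ⟨e, he⟩
      rw [← Subgroup.subgroupOf_sup hPS (w.at_le S)] at hsup
      exact hsup (Subgroup.mem_subgroupOf.mpr hc)
    obtain ⟨hf, hind⟩ := isMor_pullConj hr (sup_le hPS (w.at_le S)) hgood
    have hVi : img V (pullConj ι (u : L)) = V := (hf.restrict le_sup_right).img_eq_self fun y hy => by
      obtain ⟨d, hd, hde⟩ := ((Subgroup.mem_normalizer_iff.mp hu) (ι ⟨y, w.at_le S hy⟩)).mp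
        ⟨⟨y, w.at_le S hy⟩, hy, rfl⟩
      have h2 : (d : Ω) = pullConj ι (u : L) y := congrArg Subtype.val (hr.1 (hde.trans
        (hind ⟨y, w.at_le S hy⟩ ⟨_, hf.mem (Subgroup.mem_sup_right hy)⟩ (Subgroup.mem_sup_right hy)
          rfl).symm))
      rw [← h2]
      exact hd
    have hPn : P ≤ normalizerIn S V := by
      rw [mem_normalizer_of_conj_le (S := S) fun s hs => by
        rw [w.img_at hS (isMor_cj F (le_refl S) hs), img_cj_of_normalizer (Subgroup.le_normalizer hs)]]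
      exact hPS
    have hfE := hN P _ (hf.restrict le_sup_left) hPn ⟨pullConj ι (u : L), hf, fun _ _ => rfl, hVi⟩
    have haP : (a : Ω)⁻¹ ∈ P := P.inv_mem (Subgroup.mem_zpowers _)
    have hk := hKE P _ hfE (hf.restrict le_sup_left) _ haP
    have hfa : pullConj ι (u : L) (a : Ω)⁻¹ = (b : Ω) := congrArg Subtype.val
      (hr.1 ((hind a⁻¹ ⟨_, hf.mem (Subgroup.mem_sup_left haP)⟩ (Subgroup.mem_sup_left haP) rfl).trans
        hbe.symm))
    rw [inv_inv, hfa] at hk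
    refine ⟨a * b, hk, ?_⟩
    rw [map_mul, hb, ha]
    simp [commutatorElement_def]
  obtain ⟨c, hc, hce⟩ := hle h4
  rw [show U.subtype n = _ from hne] at hce
  rw [hr.1 hce] at hc
  exact hc

/-- If the functor controls transfer in the models, it does so in every saturated system. -/
theorem focal_le_of_models (w : PFunctor'.{u} p)
    (hloc : ∀ (L : Type u) [Group L] [Finite L] (T : Sylow p L),
      Subgroup.centralizer ((pCore p L : Subgroup L) : Set L) ≤ pCore p L →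
      pCore p L ⊓ commutator L = pCore p L ⊓
        (commutator ↥(Subgroup.normalizer (w.at (T : Subgroup L) : Set L))).map
          (Subgroup.normalizer (w.at (T : Subgroup L) : Set L)).subtype)
    [Finite S] (hS : IsPGroup p S) (hF : F.IsSaturated p)
    {N : FusionSystem (normalizerIn S (w.at S))} (hN : F.IsNormalizerSystem (w.at S) N) :
    N.focalSubgroup = F.focalSubgroup := by
  have hSn : normalizerIn S (w.at S) = S := mem_normalizer_of_conj_le fun s hs => by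
    rw [w.img_at hS (isMor_cj F (le_refl S) hs), img_cj_of_normalizer (Subgroup.le_normalizer hs)]
  refine le_antisymm ((Subgroup.closure_le _).mpr ?_) ?_
  · rintro _ ⟨P, φ, x, hφ, rfl⟩
    have h := le_focal (((isMor_normalizerSystem hN).mp (isMor_of_mem hφ)).1) x.2
    rwa [toFun_coe] at h
  have hK : ⁅S, S⁆ ≤ N.focalSubgroup := by
    conv_lhs => rw [← hSn]
    exact commutator_le_focal
  obtain ⟨E, hE⟩ := exists_congrSys (F := F) hK
  have hall : AllGood F E := by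
    refine good_of_models' (p := p) (Multiplicative ℤ) (fun Ω' _ S' F' E' => FocalHyp w F' E')
      ?_ ?_ ?_ ?_ _ _ Ω S F E rfl rfl hS hF isSectionFree_int ⟨N.focalSubgroup, hK,
        fun P f hf => ((hE P f).mp hf).2, fun P f hf h => (hE P f).mpr ⟨hf, h⟩,
        fun P f hf hP hg => (hE P f).mpr ⟨hf, fun x hx => ?_⟩⟩
    · intro Ω₁ _ S₁ F₁ E₁ D hsub ⟨K, h0, h1, h2, h3⟩
      refine ⟨K, h0, h1, fun P f hf => h2 P f (hsub _ _ hf), fun P f hf hP hg => ?_⟩
      obtain ⟨g, hg, hgf, hgV⟩ := hg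
      exact h3 P f (hsub _ _ hf) hP ⟨g, hsub _ _ hg, hgf, hgV⟩
    · intro Ω₁ _ S₁ T _ F₁ E₁ D E' hS₁ _ ⟨K, h0, h1, h2, _⟩ hTS hT _ hE' hsub hV
      have : Finite T := finite_of_le hTS
      refine ⟨K, (Subgroup.commutator_mono hTS hTS).trans h0,
        fun P f hf => h1 P f ((hE' P f).mp hf).1,
        fun P f hf h => (hE' P f).mpr ⟨h2 P f (hsub _ _ hf) h, hf.le, fun x hx => hf.mem hx⟩,
        hV _ (w.at_ne_bot (isPGroup_of_le hTS hS₁) hT) (w.at_le T) fun f hf hfT => ?_⟩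
      rw [w.img_at hS₁ hf, hfT]
    · intro Ω₁ _ S₁ _ F₁ E₁ Q Ω₂ _ S₂ θ Fb hS₁ hF₁ hH₁ hE₁ hQ _ hinn _ hNT hIH
      refine focalHyp_quot w hS₁ hH₁ hE₁ hQ (fun K hK₁ _ q hq hqf => ?_) hNT hIH
      refine mem_of_mem_focal hS₁ hF₁ hK₁ (hQ.1 hq) hqf fun P' f' hf' n hn => ?_
      obtain ⟨g, hg, hgf, -⟩ := (isNormal_iff.mp hQ).2 P' f' hf'
      obtain ⟨s, hs, hse⟩ := hinn g (hg.restrict le_sup_right)
      have hqn : q ^ n ∈ Q := Subgroup.zpow_mem _ hq n
      rw [← hgf _ hn, hse _ hqn]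
      refine hK₁ ?_
      have := Subgroup.commutator_mem_commutator (S₁.inv_mem (hQ.1 hqn)) hs
      simpa [commutatorElement_def, cj, mul_assoc] using this
    · intro Ω₁ _ S₁ _ F₁ E₁ hS₁ _ hH₁ L₁ _ ι₁ hL₁ _ ⟨Q, Ω₂, _, S₂, θ, Fb, hQc, hE₁, hNT, hIH⟩
      have := hL₁.1
      obtain ⟨-, -, -, -, hN₁⟩ := id hH₁
      subst hQc
      exact focalHyp_quot w hS₁ hH₁ hE₁ (isNormal_core F₁)
        (focal_model w hS₁ hL₁ hN₁ (fun T => hloc L₁ T hL₁.2.2.2) (isNormal_core F₁)) hNT hIH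
    · obtain ⟨g, hg, hgf, hgV⟩ := hg
      exact le_focal ((isMor_normalizerSystem hN).mpr
        ⟨hf, hP, fun x hx => hSn.symm ▸ hf.mem hx, g, hg, hgf, hgV⟩) hx
  refine (Subgroup.closure_le _).mpr ?_
  rintro _ ⟨P, φ, x, hφ, rfl⟩
  have h := ((hE _ _).mp (hall _ _ (isMor_of_mem hφ))).2 x x.2
  rwa [toFun_coe] at h

end CfsgLib.Fusion
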