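import Mathlib
import Cfsg.Agent.S1993
import Cfsg.Agent.Lib.Fusion.GoodFocal

/-!
# `p ≥ 5`: a fusion system whose `S`-automizer is a `p`-group has proper focal subgroup

`K^∞` controls transfer; it is normal in the normalizer system, and one passes to the factor
system modulo it.
-/

set_option autoImplicit false
set_option linter.unusedSectionVars false

namespace CfsgLib.Fusion

open Cfsg Cfsg.FusionSystem
open scoped commutatorElement

universe u

variable {p : ℕ} [hp : Fact p.Prime]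

/-- A `p`-group acting on a nontrivial finite `p`-group does not generate it by its moves. -/
theorem closure_moves_ne_top {T : Type*} [Group T] [Finite T] [Nontrivial T] (hT : IsPGroup p T)
    (A : Subgroup (MulAut T)) (hA : IsPGroup p A) :
    Subgroup.closure {y : T | ∃ α ∈ A, ∃ x : T, y = x⁻¹ * α x} ≠ ⊤ := by
  intro htop
  haveI : Finite (MulAut T) := Finite.of_injective (fun e => (e : T → T)) DFunLike.coe_injective
  let Γ := T ⋊[A.subtype] A
  have hcard : Nat.card Γ = Nat.card T * Nat.card A := SemidirectProduct.card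
  haveI : Finite Γ := Finite.of_equiv (T × A) (SemidirectProduct.equivProd).symm
  have hΓ : IsPGroup p Γ := by
    obtain ⟨a, ha⟩ := IsPGroup.iff_card.mp hT
    obtain ⟨b, hb⟩ := IsPGroup.iff_card.mp hA
    exact IsPGroup.of_card (n := a + b) (by rw [hcard, ha, hb, pow_add])
  haveI := hΓ.isNilpotent
  set T' : Subgroup Γ := (SemidirectProduct.inl : T →* Γ).range
  have hle : T' ≤ ⁅T', (⊤ : Subgroup Γ)⁆ := by
    rintro _ ⟨t, rfl⟩
    have ht : t ∈ Subgroup.comap (SemidirectProduct.inl : T →* Γ) ⁅T', (⊤ : Subgroup Γ)⁆ := by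
      refine (Subgroup.closure_le _).mpr ?_ (htop ▸ Subgroup.mem_top t)
      rintro _ ⟨α, hα, x, rfl⟩
      refine Subgroup.mem_comap.mpr ?_
      have h := Subgroup.commutator_mem_commutator (H₁ := T') (H₂ := (⊤ : Subgroup Γ))
        (show (SemidirectProduct.inl x⁻¹ : Γ) ∈ T' from ⟨_, rfl⟩)
        (Subgroup.mem_top (SemidirectProduct.inr ⟨α, hα⟩ : Γ))
      have e : (SemidirectProduct.inl (x⁻¹ * α x) : Γ) =
          ⁅(SemidirectProduct.inl x⁻¹ : Γ), (SemidirectProduct.inr ⟨α, hα⟩ : Γ)⁆ := by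
        rw [commutatorElement_def, ← map_inv SemidirectProduct.inl, inv_inv, mul_assoc, mul_assoc,
          ← mul_assoc (SemidirectProduct.inr _ : Γ), ← map_inv SemidirectProduct.inr,
          ← SemidirectProduct.inl_aut, map_mul]
        rfl
      rw [e]; exact h
    exact ht
  have hall : ∀ n, T' ≤ Subgroup.lowerCentralSeries (⊤ : Subgroup Γ) n := by
    intro n
    induction n with
    | zero => simp
    | succ n ih => exact hle.trans (Subgroup.commutator_mono ih le_rfl)
  obtain ⟨n, hn⟩ := Subgroup.nilpotent_iff_lowerCentralSeries.mp ‹Group.IsNilpotent Γ›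
  obtain ⟨t, ht⟩ := exists_ne (1 : T)
  have := hall n (show (SemidirectProduct.inl t : Γ) ∈ T' from ⟨t, rfl⟩)
  rw [hn, Subgroup.mem_bot] at this
  exact ht (SemidirectProduct.inl_injective (this.trans (map_one _).symm))

theorem exists_saturated_of_eq {Ω : Type*} [Group Ω] {S T : Subgroup Ω} (h : T = S)
    (D : FusionSystem T) (hD : D.IsSaturated p) :
    ∃ E : FusionSystem S, (∀ P f, IsMor E P f ↔ IsMor D P f) ∧ E.IsSaturated p := by
  subst h
  exact ⟨D, fun _ _ => Iff.rfl, hD⟩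

theorem kInf_local (hp5 : 5 ≤ p) (L : Type u) [Group L] [Finite L] (T : Sylow p L) :
    pCore p L ⊓ commutator L = pCore p L ⊓
      (commutator ↥(Subgroup.normalizer
        ((Cfsg.inducedFunctor Cfsg.kInfUpper (T : Subgroup L) : Subgroup L) : Set L))).map
        (Subgroup.normalizer
          ((Cfsg.inducedFunctor Cfsg.kInfUpper (T : Subgroup L) : Subgroup L) : Set L)).subtype := by
  have hc : pCore p L ≤ (T : Subgroup L) := CfsgLib.Base.pCore_le_sylow T
  rw [Subgroup.map_subtype_commutator]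
  have h := (Cfsg.Agent.S1993.result T).1 hp5
  rw [← inf_of_le_left hc, inf_assoc, h, inf_assoc]

theorem focal_lt_of_autGroup_pGroup (hp5 : 5 ≤ p) :
    ∀ (n : ℕ) (Ω : Type u) [Group Ω] (S : Subgroup Ω) [Finite S] (F : FusionSystem S),
      Nat.card S = n → IsPGroup p S → F.IsSaturated p → S ≠ ⊥ → IsPGroup p ↥(F.autGroup S) →
      F.focalSubgroup < S := by
  intro n
  induction n using Nat.strong_induction_on with
  | _ n ih =>
  intro Ω _ S _ F hn hS hF hS1 haut
  subst hn
  let w : PFunctor'.{u} p :=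
    ⟨Cfsg.kInfUpper, (CfsgLib.KInf.isCharPFunctor_kInfUpper p).1,
      (CfsgLib.KInf.isCharPFunctor_kInfUpper p).2⟩
  set W := w.at S with hWdef
  obtain ⟨N, hN⟩ := Cfsg.Agent.S5096.result F W (w.at_le S)
  have hfoc := focal_le_of_models w (fun L _ _ T _ => kInf_local hp5 L T) hS hF hN
  have hW1 : W ≠ ⊥ := w.at_ne_bot hS hS1
  have hWS : W ≤ S := w.at_le S
  have hSn : normalizerIn S W = S := mem_normalizer_of_conj_le fun s hs => by
    rw [hWdef, w.img_at hS (isMor_cj F (le_refl S) hs),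
      img_cj_of_normalizer (Subgroup.le_normalizer hs)]
  have hWf := isFullyNormalized_of_normal (F := F) hWS hSn
  have hNsat := normalizerSystem_isSaturated hS hF hWf hN
  obtain ⟨E, hE, hEsat⟩ := exists_saturated_of_eq hSn N hNsat
  have hEmem : ∀ P f, IsMor E P f ↔ IsMor F P f ∧
      ∃ g, IsMor F (P ⊔ W) g ∧ (∀ x ∈ P, g x = f x) ∧ img W g = W := fun P f => by
    rw [hE, isMor_normalizerSystem hN, hSn]
    exact ⟨fun h => ⟨h.1, h.2.2.2⟩, fun h => ⟨h.1, h.1.le, fun x hx => h.1.mem hx, h.2⟩⟩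
  have hEW : E.IsNormal W := isNormal_iff.mpr ⟨hWS, fun P f hf => by
    obtain ⟨hfF, g, hg, hgf, hgW⟩ := (hEmem P f).mp hf
    exact ⟨g, (hEmem _ g).mpr ⟨hg, g, by rwa [sup_assoc, sup_idem], fun _ _ => rfl, hgW⟩,
      hgf, hgW⟩⟩
  have hgen : ∀ {P : Subgroup Ω} {f : Ω → Ω}, IsMor N P f → ∀ x ∈ P, ∃ g,
      IsMor E (P ⊔ W) g ∧ g x = f x := fun {P f} hf x hx => by
    obtain ⟨g, hg, hgf, -⟩ := (isNormal_iff.mp hEW).2 P f ((hE P f).mpr hf)
    exact ⟨g, hg, hgf x hx⟩
  -- it is enough to bound the moves of `E`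
  suffices hK : ∃ K : Subgroup Ω, K < S ∧ ∀ P f, IsMor E P f → W ≤ P → ∀ x ∈ P, x⁻¹ * f x ∈ K by
    obtain ⟨K, hKS, hK⟩ := hK
    refine lt_of_le_of_lt ?_ hKS
    rw [← hfoc]
    refine (Subgroup.closure_le _).mpr ?_
    rintro _ ⟨P, φ, x, hφ, rfl⟩
    obtain ⟨g, hg, hge⟩ := hgen (isMor_of_mem hφ) x x.2
    have := hK _ g hg le_sup_right x (Subgroup.mem_sup_left x.2)
    rwa [hge, toFun_coe] at this
  have hAut : E.autGroup S ≤ F.autGroup S := fun α hα =>
    (autGroup_eq_set le_rfl α).mpr ((hEmem _ _).mp ((autGroup_eq_set le_rfl α).mp hα)).1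
  rcases eq_or_lt_of_le hWS with hWeq | hWlt
  · haveI : Nontrivial S := (Subgroup.nontrivial_iff_ne_bot S).mpr hS1
    refine ⟨(Subgroup.closure {y : S | ∃ α ∈ F.autGroup S, ∃ x : S, y = x⁻¹ * α x}).map S.subtype,
      lt_of_le_of_ne (Subgroup.map_subtype_le _) fun h => closure_moves_ne_top hS _ haut
        (Subgroup.map_injective S.subtype_injective (by
          rw [h, ← MonoidHom.range_eq_map, Subgroup.range_subtype])), fun P f hf hWP x hx => ?_⟩
    have hPS : P = S := le_antisymm hf.le (hWeq ▸ hWP)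
    subst hPS
    obtain ⟨α, hα, e⟩ := exists_aut hf (hf.img_eq_self fun y hy => hf.mem hy)
    exact ⟨_, Subgroup.subset_closure ⟨α, hAut hα, ⟨x, hx⟩, rfl⟩, by
      rw [← e x hx, autFun_of_mem _ hx]; rfl⟩
  · have hnor : (W.subgroupOf S).Normal := ⟨fun a ha s =>
      conj_mem_of_isNormal hEW s.2 (Subgroup.mem_subgroupOf.mp ha)⟩
    set θ := QuotientGroup.mk' (W.subgroupOf S)
    have hker : ∀ s : S, θ s = 1 ↔ (s : Ω) ∈ W := fun s =>
      (QuotientGroup.eq_one_iff s).trans Subgroup.mem_subgroupOf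
    have hrange : θ.range = ⊤ := MonoidHom.range_eq_top.mpr (QuotientGroup.mk'_surjective _)
    have hsc := isNormal_stronglyClosed hEW
    obtain ⟨Fb, hFb⟩ := exists_factorSystem hsc hker hrange
    have hpq : IsPGroup p ↥(⊤ : Subgroup (↥S ⧸ W.subgroupOf S)) :=
      (hS.to_quotient _).of_equiv Subgroup.topEquiv.symm
    have hqc : Nat.card ↥(⊤ : Subgroup (↥S ⧸ W.subgroupOf S)) < Nat.card S := by
      rw [Nat.card_congr Subgroup.topEquiv.toEquiv]
      have h1 : 1 < Nat.card ↥(W.subgroupOf S) := by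
        rw [Nat.card_congr (Subgroup.subgroupOfEquivOfLe hWS).toEquiv]
        have : Finite W := finite_of_le hWS
        exact Finite.one_lt_card_iff_nontrivial.mpr ((Subgroup.nontrivial_iff_ne_bot W).mpr hW1)
      have h2 := Subgroup.card_eq_card_quotient_mul_card_subgroup (W.subgroupOf S)
      have h3 : 0 < Nat.card (↥S ⧸ W.subgroupOf S) := Nat.card_pos
      rw [h2]
      exact lt_mul_of_one_lt_right h3 h1
    have hne : (⊤ : Subgroup (↥S ⧸ W.subgroupOf S)) ≠ ⊥ := fun h => not_le_of_gt hWlt fun x hx =>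
      (hker ⟨x, hx⟩).mp (Subgroup.mem_bot.mp (h ▸ Subgroup.mem_top _))
    have hautq : IsPGroup p ↥(Fb.autGroup (⊤ : Subgroup (↥S ⧸ W.subgroupOf S))) := by
      rintro ⟨β, hβ⟩
      have hb := (autGroup_eq_set le_rfl β).mp hβ
      obtain ⟨ψ, hψ, hψe⟩ := hb
      obtain ⟨-, φ, hφ, hind⟩ := (hFb.2.2.2 _ _).mp hψ
      have hpre : preimageAlong θ (⊤ : Subgroup (↥S ⧸ W.subgroupOf S)) = S :=
        le_antisymm (preimageAlong_le _) fun x hx => mem_preimageAlong.mpr ⟨hx, Subgroup.mem_top _⟩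
      have hm0 := isMor_of_mem hφ
      have hm : IsMor E S (toFun φ) := hm0.restrict hpre.ge
      obtain ⟨α, hα, e⟩ := exists_aut hm (hm.img_eq_self fun y hy => hm.mem hy)
      obtain ⟨k, hk⟩ := haut ⟨α, hAut hα⟩
      have hstep : ∀ s : S, (β ⟨θ s, Subgroup.mem_top _⟩ : ↥S ⧸ W.subgroupOf S) = θ (α s) :=
        fun s => by
        have hsP : (s : Ω) ∈ preimageAlong θ (⊤ : Subgroup (↥S ⧸ W.subgroupOf S)) := hpre.ge s.2
        have hval : φ ⟨s, hsP⟩ = (α s : Ω) := by
          rw [← toFun_of_mem φ hsP, ← e s s.2, autFun_of_mem _ s.2]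
        obtain ⟨hP₀, hφS, hP', hind'⟩ := hind
        have h1 := hind' ⟨s, hsP⟩
        have h2 : ψ ⟨θ s, Subgroup.mem_top _⟩ = (β ⟨θ s, Subgroup.mem_top _⟩ : _) := by
          have := hψe ⟨θ s, Subgroup.mem_top _⟩
          rw [autFun_of_mem _ (Subgroup.mem_top (θ s))] at this
          exact this
        rw [← h2]
        refine h1.trans (congrArg θ (Subtype.ext ?_))
        exact hval
      have hpow : ∀ (j : ℕ) (s : S), ((β ^ j) ⟨θ s, Subgroup.mem_top _⟩ : ↥S ⧸ W.subgroupOf S) =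
          θ ((α ^ j) s) := by
        intro j
        induction j with
        | zero => intro s; rfl
        | succ j ihj =>
          intro s
          rw [pow_succ', pow_succ', MulAut.mul_apply, MulAut.mul_apply, ← hstep]
          exact congrArg (fun z => (β z : ↥S ⧸ W.subgroupOf S)) (Subtype.ext (ihj s))
      refine ⟨k, Subtype.ext (MulEquiv.ext fun y => Subtype.ext ?_)⟩
      obtain ⟨s, hs⟩ := QuotientGroup.mk'_surjective (W.subgroupOf S) (y : ↥S ⧸ W.subgroupOf S)
      have hy : y = ⟨θ s, Subgroup.mem_top _⟩ := Subtype.ext hs.symm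
      subst hy
      show ((β ^ p ^ k) _ : ↥S ⧸ W.subgroupOf S) = θ s
      rw [hpow, show α ^ p ^ k = 1 from congrArg Subtype.val hk]
      rfl
    have h4 := ih _ hqc _ ⊤ Fb rfl hpq (factor_isSaturated hS hEsat hsc hFb) hne hautq
    refine ⟨preimageAlong θ Fb.focalSubgroup, lt_of_le_of_ne (preimageAlong_le _) fun h =>
      h4.ne (top_le_iff.mp fun y _ => ?_), fun P f hf hWP x hx => ?_⟩
    · obtain ⟨s, rfl⟩ := QuotientGroup.mk'_surjective (W.subgroupOf S) y
      exact (mem_preimageAlong.mp (h.ge s.2)).2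
    · have hpre : preimageAlong θ (imageAlong θ P) = P := by
        rw [preimage_image hker hWS hf.le, sup_eq_left.mpr hWP]
      obtain ⟨gb, hgb, hgbe⟩ := factor_push hFb hsc
        ((imageAlong_le_range _).trans hrange.le)
        (show IsMor E (preimageAlong θ (imageAlong θ P)) f by rw [hpre]; exact hf)
      have hxS : x ∈ S := hf.le hx
      have hfxS : f x ∈ S := hf.mem hx
      have hxI : θ ⟨x, hxS⟩ ∈ imageAlong θ P := ⟨⟨x, hxS⟩, hx, rfl⟩
      have h1 := le_focal hgb hxI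
      rw [hgbe ⟨x, hxS⟩ hfxS hxI, ← map_inv, ← map_mul] at h1
      exact mem_preimageAlong.mpr ⟨S.mul_mem (S.inv_mem hxS) hfxS, h1⟩

end CfsgLib.Fusion
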