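import Cfsg.Agent.Lib.Fusion.WholeGroup

/-!
The whole-group criterion checked inside one Sylow two-subgroup of the subgroup.
-/

set_option autoImplicit false
set_option linter.unusedSectionVars false

namespace CfsgLib.Fusion.WholeGroup

open Subgroup

variable {G : Type*} [Group G] [Finite G] {H : Subgroup G} {z : G}

theorem hasOther_of_conj {J : Subgroup G} {h : G} (hh : h ∈ H)
    (hJ : HasOther H z (J.map (MulAut.conj h).toMonoidHom)) : HasOther H z J := by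
  obtain ⟨k, hkH, hkJ, hkc, hk2, hknot⟩ := hJ
  have hmem : ∀ a ∈ J, h * a * h⁻¹ ∈ J.map (MulAut.conj h).toMonoidHom := fun a ha => ⟨a, ha, rfl⟩
  refine ⟨h⁻¹ * k * h, mul_mem (mul_mem (inv_mem hh) hkH) hh, fun hm => hkJ ?_, fun a ha => ?_, ?_,
    fun a ha hc => hknot _ (hmem a ha) (hc.trans (isConj_iff.2 ⟨h, by group⟩))⟩
  · have := hmem _ hm
    rwa [show h * (h⁻¹ * k * h) * h⁻¹ = k by group] at this
  · calc h⁻¹ * k * h * a = h⁻¹ * (k * (h * a * h⁻¹)) * h := by group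
      _ = h⁻¹ * (h * a * h⁻¹ * k) * h := by rw [hkc _ (hmem a ha)]
      _ = _ := by group
  · obtain ⟨a, ha, hak⟩ := hk2
    simp only [MulEquiv.toMonoidHom_eq_coe, MonoidHom.coe_coe, MulAut.conj_apply] at hak
    rw [show h⁻¹ * k * h * (h⁻¹ * k * h) = h⁻¹ * (k * k) * h by group, ← hak]
    simpa [mul_assoc] using ha

theorem oddSmall_of_conj {J : Subgroup G} {h : G} (hh : h ∈ H)
    (hJ : OddSmall H (J.map (MulAut.conj h).toMonoidHom)) : OddSmall H J := by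
  intro K hK hodd
  set J' := J.map (MulAut.conj h).toMonoidHom with hJ'
  have hcent : ∀ x, x ∈ centralizer (J : Set G) →
      h * x * h⁻¹ ∈ centralizer (J' : Set G) := by
    intro x hx
    rw [mem_centralizer_iff]
    rintro _ ⟨a, ha, rfl⟩
    simp only [MulEquiv.toMonoidHom_eq_coe, MonoidHom.coe_coe, MulAut.conj_apply]
    calc h * a * h⁻¹ * (h * x * h⁻¹) = h * (a * x) * h⁻¹ := by group
      _ = h * (x * a) * h⁻¹ := by rw [mem_centralizer_iff.1 hx a ha]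
      _ = _ := by group
  have hcent' : ∀ x, h * x * h⁻¹ ∈ centralizer (J' : Set G) → x ∈ centralizer (J : Set G) := by
    intro x hx
    rw [mem_centralizer_iff]
    intro a ha
    have e := mem_centralizer_iff.1 hx (h * a * h⁻¹) ⟨a, ha, rfl⟩
    calc a * x = h⁻¹ * (h * a * h⁻¹ * (h * x * h⁻¹)) * h := by group
      _ = h⁻¹ * (h * x * h⁻¹ * (h * a * h⁻¹)) * h := by rw [e]
      _ = x * a := by group
  have hHc : ∀ x, x ∈ H ↔ h * x * h⁻¹ ∈ H := fun x =>
    ⟨fun hx => mul_mem (mul_mem hh hx) (inv_mem hh), fun hx => by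
      have := mul_mem (mul_mem (inv_mem hh) hx) hh
      rwa [show h⁻¹ * (h * x * h⁻¹) * h = x by group] at this⟩
  have hJc : ∀ x, x ∈ J ↔ h * x * h⁻¹ ∈ J' := fun x =>
    ⟨fun hx => ⟨x, hx, rfl⟩, fun ⟨a, ha, e⟩ => by
      simp only [MulEquiv.toMonoidHom_eq_coe, MonoidHom.coe_coe, MulAut.conj_apply] at e
      rwa [← mul_left_cancel (mul_right_cancel e)]⟩
  have h1 : Nat.card (K.map (MulAut.conj h).toMonoidHom) = Nat.card K :=
    card_map_of_injective (MulAut.conj h).injective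
  have h2 : Nat.card J' = Nat.card J := card_map_of_injective (MulAut.conj h).injective
  have h3 : Nat.card {x : G // x ∈ H ⊓ centralizer (J : Set G) ∧ x ∉ J ∧ x * x ∈ J} =
      Nat.card {x : G // x ∈ H ⊓ centralizer (J' : Set G) ∧ x ∉ J' ∧ x * x ∈ J'} := by
    refine Nat.card_congr ((MulAut.conj h).toEquiv.subtypeEquiv fun x => ?_)
    simp only [MulEquiv.toEquiv_eq_coe, MulEquiv.coe_toEquiv, MulAut.conj_apply, mem_inf]
    rw [show h * x * h⁻¹ * (h * x * h⁻¹) = h * (x * x) * h⁻¹ by group, ← hJc, ← hJc, ← hHc]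
    exact ⟨fun e => ⟨⟨e.1.1, hcent x e.1.2⟩, e.2⟩, fun e => ⟨⟨e.1.1, hcent' x e.1.2⟩, e.2⟩⟩
  have := hJ (K.map (MulAut.conj h).toMonoidHom) (by
    rintro _ ⟨x, hx, rfl⟩
    exact ⟨(hHc x).1 (hK hx).1, hcent x (hK hx).2⟩) (h1 ▸ hodd)
  rw [h3, ← h1, ← h2]
  exact this

/-- It suffices to look inside a subgroup `S` into which the two-subgroups of `H` are conjugate
and in which `z` is central. -/
theorem eq_top_of_sylow (hsq : z * z = 1) (hcent : centralizer ({z} : Set G) ≤ H)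
    (hfus : ∀ x ∈ H, IsConj z x → ∃ h ∈ H, h * z * h⁻¹ = x) {S : Subgroup G}
    (hzS : ∀ a ∈ S, z * a = a * z)
    (hS : ∀ J : Subgroup G, J ≤ H → IsPGroup 2 J →
      ∃ h ∈ H, ∀ a ∈ J, h * a * h⁻¹ ∈ S)
    (hcrit : ∀ J : Subgroup G, J ≤ S → J ≤ H → IsPGroup 2 J →
      (∀ c ∈ J, ∀ d ∈ J, c * d = d * c) → Free z J → HasOther H z J ∨ OddSmall H J) :
    H = ⊤ := by
  have hzH : z ∈ H := hcent (mem_centralizer_singleton_iff.2 rfl)
  refine eq_top ⟨hsq, hzH, hcent, hfus, fun J hJH hJ _ => ?_⟩ fun J hJH hJ hab hfree => ?_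
  · obtain ⟨h, hh, hJS⟩ := hS J hJH hJ
    refine ⟨h⁻¹ * z * h, mul_mem (mul_mem (inv_mem hh) hzH) hh, isConj_iff.2 ⟨h⁻¹, by group⟩,
      fun a ha => ?_⟩
    calc h⁻¹ * z * h * a = h⁻¹ * (z * (h * a * h⁻¹)) * h := by group
      _ = h⁻¹ * (h * a * h⁻¹ * z) * h := by rw [hzS _ (hJS a ha)]
      _ = _ := by group
  · obtain ⟨h, hh, hJS⟩ := hS J hJH hJ
    set J' := J.map (MulAut.conj h).toMonoidHom with hJ'
    have h' := hcrit J' (by rintro _ ⟨a, ha, rfl⟩; exact hJS a ha)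
      (by rintro _ ⟨a, ha, rfl⟩; exact mul_mem (mul_mem hh (hJH ha)) (inv_mem hh))
      (hJ.map _) (by
        rintro _ ⟨a, ha, rfl⟩ _ ⟨b, hb, rfl⟩
        rw [← map_mul, ← map_mul, hab a ha b hb])
      (by
        rintro _ ⟨a, ha, rfl⟩ hc
        exact hfree a ha (hc.trans (isConj_iff.2 ⟨h⁻¹, by simp [MulAut.conj_apply, mul_assoc]⟩)))
    exact h'.imp (hasOther_of_conj hh) (oddSmall_of_conj hh)

end CfsgLib.Fusion.WholeGroup
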