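import Mathlib
import Cfsg.Agent.Lib.Fusion.Criteria
import Cfsg.Agent.Lib.Fusion.Hyperfocal
import Cfsg.Agent.Lib.PGroups.Critical
import Cfsg.Agent.Lib.PGroups.Commutator
import Cfsg.Agent.Lib.CoprimeSmall.SmallOrder

/-! Elements of order `p` (and `4`) and the normality of `S`. -/
set_option autoImplicit false

universe u

namespace CfsgLib.Fusion

open Cfsg Cfsg.FusionSystem
open scoped commutatorElement

/-- `x ^ p = 1`, or `p = 2` and `x ^ 4 = 1`. -/
def Small {G : Type*} [Group G] (p : ℕ) (x : G) : Prop := x ^ p = 1 ∨ (p = 2 ∧ x ^ 4 = 1)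

variable {p : ℕ} [hp : Fact p.Prime]

theorem mulAut_eq_one_of_small {H : Type u} [Group H] [Finite H] (hH : IsPGroup p H) {β : MulAut H}
    (hβ : (orderOf β).Coprime p) (hfix : ∀ x, Small p x → β x = x) : β = 1 := by
  classical
  have : Finite (MulAut H) := Finite.of_injective (fun α => (⇑α : H → H)) DFunLike.coe_injective
  let φ : MulAut H →* MulAut H := MonoidHom.id _
  have : Finite (H ⋊[φ] MulAut H) := Finite.of_equiv _ SemidirectProduct.equivProd.symm
  set b : H ⋊[φ] MulAut H := SemidirectProduct.inr β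
  have hb : orderOf b = orderOf β :=
    orderOf_injective SemidirectProduct.inr SemidirectProduct.inr_injective β
  have hkey : ∀ h : H, b * SemidirectProduct.inl h * b⁻¹ = SemidirectProduct.inl (β h) := fun h =>
    by rw [← map_inv]; exact (SemidirectProduct.inl_aut (φ := φ) β h).symm
  set U : Subgroup (H ⋊[φ] MulAut H) := (SemidirectProduct.inl : H →* H ⋊[φ] MulAut H).range with hUdef
  have hU : IsPGroup p U := hH.of_surjective _ (MonoidHom.rangeRestrict_surjective _)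
  have hbU : b ∈ Subgroup.normalizer (U : Set (H ⋊[φ] MulAut H)) := by
    rw [Subgroup.mem_normalizer_iff]
    refine fun y => ⟨?_, fun hy => ?_⟩
    · rintro ⟨h, rfl⟩
      exact ⟨β h, (hkey h).symm⟩
    · obtain ⟨h, hh⟩ := hy
      refine ⟨β.symm h, ?_⟩
      have h1 := hkey (β.symm h)
      rw [MulEquiv.apply_symm_apply, hh] at h1
      exact mul_left_cancel (mul_right_cancel h1)
  have hfix' : ∀ a ∈ U, (a ^ p = 1 ∨ (p = 2 ∧ a ^ 4 = 1)) → Commute b a := by
    rintro _ ⟨h, rfl⟩ hs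
    have hh : Small p h := hs.imp
      (fun e => SemidirectProduct.inl_injective (by rw [map_pow, e, map_one]))
      (fun ⟨e, e'⟩ => ⟨e, SemidirectProduct.inl_injective (by rw [map_pow, e', map_one])⟩)
    show b * _ = _ * b
    rw [← mul_inv_eq_iff_eq_mul, hkey, hfix h hh]
  refine MulEquiv.ext fun h => ?_
  have h1 := CfsgLib.CoprimeSmall.commute_of_small_order
    ((hp.out.coprime_iff_not_dvd).mp (hb.symm ▸ hβ).symm) U hU hbU hfix' _ ⟨h, rfl⟩
  refine SemidirectProduct.inl_injective (φ := φ) ?_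
  show SemidirectProduct.inl (β h) = SemidirectProduct.inl h
  rw [← hkey, h1.eq, mul_inv_cancel_right]

/-- A characteristic subgroup of exponent `p` (or `4`) detecting automorphisms of order prime to `p`. -/
theorem exists_smallCritical {H : Type u} [Group H] [Finite H] (hH : IsPGroup p H) :
    ∃ D : Subgroup H, D.Characteristic ∧ (∀ x ∈ D, Small p x) ∧
      ∀ β : MulAut H, (orderOf β).Coprime p → (∀ x ∈ D, β x = x) → β = 1 := by
  classical
  obtain ⟨C, hCc, hfr, hcomm, hcen⟩ := CfsgLib.PGroups.exists_critical hH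
  have hCp : IsPGroup p C := hH.to_subgroup C
  have hcc : ∀ a b : C, ⁅a, b⁆ ∈ Subgroup.center C := fun a b => by
    rw [Subgroup.mem_center_iff]
    intro g
    have h1 := (hcomm (Subgroup.commutator_mem_commutator a.2 (Subgroup.mem_top (b : H)))).2 g g.2
    exact Subtype.ext (by simpa [commutatorElement_def] using h1)
  have hpc : ∀ a : C, a ^ p ∈ Subgroup.center C := fun a => by
    rw [Subgroup.mem_center_iff]
    intro g
    exact Subtype.ext (hfr ⟨_, CfsgLib.PGroups.pow_mem_frattini hCp a, rfl⟩ g g.2)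
  have hcp : ∀ a b : C, ⁅a, b⁆ ^ p = 1 := fun a b => by
    rw [← CfsgLib.PGroups.commutator_pow_right_of_central (hcc a b) p,
      commutatorElement_eq_one_iff_commute]
    exact Subgroup.mem_center_iff.mp (hpc b) a
  have hmul : ∀ a b : C, Small p a → Small p b → Small p (a * b) := by
    intro a b ha hb
    have h := CfsgLib.PGroups.mul_pow_of_central (hcc b a) p
    rcases hp.out.eq_two_or_odd' with h2 | hodd
    · subst h2
      rw [show Nat.choose 2 2 = 1 from rfl, pow_one] at h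
      have ha4 : a ^ 4 = 1 := ha.elim (fun e => by rw [show (4 : ℕ) = 2 * 2 from rfl, pow_mul, e, one_pow]) (·.2)
      have hb4 : b ^ 4 = 1 := hb.elim (fun e => by rw [show (4 : ℕ) = 2 * 2 from rfl, pow_mul, e, one_pow]) (·.2)
      refine Or.inr ⟨rfl, ?_⟩
      have hc1 : Commute (a ^ 2) (b ^ 2) := Subgroup.mem_center_iff.mp (hpc b) _
      have hc2 : Commute (a ^ 2 * b ^ 2) ⁅b, a⁆ := Subgroup.mem_center_iff.mp (hcc b a) _
      rw [show (4 : ℕ) = 2 * 2 from rfl, pow_mul, h, hc2.mul_pow, hc1.mul_pow, ← pow_mul, ← pow_mul,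
        show 2 * 2 = 4 from rfl, ha4, hb4, hcp, mul_one, one_mul]
    · have hne : p ≠ 2 := fun e => by rw [e] at hodd; exact absurd hodd (by decide)
      have ha' : a ^ p = 1 := ha.resolve_right fun e => hne e.1
      have hb' : b ^ p = 1 := hb.resolve_right fun e => hne e.1
      refine Or.inl ?_
      obtain ⟨k, hk⟩ : p ∣ Nat.choose p 2 := hp.out.dvd_choose_self two_ne_zero
        (lt_of_le_of_ne hp.out.two_le (Ne.symm hne))
      rw [h, ha', hb', hk, pow_mul, hcp, one_pow, mul_one, mul_one]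
  let D : Subgroup H :=
    { carrier := {x | x ∈ C ∧ Small p x}
      one_mem' := ⟨C.one_mem, Or.inl (one_pow _)⟩
      mul_mem' := fun {a b} ha hb => ⟨C.mul_mem ha.1 hb.1,
        (hmul ⟨a, ha.1⟩ ⟨b, hb.1⟩ (ha.2.imp (fun e => Subtype.ext e) (fun e => ⟨e.1, Subtype.ext e.2⟩))
          (hb.2.imp (fun e => Subtype.ext e) (fun e => ⟨e.1, Subtype.ext e.2⟩))).imp
          (fun e => congrArg Subtype.val e) (fun e => ⟨e.1, congrArg Subtype.val e.2⟩)⟩
      inv_mem' := fun {a} ha => ⟨C.inv_mem ha.1, ha.2.imp (fun e => by rw [inv_pow, e, inv_one])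
        (fun e => ⟨e.1, by rw [inv_pow, e.2, inv_one]⟩)⟩ }
  refine ⟨D, ?_, fun x hx => hx.2, fun β hβ hfix => ?_⟩
  · rw [Subgroup.characteristic_iff_map_le]
    rintro φ _ ⟨x, ⟨hxC, hxs⟩, rfl⟩
    refine ⟨(Subgroup.characteristic_iff_map_eq.mp hCc φ).le ⟨x, hxC, rfl⟩, ?_⟩
    exact hxs.imp (fun e => by rw [← map_pow, e, map_one]) (fun e => ⟨e.1, by rw [← map_pow, e.2, map_one]⟩)
  have hβC : ∀ x ∈ C, β x ∈ C := fun x hx =>
    (Subgroup.characteristic_iff_map_eq.mp hCc β).le ⟨x, hx, rfl⟩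
  let βC : MulAut C := (β.subgroupMap C).trans
    (MulEquiv.subgroupCongr (Subgroup.characteristic_iff_map_eq.mp hCc β))
  have hval : ∀ c : C, ((βC c : C) : H) = β c := fun c => rfl
  have hdvd : orderOf βC ∣ orderOf β := by
    refine orderOf_dvd_of_pow_eq_one (MulEquiv.ext fun c => Subtype.ext ?_)
    have : ∀ n : ℕ, (((βC ^ n) c : C) : H) = (β ^ n) c := fun n => by
      induction n with
      | zero => rfl
      | succ n ih => rw [pow_succ', pow_succ', MulAut.mul_apply, MulAut.mul_apply, hval, ih]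
    rw [this, pow_orderOf_eq_one]
    rfl
  have h1 := mulAut_eq_one_of_small hCp (β := βC) (Nat.Coprime.coprime_dvd_left hdvd hβ)
    fun c hc => Subtype.ext (hfix c ⟨c.2, hc.imp (fun e => congrArg Subtype.val e)
      (fun e => ⟨e.1, congrArg Subtype.val e.2⟩)⟩)
  have hfixC : ∀ c ∈ C, β c = c := fun c hc => by
    have := hval ⟨c, hc⟩
    rw [h1] at this
    exact this.symm
  refine MulEquiv.ext fun x => ?_
  show β x = x
  have hd : ∀ c ∈ C, c * (x⁻¹ * β x) = (x⁻¹ * β x) * c := by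
    intro c hc
    have h2 : x * c * x⁻¹ ∈ C := Subgroup.Normal.conj_mem inferInstance c hc x
    have h3 := hfixC _ h2
    rw [map_mul, map_mul, map_inv, hfixC c hc] at h3
    calc c * (x⁻¹ * β x) = x⁻¹ * (x * c * x⁻¹) * β x := by group
      _ = x⁻¹ * (β x * c * (β x)⁻¹) * β x := by rw [h3]
      _ = _ := by group
  have hy : x⁻¹ * β x ∈ C := hcen fun c hc => hd c hc
  have hfy := hfixC _ hy
  have hpow : ∀ n : ℕ, (β ^ n) x = x * (x⁻¹ * β x) ^ n := by
    intro n
    induction n with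
    | zero => simp
    | succ n ih => rw [pow_succ', MulAut.mul_apply, ih, map_mul, map_pow, hfy, pow_succ', ← mul_assoc,
        ← mul_assoc, mul_inv_cancel, one_mul]
  have h4 := hpow (orderOf β)
  rw [pow_orderOf_eq_one, MulAut.one_apply, left_eq_mul] at h4
  obtain ⟨k, hk⟩ := hH (x⁻¹ * β x)
  have h5 : x⁻¹ * β x = 1 := orderOf_eq_one_iff.mp (Nat.eq_one_of_dvd_coprimes (hβ.pow_right k)
    (orderOf_dvd_of_pow_eq_one h4) (orderOf_dvd_of_pow_eq_one hk))
  exact (inv_mul_eq_one.mp h5).symm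

variable {Ω : Type u} [Group Ω] {S P D : Subgroup Ω} {F : FusionSystem S}

/-- An automorphism of order prime to `p` stabilising a series through `D` fixes `D`. -/
theorem fix_of_stabilizing [Finite S] (hS : IsPGroup p S) (hP : P ≤ S) (hD : D ≤ P) {β : MulAut P}
    (hβ : (orderOf β).Coprime p) (n : ℕ) (W : ℕ → Subgroup Ω) (h0 : D ⊓ W 0 = ⊥) (htop : D ≤ W n)
    (hinv : ∀ x ∈ D, autFun β x ∈ D)
    (h : ∀ i < n, ∀ x ∈ D, x ∈ W (i + 1) → x⁻¹ * autFun β x ∈ W i) :
    ∀ x ∈ D, autFun β x = x := by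
  suffices ∀ i ≤ n, ∀ x ∈ D, x ∈ W i → autFun β x = x from fun x hx => this n le_rfl x hx (htop hx)
  intro i
  induction i with
  | zero =>
    intro _ x hx hx0
    have h1 : x ∈ D ⊓ W 0 := ⟨hx, hx0⟩
    rw [h0, Subgroup.mem_bot] at h1
    subst h1
    rw [autFun_of_mem β P.one_mem]
    exact congrArg Subtype.val (map_one β)
  | succ i ih =>
    intro hi x hx hxW
    set c := x⁻¹ * autFun β x with hc
    have hcD : c ∈ D := D.mul_mem (D.inv_mem hx) (hinv x hx)
    have hcf : autFun β c = c := ih (Nat.le_of_succ_le hi) c hcD (h i hi x hx hxW)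
    have hck : ∀ k : ℕ, autFun β (c ^ k) = c ^ k := by
      intro k
      induction k with
      | zero =>
        rw [pow_zero, autFun_of_mem β P.one_mem]
        exact congrArg Subtype.val (map_one β)
      | succ k ihk => rw [pow_succ, autFun_map_mul β (P.pow_mem (hD hcD) k) (hD hcD), ihk, hcf]
    have hpow : ∀ m : ℕ, autFun (β ^ m) x = x * c ^ m := by
      intro m
      induction m with
      | zero => rw [pow_zero, pow_zero, autFun_one (hD hx), mul_one]
      | succ m ihm =>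
        rw [pow_succ' β, autFun_mul _ _ (hD hx), ihm,
          autFun_map_mul β (hD hx) (P.pow_mem (hD hcD) m), hck, pow_succ' c, ← mul_assoc, hc,
          mul_inv_cancel_left]
    have h1 := hpow (orderOf β)
    rw [pow_orderOf_eq_one, autFun_one (hD hx), left_eq_mul] at h1
    obtain ⟨k, hk⟩ := hS ⟨c, hP (hD hcD)⟩
    have h2 : c = 1 := orderOf_eq_one_iff.mp (Nat.eq_one_of_dvd_coprimes (hβ.pow_right k)
      (orderOf_dvd_of_pow_eq_one h1) (orderOf_dvd_of_pow_eq_one (congrArg Subtype.val hk)))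
    exact (inv_mul_eq_one.mp (hc.symm.trans h2)).symm

/-- A centric radical subgroup absorbs the elements stabilising an invariant series of a subgroup
on which its automorphisms of order prime to `p` act faithfully. -/
theorem mem_of_stabilizing_small [Finite S] (hS : IsPGroup p S) (hc : F.IsCentric P) (hr : F.IsRadical p P)
    (hD : D ≤ P) (hDinv : ∀ α ∈ F.autGroup P, ∀ x ∈ D, autFun α x ∈ D)
    (hfaith : ∀ α ∈ F.autGroup P, (orderOf α).Coprime p → (∀ x ∈ D, autFun α x = x) → α = 1)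
    (n : ℕ) (W : ℕ → Subgroup Ω)
    (hW : ∀ α ∈ F.autGroup P, ∀ i, ∀ x ∈ D, x ∈ W i → autFun α x ∈ W i)
    (h0 : D ⊓ W 0 = ⊥) (htop : D ≤ W n) {g : Ω} (hg : g ∈ normalizerIn S P)
    (h : ∀ i < n, ∀ x ∈ D, x ∈ W (i + 1) → x⁻¹ * cj g x ∈ W i) : g ∈ P := by
  have hP := hc.1
  have := finite_mulAut (P := P) hP
  have hW' : ∀ α ∈ F.autGroup P, ∀ i, ∀ x ∈ P, x ∈ D ⊓ W i → autFun α x ∈ D ⊓ W i :=
    fun α hα i x _ hx => ⟨hDinv α hα x hx.1, hW α hα i x hx.1 hx.2⟩
  let K := seriesStab (F.autGroup P) n (fun i => D ⊓ W i) hW'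
  have hK1 : ∀ β ∈ K, (orderOf β).Coprime p → β = 1 := fun β hβ hcop =>
    hfaith β hβ.1 hcop (fix_of_stabilizing hS hP hD hcop n W h0 htop (hDinv β hβ.1)
      fun i hi x hx hxW => (hβ.2 i hi x (hD hx) ⟨hx, hxW⟩).2)
  have hKp : IsPGroup p K := by
    rintro ⟨α, hα⟩
    obtain ⟨a, c, hc', hn'⟩ := Nat.exists_eq_pow_mul_and_not_dvd (orderOf_pos α).ne' p hp.1.ne_one
    refine ⟨a, Subtype.ext (hK1 _ (K.pow_mem hα _) ?_)⟩
    show (orderOf (α ^ p ^ a)).Coprime p
    rw [orderOf_pow_of_dvd (pow_ne_zero a hp.1.ne_zero) (hn' ▸ dvd_mul_right _ _), hn',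
      Nat.mul_div_cancel_left _ (pow_pos hp.1.pos a)]
    exact (Nat.Coprime.symm ((hp.1.coprime_iff_not_dvd).mpr hc'))
  have hKI : K ≤ Inn P :=
    le_inn_of_radical hr (fun α hα => hα.1) hKp fun a ha k hk => seriesStab_conj ha hk
  obtain ⟨α, hα, e⟩ := exists_autInducedBy (mem_normalizerIn.mp hg).1 (mem_normalizerIn.mp hg).2
  have hαA := autInducedBy_le F hP hα
  have hαK : α ∈ K := ⟨hαA, fun i hi x hx hxW =>
    ⟨D.mul_mem (D.inv_mem hxW.1) (hDinv α hαA x hxW.1), e x hx ▸ h i hi x hxW.1 hxW.2⟩⟩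
  exact mem_of_cj_inn hP (centric_centralizer_le hc) (mem_normalizerIn.mp hg).1 (hKI hαK) e

/-- A small invariant subgroup inside `V` detecting the automorphisms of order prime to `p`. -/
theorem exists_small_detecting [Finite S] (hS : IsPGroup p S) (hP : P ≤ S) {V : Subgroup Ω}
    (hV : ∀ P' f, IsMor F P' f → ∀ x ∈ P', x ∈ V → f x ∈ V)
    (hyp : ∀ α ∈ F.autGroup P, (orderOf α).Coprime p → ∀ x ∈ P, x⁻¹ * autFun α x ∈ V) :
    ∃ D : Subgroup Ω, D ≤ P ⊓ V ∧ (∀ x ∈ D, Small p x) ∧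
      (∀ α ∈ F.autGroup P, ∀ x ∈ D, autFun α x ∈ D) ∧
      ∀ α ∈ F.autGroup P, (orderOf α).Coprime p → (∀ x ∈ D, autFun α x = x) → α = 1 := by
  set H := P ⊓ V with hH
  have hHS : H ≤ S := inf_le_left.trans hP
  have : Finite H := finite_of_le hHS
  obtain ⟨D₀, hchar, hsm, hfaith⟩ := exists_smallCritical (isPGroup_of_le hHS hS)
  have hHinv : ∀ α ∈ F.autGroup P, ∀ x ∈ H, autFun α x ∈ H := fun α hα x hx =>
    ⟨autFun_mem α hx.1, hV P _ (isMor_autFun hP hα) x hx.1 hx.2⟩
  -- restriction of automorphisms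
  have hres : ∀ α ∈ F.autGroup P, ∃ β : MulAut H, ∀ x ∈ H, autFun β x = autFun α x := by
    intro α hα
    have hm : IsMor F H (autFun α) := (isMor_autFun hP hα).restrict inf_le_left
    obtain ⟨β, -, hβ⟩ := exists_aut hm (hm.img_eq_self (hHinv α hα))
    exact ⟨β, hβ⟩
  refine ⟨D₀.map H.subtype, Subgroup.map_subtype_le _, ?_, ?_, ?_⟩
  · rintro _ ⟨x, hx, rfl⟩
    exact (hsm x hx).imp (fun e => by rw [← map_pow, e, map_one])
      (fun e => ⟨e.1, by rw [← map_pow, e.2, map_one]⟩)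
  · rintro α hα _ ⟨x, hx, rfl⟩
    obtain ⟨β, hβ⟩ := hres α hα
    refine ⟨β x, (Subgroup.characteristic_iff_map_eq.mp hchar β).le ⟨x, hx, rfl⟩, ?_⟩
    show ((β x : H) : Ω) = autFun α x
    rw [← hβ x x.2, autFun_of_mem β x.2]
  · intro α hα hcop hfix
    obtain ⟨β, hβ⟩ := hres α hα
    have hdvd : orderOf β ∣ orderOf α := by
      have hn : ∀ n : ℕ, ∀ x ∈ H, autFun (β ^ n) x = autFun (α ^ n) x := by
        intro n
        induction n with
        | zero => intro x hx; rw [pow_zero, pow_zero, autFun_one hx, autFun_one hx.1]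
        | succ n ih =>
          intro x hx
          rw [pow_succ', pow_succ', autFun_mul _ _ hx, autFun_mul _ _ hx.1, ih x hx,
            hβ _ (ih x hx ▸ autFun_mem _ hx)]
      refine orderOf_dvd_of_pow_eq_one (autFun_inj fun x hx => ?_)
      rw [hn _ x hx, pow_orderOf_eq_one, autFun_one hx.1, autFun_one hx]
    have hβ1 : β = 1 := hfaith β (Nat.Coprime.coprime_dvd_left hdvd hcop) fun x hx => Subtype.ext (by
      rw [← autFun_of_mem β x.2, hβ x x.2]
      exact hfix x ⟨x, hx, rfl⟩)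
    have hHfix : ∀ x ∈ H, autFun α x = x := fun x hx => by
      rw [← hβ x hx, hβ1, autFun_one hx]
    refine autFun_inj fun x hx => ?_
    rw [autFun_one hx]
    set c := x⁻¹ * autFun α x with hc
    have hcH : c ∈ H := ⟨P.mul_mem (P.inv_mem hx) (autFun_mem α hx), hyp α hα hcop x hx⟩
    have hpow : ∀ m : ℕ, autFun (α ^ m) x = x * c ^ m := by
      intro m
      induction m with
      | zero => rw [pow_zero, pow_zero, autFun_one hx, mul_one]
      | succ m ihm =>
        rw [pow_succ' α, autFun_mul _ _ hx, ihm, autFun_map_mul α hx (P.pow_mem hcH.1 m),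
          hHfix _ (H.pow_mem hcH m), pow_succ' c, ← mul_assoc, hc, mul_inv_cancel_left]
    have h1 := hpow (orderOf α)
    rw [pow_orderOf_eq_one, autFun_one hx, left_eq_mul] at h1
    obtain ⟨k, hk⟩ := hS ⟨c, hHS hcH⟩
    have h2 : c = 1 := orderOf_eq_one_iff.mp (Nat.eq_one_of_dvd_coprimes (hcop.pow_right k)
      (orderOf_dvd_of_pow_eq_one h1) (orderOf_dvd_of_pow_eq_one (congrArg Subtype.val hk)))
    exact (inv_mul_eq_one.mp (hc.symm.trans h2)).symm

/-- The upper central series of `S`, inside `Ω`. -/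
def ucs (S : Subgroup Ω) (i : ℕ) : Subgroup Ω := (Subgroup.upperCentralSeries S i).map S.subtype

theorem ucs_aut {β : MulAut S} {x : Ω} {i : ℕ} (hx : x ∈ ucs S i) : autFun β x ∈ ucs S i := by
  obtain ⟨y, hy, rfl⟩ := hx
  refine ⟨β y, (Subgroup.characteristic_iff_map_eq.mp (inferInstance :
    (Subgroup.upperCentralSeries S i).Characteristic) β).le ⟨y, hy, rfl⟩, ?_⟩
  exact (autFun_of_mem β y.2).symm

omit hp in
theorem ucs_step {x g : Ω} {i : ℕ} (hx : x ∈ ucs S (i + 1)) (hg : g ∈ S) :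
    x⁻¹ * cj g x ∈ ucs S i := by
  obtain ⟨y, hy, rfl⟩ := hx
  have h := (Subgroup.mem_upperCentralSeries_succ_iff).mp ((Subgroup.upperCentralSeries S (i + 1)).inv_mem hy) ⟨g, hg⟩
  refine ⟨_, h, ?_⟩
  simp [cj, mul_assoc, commutatorElement_def]

omit hp in
theorem ucs_zero : ucs S 0 = ⊥ := by rw [ucs, Subgroup.upperCentralSeries_zero, Subgroup.map_bot]

theorem exists_ucs_eq_top [Finite S] (hS : IsPGroup p S) : ∃ n, ucs S n = S := by
  have := hS.isNilpotent
  obtain ⟨n, hn⟩ := this.nilpotent'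
  exact ⟨n, by rw [ucs, hn, ← MonoidHom.range_eq_map, Subgroup.range_subtype]⟩

end CfsgLib.Fusion

namespace CfsgLib.Fusion

open Cfsg Cfsg.FusionSystem

variable {p : ℕ} [hp : Fact p.Prime] {Ω : Type*} [Group Ω] {S P : Subgroup Ω} {F : FusionSystem S}

/-- If the maps of the small elements of `V` respect the upper central series of `S`, `S` is normal. -/
theorem isNormal_self_of_small [Finite S] (hS : IsPGroup p S) (hF : F.IsSaturated p) {V : Subgroup Ω}
    (hV : ∀ P' f, IsMor F P' f → ∀ x ∈ P', x ∈ V → f x ∈ V)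
    (hyp : ∀ P, P ≤ S → ∀ α ∈ F.autGroup P, (orderOf α).Coprime p → ∀ x ∈ P, x⁻¹ * autFun α x ∈ V)
    (n : ℕ) (W : ℕ → Subgroup Ω) (h0 : W 0 = ⊥) (htop : ∀ x ∈ S, x ∈ V → Small p x → x ∈ W n)
    (hW : ∀ P' f, IsMor F P' f → ∀ i, ∀ x ∈ P', x ∈ V → Small p x → x ∈ W i → f x ∈ W i)
    (hstep : ∀ i < n, ∀ x ∈ W (i + 1), x ∈ V → Small p x → ∀ g ∈ S, Small p (x⁻¹ * cj g x) →
      x⁻¹ * cj g x ∈ V → x⁻¹ * cj g x ∈ W i) :
    F.IsNormal S := by
  refine isNormal_of_stronglyClosed hS hF (stronglyClosed_iff.mpr ⟨le_rfl, fun P f hf x hx _ => hf.mem hx⟩)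
    fun P hc hr => ?_
  by_contra hSP
  have hlt : P < S := lt_of_le_not_ge hc.1 hSP
  obtain ⟨g, hg, hgP⟩ := SetLike.exists_of_lt (normalizerIn_gt hS hlt)
  obtain ⟨D, hDle, hsm, hDinv, hfaith⟩ := exists_small_detecting (F := F) hS hc.1 hV (hyp P hc.1)
  refine hgP (mem_of_stabilizing_small hS hc hr (hDle.trans inf_le_left) hDinv hfaith n W
    (fun α hα i x hx hxW => hW P _ (isMor_autFun hc.1 hα) i x (hDle hx).1 (hDle hx).2 (hsm x hx) hxW)
    (by rw [h0, inf_bot_eq]) (fun x hx => htop x (hc.1 (hDle hx).1) (hDle hx).2 (hsm x hx)) hg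
    fun i hi x hx hxW => ?_)
  have hm : cj g x ∈ D := by
    obtain ⟨α, hα, e⟩ := exists_autInducedBy (mem_normalizerIn.mp hg).1 (mem_normalizerIn.mp hg).2
    rw [← e x (hDle hx).1]
    exact hDinv α (autInducedBy_le F hc.1 hα) x hx
  have hd : x⁻¹ * cj g x ∈ D := D.mul_mem (D.inv_mem hx) hm
  exact hstep i hi x hxW (hDle hx).2 (hsm x hx) g (mem_normalizerIn.mp hg).1 (hsm _ hd) (hDle hd).2

theorem small_zpowers {x : Ω} (hx : Small p x) (h1 : x ≠ 1) :
    IsCyclic ↥(Subgroup.zpowers x) ∧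
      (Nat.card ↥(Subgroup.zpowers x) = p ∨ Nat.card ↥(Subgroup.zpowers x) = 4) := by
  refine ⟨Subgroup.isCyclic_zpowers x, ?_⟩
  rw [Nat.card_zpowers]
  rcases hx with h | ⟨rfl, h⟩
  · exact Or.inl (orderOf_eq_prime h h1)
  · obtain ⟨k, hk, hk'⟩ := (Nat.dvd_prime_pow Nat.prime_two).mp
      (orderOf_dvd_of_pow_eq_one (show x ^ (2 ^ 2) = 1 by norm_num; exact h))
    interval_cases k
    · exact absurd (orderOf_eq_one_iff.mp (hk'.trans (pow_zero 2))) h1
    · exact Or.inl (by rw [hk', pow_one])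
    · exact Or.inr (by rw [hk']; norm_num)

end CfsgLib.Fusion
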