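import Mathlib
import Cfsg.Agent.Lib.Fusion.Criteria
import Cfsg.Agent.Lib.Fusion.SmallElements
import Cfsg.Agent.Lib.PGroups.SmallCharSeries

/-!
# Small essential subgroups
-/

set_option autoImplicit false

namespace CfsgLib.Fusion.SmallEss

open Cfsg Cfsg.FusionSystem CfsgLib.Fusion
open CfsgLib.PGroups.SmallSeries (CharLineSeries)

universe u

variable {p : ℕ} [hp : Fact p.Prime] {Ω : Type u} [Group Ω] {S : Subgroup Ω} [Finite S]
  {F : FusionSystem S}

omit [Finite S] in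
/-- An element of a `p`-group normalising `A ≤ B` with `|B| ≤ p |A|` is trivial on `B / A`. -/
theorem step_triv [Finite S] (hS : IsPGroup p S) {A B : Subgroup Ω} (hBS : B ≤ S) (hAB : A ≤ B)
    (hcard : Nat.card B ≤ p * Nat.card A) {g : Ω} (hg : g ∈ S)
    (hgA : ∀ a ∈ A, cj g a ∈ A) (hgB : ∀ b ∈ B, cj g b ∈ B) :
    ∀ x ∈ B, x⁻¹ * cj g x ∈ A := by
  intro x hx
  by_cases hBA : B ≤ A
  · exact hBA (B.mul_mem (B.inv_mem hx) (hgB x hx))
  have : Finite B := finite_of_le hBS
  have hBp := isPGroup_of_le hBS hS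
  set A' := A.subgroupOf B with hA'
  obtain ⟨i, hi⟩ := hBp.index A'
  have hidx : A'.index = p := by
    have h1 := A'.card_mul_index
    rw [Nat.card_congr (Subgroup.subgroupOfEquivOfLe hAB).toEquiv] at h1
    have hne : A'.index ≠ 1 := fun h =>
      hBA (Subgroup.subgroupOf_eq_top.1 (Subgroup.index_eq_one.1 h))
    have : Finite A := finite_of_le (hAB.trans hBS)
    have hle : A'.index ≤ p := Nat.le_of_mul_le_mul_left
      (h1.le.trans (hcard.trans (le_of_eq (mul_comm _ _)))) Nat.card_pos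
    rw [hi] at hle hne ⊢
    rcases i with _ | _ | i
    · exact absurd (pow_zero p) hne
    · exact pow_one p
    · exfalso
      have h2 : p ^ 2 ≤ p ^ (i + 1 + 1) := Nat.pow_le_pow_right hp.1.pos (by omega)
      have h3 := hp.1.two_le
      nlinarith
  have hA'n : A'.Normal := CfsgLib.PGroups.normal_of_isCoatom hBp
    (CfsgLib.PGroups.isCoatom_of_index_eq_prime hidx)
  -- work inside `⟨B, g⟩`
  set N := B ⊔ Subgroup.zpowers g with hN
  have hNS : N ≤ S := sup_le hBS (Subgroup.zpowers_le.2 hg)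
  have : Finite N := finite_of_le hNS
  have hNp := isPGroup_of_le hNS hS
  -- elements of `N` normalise `A` and `B`
  have hnorm : ∀ T : Subgroup Ω, T ≤ S → (∀ a ∈ T, cj g a ∈ T) →
      g ∈ Subgroup.normalizer (T : Set Ω) := by
    intro T hTS h
    have : Finite T := finite_of_le hTS
    have hle : T.map (MulAut.conj g).toMonoidHom ≤ T := by
      rintro _ ⟨a, ha, rfl⟩
      exact h a ha
    have heq := Subgroup.eq_of_le_of_card_ge hle
      (by rw [Subgroup.card_map_of_injective (MulAut.conj g).injective])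
    exact Subgroup.mem_normalizer_iff_map_conj_eq.2 heq
  have hnA : N ≤ Subgroup.normalizer (A : Set Ω) := by
    refine sup_le (fun b hb => ?_) (Subgroup.zpowers_le.2 (hnorm A (hAB.trans hBS) hgA))
    rw [Subgroup.mem_normalizer_iff]
    intro a
    refine ⟨fun ha => ?_, fun ha => ?_⟩
    · exact hA'n.conj_mem ⟨a, hAB ha⟩ ha ⟨b, hb⟩
    · have haB : a ∈ B := by
        simpa [mul_assoc] using B.mul_mem (B.mul_mem (B.inv_mem hb) (hAB ha)) hb
      have := hA'n.conj_mem ⟨b * a * b⁻¹, hAB ha⟩ ha ⟨b⁻¹, B.inv_mem hb⟩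
      simpa [Subgroup.mem_subgroupOf, hA', mul_assoc] using this
  have hnB : N ≤ Subgroup.normalizer (B : Set Ω) :=
    sup_le Subgroup.le_normalizer (Subgroup.zpowers_le.2 (hnorm B hBS hgB))
  have hAN : A ≤ N := hAB.trans le_sup_left
  haveI : (A.subgroupOf N).Normal :=
    ⟨fun a ha n => (Subgroup.mem_normalizer_iff.1 (hnA n.2) a).1 ha⟩
  haveI hBn : (B.subgroupOf N).Normal :=
    ⟨fun b hb n => (Subgroup.mem_normalizer_iff.1 (hnB n.2) b).1 hb⟩
  set π := QuotientGroup.mk' (A.subgroupOf N)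
  set Bb := (B.subgroupOf N).map π with hBb
  haveI : Bb.Normal := hBn.map π (QuotientGroup.mk'_surjective _)
  have hBb1 : Bb ≠ ⊥ := by
    intro h
    apply hBA
    intro b hb
    have h1 : π ⟨b, le_sup_left (a := B) hb⟩ ∈ Bb := ⟨_, hb, rfl⟩
    rw [h, Subgroup.mem_bot] at h1
    exact (QuotientGroup.eq_one_iff (⟨b, le_sup_left (a := B) hb⟩ : N)).1 h1
  have hBbc : Nat.card Bb ≤ p := by
    let φ : ↥B →* Bb := (π.comp (Subgroup.inclusion (le_sup_left : B ≤ N))).codRestrict Bb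
      fun b => ⟨_, b.2, rfl⟩
    have hφ : Function.Surjective φ := by
      rintro ⟨_, ⟨⟨b, hb'⟩, hb, rfl⟩⟩
      exact ⟨⟨b, hb⟩, rfl⟩
    have hker : A' ≤ φ.ker := fun b hb =>
      Subtype.ext ((QuotientGroup.eq_one_iff (Subgroup.inclusion _ b)).2 hb)
    have h1 : φ.ker.index ∣ A'.index := Subgroup.index_dvd_of_le hker
    rw [Subgroup.index_ker, MonoidHom.range_eq_top.2 hφ, Subgroup.card_top, hidx] at h1
    exact Nat.le_of_dvd hp.1.pos h1
  have hQp : IsPGroup p (N ⧸ A.subgroupOf N) := hNp.to_quotient _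
  have hle : Bb ≤ Subgroup.center _ := by
    have h1 := CfsgLib.PGroups.inf_center_ne_bot hQp hBb1
    refine inf_eq_left.1 (Subgroup.eq_of_le_of_card_ge inf_le_left (hBbc.trans ?_))
    obtain ⟨i, hi⟩ := CfsgLib.PGroups.card_subgroup_eq_pow hQp (Bb ⊓ Subgroup.center _)
    rw [hi]
    exact Nat.le_self_pow (fun h => h1 (by rwa [h, pow_zero, Subgroup.card_eq_one] at hi)) p
  have hgN : g ∈ N := (le_sup_right : Subgroup.zpowers g ≤ N) (Subgroup.mem_zpowers g)
  have hxN : x ∈ N := (le_sup_left : B ≤ N) hx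
  have h2 := Subgroup.mem_center_iff.1 (hle ⟨⟨x, hxN⟩, hx, rfl⟩ :
    π ⟨x, hxN⟩ ∈ Subgroup.center _) (π ⟨g, hgN⟩)
  have h3 : π ((⟨x, hxN⟩ : N)⁻¹ * (⟨g, hgN⟩ * ⟨x, hxN⟩ * (⟨g, hgN⟩ : N)⁻¹)) = 1 := by
    rw [map_mul, map_mul, map_mul, map_inv, map_inv, h2]
    group
  exact (QuotientGroup.eq_one_iff
    ((⟨x, hxN⟩ : N)⁻¹ * ((⟨g, hgN⟩ : N) * (⟨x, hxN⟩ : N) * (⟨g, hgN⟩ : N)⁻¹))).1 h3

/-- An essential subgroup has no invariant series with steps of index at most `p`, not even in an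
invariant subgroup on which the automorphisms of order prime to `p` act faithfully. -/
theorem false_of_series (hS : IsPGroup p S) (hF : F.IsSaturated p) {P : Subgroup Ω}
    (hP : F.IsEssential p P) {D : Subgroup Ω} (hD : D ≤ P)
    (hfaith : ∀ α ∈ F.autGroup P, (orderOf α).Coprime p → (∀ x ∈ D, autFun α x = x) → α = 1)
    {n : ℕ} (W : ℕ → Subgroup Ω) (h0 : W 0 = ⊥) (hn : W n = D)
    (hstep : ∀ i < n, W i ≤ W (i + 1) ∧ Nat.card (W (i + 1)) ≤ p * Nat.card (W i))
    (hinv : ∀ α ∈ F.autGroup P, ∀ i ≤ n, ∀ x ∈ W i, autFun α x ∈ W i) : False := by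
  have hPS := hP.1.1
  have hle : ∀ i ≤ n, W i ≤ D := by
    intro i hi
    induction hk : n - i generalizing i with
    | zero => rw [show i = n by omega, hn]
    | succ k ih => exact ((hstep i (by omega)).1).trans (ih (i + 1) (by omega) (by omega))
  obtain ⟨g, hg, hgP⟩ := SetLike.exists_of_lt (normalizerIn_gt hS (essential_lt hS hF hP))
  obtain ⟨hgS, hgn⟩ := mem_normalizerIn.1 hg
  obtain ⟨α, hα, hαe⟩ := exists_autInducedBy (P := P) hgS hgn
  have hαA := autInducedBy_le F hPS hα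
  have hcj : ∀ i ≤ n, ∀ x ∈ W i, cj g x ∈ W i := fun i hi x hx =>
    hαe x (hD (hle i hi hx)) ▸ hinv α hαA i hi x hx
  refine hgP (mem_of_stabilizing_small hS hP.1 (essential_radical hS hP) hD
    (fun β hβ x hx => hn ▸ hinv β hβ n le_rfl x (hn ▸ hx)) hfaith n
    (fun i => W (min i n)) (fun β hβ i x _ hx => hinv β hβ _ (min_le_right _ _) x hx)
    (by simp [h0]) (by simp [hn]) hg fun i hi x _ hxW => ?_)
  simp only [Nat.min_eq_left hi.le, Nat.min_eq_left (show i + 1 ≤ n from hi)] at hxW ⊢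
  exact step_triv hS ((hle _ hi).trans (hD.trans hPS)) (hstep i hi).1 (hstep i hi).2 hgS
    (hcj i hi.le) (hcj (i + 1) hi) x hxW

/-- An essential subgroup has no characteristic series with steps of index at most `p`. -/
theorem not_charLineSeries (hS : IsPGroup p S) (hF : F.IsSaturated p) {P : Subgroup Ω}
    (hP : F.IsEssential p P) : ¬ CharLineSeries p ↥P := by
  rintro ⟨n, W, h0, hn, hstep, hinv⟩
  refine false_of_series hS hF hP (le_refl P) (fun α _ _ h => autFun_inj fun x hx =>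
      (h x hx).trans (autFun_one hx).symm)
    (fun i => (W i).map P.subtype) (by simp [h0]) (n := n) ?_ (fun i hi => ⟨?_, ?_⟩) ?_
  · show (W n).map P.subtype = P
    rw [hn, ← MonoidHom.range_eq_map, Subgroup.range_subtype]
  · exact Subgroup.map_mono (hstep i hi).1
  · rw [Subgroup.card_map_of_injective P.subtype_injective,
      Subgroup.card_map_of_injective P.subtype_injective]
    exact (hstep i hi).2
  · rintro α - i - _ ⟨x, hx, rfl⟩
    exact ⟨α x, hinv α i x hx, (autFun_coe α x).symm⟩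

end CfsgLib.Fusion.SmallEss
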