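import Mathlib
import Cfsg.Agent.Lib.Fusion.SmallEssential
import Cfsg.Agent.Lib.ThreeTransp.SL2

/-!
# Essential subgroups generated by two commuting elements
-/

set_option autoImplicit false

namespace CfsgLib.Fusion.SmallEss

open Cfsg Cfsg.FusionSystem CfsgLib.Fusion

universe u

variable {p : ℕ} [hp : Fact p.Prime]

/-- Exponentiation by residues. -/
theorem pow_val_add {G : Type*} [Group G] {e : G} (he : e ^ p = 1) (a b : ZMod p) :
    e ^ (a + b).val = e ^ a.val * e ^ b.val := by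
  rw [ZMod.val_add, ← pow_eq_pow_mod _ he, pow_add]

/-- Coordinates on an elementary abelian group of rank two. -/
theorem exists_coords {G : Type*} [CommGroup G] [Finite G] (hG : Nat.card G = p ^ 2) {e f : G}
    (he : e ^ p = 1) (hf : f ^ p = 1) (he1 : e ≠ 1) (hfe : f ∉ Subgroup.zpowers e) :
    ∃ E : Multiplicative (Fin 2 → ZMod p) ≃* G,
      (∀ v, E (Multiplicative.ofAdd v) = e ^ (v 0).val * f ^ (v 1).val) := by
  let E₀ : Multiplicative (Fin 2 → ZMod p) →* G :=
    MonoidHom.mk' (fun v => e ^ (v.toAdd 0).val * f ^ (v.toAdd 1).val) fun v w => by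
      simp only [toAdd_mul, Pi.add_apply]
      rw [pow_val_add he, pow_val_add hf, mul_mul_mul_comm]
  have hinj : Function.Injective E₀ := by
    rw [← MonoidHom.ker_eq_bot_iff, Subgroup.eq_bot_iff_forall]
    intro v hv
    have h : e ^ (v.toAdd 0).val * f ^ (v.toAdd 1).val = 1 := hv
    have hoe : orderOf e = p := orderOf_eq_prime he he1
    have h1 : (v.toAdd 1).val = 0 := by
      by_contra h1
      apply hfe
      have hcop : ((v.toAdd 1).val).Coprime p := by
        rw [Nat.coprime_comm, hp.1.coprime_iff_not_dvd]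
        exact fun hd => absurd (Nat.le_of_dvd (Nat.pos_of_ne_zero h1) hd) (ZMod.val_lt _).not_ge
      obtain ⟨m, -, hm⟩ := Nat.exists_mul_mod_eq_one_of_coprime hcop hp.1.one_lt
      have h2 : f ^ (v.toAdd 1).val ∈ Subgroup.zpowers e := by
        rw [eq_inv_of_mul_eq_one_right h]
        exact inv_mem (pow_mem (Subgroup.mem_zpowers e) _)
      have h3 := pow_mem h2 m
      rwa [← pow_mul, pow_eq_pow_mod _ hf, hm, pow_one] at h3
    rw [h1, pow_zero, mul_one] at h
    have h0 : (v.toAdd 0).val = 0 :=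
      Nat.eq_zero_of_dvd_of_lt
      (dvd_trans (dvd_of_eq hoe.symm) (orderOf_dvd_of_pow_eq_one h)) (ZMod.val_lt _)
    refine Multiplicative.toAdd.injective (funext fun i => ?_)
    fin_cases i
    · exact (ZMod.val_eq_zero _).1 h0
    · exact (ZMod.val_eq_zero _).1 h1
  have hsurj : Function.Surjective E₀ := by
    refine ((Nat.bijective_iff_injective_and_card E₀).2 ⟨hinj, ?_⟩).2
    rw [hG, Nat.card_congr Multiplicative.toAdd, Nat.card_fun, Nat.card_zmod, Nat.card_fin]
  exact ⟨MulEquiv.ofBijective E₀ ⟨hinj, hsurj⟩, fun v => rfl⟩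

open CfsgLib.ThreeTransp in
/-- Two transvections with different axes generate a copy of `SL(2, p)`. -/
theorem exists_sl2 {G : Type*} [CommGroup G] [Finite G] (hG : Nat.card G = p ^ 2)
    (A : Subgroup (MulAut G)) {e f : G} (he : e ^ p = 1) (hf : f ^ p = 1) (he1 : e ≠ 1)
    (hfe : f ∉ Subgroup.zpowers e) {τ σ : MulAut G} (hτA : τ ∈ A) (hσA : σ ∈ A) {k m : ℕ}
    (hτe : τ e = e) (hτf : τ f = e ^ k * f) (hk : ¬ p ∣ k)
    (hσf : σ f = f) (hσe : σ e = e * f ^ m) (hm : ¬ p ∣ m) :
    (∃ K : Subgroup A, Nonempty (K ≃* Matrix.SpecialLinearGroup (Fin 2) (ZMod p))) ∧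
      ∃ ι ∈ A, ∀ x : G, ι x = x⁻¹ := by
  obtain ⟨E, hE⟩ := exists_coords hG he hf he1 hfe
  let ρ₀ : Matrix.SpecialLinearGroup (Fin 2) (ZMod p) → MulAut G := fun M =>
    E.symm.trans ((AddEquiv.toMultiplicative
      (Matrix.SpecialLinearGroup.toLin' M).toAddEquiv).trans E)
  have hρ₀ : ∀ M (v : Fin 2 → ZMod p), ρ₀ M (E (Multiplicative.ofAdd v)) =
      E (Multiplicative.ofAdd ((M : Matrix (Fin 2) (Fin 2) (ZMod p)).mulVec v)) := fun M v => by
    simp only [ρ₀, MulEquiv.trans_apply, MulEquiv.symm_apply_apply]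
    rfl
  let ρ : Matrix.SpecialLinearGroup (Fin 2) (ZMod p) →* MulAut G :=
    MonoidHom.mk' ρ₀ fun M N => MulEquiv.ext fun x => by
      obtain ⟨v, rfl⟩ := E.surjective x
      obtain ⟨v, rfl⟩ : ∃ w, Multiplicative.ofAdd w = v := ⟨v.toAdd, rfl⟩
      rw [MulAut.mul_apply, hρ₀, hρ₀, hρ₀, Matrix.SpecialLinearGroup.coe_mul,
        Matrix.mulVec_mulVec]
  have hρ : ∀ M (v : Fin 2 → ZMod p), ρ M (E (Multiplicative.ofAdd v)) =
      E (Multiplicative.ofAdd ((M : Matrix (Fin 2) (Fin 2) (ZMod p)).mulVec v)) := hρ₀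
  have hinj : Function.Injective ρ := by
    intro M N h
    refine Subtype.ext (Matrix.ext fun i j => ?_)
    have h1 := DFunLike.congr_fun h (E (Multiplicative.ofAdd (Pi.single j 1)))
    rw [hρ, hρ] at h1
    have h2 := congrFun (Multiplicative.ofAdd.injective (E.injective h1)) i
    simpa using h2
  have hU : ∀ t, ρ (sl2U (ZMod p) t) ∈ A := by
    intro t
    obtain ⟨j, hj⟩ : ∃ j : ℕ, ((j * k : ℕ) : ZMod p) = t := by
      refine ⟨(t / (k : ZMod p)).val, ?_⟩
      rw [Nat.cast_mul, ZMod.natCast_zmod_val,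
        div_mul_cancel₀ t (fun h => hk ((ZMod.natCast_eq_zero_iff _ _).1 h))]
    convert A.pow_mem hτA j using 1
    have hpow : ∀ j : ℕ, (τ ^ j) e = e ∧ (τ ^ j) f = e ^ (j * k) * f := by
      intro j
      induction j with
      | zero => simp
      | succ j ih =>
        rw [pow_succ', MulAut.mul_apply, MulAut.mul_apply, ih.1, ih.2, map_mul, map_pow, hτe, hτf,
          ← mul_assoc, ← pow_add, Nat.succ_mul]
        exact ⟨rfl, rfl⟩
    refine MulEquiv.ext fun x => ?_
    obtain ⟨v, rfl⟩ := E.surjective x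
    obtain ⟨v, rfl⟩ : ∃ w, Multiplicative.ofAdd w = v := ⟨v.toAdd, rfl⟩
    rw [hρ, hE, hE, map_mul, map_pow, map_pow, (hpow j).1, (hpow j).2, mul_pow, ← pow_mul,
      ← mul_assoc, ← pow_add, sl2U_val]
    have h0 : (!![1, t; 0, 1].mulVec v) 0 = v 0 + t * v 1 := by
      simp [Matrix.mulVec, dotProduct, Fin.sum_univ_two]
    have h1 : (!![1, t; 0, 1].mulVec v) 1 = v 1 := by
      simp [Matrix.mulVec, dotProduct, Fin.sum_univ_two]
    rw [h0, h1, pow_eq_pow_mod _ he, ← hj]
    conv_rhs => rw [pow_eq_pow_mod _ he]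
    congr 2
    rw [← ZMod.natCast_eq_natCast_iff', ZMod.natCast_zmod_val]
    push_cast [ZMod.natCast_zmod_val]
    ring
  have hL : ∀ t, ρ (sl2L (ZMod p) t) ∈ A := by
    intro t
    obtain ⟨j, hj⟩ : ∃ j : ℕ, ((j * m : ℕ) : ZMod p) = t := by
      refine ⟨(t / (m : ZMod p)).val, ?_⟩
      rw [Nat.cast_mul, ZMod.natCast_zmod_val,
        div_mul_cancel₀ t (fun h => hm ((ZMod.natCast_eq_zero_iff _ _).1 h))]
    convert A.pow_mem hσA j using 1
    have hpow : ∀ j : ℕ, (σ ^ j) f = f ∧ (σ ^ j) e = e * f ^ (j * m) := by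
      intro j
      induction j with
      | zero => simp
      | succ j ih =>
        rw [pow_succ', MulAut.mul_apply, MulAut.mul_apply, ih.1, ih.2, map_mul, map_pow, hσe, hσf,
          mul_assoc, ← pow_add, Nat.succ_mul, add_comm m]
        exact ⟨rfl, rfl⟩
    refine MulEquiv.ext fun x => ?_
    obtain ⟨v, rfl⟩ := E.surjective x
    obtain ⟨v, rfl⟩ : ∃ w, Multiplicative.ofAdd w = v := ⟨v.toAdd, rfl⟩
    rw [hρ, hE, hE, map_mul, map_pow, map_pow, (hpow j).1, (hpow j).2, mul_pow, ← pow_mul,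
      mul_assoc, ← pow_add, sl2L_val]
    have h0 : (!![1, 0; t, 1].mulVec v) 0 = v 0 := by
      simp [Matrix.mulVec, dotProduct, Fin.sum_univ_two]
    have h1 : (!![1, 0; t, 1].mulVec v) 1 = t * v 0 + v 1 := by
      simp [Matrix.mulVec, dotProduct, Fin.sum_univ_two]
    rw [h0, h1, pow_eq_pow_mod _ hf, ← hj]
    conv_rhs => rw [pow_eq_pow_mod _ hf]
    congr 2
    rw [← ZMod.natCast_eq_natCast_iff', ZMod.natCast_zmod_val]
    push_cast [ZMod.natCast_zmod_val]
    ring
  have hrange : ρ.range ≤ A := by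
    rw [MonoidHom.range_eq_map, ← sl2_gen, Subgroup.map_sup, sup_le_iff]
    constructor
    · rintro _ ⟨g, hg, rfl⟩
      obtain ⟨t, rfl⟩ := (mem_lowerUnipotentSL2 _).1 hg
      exact hL t
    · rintro _ ⟨g, hg, rfl⟩
      obtain ⟨t, rfl⟩ := (mem_upperUnipotentSL2 _).1 hg
      exact hU t
  refine ⟨⟨ρ.range.subgroupOf A,
    ⟨(Subgroup.subgroupOfEquivOfLe hrange).trans (MonoidHom.ofInjective hinj).symm⟩⟩,
    ρ (-1), hrange ⟨-1, rfl⟩, fun x => ?_⟩
  obtain ⟨v, rfl⟩ := E.surjective x
  obtain ⟨v, rfl⟩ : ∃ w, Multiplicative.ofAdd w = v := ⟨v.toAdd, rfl⟩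
  rw [hρ, Matrix.SpecialLinearGroup.coe_neg, Matrix.SpecialLinearGroup.coe_one,
    Matrix.neg_mulVec, Matrix.one_mulVec, ofAdd_neg, map_inv]

variable {Ω : Type u} [Group Ω] {S : Subgroup Ω} [Finite S] {F : FusionSystem S}

/-- An essential subgroup of order `p ^ 2` is elementary and carries `SL(2, p)`. -/
theorem order_p2_essential (hS : IsPGroup p S) (hF : F.IsSaturated p) {H : Subgroup Ω}
    (hH : F.IsEssential p H) (hcard : Nat.card H = p ^ 2) :
    Cfsg.IsElementaryAbelian p H ∧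
      (∃ K : Subgroup (F.autGroup H),
        Nonempty (K ≃* Matrix.SpecialLinearGroup (Fin 2) (ZMod p))) ∧
      ∃ ι ∈ F.autGroup H, ∀ x : H, ι x = x⁻¹ := by
  have hHS := hH.1.1
  have : Finite H := finite_of_le hHS
  obtain ⟨hcomm, hor⟩ := CfsgLib.PGroups.SmallSeries.order_p2 (p := p) hcard
  have hexp : ∀ x : H, x ^ p = 1 := hor.resolve_right (not_charLineSeries hS hF hH)
  refine ⟨⟨⟨⟨hcomm⟩⟩, fun a ha => congrArg Subtype.val (hexp ⟨a, ha⟩)⟩, ?_⟩
  letI : CommGroup H := { (inferInstance : Group H) with mul_comm := hcomm }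
  obtain ⟨g, hg, hgH⟩ := SetLike.exists_of_lt (normalizerIn_gt hS (essential_lt hS hF hH))
  obtain ⟨hgS, hgn⟩ := mem_normalizerIn.1 hg
  obtain ⟨τ, hτ, hτe⟩ := exists_autInducedBy (P := H) hgS hgn
  have hτA := autInducedBy_le F hHS hτ
  set N := H ⊔ Subgroup.zpowers g with hN
  have hNS : N ≤ S := sup_le hHS (Subgroup.zpowers_le.2 hgS)
  have : Finite N := finite_of_le hNS
  have hNn : N ≤ Subgroup.normalizer (H : Set Ω) :=
    sup_le Subgroup.le_normalizer (Subgroup.zpowers_le.2 hgn)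
  haveI : (H.subgroupOf N).Normal :=
    ⟨fun b hb n => (Subgroup.mem_normalizer_iff.1 (hNn n.2) b).1 hb⟩
  have hne : H.subgroupOf N ≠ ⊥ := fun h => by
    have h1 := Nat.card_congr (Subgroup.subgroupOfEquivOfLe (le_sup_left : H ≤ N)).toEquiv
    rw [h, Subgroup.card_bot, hcard] at h1
    exact absurd h1 (Nat.ne_of_lt (Nat.one_lt_pow two_ne_zero hp.1.one_lt))
  obtain ⟨⟨c, hc⟩, hcne⟩ := (Subgroup.ne_bot_iff_exists_ne_one).1
    (CfsgLib.PGroups.inf_center_ne_bot (isPGroup_of_le hNS hS) hne)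
  set e : H := ⟨(c : Ω), hc.1⟩ with he
  have he1 : e ≠ 1 := fun h => hcne (Subtype.ext (Subtype.ext (congrArg (fun w : H => (w : Ω)) h)))
  have hτe' : τ e = e := Subtype.ext (by
    rw [← autFun_coe, hτe _ e.2, cj_apply]
    have := congrArg Subtype.val
      (Subgroup.mem_center_iff.1 hc.2 ⟨g, (le_sup_right : Subgroup.zpowers g ≤ N)
        (Subgroup.mem_zpowers g)⟩)
    rw [show g * (e : Ω) = (e : Ω) * g from this, mul_inv_cancel_right])
  have hoe : orderOf e = p := orderOf_eq_prime (hexp e) he1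
  have hecard : Nat.card (Subgroup.zpowers e) = p := by rw [Nat.card_zpowers, hoe]
  -- `τ` moves everything into the line
  have hline : ∀ x : H, x⁻¹ * τ x ∈ Subgroup.zpowers e := by
    intro x
    have hmap : Nat.card ((Subgroup.zpowers e).map H.subtype) = p := by
      rw [Subgroup.card_map_of_injective H.subtype_injective, hecard]
    obtain ⟨w, hw, hwe⟩ := step_triv hS hHS (Subgroup.map_subtype_le (Subgroup.zpowers e))
      (by rw [hmap, hcard, sq]) hgS
      (fun a ha => by
        obtain ⟨w, hw, rfl⟩ := ha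
        obtain ⟨i, rfl⟩ := Subgroup.mem_zpowers_iff.1 hw
        refine ⟨e ^ i, zpow_mem (Subgroup.mem_zpowers e) i, ?_⟩
        have h5 : τ (e ^ i) = e ^ i := by rw [map_zpow, hτe']
        show ((e ^ i : H) : Ω) = cj g ((e ^ i : H) : Ω)
        rw [← hτe _ (e ^ i : H).2, autFun_coe, h5])
      (fun b hb => (Subgroup.mem_normalizer_iff.1 hgn b).1 hb) x x.2
    have h6 : x⁻¹ * τ x = w := by
      apply Subtype.ext
      rw [Subgroup.coe_mul, Subgroup.coe_inv, ← autFun_coe τ x, hτe x x.2]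
      exact hwe.symm
    rw [h6]
    exact hw
  -- some automorphism moves the line
  obtain ⟨α, hα, hαe⟩ : ∃ α ∈ F.autGroup H, α e ∉ Subgroup.zpowers e := by
    by_contra hno
    push Not at hno
    refine false_of_series hS hF hH (le_refl H) (fun α _ _ h => autFun_inj fun x hx =>
        (h x hx).trans (autFun_one hx).symm) (n := 2)
      (fun i => if i = 0 then ⊥ else if i = 1 then (Subgroup.zpowers e).map H.subtype else H)
      (by simp) (by simp) (fun i hi => ?_) ?_
    · interval_cases i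
      · simp [Subgroup.card_map_of_injective H.subtype_injective, hoe]
      · simp only [one_ne_zero, if_false, if_true]
        refine ⟨Subgroup.map_subtype_le _, ?_⟩
        rw [Subgroup.card_map_of_injective H.subtype_injective, hecard]
        show Nat.card H ≤ p * p
        rw [hcard, sq]
    · intro α hα i _ x hx
      by_cases h0 : i = 0
      · simp only [h0, if_true, Subgroup.mem_bot] at hx ⊢
        rw [hx]
        exact (isMor_autFun hHS hα).map_one
      by_cases h1 : i = 1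
      · simp only [h1, one_ne_zero, if_false, if_true] at hx ⊢
        obtain ⟨w, hw, rfl⟩ := hx
        obtain ⟨j, rfl⟩ := Subgroup.mem_zpowers_iff.1 hw
        refine ⟨α (e ^ j), ?_, (autFun_coe α _).symm⟩
        rw [map_zpow]
        exact zpow_mem (hno α hα) j
      · simp only [h0, h1, if_false] at hx ⊢
        exact autFun_mem α hx
  set f := α e with hf
  have hkex : ∀ (x : H), x ∉ Subgroup.zpowers e → ∃ k : ℕ, τ x = e ^ k * x ∧ ¬ p ∣ k := by
    intro x hx
    obtain ⟨k, hk⟩ := mem_powers_iff_mem_zpowers.2 (hline x)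
    simp only at hk
    have hkx : τ x = e ^ k * x := by rw [hk, mul_comm, mul_inv_cancel_left]
    refine ⟨k, hkx, fun hd => hgH ?_⟩
    obtain ⟨d, rfl⟩ := hd
    rw [pow_mul, hexp e, one_pow, one_mul] at hkx
    have hgen : ∀ y : H, τ y = y := by
      intro y
      have : Subgroup.zpowers e ⊔ Subgroup.zpowers x = ⊤ := by
        refine Subgroup.eq_top_of_le_card _ ?_
        obtain ⟨i, hi⟩ := CfsgLib.PGroups.card_subgroup_eq_pow (IsPGroup.of_card hcard)
          (Subgroup.zpowers e ⊔ Subgroup.zpowers x)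
        have h2 : Nat.card (Subgroup.zpowers e) < Nat.card ↥(Subgroup.zpowers e ⊔ Subgroup.zpowers x) := by
          refine lt_of_le_of_ne (Subgroup.card_le_of_le le_sup_left) fun h => hx ?_
          rw [Subgroup.eq_of_le_of_card_ge le_sup_left h.ge]
          exact Subgroup.mem_sup_right (Subgroup.mem_zpowers x)
        rw [hecard, hi] at h2
        conv_lhs at h2 => rw [← pow_one p]
        rw [hcard, hi]
        exact Nat.pow_le_pow_right hp.1.pos ((Nat.pow_lt_pow_iff_right hp.1.one_lt).1 h2)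
      obtain ⟨a, ha, b, hb, rfl⟩ := Subgroup.mem_sup.1 (this ▸ Subgroup.mem_top y)
      obtain ⟨i, rfl⟩ := Subgroup.mem_zpowers_iff.1 ha
      obtain ⟨j, rfl⟩ := Subgroup.mem_zpowers_iff.1 hb
      rw [map_mul, map_zpow, map_zpow, hτe', hkx]
    refine centric_centralizer_le hH.1 (mem_centralizerIn.2 ⟨hgS, fun y hy => ?_⟩)
    rw [← hτe y hy, autFun_of_mem τ hy, hgen]
  obtain ⟨k, hτf, hk⟩ := hkex f hαe
  have hαi : α⁻¹ e ∉ Subgroup.zpowers e := fun h => hαe (by
    obtain ⟨j, hj⟩ := Subgroup.mem_zpowers_iff.1 h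
    have h1 : e = f ^ j := by
      rw [hf, ← map_zpow, hj, MulAut.apply_inv_self]
    have hjp : ¬ (p : ℤ) ∣ j := by
      rintro ⟨d, rfl⟩
      rw [zpow_mul, zpow_natCast, hexp f, one_zpow] at h1
      exact he1 h1
    obtain ⟨u, v, huv⟩ : IsCoprime (p : ℤ) j :=
      (Nat.prime_iff_prime_int.1 hp.1).coprime_iff_not_dvd.2 hjp
    have : f = e ^ v := by
      rw [h1, ← zpow_mul]
      conv_lhs => rw [← zpow_one f, ← huv]
      rw [zpow_add, mul_comm u, zpow_mul, zpow_natCast, hexp f, one_zpow, one_mul, mul_comm]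
    rw [this]
    exact zpow_mem (Subgroup.mem_zpowers e) v)
  obtain ⟨m, hm, hmd⟩ := hkex (α⁻¹ e) hαi
  refine exists_sl2 hcard (F.autGroup H) (hexp e) (hexp f) he1 hαe hτA
    (Subgroup.mul_mem _ (Subgroup.mul_mem _ hα hτA) (Subgroup.inv_mem _ hα) :
      α * τ * α⁻¹ ∈ F.autGroup H) hτe' hτf hk ?_ ?_ hmd
  · rw [hf, MulAut.mul_apply, MulAut.mul_apply, MulAut.inv_apply_self, hτe']
  · rw [MulAut.mul_apply, MulAut.mul_apply, hm, map_mul, map_pow, MulAut.apply_inv_self,
      mul_comm]

/-- An abelian essential subgroup generated by two elements. -/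
theorem two_generated_essential (hS : IsPGroup p S) (hF : F.IsSaturated p) {H : Subgroup Ω}
    (hH : F.IsEssential p H) (hab : ∀ a b : H, a * b = b * a)
    (hrk : (frattini H).index ≤ p ^ 2) :
    ((∀ x : H, x ^ p = 1) ∧ Nat.card H = p ^ 2) ∨
      (p ≤ 3 ∧ ∃ k : ℕ, Nonempty (↥H ≃* Multiplicative (ZMod (p ^ k) × ZMod (p ^ k)))) := by
  classical
  have hHS := hH.1.1
  have : Finite H := finite_of_le hHS
  have := finite_mulAut (P := H) hHS
  have hHp := isPGroup_of_le hHS hS
  letI : CommGroup H := { (inferInstance : Group H) with mul_comm := hab }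
  let P : ℕ → H →* H := fun i => powMonoidHom (p ^ i)
  have hP : ∀ i (x : H), P i x = x ^ p ^ i := fun i x => rfl
  set D := (P 1).ker with hDdef
  have hDmem : ∀ x : H, x ∈ D ↔ x ^ p = 1 := fun x => by
    rw [hDdef, MonoidHom.mem_ker, hP, pow_one]
  have hDle : Nat.card D ≤ p ^ 2 := by
    refine le_trans (le_of_eq ?_) hrk
    have hfr : frattini H = (P 1).range := by
      refine le_antisymm (CfsgLib.PGroups.frattini_le_of_elementary_quotient (p := p) ?_ ?_) ?_
      · rw [_root_.commutator_def, Subgroup.commutator_le]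
        intro a _ b _
        rw [commutatorElement_eq_one_iff_mul_comm.2 (hab a b)]
        exact Subgroup.one_mem _
      · exact fun g => ⟨g, by rw [hP, pow_one]⟩
      · rintro _ ⟨g, rfl⟩
        rw [hP, pow_one]
        exact CfsgLib.PGroups.pow_mem_frattini hHp g
    rw [hfr]
    have h1 := (P 1).range.card_mul_index
    have h2 : Nat.card D * Nat.card (P 1).range = Nat.card H := by
      rw [← Subgroup.index_ker, Subgroup.card_mul_index]
    rw [← h2, mul_comm (Nat.card D)] at h1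
    exact (Nat.eq_of_mul_eq_mul_left Nat.card_pos h1).symm
  -- automorphisms of order prime to `p` are detected by `D`
  have hfaith : ∀ β ∈ F.autGroup H, (orderOf β).Coprime p → (∀ x ∈ D, β x = x) → β = 1 := by
    intro β _ hβc hfix
    suffices ∀ i, ∀ h : H, h ^ p ^ i = 1 → β h = h from MulEquiv.ext fun h => by
      obtain ⟨i, hi⟩ := hHp h
      exact this i h hi
    intro i
    induction i with
    | zero => intro h hh; rw [pow_zero, pow_one] at hh; rw [hh, map_one]
    | succ i ih =>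
      intro h hh
      rw [pow_succ', pow_mul] at hh
      have h1 := ih _ hh
      rw [map_pow] at h1
      set c := h⁻¹ * β h with hc
      have hcp : c ^ p = 1 := by rw [hc, mul_pow, inv_pow, h1, inv_mul_cancel]
      have hcf : β c = c := hfix c ((hDmem c).2 hcp)
      have hpow : ∀ j : ℕ, (β ^ j) h = h * c ^ j := by
        intro j
        induction j with
        | zero => rw [pow_zero, pow_zero, mul_one]; rfl
        | succ j ihj =>
          rw [pow_succ' β, MulAut.mul_apply, ihj, map_mul, map_pow, hcf,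
            show β h = h * c by rw [hc, mul_inv_cancel_left], pow_succ', mul_assoc]
      have h2 := hpow (orderOf β)
      rw [pow_orderOf_eq_one, MulAut.one_apply, left_eq_mul] at h2
      have h3 : c = 1 := orderOf_eq_one_iff.1 (Nat.eq_one_of_dvd_coprimes hβc
        (orderOf_dvd_of_pow_eq_one h2) (orderOf_dvd_of_pow_eq_one hcp))
      exact (inv_mul_eq_one.1 (hc.symm.trans h3)).symm
  -- the members of an invariant series inside `D` cannot have index at most `p`
  have hnoline : ∀ A : Subgroup H, A ≤ D → Nat.card A ≤ p → Nat.card D ≤ p * Nat.card A →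
      (∀ α ∈ F.autGroup H, ∀ x ∈ A, α x ∈ A) → False := by
    intro A hAD hA hD' hAinv
    refine false_of_series hS hF hH (D := D.map H.subtype) (Subgroup.map_subtype_le _)
      (fun β hβ hc h => hfaith β hβ hc fun x hx => Subtype.ext (by
        rw [← autFun_coe]
        exact h x ⟨x, hx, rfl⟩)) (n := 2)
      (fun i => if i = 0 then ⊥ else if i = 1 then A.map H.subtype else D.map H.subtype)
      (by simp) (by simp) (fun i hi => ?_) ?_
    · interval_cases i
      · show ⊥ ≤ A.map H.subtype ∧ Nat.card (A.map H.subtype) ≤ p * Nat.card (⊥ : Subgroup Ω)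
        rw [Subgroup.card_bot, mul_one, Subgroup.card_map_of_injective H.subtype_injective]
        exact ⟨bot_le, hA⟩
      · show A.map H.subtype ≤ D.map H.subtype ∧ _ ≤ p * Nat.card (A.map H.subtype)
        refine ⟨Subgroup.map_mono hAD, ?_⟩
        show Nat.card (D.map H.subtype) ≤ _
        rw [Subgroup.card_map_of_injective H.subtype_injective,
          Subgroup.card_map_of_injective H.subtype_injective]
        exact hD'
    · intro α hα i _ x hx
      by_cases h0 : i = 0
      · simp only [h0, if_true, Subgroup.mem_bot] at hx ⊢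
        rw [hx]
        exact (isMor_autFun hHS hα).map_one
      by_cases h1 : i = 1
      · simp only [h1, one_ne_zero, if_false, if_true] at hx ⊢
        obtain ⟨w, hw, rfl⟩ := hx
        exact ⟨α w, hAinv α hα w hw, (autFun_coe α _).symm⟩
      · simp only [h0, h1, if_false] at hx ⊢
        obtain ⟨w, hw, rfl⟩ := hx
        exact ⟨α w, (hDmem _).2 (by rw [← map_pow, (hDmem w).1 hw, map_one]),
          (autFun_coe α _).symm⟩
  obtain ⟨d, hd⟩ := CfsgLib.PGroups.card_subgroup_eq_pow hHp D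
  have hd2 : d = 2 := by
    rw [hd] at hDle
    have := (Nat.pow_le_pow_iff_right hp.1.one_lt).1 hDle
    by_contra hne
    refine hnoline D le_rfl ?_ (Nat.le_mul_of_pos_left _ hp.1.pos) fun α _ x hx =>
      (hDmem _).2 (by rw [← map_pow, (hDmem x).1 hx, map_one])
    rw [hd]
    calc p ^ d ≤ p ^ 1 := Nat.pow_le_pow_right hp.1.pos (by omega)
      _ = p := pow_one p
  subst hd2
  -- the exponent
  obtain ⟨k, hk⟩ : ∃ k, ∀ x : H, x ^ p ^ k = 1 := by
    obtain ⟨k, hk⟩ := IsPGroup.iff_card.1 hHp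
    exact ⟨k, fun x => hk ▸ pow_card_eq_one'⟩
  classical
  have hex : ∃ k, ∀ x : H, x ^ p ^ k = 1 := ⟨k, hk⟩
  set K := Nat.find hex with hKdef
  have hK : ∀ x : H, x ^ p ^ K = 1 := Nat.find_spec hex
  have hK0 : K ≠ 0 := fun h => by
    have : Nat.card D ≤ 1 := by
      rw [Finite.card_le_one_iff_subsingleton]
      refine ⟨fun a b => Subtype.ext ?_⟩
      have ha := hK (a : H)
      have hb := hK (b : H)
      rw [h, pow_zero, pow_one] at ha hb
      rw [ha, hb]
    rw [hd] at this
    exact absurd this (not_le.2 (Nat.one_lt_pow two_ne_zero hp.1.one_lt))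
  -- `H ^ p ^ i` meets `D` in `D` for `i < K`
  have htop : ∀ x ∈ D, ∃ y : H, y ^ p ^ (K - 1) = x := by
    have hsub : (P (K - 1)).range ≤ D := by
      rintro _ ⟨y, rfl⟩
      rw [hDmem, hP, ← pow_mul, ← pow_succ, show K - 1 + 1 = K by omega, hK]
    have hne : (P (K - 1)).range ≠ ⊥ := fun h => by
      refine Nat.find_min hex (show K - 1 < K by omega) fun x => ?_
      have h1 : P (K - 1) x ∈ (P (K - 1)).range := ⟨x, rfl⟩
      rw [h, Subgroup.mem_bot, hP] at h1
      exact h1
    obtain ⟨i, hi⟩ := CfsgLib.PGroups.card_subgroup_eq_pow hHp (P (K - 1)).range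
    have hi0 : i ≠ 0 := fun h => hne (by rwa [h, pow_zero, Subgroup.card_eq_one] at hi)
    have hi2 : i = 2 := by
      have h1 := Subgroup.card_le_of_le hsub
      rw [hd, hi] at h1
      have := (Nat.pow_le_pow_iff_right hp.1.one_lt).1 h1
      by_contra hne2
      obtain rfl : i = 1 := by omega
      refine hnoline _ hsub (by rw [hi, pow_one]) (by rw [hd, hi, sq, pow_one]) fun α _ x hx => ?_
      obtain ⟨y, rfl⟩ := hx
      exact ⟨α y, by rw [hP, hP, map_pow]⟩
    intro x hx
    have heq := Subgroup.eq_of_le_of_card_ge hsub (by rw [hd, hi, hi2])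
    rw [← heq] at hx
    exact hx
  -- a basis
  have hexists : ∃ u v : H, u ∈ D ∧ v ∈ D ∧ u ≠ 1 ∧ v ∉ Subgroup.zpowers u := by
    obtain ⟨⟨u, hu⟩, hu1⟩ := (Subgroup.ne_bot_iff_exists_ne_one (H := D)).1 fun h => by
      rw [h, Subgroup.card_bot] at hd
      exact absurd hd (Nat.ne_of_lt (Nat.one_lt_pow two_ne_zero hp.1.one_lt))
    have hu1' : u ≠ 1 := fun h => hu1 (Subtype.ext h)
    by_contra hno
    push Not at hno
    have hle : D ≤ Subgroup.zpowers u := fun v hv => hno u v hu hv hu1'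
    have h1 := Subgroup.card_le_of_le hle
    rw [hd, Nat.card_zpowers, orderOf_eq_prime ((hDmem u).1 hu) hu1'] at h1
    have := hp.1.two_le
    nlinarith
  obtain ⟨u, v, hu, hv, hu1, hvu⟩ := hexists
  obtain ⟨a, ha⟩ := htop u hu
  obtain ⟨b, hb⟩ := htop v hv
  have hcardK : ∀ i ≤ K, Nat.card (P i).ker = p ^ (2 * i) := by
    intro i hi
    induction i with
    | zero =>
      rw [Nat.mul_zero, pow_zero, Subgroup.card_eq_one, Subgroup.eq_bot_iff_forall]
      intro x hx
      rwa [MonoidHom.mem_ker, hP, pow_zero, pow_one] at hx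
    | succ i ih =>
      let φ : (P (i + 1)).ker →* D := ((P i).comp (P (i + 1)).ker.subtype).codRestrict D
        fun x => by
          rw [hDmem]
          show (P i (x : H)) ^ p = 1
          rw [hP, ← pow_mul, ← pow_succ]
          exact x.2
      have hsurj : Function.Surjective φ := by
        rintro ⟨x, hx⟩
        obtain ⟨y, rfl⟩ := htop x hx
        refine ⟨⟨y ^ p ^ (K - 1 - i), ?_⟩, Subtype.ext ?_⟩
        · rw [MonoidHom.mem_ker, hP, ← pow_mul, ← pow_add,
            show K - 1 - i + (i + 1) = K by omega, hK]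
        · show P i (y ^ p ^ (K - 1 - i)) = y ^ p ^ (K - 1)
          rw [hP, ← pow_mul, ← pow_add, show K - 1 - i + i = K - 1 by omega]
      have hker : φ.ker.map (P (i + 1)).ker.subtype = (P i).ker := by
        ext x
        constructor
        · rintro ⟨y, hy, rfl⟩
          exact congrArg Subtype.val hy
        · intro hx
          refine ⟨⟨x, ?_⟩, Subtype.ext hx, rfl⟩
          rw [MonoidHom.mem_ker, hP] at hx ⊢
          rw [pow_succ, pow_mul, hx, one_pow]
      have h1 := φ.ker.card_mul_index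
      rw [Subgroup.index_ker, MonoidHom.range_eq_top.2 hsurj, Subgroup.card_top, hd,
        ← Subgroup.card_map_of_injective (P (i + 1)).ker.subtype_injective, hker,
        ih (by omega), ← pow_add] at h1
      rw [← h1, mul_add, mul_one]
  have hHcard : Nat.card H = p ^ (2 * K) := by
    rw [← hcardK K le_rfl]
    have : (P K).ker = ⊤ := eq_top_iff.2 fun x _ => by rw [MonoidHom.mem_ker, hP, hK]
    rw [this, Subgroup.card_top]
  by_cases hK1 : K = 1
  · left
    refine ⟨fun x => by simpa [hK1] using hK x, by rw [hHcard, hK1]⟩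
  right
  have hiso : Nonempty (↥H ≃* Multiplicative (ZMod (p ^ K) × ZMod (p ^ K))) := by
    haveI : NeZero (p ^ K) := ⟨pow_ne_zero _ hp.1.ne_zero⟩
    have hval : ∀ (c : H) (s t : ZMod (p ^ K)),
        c ^ (s + t).val = c ^ s.val * c ^ t.val := fun c s t => by
      rw [ZMod.val_add, ← pow_eq_pow_mod _ (hK c), pow_add]
    let E : Multiplicative (ZMod (p ^ K) × ZMod (p ^ K)) →* H :=
      MonoidHom.mk' (fun w => a ^ w.toAdd.1.val * b ^ w.toAdd.2.val) fun w w' => by
        simp only [toAdd_mul, Prod.fst_add, Prod.snd_add]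
        rw [hval, hval, mul_mul_mul_comm]
    have hzero : ∀ n : ℕ, ∀ i j : ℕ, n ≤ K → p ^ n ∣ i → p ^ n ∣ j → a ^ i * b ^ j = 1 →
        p ^ K ∣ i ∧ p ^ K ∣ j := by
      intro n
      induction hn : K - n generalizing n with
      | zero =>
        intro i j hnK hi hj _
        rw [show n = K by omega] at hi hj
        exact ⟨hi, hj⟩
      | succ r ih =>
        intro i j hnK hi hj h
        obtain ⟨i, rfl⟩ := hi
        obtain ⟨j, rfl⟩ := hj
        have h1 := congrArg (fun w : H => w ^ p ^ (K - 1 - n)) h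
        simp only [mul_pow, one_pow] at h1
        rw [← pow_mul, ← pow_mul, show p ^ n * i * p ^ (K - 1 - n) = p ^ (K - 1) * i by
          rw [mul_right_comm, ← pow_add, show n + (K - 1 - n) = K - 1 by omega],
          show p ^ n * j * p ^ (K - 1 - n) = p ^ (K - 1) * j by
          rw [mul_right_comm, ← pow_add, show n + (K - 1 - n) = K - 1 by omega],
          pow_mul, pow_mul, ha, hb] at h1
        have hjd : p ∣ j := by
          by_contra hjd
          apply hvu
          obtain ⟨m, -, hm⟩ := Nat.exists_mul_mod_eq_one_of_coprime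
            (Nat.coprime_comm.1 (hp.1.coprime_iff_not_dvd.2 hjd)) hp.1.one_lt
          have h2 : v ^ j ∈ Subgroup.zpowers u := by
            rw [eq_inv_of_mul_eq_one_right h1]
            exact inv_mem (pow_mem (Subgroup.mem_zpowers u) i)
          have h3 := pow_mem h2 m
          rwa [← pow_mul, pow_eq_pow_mod _ ((hDmem v).1 hv), hm, pow_one] at h3
        obtain ⟨j, rfl⟩ := hjd
        rw [pow_mul v, (hDmem v).1 hv, one_pow, mul_one] at h1
        have hid : p ∣ i := by
          rw [← orderOf_eq_prime ((hDmem u).1 hu) hu1]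
          exact orderOf_dvd_of_pow_eq_one h1
        obtain ⟨i, rfl⟩ := hid
        exact ih (n + 1) (by omega) _ _ (by omega) ⟨i, by ring⟩ ⟨j, by ring⟩ h
    have hinj : Function.Injective E := by
      rw [← MonoidHom.ker_eq_bot_iff, Subgroup.eq_bot_iff_forall]
      intro w hw
      obtain ⟨h1, h2⟩ := hzero 0 _ _ (Nat.zero_le _) (by simp) (by simp) hw
      refine Multiplicative.toAdd.injective (Prod.ext ?_ ?_)
      · exact (ZMod.val_eq_zero _).1 (Nat.eq_zero_of_dvd_of_lt h1 (ZMod.val_lt _))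
      · exact (ZMod.val_eq_zero _).1 (Nat.eq_zero_of_dvd_of_lt h2 (ZMod.val_lt _))
    have hsurj : Function.Surjective E := by
      refine ((Nat.bijective_iff_injective_and_card E).2 ⟨hinj, ?_⟩).2
      rw [hHcard, Nat.card_congr Multiplicative.toAdd, Nat.card_prod, Nat.card_zmod, ← pow_add,
        two_mul]
    exact ⟨(MulEquiv.ofBijective E ⟨hinj, hsurj⟩).symm⟩
  refine ⟨?_, K, hiso⟩
  -- the bound on the prime
  by_contra hp3
  have hp5 : 5 ≤ p := by
    by_contra h
    have h4 : p = 4 := by omega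
    exact absurd (h4 ▸ hp.1) (by norm_num)
  -- the kernel on `D` is trivial
  let R : Subgroup (MulAut H) :=
    { carrier := {β | β ∈ F.autGroup H ∧ ∀ x ∈ D, β x = x}
      one_mem' := ⟨Subgroup.one_mem _, fun x _ => rfl⟩
      mul_mem' := fun {c c'} hc hc' => ⟨Subgroup.mul_mem _ hc.1 hc'.1, fun x hx => by
        rw [MulAut.mul_apply, hc'.2 x hx, hc.2 x hx]⟩
      inv_mem' := fun {c} hc => ⟨Subgroup.inv_mem _ hc.1, fun x hx => by
        conv_lhs => rw [← hc.2 x hx]
        exact MulAut.inv_apply_self _ c x⟩ }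
  have hRp : IsPGroup p R := by
    rintro ⟨β, hβ⟩
    obtain ⟨i, c, hc', hn'⟩ :=
      Nat.exists_eq_pow_mul_and_not_dvd (orderOf_pos β).ne' p hp.1.ne_one
    refine ⟨i, Subtype.ext (hfaith _ (Subgroup.pow_mem _ hβ.1 _) ?_ (R.pow_mem hβ _).2)⟩
    show (orderOf (β ^ p ^ i)).Coprime p
    rw [orderOf_pow_of_dvd (pow_ne_zero i hp.1.ne_zero) (hn' ▸ dvd_mul_right _ _), hn',
      Nat.mul_div_cancel_left _ (pow_pos hp.1.pos i)]
    exact (Nat.Coprime.symm ((hp.1.coprime_iff_not_dvd).mpr hc'))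
  have hRconj : ∀ c ∈ F.autGroup H, ∀ β ∈ R, c * β * c⁻¹ ∈ R := fun c hc β hβ =>
    ⟨Subgroup.mul_mem _ (Subgroup.mul_mem _ hc hβ.1) (Subgroup.inv_mem _ hc), fun x hx => by
      have hx' : c⁻¹ x ∈ D := (hDmem _).2 (by rw [← map_pow, (hDmem x).1 hx, map_one])
      rw [MulAut.mul_apply, MulAut.mul_apply, hβ.2 _ hx', MulAut.apply_inv_self]⟩
  have hR1 : ∀ β ∈ R, β = 1 := fun β hβ => by
    obtain ⟨w, hw, hwe⟩ := mem_inn.1
      (le_inn_of_radical (K := R) (essential_radical hS hH) (fun c hc => hc.1) hRp hRconj hβ)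
    refine autFun_inj fun x hx => ?_
    rw [hwe x hx, autFun_one hx, cj_apply, mul_inv_eq_iff_eq_mul]
    exact congrArg Subtype.val (hab ⟨w, hw⟩ ⟨x, hx⟩)
  obtain ⟨g, hg, hgH⟩ := SetLike.exists_of_lt (normalizerIn_gt hS (essential_lt hS hF hH))
  obtain ⟨hgS, hgn⟩ := mem_normalizerIn.1 hg
  obtain ⟨τ, hτ, hτe⟩ := exists_autInducedBy (P := H) hgS hgn
  have hτA := autInducedBy_le F hHS hτ
  -- `τ` stabilises a series of `D`
  set N := H ⊔ Subgroup.zpowers g with hN
  have hNS : N ≤ S := sup_le hHS (Subgroup.zpowers_le.2 hgS)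
  have : Finite N := finite_of_le hNS
  have hNn : N ≤ Subgroup.normalizer (H : Set Ω) :=
    sup_le Subgroup.le_normalizer (Subgroup.zpowers_le.2 hgn)
  have hDN : ∀ n ∈ N, ∀ x ∈ D.map H.subtype, n * x * n⁻¹ ∈ D.map H.subtype := by
    rintro n hn _ ⟨x, hx, rfl⟩
    refine ⟨⟨n * (x : Ω) * n⁻¹, (Subgroup.mem_normalizer_iff.1 (hNn hn) x).1 x.2⟩, ?_, rfl⟩
    show _ ∈ D
    rw [hDmem]
    apply Subtype.ext
    have hx' : (x : Ω) ^ p = 1 := congrArg Subtype.val ((hDmem x).1 hx)
    show (n * (x : Ω) * n⁻¹) ^ p = 1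
    rw [conj_pow, hx', mul_one, mul_inv_cancel]
  haveI : ((D.map H.subtype).subgroupOf N).Normal := ⟨fun x hx n => hDN n n.2 x hx⟩
  have hne : (D.map H.subtype).subgroupOf N ≠ ⊥ := fun h => by
    have h1 := Nat.card_congr (Subgroup.subgroupOfEquivOfLe
      ((Subgroup.map_subtype_le D).trans le_sup_left : D.map H.subtype ≤ N)).toEquiv
    rw [h, Subgroup.card_bot, Subgroup.card_map_of_injective H.subtype_injective, hd] at h1
    exact absurd h1 (Nat.ne_of_lt (Nat.one_lt_pow two_ne_zero hp.1.one_lt))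
  obtain ⟨⟨c, hc⟩, hcne⟩ := (Subgroup.ne_bot_iff_exists_ne_one).1
    (CfsgLib.PGroups.inf_center_ne_bot (isPGroup_of_le hNS hS) hne)
  obtain ⟨e, heD, hec⟩ :
      ∃ e ∈ D, (e : Ω) = (c : Ω) := hc.1
  have he1 : e ≠ 1 := fun h => hcne (Subtype.ext (Subtype.ext (by
    show (c : Ω) = 1
    rw [← hec, h]; rfl)))
  have hτe' : τ e = e := Subtype.ext (by
    rw [← autFun_coe, hτe _ e.2, cj_apply]
    have := congrArg Subtype.val
      (Subgroup.mem_center_iff.1 hc.2 ⟨g, (le_sup_right : Subgroup.zpowers g ≤ N)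
        (Subgroup.mem_zpowers g)⟩)
    rw [hec, show g * (c : Ω) = (c : Ω) * g from this, mul_inv_cancel_right])
  have hecard : Nat.card (Subgroup.zpowers e) = p := by
    rw [Nat.card_zpowers, orderOf_eq_prime ((hDmem e).1 heD) he1]
  have hline : ∀ x ∈ D, x⁻¹ * τ x ∈ Subgroup.zpowers e := by
    intro x hx
    obtain ⟨w, hw, hwe⟩ := step_triv hS ((Subgroup.map_subtype_le D).trans hHS)
      (Subgroup.map_mono (Subgroup.zpowers_le.2 heD))
      (by rw [Subgroup.card_map_of_injective H.subtype_injective,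
        Subgroup.card_map_of_injective H.subtype_injective, hd, hecard, sq]) hgS
      (fun a ha => by
        obtain ⟨w, hw, rfl⟩ := ha
        obtain ⟨i, rfl⟩ := Subgroup.mem_zpowers_iff.1 hw
        refine ⟨e ^ i, zpow_mem (Subgroup.mem_zpowers e) i, ?_⟩
        have h5 : τ (e ^ i) = e ^ i := by rw [map_zpow, hτe']
        show ((e ^ i : H) : Ω) = cj g ((e ^ i : H) : Ω)
        rw [← hτe _ (e ^ i : H).2, autFun_coe, h5])
      (fun y hy => hDN g ((le_sup_right : Subgroup.zpowers g ≤ N) (Subgroup.mem_zpowers g)) y hy)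
      x ⟨x, hx, rfl⟩
    have h6 : x⁻¹ * τ x = w := by
      apply Subtype.ext
      rw [Subgroup.coe_mul, Subgroup.coe_inv, ← autFun_coe τ x, hτe x x.2]
      exact hwe.symm
    rw [h6]
    exact hw
  -- the difference map
  let δ : H →* H := MonoidHom.mk' (fun x => x⁻¹ * τ x) fun x y => by
    rw [map_mul, mul_inv_rev, mul_comm y⁻¹ x⁻¹, mul_mul_mul_comm]
  have hδδ : ∀ x ∈ D, δ (δ x) = 1 := fun x hx => by
    obtain ⟨i, hi⟩ := Subgroup.mem_zpowers_iff.1 (hline x hx)
    have h7 : δ x = e ^ i := hi.symm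
    rw [h7]
    show (e ^ i)⁻¹ * τ (e ^ i) = 1
    rw [map_zpow, hτe', inv_mul_cancel]
  have hpK : ∀ x : H, x ^ p ^ (K - 1) = 1 → x ∈ (P 1).range := by
    intro x hx
    have hle : (P 1).range ≤ (P (K - 1)).ker := by
      rintro _ ⟨y, rfl⟩
      rw [MonoidHom.mem_ker, hP, hP, pow_one, ← pow_mul, ← pow_succ',
        show K - 1 + 1 = K by omega, hK]
    have h1 : Nat.card D * Nat.card (P 1).range = Nat.card H := by
      rw [← Subgroup.index_ker, Subgroup.card_mul_index]
    rw [hd, hHcard, show p ^ (2 * K) = p ^ 2 * p ^ (2 * (K - 1)) by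
      rw [← pow_add]; congr 1; omega] at h1
    have heq := Subgroup.eq_of_le_of_card_ge hle (by
      rw [hcardK (K - 1) (by omega), Nat.eq_of_mul_eq_mul_left (pow_pos hp.1.pos 2) h1])
    rw [heq, MonoidHom.mem_ker, hP]
    exact hx
  have hδ2 : ∀ x : H, δ (δ x) ∈ (P 1).range := fun x => by
    apply hpK
    rw [← map_pow δ, ← map_pow δ]
    exact hδδ _ ((hDmem _).2 (by rw [← pow_mul, ← pow_succ, show K - 1 + 1 = K by omega, hK]))
  have hτp : τ ^ p = 1 := by
    refine hR1 _ ⟨Subgroup.pow_mem _ hτA p, fun x hx => ?_⟩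
    have hm : ∀ j : ℕ, (τ ^ j) x = x * (δ x) ^ j := by
      intro j
      induction j with
      | zero => rw [pow_zero, pow_zero, mul_one]; rfl
      | succ j ih =>
        have h1 : τ x = x * δ x := (mul_inv_cancel_left x (τ x)).symm
        have h2 : τ (δ x) = δ x := by
          obtain ⟨i, hi⟩ := Subgroup.mem_zpowers_iff.1 (hline x hx)
          have h7 : δ x = e ^ i := hi.symm
          rw [h7, map_zpow, hτe']
        rw [pow_succ', MulAut.mul_apply, ih, map_mul, map_pow, h2, h1, pow_succ', mul_assoc]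
    rw [hm]
    have : (δ x) ^ p = 1 := by rw [← map_pow, (hDmem x).1 hx, map_one]
    rw [this, mul_one]
  -- the binomial expansion
  have hexpand : ∀ (n : ℕ) (x : H),
      (τ ^ n) x = ∏ j ∈ Finset.range (n + 1), (δ^[j] x) ^ n.choose j := by
    intro n
    induction n with
    | zero => intro x; simp
    | succ n ih =>
      intro x
      have hτ' : ∀ y, τ y = y * δ y := fun y => (mul_inv_cancel_left y (τ y)).symm
      rw [pow_succ', MulAut.mul_apply, ih, hτ', map_prod, Finset.prod_range_succ' _ (n + 1)]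
      simp only [Function.iterate_succ', Function.comp, map_pow, Nat.choose_succ_succ, pow_add,
        Finset.prod_mul_distrib, Nat.choose_zero_right, pow_one, Function.iterate_zero, id]
      rw [mul_comm (∏ j ∈ Finset.range (n + 1), (δ^[j] x) ^ n.choose j), mul_assoc]
      congr 1
      rw [Finset.prod_range_succ' (fun j => (δ^[j] x) ^ n.choose j) n]
      simp only [Function.iterate_succ', Function.comp, Nat.choose_zero_right, pow_one,
        Function.iterate_zero, id]
      congr 1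
      rw [Finset.prod_range_succ, Nat.choose_succ_self, pow_zero, mul_one]
  have hδP : ∀ y : H, y ∈ (P 1).range → δ (δ y) ∈ (P 2).range := by
    rintro _ ⟨y, rfl⟩
    obtain ⟨z, hz⟩ := hδ2 y
    refine ⟨z, ?_⟩
    rw [hP, hP, map_pow, map_pow, ← hz, hP, pow_one, sq, pow_mul]
  have hbig : ∀ j, 4 ≤ j → ∀ x : H, δ^[j] x ∈ (P 2).range := by
    intro j hj x
    obtain ⟨i, rfl⟩ : ∃ i, j = i + 4 := ⟨j - 4, by omega⟩
    rw [Nat.add_comm, Function.iterate_add_apply]
    exact hδP _ (hδ2 _)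
  have hmid : ∀ j, 2 ≤ j → j < p → ∀ x : H, (δ^[j] x) ^ p.choose j ∈ (P 2).range := by
    intro j hj hjp x
    obtain ⟨c, hc⟩ := hp.1.dvd_choose_self (by omega) hjp
    obtain ⟨i, rfl⟩ : ∃ i, j = i + 2 := ⟨j - 2, by omega⟩
    rw [hc, Nat.add_comm, Function.iterate_add_apply, pow_mul]
    obtain ⟨z, hz⟩ := hδ2 (δ^[i] x)
    refine Subgroup.pow_mem (P 2).range ⟨z, ?_⟩ c
    show P 2 z = (δ (δ (δ^[i] x))) ^ p
    rw [← hz, hP, hP, pow_one, ← pow_mul, sq]
  have hδx : ∀ x : H, δ x ∈ (P 1).range := by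
    intro x
    have h := hexpand p x
    rw [hτp, MulAut.one_apply, ← Finset.prod_range_mul_prod_Ico _ (show 2 ≤ p + 1 by omega),
      Finset.prod_range_succ, Finset.prod_range_succ, Finset.prod_range_zero, one_mul] at h
    simp only [Function.iterate_zero, id, Nat.choose_zero_right, pow_one, Function.iterate_one,
      Nat.choose_one_right, mul_assoc] at h
    rw [left_eq_mul] at h
    have hrest : ∏ j ∈ Finset.Ico 2 (p + 1), (δ^[j] x) ^ p.choose j ∈ (P 2).range := by
      refine Subgroup.prod_mem _ fun j hj => ?_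
      rw [Finset.mem_Ico] at hj
      by_cases hjp : j < p
      · exact hmid j hj.1 hjp x
      · rw [show j = p by omega, Nat.choose_self, pow_one]
        exact hbig p (by omega) x
    obtain ⟨z, hz⟩ := Subgroup.inv_mem _ hrest
    have h2 : (δ x) ^ p = z ^ p ^ 2 := by
      rw [← hP 2 z, hz]
      exact eq_inv_of_mul_eq_one_left h
    -- `δ x` differs from a `p`-th power by an element of `D`
    have h3 : δ x * (z ^ p)⁻¹ ∈ D := by
      rw [hDmem, mul_pow, inv_pow, h2, ← pow_mul, sq, mul_inv_cancel]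
    obtain ⟨y, hy⟩ := htop _ h3
    refine ⟨y ^ p ^ (K - 2) * z, ?_⟩
    rw [hP, pow_one, mul_pow, ← pow_mul, ← pow_succ, show K - 2 + 1 = K - 1 by omega, hy,
      inv_mul_cancel_right]
  -- hence `τ` is trivial
  have hτ1 : τ = 1 := hR1 τ ⟨hτA, fun x hx => by
    obtain ⟨y, rfl⟩ := htop x hx
    obtain ⟨z, hz⟩ := hδx y
    have h1 : τ y = y * z ^ p := by
      rw [← pow_one p, ← hP 1 z, hz]; exact (mul_inv_cancel_left y (τ y)).symm
    rw [map_pow, h1, mul_pow, ← pow_mul, ← pow_succ', show K - 1 + 1 = K by omega, hK, mul_one]⟩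
  refine hgH (centric_centralizer_le hH.1 (mem_centralizerIn.2 ⟨hgS, fun y hy => ?_⟩))
  rw [← hτe y hy, hτ1, autFun_one hy]

end CfsgLib.Fusion.SmallEss
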