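import Mathlib
import Cfsg.Agent.Lib.Fusion.SmallEssentialAbelian

/-!
# Strongly embedded subgroups in groups of automorphisms of an elementary group of order `p ^ 3`

A group of automorphisms of an elementary abelian group of order `p ^ 3` with a strongly embedded
subgroup has Sylow `p`-subgroups of order `p`; a transvection in it gives an involution with
eigenvalues `1, -1, -1`.
-/

set_option autoImplicit false
set_option linter.unusedSectionVars false

namespace CfsgLib.Fusion.TransvectionStrong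

open Subgroup

universe u

variable {V : Type u} [CommGroup V] [Finite V] {p : ℕ} [hp : Fact p.Prime]

/-- The displacement of an automorphism. -/
def dis (α : MulAut V) : V →* V :=
  MonoidHom.mk' (fun x => x⁻¹ * α x) fun x y => by
    rw [map_mul, mul_inv_rev, mul_comm y⁻¹ x⁻¹, mul_mul_mul_comm]

theorem dis_apply (α : MulAut V) (x : V) : dis α x = x⁻¹ * α x := rfl

theorem apply_eq (α : MulAut V) (x : V) : α x = x * dis α x := (mul_inv_cancel_left x (α x)).symm

theorem apply_eq_self {α : MulAut V} {x : V} (h : dis α x = 1) : α x = x := by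
  rw [apply_eq α x, h, mul_one]

/-- An automorphism fixing its own displacements has order dividing `p`. -/
theorem pow_eq_one (hexp : ∀ x : V, x ^ p = 1) {α : MulAut V}
    (h : ∀ x, α (dis α x) = dis α x) : α ^ p = 1 := by
  refine MulEquiv.ext fun x => ?_
  have hm : ∀ j : ℕ, (α ^ j) x = x * dis α x ^ j := by
    intro j
    induction j with
    | zero => simp
    | succ j ih =>
      rw [pow_succ', MulAut.mul_apply, ih, map_mul, map_pow, h, apply_eq α x, mul_assoc,
        ← pow_succ']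
  rw [hm, hexp, mul_one]
  rfl

/-- `a` is a transvection with centre `U₁` and axis `U₂`. -/
structure IsTv (p : ℕ) (a : MulAut V) (U₁ U₂ : Subgroup V) : Prop where
  card : Nat.card V = p ^ 3
  card₁ : Nat.card U₁ = p
  card₂ : Nat.card U₂ = p ^ 2
  le : U₁ ≤ U₂
  fix : ∀ x ∈ U₂, dis a x = 1
  mem : ∀ x, dis a x ∈ U₁
  ne : a ≠ 1

variable {a : MulAut V} {U₁ U₂ : Subgroup V}

theorem IsTv.range_eq (T : IsTv p a U₁ U₂) : (dis a).range = U₁ := by
  have hle : (dis a).range ≤ U₁ := by rintro _ ⟨x, rfl⟩; exact T.mem x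
  have hdvd := Subgroup.card_dvd_of_le hle
  rw [T.card₁] at hdvd
  rcases (Nat.dvd_prime hp.1).1 hdvd with h | h
  · exfalso
    refine T.ne (MulEquiv.ext fun x => apply_eq_self ?_)
    have hx : dis a x ∈ (dis a).range := ⟨x, rfl⟩
    rwa [Subgroup.card_eq_one.1 h, mem_bot] at hx
  · exact eq_of_le_of_card_ge hle (by rw [h, T.card₁])

theorem IsTv.ker_eq (T : IsTv p a U₁ U₂) : (dis a).ker = U₂ := by
  refine (eq_of_le_of_card_ge (fun x hx => T.fix x hx) ?_).symm
  have h1 := (dis a).ker.card_mul_index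
  rw [Subgroup.index_ker, T.range_eq, T.card₁, T.card, pow_succ] at h1
  rw [T.card₂, Nat.eq_of_mul_eq_mul_right hp.1.pos h1]

theorem IsTv.pow (T : IsTv p a U₁ U₂) (hexp : ∀ x : V, x ^ p = 1) : a ^ p = 1 :=
  pow_eq_one hexp fun x => apply_eq_self (T.fix _ (T.le (T.mem x)))

theorem dis_conj (g a : MulAut V) (x : V) : dis (g * a * g⁻¹) x = g (dis a (g⁻¹ x)) := by
  rw [dis_apply, dis_apply, map_mul, map_inv, MulAut.mul_apply, MulAut.mul_apply,
    MulAut.apply_inv_self]

/-- Two commuting elements of order `p` are conjugate into a given Sylow subgroup. -/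
theorem exists_conj_pair {X : Type*} [Group X] [Finite X] (P : Sylow p X) {c d : X}
    (hcd : Commute c d) (hc : c ^ p = 1) (hd : d ^ p = 1) :
    ∃ h : X, h * c * h⁻¹ ∈ (P : Subgroup X) ∧ h * d * h⁻¹ ∈ (P : Subgroup X) := by
  have hz : ∀ {e : X}, e ^ p = 1 → IsPGroup p (zpowers e) := by
    intro e he
    rintro ⟨_, i, rfl⟩
    refine ⟨1, Subtype.ext ?_⟩
    show (e ^ i) ^ p ^ 1 = 1
    rw [pow_one, ← zpow_natCast, ← zpow_mul, mul_comm, zpow_mul, zpow_natCast, he, one_zpow]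
  have hn : zpowers c ≤ normalizer ((zpowers d : Subgroup X) : Set X) := by
    refine zpowers_le.2 (mem_normalizer_iff_map_conj_eq.2 ?_)
    rw [MonoidHom.map_zpowers]
    congr 1
    show c * d * c⁻¹ = d
    rw [hcd.eq, mul_inv_cancel_right]
  obtain ⟨Q, hQ⟩ := ((hz hc).to_sup_of_normal_right' (hz hd) hn).exists_le_sylow
  obtain ⟨h, hh⟩ := MulAction.exists_smul_eq X Q P
  refine ⟨h, ?_, ?_⟩ <;> rw [← hh, Sylow.coe_subgroup_smul, mem_pointwise_smul_iff_inv_smul_mem]
  · simp only [← map_inv, MulAut.smul_def, MulAut.conj_apply]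
    simpa [mul_assoc] using hQ (mem_sup_left (mem_zpowers c))
  · simp only [← map_inv, MulAut.smul_def, MulAut.conj_apply]
    simpa [mul_assoc] using hQ (mem_sup_right (mem_zpowers d))

variable {A : Subgroup (MulAut V)} {P : Sylow p A} {H : Subgroup A}

/-- An element moving the centre of a transvection into its axis lies in the embedded subgroup. -/
theorem mem_of_map_le (hexp : ∀ x : V, x ^ p = 1)
    (hH : ∀ x a : A, a ∈ (P : Subgroup A) → a ≠ 1 → x * a * x⁻¹ ∈ (P : Subgroup A) → x ∈ H)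
    {a : A} (T : IsTv p (a : MulAut V) U₁ U₂) (haP : a ∈ (P : Subgroup A)) (g : A)
    (hg : ∀ x ∈ U₁, (g : MulAut V) x ∈ U₂) : g ∈ H := by
  have ha1 : a ≠ 1 := fun h => T.ne (by rw [h]; rfl)
  set b : A := g * a * g⁻¹ with hb
  have hap : a ^ p = 1 := Subtype.ext (T.pow hexp)
  have hbp : b ^ p = 1 := by rw [hb, conj_pow, hap, mul_one, mul_inv_cancel]
  have hdb : ∀ x, dis (b : MulAut V) x = (g : MulAut V) (dis (a : MulAut V) ((g : MulAut V)⁻¹ x)) :=
    fun x => dis_conj _ _ x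
  set δa := dis (a : MulAut V) with hδa
  set δb := dis (b : MulAut V) with hδb
  have hab : ∀ x, δa (δb x) = 1 := fun x => T.fix _ (by rw [hdb]; exact hg _ (T.mem _))
  have haa : ∀ x, δa (δa x) = 1 := fun x => T.fix _ (T.le (T.mem x))
  have hbb : ∀ x, δb (δb x) = 1 := fun x => by
    rw [hdb (δb x), hdb x, MulAut.inv_apply_self, haa, map_one]
  have hA : ∀ x, (a : MulAut V) x = x * δa x := apply_eq _
  have hB : ∀ x, (b : MulAut V) x = x * δb x := apply_eq _
  by_cases hcomm : ∀ x, δb (δa x) = 1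
  · -- the two transvections commute
    have hc : Commute a b := Subtype.ext (MulEquiv.ext fun x => by
      show (a : MulAut V) ((b : MulAut V) x) = (b : MulAut V) ((a : MulAut V) x)
      rw [hA x, hB x, hA, hB, map_mul, map_mul, hab, hcomm, mul_one, mul_one, mul_right_comm])
    obtain ⟨h, h1, h2⟩ := exists_conj_pair P hc hap hbp
    have h3 := hH h a haP ha1 h1
    have h4 : h * g ∈ H := hH (h * g) a haP ha1 (by simpa [hb, mul_assoc] using h2)
    exact (mul_mem_cancel_left h3).1 h4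
  · -- their commutator commutes with both
    set τ : A := (a * b)⁻¹ * (b * a) with hτ
    have hτx : ∀ x, (τ : MulAut V) x = x * δb (δa x) := by
      intro x
      have h1 : ((a * b : A) : MulAut V) (x * δb (δa x)) = ((b * a : A) : MulAut V) x := by
        show (a : MulAut V) ((b : MulAut V) _) = (b : MulAut V) ((a : MulAut V) x)
        rw [hB, hA, hA x, hB (x * δa x)]
        simp only [map_mul, hab, hbb, mul_one]
        simp only [mul_comm, mul_left_comm, mul_assoc]
      show ((a * b : A) : MulAut V)⁻¹ (((b * a : A) : MulAut V) x) = _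
      rw [← h1, MulAut.inv_apply_self]
    have hτ1 : τ ≠ 1 := by
      intro h
      refine hcomm fun x => ?_
      have h1 := hτx x
      rw [h] at h1
      exact mul_eq_left.1 h1.symm
    have hτd : ∀ x, dis (τ : MulAut V) x = δb (δa x) := fun x => by
      rw [dis_apply, hτx, inv_mul_cancel_left]
    have hτp : τ ^ p = 1 := Subtype.ext (pow_eq_one hexp fun x => apply_eq_self (by
      rw [hτd, hτd, hab, map_one]))
    have hc1 : Commute a τ := Subtype.ext (MulEquiv.ext fun x => by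
      show (a : MulAut V) ((τ : MulAut V) x) = (τ : MulAut V) ((a : MulAut V) x)
      rw [hτx, hτx, hA, hA x]
      simp only [map_mul, hab, haa, mul_one, map_one]
      simp only [mul_comm, mul_left_comm, mul_assoc])
    have hc2 : Commute τ b := Subtype.ext (MulEquiv.ext fun x => by
      show (τ : MulAut V) ((b : MulAut V) x) = (b : MulAut V) ((τ : MulAut V) x)
      rw [hτx, hτx, hB, hB (x * δb (δa x))]
      simp only [map_mul, hab, hbb, mul_one, map_one]
      simp only [mul_comm, mul_left_comm, mul_assoc])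
    obtain ⟨h, h1, h2⟩ := exists_conj_pair P hc1 hap hτp
    obtain ⟨k, k1, k2⟩ := exists_conj_pair P hc2 hτp hbp
    have h3 := hH h a haP ha1 h1
    have h4 : k * h⁻¹ ∈ H := hH _ _ h2 (by simpa using hτ1) (by simpa [mul_assoc] using k1)
    have h5 : k * g ∈ H := hH (k * g) a haP ha1 (by simpa [hb, mul_assoc] using k2)
    have h6 : k ∈ H := by simpa using mul_mem h4 h3
    exact (mul_mem_cancel_left h6).1 h5

/-- Some element moves the centre off the axis. -/
theorem exists_move (hexp : ∀ x : V, x ^ p = 1)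
    (hH : ∀ x a : A, a ∈ (P : Subgroup A) → a ≠ 1 → x * a * x⁻¹ ∈ (P : Subgroup A) → x ∈ H)
    (hne : H ≠ ⊤) {a : A} (T : IsTv p (a : MulAut V) U₁ U₂) (haP : a ∈ (P : Subgroup A)) :
    ∃ g : A, g ∉ H ∧ (∃ x ∈ U₁, (g : MulAut V) x ∉ U₂) ∧ ∃ x ∈ U₁, (g : MulAut V)⁻¹ x ∉ U₂ := by
  obtain ⟨g, hg⟩ : ∃ g, g ∉ H := by
    by_contra! h
    exact hne (eq_top_iff.2 fun x _ => h x)
  refine ⟨g, hg, ?_, ?_⟩
  · by_contra! h
    exact hg (mem_of_map_le hexp hH T haP g h)
  · by_contra! h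
    exact hg (inv_mem_iff.1 (mem_of_map_le hexp hH T haP g⁻¹ h))

/-- The Sylow `p`-subgroups have order at most `p`. -/
theorem card_sylow_le (hV : Nat.card V = p ^ 3) (hexp : ∀ x : V, x ^ p = 1)
    (hH : ∀ x a : A, a ∈ (P : Subgroup A) → a ≠ 1 → x * a * x⁻¹ ∈ (P : Subgroup A) → x ∈ H)
    (hne : H ≠ ⊤) {U₁ U₂ : Subgroup V} (h12 : U₁ ≤ U₂) (hc1 : Nat.card U₁ = p)
    (hc2 : Nat.card U₂ = p ^ 2)
    (ht1 : ∀ t ∈ (P : Subgroup A), ∀ x ∈ U₁, dis (t : MulAut V) x = 1)
    (ht2 : ∀ t ∈ (P : Subgroup A), ∀ x ∈ U₂, dis (t : MulAut V) x ∈ U₁)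
    (ht3 : ∀ t ∈ (P : Subgroup A), ∀ x, dis (t : MulAut V) x ∈ U₂) :
    Nat.card (P : Subgroup A) ≤ p := by
  by_contra hlt
  have hPp : p ^ 2 ≤ Nat.card (P : Subgroup A) := by
    obtain ⟨k, hk⟩ := IsPGroup.iff_card.1 P.2
    rw [hk] at hlt ⊢
    refine Nat.pow_le_pow_right hp.1.pos ?_
    by_contra hk2
    exact hlt ((Nat.pow_le_pow_right hp.1.pos (show k ≤ 1 by omega)).trans (pow_one p).le)
  obtain ⟨e, he⟩ : ∃ e, e ∉ U₂ := by
    by_contra! h
    have h1 : U₂ = ⊤ := eq_top_iff.2 fun x _ => h x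
    rw [h1, Subgroup.card_top, hV] at hc2
    exact absurd (Nat.pow_right_injective hp.1.two_le hc2) (by decide)
  have hgen : ∀ x : V, x ∈ U₂ ⊔ zpowers e := by
    have h1 : Nat.card U₂ < Nat.card ↥(U₂ ⊔ zpowers e) := by
      refine lt_of_le_of_ne (card_le_of_le le_sup_left) fun h => he ?_
      rw [eq_of_le_of_card_ge le_sup_left h.ge]
      exact mem_sup_right (mem_zpowers e)
    obtain ⟨k, hk, hk'⟩ := (Nat.dvd_prime_pow hp.1).1 (hV ▸ card_subgroup_dvd_card (U₂ ⊔ zpowers e))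
    rw [hk', hc2, Nat.pow_lt_pow_iff_right hp.1.one_lt] at h1
    have htop : U₂ ⊔ zpowers e = ⊤ := eq_top_of_card_eq _ (by rw [hk', hV, show k = 3 by omega])
    exact fun x => htop ▸ mem_top x
  -- a transvection in the Sylow subgroup
  let q := QuotientGroup.mk' U₁
  let φ : ↥(P : Subgroup A) →* V ⧸ U₁ :=
    MonoidHom.mk' (fun t => q (dis ((t : A) : MulAut V) e)) fun t u => by
      have h1 : dis (((t * u : ↥(P : Subgroup A)) : A) : MulAut V) e =
          dis ((t : A) : MulAut V) e * dis ((u : A) : MulAut V) e *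
            dis ((t : A) : MulAut V) (dis ((u : A) : MulAut V) e) := by
        show e⁻¹ * ((t : A) : MulAut V) (((u : A) : MulAut V) e) = _
        rw [apply_eq ((u : A) : MulAut V) e, map_mul, apply_eq ((t : A) : MulAut V) e,
          apply_eq ((t : A) : MulAut V) (dis ((u : A) : MulAut V) e)]
        simp only [mul_assoc, inv_mul_cancel_left]
      rw [h1, map_mul, map_mul, show q (dis ((t : A) : MulAut V) (dis ((u : A) : MulAut V) e)) = 1
        from (QuotientGroup.eq_one_iff _).2 (ht2 _ t.2 _ (ht3 _ u.2 e)), mul_one]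
  have hφ : Nat.card φ.range ≤ p := by
    have h1 : φ.range ≤ U₂.map q := by
      rintro _ ⟨t, rfl⟩
      exact ⟨_, ht3 _ t.2 e, rfl⟩
    refine (card_le_of_le h1).trans ?_
    have h2 := Subgroup.relIndex_mul_relIndex ⊥ U₁ U₂ bot_le h12
    rw [Subgroup.relIndex_bot_left, Subgroup.relIndex_bot_left, hc1, hc2, sq] at h2
    rw [← Subgroup.relIndex_ker, QuotientGroup.ker_mk', Nat.eq_of_mul_eq_mul_left hp.1.pos h2]
  -- members of the kernel move everything into the line
  have hker : ∀ t : ↥(P : Subgroup A), t ∈ φ.ker → ∀ x, dis ((t : A) : MulAut V) x ∈ U₁ := by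
    intro t ht x
    obtain ⟨w, hw, _, ⟨k, rfl⟩, rfl⟩ := mem_sup.1 (hgen x)
    rw [map_mul, map_zpow]
    exact mul_mem (ht2 _ t.2 w hw) (zpow_mem ((QuotientGroup.eq_one_iff _).1 ht) k)
  have hcard := φ.ker.card_mul_index
  rw [Subgroup.index_ker] at hcard
  have hK : p ≤ Nat.card φ.ker := by
    by_contra hK
    have : Nat.card φ.ker * Nat.card φ.range < p * p :=
      Nat.mul_lt_mul_of_lt_of_le (not_le.1 hK) hφ hp.1.pos
    rw [hcard, ← sq] at this
    exact absurd hPp (not_le.2 this)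
  obtain ⟨t₀, ht0, ht01⟩ : ∃ t ∈ φ.ker, t ≠ 1 := by
    by_contra! h
    have : φ.ker = ⊥ := (eq_bot_iff_forall _).2 h
    rw [this, Subgroup.card_bot] at hK
    exact absurd hK (not_le.2 hp.1.one_lt)
  obtain ⟨a, haP, ha⟩ : ∃ a : A, a ∈ (P : Subgroup A) ∧ IsTv p (a : MulAut V) U₁ U₂ := by
    by_cases hall : φ.ker = ⊤
    · -- kernel of the action on the axis
      obtain ⟨f, hf, hf1⟩ := SetLike.exists_of_lt (lt_of_le_of_ne h12 fun h => by
        rw [h, hc2] at hc1
        exact absurd hc1 (Nat.ne_of_gt (lt_self_pow₀ hp.1.one_lt one_lt_two)))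
      have hgen2 : ∀ x ∈ U₂, x ∈ U₁ ⊔ zpowers f := by
        have h1 : U₁ ⊔ zpowers f ≤ U₂ := sup_le h12 (zpowers_le.2 hf)
        have h2 : Nat.card U₁ < Nat.card ↥(U₁ ⊔ zpowers f) := by
          refine lt_of_le_of_ne (card_le_of_le le_sup_left) fun h => hf1 ?_
          rw [eq_of_le_of_card_ge le_sup_left h.ge]
          exact mem_sup_right (mem_zpowers f)
        obtain ⟨k, hk, hk'⟩ := (Nat.dvd_prime_pow hp.1).1 (hc2 ▸ card_dvd_of_le h1)
        rw [hk', hc1] at h2
        conv_lhs at h2 => rw [← pow_one p]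
        rw [Nat.pow_lt_pow_iff_right hp.1.one_lt] at h2
        have heq := eq_of_le_of_card_ge h1 (by rw [hk', hc2, show k = 2 by omega])
        exact fun x hx => heq.ge hx
      let ψ : ↥(P : Subgroup A) →* U₁ :=
        MonoidHom.mk' (fun t => ⟨dis ((t : A) : MulAut V) f, ht2 _ t.2 f hf⟩) fun t u => by
          refine Subtype.ext ?_
          show f⁻¹ * ((t : A) : MulAut V) (((u : A) : MulAut V) f) =
            dis ((t : A) : MulAut V) f * dis ((u : A) : MulAut V) f
          rw [apply_eq ((u : A) : MulAut V) f, map_mul, apply_eq ((t : A) : MulAut V) f,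
            apply_eq_self (ht1 _ t.2 _ (ht2 _ u.2 f hf))]
          simp only [mul_assoc, inv_mul_cancel_left]
      have h1 := ψ.ker.card_mul_index
      rw [Subgroup.index_ker] at h1
      obtain ⟨t, ht, ht'⟩ : ∃ t ∈ ψ.ker, t ≠ 1 := by
        by_contra! h
        rw [(eq_bot_iff_forall _).2 h, Subgroup.card_bot, one_mul] at h1
        have h2 := card_le_card_group ψ.range
        rw [h1, hc1] at h2
        exact hlt h2
      refine ⟨t, t.2, hV, hc1, hc2, h12, fun x hx => ?_,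
        hker t (hall ▸ mem_top _), fun h => ht' (Subtype.ext (Subtype.ext h))⟩
      obtain ⟨w, hw, _, ⟨k, rfl⟩, rfl⟩ := mem_sup.1 (hgen2 x hx)
      have htf : dis ((t : A) : MulAut V) f = 1 := congrArg Subtype.val ht
      rw [map_mul, map_zpow, ht1 _ t.2 w hw, htf, one_zpow, mul_one]
    · obtain ⟨u, hu⟩ : ∃ u, u ∉ φ.ker := by
        by_contra! h
        exact hall (eq_top_iff.2 fun x _ => h x)
      set f := dis ((u : A) : MulAut V) e with hf
      have hfU : f ∈ U₂ := ht3 _ u.2 e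
      have hfU1 : f ∉ U₁ := fun h => hu ((QuotientGroup.eq_one_iff _).2 h)
      have hgen2 : ∀ x ∈ U₂, x ∈ U₁ ⊔ zpowers f := by
        have h1 : U₁ ⊔ zpowers f ≤ U₂ := sup_le h12 (zpowers_le.2 hfU)
        have h2 : Nat.card U₁ < Nat.card ↥(U₁ ⊔ zpowers f) := by
          refine lt_of_le_of_ne (card_le_of_le le_sup_left) fun h => hfU1 ?_
          rw [eq_of_le_of_card_ge le_sup_left h.ge]
          exact mem_sup_right (mem_zpowers f)
        obtain ⟨k, hk, hk'⟩ := (Nat.dvd_prime_pow hp.1).1 (hc2 ▸ card_dvd_of_le h1)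
        rw [hk', hc1] at h2
        conv_lhs at h2 => rw [← pow_one p]
        rw [Nat.pow_lt_pow_iff_right hp.1.one_lt] at h2
        have heq := eq_of_le_of_card_ge h1 (by rw [hk', hc2, show k = 2 by omega])
        exact fun x hx => heq.ge hx
      by_cases htf : dis ((t₀ : A) : MulAut V) f = 1
      · refine ⟨t₀, t₀.2, hV, hc1, hc2, h12, fun x hx => ?_, hker t₀ ht0,
          fun h => ht01 (Subtype.ext (Subtype.ext h))⟩
        obtain ⟨w, hw, _, ⟨k, rfl⟩, rfl⟩ := mem_sup.1 (hgen2 x hx)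
        rw [map_mul, map_zpow, ht1 _ t₀.2 w hw, htf, one_zpow, mul_one]
      · set τ := t₀ * u * t₀⁻¹ * u⁻¹ with hτ
        have hτk : τ ∈ φ.ker := by
          rw [MonoidHom.mem_ker, hτ, map_mul, map_mul, map_mul, map_inv, map_inv,
            MonoidHom.mem_ker.1 ht0]
          simp
        refine ⟨τ, τ.2, hV, hc1, hc2, h12, fun x hx => ?_, hker τ hτk, fun h => htf ?_⟩
        · -- the commutator fixes the axis
          let ψ : ↥(P : Subgroup A) →* U₁ :=
            MonoidHom.mk' (fun t => ⟨dis ((t : A) : MulAut V) x, ht2 _ t.2 x hx⟩) fun t v => by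
              refine Subtype.ext ?_
              show x⁻¹ * ((t : A) : MulAut V) (((v : A) : MulAut V) x) =
                dis ((t : A) : MulAut V) x * dis ((v : A) : MulAut V) x
              rw [apply_eq ((v : A) : MulAut V) x, map_mul, apply_eq ((t : A) : MulAut V) x,
                apply_eq_self (ht1 _ t.2 _ (ht2 _ v.2 x hx))]
              simp only [mul_assoc, inv_mul_cancel_left]
          have h1 : ψ τ = 1 := by
            rw [hτ, map_mul, map_mul, map_mul, map_inv, map_inv, mul_comm (ψ t₀) (ψ u),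
              mul_inv_cancel_right, mul_inv_cancel]
          exact congrArg Subtype.val h1
        · have h1 : t₀ * u = u * t₀ := by
            have h1 : τ = 1 := Subtype.ext (Subtype.ext h)
            rwa [hτ, mul_inv_eq_one, mul_inv_eq_iff_eq_mul] at h1
          have h2 : ((t₀ : A) : MulAut V) (((u : A) : MulAut V) e) =
              ((u : A) : MulAut V) (((t₀ : A) : MulAut V) e) :=
            congrArg (fun z : ↥(P : Subgroup A) => ((z : A) : MulAut V) e) h1
          rw [apply_eq ((u : A) : MulAut V) e, map_mul, apply_eq ((t₀ : A) : MulAut V) e,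
            map_mul, apply_eq ((u : A) : MulAut V) e,
            apply_eq_self (ht1 _ u.2 _ (hker t₀ ht0 e)), ← hf,
            apply_eq ((t₀ : A) : MulAut V) f, mul_right_comm e f,
            ← mul_assoc] at h2
          exact mul_eq_left.1 h2
  -- count the images of the centre under the Sylow subgroup
  obtain ⟨g, hg, ⟨x₀, hx₀, hgx⟩, -⟩ := exists_move hexp hH hne ha haP
  have hline : ∀ x ∈ U₁, x ≠ 1 → (g : MulAut V) x ∉ U₂ := by
    intro x hx hx1 hxU
    refine hgx ?_
    have h1 : zpowers x = U₁ := eq_of_le_of_card_ge (zpowers_le.2 hx) (by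
      rw [hc1, Nat.card_zpowers, orderOf_eq_prime (hexp x) hx1])
    obtain ⟨k, rfl⟩ := mem_zpowers_iff.1 (h1.symm ▸ hx₀)
    rw [map_zpow]
    exact zpow_mem hxU k
  have hPU : ∀ t ∈ (P : Subgroup A), ∀ x, x ∉ U₂ → (t : MulAut V) x ∉ U₂ := by
    intro t ht x hx h
    rw [apply_eq] at h
    exact hx ((mul_mem_cancel_right (ht3 t ht x)).1 h)
  have hPH : ∀ t ∈ (P : Subgroup A), g⁻¹ * t * g ∈ H → t = 1 := by
    intro t ht h
    by_contra ht1'
    by_cases ht' : g⁻¹ * t * g ∈ (P : Subgroup A)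
    · exact hg (inv_mem_iff.1 (hH g⁻¹ t ht ht1' (by simpa using ht')))
    · -- conjugate into the Sylow subgroup inside `H`
      have hPle : (P : Subgroup A) ≤ H := fun x hx => by
        by_cases hx1 : x = 1
        · rw [hx1]; exact one_mem _
        · exact hH x x hx hx1 (by simpa using hx)
      let PH : Sylow p H :=
        P.subtype hPle
      obtain ⟨k, hk⟩ := P.2 ⟨t, ht⟩
      have hk' : t ^ p ^ k = 1 := congrArg Subtype.val hk
      have htp : IsPGroup p (zpowers (⟨g⁻¹ * t * g, h⟩ : H)) := by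
        rintro ⟨_, i, rfl⟩
        refine ⟨k, Subtype.ext ?_⟩
        show ((⟨g⁻¹ * t * g, h⟩ : H) ^ i) ^ p ^ k = 1
        rw [← zpow_natCast, ← zpow_mul, mul_comm, zpow_mul, zpow_natCast,
          show (⟨g⁻¹ * t * g, h⟩ : H) ^ p ^ k = 1 from Subtype.ext (by
            show (g⁻¹ * t * g) ^ p ^ k = 1
            have h2 : (g⁻¹ * t * g⁻¹⁻¹) ^ p ^ k = g⁻¹ * t ^ p ^ k * g⁻¹⁻¹ := conj_pow
            rw [inv_inv] at h2
            rw [h2, hk', mul_one, inv_mul_cancel]), one_zpow]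
      obtain ⟨Q, hQ⟩ := htp.exists_le_sylow
      obtain ⟨m, hm⟩ := MulAction.exists_smul_eq H Q PH
      have hmem : (m : A) * (g⁻¹ * t * g) * (m : A)⁻¹ ∈ (P : Subgroup A) := by
        have h1 : m * ⟨g⁻¹ * t * g, h⟩ * m⁻¹ ∈ (PH : Subgroup H) := by
          rw [← hm, Sylow.coe_subgroup_smul, mem_pointwise_smul_iff_inv_smul_mem]
          simp only [← map_inv, MulAut.smul_def, MulAut.conj_apply]
          simpa [mul_assoc] using hQ (mem_zpowers _)
        exact h1
      have h2 : (m : A) * g⁻¹ ∈ H := hH _ t ht ht1' (by simpa [mul_assoc] using hmem)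
      exact hg (inv_mem_iff.1 ((mul_mem_cancel_left m.2).1 h2))
  let Φ : ↥(P : Subgroup A) × {x : U₁ // x ≠ 1} → {x : V // x ∉ U₂} := fun q =>
    ⟨((q.1 : A) : MulAut V) ((g : MulAut V) ((q.2 : U₁) : V)),
      hPU _ q.1.2 _ (hline _ (q.2 : U₁).2 fun h => q.2.2 (Subtype.ext h))⟩
  have hinj : Function.Injective Φ := by
    rintro ⟨t, v⟩ ⟨t', v'⟩ h
    have h' : ((t : A) : MulAut V) ((g : MulAut V) ((v : U₁) : V)) =
        ((t' : A) : MulAut V) ((g : MulAut V) ((v' : U₁) : V)) := congrArg Subtype.val h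
    set s : A := g⁻¹ * ((t' : A)⁻¹ * (t : A)) * g with hs
    have hsv : (s : MulAut V) ((v : U₁) : V) = ((v' : U₁) : V) := by
      show (g : MulAut V)⁻¹ (((t' : A) : MulAut V)⁻¹ (((t : A) : MulAut V)
        ((g : MulAut V) ((v : U₁) : V)))) = _
      rw [h', MulAut.inv_apply_self, MulAut.inv_apply_self]
    have hsH : s ∈ H := by
      refine mem_of_map_le hexp hH ha haP s fun x hx => ?_
      have h1 : zpowers ((v : U₁) : V) = U₁ := eq_of_le_of_card_ge (zpowers_le.2 (v : U₁).2) (by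
        rw [hc1, Nat.card_zpowers, orderOf_eq_prime (hexp _) fun h => v.2 (Subtype.ext h)])
      obtain ⟨k, rfl⟩ := mem_zpowers_iff.1 (h1.symm ▸ hx)
      rw [map_zpow, hsv]
      exact zpow_mem (h12 (v' : U₁).2) k
    have htt : t = t' := by
      have := hPH _ (mul_mem (inv_mem t'.2) t.2) hsH
      exact Subtype.ext (inv_mul_eq_one.1 this).symm
    subst htt
    exact Prod.ext rfl (Subtype.ext (Subtype.ext ((g : MulAut V).injective
      (((t : A) : MulAut V).injective h'))))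
  have hcd : Nat.card {x : V // x ∉ U₂} ≤
      Nat.card (↥(P : Subgroup A) × {x : U₁ // x ≠ 1}) := by
    classical
    haveI := Fintype.ofFinite V
    have h1 : Nat.card {x : V // x ∉ U₂} = p ^ 3 - p ^ 2 := by
      rw [Nat.card_eq_fintype_card, Fintype.card_subtype_compl, ← Nat.card_eq_fintype_card,
        ← Nat.card_eq_fintype_card, hV]
      exact congrArg _ hc2
    have h2 : Nat.card {x : U₁ // x ≠ 1} = p - 1 := by
      rw [Nat.card_eq_fintype_card, Fintype.card_subtype_compl, Fintype.card_subtype_eq,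
        ← Nat.card_eq_fintype_card, hc1]
    rw [h1, Nat.card_prod, h2]
    calc p ^ 3 - p ^ 2 = p ^ 2 * (p - 1) := by rw [Nat.mul_sub, mul_one, ← pow_succ]
      _ ≤ _ := Nat.mul_le_mul_right _ hPp
  have hsurj := (hinj.bijective_of_nat_card_le hcd).2
  -- a point of the conjugate axis off the axis and off the conjugate centre
  obtain ⟨u, hu, huU, hu1⟩ : ∃ u ∈ U₂.map (g : MulAut V).toMonoidHom, u ∉ U₂ ∧
      u ∉ U₁.map (g : MulAut V).toMonoidHom := by
    set K := U₂.map (g : MulAut V).toMonoidHom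
    set W := U₁.map (g : MulAut V).toMonoidHom
    have hKW : W ≤ K := map_mono h12
    have hcK : Nat.card K = p ^ 2 := by
      rw [Subgroup.card_map_of_injective (g : MulAut V).injective, hc2]
    have hKne : ¬ K ≤ U₂ := fun h => hgx (h ⟨x₀, h12 hx₀, rfl⟩)
    have hWK : ¬ K ≤ W := fun h => by
      have := card_le_of_le h
      rw [hcK, Subgroup.card_map_of_injective (g : MulAut V).injective, hc1] at this
      exact absurd this (not_le.2 (lt_self_pow₀ hp.1.one_lt one_lt_two))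
    obtain ⟨k₁, hk1, hk1'⟩ := SetLike.not_le_iff_exists.1 hKne
    obtain ⟨k₂, hk2, hk2'⟩ := SetLike.not_le_iff_exists.1 hWK
    by_cases h1 : k₁ ∈ W
    · by_cases h2 : k₂ ∈ U₂
      · exact ⟨k₁ * k₂, mul_mem hk1 hk2, fun h => hk1' ((mul_mem_cancel_right h2).1 h),
          fun h => hk2' ((mul_mem_cancel_left h1).1 h)⟩
      · exact ⟨k₂, hk2, h2, hk2'⟩
    · exact ⟨k₁, hk1, hk1', h1⟩
  obtain ⟨⟨t, v⟩, htv⟩ := hsurj ⟨u, huU⟩
  have htv' : ((t : A) : MulAut V) ((g : MulAut V) ((v : U₁) : V)) = u := congrArg Subtype.val htv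
  have hmem : g⁻¹ * (t : A) * g ∈ H := by
    refine mem_of_map_le hexp hH ha haP _ fun x hx => ?_
    have h1 : zpowers ((v : U₁) : V) = U₁ := eq_of_le_of_card_ge (zpowers_le.2 (v : U₁).2) (by
      rw [hc1, Nat.card_zpowers, orderOf_eq_prime (hexp _) fun h => v.2 (Subtype.ext h)])
    obtain ⟨k, rfl⟩ := mem_zpowers_iff.1 (h1.symm ▸ hx)
    rw [map_zpow]
    refine zpow_mem ?_ k
    show (g : MulAut V)⁻¹ (((t : A) : MulAut V) ((g : MulAut V) ((v : U₁) : V))) ∈ U₂
    rw [htv']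
    obtain ⟨w, hw, hwu⟩ := hu
    rw [← hwu]
    show (g : MulAut V)⁻¹ ((g : MulAut V) w) ∈ U₂
    rwa [MulAut.inv_apply_self]
  refine hu1 ⟨((v : U₁) : V), (v : U₁).2, ?_⟩
  have ht : (t : A) = 1 := hPH _ t.2 hmem
  rw [ht] at htv'
  exact htv'

/-- An involution inverting the centre of a transvection and centralising it. -/
theorem exists_involution (hexp : ∀ x : V, x ^ p = 1)
    (hH : ∀ x a : A, a ∈ (P : Subgroup A) → a ≠ 1 → x * a * x⁻¹ ∈ (P : Subgroup A) → x ∈ H)
    (hne : H ≠ ⊤) {a : A} (T : IsTv p (a : MulAut V) U₁ U₂) (haP : a ∈ (P : Subgroup A)) :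
    ∃ ι ∈ A, ∃ c ∈ U₂, c ∉ U₁ ∧ ι c = c ∧ (∀ z ∈ U₁, ι z = z⁻¹) ∧ (∀ x, x * ι x ∈ U₂) ∧
      ι * (a : MulAut V) = (a : MulAut V) * ι := by
  obtain ⟨g, -, ⟨z, hz, hgz⟩, ⟨x', hx', hx'U⟩⟩ := exists_move hexp hH hne T haP
  have hz1 : z ≠ 1 := fun h => hgz (by rw [h, map_one]; exact one_mem _)
  have hzgen : zpowers z = U₁ := eq_of_le_of_card_ge (zpowers_le.2 hz) (by
    rw [T.card₁, Nat.card_zpowers, orderOf_eq_prime (hexp z) hz1])
  set w := (g : MulAut V) z with hw
  set b : MulAut V := (g : MulAut V) * (a : MulAut V) * (g : MulAut V)⁻¹ with hb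
  have hbA : b ∈ A := mul_mem (mul_mem g.2 a.2) (inv_mem g.2)
  have hbdis : ∀ x, dis b x = (g : MulAut V) (dis (a : MulAut V) ((g : MulAut V)⁻¹ x)) :=
    fun x => dis_conj _ _ x
  have hbmem : ∀ x, dis b x ∈ zpowers w := by
    intro x
    obtain ⟨k, hk⟩ := mem_zpowers_iff.1 (hzgen.ge (T.mem ((g : MulAut V)⁻¹ x)))
    exact mem_zpowers_iff.2 ⟨k, by rw [hbdis, ← hk, map_zpow]⟩
  have hbw : dis b w = 1 := by
    rw [hbdis, hw, MulAut.inv_apply_self, T.fix z (T.le hz), map_one]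
  have hbz : dis b z ≠ 1 := by
    intro h
    rw [hbdis, map_eq_one_iff _ (g : MulAut V).injective, ← MonoidHom.mem_ker, T.ker_eq] at h
    obtain ⟨k, rfl⟩ := mem_zpowers_iff.1 (hzgen.symm ▸ hx')
    rw [map_zpow] at hx'U
    exact hx'U (zpow_mem h k)
  have haw : dis (a : MulAut V) w ≠ 1 := fun h => hgz (T.ker_eq ▸ h)
  -- a fixed vector
  obtain ⟨c, hc, hc1, hcb⟩ : ∃ c ∈ U₂, c ≠ 1 ∧ dis b c = 1 := by
    let φ : U₂ →* zpowers w := ((dis b).comp U₂.subtype).codRestrict _ fun x => hbmem x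
    have h1 := φ.ker.card_mul_index
    rw [Subgroup.index_ker, T.card₂] at h1
    by_contra! h
    have hbot : φ.ker = ⊥ := (eq_bot_iff_forall _).2 fun x hx => by
      by_contra hx1
      exact h x x.2 (fun e => hx1 (Subtype.ext e)) (congrArg Subtype.val hx)
    rw [hbot, Subgroup.card_bot, one_mul] at h1
    have h2 := card_le_card_group φ.range
    rw [h1, Nat.card_zpowers] at h2
    have h3 : orderOf w ≤ p := Nat.le_of_dvd hp.1.pos (orderOf_dvd_of_pow_eq_one (hexp w))
    exact absurd (h2.trans h3) (not_le.2 (lt_self_pow₀ hp.1.one_lt one_lt_two))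
  have hca : dis (a : MulAut V) c = 1 := T.fix c hc
  have hcU1 : c ∉ U₁ := by
    intro h
    obtain ⟨k, rfl⟩ := mem_zpowers_iff.1 (hzgen.symm ▸ h)
    rw [map_zpow] at hcb
    have hd := orderOf_dvd_iff_zpow_eq_one.2 hcb
    rw [orderOf_eq_prime (hexp _) hbz] at hd
    refine hc1 ?_
    rw [← orderOf_dvd_iff_zpow_eq_one, orderOf_eq_prime (hexp z) hz1]
    exact hd
  set D : Subgroup V := zpowers z ⊔ zpowers w with hD
  have hzD : z ∈ D := mem_sup_left (mem_zpowers z)
  have hwD : w ∈ D := mem_sup_right (mem_zpowers w)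
  have hmap : ∀ {β : MulAut V}, β z ∈ D → β w ∈ D → ∀ x ∈ D, β x ∈ D := by
    intro β h1 h2 x hx
    have hle : D ≤ D.comap β.toMonoidHom := sup_le (zpowers_le.2 h1) (zpowers_le.2 h2)
    exact hle hx
  have haD : ∀ x ∈ D, (a : MulAut V) x ∈ D := by
    refine hmap ?_ ?_
    · rw [apply_eq_self (T.fix z (T.le hz))]; exact hzD
    · rw [apply_eq]; exact mul_mem hwD (mem_sup_left (hzgen.ge (T.mem w)))
  have hbD : ∀ x ∈ D, b x ∈ D := by
    refine hmap ?_ ?_
    · rw [apply_eq]; exact mul_mem hzD (mem_sup_right (hbmem z))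
    · rw [apply_eq_self hbw]; exact hwD
  have hcD : c ∉ D := by
    intro h
    obtain ⟨_, ⟨i, rfl⟩, _, ⟨j, rfl⟩, hij⟩ := mem_sup.1 h
    simp only at hij
    have h2 := hcb
    rw [← hij, map_mul, map_zpow, map_zpow, hbw, one_zpow, mul_one] at h2
    have hd := orderOf_dvd_iff_zpow_eq_one.2 h2
    rw [orderOf_eq_prime (hexp _) hbz, ← orderOf_eq_prime (hexp z) hz1,
      orderOf_dvd_iff_zpow_eq_one] at hd
    rw [hd, one_mul] at hij
    rw [← hij, map_zpow] at hca
    have hd2 := orderOf_dvd_iff_zpow_eq_one.2 hca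
    rw [orderOf_eq_prime (hexp _) haw] at hd2
    refine hc1 ?_
    rw [← hij, ← orderOf_dvd_iff_zpow_eq_one]
    exact dvd_trans (Int.natCast_dvd_natCast.2 (orderOf_dvd_of_pow_eq_one (hexp w))) hd2
  have hwz : w ∉ zpowers z := fun h => hgz (T.le (hzgen ▸ h))
  obtain ⟨hDc, htop⟩ : Nat.card D = p ^ 2 ∧ ∀ x, x ∈ D ⊔ zpowers c := by
    obtain ⟨k, hk, hk'⟩ := (Nat.dvd_prime_pow hp.1).1 (T.card ▸ card_subgroup_dvd_card D)
    obtain ⟨l, hl, hl'⟩ := (Nat.dvd_prime_pow hp.1).1
      (T.card ▸ card_subgroup_dvd_card (D ⊔ zpowers c))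
    have h1 : Nat.card U₁ < Nat.card D := by
      refine lt_of_le_of_ne (card_le_of_le (hzgen ▸ le_sup_left)) fun h => hwz ?_
      rw [hzgen, eq_of_le_of_card_ge (hzgen ▸ le_sup_left : U₁ ≤ D) h.ge]
      exact hwD
    have h2 : Nat.card D < Nat.card ↥(D ⊔ zpowers c) := by
      refine lt_of_le_of_ne (card_le_of_le le_sup_left) fun h => hcD ?_
      rw [eq_of_le_of_card_ge le_sup_left h.ge]
      exact mem_sup_right (mem_zpowers c)
    rw [hk', T.card₁] at h1
    conv_lhs at h1 => rw [← pow_one p]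
    rw [Nat.pow_lt_pow_iff_right hp.1.one_lt] at h1
    rw [hk', hl', Nat.pow_lt_pow_iff_right hp.1.one_lt] at h2
    have h3 : D ⊔ zpowers c = ⊤ := eq_top_of_card_eq _ (by rw [hl', T.card, show l = 3 by omega])
    exact ⟨by rw [hk', show k = 2 by omega], fun x => h3 ▸ mem_top x⟩
  let A' : Subgroup (MulAut D) :=
    { carrier := {α | ∃ β ∈ A, β c = c ∧ ∀ x : D, ((α x : D) : V) = β x}
      one_mem' := ⟨1, one_mem _, rfl, fun _ => rfl⟩
      mul_mem' := by
        rintro α α' ⟨β, hβ, hβc, h⟩ ⟨β', hβ', hβc', h'⟩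
        exact ⟨β * β', mul_mem hβ hβ', by rw [MulAut.mul_apply, hβc', hβc], fun x => by
          rw [MulAut.mul_apply, MulAut.mul_apply, h, h']⟩
      inv_mem' := by
        rintro α ⟨β, hβ, hβc, h⟩
        refine ⟨β⁻¹, inv_mem hβ, ?_, fun x => ?_⟩
        · conv_lhs => rw [← hβc]
          exact MulAut.inv_apply_self _ _ _
        · refine β.injective ?_
          rw [← h, MulAut.apply_inv_self, MulAut.apply_inv_self] }
  have hres : ∀ (β : MulAut V), (∀ x ∈ D, β x ∈ D) →
      ∃ α : MulAut D, ∀ x : D, ((α x : D) : V) = β x := by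
    intro β hβ
    refine ⟨MulEquiv.ofBijective ((β.toMonoidHom.comp D.subtype).codRestrict D fun x => hβ x x.2)
      (Function.Injective.bijective_of_nat_card_le ?_ le_rfl), fun x => rfl⟩
    exact fun x y h => Subtype.ext (β.injective (congrArg Subtype.val h))
  obtain ⟨τ, hτ⟩ := hres _ haD
  obtain ⟨σ, hσ⟩ := hres _ hbD
  set e₀ : D := ⟨z, hzD⟩
  set f₀ : D := ⟨w, hwD⟩
  obtain ⟨k, hk⟩ := mem_powers_iff_mem_zpowers.2 (hzgen.ge (T.mem w))
  obtain ⟨m, hm⟩ := mem_powers_iff_mem_zpowers.2 (hbmem z)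
  simp only at hk hm
  obtain ⟨-, α, ⟨β, hβ, hβc, hαβ⟩, hinv⟩ := CfsgLib.Fusion.SmallEss.exists_sl2 hDc A'
    (e := e₀) (f := f₀) (Subtype.ext (hexp z)) (Subtype.ext (hexp w))
    (fun h => hz1 (congrArg Subtype.val h))
    (fun h => by
      obtain ⟨i, hi⟩ := mem_zpowers_iff.1 h
      exact hwz (mem_zpowers_iff.2 ⟨i, congrArg Subtype.val hi⟩))
    (τ := τ) (σ := σ) ⟨_, a.2, apply_eq_self hca, hτ⟩ ⟨_, hbA, apply_eq_self hcb, hσ⟩
    (k := k) (m := m)
    (Subtype.ext (by rw [hτ]; exact apply_eq_self (T.fix z (T.le hz))))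
    (Subtype.ext (by
      rw [hτ]
      show (a : MulAut V) w = z ^ k * w
      rw [hk, mul_comm, ← apply_eq]))
    (fun hd => haw (by
      rw [← hk]
      obtain ⟨j, rfl⟩ := hd
      rw [pow_mul, hexp, one_pow]))
    (Subtype.ext (by rw [hσ]; exact apply_eq_self hbw))
    (Subtype.ext (by
      rw [hσ]
      show b z = z * w ^ m
      rw [hm, ← apply_eq]))
    (fun hd => hbz (by
      rw [← hm]
      obtain ⟨j, rfl⟩ := hd
      rw [pow_mul, hexp, one_pow]))
  have hβD : ∀ x ∈ D, β x = x⁻¹ := fun x hx => by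
    have := hαβ ⟨x, hx⟩
    rw [hinv] at this
    exact this.symm
  refine ⟨β, hβ, c, hc, hcU1, hβc, fun y hy => hβD y (mem_sup_left (hzgen.ge hy)), fun x => ?_,
    MulEquiv.ext fun x => ?_⟩
  · obtain ⟨d, hd, _, ⟨i, rfl⟩, rfl⟩ := mem_sup.1 (htop x)
    rw [map_mul, map_zpow, hβc, hβD d hd, mul_mul_mul_comm, mul_inv_cancel, one_mul]
    exact mul_mem (zpow_mem hc i) (zpow_mem hc i)
  · obtain ⟨d, hd, _, ⟨i, rfl⟩, rfl⟩ := mem_sup.1 (htop x)
    show β ((a : MulAut V) (d * c ^ i)) = (a : MulAut V) (β (d * c ^ i))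
    rw [map_mul, map_mul, map_mul, map_mul, map_zpow (a : MulAut V), apply_eq_self hca,
      map_zpow β, hβc, hβD d hd, hβD _ (haD d hd), map_inv, map_zpow, apply_eq_self hca]

end CfsgLib.Fusion.TransvectionStrong
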