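import Mathlib
import Cfsg.Agent.Lib.Fusion.TransvectionStrong
import Cfsg.Agent.Lib.Fusion.Normal
import Cfsg.Agent.Lib.Fusion.AutoPattern
import Cfsg.Agent.Lib.PGroups.MaximalClassWeights

/-!
# Small essential subgroups over a group of maximal class

Tools for showing that an essential subgroup of order `p ^ 3` over a group of maximal class of
order at least `p ^ 5` is extraspecial.
-/

set_option autoImplicit false
set_option linter.unusedSectionVars false

namespace CfsgLib.Fusion.MaxClassSmall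

open Cfsg Cfsg.FusionSystem CfsgLib.Fusion
open CfsgLib.PGroups.Pearl CfsgLib.FgsC.MaxClassSection
open CfsgLib.PGroups CfsgLib.PGroups.TwoStepConst CfsgLib.PGroups.MaxClassWeights
open scoped commutatorElement

universe u

variable {Ω : Type u} [Group Ω] {S : Subgroup Ω} [Finite S] {p n : ℕ} [hp : Fact p.Prime]
  {F : FusionSystem S}

/-- The terms of the lower central series of `S` as subgroups of the ambient group. -/
def lay (S : Subgroup Ω) (i : ℕ) : Subgroup Ω := (lcsT ↥S i).map S.subtype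

/-- `x` lies in the two-step centraliser number `i` of `S`. -/
def IC (S : Subgroup Ω) (i : ℕ) (x : Ω) : Prop := ∃ h : x ∈ S, ⟨x, h⟩ ∈ twoStepCentralizer ↥S i

theorem lay_le (i : ℕ) : lay S i ≤ S := Subgroup.map_subtype_le _

theorem mem_lay {i : ℕ} {x : S} : (x : Ω) ∈ lay S i ↔ x ∈ lcsT ↥S i :=
  Subgroup.mem_map_iff_mem S.subtype_injective

theorem mem_lay' {i : ℕ} {x : Ω} : x ∈ lay S i ↔ ∃ h : x ∈ S, (⟨x, h⟩ : S) ∈ lcsT ↥S i :=
  ⟨fun hx => ⟨lay_le i hx, mem_lay.1 hx⟩, fun ⟨_, hx⟩ => mem_lay.2 hx⟩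

theorem lay_anti {i j : ℕ} (h : j ≤ i) : lay S i ≤ lay S j :=
  Subgroup.map_mono (Subgroup.lowerCentralSeries_antitone _ h)

theorem lay_card (H : MC ↥S p n) {i : ℕ} (hi : 1 ≤ i) (hin : i ≤ n - 1) :
    Nat.card (lay S i) = p ^ (n - 1 - i) := by
  rw [lay, Subgroup.card_map_of_injective S.subtype_injective, H.card_lcs hi hin]

theorem lay_bot (H : MC ↥S p n) {i : ℕ} (hi : n - 1 ≤ i) : lay S i = ⊥ := by
  rw [lay, H.lcs_eq_bot hi, Subgroup.map_bot]

theorem lay_conj {i : ℕ} {g : Ω} (hg : g ∈ S) {x : Ω} (hx : x ∈ lay S i) : cj g x ∈ lay S i := by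
  obtain ⟨y, hy, rfl⟩ := hx
  exact ⟨(⟨g, hg⟩ : S) * y * (⟨g, hg⟩ : S)⁻¹, (lcsT_normal i).conj_mem y hy _, rfl⟩

theorem lay_comm {i : ℕ} {x y : Ω} (hx : x ∈ lay S i) (hy : y ∈ S) : ⁅x, y⁆ ∈ lay S (i + 1) := by
  obtain ⟨a, ha, rfl⟩ := hx
  exact ⟨⁅a, ⟨y, hy⟩⁆, comm_succ ha _, by rw [map_commutatorElement]; rfl⟩

theorem lay_comm_add {i j k : ℕ} {x y : Ω} (hx : x ∈ lay S i) (hy : y ∈ lay S j)
    (hk : k ≤ i + j + 1) : ⁅x, y⁆ ∈ lay S k := by
  obtain ⟨a, ha, rfl⟩ := hx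
  obtain ⟨b, hb, rfl⟩ := hy
  exact ⟨⁅a, b⁆, comm_add ha hb hk, map_commutatorElement _ _ _⟩

theorem lay_comm_IC {i : ℕ} {x a : Ω} (ha : a ∈ lay S i) (hx : IC S i x) :
    ⁅a, x⁆ ∈ lay S (i + 2) := by
  obtain ⟨b, hb, rfl⟩ := ha
  obtain ⟨h, hC⟩ := hx
  exact ⟨⁅b, ⟨x, h⟩⁆, mem_twoStepCentralizer.1 hC b hb, by rw [map_commutatorElement]; rfl⟩

theorem mem_norm {E : Subgroup Ω} (hES : E ≤ S) {g : Ω} (hg : g ∈ S)
    (h : ∀ y ∈ E, ⁅g, y⁆ ∈ E) : g ∈ normalizerIn S E := by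
  refine mem_normalizerIn.2 ⟨hg, ?_⟩
  have := finite_of_le hES
  have hle : E.map (MulAut.conj g).toMonoidHom ≤ E := by
    rintro _ ⟨y, hy, rfl⟩
    have h1 := E.mul_mem (h y hy) hy
    rwa [commutatorElement_def, inv_mul_cancel_right] at h1
  exact Subgroup.mem_normalizer_iff_map_conj_eq.2
    (Subgroup.eq_of_le_of_card_ge hle
      (by rw [Subgroup.card_map_of_injective (MulAut.conj g).injective]))

theorem lay_normalizer (i : ℕ) : normalizerIn S (lay S i) = S := by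
  refine le_antisymm normalizerIn_le fun g hg => mem_norm (lay_le i) hg fun y hy => ?_
  rw [commutatorElement_def]
  exact (lay S i).mul_mem (lay_conj hg hy) ((lay S i).inv_mem hy)

/-- A group of order a prime power strictly between two consecutive powers. -/
theorem pow_succ_le {A : Subgroup Ω} (hA : A ≤ S) (hS : IsPGroup p S) {k : ℕ}
    (h : p ^ k < Nat.card A) : p ^ (k + 1) ≤ Nat.card A := by
  have := finite_of_le hA
  obtain ⟨m, hm⟩ := IsPGroup.iff_card.1 (isPGroup_of_le hA hS)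
  rw [hm] at h ⊢
  exact Nat.pow_le_pow_right hp.1.pos ((Nat.pow_lt_pow_iff_right hp.1.one_lt).1 h)

theorem dvd_pow_cases {A : Subgroup Ω} {k : ℕ} {B : Subgroup Ω} (hAB : A ≤ B)
    (hB : Nat.card B = p ^ k) : ∃ j ≤ k, Nat.card A = p ^ j :=
  (Nat.dvd_prime_pow hp.1).1 (hB ▸ Subgroup.card_dvd_of_le hAB)

/-- The intersection of two subgroups inside a small one. -/
theorem card_inf_of_sup (hS : IsPGroup p S) {A B N : Subgroup Ω} (hA : Nat.card A = p ^ 3)
    (hB : Nat.card B = p ^ 3) (hN : N ≤ S) (hAN : A ≤ N) (hBN : B ≤ N)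
    (hcN : Nat.card N ≤ p ^ 4) (hn : N ≤ Subgroup.normalizer (B : Set Ω)) (hne : A ≠ B) :
    Nat.card ↥(A ⊓ B) = p ^ 2 ∧ A ⊔ B = N ∧ Nat.card N = p ^ 4 := by
  have := finite_of_le hN
  have := finite_of_le (hAN.trans hN)
  have := finite_of_le (hBN.trans hN)
  have hlt : B < A ⊔ B := lt_of_le_of_ne le_sup_right fun h =>
    hne (eq_of_le_of_card (hBN.trans hN) (h.symm ▸ le_sup_left) (by rw [hA, hB]))
  have h1 := pow_succ_le (sup_le (hAN.trans hN) (hBN.trans hN)) hS (k := 3)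
    (hB ▸ card_lt_of_lt (sup_le (hAN.trans hN) (hBN.trans hN)) hlt)
  have h2 := Subgroup.card_le_of_le (sup_le hAN hBN : A ⊔ B ≤ N)
  have hN4 : Nat.card N = p ^ 4 := le_antisymm hcN (h1.trans h2)
  have hsup : A ⊔ B = N := eq_of_le_of_card hN (sup_le hAN hBN) (by rw [hN4]; exact h1)
  refine ⟨?_, hsup, hN4⟩
  have e1 : B.relIndex A = B.relIndex N := by
    haveI : (B.subgroupOf N).Normal :=
      ⟨fun b hb m => (Subgroup.mem_normalizer_iff.1 (hn m.2) b).1 hb⟩
    have ht : A.subgroupOf N ⊔ B.subgroupOf N = ⊤ := by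
      rw [← Subgroup.subgroupOf_sup hAN hBN, hsup, Subgroup.subgroupOf_self]
    have h1 := Subgroup.relIndex_sup_right (A.subgroupOf N) (B.subgroupOf N)
    rw [ht, Subgroup.relIndex_top_right, Subgroup.relIndex_subgroupOf hAN] at h1
    exact h1.symm
  have e2 := Subgroup.relIndex_mul_relIndex ⊥ B N bot_le hBN
  rw [Subgroup.relIndex_bot_left, Subgroup.relIndex_bot_left, hB, hN4,
    show p ^ 4 = p ^ 3 * p by rw [← pow_succ]] at e2
  have e3 : B.relIndex N = p := Nat.eq_of_mul_eq_mul_left (pow_pos hp.1.pos 3) e2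
  have e4 := Subgroup.relIndex_mul_relIndex ⊥ (A ⊓ B) A bot_le inf_le_left
  rw [Subgroup.relIndex_bot_left, Subgroup.relIndex_bot_left, Subgroup.inf_relIndex_left, e1, e3,
    hA, pow_succ] at e4
  exact Nat.eq_of_mul_eq_mul_right hp.1.pos e4

/-- A non-pearl essential subgroup of order less than `p ^ 4` is elementary of order `p ^ 3`. -/
theorem elementary_of_small (hp5 : 5 ≤ p) (hS : IsPGroup p S) (hF : F.IsSaturated p)
    {E : Subgroup Ω} (hE : F.IsEssential p E)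
    (hnp : ¬ ((Nat.card ↥E = p ^ 2 ∧ Cfsg.IsElementaryAbelian p E) ∨
      (Nat.card ↥E = p ^ 3 ∧ Cfsg.IsExtraspecial p ↥E ∧ Monoid.exponent ↥E = p)))
    (hlt : Nat.card ↥E < p ^ 4) : Nat.card ↥E = p ^ 3 ∧ Cfsg.IsElementaryAbelian p E := by
  have hES := hE.1.1
  have := finite_of_le hES
  obtain ⟨k, hk⟩ := IsPGroup.iff_card.1 (isPGroup_of_le hES hS)
  have hk4 : k < 4 := (Nat.pow_lt_pow_iff_right hp.1.one_lt).1 (hk ▸ hlt)
  interval_cases k
  · exfalso
    have h1 : E = ⊥ := Subgroup.card_eq_one.1 (by rw [hk, pow_zero])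
    subst h1
    have h2 : centralizerIn S (⊥ : Subgroup Ω) = S := by
      refine le_antisymm centralizerIn_le fun g hg => mem_centralizerIn.2 ⟨hg, fun x hx => ?_⟩
      rw [Subgroup.mem_bot.1 hx, cj_apply]; group
    exact (essential_lt hS hF hE).not_ge (h2 ▸ centric_centralizer_le hE.1)
  · exfalso
    refine SmallEss.false_of_series hS hF hE (le_refl E)
      (fun α _ _ h => autFun_inj fun x hx => (h x hx).trans (autFun_one hx).symm) (n := 1)
      (fun i => if i = 0 then ⊥ else E) (by simp) (by simp) (fun i hi => ?_)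
      (fun α _ i hi x hx => ?_)
    · interval_cases i
      simp [hk]
    · rcases Nat.le_one_iff_eq_zero_or_eq_one.1 hi with rfl | rfl
      · simp only [if_true, Subgroup.mem_bot] at hx ⊢
        subst hx
        rw [autFun_of_mem α E.one_mem]
        exact congrArg Subtype.val (map_one α)
      · simp only [one_ne_zero, if_false] at hx ⊢
        exact autFun_mem α hx
  · exact absurd (Or.inl ⟨hk, (SmallEss.order_p2_essential hS hF hE hk).1⟩) hnp
  · refine ⟨hk, ?_⟩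
    have hc := SmallEss.not_charLineSeries hS hF hE
    by_cases hab : ∀ a b : E, a * b = b * a
    · refine ⟨⟨⟨hab⟩⟩, fun a ha => ?_⟩
      by_contra h
      exact hc (CfsgLib.PGroups.SmallSeries.order_p3_comm hk hab (x := ⟨a, ha⟩)
        fun e => h (congrArg Subtype.val e))
    · exfalso
      push Not at hab
      rcases CfsgLib.PGroups.SmallSeries.order_p3_nonab (p := p) hk hab with h | h | h
      · refine hnp (Or.inr ⟨hk, h.2.1, ?_⟩)
        have hdvd : Monoid.exponent ↥E ∣ p := Monoid.exponent_dvd_of_forall_pow_eq_one h.2.2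
        rcases (Nat.dvd_prime hp.1).1 hdvd with e | e
        · exfalso
          have h1 : Subsingleton ↥E := Monoid.exp_eq_one_iff.1 e
          rw [Nat.card_eq_one_iff_unique.2 ⟨h1, ⟨1⟩⟩] at hk
          exact absurd hk (Nat.ne_of_lt (Nat.one_lt_pow (by omega) hp.1.one_lt))
        · exact e
      · omega
      · exact hc h.1

section Essential

variable {E : Subgroup Ω}

theorem isMor_centralizer_le (hS : IsPGroup p S) (hE : F.IsEssential p E) :
    centralizerIn S E ≤ E := centric_centralizer_le hE.1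

/-- The strongly embedded subgroup seen in the automorphism group itself. -/
theorem exists_embedded (hS : IsPGroup p S) (hF : F.IsSaturated p) (hE : F.IsEssential p E)
    (hcomm : ∀ a ∈ E, ∀ b ∈ E, a * b = b * a) :
    ∃ (R : Sylow p (F.autGroup E)) (H : Subgroup (F.autGroup E)),
      (∀ t : F.autGroup E, t ∈ (R : Subgroup (F.autGroup E)) ↔
        (t : MulAut E) ∈ autInducedBy S E) ∧ H ≠ ⊤ ∧
      ∀ x a : F.autGroup E, a ∈ (R : Subgroup (F.autGroup E)) → a ≠ 1 →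
        x * a * x⁻¹ ∈ (R : Subgroup (F.autGroup E)) → x ∈ H := by
  have hES := hE.1.1
  have := finite_mulAut (P := E) hES
  obtain ⟨-, R, hR⟩ := (isFullyAutomized_of_normalized hS hF hE.2.1).1
  obtain ⟨hn, Es, hdvd, hne, P', hP'⟩ := hE.2.2
  set π := QuotientGroup.mk' ((Inn E).subgroupOf (F.autGroup E))
  have hπ : ∀ a, π a = 1 → a = 1 := fun a ha => by
    have h1 : a ∈ (Inn E).subgroupOf (F.autGroup E) := (QuotientGroup.eq_one_iff a).1 ha
    obtain ⟨g, hg, h⟩ := mem_inn.1 (Subgroup.mem_subgroupOf.1 h1)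
    refine Subtype.ext (autFun_inj fun x hx => ?_)
    rw [h x hx, show ((1 : F.autGroup E) : MulAut E) = 1 from rfl, autFun_one hx, cj_apply,
      hcomm g hg x hx, mul_inv_cancel_right]
  obtain ⟨Q, hQ⟩ := (R.2.map π).exists_le_sylow
  obtain ⟨g, hg⟩ := MulAction.exists_smul_eq (F.autGroup E ⧸ (Inn E).subgroupOf (F.autGroup E)) Q P'
  refine ⟨R, Es.comap ((MulAut.conj g).toMonoidHom.comp π), fun t => ?_, fun h => ?_,
    fun x a ha ha1 hxa => ?_⟩
  · rw [hR]; rfl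
  · refine hne (eq_top_iff.2 fun y _ => ?_)
    obtain ⟨y', hy'⟩ := QuotientGroup.mk'_surjective _ (g⁻¹ * y * g)
    have h1 : y' ∈ Es.comap ((MulAut.conj g).toMonoidHom.comp π) := h ▸ Subgroup.mem_top y'
    have h2 : g * π y' * g⁻¹ ∈ Es := h1
    rw [show π y' = g⁻¹ * y * g from hy'] at h2
    simpa [mul_assoc] using h2
  · have hmem : ∀ {b : F.autGroup E}, b ∈ (R : Subgroup (F.autGroup E)) →
        g * π b * g⁻¹ ∈ (P' : Subgroup _) := fun {b} hb => by
      rw [← hg, Sylow.coe_subgroup_smul, Subgroup.mem_pointwise_smul_iff_inv_smul_mem]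
      simp only [← map_inv, MulAut.smul_def, MulAut.conj_apply]
      simpa [mul_assoc] using hQ ⟨b, hb, rfl⟩
    show g * π x * g⁻¹ ∈ Es
    refine mem_of_conj_le P' hP' (hmem ha) ?_ ?_
    · intro h
      exact ha1 (hπ a (conj_eq_one_iff.1 h))
    · have h1 := hmem hxa
      rw [map_mul, map_mul, map_inv] at h1
      simpa [mul_assoc] using h1

/-- The normaliser of an elementary essential subgroup of order `p ^ 3` is small. -/
theorem card_normalizer_le (hS : IsPGroup p S) (hF : F.IsSaturated p) (hE : F.IsEssential p E)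
    (hcE : Nat.card E = p ^ 3) (hel : Cfsg.IsElementaryAbelian p E) {U₁ U₂ : Subgroup Ω}
    (h12 : U₁ ≤ U₂) (h2E : U₂ ≤ E) (hc1 : Nat.card U₁ = p) (hc2 : Nat.card U₂ = p ^ 2)
    (hn1 : ∀ g ∈ normalizerIn S E, ∀ x ∈ U₁, cj g x ∈ U₁)
    (hn2 : ∀ g ∈ normalizerIn S E, ∀ x ∈ U₂, cj g x ∈ U₂) :
    Nat.card (normalizerIn S E) ≤ p ^ 4 := by
  have hES := hE.1.1
  have := finite_of_le hES
  have := finite_mulAut (P := E) hES
  have hcomm : ∀ a ∈ E, ∀ b ∈ E, a * b = b * a := fun a ha b hb =>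
    congrArg Subtype.val (hel.1.is_comm.comm ⟨a, ha⟩ ⟨b, hb⟩)
  letI : CommGroup E :=
    { (inferInstance : Group E) with mul_comm := hel.1.is_comm.comm }
  obtain ⟨R, H, hR, hH, hprop⟩ := exists_embedded hS hF hE hcomm
  have hexp : ∀ x : E, x ^ p = 1 := fun x => Subtype.ext (hel.2 x x.2)
  have key : ∀ t ∈ (R : Subgroup (F.autGroup E)), ∀ (A B : Subgroup Ω), B ≤ E → A ≤ B →
      Nat.card B ≤ p * Nat.card A → (∀ g ∈ normalizerIn S E, ∀ x ∈ A, cj g x ∈ A) →
      (∀ g ∈ normalizerIn S E, ∀ x ∈ B, cj g x ∈ B) → ∀ x : E, (x : Ω) ∈ B →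
        ((TransvectionStrong.dis (t : MulAut E) x : E) : Ω) ∈ A := by
    intro t ht A B hBE hAB hc hA hB x hx
    obtain ⟨g, hg, hgn, hge⟩ := mem_autInducedBy.1 ((hR t).1 ht)
    have hgN := mem_normalizerIn.2 ⟨hg, hgn⟩
    have h1 := SmallEss.step_triv hS (hBE.trans hES) hAB hc hg (hA g hgN) (hB g hgN) x hx
    rw [← hge x x.2, autFun_coe] at h1
    exact h1
  have hT : Nat.card (R : Subgroup (F.autGroup E)) ≤ p := by
    refine TransvectionStrong.card_sylow_le hcE hexp hprop hH (U₁ := U₁.subgroupOf E)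
      (U₂ := U₂.subgroupOf E) (fun x hx => h12 hx) ?_ ?_ ?_ ?_ ?_
    · rw [Nat.card_congr (Subgroup.subgroupOfEquivOfLe (h12.trans h2E)).toEquiv, hc1]
    · rw [Nat.card_congr (Subgroup.subgroupOfEquivOfLe h2E).toEquiv, hc2]
    · intro t ht x hx
      refine Subtype.ext (Subgroup.mem_bot.1
        (key t ht ⊥ U₁ (h12.trans h2E) bot_le (by simp [hc1]) (fun g _ y hy => ?_) hn1 x hx))
      rw [Subgroup.mem_bot.1 hy, Subgroup.mem_bot, cj_apply]
      group
    · exact fun t ht x hx => key t ht U₁ U₂ h2E h12 (by rw [hc1, hc2, sq]) hn1 hn2 x hx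
    · exact fun t ht x => key t ht U₂ E le_rfl h2E (by rw [hcE, hc2, ← pow_succ']) hn2
        (fun g hg y hy => (Subgroup.mem_normalizer_iff.1 (mem_normalizerIn.1 hg).2 y).1 hy) x x.2
  refine (card_autInducedBy hES).trans ?_
  have hT' : Nat.card (autInducedBy S E) = Nat.card (R : Subgroup (F.autGroup E)) := by
    rw [← Nat.card_congr (Subgroup.subgroupOfEquivOfLe (autInducedBy_le F hES)).toEquiv]
    congr 1
    exact congrArg (fun K : Subgroup (F.autGroup E) => ↥K) (Subgroup.ext fun t => (hR t).symm)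
  have hC : Nat.card (centralizerIn S E) ≤ p ^ 3 :=
    hcE ▸ Subgroup.card_le_of_le (centric_centralizer_le hE.1)
  rw [hT', pow_succ' p 3]
  exact Nat.mul_le_mul hT hC

/-- An involution attached to an element inducing a transvection. -/
theorem exists_inv (hS : IsPGroup p S) (hF : F.IsSaturated p) (hE : F.IsEssential p E)
    (hcE : Nat.card E = p ^ 3) (hel : Cfsg.IsElementaryAbelian p E) {x : Ω}
    (hx : x ∈ normalizerIn S E) (hxE : x ∉ E) {U₁ U₂ : Subgroup Ω} (h12 : U₁ ≤ U₂)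
    (h2E : U₂ ≤ E) (hc1 : Nat.card U₁ = p) (hc2 : Nat.card U₂ = p ^ 2)
    (hfix : ∀ y ∈ U₂, cj x y = y) (hmem : ∀ y ∈ E, y⁻¹ * cj x y ∈ U₁) :
    ∃ f : Ω → Ω, IsMor F E f ∧ (∀ y ∈ E, f y ∈ E) ∧ ∃ c ∈ U₂, c ∉ U₁ ∧ f c = c ∧
      (∀ z ∈ U₁, f z = z⁻¹) ∧ (∀ y ∈ E, y * f y ∈ U₂) ∧ ∀ y ∈ E, f (cj x y) = cj x (f y) := by
  have hES := hE.1.1
  have := finite_of_le hES
  have := finite_mulAut (P := E) hES
  have hcomm : ∀ a ∈ E, ∀ b ∈ E, a * b = b * a := fun a ha b hb =>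
    congrArg Subtype.val (hel.1.is_comm.comm ⟨a, ha⟩ ⟨b, hb⟩)
  letI : CommGroup E :=
    { (inferInstance : Group E) with mul_comm := hel.1.is_comm.comm }
  obtain ⟨R, H, hR, hH, hprop⟩ := exists_embedded hS hF hE hcomm
  have hexp : ∀ x : E, x ^ p = 1 := fun x => Subtype.ext (hel.2 x x.2)
  obtain ⟨hxS, hxn⟩ := mem_normalizerIn.1 hx
  obtain ⟨α, hα, hαe⟩ := exists_autInducedBy (P := E) hxS hxn
  have hαA := autInducedBy_le F hES hα
  have hdis : ∀ y : E, ((TransvectionStrong.dis α y : E) : Ω) = (y : Ω)⁻¹ * cj x y := fun y => by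
    rw [← hαe y y.2, autFun_coe]; rfl
  have T : TransvectionStrong.IsTv p ((⟨α, hαA⟩ : F.autGroup E) : MulAut E) (U₁.subgroupOf E)
      (U₂.subgroupOf E) := by
    refine ⟨hcE, ?_, ?_, fun y hy => h12 hy, fun y hy => Subtype.ext ?_,
      fun y => Subgroup.mem_subgroupOf.2 ?_, fun h => hxE ?_⟩
    · rw [Nat.card_congr (Subgroup.subgroupOfEquivOfLe (h12.trans h2E)).toEquiv, hc1]
    · rw [Nat.card_congr (Subgroup.subgroupOfEquivOfLe h2E).toEquiv, hc2]
    · rw [hdis, hfix y hy, inv_mul_cancel]; rfl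
    · rw [hdis]; exact hmem y y.2
    · refine centric_centralizer_le hE.1 (mem_centralizerIn.2 ⟨hxS, fun y hy => ?_⟩)
      rw [← hαe y hy, show α = 1 from h, autFun_one hy]
  obtain ⟨ι, hι, c, hc, hc1', hιc, hιz, hιy, hιa⟩ :=
    TransvectionStrong.exists_involution hexp hprop hH T ((hR _).2 hα)
  refine ⟨autFun ι, isMor_autFun hES hι, fun y hy => autFun_mem ι hy, c, hc, hc1', ?_,
    fun z hz => ?_, fun y hy => ?_, fun y hy => ?_⟩
  · rw [autFun_coe, hιc]
  · rw [autFun_of_mem ι (h2E (h12 hz)), hιz ⟨z, h2E (h12 hz)⟩ hz]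
    rfl
  · rw [autFun_of_mem ι hy]
    exact hιy ⟨y, hy⟩
  · rw [← hαe y hy, ← autFun_mul ι α hy, ← hαe _ (autFun_mem ι hy), ← autFun_mul α ι hy]
    exact congrArg (fun β => autFun β y) hιa

/-- An automorphism commuting with the action of the normaliser extends to it, trivially on the
quotient. -/
theorem exists_ext (hS : IsPGroup p S) (hF : F.IsSaturated p) (hE : F.IsEssential p E)
    (hcomm : ∀ a ∈ E, ∀ b ∈ E, a * b = b * a) {x : Ω} (hx : x ∈ normalizerIn S E)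
    (hN : normalizerIn S E ≤ E ⊔ Subgroup.zpowers x) {f : Ω → Ω} (hf : IsMor F E f)
    (hfE : ∀ y ∈ E, f y ∈ E) (hfx : ∀ y ∈ E, f (cj x y) = cj x (f y)) :
    ∃ ψ : Ω → Ω, IsMor F (normalizerIn S E) ψ ∧ (∀ y ∈ E, ψ y = f y) ∧
      ∀ y ∈ normalizerIn S E, ψ y ∈ normalizerIn S E ∧ y⁻¹ * ψ y ∈ E := by
  obtain ⟨hxS, hxn⟩ := mem_normalizerIn.1 hx
  have hi : img E f = E := hf.img_eq_self hfE
  obtain ⟨ψ, hψ, hψe⟩ := (isReceptive_iff.mp (centric_receptive hS hF hE.1)).2 E f hf hi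
  have hle : normalizerIn S E ≤ nExt S E f :=
    hN.trans (sup_le (le_nExt hf) (Subgroup.zpowers_le.2 ⟨hxS, hxn, x, hxS, hfx⟩))
  have hψN : IsMor F (normalizerIn S E) ψ := hψ.restrict hle
  refine ⟨ψ, hψN, hψe, fun y hy => ?_⟩
  have hEN : E ≤ normalizerIn S E := le_normalizerIn hf.le
  have hψi : img E ψ = E := (img_congr hψe).trans hi
  have hψy : ψ y ∈ normalizerIn S E := by
    have := mapsTo_normalizerIn hψN hEN le_rfl y hy
    rwa [hψi] at this
  refine ⟨hψy, ?_⟩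
  let K : Subgroup Ω :=
    { carrier := {g | g ∈ normalizerIn S E ∧ ∀ z ∈ E, f (cj g z) = cj g (f z)}
      one_mem' := ⟨Subgroup.one_mem _, fun z _ => by rw [cj_one, cj_one]⟩
      mul_mem' := by
        rintro a b ⟨ha, ha'⟩ ⟨hb, hb'⟩
        refine ⟨Subgroup.mul_mem _ ha hb, fun z hz => ?_⟩
        rw [cj_mul, cj_mul, ha' (cj b z)
          ((Subgroup.mem_normalizer_iff.1 (mem_normalizerIn.1 hb).2 z).1 hz), hb' z hz]
      inv_mem' := by
        rintro a ⟨ha, ha'⟩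
        refine ⟨Subgroup.inv_mem _ ha, fun z hz => ?_⟩
        have h1 := ha' (cj a⁻¹ z) ((Subgroup.mem_normalizer_iff.1
          (mem_normalizerIn.1 (Subgroup.inv_mem _ ha)).2 z).1 hz)
        rw [cj_cj_inv] at h1
        show f (cj a⁻¹ z) = cj a⁻¹ (f z)
        rw [h1, cj_inv_cj] }
  have hyK : y ∈ K := by
    refine (hN.trans (sup_le (fun z hz => (?_ : z ∈ K))
      (Subgroup.zpowers_le.2 (show x ∈ K from ⟨hx, hfx⟩)))) hy
    refine ⟨hEN hz, fun w hw => ?_⟩
    have e1 : cj z w = w := by rw [cj_apply, hcomm z hz w hw, mul_inv_cancel_right]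
    have e2 : cj z (f w) = f w := by rw [cj_apply, hcomm z hz _ (hfE w hw), mul_inv_cancel_right]
    rw [e1, e2]
  refine centric_centralizer_le hE.1 (mem_centralizerIn.2
    ⟨S.mul_mem (S.inv_mem (normalizerIn_le hy)) (normalizerIn_le hψy), fun w hw => ?_⟩)
  obtain ⟨z, hz, rfl⟩ := hψN.restrict hEN |>.mem_img.mp (hψi.ge hw)
  have h1 : ψ (cj y z) = cj (ψ y) (ψ z) := hψN.map_conj hy (hEN hz)
  rw [hψe (cj y z) ((Subgroup.mem_normalizer_iff.1 (mem_normalizerIn.1 hy).2 z).1 hz), hψe z hz,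
    hyK.2 z hz] at h1
  rw [hψe z hz, cj_mul, ← h1, cj_inv_cj]

end Essential

/-- A map of the normaliser of an elementary subgroup fixes the normal abelian maximal subgroup. -/
theorem fix_X {k : ℕ} (hS : IsPGroup p S) (hn : Nat.card S = p ^ n) (hn5 : k + 3 ≤ n)
    {E X : Subgroup Ω}
    (hES : E ≤ S) (hCE : centralizerIn S E ≤ E) (hEc : ∀ a ∈ E, ∀ b ∈ E, a * b = b * a)
    (hcE : Nat.card E = p ^ (k + 1)) (hXS : X ≤ S) (hXn : ∀ g ∈ S, ∀ y ∈ X, cj g y ∈ X)
    (hXc : ∀ a ∈ X, ∀ b ∈ X, a * b = b * a) (hcX : Nat.card X = p ^ (k + 1))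
    (hN : normalizerIn S E = E ⊔ X) (hNc : Nat.card (normalizerIn S E) = p ^ (k + 2))
    (hW : Nat.card ↥(E ⊓ X) = p ^ k)
    (hmax : ∀ Q, F.IsConj E Q → Nat.card (normalizerIn S Q) ≤ p ^ (k + 2))
    {f : Ω → Ω} (hf : IsMor F (normalizerIn S E) f)
    (hfN : ∀ y ∈ normalizerIn S E, f y ∈ normalizerIn S E)
    (hfW : ∀ w ∈ E ⊓ X, f w ∈ E ⊓ X) : ∀ y ∈ X, f y ∈ X := by
  set N := normalizerIn S E with hNdef
  set W := E ⊓ X with hWdef
  have hNS : N ≤ S := normalizerIn_le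
  have hXN : X ≤ N := hN.symm ▸ le_sup_right
  have hEN : E ≤ N := hN.symm ▸ le_sup_left
  have := finite_of_le hXS
  have := finite_of_le hES
  by_contra! hcon
  obtain ⟨x₁, hx₁, hx₁X⟩ := hcon
  have hfX : IsMor F X f := hf.restrict hXN
  set A := img X f with hA
  have hAN : A ≤ N := img_le fun y hy => hfN y (hXN hy)
  have hWA : W ≤ A := by
    exact ((hfX.restrict (inf_le_right : W ≤ X)).img_eq_self hfW).ge.trans (img_mono f inf_le_right)
  set a := f x₁
  have haA : a ∈ A := mem_img_of_mem f hx₁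
  -- the normaliser of `N`
  have hNne : N < S := lt_of_le_of_ne hNS fun h => by
    rw [h, hn] at hNc
    have := Nat.pow_right_injective hp.1.two_le hNc
    omega
  obtain ⟨g, hg, hgN⟩ := SetLike.exists_of_lt (normalizerIn_gt hS hNne)
  obtain ⟨hgS, hgn⟩ := mem_normalizerIn.1 hg
  have hgNm : ∀ y ∈ N, cj g y ∈ N := fun y hy => (Subgroup.mem_normalizer_iff.1 hgn y).1 hy
  have hgW : ∀ w ∈ W, cj g w ∈ W := by
    intro w hw
    have hcent : ∀ y ∈ N, cj y w = w := by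
      intro y hy
      have hle : N ≤ Subgroup.centralizer ({w} : Set Ω) := hN.le.trans (sup_le
        (fun e he => Subgroup.mem_centralizer_singleton_iff.2 (hEc e he w hw.1))
        (fun e he => Subgroup.mem_centralizer_singleton_iff.2 (hXc e he w hw.2)))
      exact cj_fixed_iff.2 (Subgroup.mem_centralizer_singleton_iff.1 (hle hy))
    refine ⟨hCE (mem_centralizerIn.2 ⟨hXS (hXn g hgS w hw.2), fun e he => ?_⟩), hXn g hgS w hw.2⟩
    have hg' : cj g⁻¹ e ∈ N := (Subgroup.mem_normalizer_iff.1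
      (Subgroup.inv_mem _ hgn) e).1 (hEN he)
    have h1 := hcent _ hg'
    rw [cj_apply, mul_inv_eq_iff_eq_mul] at h1
    have h2 : e * cj g w = cj g w * e := by
      calc e * cj g w = g * (cj g⁻¹ e * w) * g⁻¹ := by simp only [cj_apply]; group
        _ = g * (w * cj g⁻¹ e) * g⁻¹ := by rw [h1]
        _ = cj g w * e := by simp only [cj_apply]; group
    exact cj_fixed_iff.2 h2.symm
  -- decompose `a`
  have hnX : N ≤ Subgroup.normalizer (X : Set Ω) := fun y hy =>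
    (mem_normalizerIn.1 (mem_norm hXS (hNS hy) fun z hz => by
      rw [commutatorElement_def]
      exact X.mul_mem (hXn y (hNS hy) z hz) (X.inv_mem hz))).2
  obtain ⟨e, he, x₀, hx₀, hex⟩ : ∃ e ∈ E, ∃ x₀ ∈ X, e * x₀ = a := by
    have h1 : a ∈ E ⊔ X := hN ▸ hAN haA
    rw [← SetLike.mem_coe, Subgroup.coe_mul_of_left_le_normalizer_right E X (hEN.trans hnX)] at h1
    obtain ⟨e, he, x₀, hx₀, h⟩ := h1
    exact ⟨e, he, x₀, hx₀, h⟩
  have heW : e ∉ W := fun h => hx₁X (hex ▸ X.mul_mem h.2 hx₀)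
  set ξ := e⁻¹ * cj g e with hξ
  have hξX : ξ ∈ X :=
    SmallEss.step_triv hS hNS hXN (by rw [hNc, hcX, ← pow_succ']) hgS (hXn g hgS) hgNm e (hEN he)
  have hge : cj g e = e * ξ := (mul_inv_cancel_left _ _).symm
  have hlift : ∀ {B : Subgroup Ω}, W ≤ B → Nat.card B = p ^ (k + 1) → ∀ {b : Ω}, b ∈ B → b ∉ W →
      W ⊔ Subgroup.zpowers b = B := by
    intro B hWB hB b hb hbW
    have : Finite B := Nat.finite_of_card_ne_zero (hB ▸ pow_ne_zero (k + 1) hp.1.ne_zero)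
    have hle : W ⊔ Subgroup.zpowers b ≤ B := sup_le hWB (Subgroup.zpowers_le.2 hb)
    obtain ⟨j, hj, hjc⟩ := dvd_pow_cases hle hB
    have : Finite ↥(W ⊔ Subgroup.zpowers b) :=
      Nat.finite_of_card_ne_zero (hjc ▸ pow_ne_zero j hp.1.ne_zero)
    have h1 : Nat.card W < Nat.card ↥(W ⊔ Subgroup.zpowers b) := by
      refine lt_of_le_of_ne (Subgroup.card_le_of_le le_sup_left) fun h => hbW ?_
      rw [Subgroup.eq_of_le_of_card_ge le_sup_left h.ge]
      exact Subgroup.mem_sup_right (Subgroup.mem_zpowers b)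
    rw [hW, hjc, Nat.pow_lt_pow_iff_right hp.1.one_lt] at h1
    exact Subgroup.eq_of_le_of_card_ge hle (by rw [hB, hjc, show j = k + 1 by omega])
  have hξW : ξ ∉ W := by
    intro h
    refine hgN (mem_normalizerIn.2 ⟨hgS, ?_⟩)
    refine Subgroup.mem_normalizer_iff_map_conj_eq.2 (Subgroup.eq_of_le_of_card_ge ?_
      (by rw [Subgroup.card_map_of_injective (MulAut.conj g).injective]))
    rw [← hlift inf_le_left hcE he heW, Subgroup.map_sup, MonoidHom.map_zpowers]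
    refine sup_le ?_ (Subgroup.zpowers_le.2 ?_)
    · rintro _ ⟨w, hw, rfl⟩
      exact Subgroup.mem_sup_left (hgW w hw)
    · show cj g e ∈ _
      rw [hge]
      exact Subgroup.mul_mem _ (Subgroup.mem_sup_right (Subgroup.mem_zpowers e))
        (Subgroup.mem_sup_left h)
  have hξg : ξ⁻¹ * cj g ξ ∈ W :=
    SmallEss.step_triv hS hXS inf_le_right (by rw [hW, hcX, ← pow_succ']) hgS hgW
      (hXn g hgS) ξ hξX
  have hpow : ∀ i : ℕ, ∃ w ∈ W, cj (g ^ i) e = e * ξ ^ i * w := by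
    intro i
    induction i with
    | zero => exact ⟨1, W.one_mem, by rw [pow_zero, cj_one, pow_zero, mul_one, mul_one]⟩
    | succ i ih =>
      obtain ⟨w, hw, hwe⟩ := ih
      refine ⟨(ξ⁻¹ * cj g ξ) ^ i * cj g w, W.mul_mem (W.pow_mem hξg i) (hgW w hw), ?_⟩
      have hc : Commute ξ (ξ⁻¹ * cj g ξ) := hXc _ hξX _ hξg.2
      have h1 : cj g (ξ ^ i) = ξ ^ i * (ξ⁻¹ * cj g ξ) ^ i := by
        rw [← hc.mul_pow, mul_inv_cancel_left]
        exact map_pow (MulAut.conj g) ξ i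
      rw [pow_succ' g, cj_mul, hwe, cj_map_mul, cj_map_mul, hge, h1, pow_succ' ξ]
      simp only [mul_assoc]
  -- `ξ` generates `X` over `W`
  have hXgen := hlift inf_le_right hcX hξX hξW
  obtain ⟨w₁, hw₁, _, ⟨kk, rfl⟩, hwk⟩ : ∃ w₁ ∈ W, ∃ y ∈ Subgroup.zpowers ξ, w₁ * y = x₀ := by
    have h1 : x₀ ∈ W ⊔ Subgroup.zpowers ξ := hXgen.ge hx₀
    rw [← SetLike.mem_coe, Subgroup.coe_mul_of_right_le_normalizer_left] at h1
    · obtain ⟨w, hw, y, hy, h⟩ := h1
      exact ⟨w, hw, y, hy, h⟩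
    · refine Subgroup.zpowers_le.2 (Subgroup.mem_normalizer_iff.2 fun z => ?_)
      constructor
      · intro hz
        rw [hXc ξ hξX z hz.2, mul_inv_cancel_right]
        exact hz
      · intro hz
        have h2 := hXc ξ⁻¹ (X.inv_mem hξX) _ hz.2
        have h3 : z = ξ * z * ξ⁻¹ := by
          calc z = ξ⁻¹ * (ξ * z * ξ⁻¹) * ξ := by group
            _ = ξ * z * ξ⁻¹ := by rw [h2, inv_mul_cancel_right]
        rw [h3]
        exact hz
  obtain ⟨i, hi⟩ : ∃ i : ℕ, ξ ^ kk = ξ ^ i := by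
    obtain ⟨i, hi⟩ := mem_powers_iff_mem_zpowers.2
      (Subgroup.mem_zpowers_iff.2 ⟨kk, rfl⟩ :
        (⟨ξ, hξX⟩ : X) ^ kk ∈ Subgroup.zpowers (⟨ξ, hξX⟩ : X))
    exact ⟨i, (congrArg Subtype.val hi).symm⟩
  obtain ⟨w, hw, hwe⟩ := hpow i
  have haeq : a = cj (g ^ i) e * (w⁻¹ * w₁) := by
    rw [hwe, ← hex, ← hwk, show (fun y => ξ ^ y) kk = ξ ^ i from hi, hXc w₁ hw₁.2 _ (X.pow_mem hξX i)]
    simp only [mul_assoc, mul_inv_cancel_left]
  have hfc : IsMor F E (cj (g ^ i)) := isMor_cj F hES (S.pow_mem hgS i)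
  have hgiW : ∀ j : ℕ, ∀ z ∈ W, cj (g ^ j) z ∈ W := by
    intro j
    induction j with
    | zero => intro z hz; rw [pow_zero, cj_one]; exact hz
    | succ j ih => intro z hz; rw [pow_succ', cj_mul]; exact hgW _ (ih z hz)
  have hWimg : W ≤ img E (cj (g ^ i)) := by
    exact ((hfc.restrict (inf_le_left : W ≤ E)).img_eq_self (hgiW i)).ge.trans
      (img_mono _ inf_le_left)
  have hBc : Nat.card (img E (cj (g ^ i))) = p ^ (k + 1) := hfc.card_img.trans hcE
  have hAc : Nat.card A = p ^ (k + 1) := hfX.card_img.trans hcX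
  have haB : a ∈ img E (cj (g ^ i)) := haeq ▸ Subgroup.mul_mem _ (mem_img_of_mem _ he)
    (hWimg (W.mul_mem (W.inv_mem hw) hw₁))
  have haW : a ∉ W := fun h => hx₁X h.2
  have heq : img E (cj (g ^ i)) = img X f := by
    rw [← hA, ← hlift hWimg hBc haB haW, ← hlift hWA hAc haA haW]
  have hconj : F.IsConj E X :=
    isConj_trans (heq ▸ isConj_img hfc) (isConj_symm (isConj_img hfX))
  have h1 := hmax X hconj
  have h2 : S ≤ normalizerIn S X := fun y hy => mem_norm hXS hy fun z hz => by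
    rw [commutatorElement_def]
    exact X.mul_mem (hXn y hy z hz) (X.inv_mem hz)
  have := finite_of_le (normalizerIn_le (S := S) (P := X))
  have h3 := Subgroup.card_le_of_le h2
  rw [hn] at h3
  have := (Nat.pow_le_pow_iff_right hp.1.one_lt).1 (h3.trans h1)
  omega

/-- A map of a normal subgroup of order `p ^ 3` preserving its flag extends to `S`. -/
theorem exists_ext_S (hS : IsPGroup p S) (hF : F.IsSaturated p) (H : MC ↥S p n) (hn5 : 5 ≤ n)
    {f : Ω → Ω} (hf : IsMor F (lay S (n - 4)) f)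
    (h3 : ∀ y ∈ lay S (n - 4), f y ∈ lay S (n - 4))
    (h2 : ∀ y ∈ lay S (n - 3), f y ∈ lay S (n - 3))
    (h1 : ∀ y ∈ lay S (n - 2), f y ∈ lay S (n - 2)) :
    ∃ Ψ : MulAut ↥S, ∀ y : ↥S, (y : Ω) ∈ lay S (n - 4) → (Ψ y : Ω) = f y := by
  set X := lay S (n - 4) with hX
  have hXS : X ≤ S := lay_le _
  let W : ℕ → Subgroup Ω := fun i => lay S (n - 1 - min i 3)
  let A0 : Subgroup (MulAut X) :=
    { carrier := {α | α ∈ F.autGroup X ∧ (∀ i, ∀ x ∈ X, x ∈ W i → autFun α x ∈ W i) ∧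
        ∀ i, ∀ x ∈ X, x ∈ W i → autFun α⁻¹ x ∈ W i}
      one_mem' := ⟨one_mem _, fun i x hx h => by rwa [autFun_one hx],
        fun i x hx h => by rwa [inv_one, autFun_one hx]⟩
      mul_mem' := by
        rintro α β ⟨hα, hα1, hα2⟩ ⟨hβ, hβ1, hβ2⟩
        refine ⟨mul_mem hα hβ, fun i x hx h => ?_, fun i x hx h => ?_⟩
        · rw [autFun_mul _ _ hx]; exact hα1 i _ (autFun_mem β hx) (hβ1 i x hx h)
        · rw [mul_inv_rev, autFun_mul _ _ hx]
          exact hβ2 i _ (autFun_mem α⁻¹ hx) (hα2 i x hx h)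
      inv_mem' := by
        rintro α ⟨hα, hα1, hα2⟩
        exact ⟨inv_mem hα, hα2, by rwa [inv_inv]⟩ }
  let K := seriesStab A0 3 W (fun α hα i x hx h => hα.2.1 i x hx h)
  have hW0 : W 0 = ⊥ := by
    show lay S (n - 1 - min 0 3) = ⊥
    exact lay_bot H (by omega)
  have hW3 : X ≤ W 3 := by
    show X ≤ lay S (n - 1 - min 3 3)
    rw [show n - 1 - min 3 3 = n - 4 by omega]
  have hKp : IsPGroup p K := isPGroup_stabilizing hS hXS 3
    (fun i => (W i : Set Ω)) (by rw [hW0]; simp) (fun x hx => hW3 hx)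
    fun α hα i hi x hx hxW => hα.2 i hi x hx hxW
  have hNX : normalizerIn S X = S := lay_normalizer _
  have hXfn : F.IsFullyNormalized X := ⟨hXS, fun Q _ => by
    rw [hNX]; exact Subgroup.card_le_of_le normalizerIn_le⟩
  obtain ⟨haut, hrec⟩ := isFullyAutomized_of_normalized hS hF hXfn
  have hAS : autInducedBy S X ≤ K := by
    intro α hα
    obtain ⟨g, hg, hgn, hge⟩ := mem_autInducedBy.1 hα
    obtain ⟨g', hg', -, hge'⟩ := mem_autInducedBy.1 ((autInducedBy S X).inv_mem hα)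
    refine ⟨⟨autInducedBy_le F hXS hα, fun i x hx h => ?_, fun i x hx h => ?_⟩,
      fun i hi x hx hxW => ?_⟩
    · rw [hge x hx]; exact lay_conj hg h
    · rw [hge' x hx]; exact lay_conj hg' h
    · rw [hge x hx]
      show x⁻¹ * cj g x ∈ lay S (n - 1 - min i 3)
      have h1 := lay_comm (y := g) ((lay S _).inv_mem hxW) hg
      rw [commutatorElement_def, inv_inv] at h1
      refine lay_anti (by omega : n - 1 - min i 3 ≤ n - 1 - min (i + 1) 3 + 1) ?_
      simpa [cj_apply, mul_assoc] using h1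
  have := finite_mulAut (P := X) hXS
  have hKeq : K = autInducedBy S X :=
    (isFullyAutomized_iff.mp haut).2.2.2 K hKp hAS fun α hα => hα.1.1
  have hfi : img X f = X := hf.img_eq_self h3
  obtain ⟨α, hαA, hαe⟩ := exists_aut hf hfi
  have hfW : ∀ i, ∀ x ∈ X, x ∈ W i → f x ∈ W i := by
    intro i x _ hx
    change x ∈ lay S (n - 1 - min i 3) at hx
    show f x ∈ lay S (n - 1 - min i 3)
    rcases (show min i 3 = 0 ∨ min i 3 = 1 ∨ min i 3 = 2 ∨ min i 3 = 3 by omega) with h | h | h | h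
    · rw [h, lay_bot H (by omega), Subgroup.mem_bot] at hx ⊢
      subst hx; exact hf.map_one
    · rw [h, show n - 1 - 1 = n - 2 by omega] at hx ⊢; exact h1 x hx
    · rw [h, show n - 1 - 2 = n - 3 by omega] at hx ⊢; exact h2 x hx
    · rw [h, show n - 1 - 3 = n - 4 by omega] at hx ⊢; exact h3 x hx
  have hα0 : α ∈ A0 := by
    refine ⟨hαA, fun i x hx h => by rw [hαe x hx]; exact hfW i x hx h, fun i x hx h => ?_⟩
    have hr : IsMor F (X ⊓ W i) f := hf.restrict inf_le_left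
    have he := hr.img_eq_self fun y hy => ⟨h3 y hy.1, hfW i y hy.1 hy.2⟩
    obtain ⟨y, hy, rfl⟩ := hr.mem_img.mp (he.ge ⟨hx, h⟩)
    rw [← hαe y hy.1, autFun_inv_left α hy.1]
    exact hy.2
  obtain ⟨ψ, hψ, hψe⟩ := (isReceptive_iff.mp hrec).2 X f hf hfi
  have hext : nExt S X f = S := by
    refine le_antisymm ((nExt_le f).trans normalizerIn_le) fun g hg => ?_
    have hgn : g ∈ Subgroup.normalizer (X : Set Ω) := (mem_normalizerIn.1 (hNX.symm ▸ hg)).2
    obtain ⟨β, hβ, hβe⟩ := exists_autInducedBy (P := X) hg hgn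
    obtain ⟨h, hh, -, hhe⟩ := mem_autInducedBy.1
      (hKeq ▸ seriesStab_conj hα0 (hAS hβ) : α * β * α⁻¹ ∈ autInducedBy S X)
    refine ⟨hg, hgn, h, hh, fun x hx => ?_⟩
    have := hhe _ (autFun_mem α hx)
    rw [autFun_mul _ _ (autFun_mem α hx), autFun_inv_left α hx, autFun_mul _ _ hx, hβe x hx,
      hαe x hx] at this
    rwa [hαe (cj g x) ((Subgroup.mem_normalizer_iff.1 hgn x).1 hx)] at this
  rw [hext] at hψ
  obtain ⟨Ψ, -, hΨ⟩ := exists_aut hψ (hψ.img_eq_self fun x hx => hψ.mem hx)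
  exact ⟨Ψ, fun y hy => by rw [← autFun_coe, hΨ y y.2, hψe y hy]⟩

end CfsgLib.Fusion.MaxClassSmall
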