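import Mathlib
import Cfsg.Agent.Lib.Fusion.SmallEssential
import Cfsg.Agent.Lib.Fusion.Normal
import Cfsg.Agent.Lib.Fusion.AutoPattern
import Cfsg.Agent.Lib.Fusion.Control

/-!
# Extending through a series, and a proper subgroup containing all moves
-/

set_option autoImplicit false
set_option linter.unusedSectionVars false
set_option linter.style.haveILetI false

namespace CfsgLib.Fusion.OrderFive

open Cfsg Cfsg.FusionSystem CfsgLib.Fusion
open scoped commutatorElement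

universe u

variable {Ω : Type u} [Group Ω] {S : Subgroup Ω} [Finite S] {p : ℕ} [hp : Fact p.Prime]
  {F : FusionSystem S}

theorem cj_mem_normalizerIn {P : Subgroup Ω} {g : Ω} (hg : g ∈ normalizerIn S P) {x : Ω}
    (hx : x ∈ P) : cj g x ∈ P :=
  (Subgroup.mem_normalizer_iff.1 (mem_normalizerIn.1 hg).2 x).1 hx

/-- A map of a fully normalised subgroup preserving a series with steps of index at most `p`
extends to the normaliser. -/
theorem extend_series (hS : IsPGroup p S) (hF : F.IsSaturated p) {P : Subgroup Ω}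
    (hfn : F.IsFullyNormalized P) {n : ℕ} (W : ℕ → Subgroup Ω) (h0 : W 0 = ⊥) (hn : W n = P)
    (hstep : ∀ i < n, W i ≤ W (i + 1) ∧ Nat.card (W (i + 1)) ≤ p * Nat.card (W i))
    (hg : ∀ g ∈ normalizerIn S P, ∀ i < n, ∀ x ∈ W i, cj g x ∈ W i)
    {f : Ω → Ω} (hf : IsMor F P f) (hfP : ∀ x ∈ P, f x ∈ P)
    (hfW : ∀ i < n, ∀ x ∈ W i, f x ∈ W i) :
    ∃ ψ : Ω → Ω, IsMor F (normalizerIn S P) ψ ∧ (∀ x ∈ P, ψ x = f x) ∧
      ∀ y ∈ normalizerIn S P, ψ y ∈ normalizerIn S P := by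
  have hPS : P ≤ S := hfn.1
  have hle : ∀ i ≤ n, W i ≤ P := by
    intro i hi
    induction hk : n - i generalizing i with
    | zero => rw [show i = n by omega, hn]
    | succ k ih => exact (hstep i (by omega)).1.trans (ih (i + 1) (by omega) (by omega))
  let W' : ℕ → Subgroup Ω := fun i => W (min i n)
  have hg' : ∀ g ∈ normalizerIn S P, ∀ i, ∀ x ∈ W' i, cj g x ∈ W' i := by
    intro g hgN i x hx
    rcases lt_or_ge i n with h | h
    · simp only [W', min_eq_left h.le] at hx ⊢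
      exact hg g hgN i h x hx
    · simp only [W', min_eq_right h, hn] at hx ⊢
      exact cj_mem_normalizerIn hgN hx
  have hf' : ∀ i, ∀ x ∈ W' i, f x ∈ W' i := by
    intro i x hx
    rcases lt_or_ge i n with h | h
    · simp only [W', min_eq_left h.le] at hx ⊢
      exact hfW i h x hx
    · simp only [W', min_eq_right h, hn] at hx ⊢
      exact hfP x hx
  let A0 : Subgroup (MulAut P) :=
    { carrier := {α | α ∈ F.autGroup P ∧ (∀ i, ∀ x ∈ P, x ∈ W' i → autFun α x ∈ W' i) ∧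
        ∀ i, ∀ x ∈ P, x ∈ W' i → autFun α⁻¹ x ∈ W' i}
      one_mem' := ⟨one_mem _, fun i x hx h => by rwa [autFun_one hx],
        fun i x hx h => by rwa [inv_one, autFun_one hx]⟩
      mul_mem' := by
        rintro α β ⟨hα, hα1, hα2⟩ ⟨hβ, hβ1, hβ2⟩
        refine ⟨mul_mem hα hβ, fun i x hx h => ?_, fun i x hx h => ?_⟩
        · rw [autFun_mul _ _ hx]; exact hα1 i _ (autFun_mem β hx) (hβ1 i x hx h)
        · rw [mul_inv_rev, autFun_mul _ _ hx]
          exact hβ2 i _ (autFun_mem α⁻¹ hx) (hα2 i x hx h)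
      inv_mem' := by
        rintro α ⟨hα, hα1, hα2⟩
        exact ⟨inv_mem hα, hα2, by rwa [inv_inv]⟩ }
  let K := seriesStab A0 n W' (fun α hα i x hx h => hα.2.1 i x hx h)
  have hKp : IsPGroup p K := isPGroup_stabilizing hS hPS n (fun i => (W' i : Set Ω))
    (by simp [W', h0]) (fun x hx => by simp [W', hn]; exact hx)
    fun α hα i hi x hx hxW => hα.2 i hi x hx hxW
  obtain ⟨haut, hrec⟩ := isFullyAutomized_of_normalized hS hF hfn
  have hAS : autInducedBy S P ≤ K := by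
    intro α hα
    obtain ⟨g, hgS, hgn, hge⟩ := mem_autInducedBy.1 hα
    obtain ⟨g', hgS', hgn', hge'⟩ := mem_autInducedBy.1 ((autInducedBy S P).inv_mem hα)
    have hgN := mem_normalizerIn.2 ⟨hgS, hgn⟩
    refine ⟨⟨autInducedBy_le F hPS hα, fun i x hx h => ?_, fun i x hx h => ?_⟩,
      fun i hi x hx hxW => ?_⟩
    · rw [hge x hx]; exact hg' g hgN i x h
    · rw [hge' x hx]; exact hg' g' (mem_normalizerIn.2 ⟨hgS', hgn'⟩) i x h
    · rw [hge x hx]
      simp only [W', min_eq_left hi.le, min_eq_left (show i + 1 ≤ n from hi)] at hxW ⊢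
      refine SmallEss.step_triv hS ((hle _ hi).trans hPS) (hstep i hi).1 (hstep i hi).2 hgS
        (hg g hgN i hi) (fun b hb => ?_) x hxW
      rcases (show i + 1 < n ∨ i + 1 = n by omega) with h | h
      · exact hg g hgN _ h b hb
      · subst h; rw [hn] at hb ⊢; exact cj_mem_normalizerIn hgN hb
  have := finite_mulAut (P := P) hPS
  have hKeq : K = autInducedBy S P :=
    (isFullyAutomized_iff.mp haut).2.2.2 K hKp hAS fun α hα => hα.1.1
  have hfi : img P f = P := hf.img_eq_self hfP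
  obtain ⟨α, hαA, hαe⟩ := exists_aut hf hfi
  have hα0 : α ∈ A0 := by
    refine ⟨hαA, fun i x hx h => by rw [hαe x hx]; exact hf' i x h, fun i x hx h => ?_⟩
    have hr : IsMor F (P ⊓ W' i) f := hf.restrict inf_le_left
    have he := hr.img_eq_self fun y hy => ⟨hfP y hy.1, hf' i y hy.2⟩
    obtain ⟨y, hy, rfl⟩ := hr.mem_img.mp (he.ge ⟨hx, h⟩)
    rw [← hαe y hy.1, autFun_inv_left α hy.1]
    exact hy.2
  obtain ⟨ψ, hψ, hψe⟩ := (isReceptive_iff.mp hrec).2 P f hf hfi
  have hext : nExt S P f = normalizerIn S P := by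
    refine le_antisymm (nExt_le f) fun g hgN => ?_
    obtain ⟨hgS, hgn⟩ := mem_normalizerIn.1 hgN
    obtain ⟨β, hβ, hβe⟩ := exists_autInducedBy (P := P) hgS hgn
    obtain ⟨h, hh, -, hhe⟩ := mem_autInducedBy.1
      (hKeq ▸ seriesStab_conj hα0 (hAS hβ) : α * β * α⁻¹ ∈ autInducedBy S P)
    refine ⟨hgS, hgn, h, hh, fun x hx => ?_⟩
    have := hhe _ (autFun_mem α hx)
    rw [autFun_mul _ _ (autFun_mem α hx), autFun_inv_left α hx, autFun_mul _ _ hx, hβe x hx,
      hαe x hx] at this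
    rwa [hαe (cj g x) (cj_mem_normalizerIn hgN hx)] at this
  rw [hext] at hψ
  refine ⟨ψ, hψ, hψe, fun y hy => ?_⟩
  have h1 := mapsTo_normalizerIn hψ (le_normalizerIn hPS) le_rfl y hy
  rwa [(img_congr hψe).trans hfi] at h1

/-- A map of a normal subgroup preserving a series with steps of index at most `p` extends to an
automorphism of `S`. -/
theorem extend_top (hS : IsPGroup p S) (hF : F.IsSaturated p) {P : Subgroup Ω} (hPS : P ≤ S)
    (hPn : normalizerIn S P = S) {n : ℕ} (W : ℕ → Subgroup Ω) (h0 : W 0 = ⊥) (hn : W n = P)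
    (hstep : ∀ i < n, W i ≤ W (i + 1) ∧ Nat.card (W (i + 1)) ≤ p * Nat.card (W i))
    (hg : ∀ g ∈ S, ∀ i < n, ∀ x ∈ W i, cj g x ∈ W i)
    {f : Ω → Ω} (hf : IsMor F P f) (hfP : ∀ x ∈ P, f x ∈ P)
    (hfW : ∀ i < n, ∀ x ∈ W i, f x ∈ W i) :
    ∃ Ψ : MulAut ↥S, Ψ ∈ F.autGroup S ∧ ∀ y : ↥S, (y : Ω) ∈ P → (Ψ y : Ω) = f y := by
  obtain ⟨ψ, hψ, hψe, -⟩ := extend_series hS hF (isFullyNormalized_of_normal hPS hPn) W h0 hn
    hstep (fun g h => hg g (normalizerIn_le h)) hf hfP hfW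
  rw [hPn] at hψ
  obtain ⟨Ψ, hΨA, hΨ⟩ := exists_aut hψ (hψ.img_eq_self fun x hx => hψ.mem hx)
  exact ⟨Ψ, hΨA, fun y hy => by rw [← autFun_coe, hΨ y y.2, hψe y hy]⟩

/-- A subgroup containing the commutators is normalised. -/
theorem conj_mem_of_commutators {T : Subgroup Ω}
    (hT : ∀ a ∈ S, ∀ b ∈ S, a * b * a⁻¹ * b⁻¹ ∈ T) (hTS : T ≤ S) {a : Ω} (ha : a ∈ S) {t : Ω}
    (ht : t ∈ T) : a * t * a⁻¹ ∈ T := by
  have := T.mul_mem (hT a ha t (hTS ht)) ht
  rwa [inv_mul_cancel_right] at this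

/-- The derived group together with the moves of the automorphisms of `S`. -/
def topMoves (F : FusionSystem S) : Subgroup ↥S :=
  commutator ↥S ⊔ Subgroup.closure {y | ∃ α ∈ F.autGroup S, ∃ x : ↥S, y = α x * x⁻¹}

/-- The same subgroup inside the ambient group. -/
def tMoves (F : FusionSystem S) : Subgroup Ω := (topMoves F).map S.subtype

theorem mem_tMoves {x : ↥S} : (x : Ω) ∈ tMoves F ↔ x ∈ topMoves F :=
  Subgroup.mem_map_iff_mem S.subtype_injective

theorem tMoves_le : tMoves F ≤ S := Subgroup.map_subtype_le _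

theorem commutator_mem_tMoves {a b : Ω} (ha : a ∈ S) (hb : b ∈ S) :
    a * b * a⁻¹ * b⁻¹ ∈ tMoves F :=
  mem_tMoves.2 (Subgroup.mem_sup_left (commutator_def ↥S ▸
    Subgroup.commutator_mem_commutator (Subgroup.mem_top (⟨a, ha⟩ : ↥S))
      (Subgroup.mem_top (⟨b, hb⟩ : ↥S))) :
        (⟨a, ha⟩ * ⟨b, hb⟩ * (⟨a, ha⟩)⁻¹ * (⟨b, hb⟩)⁻¹ : ↥S) ∈ topMoves F)

theorem move_mem_tMoves {α : MulAut ↥S} (hα : α ∈ F.autGroup S) {x : Ω} (hx : x ∈ S) :
    autFun α x * x⁻¹ ∈ tMoves F := by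
  rw [autFun_of_mem α hx]
  exact (mem_tMoves (x := α ⟨x, hx⟩ * ⟨x, hx⟩⁻¹)).2
    (Subgroup.mem_sup_right (Subgroup.subset_closure ⟨α, hα, ⟨x, hx⟩, rfl⟩))

/-- The automorphisms moving everything inside `T` form a subgroup. -/
def movesIn (P T : Subgroup Ω) : Subgroup (MulAut P) where
  carrier := {α | ∀ x ∈ P, autFun α x * x⁻¹ ∈ T}
  one_mem' := fun x hx => by rw [autFun_one hx, mul_inv_cancel]; exact T.one_mem
  mul_mem' := by
    intro α β hα hβ x hx
    have := T.mul_mem (hα _ (autFun_mem β hx)) (hβ x hx)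
    rw [autFun_mul _ _ hx]
    simpa [mul_assoc] using this
  inv_mem' := by
    intro α hα x hx
    have := T.inv_mem (hα _ (autFun_mem α⁻¹ hx))
    rw [autFun_inv_right α hx] at this
    simpa using this

/-- If every essential automorphism moves inside `tMoves` and some element off the derived group
is fixed modulo it, then the hyperfocal subgroup is proper. -/
theorem false_of_good (hS : IsPGroup p S) (hF : F.IsSaturated p)
    (hhyp : F.hyperfocalSubgroup p = S) {l : ↥S} (hl : l ∉ commutator ↥S)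
    (hfix : ∀ α ∈ F.autGroup S, α l * l⁻¹ ∈ commutator ↥S)
    (hgood : ∀ P : Subgroup Ω, F.IsEssential p P → F.autGroup P ≤ movesIn P (tMoves F)) :
    False := by
  -- all moves lie in `tMoves`
  have hmoves : ∀ P : Subgroup Ω, (P = S ∨ F.IsEssential p P) →
      ∀ α ∈ F.autGroup P, ∀ x ∈ P, autFun α x * x⁻¹ ∈ tMoves F := by
    rintro P (rfl | hP) α hα x hx
    · exact move_mem_tMoves hα hx
    · exact hgood P hP hα x hx
  have hn : ∀ a ∈ S, ∀ t ∈ tMoves F, a * t * a⁻¹ ∈ tMoves F := fun a ha t ht =>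
    conj_mem_of_commutators (fun a ha b hb => commutator_mem_tMoves ha hb) tMoves_le ha ht
  have hle : F.hyperfocalSubgroup p ≤ tMoves F := by
    refine (Subgroup.closure_le _).2 ?_
    rintro _ ⟨P, ⟨α, hα⟩, x, hPS, -, rfl⟩
    have h1 := hn _ (S.inv_mem (hPS x.2)) _ (div_mem_of_autos hS hF
      (fun a ha b hb => commutator_mem_tMoves ha hb) hn hmoves (isMor_autFun hPS hα) x.2)
    rw [inv_inv, mul_assoc, mul_assoc, inv_mul_cancel, mul_one, autFun_of_mem α x.2] at h1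
    exact h1
  have htop : topMoves F = ⊤ := by
    refine eq_top_iff.2 fun x _ => mem_tMoves.1 (hle ?_)
    rw [hhyp]
    exact x.2
  -- the norm over the automorphisms induced on the abelianisation
  have := finite_mulAut (P := S) le_rfl
  let φ : F.autGroup S →* MulAut (Abelianization ↥S) :=
    MonoidHom.mk' (fun α => (α : MulAut ↥S).abelianizationCongr) fun α β => MulEquiv.ext fun v => by
      induction v using QuotientGroup.induction_on with
      | _ z => rfl
  haveI : Finite (Abelianization ↥S) := inferInstanceAs (Finite (↥S ⧸ commutator ↥S))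
  haveI : Finite (MulAut (Abelianization ↥S)) :=
    Finite.of_injective (fun e => (e : _ → _)) DFunLike.coe_injective
  letI := Fintype.ofFinite φ.range
  let N : Abelianization ↥S →* Abelianization ↥S :=
    MonoidHom.mk' (fun v => ∏ a : φ.range, (a : MulAut (Abelianization ↥S)) v) fun v w => by
      simp only [map_mul, Finset.prod_mul_distrib]
  have hNker : topMoves F ≤ (N.comp Abelianization.of).ker := by
    refine sup_le ((Abelianization.commutator_subset_ker (N.comp Abelianization.of))) ?_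
    refine (Subgroup.closure_le _).2 ?_
    rintro _ ⟨α, hα, x, rfl⟩
    refine MonoidHom.mem_ker.2 ?_
    rw [MonoidHom.comp_apply, map_mul, map_inv, map_mul, map_inv]
    refine mul_inv_eq_one.2 ?_
    show ∏ a : φ.range, (a : MulAut (Abelianization ↥S)) (φ ⟨α, hα⟩ (Abelianization.of x)) =
      ∏ a : φ.range, (a : MulAut (Abelianization ↥S)) (Abelianization.of x)
    exact Fintype.prod_equiv (Equiv.mulRight (⟨φ ⟨α, hα⟩, ⟨_, rfl⟩⟩ : φ.range)) _ _
      fun a => rfl
  have hNl : N (Abelianization.of l) = Abelianization.of l ^ Nat.card φ.range := by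
    show ∏ a : φ.range, (a : MulAut (Abelianization ↥S)) (Abelianization.of l) = _
    rw [Finset.prod_eq_pow_card (b := Abelianization.of l), Finset.card_univ,
      Nat.card_eq_fintype_card]
    rintro ⟨_, ⟨α, hα⟩, rfl⟩ -
    show Abelianization.of (α l) = Abelianization.of l
    refine mul_inv_eq_one.1 ?_
    rw [← map_inv, ← map_mul, ← MonoidHom.mem_ker, Abelianization.ker_of]
    exact hfix α hα
  have hN1 : N (Abelianization.of l) = 1 :=
    hNker (htop.symm ▸ Subgroup.mem_top l : l ∈ topMoves F)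
  -- the induced group has order prime to `p`
  obtain ⟨-, R, hR⟩ := (isFullyAutomized_of_normalized hS hF
    (isFullyNormalized_of_normal (F := F) le_rfl
      (le_antisymm normalizerIn_le (le_normalizerIn le_rfl)))).1
  have hcop : ¬ p ∣ Nat.card φ.range := by
    rw [← Subgroup.index_ker]
    refine fun h => R.not_dvd_index (h.trans (Subgroup.index_dvd_of_le ?_))
    intro α hα
    rw [hR] at hα
    obtain ⟨g, hg, -, hge⟩ := mem_autInducedBy.1 (Subgroup.mem_subgroupOf.1 hα)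
    refine MonoidHom.mem_ker.2 (MulEquiv.ext fun v => ?_)
    induction v using QuotientGroup.induction_on with
    | _ z =>
      show Abelianization.of ((α : MulAut ↥S) z) = Abelianization.of z
      rw [show (α : MulAut ↥S) z = ⟨g, hg⟩ * z * (⟨g, hg⟩ : ↥S)⁻¹ from Subtype.ext (by
          rw [← autFun_coe, hge z z.2]; rfl),
        map_mul, map_mul, map_inv, mul_comm (Abelianization.of (⟨g, hg⟩ : ↥S)),
        mul_inv_cancel_right]
  rw [hNl, ← orderOf_dvd_iff_pow_eq_one] at hN1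
  obtain ⟨k, hk⟩ := hS l
  have h1 : orderOf (Abelianization.of l) ∣ p ^ k :=
    orderOf_dvd_of_pow_eq_one (by rw [← map_pow, hk, map_one])
  obtain ⟨j, -, hj⟩ := (Nat.dvd_prime_pow hp.1).1 h1
  rcases j with _ | j
  · refine hl ?_
    rw [← Abelianization.ker_of, MonoidHom.mem_ker]
    exact orderOf_eq_one_iff.1 (hj.trans (pow_zero p))
  · exact hcop ((dvd_pow_self p (Nat.succ_ne_zero j)).trans (hj ▸ hN1))

/-- The commutator of congruent elements is congruent to a power of the commutator. -/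
theorem comm_pow_congr {G : Type*} [Group G] (M : Subgroup G) [M.Normal] {a a₁ b b₁ : G} {i j : ℤ}
    (hn₁ : ⁅(a₁ ^ i)⁻¹ * a, b⁆ ∈ M) (hn₂ : ⁅a₁, (b₁ ^ j)⁻¹ * b⁆ ∈ M)
    (hca : ⁅⁅a₁, b₁⁆, a₁⁆ ∈ M) (hcb : ⁅⁅a₁, b₁⁆, b₁⁆ ∈ M) :
    (⁅a₁, b₁⁆ ^ (i * j))⁻¹ * ⁅a, b⁆ ∈ M := by
  set π := QuotientGroup.mk' M
  have key : ∀ {x y : G}, ⁅x, y⁆ ∈ M → Commute (π x) (π y) := fun h =>
    commutatorElement_eq_one_iff_commute.1
      ((map_commutatorElement π _ _).symm.trans ((QuotientGroup.eq_one_iff _).2 h))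
  refine (QuotientGroup.eq_one_iff _).1 ?_
  show π ((⁅a₁, b₁⁆ ^ (i * j))⁻¹ * ⁅a, b⁆) = 1
  rw [map_mul, map_inv, map_zpow, map_commutatorElement, map_commutatorElement,
    inv_mul_eq_one]
  have c1 := key hn₁
  have c2 := key hn₂
  have c3 := key hca
  have c4 := key hcb
  rw [map_mul, map_inv, map_zpow] at c1 c2
  rw [map_commutatorElement] at c3 c4
  set A := π a
  set B := π b
  set A₁ := π a₁
  set B₁ := π b₁
  set c := ⁅A₁, B₁⁆ with hc
  -- conjugation by `A₁ ^ i` on the second entry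
  have e1 : A₁ * B₁ * A₁⁻¹ = c * B₁ := by rw [hc, commutatorElement_def]; group
  have e2 : ∀ k : ℤ, A₁ * B₁ ^ k * A₁⁻¹ = c ^ k * B₁ ^ k := fun k => by
    rw [← conj_zpow, e1, c4.mul_zpow]
  have e3 : A₁ * B * A₁⁻¹ = c ^ j * B := by
    calc A₁ * B * A₁⁻¹ = A₁ * B₁ ^ j * A₁⁻¹ * (A₁ * ((B₁ ^ j)⁻¹ * B) * A₁⁻¹) := by group
      _ = c ^ j * B₁ ^ j * ((B₁ ^ j)⁻¹ * B) := by rw [e2, c2.eq, mul_inv_cancel_right]
      _ = c ^ j * B := by group
  have e4 : ∀ k : ℕ, A₁ ^ k * B * (A₁ ^ k)⁻¹ = c ^ (j * k) * B := by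
    intro k
    induction k with
    | zero => simp
    | succ k ih =>
      calc A₁ ^ (k + 1) * B * (A₁ ^ (k + 1))⁻¹ = A₁ * (A₁ ^ k * B * (A₁ ^ k)⁻¹) * A₁⁻¹ := by
            rw [pow_succ']; group
        _ = A₁ * c ^ (j * k) * B * A₁⁻¹ := by rw [ih, ← mul_assoc]
        _ = c ^ (j * k) * (A₁ * B * A₁⁻¹) := by
            rw [(c3.symm.zpow_right (j * k)).eq]; group
        _ = c ^ (j * (k + 1 : ℕ)) * B := by
            rw [e3, ← mul_assoc, ← zpow_add]
            congr 2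
            push_cast
            ring
  have e5 : A₁ ^ i * B * (A₁ ^ i)⁻¹ = c ^ (j * i) * B := by
    obtain ⟨k, rfl | rfl⟩ := Int.eq_nat_or_neg i
    · rw [zpow_natCast]; exact e4 k
    · have h1 := e4 k
      have h2 : (A₁ ^ k)⁻¹ * c ^ (j * k) * A₁ ^ k = c ^ (j * k) := by
        rw [mul_assoc, ((c3.zpow_left (j * k)).pow_right k).eq, inv_mul_cancel_left]
      have h3 : B = c ^ (j * k) * ((A₁ ^ k)⁻¹ * B * A₁ ^ k) := by
        calc B = (A₁ ^ k)⁻¹ * (A₁ ^ k * B * (A₁ ^ k)⁻¹) * A₁ ^ k := by group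
          _ = (A₁ ^ k)⁻¹ * c ^ (j * k) * A₁ ^ k * ((A₁ ^ k)⁻¹ * B * A₁ ^ k) := by
              rw [h1]; group
          _ = _ := by rw [h2]
      rw [zpow_neg, zpow_natCast, inv_inv, mul_neg, zpow_neg]
      conv_rhs => rw [h3]
      rw [inv_mul_cancel_left]
  have e6 : A * B * A⁻¹ = A₁ ^ i * B * (A₁ ^ i)⁻¹ := by
    calc A * B * A⁻¹ = A₁ ^ i * (((A₁ ^ i)⁻¹ * A) * B * ((A₁ ^ i)⁻¹ * A)⁻¹) * (A₁ ^ i)⁻¹ := by
          group
      _ = _ := by rw [c1.eq, mul_inv_cancel_right]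
  rw [commutatorElement_def, e6, e5, mul_inv_cancel_right, mul_comm i j]

end CfsgLib.Fusion.OrderFive
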