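import Mathlib
import Cfsg.Agent.Lib.Fusion.SmallEssentialAbelian

/-!
# Diagonal elements and transitivity from two transvections in rank two
-/

set_option autoImplicit false

namespace CfsgLib.Fusion.OrderFive

open CfsgLib.Fusion.SmallEss

open CfsgLib.ThreeTransp in
/-- Two transvections with different axes realise every matrix of determinant one. -/
theorem exists_matrix {p : ℕ} [hp : Fact p.Prime] {G : Type*} [CommGroup G] [Finite G]
    (hG : Nat.card G = p ^ 2) (A : Subgroup (MulAut G)) {e f : G} (he : e ^ p = 1) (hf : f ^ p = 1)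
    (he1 : e ≠ 1) (hfe : f ∉ Subgroup.zpowers e) {τ σ : MulAut G} (hτA : τ ∈ A) (hσA : σ ∈ A)
    {k m : ℕ} (hτe : τ e = e) (hτf : τ f = e ^ k * f) (hk : ¬ p ∣ k)
    (hσf : σ f = f) (hσe : σ e = e * f ^ m) (hm : ¬ p ∣ m) (a b c d : ZMod p)
    (hdet : a * d - b * c = 1) :
    ∃ α ∈ A, α e = e ^ a.val * f ^ c.val ∧ α f = e ^ b.val * f ^ d.val := by
  obtain ⟨E, hE⟩ := exists_coords hG he hf he1 hfe
  let ρ₀ : Matrix.SpecialLinearGroup (Fin 2) (ZMod p) → MulAut G := fun M =>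
    E.symm.trans ((AddEquiv.toMultiplicative
      (Matrix.SpecialLinearGroup.toLin' M).toAddEquiv).trans E)
  have hρ₀ : ∀ M (v : Fin 2 → ZMod p), ρ₀ M (E (Multiplicative.ofAdd v)) =
      E (Multiplicative.ofAdd ((M : Matrix (Fin 2) (Fin 2) (ZMod p)).mulVec v)) := fun M v => by
    simp only [ρ₀, MulEquiv.trans_apply, MulEquiv.symm_apply_apply]
    rfl
  let ρ : Matrix.SpecialLinearGroup (Fin 2) (ZMod p) →* MulAut G :=
    MonoidHom.mk' ρ₀ fun M N => MulEquiv.ext fun x => by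
      obtain ⟨v, rfl⟩ := E.surjective x
      obtain ⟨v, rfl⟩ : ∃ w, Multiplicative.ofAdd w = v := ⟨v.toAdd, rfl⟩
      rw [MulAut.mul_apply, hρ₀, hρ₀, hρ₀, Matrix.SpecialLinearGroup.coe_mul,
        Matrix.mulVec_mulVec]
  have hρ : ∀ M (v : Fin 2 → ZMod p), ρ M (E (Multiplicative.ofAdd v)) =
      E (Multiplicative.ofAdd ((M : Matrix (Fin 2) (Fin 2) (ZMod p)).mulVec v)) := hρ₀
  have hinj : Function.Injective ρ := by
    intro M N h
    refine Subtype.ext (Matrix.ext fun i j => ?_)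
    have h1 := DFunLike.congr_fun h (E (Multiplicative.ofAdd (Pi.single j 1)))
    rw [hρ, hρ] at h1
    have h2 := congrFun (Multiplicative.ofAdd.injective (E.injective h1)) i
    simpa using h2
  have hU : ∀ t, ρ (sl2U (ZMod p) t) ∈ A := by
    intro t
    obtain ⟨j, hj⟩ : ∃ j : ℕ, ((j * k : ℕ) : ZMod p) = t := by
      refine ⟨(t / (k : ZMod p)).val, ?_⟩
      rw [Nat.cast_mul, ZMod.natCast_zmod_val,
        div_mul_cancel₀ t (fun h => hk ((ZMod.natCast_eq_zero_iff _ _).1 h))]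
    convert A.pow_mem hτA j using 1
    have hpow : ∀ j : ℕ, (τ ^ j) e = e ∧ (τ ^ j) f = e ^ (j * k) * f := by
      intro j
      induction j with
      | zero => simp
      | succ j ih =>
        rw [pow_succ', MulAut.mul_apply, MulAut.mul_apply, ih.1, ih.2, map_mul, map_pow, hτe, hτf,
          ← mul_assoc, ← pow_add, Nat.succ_mul]
        exact ⟨rfl, rfl⟩
    refine MulEquiv.ext fun x => ?_
    obtain ⟨v, rfl⟩ := E.surjective x
    obtain ⟨v, rfl⟩ : ∃ w, Multiplicative.ofAdd w = v := ⟨v.toAdd, rfl⟩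
    rw [hρ, hE, hE, map_mul, map_pow, map_pow, (hpow j).1, (hpow j).2, mul_pow, ← pow_mul,
      ← mul_assoc, ← pow_add, sl2U_val]
    have h0 : (!![1, t; 0, 1].mulVec v) 0 = v 0 + t * v 1 := by
      simp [Matrix.mulVec, dotProduct, Fin.sum_univ_two]
    have h1 : (!![1, t; 0, 1].mulVec v) 1 = v 1 := by
      simp [Matrix.mulVec, dotProduct, Fin.sum_univ_two]
    rw [h0, h1, pow_eq_pow_mod _ he, ← hj]
    conv_rhs => rw [pow_eq_pow_mod _ he]
    congr 2
    rw [← ZMod.natCast_eq_natCast_iff', ZMod.natCast_zmod_val]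
    push_cast [ZMod.natCast_zmod_val]
    ring
  have hL : ∀ t, ρ (sl2L (ZMod p) t) ∈ A := by
    intro t
    obtain ⟨j, hj⟩ : ∃ j : ℕ, ((j * m : ℕ) : ZMod p) = t := by
      refine ⟨(t / (m : ZMod p)).val, ?_⟩
      rw [Nat.cast_mul, ZMod.natCast_zmod_val,
        div_mul_cancel₀ t (fun h => hm ((ZMod.natCast_eq_zero_iff _ _).1 h))]
    convert A.pow_mem hσA j using 1
    have hpow : ∀ j : ℕ, (σ ^ j) f = f ∧ (σ ^ j) e = e * f ^ (j * m) := by
      intro j
      induction j with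
      | zero => simp
      | succ j ih =>
        rw [pow_succ', MulAut.mul_apply, MulAut.mul_apply, ih.1, ih.2, map_mul, map_pow, hσe, hσf,
          mul_assoc, ← pow_add, Nat.succ_mul, add_comm m]
        exact ⟨rfl, rfl⟩
    refine MulEquiv.ext fun x => ?_
    obtain ⟨v, rfl⟩ := E.surjective x
    obtain ⟨v, rfl⟩ : ∃ w, Multiplicative.ofAdd w = v := ⟨v.toAdd, rfl⟩
    rw [hρ, hE, hE, map_mul, map_pow, map_pow, (hpow j).1, (hpow j).2, mul_pow, ← pow_mul,
      mul_assoc, ← pow_add, sl2L_val]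
    have h0 : (!![1, 0; t, 1].mulVec v) 0 = v 0 := by
      simp [Matrix.mulVec, dotProduct, Fin.sum_univ_two]
    have h1 : (!![1, 0; t, 1].mulVec v) 1 = t * v 0 + v 1 := by
      simp [Matrix.mulVec, dotProduct, Fin.sum_univ_two]
    rw [h0, h1, pow_eq_pow_mod _ hf, ← hj]
    conv_rhs => rw [pow_eq_pow_mod _ hf]
    congr 2
    rw [← ZMod.natCast_eq_natCast_iff', ZMod.natCast_zmod_val]
    push_cast [ZMod.natCast_zmod_val]
    ring
  have hrange : ρ.range ≤ A := by
    rw [MonoidHom.range_eq_map, ← sl2_gen, Subgroup.map_sup, sup_le_iff]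
    constructor
    · rintro _ ⟨g, hg, rfl⟩
      obtain ⟨t, rfl⟩ := (mem_lowerUnipotentSL2 _).1 hg
      exact hL t
    · rintro _ ⟨g, hg, rfl⟩
      obtain ⟨t, rfl⟩ := (mem_upperUnipotentSL2 _).1 hg
      exact hU t
  let M : Matrix.SpecialLinearGroup (Fin 2) (ZMod p) :=
    ⟨!![a, b; c, d], by rw [Matrix.det_fin_two_of]; exact hdet⟩
  refine ⟨ρ M, hrange ⟨M, rfl⟩, ?_, ?_⟩
  · have h := hρ M ![1, 0]
    rw [hE, hE] at h
    simpa [M, Matrix.mulVec, dotProduct, Fin.sum_univ_two, ZMod.val_one, ZMod.val_zero] using h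
  · have h := hρ M ![0, 1]
    rw [hE, hE] at h
    simpa [M, Matrix.mulVec, dotProduct, Fin.sum_univ_two, ZMod.val_one, ZMod.val_zero] using h

end CfsgLib.Fusion.OrderFive
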