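import Mathlib
import Cfsg.Agent.Lib.Fusion.OrderFiveTorus
import Cfsg.Agent.Lib.Fusion.OrderFiveTools

/-!
# Frames of essential subgroups with a quotient of rank two
-/

set_option autoImplicit false
set_option linter.unusedSectionVars false
set_option linter.style.haveILetI false

namespace CfsgLib.Fusion.OrderFive

open Cfsg Cfsg.FusionSystem CfsgLib.Fusion
open scoped commutatorElement

universe u

variable {Ω : Type u} [Group Ω] {S : Subgroup Ω} [Finite S] {p : ℕ} [hp : Fact p.Prime]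
  {F : FusionSystem S}

/-- A step of index `p` is generated by any element outside. -/
theorem mem_step (hS : IsPGroup p S) {A B : Subgroup Ω} (hBS : B ≤ S) (hAB : A ≤ B)
    (hcard : Nat.card B ≤ p * Nat.card A) {b : Ω} (hb : b ∈ B) (hbA : b ∉ A) {x : Ω} (hx : x ∈ B) :
    ∃ i : ℕ, (b ^ i)⁻¹ * x ∈ A := by
  have : Finite B := finite_of_le hBS
  have : Finite A := finite_of_le (hAB.trans hBS)
  have hBp := isPGroup_of_le hBS hS
  set A' := A.subgroupOf B with hA'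
  obtain ⟨i, hi⟩ := hBp.index A'
  have h1 := A'.card_mul_index
  rw [Nat.card_congr (Subgroup.subgroupOfEquivOfLe hAB).toEquiv] at h1
  have hne : A'.index ≠ 1 := fun h =>
    hbA (Subgroup.subgroupOf_eq_top.1 (Subgroup.index_eq_one.1 h) hb)
  have hle : A'.index ≤ p := Nat.le_of_mul_le_mul_left
    (h1.le.trans (hcard.trans (le_of_eq (mul_comm _ _)))) Nat.card_pos
  have hidx : A'.index = p := by
    rw [hi] at hle hne ⊢
    rcases i with _ | _ | i
    · exact absurd (pow_zero p) hne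
    · exact pow_one p
    · exfalso
      have h2 : p ^ 2 ≤ p ^ (i + 1 + 1) := Nat.pow_le_pow_right hp.1.pos (by omega)
      have h3 := hp.1.two_le
      nlinarith
  haveI : A'.Normal := CfsgLib.PGroups.normal_of_isCoatom hBp
    (CfsgLib.PGroups.isCoatom_of_index_eq_prime hidx)
  have hQ : Nat.card (B ⧸ A') = p := hidx
  have hgen : Subgroup.zpowers (QuotientGroup.mk' A' ⟨b, hb⟩) = ⊤ := by
    refine zpowers_eq_top_of_prime_card hQ ?_
    exact fun h => hbA ((QuotientGroup.eq_one_iff (⟨b, hb⟩ : B)).1 h :)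
  obtain ⟨k, hk⟩ := mem_powers_iff_mem_zpowers.2
    (hgen ▸ Subgroup.mem_top (QuotientGroup.mk' A' ⟨x, hx⟩) :
      QuotientGroup.mk' A' ⟨x, hx⟩ ∈ Subgroup.zpowers (QuotientGroup.mk' A' ⟨b, hb⟩))
  refine ⟨k, ?_⟩
  simp only at hk
  rw [← map_pow] at hk
  exact (QuotientGroup.eq (a := (⟨b, hb⟩ : B) ^ k) (b := ⟨x, hx⟩)).1 hk

/-- The frame of an essential subgroup which is elementary of rank two over an invariant
subgroup `K`. -/
theorem exists_frame (hS : IsPGroup p S) (hF : F.IsSaturated p) {E : Subgroup Ω}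
    (hE : F.IsEssential p E) {K J : Subgroup Ω} {n : ℕ} (W : ℕ → Subgroup Ω) (h0 : W 0 = ⊥)
    (hn : W n = K)
    (hstep : ∀ i < n, W i ≤ W (i + 1) ∧ Nat.card (W (i + 1)) ≤ p * Nat.card (W i))
    (hinv : ∀ α ∈ F.autGroup E, ∀ i ≤ n, ∀ x ∈ W i, autFun α x ∈ W i)
    (hKJ : K ≤ J) (hJE : J ≤ E) (hcJ : Nat.card J = p * Nat.card K)
    (hcE : Nat.card E = p * Nat.card J) (hpow : ∀ x ∈ E, x ^ p ∈ K)
    (hcomm : ∀ x ∈ E, ∀ y ∈ E, ⁅x, y⁆ ∈ K) {g : Ω} (hg : g ∈ normalizerIn S E) (hgE : g ∉ E)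
    (hgJ : ∀ x ∈ J, cj g x ∈ J) :
    ∃ e ∈ J, e ∉ K ∧ ∃ f ∈ E, f ∉ J ∧ f⁻¹ * cj g f ∉ K ∧
      ∃ Y : Subgroup (MulAut E), Y ≤ F.autGroup E ∧
        (∀ γ ∈ Y, ∀ i < n, ∀ x ∈ W (i + 1), x⁻¹ * autFun γ x ∈ W i) ∧
        (∀ t : ZMod p, t ≠ 0 → ∃ δ ∈ Y, (e ^ t.val)⁻¹ * autFun δ e ∈ K ∧
          (f ^ t⁻¹.val)⁻¹ * autFun δ f ∈ K ∧ ∀ x ∈ J, autFun δ x ∈ J) ∧
        ∀ y ∈ E, y ∉ K → ∃ γ ∈ Y, y⁻¹ * autFun γ e ∈ K := by
  classical
  have hES := hE.1.1
  have : Finite E := finite_of_le hES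
  have hJS : J ≤ S := hJE.trans hES
  have hKS : K ≤ S := hKJ.trans hJS
  have hKE : K ≤ E := hKJ.trans hJE
  have hWle : ∀ i ≤ n, W i ≤ K := by
    intro i hi
    induction hk : n - i generalizing i with
    | zero => rw [show i = n by omega, hn]
    | succ k ih => exact (hstep i (by omega)).1.trans (ih (i + 1) (by omega) (by omega))
  have hKinv : ∀ α ∈ F.autGroup E, ∀ x ∈ K, autFun α x ∈ K := fun α hα x hx =>
    hn ▸ hinv α hα n le_rfl x (hn.symm ▸ hx)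
  obtain ⟨hgS, hgn⟩ := mem_normalizerIn.1 hg
  obtain ⟨τ₀, hτ₀, hτ₀e⟩ := exists_autInducedBy (P := E) hgS hgn
  have hτA : τ₀ ∈ F.autGroup E := autInducedBy_le F hES hτ₀
  have hgE' : ∀ x ∈ E, cj g x ∈ E := fun x hx => cj_mem_normalizerIn hg hx
  have hgW : ∀ i ≤ n, ∀ x ∈ W i, cj g x ∈ W i := fun i hi x hx =>
    hτ₀e x (hKE (hWle i hi hx)) ▸ hinv τ₀ hτA i hi x hx
  have hgK : ∀ x ∈ K, cj g x ∈ K := hn ▸ hgW n le_rfl
  have hEJ : ∀ x ∈ E, x⁻¹ * cj g x ∈ J :=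
    SmallEss.step_triv hS hES hJE hcE.le hgS hgJ hgE'
  have hJK : ∀ x ∈ J, x⁻¹ * cj g x ∈ K :=
    SmallEss.step_triv hS hJS hKJ hcJ.le hgS hgK hgJ
  -- the line and an element moved onto it
  obtain ⟨f₀, hf₀, hf₀K⟩ : ∃ f₀ ∈ E, f₀⁻¹ * cj g f₀ ∉ K := by
    by_contra! h
    let W' : ℕ → Subgroup Ω := fun i => if i ≤ n then W i else E
    refine hgE (mem_of_stabilizing hS hE.1 (essential_radical hS hE) (n + 1) W' ?_ ?_ ?_ hg ?_)
    · intro α hα i x hx hxW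
      by_cases hi : i ≤ n
      · simp only [W', hi, if_true] at hxW ⊢
        exact hinv α hα i hi x hxW
      · simp only [W', hi, if_false]
        exact autFun_mem α hx
    · simp [W', h0]
    · simp [W']
    · intro i hi x hx hxW
      rcases (show i < n ∨ i = n by omega) with h' | rfl
      · simp only [W', h'.le, show i + 1 ≤ n from h', if_true] at hxW ⊢
        exact SmallEss.step_triv hS ((hWle _ h').trans hKS) (hstep i h').1 (hstep i h').2 hgS
          (hgW i h'.le) (hgW (i + 1) h') x hxW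
      · simp only [W', le_refl, if_true, hn]
        exact h x hx
  set e := f₀⁻¹ * cj g f₀ with he
  have heJ : e ∈ J := hEJ f₀ hf₀
  have heE : e ∈ E := hJE heJ
  have hstepJ : ∀ x ∈ J, ∃ i : ℕ, (e ^ i)⁻¹ * x ∈ K := fun x hx =>
    mem_step hS hJS hKJ hcJ.le heJ hf₀K hx
  -- some automorphism moves the line
  obtain ⟨α, hα, hαe⟩ : ∃ α ∈ F.autGroup E, autFun α e ∉ J := by
    by_contra! hno
    let W' : ℕ → Subgroup Ω := fun i => if i ≤ n then W i else if i = n + 1 then J else E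
    refine SmallEss.false_of_series hS hF hE (le_refl E) (fun β _ _ h => autFun_inj fun x hx =>
        (h x hx).trans (autFun_one hx).symm) (n := n + 2) W' (by simp [W', h0]) (by simp [W'])
      (fun i hi => ?_) (fun β hβ i _ x hx => ?_)
    · rcases (show i < n ∨ i = n ∨ i = n + 1 by omega) with h' | rfl | rfl
      · simp only [W', h'.le, show i + 1 ≤ n from h', if_true]
        exact hstep i h'
      · simp only [W', le_refl, if_true, hn, show ¬ i + 1 ≤ i by omega, if_false]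
        exact ⟨hKJ, hcJ.le⟩
      · simp only [W', show ¬ n + 1 ≤ n by omega, show ¬ n + 1 + 1 ≤ n by omega, if_false,
          if_true, show ¬ n + 1 + 1 = n + 1 by omega]
        exact ⟨hJE, hcE.le⟩
    · by_cases hi : i ≤ n
      · simp only [W', hi, if_true] at hx ⊢
        exact hinv β hβ i hi x hx
      by_cases hi' : i = n + 1
      · simp only [W', hi, hi', show ¬ n + 1 ≤ n by omega, if_false, if_true] at hx ⊢
        obtain ⟨j, hj⟩ := hstepJ x hx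
        have hm := isMor_autFun hES hβ
        rw [← mul_inv_cancel_left (e ^ j) x, hm.map_mul (E.pow_mem heE j) (hKE hj), hm.map_pow heE]
        exact J.mul_mem (J.pow_mem (hno β hβ) j) (hKJ (hKinv β hβ _ hj))
      · simp only [W', hi, hi', if_false] at hx ⊢
        exact autFun_mem β hx
  set f := autFun α e with hf
  have hfE : f ∈ E := autFun_mem α heE
  have hmα := isMor_autFun hES hα
  have hαi : autFun α⁻¹ e ∉ J := fun h => by
    have hm := isMor_autFun hES (inv_mem hα)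
    have hJJ : ∀ x ∈ J, autFun α⁻¹ x ∈ J := fun x hx => by
      obtain ⟨j, hj⟩ := hstepJ x hx
      rw [← mul_inv_cancel_left (e ^ j) x, hm.map_mul (E.pow_mem heE j) (hKE hj), hm.map_pow heE]
      exact J.mul_mem (J.pow_mem h j) (hKJ (hKinv _ (inv_mem hα) _ hj))
    have hr : IsMor F J (autFun α⁻¹) := hm.restrict hJE
    obtain ⟨y, hy, hye⟩ := hr.mem_img.1 ((hr.img_eq_self hJJ).ge heJ)
    refine hαe ?_
    rw [hf, ← hye, autFun_inv_right α (hJE hy)]
    exact hy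
  -- the quotient
  set K' := K.subgroupOf E with hK'
  haveI hK'n : K'.Normal := ⟨fun a ha b => by
    obtain ⟨β, hβ, hβe⟩ := exists_autInducedBy (P := E) (hES b.2) (Subgroup.le_normalizer b.2)
    have h1 := hKinv β (autInducedBy_le F hES hβ) (a : Ω) ha
    rwa [hβe _ a.2] at h1⟩
  letI : CommGroup (↥E ⧸ K') :=
    { (inferInstance : Group (↥E ⧸ K')) with
      mul_comm := fun x y => by
        induction x using QuotientGroup.induction_on with
        | _ a =>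
          induction y using QuotientGroup.induction_on with
          | _ b =>
            refine commutatorElement_eq_one_iff_mul_comm.1 ?_
            show ⁅QuotientGroup.mk' K' a, QuotientGroup.mk' K' b⁆ = 1
            rw [← map_commutatorElement]
            refine (QuotientGroup.eq_one_iff _).2 ?_
            show E.subtype ⁅a, b⁆ ∈ K
            rw [map_commutatorElement]
            exact hcomm a a.2 b b.2 }
  set π := QuotientGroup.mk' K' with hπ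
  have hπ1 : ∀ {x : ↥E}, π x = 1 ↔ (x : Ω) ∈ K := fun {x} =>
    (QuotientGroup.eq_one_iff x).trans Subgroup.mem_subgroupOf
  have hπeq : ∀ {x y : ↥E}, π x = π y ↔ (x : Ω)⁻¹ * y ∈ K := fun {x y} =>
    QuotientGroup.eq.trans Subgroup.mem_subgroupOf
  have hmap : ∀ β : F.autGroup E, K'.map ((β : MulAut E) : ↥E ≃* ↥E).toMonoidHom = K' := by
    intro β
    refine le_antisymm ?_ fun x hx => ?_
    · rintro _ ⟨x, hx, rfl⟩
      have := hKinv β β.2 (x : Ω) hx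
      rwa [autFun_coe] at this
    · refine ⟨(β : MulAut E)⁻¹ x, ?_, MulAut.apply_inv_self _ _ _⟩
      have := hKinv _ (inv_mem β.2) (x : Ω) hx
      rwa [autFun_coe] at this
  let Φ : F.autGroup E →* MulAut (↥E ⧸ K') :=
    MonoidHom.mk' (fun β => QuotientGroup.congr K' K' (β : MulAut E) (hmap β)) fun β γ =>
      MulEquiv.ext fun v => by
        induction v using QuotientGroup.induction_on with
        | _ z => rfl
  have hΦ : ∀ (β : F.autGroup E) (x : ↥E), Φ β (π x) = π ((β : MulAut E) x) := fun β x => rfl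
  have hΦ' : ∀ (β : F.autGroup E) {x y : Ω} (hx : x ∈ E) (hy : y ∈ E),
      Φ β (π ⟨x, hx⟩) = π ⟨y, hy⟩ ↔ y⁻¹ * autFun (β : MulAut E) x ∈ K := fun β x y hx hy => by
    rw [hΦ, eq_comm, hπeq, ← autFun_of_mem _ hx]
  -- sizes and orders
  have hcQ : Nat.card (↥E ⧸ K') = p ^ 2 := by
    have h := K'.card_eq_card_quotient_mul_card_subgroup
    rw [Nat.card_congr (Subgroup.subgroupOfEquivOfLe hKE).toEquiv, hcE, hcJ, ← mul_assoc,
      ← sq] at h
    have : Finite K := finite_of_le hKS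
    exact (Nat.eq_of_mul_eq_mul_right Nat.card_pos h).symm
  have hpQ : ∀ v : ↥E ⧸ K', v ^ p = 1 := fun v => by
    induction v using QuotientGroup.induction_on with
    | _ z =>
      show π z ^ p = 1
      rw [← map_pow, hπ1]
      simpa using hpow z z.2
  set ē := π ⟨e, heE⟩ with hebar
  set f' := π ⟨f, hfE⟩ with hfbar
  have he1 : ē ≠ 1 := fun h => hf₀K (hπ1.1 h)
  have hzJ : ∀ {x : ↥E}, π x ∈ Subgroup.zpowers ē → (x : Ω) ∈ J := fun {x} hx => by
    obtain ⟨i, hi⟩ := Subgroup.mem_zpowers_iff.1 hx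
    rw [hebar, ← map_zpow] at hi
    have h1 := J.mul_mem (J.zpow_mem heJ i) (hKJ (hπeq.1 hi))
    simpa using h1
  have hfe : f' ∉ Subgroup.zpowers ē := fun h => hαe (hzJ h)
  set τ := Φ ⟨τ₀, hτA⟩ with hτ
  have hline : ∀ x : ↥E, (π x)⁻¹ * τ (π x) ∈ Subgroup.zpowers ē := fun x => by
    rw [hτ, hΦ, ← map_inv, ← map_mul]
    obtain ⟨i, hi⟩ := hstepJ _ (hEJ x x.2)
    refine Subgroup.mem_zpowers_iff.2 ⟨i, ?_⟩
    rw [zpow_natCast, hebar, ← map_pow, hπeq]
    simpa [← autFun_coe, hτ₀e x x.2] using hi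
  have hτe : τ ē = ē := (hΦ' ⟨τ₀, hτA⟩ heE heE).2 (by rw [hτ₀e e heE]; exact hJK e heJ)
  have hkex : ∀ x : ↥E, (x : Ω) ∉ J → ∃ k : ℕ, τ (π x) = ē ^ k * π x ∧ ¬ p ∣ k := by
    intro x hxJ
    obtain ⟨k, hk⟩ := mem_powers_iff_mem_zpowers.2 (hline x)
    simp only at hk
    have hkx : τ (π x) = ē ^ k * π x := by rw [hk, mul_comm, mul_inv_cancel_left]
    refine ⟨k, hkx, ?_⟩
    rintro ⟨d, rfl⟩
    rw [pow_mul, hpQ, one_pow, one_mul] at hkx
    refine hf₀K ?_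
    obtain ⟨i, hi⟩ := mem_step hS hES hJE hcE.le x.2 hxJ hf₀
    obtain ⟨j, hj⟩ := hstepJ _ hi
    have h1 : π ⟨f₀, hf₀⟩ = π x ^ i * ē ^ j := by
      rw [hebar, ← map_pow, ← map_pow, ← map_mul, eq_comm, hπeq]
      simpa [mul_assoc] using hj
    have h2 : τ (π ⟨f₀, hf₀⟩) = π ⟨f₀, hf₀⟩ := by rw [h1, map_mul, map_pow, map_pow, hkx, hτe]
    have h3 := (hΦ' ⟨τ₀, hτA⟩ hf₀ hf₀).1 h2
    rwa [hτ₀e f₀ hf₀] at h3
  obtain ⟨k, hk, hkp⟩ := hkex ⟨f, hfE⟩ hαe
  set b : ↥E := ⟨autFun α⁻¹ e, autFun_mem _ heE⟩ with hb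
  obtain ⟨m, hm, hmp⟩ := hkex b hαi
  set σ₀ := α * τ₀ * α⁻¹ with hσ₀
  have hσA : σ₀ ∈ F.autGroup E := mul_mem (mul_mem hα hτA) (inv_mem hα)
  set Y := Subgroup.closure ({τ₀, σ₀} : Set (MulAut E)) with hY
  have hYA : Y ≤ F.autGroup E := by
    rw [hY, Subgroup.closure_le]
    rintro _ (rfl | rfl)
    exacts [hτA, hσA]
  set σ := Φ ⟨σ₀, hσA⟩ with hσ
  have hσdef : σ = Φ ⟨α, hα⟩ * τ * (Φ ⟨α, hα⟩)⁻¹ := by
    rw [hσ, hτ, ← map_inv, ← map_mul, ← map_mul]
    rfl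
  have hαf : Φ ⟨α, hα⟩ ē = f' := (hΦ' ⟨α, hα⟩ heE hfE).2 (by simp [← hf])
  have hαb : Φ ⟨α, hα⟩ (π b) = ē := (hΦ' ⟨α, hα⟩ b.2 heE).2 (by
    simp [hb, autFun_inv_right α heE])
  have hσf : σ f' = f' := by
    rw [hσdef, ← hαf, MulAut.mul_apply, MulAut.mul_apply, MulAut.inv_apply_self, hτe]
  have hσe : σ ē = ē * f' ^ m := by
    rw [hσdef, ← hαb, MulAut.mul_apply, MulAut.mul_apply, MulAut.inv_apply_self, hm, map_mul,
      map_pow, hαb, hαf, mul_comm]
  let A : Subgroup (MulAut (↥E ⧸ K')) := (Y.subgroupOf (F.autGroup E)).map Φ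
  have hτ' : τ ∈ A := ⟨⟨τ₀, hτA⟩, Subgroup.subset_closure (Or.inl rfl), rfl⟩
  have hσ' : σ ∈ A := ⟨⟨σ₀, hσA⟩, Subgroup.subset_closure (Or.inr rfl), rfl⟩
  have hmat := exists_matrix hcQ A (hpQ ē) (hpQ f') he1 hfe hτ' hσ' hτe hk hkp hσf hσe hmp
  refine ⟨e, heJ, hf₀K, f, hfE, hαe, fun h => ?_, Y, hYA, ?_, fun t ht => ?_, fun y hy hyK => ?_⟩
  · have h1 : τ f' = f' := (hΦ' ⟨τ₀, hτA⟩ hfE hfE).2 (by rw [hτ₀e f hfE]; exact h)
    rw [hk, mul_eq_right, ← orderOf_dvd_iff_pow_eq_one, orderOf_eq_prime (hpQ ē) he1] at h1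
    exact hkp h1
  · let W' : ℕ → Subgroup Ω := fun i => W (min i n)
    have hW' : ∀ β ∈ F.autGroup E, ∀ i, ∀ x ∈ E, x ∈ W' i → autFun β x ∈ W' i :=
      fun β hβ i x _ hx => hinv β hβ _ (min_le_right _ _) x hx
    have h1 : τ₀ ∈ seriesStab (F.autGroup E) n W' hW' := ⟨hτA, fun i hi x hx hxW => by
      simp only [W', min_eq_left hi.le, min_eq_left (show i + 1 ≤ n from hi)] at hxW ⊢
      rw [hτ₀e x hx]
      exact SmallEss.step_triv hS ((hWle _ hi).trans hKS) (hstep i hi).1 (hstep i hi).2 hgS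
        (hgW i hi.le) (hgW (i + 1) hi) x hxW⟩
    have hle : Y ≤ seriesStab (F.autGroup E) n W' hW' := by
      rw [hY, Subgroup.closure_le]
      rintro _ (rfl | rfl)
      exacts [h1, seriesStab_conj hα h1]
    intro γ hγ i hi x hx
    have h2 := (hle hγ).2 i hi x (hKE (hWle _ hi hx))
      (by simpa [W', min_eq_left (show i + 1 ≤ n from hi)] using hx)
    simpa [W', min_eq_left hi.le] using h2
  · obtain ⟨_, ⟨δ, hδ, rfl⟩, h1, h2⟩ := hmat t 0 0 t⁻¹ (by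
      rw [mul_inv_cancel₀ ht, mul_zero, sub_zero])
    rw [ZMod.val_zero, pow_zero, mul_one, hebar, ← map_pow] at h1
    rw [ZMod.val_zero, pow_zero, one_mul, hfbar, ← map_pow] at h2
    have h1' := (hΦ' δ heE (E.pow_mem heE _)).1 h1
    refine ⟨δ, hδ, h1', (hΦ' δ hfE (E.pow_mem hfE _)).1 h2, fun x hx => ?_⟩
    obtain ⟨j, hj⟩ := hstepJ x hx
    have hm := isMor_autFun hES δ.2
    rw [← mul_inv_cancel_left (e ^ j) x, hm.map_mul (E.pow_mem heE j) (hKE hj), hm.map_pow heE]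
    refine J.mul_mem (J.pow_mem ?_ j) (hKJ (hKinv _ δ.2 _ hj))
    have := J.mul_mem (J.pow_mem heJ t.val) (hKJ h1')
    rwa [mul_inv_cancel_left] at this
  · have hy1 : π ⟨y, hy⟩ ≠ 1 := fun h => hyK (hπ1.1 h)
    obtain ⟨C, hC⟩ := SmallEss.exists_coords hcQ (hpQ ē) (hpQ f') he1 hfe
    obtain ⟨v, hv⟩ := C.surjective (π ⟨y, hy⟩)
    have hv' : ē ^ (v.toAdd 0).val * f' ^ (v.toAdd 1).val = π ⟨y, hy⟩ := by
      rw [← hv, ← hC v.toAdd]; rfl
    have : ∃ β ∈ A, β ē = ē ^ (v.toAdd 0).val * f' ^ (v.toAdd 1).val := by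
      by_cases h0' : v.toAdd 0 = 0
      · have h1 : v.toAdd 1 ≠ 0 := fun h => hy1 (by simp [← hv', h0', h, ZMod.val_zero])
        obtain ⟨β, hβ, h2, -⟩ := hmat 0 (-(v.toAdd 1)⁻¹) (v.toAdd 1) 0 (by
          rw [zero_mul, neg_mul, inv_mul_cancel₀ h1, zero_sub, neg_neg])
        exact ⟨β, hβ, by rw [h2, h0']⟩
      · obtain ⟨β, hβ, h2, -⟩ := hmat (v.toAdd 0) 0 (v.toAdd 1) (v.toAdd 0)⁻¹ (by
          rw [mul_inv_cancel₀ h0', zero_mul, sub_zero])
        exact ⟨β, hβ, h2⟩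
    obtain ⟨_, ⟨γ, hγ, rfl⟩, h2⟩ := this
    exact ⟨γ, hγ, (hΦ' γ heE hy).1 (h2.trans hv')⟩

end CfsgLib.Fusion.OrderFive
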