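import Mathlib
import Cfsg.Agent.Lib.Fusion.OrderFiveFrame

/-!
# Groups of order `p ^ 5` without abelian subgroups of index `p`: the setting
-/

set_option autoImplicit false
set_option linter.unusedSectionVars false
set_option linter.style.haveILetI false

namespace CfsgLib.Fusion.OrderFive

open Cfsg Cfsg.FusionSystem CfsgLib.Fusion
open scoped commutatorElement

universe u

variable {Ω : Type u} [Group Ω] {S : Subgroup Ω} [Finite S] {p : ℕ} [hp : Fact p.Prime]
  {F : FusionSystem S}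

/-- The standing hypotheses. -/
structure Hyp (F : FusionSystem S) (p : ℕ) : Prop where
  pgroup : IsPGroup p S
  sat : F.IsSaturated p
  p2 : p ≠ 2
  card : Nat.card S = p ^ 5
  noAb : ∀ A : Subgroup Ω, A ≤ S → (∀ a ∈ A, ∀ b ∈ A, a * b = b * a) → Nat.card A < p ^ 4

/-- An abelian step. -/
theorem comm_of_step (hS : IsPGroup p S) {A B : Subgroup Ω} (hBS : B ≤ S) (hAB : A ≤ B)
    (hcard : Nat.card B ≤ p * Nat.card A) {b : Ω} (hb : b ∈ B) (hbA : b ∉ A)
    (hA : ∀ a ∈ A, ∀ a' ∈ A, a * a' = a' * a) (hcomm : ∀ a ∈ A, a * b = b * a) :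
    ∀ x ∈ B, ∀ y ∈ B, x * y = y * x := by
  intro x hx y hy
  obtain ⟨i, hi⟩ := mem_step hS hBS hAB hcard hb hbA hx
  obtain ⟨j, hj⟩ := mem_step hS hBS hAB hcard hb hbA hy
  rw [← mul_inv_cancel_left (b ^ i) x, ← mul_inv_cancel_left (b ^ j) y]
  have h1 : Commute ((b ^ i)⁻¹ * x) ((b ^ j)⁻¹ * y) := hA _ hi _ hj
  have h2 : Commute ((b ^ i)⁻¹ * x) b := hcomm _ hi
  have h3 : Commute ((b ^ j)⁻¹ * y) b := hcomm _ hj
  exact (((Commute.pow_pow_self b i j).mul_right (h3.pow_right i).symm).mul_left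
    ((h2.pow_right j).mul_right h1)).eq

/-- Exponents are determined modulo `p` off a normal subgroup. -/
theorem exp_congr {G : Type*} [Group G] (hG : IsPGroup p G) (M : Subgroup G) [M.Normal] {x : G}
    (hx : x ∉ M) {a b : ℤ} {y : G} (ha : (x ^ a)⁻¹ * y ∈ M) (hb : (x ^ b)⁻¹ * y ∈ M) :
    (a : ZMod p) = b := by
  set π := QuotientGroup.mk' M
  have h1 : π x ^ a = π x ^ b := by
    rw [← map_zpow, ← map_zpow]
    exact ((QuotientGroup.eq).2 ha).trans ((QuotientGroup.eq).2 hb).symm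
  have h2 : π x ^ (a - b) = 1 := by rw [zpow_sub, h1, mul_inv_cancel]
  rw [← orderOf_dvd_iff_zpow_eq_one] at h2
  obtain ⟨k, hk⟩ := hG x
  obtain ⟨j, -, hj⟩ := (Nat.dvd_prime_pow hp.1).1
    (orderOf_dvd_of_pow_eq_one (by rw [← map_pow, hk, map_one] : π x ^ p ^ k = 1))
  rcases j with _ | j
  · exact absurd ((QuotientGroup.eq_one_iff _).1 (orderOf_eq_one_iff.1 (hj.trans (pow_zero p)))) hx
  · rw [ZMod.intCast_eq_intCast_iff_dvd_sub, ← dvd_neg, neg_sub]
    refine dvd_trans (Int.natCast_dvd_natCast.2 ?_) h2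
    rw [hj]
    exact dvd_pow_self p (Nat.succ_ne_zero j)

/-- Some unit of `ZMod p` has nontrivial `k`-th power. -/
theorem exists_pow_ne {k : ℕ} (h : ¬ (p - 1) ∣ k) : ∃ t : ZMod p, t ≠ 0 ∧ t ^ k ≠ 1 := by
  obtain ⟨g, hg⟩ := IsCyclic.exists_generator (α := (ZMod p)ˣ)
  refine ⟨g, g.ne_zero, fun e => h ?_⟩
  have h1 : g ^ k = 1 := Units.ext (by rw [Units.val_pow_eq_pow_val, e, Units.val_one])
  have h2 := orderOf_dvd_of_pow_eq_one h1
  rwa [orderOf_eq_card_of_forall_mem_zpowers hg, Nat.card_eq_fintype_card,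
    ZMod.card_units] at h2

/-- A subgroup of index at most `p` and an element outside it generate. -/
theorem eq_sup_of_step (hS : IsPGroup p S) {A B : Subgroup Ω} (hBS : B ≤ S) (hAB : A ≤ B)
    (hcard : Nat.card B ≤ p * Nat.card A) {b : Ω} (hb : b ∈ B) (hbA : b ∉ A) :
    A ⊔ Subgroup.zpowers b = B := by
  refine le_antisymm (sup_le hAB (Subgroup.zpowers_le.2 hb)) fun x hx => ?_
  obtain ⟨i, hi⟩ := mem_step hS hBS hAB hcard hb hbA hx
  rw [← mul_inv_cancel_left (b ^ i) x]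
  exact Subgroup.mul_mem _ (Subgroup.mem_sup_right (pow_mem (Subgroup.mem_zpowers b) i))
    (Subgroup.mem_sup_left hi)

/-- Normality in `S` is having normaliser `S`. -/
theorem normalizerIn_eq_of_conj {X : Subgroup Ω} (h : ∀ g ∈ S, ∀ y ∈ X, cj g y ∈ X) :
    normalizerIn S X = S :=
  mem_normalizer_of_conj_le fun s hs => img_le fun y hy => h s hs y hy

/-- An element of order dividing `p` inside a subgroup of order `p`. -/
theorem pow_card_one {Z : Subgroup Ω} (hZ : Nat.card Z = p) {z : Ω} (hz : z ∈ Z) : z ^ p = 1 := by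
  have := pow_card_eq_one' (x := (⟨z, hz⟩ : Z))
  rw [hZ] at this
  exact congrArg Subtype.val this

/-- A nontrivial element of a subgroup of order `p` generates it. -/
theorem zpowers_eq_of_card {Z : Subgroup Ω} (hZ : Nat.card Z = p) {z : Ω} (hz : z ∈ Z)
    (hz1 : z ≠ 1) : Subgroup.zpowers z = Z := by
  have : Finite Z := Nat.finite_of_card_ne_zero (hZ ▸ hp.1.ne_zero)
  refine Subgroup.eq_of_le_of_card_ge (Subgroup.zpowers_le.2 hz) ?_
  rw [hZ, Nat.card_zpowers, orderOf_eq_prime (pow_card_one hZ hz) hz1]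

end CfsgLib.Fusion.OrderFive
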