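import Mathlib
import Cfsg.Agent.Lib.Fusion.Criteria
import Cfsg.Agent.Lib.Fusion.SmallElements
import Cfsg.Agent.Lib.Fusion.Coprime

/-!
# Systems over `p`-groups with derived subgroup of order `p` and centre of order `p²`

For odd `p` an essential subgroup of such a group carries an involutory automorphism which
inverts the derived subgroup; its fixed points on the centre form a subgroup normal in the system.
-/

set_option autoImplicit false

namespace CfsgLib.Fusion.CentralTransvection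

open Cfsg Cfsg.FusionSystem CfsgLib.Fusion

variable {Ω : Type*} [Group Ω] {S : Subgroup Ω} [Finite S] {F : FusionSystem S} {p : ℕ}
  [hp : Fact p.Prime]

/-- The elements of `S` commuting with all of `S`. -/
def ctr (S : Subgroup Ω) : Subgroup Ω := S ⊓ Subgroup.centralizer (S : Set Ω)

omit [Finite S] in
theorem mem_ctr {c : Ω} : c ∈ ctr S ↔ c ∈ S ∧ ∀ s ∈ S, cj s c = c := by
  simp only [ctr, Subgroup.mem_inf, Subgroup.mem_centralizer_iff, cj, cj_fixed_iff, SetLike.mem_coe]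

/-- The standing hypotheses. -/
structure Data (p : ℕ) (S : Subgroup Ω) (z : Ω) : Prop where
  group : IsPGroup p S
  odd : Odd p
  mem : z ∈ ctr S
  pow : z ^ p = 1
  ne : z ≠ 1
  comm : ∀ s ∈ S, ∀ t ∈ S, t⁻¹ * cj s t ∈ Subgroup.zpowers z
  powS : ∀ s ∈ S, s ^ p ∈ Subgroup.zpowers z
  nonabelian : ¬ ∀ s ∈ S, ∀ t ∈ S, cj s t = t
  cyc : ∀ c ∈ ctr S, ∀ d ∈ ctr S, d ∉ Subgroup.zpowers z →
    ∃ i : ℤ, c * (d ^ i)⁻¹ ∈ Subgroup.zpowers z

variable {z : Ω}

omit [Finite S] in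
theorem Data.zS (H : Data p S z) : z ∈ S := H.mem.1

omit [Finite S] in
theorem Data.order_z (H : Data p S z) : orderOf z = p := orderOf_eq_prime H.pow H.ne

omit [Finite S] in
theorem Data.zpow_mem_ctr (H : Data p S z) {w : Ω} (hw : w ∈ Subgroup.zpowers z) : w ∈ ctr S :=
  Subgroup.zpowers_le.2 H.mem hw

omit [Finite S] in
theorem Data.gen (H : Data p S z) {w : Ω} (hw : w ∈ Subgroup.zpowers z) (hw1 : w ≠ 1) :
    z ∈ Subgroup.zpowers w := by
  have hle : Subgroup.zpowers w ≤ Subgroup.zpowers z := Subgroup.zpowers_le.2 hw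
  have hcz : Nat.card (Subgroup.zpowers z) = p := by rw [Nat.card_zpowers, H.order_z]
  haveI : Finite (Subgroup.zpowers z) :=
    Nat.finite_of_card_ne_zero (by rw [hcz]; exact hp.out.ne_zero)
  rcases (Nat.dvd_prime hp.out).1 (hcz ▸ Subgroup.card_dvd_of_le hle) with h | h
  · exact absurd (Subgroup.zpowers_eq_bot.1 (Subgroup.card_eq_one.1 h)) hw1
  · exact (Subgroup.eq_of_le_of_card_ge hle (by rw [hcz, h])).ge (Subgroup.mem_zpowers z)

omit [Finite S] in
theorem eq_one_of_sq {d : Ω} (hodd : Odd p) (hd : d ^ p = 1) (h2 : d⁻¹ = d) : d = 1 := by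
  have h : d ^ 2 = 1 := by
    rw [pow_two]
    nth_rewrite 1 [← h2]
    exact inv_mul_cancel d
  obtain ⟨k, rfl⟩ := hodd
  rwa [pow_succ, pow_mul, h, one_pow, one_mul] at hd

omit [Finite S] in
theorem eq_one_of_zpow_sq (hodd : Odd p) {d : Ω} (hd : d ^ p = 1) {i : ℤ}
    (h : d ^ (2 * i) = 1) : d ^ i = 1 := by
  refine eq_one_of_sq hodd ?_ ?_
  · rw [← zpow_natCast, ← zpow_mul, mul_comm, zpow_mul, zpow_natCast, hd, one_zpow]
  · rw [inv_eq_iff_mul_eq_one, ← zpow_add, ← two_mul, h]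

omit [Finite S] in
/-- Powers of a conjugation moving `y` by an element it fixes. -/
theorem cj_zpow {u y d : Ω} (h : cj u y = y * d) (hd : cj u d = d) :
    ∀ n : ℤ, cj (u ^ n) y = y * d ^ n := by
  have hdn : ∀ n : ℤ, cj u (d ^ n) = d ^ n := fun n => by
    rw [show cj u (d ^ n) = MulAut.conj u (d ^ n) from rfl, map_zpow,
      show MulAut.conj u d = cj u d from rfl, hd]
  intro n
  induction n with
  | zero => simp [cj_one]
  | succ n ih =>
    rw [zpow_add_one, zpow_add_one, ← (Commute.self_zpow u (n : ℤ)).eq, cj_mul, ih, cj_map_mul, h,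
      hdn, mul_assoc, (Commute.self_zpow d (n : ℤ)).eq]
  | pred n ih =>
    have h' : cj u⁻¹ y = y * d⁻¹ := by
      have e := congrArg (cj u⁻¹) h
      rw [cj_inv_cj, cj_map_mul] at e
      have e' : cj u⁻¹ d = d := by
        conv_lhs => rw [← hd]
        exact cj_inv_cj u d
      rw [e'] at e
      rw [eq_mul_inv_iff_mul_eq]
      exact e.symm
    have hd' : cj u⁻¹ (d ^ (-(n : ℤ))) = d ^ (-(n : ℤ)) := by
      conv_lhs => rw [← hdn (-(n : ℤ))]
      exact cj_inv_cj u _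
    rw [zpow_sub_one, zpow_sub_one, (Commute.inv_left (Commute.self_zpow u (-(n : ℤ)))).eq.symm,
      cj_mul, ih, cj_map_mul, h', hd', mul_assoc,
      ((Commute.self_zpow d (-(n : ℤ))).inv_left).eq]

section Identities

variable {A : Type*} [CommGroup A] (x w z : A) (i k l m : ℤ)

theorem id_fix : x * w ^ k * w ^ (-i) * (z * w⁻¹) ^ k = x * w ^ (-i) * z ^ k := by
  apply Additive.ofMul.injective
  simp only [ofMul_mul, ofMul_zpow, ofMul_inv]
  module

theorem id_solve {a : A} (h : a * w⁻¹ ^ (-i) * z⁻¹ ^ k = x * w ^ (-i) * z ^ k) :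
    a = x * z ^ (2 * k) * (w ^ (2 * i))⁻¹ := by
  replace h := congrArg Additive.ofMul h
  apply Additive.ofMul.injective
  simp only [ofMul_mul, ofMul_zpow, ofMul_inv] at h ⊢
  rw [← eq_sub_iff_add_eq, ← eq_sub_iff_add_eq] at h
  rw [h]
  module

theorem id_move : x * z ^ i * z ^ (2 * k) * (w ^ (2 * i) * z ^ (2 * i))⁻¹ =
    x * z ^ (2 * k) * (w ^ (2 * i))⁻¹ * z ^ (-i) := by
  apply Additive.ofMul.injective
  simp only [ofMul_mul, ofMul_zpow, ofMul_inv]
  module

theorem id_back : x * (z ^ m)⁻¹ * z ^ (2 * k) * (w ^ (2 * i) * (z ^ (l * (2 * i)))⁻¹)⁻¹ =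
    x * z ^ (2 * k) * (w ^ (2 * i))⁻¹ * z ^ (2 * (l * i) - m) := by
  apply Additive.ofMul.injective
  simp only [ofMul_mul, ofMul_zpow, ofMul_inv]
  module

end Identities

/-- An automorphism of `S` of the wanted kind. -/
def Good (F : FusionSystem S) (z : Ω) (β : MulAut S) : Prop :=
  β ∈ F.autGroup S ∧ autFun β z = z⁻¹ ∧ ∀ c ∈ ctr S, c⁻¹ * autFun β c ∈ Subgroup.zpowers z

omit [Finite S] hp in
theorem autFun_zpow {P : Subgroup Ω} (α : MulAut P) {x : Ω} (hx : x ∈ P) (n : ℤ) :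
    autFun α (x ^ n) = autFun α x ^ n := by
  rw [autFun_of_mem α (P.zpow_mem hx n), autFun_of_mem α hx,
    show (⟨x ^ n, P.zpow_mem hx n⟩ : P) = ⟨x, hx⟩ ^ n from rfl, map_zpow]
  rfl

omit [Finite S] hp in
theorem autFun_ctr (α : MulAut S) {c : Ω} (hc : c ∈ ctr S) : autFun α c ∈ ctr S := by
  obtain ⟨hcS, hcc⟩ := mem_ctr.1 hc
  refine mem_ctr.2 ⟨autFun_mem α hcS, fun s hs => ?_⟩
  rw [cj, cj_fixed_iff]
  conv_lhs => rw [← autFun_inv_right α hs]
  conv_rhs => rw [← autFun_inv_right α hs]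
  rw [← autFun_map_mul α (autFun_mem _ hs) hcS, ← autFun_map_mul α hcS (autFun_mem _ hs)]
  exact congrArg _ (cj_fixed_iff.1 (hcc _ (autFun_mem _ hs)))

omit [Finite S] in
theorem Data.autFun_z (H : Data p S z) (α : MulAut S) : autFun α z ∈ Subgroup.zpowers z := by
  have h := H.nonabelian
  push Not at h
  obtain ⟨s, hs, t, ht, hne⟩ := h
  obtain ⟨n, hn⟩ := Subgroup.mem_zpowers_iff.1
    (H.gen (H.comm s hs t ht) fun e => hne (by rw [inv_mul_eq_one] at e; exact e.symm))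
  have hw : t⁻¹ * cj s t ∈ S := S.mul_mem (S.inv_mem ht) (S.mul_mem (S.mul_mem hs ht) (S.inv_mem hs))
  rw [show autFun α z = autFun α ((t⁻¹ * cj s t) ^ n) by rw [hn], autFun_zpow α hw]
  refine Subgroup.zpow_mem _ ?_ n
  have e : autFun α (t⁻¹ * cj s t) = (autFun α t)⁻¹ * cj (autFun α s) (autFun α t) := by
    rw [cj, cj, autFun_map_mul α (S.inv_mem ht) (S.mul_mem (S.mul_mem hs ht) (S.inv_mem hs)),
      autFun_map_mul α (S.mul_mem hs ht) (S.inv_mem hs), autFun_map_mul α hs ht,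
      autFun_inv_map α ht, autFun_inv_map α hs]
  rw [e]
  exact H.comm _ (autFun_mem α hs) _ (autFun_mem α ht)

/-- The automorphisms of `S` in the system commute on the centre. -/
theorem Data.commute (H : Data p S z) (hF : F.IsSaturated p) {α β : MulAut S}
    (hα : α ∈ F.autGroup S) (hβ : β ∈ F.autGroup S) {c : Ω} (hc : c ∈ ctr S) :
    autFun α (autFun β c) = autFun β (autFun α c) := by
  set δ := (β * α)⁻¹ * (α * β) with hδdef
  suffices h : autFun δ c = c by
    have h2 := congrArg (autFun (β * α)) h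
    rwa [← autFun_mul _ _ hc.1, hδdef, mul_inv_cancel_left, autFun_mul _ _ hc.1,
      autFun_mul _ _ hc.1] at h2
  have hδ : δ ∈ F.autGroup S :=
    mul_mem (inv_mem (mul_mem hβ hα)) (mul_mem hα hβ)
  have hzpow : ∀ γ : MulAut S, ∃ a : ℤ, ∀ i : ℤ, autFun γ (z ^ i) = z ^ (a * i) := fun γ => by
    obtain ⟨a, ha⟩ := Subgroup.mem_zpowers_iff.1 (H.autFun_z γ)
    exact ⟨a, fun i => by rw [autFun_zpow γ H.zS, ← ha, zpow_mul]⟩
  obtain ⟨a, ha⟩ := hzpow α
  obtain ⟨b, hb⟩ := hzpow β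
  have hcz : autFun α (autFun β z) = autFun β (autFun α z) := by
    have e1 := hb 1; have e2 := ha 1
    rw [zpow_one] at e1 e2
    rw [e1, e2, ha, hb]
    congr 1
    ring
  have hδz : autFun δ z = z := by
    rw [hδdef, autFun_mul _ _ H.zS, autFun_mul _ _ H.zS, hcz, ← autFun_mul _ _ H.zS,
      autFun_inv_left _ H.zS]
  have hδzi : ∀ w ∈ Subgroup.zpowers z, autFun δ w = w := by
    intro w hw
    obtain ⟨i, rfl⟩ := Subgroup.mem_zpowers_iff.1 hw
    rw [autFun_zpow δ H.zS, hδz]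
  -- modulo `z` the centre is cyclic
  have hmod : c⁻¹ * autFun δ c ∈ Subgroup.zpowers z := by
    by_cases hcz' : c ∈ Subgroup.zpowers z
    · rw [hδzi c hcz', inv_mul_cancel]; exact one_mem _
    have hcoef : ∀ γ : MulAut S, ∃ i : ℤ, autFun γ c * (c ^ i)⁻¹ ∈ Subgroup.zpowers z :=
      fun γ => H.cyc _ (autFun_ctr γ hc) c hc hcz'
    have hcomp : ∀ γ γ' : MulAut S, ∀ i i' : ℤ, autFun γ c * (c ^ i)⁻¹ ∈ Subgroup.zpowers z →
        autFun γ' c * (c ^ i')⁻¹ ∈ Subgroup.zpowers z →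
        autFun γ (autFun γ' c) * (c ^ (i * i'))⁻¹ ∈ Subgroup.zpowers z := by
      intro γ γ' i i' h h'
      obtain ⟨k, hk⟩ := Subgroup.mem_zpowers_iff.1 h
      obtain ⟨k', hk'⟩ := Subgroup.mem_zpowers_iff.1 h'
      obtain ⟨e, he⟩ := hzpow γ
      have e1 : autFun γ c = z ^ k * c ^ i := by rw [hk, inv_mul_cancel_right]
      have e2 : autFun γ' c = z ^ k' * c ^ i' := by rw [hk', inv_mul_cancel_right]
      have hcomm : Commute (z ^ k) (c ^ i) :=
        ((show Commute z c from cj_fixed_iff.1 ((mem_ctr.1 hc).2 z H.zS)).zpow_zpow k i)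
      rw [e2, autFun_map_mul γ (S.zpow_mem H.zS _) (S.zpow_mem hc.1 _), he, autFun_zpow γ hc.1, e1,
        hcomm.mul_zpow, ← zpow_mul c, ← mul_assoc, mul_inv_cancel_right, ← zpow_mul, ← zpow_add]
      exact Subgroup.zpow_mem _ (Subgroup.mem_zpowers z) _
    obtain ⟨i, hi⟩ := hcoef α
    obtain ⟨j, hj⟩ := hcoef β
    have h1 := hcomp α β i j hi hj
    have h2 := hcomp β α j i hj hi
    rw [mul_comm j i] at h2
    have h3 := Subgroup.mul_mem _ (Subgroup.inv_mem _ h2) h1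
    have h4 : (autFun β (autFun α c))⁻¹ * autFun α (autFun β c) ∈ Subgroup.zpowers z := by
      have hc1 : autFun α (autFun β c) * (c ^ (i * j))⁻¹ ∈ ctr S := H.zpow_mem_ctr h1
      have : (autFun β (autFun α c) * (c ^ (i * j))⁻¹)⁻¹ *
          (autFun α (autFun β c) * (c ^ (i * j))⁻¹) =
          c ^ (i * j) * ((autFun β (autFun α c))⁻¹ * autFun α (autFun β c)) *
            (c ^ (i * j))⁻¹ := by group
      rw [this] at h3
      have hf := (mem_ctr.1 (ctr S |>.zpow_mem hc (i * j))).2 _ (S.mul_mem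
        (S.inv_mem (autFun_mem β (autFun_mem α hc.1))) (autFun_mem α (autFun_mem β hc.1)))
      rw [cj, cj_fixed_iff] at hf
      rwa [← hf, mul_inv_cancel_right] at h3
    obtain ⟨m, hm⟩ := Subgroup.mem_zpowers_iff.1 h4
    have h5 : autFun δ c = c * autFun (β * α)⁻¹ (z ^ m) := by
      rw [hδdef, autFun_mul _ _ hc.1, autFun_mul _ _ hc.1,
        show autFun α (autFun β c) = autFun β (autFun α c) * z ^ m by rw [hm, mul_inv_cancel_left],
        autFun_map_mul _ (autFun_mem β (autFun_mem α hc.1)) (S.zpow_mem H.zS _),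
        ← autFun_mul β α hc.1, autFun_inv_left _ hc.1]
    rw [h5, inv_mul_cancel_left]
    obtain ⟨e, he⟩ := hzpow (β * α)⁻¹
    rw [he]
    exact Subgroup.zpow_mem _ (Subgroup.mem_zpowers z) _
  set d := c⁻¹ * autFun δ c with hddef
  have hcd : autFun δ c = c * d := by rw [hddef, mul_inv_cancel_left]
  have hpow : ∀ n : ℕ, autFun (δ ^ n) c = c * d ^ n := by
    intro n
    induction n with
    | zero => rw [pow_zero, pow_zero, mul_one, autFun_one hc.1]
    | succ n ih =>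
      rw [pow_succ', autFun_mul _ _ hc.1, ih, autFun_map_mul δ hc.1 (S.pow_mem
        ((H.zpow_mem_ctr hmod).1) n), hcd, hδzi _ (Subgroup.pow_mem _ hmod n), mul_assoc, ← pow_succ']
  have hdp : d ^ p = 1 := by
    obtain ⟨i, hi⟩ := Subgroup.mem_zpowers_iff.1 hmod
    rw [← hi, ← zpow_natCast, ← zpow_mul, mul_comm, zpow_mul, zpow_natCast, H.pow, one_zpow]
  have := finite_mulAut (le_refl S)
  have hne : orderOf δ ≠ 0 := (orderOf_pos δ).ne'
  obtain ⟨k, r, hr, hkr⟩ := Nat.exists_eq_pow_mul_and_not_dvd hne p hp.out.ne_one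
  have hδr : autFun (δ ^ r) c = c := by
    obtain ⟨hfa, -⟩ := isFullyAutomized_of_normalized H.group hF (isFullyNormalized_self F)
    obtain ⟨γ, hγ, hγc⟩ := (isFullyAutomized_iff.1 hfa).2.exists_conj_le
      (C := Subgroup.zpowers (δ ^ r))
      (by
        refine IsPGroup.of_card (n := k) ?_
        rw [Nat.card_zpowers, orderOf_pow' δ (by rintro rfl; exact hr (dvd_zero p)), hkr,
          Nat.gcd_eq_right ⟨p ^ k, by ring⟩, Nat.mul_div_cancel _ (Nat.pos_of_ne_zero
            (by rintro rfl; exact hr (dvd_zero p)))])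
      (Subgroup.zpowers_le.2 (pow_mem hδ r))
    obtain ⟨g, hg, -, e⟩ := mem_autInducedBy.1 (hγc _ (Subgroup.mem_zpowers _))
    have h1 := e _ (autFun_mem γ hc.1)
    rw [(mem_ctr.1 (autFun_ctr γ hc)).2 g hg, autFun_mul _ _ (autFun_mem γ hc.1),
      autFun_inv_left γ hc.1, autFun_mul _ _ hc.1] at h1
    have h2 := congrArg (autFun γ⁻¹) h1
    rwa [autFun_inv_left γ (autFun_mem _ hc.1), autFun_inv_left γ hc.1] at h2
  rw [hpow, mul_eq_left] at hδr
  have hd1 : orderOf d = 1 := Nat.eq_one_of_dvd_coprimes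
    ((Nat.Prime.coprime_iff_not_dvd hp.out).2 hr) (orderOf_dvd_of_pow_eq_one hdp)
    (orderOf_dvd_of_pow_eq_one hδr)
  rw [hcd, orderOf_eq_one_iff.1 hd1, mul_one]

/-- Two good automorphisms have the same fixed points on the centre. -/
theorem Data.good_fix (H : Data p S z) (hF : F.IsSaturated p) {β β' : MulAut S}
    (hβ : Good F z β) (hβ' : Good F z β') {c : Ω} (hc : c ∈ ctr S) (h : autFun β c = c) :
    autFun β' c = c := by
  set d := c⁻¹ * autFun β' c with hddef
  have hd : d ∈ Subgroup.zpowers z := hβ'.2.2 c hc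
  have h1 : autFun β d = d⁻¹ := by
    obtain ⟨i, hi⟩ := Subgroup.mem_zpowers_iff.1 hd
    rw [← hi, autFun_zpow β H.zS, hβ.2.1, inv_zpow]
  have h2 : autFun β d = d := by
    rw [hddef, autFun_map_mul β (S.inv_mem hc.1) (autFun_mem β' hc.1), autFun_inv_map β hc.1, h,
      H.commute hF hβ.1 hβ'.1 hc, h]
  have hdp : d ^ p = 1 := by
    obtain ⟨i, hi⟩ := Subgroup.mem_zpowers_iff.1 hd
    rw [← hi, ← zpow_natCast, ← zpow_mul, mul_comm, zpow_mul, zpow_natCast, H.pow, one_zpow]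
  have h3 := eq_one_of_sq H.odd hdp (h1.symm.trans h2)
  rw [hddef, inv_mul_eq_one] at h3
  exact h3.symm

section Essential

variable {P : Subgroup Ω}

omit [Finite S] hp in
theorem cj_of_mem_ctr {s c : Ω} (hc : c ∈ ctr S) (hs : s ∈ S) : cj s c = c := (mem_ctr.1 hc).2 s hs

theorem Data.ctr_le (_H : Data p S z) (hE : F.IsEssential p P) : ctr S ≤ P := fun c hc =>
  centric_centralizer_le hE.1 (mem_centralizerIn.2 ⟨hc.1, fun x hx => by
    rw [cj, cj_fixed_iff]
    exact (cj_fixed_iff.1 ((mem_ctr.1 hc).2 x (hE.1.1 hx))).symm⟩)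

theorem Data.normal (H : Data p S z) (hE : F.IsEssential p P) {s : Ω} (hs : s ∈ S) :
    s ∈ Subgroup.normalizer (P : Set Ω) := by
  have hm : ∀ s ∈ S, ∀ x ∈ P, cj s x ∈ P := fun s hs x hx => by
    have h := P.mul_mem hx (H.ctr_le hE (H.zpow_mem_ctr (H.comm s hs x (hE.1.1 hx))))
    rwa [mul_inv_cancel_left] at h
  rw [Subgroup.mem_normalizer_iff]
  refine fun x => ⟨hm s hs x, fun hx => ?_⟩
  have := hm s⁻¹ (S.inv_mem hs) _ hx
  rwa [← cj_apply s x, cj_inv_cj] at this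

/-- Some automorphism of an essential subgroup moves `⟨z⟩`. -/
theorem Data.exists_moving (H : Data p S z) (hF : F.IsSaturated p) (hE : F.IsEssential p P) :
    ∃ g ∈ F.autGroup P, autFun g z ∉ Subgroup.zpowers z := by
  by_contra h
  push Not at h
  have hPS := hE.1.1
  have hzP : z ∈ P := H.ctr_le hE H.mem
  obtain ⟨s, hs, hsP⟩ := SetLike.exists_of_lt (essential_lt H.group hF hE)
  refine hsP (mem_of_stabilizing_small H.group hE.1 (essential_radical H.group hE) (le_refl P)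
    (fun α _ x hx => autFun_mem α hx)
    (fun α _ _ hα => autFun_inj fun x hx => (hα x hx).trans (autFun_one hx).symm) 2
    (fun i => if i = 0 then ⊥ else if i = 1 then Subgroup.zpowers z else P) ?_ (by simp) (by simp)
    (g := s) (mem_normalizerIn.2 ⟨hs, H.normal hE hs⟩) ?_)
  · intro α hα i x hx hxW
    split_ifs at hxW ⊢
    · rw [Subgroup.mem_bot] at hxW ⊢
      rw [hxW, autFun_map_one]
    · obtain ⟨n, rfl⟩ := Subgroup.mem_zpowers_iff.1 hxW
      rw [autFun_zpow α hzP]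
      exact Subgroup.zpow_mem _ (h α hα) n
    · exact autFun_mem α hx
  · intro i hi x hx hxW
    obtain rfl | rfl : i = 0 ∨ i = 1 := by omega
    · simp only [Nat.zero_add, one_ne_zero, if_false, if_true] at hxW ⊢
      rw [cj_of_mem_ctr (H.zpow_mem_ctr hxW) hs, inv_mul_cancel]
      exact one_mem _
    · simp only [one_ne_zero, if_false, if_true] at hxW ⊢
      exact H.comm s hs x (hPS hx)

omit [Finite S] in
/-- An automorphism moving `⟨z⟩` kills the elements of `⟨z⟩` built inside `P`. -/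
theorem Data.eq_one_of_moved (H : Data p S z) {g : MulAut P} (hzP : z ∈ P)
    (hg : autFun g z ∉ Subgroup.zpowers z) {w : Ω} (hw : w ∈ Subgroup.zpowers z)
    (hgw : autFun g w ∈ Subgroup.zpowers z) : w = 1 := by
  by_contra hne
  obtain ⟨n, hn⟩ := Subgroup.mem_zpowers_iff.1 (H.gen hw hne)
  refine hg ?_
  rw [show autFun g z = autFun g (w ^ n) by rw [hn],
    autFun_zpow g (Subgroup.zpowers_le.2 hzP hw)]
  exact Subgroup.zpow_mem _ hgw n

theorem Data.pow_eq_one (H : Data p S z) (hF : F.IsSaturated p) (hE : F.IsEssential p P) {x : Ω}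
    (hx : x ∈ P) : x ^ p = 1 := by
  obtain ⟨g, -, hgz⟩ := H.exists_moving hF hE
  refine H.eq_one_of_moved (H.ctr_le hE H.mem) hgz (H.powS x (hE.1.1 hx)) ?_
  rw [← zpow_natCast, autFun_zpow g hx, zpow_natCast]
  exact H.powS _ (hE.1.1 (autFun_mem g hx))

theorem Data.comm_eq (H : Data p S z) (hF : F.IsSaturated p) (hE : F.IsEssential p P) {x y : Ω}
    (hx : x ∈ P) (hy : y ∈ P) : cj x y = y := by
  obtain ⟨g, -, hgz⟩ := H.exists_moving hF hE
  have hPS := hE.1.1
  have e := H.eq_one_of_moved (H.ctr_le hE H.mem) hgz (H.comm x (hPS hx) y (hPS hy)) (by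
    rw [cj, autFun_map_mul g (P.inv_mem hy) (P.mul_mem (P.mul_mem hx hy) (P.inv_mem hx)),
      autFun_map_mul g (P.mul_mem hx hy) (P.inv_mem hx), autFun_map_mul g hx hy,
      autFun_inv_map g hy, autFun_inv_map g hx]
    exact H.comm _ (hPS (autFun_mem g hx)) _ (hPS (autFun_mem g hy)))
  rw [inv_mul_eq_one] at e
  exact e.symm

/-- The induced automorphisms of `S` are the transvections with centre `⟨z⟩` in the system. -/
theorem Data.mem_T (H : Data p S z) (hF : F.IsSaturated p) (hE : F.IsEssential p P)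
    {α : MulAut P} (hα : α ∈ F.autGroup P) (h1 : ∀ x ∈ P, x⁻¹ * autFun α x ∈ Subgroup.zpowers z)
    (h2 : autFun α z = z) : α ∈ autInducedBy S P := by
  have hPS := hE.1.1
  have hzP : z ∈ P := H.ctr_le hE H.mem
  have := finite_mulAut (P := P) hPS
  let U : Subgroup (MulAut P) :=
    { carrier := {γ | γ ∈ F.autGroup P ∧ (∀ x ∈ P, x⁻¹ * autFun γ x ∈ Subgroup.zpowers z) ∧
        autFun γ z = z}
      one_mem' := ⟨one_mem _, fun x hx => by rw [autFun_one hx, inv_mul_cancel]; exact one_mem _,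
        autFun_one hzP⟩
      mul_mem' := by
        rintro a b ⟨ha, ha1, ha2⟩ ⟨hb, hb1, hb2⟩
        refine ⟨mul_mem ha hb, fun x hx => ?_, by rw [autFun_mul _ _ hzP, hb2, ha2]⟩
        rw [autFun_mul _ _ hx]
        have := Subgroup.mul_mem _ (hb1 x hx) (ha1 _ (autFun_mem b hx))
        simpa [mul_assoc] using this
      inv_mem' := by
        rintro a ⟨ha, ha1, ha2⟩
        refine ⟨inv_mem ha, fun x hx => ?_, ?_⟩
        · have := Subgroup.inv_mem _ (ha1 _ (autFun_mem a⁻¹ hx))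
          rw [autFun_inv_right a hx] at this
          simpa using this
        · conv_lhs => rw [← ha2]
          exact autFun_inv_left a hzP }
  have hUp : IsPGroup p U := by
    rintro ⟨γ, -, hγ1, hγ2⟩
    refine ⟨1, Subtype.ext (autFun_inj fun x hx => ?_)⟩
    show autFun (γ ^ p ^ 1) x = autFun (1 : MulAut P) x
    rw [pow_one, autFun_one hx]
    set d := x⁻¹ * autFun γ x with hd
    have hdz : d ∈ Subgroup.zpowers z := hγ1 x hx
    have hdP : d ∈ P := Subgroup.zpowers_le.2 hzP hdz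
    have hfd : autFun γ d = d := by
      obtain ⟨i, hi⟩ := Subgroup.mem_zpowers_iff.1 hdz
      rw [← hi, autFun_zpow γ hzP, hγ2]
    have hpow : ∀ n : ℕ, autFun (γ ^ n) x = x * d ^ n := by
      intro n
      induction n with
      | zero => rw [pow_zero, pow_zero, mul_one, autFun_one hx]
      | succ n ih =>
        rw [pow_succ', autFun_mul _ _ hx, ih, autFun_map_mul γ hx (P.pow_mem hdP n),
          show autFun γ (d ^ n) = d ^ n by rw [← zpow_natCast, autFun_zpow γ hdP, hfd],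
          show autFun γ x = x * d by rw [hd, mul_inv_cancel_left], mul_assoc, ← pow_succ']
    rw [hpow, H.pow_eq_one hF hE hdP, mul_one]
  have hTU : autInducedBy S P ≤ U := fun γ hγ => by
    obtain ⟨s, hs, -, e⟩ := mem_autInducedBy.1 hγ
    exact ⟨autInducedBy_le F hPS hγ, fun x hx => by rw [e x hx]; exact H.comm s hs x (hPS hx),
      by rw [e z hzP, cj_of_mem_ctr H.mem hs]⟩
  obtain ⟨hfa, -⟩ := isFullyAutomized_of_normalized H.group hF hE.2.1
  have hUT := (isFullyAutomized_iff.1 hfa).2.2.2 U hUp hTU fun γ hγ => hγ.1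
  exact hUT ▸ (⟨hα, h1, h2⟩ : α ∈ U)

/-- An automorphism preserving `⟨z⟩` maps the centre into itself. -/
theorem Data.ctr_of_fix (H : Data p S z) (hF : F.IsSaturated p) (hE : F.IsEssential p P)
    {g : MulAut P} (hg : g ∈ F.autGroup P) (hgz : autFun g z ∈ Subgroup.zpowers z) {c : Ω}
    (hc : c ∈ ctr S) : autFun g c ∈ ctr S := by
  have hPS := hE.1.1
  have hzP : z ∈ P := H.ctr_le hE H.mem
  have hcP := H.ctr_le hE hc
  refine mem_ctr.2 ⟨hPS (autFun_mem g hcP), fun s hs => ?_⟩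
  obtain ⟨α, hα, hαe⟩ := exists_autInducedBy hs (H.normal hE hs)
  have hgi : ∀ w ∈ Subgroup.zpowers z, autFun g⁻¹ w ∈ Subgroup.zpowers z := by
    have hne : autFun g z ≠ 1 := fun e => H.ne (by
      rw [← autFun_inv_left g hzP, e, autFun_map_one])
    intro w hw
    obtain ⟨n, rfl⟩ := Subgroup.mem_zpowers_iff.1
      (Subgroup.zpowers_le.2 (H.gen hgz hne) hw)
    rw [autFun_zpow g⁻¹ (autFun_mem g hzP), autFun_inv_left g hzP]
    exact Subgroup.zpow_mem _ (Subgroup.mem_zpowers z) n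
  have hb : g⁻¹ * α * g ∈ autInducedBy S P := by
    refine H.mem_T hF hE (mul_mem (mul_mem (inv_mem hg) (autInducedBy_le F hPS hα)) hg)
      (fun x hx => ?_) ?_
    · rw [autFun_mul _ _ hx, autFun_mul _ _ (autFun_mem g hx)]
      conv => arg 2; arg 1; rw [← autFun_inv_left g hx]
      rw [← autFun_inv_map _ (autFun_mem g hx), ← autFun_map_mul _ (P.inv_mem (autFun_mem g hx))
        (autFun_mem α (autFun_mem g hx)), hαe _ (autFun_mem g hx)]
      exact hgi _ (H.comm s hs _ (hPS (autFun_mem g hx)))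
    · rw [autFun_mul _ _ hzP, autFun_mul _ _ (autFun_mem g hzP), hαe _ (autFun_mem g hzP),
        cj_of_mem_ctr (H.zpow_mem_ctr hgz) hs, autFun_inv_left g hzP]
  obtain ⟨t, ht, -, hte⟩ := mem_autInducedBy.1 hb
  have h1 := hte c hcP
  rw [cj_of_mem_ctr hc ht, autFun_mul _ _ hcP, autFun_mul _ _ (autFun_mem g hcP)] at h1
  have h2 := congrArg (autFun g) h1
  rwa [autFun_inv_right g (autFun_mem α (autFun_mem g hcP)), hαe _ (autFun_mem g hcP)] at h2

/-- A moved `z` does not go into the centre. -/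
theorem Data.not_ctr (H : Data p S z) (hF : F.IsSaturated p) (hE : F.IsEssential p P)
    {g : MulAut P} (hg : g ∈ F.autGroup P) (hgz : autFun g z ∉ Subgroup.zpowers z) :
    autFun g z ∉ ctr S := by
  intro hw
  have hPS := hE.1.1
  have hzP : z ∈ P := H.ctr_le hE H.mem
  have hwP := autFun_mem g hzP
  have := finite_mulAut (P := P) hPS
  set w := autFun g z
  let St : Subgroup (MulAut P) :=
    { carrier := {γ | γ ∈ F.autGroup P ∧ autFun γ w = w}
      one_mem' := ⟨one_mem _, autFun_one hwP⟩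
      mul_mem' := by
        rintro a b ⟨ha, ha'⟩ ⟨hb, hb'⟩
        exact ⟨mul_mem ha hb, by rw [autFun_mul _ _ hwP, hb', ha']⟩
      inv_mem' := by
        rintro a ⟨ha, ha'⟩
        refine ⟨inv_mem ha, ?_⟩
        conv_lhs => rw [← ha']
        exact autFun_inv_left a hwP }
  obtain ⟨hfa, -⟩ := isFullyAutomized_of_normalized H.group hF hE.2.1
  obtain ⟨hTG, hTp, hTmax⟩ := (isFullyAutomized_iff.1 hfa).2
  have hTSt : autInducedBy S P ≤ St := fun γ hγ => by
    obtain ⟨s, hs, -, e⟩ := mem_autInducedBy.1 hγ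
    exact ⟨hTG hγ, by rw [e w hwP, cj_of_mem_ctr hw hs]⟩
  have hsyl : IsSylIn p (autInducedBy S P) St :=
    ⟨hTSt, hTp, fun C hC hTC hCS => hTmax C hC hTC (hCS.trans fun γ hγ => hγ.1)⟩
  obtain ⟨h, ⟨hh, hhw⟩, hconj⟩ := hsyl.exists_conj_le
    (hTp.map (MulAut.conj g).toMonoidHom) (by
      rintro _ ⟨γ, hγ, rfl⟩
      refine ⟨mul_mem (mul_mem hg (hTG hγ)) (inv_mem hg), ?_⟩
      obtain ⟨s, hs, -, e⟩ := mem_autInducedBy.1 hγ
      show autFun (g * γ * g⁻¹) w = w
      rw [autFun_mul _ _ hwP, autFun_mul _ _ (autFun_mem g⁻¹ hwP),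
        show autFun g⁻¹ w = z from autFun_inv_left g hzP, e z hzP, cj_of_mem_ctr H.mem hs])
  obtain ⟨s, hs, hsP⟩ := SetLike.exists_of_lt (essential_lt H.group hF hE)
  obtain ⟨α, hα, hαe⟩ := exists_autInducedBy hs (H.normal hE hs)
  obtain ⟨x, hx, hxs⟩ : ∃ x ∈ P, cj s x ≠ x := by
    by_contra hall
    push Not at hall
    exact hsP (centric_centralizer_le hE.1 (mem_centralizerIn.2 ⟨hs, hall⟩))
  set k := h * g with hk
  obtain ⟨s1, hs1, -, e⟩ := mem_autInducedBy.1 (hconj _ ⟨α, hα, rfl⟩)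
  set d := x⁻¹ * cj s x with hd
  have hdz := H.comm s hs x (hPS hx)
  have hd1 : d ≠ 1 := fun e' => hxs (inv_mul_eq_one.1 e').symm
  have hkd : autFun k d ∈ Subgroup.zpowers z := by
    have e1 := e _ (autFun_mem k hx)
    have e2 : autFun (h * (g * α * g⁻¹) * h⁻¹) (autFun k x) = autFun k (cj s x) := by
      rw [← autFun_mul _ _ hx, hk, show h * (g * α * g⁻¹) * h⁻¹ * (h * g) = (h * g) * α by group,
        autFun_mul _ _ hx, hαe x hx]
    rw [show (MulAut.conj g).toMonoidHom α = g * α * g⁻¹ from rfl, e2] at e1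
    rw [hd, autFun_map_mul k (P.inv_mem hx) (hαe x hx ▸ autFun_mem α hx), autFun_inv_map k hx, e1]
    exact H.comm s1 hs1 _ (hPS (autFun_mem k hx))
  refine hd1 (H.eq_one_of_moved hzP (g := k) ?_ hdz hkd)
  rw [hk, autFun_mul _ _ hzP, hhw]
  exact hgz

/-- Conjugates of transvections moving `z` give good automorphisms of `S`. -/
theorem Data.exists_good (H : Data p S z) (hF : F.IsSaturated p) (hE : F.IsEssential p P)
    {g : MulAut P} (hg : g ∈ F.autGroup P) (hgz : autFun g z ∉ Subgroup.zpowers z)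
    {t : Ω} (ht : t ∈ S) (hmove : cj t (autFun g⁻¹ z) ≠ autFun g⁻¹ z) :
    ∃ β, Good F z β ∧
      ∀ c ∈ ctr S, (autFun β c = c ↔ cj t (autFun g⁻¹ c) = autFun g⁻¹ c) := by
  have hPS := hE.1.1
  have hzP : z ∈ P := H.ctr_le hE H.mem
  have hab : ∀ u ∈ P, ∀ v ∈ P, u * v = v * u :=
    fun u hu v hv => cj_fixed_iff.1 (H.comm_eq hF hE hu hv)
  obtain ⟨τ, hτ, hτe⟩ := exists_autInducedBy ht (H.normal hE ht)
  set b := g * τ * g⁻¹ with hbdef
  have hbG : b ∈ F.autGroup P :=
    mul_mem (mul_mem hg (autInducedBy_le F hPS hτ)) (inv_mem hg)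
  have hwP := autFun_mem g hzP
  set z' := autFun g z with hz'
  have hcjP : ∀ {u x : Ω}, u ∈ S → x ∈ P → cj u x ∈ P := fun hu hx =>
    ((Subgroup.mem_normalizer_iff.1 (H.normal hE hu)) _).1 hx
  have hbx : ∀ x ∈ P, x⁻¹ * autFun b x =
      autFun g ((autFun g⁻¹ x)⁻¹ * cj t (autFun g⁻¹ x)) := by
    intro x hx
    have hy := autFun_mem g⁻¹ hx
    rw [autFun_map_mul g (P.inv_mem hy) (hcjP ht hy), autFun_inv_map g hy, autFun_inv_right g hx,
      hbdef, autFun_mul _ _ hx, autFun_mul _ _ hy, hτe _ hy]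
  have hbz' : ∀ x ∈ P, x⁻¹ * autFun b x ∈ Subgroup.zpowers z' := fun x hx => by
    obtain ⟨i, hi⟩ := Subgroup.mem_zpowers_iff.1
      (H.comm t ht _ (hPS (autFun_mem g⁻¹ hx)))
    rw [hbx x hx, ← hi, autFun_zpow g hzP]
    exact Subgroup.zpow_mem _ (Subgroup.mem_zpowers _) i
  letI : CommGroup P :=
    { (inferInstance : Group P) with mul_comm := fun a b => Subtype.ext (hab a a.2 b b.2) }
  have hbfix : autFun b z' = z' := by
    rw [hbdef, autFun_mul _ _ hwP, hz', autFun_inv_left g hzP, autFun_mul _ _ hzP, hτe z hzP,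
      cj_of_mem_ctr H.mem ht]
  have hz'p : z' ^ p = 1 := H.pow_eq_one hF hE hwP
  -- `w` spans `⟨z'⟩` and `b z = z w⁻¹`
  obtain ⟨w, hw⟩ : ∃ w, w = (z⁻¹ * autFun b z)⁻¹ := ⟨_, rfl⟩
  have hwz' : w ∈ Subgroup.zpowers z' := hw ▸ Subgroup.inv_mem _ (hbz' z hzP)
  have hwmem : w ∈ P := Subgroup.zpowers_le.2 hwP hwz'
  have hw1 : w ≠ 1 := by
    rw [hw, Ne, inv_eq_one, hbx z hzP]
    intro e
    have h2 := congrArg (autFun g⁻¹) e
    have hy := autFun_mem g⁻¹ hzP
    rw [autFun_inv_left g (P.mul_mem (P.inv_mem hy) (hcjP ht hy)), autFun_map_one,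
      inv_mul_eq_one] at h2
    exact hmove h2.symm
  have hbw : autFun b w = w := by
    obtain ⟨i, hi⟩ := Subgroup.mem_zpowers_iff.1 hwz'
    rw [← hi, autFun_zpow b hwP, hbfix]
  have hbz : autFun b z = z * w⁻¹ := by rw [hw, inv_inv, mul_inv_cancel_left]
  have hz'w : z' ∈ Subgroup.zpowers w := by
    have hcz : Nat.card (Subgroup.zpowers z') = p := by
      rw [Nat.card_zpowers, orderOf_eq_prime hz'p]
      exact fun e => hgz (e ▸ one_mem _)
    have hcw : Nat.card (Subgroup.zpowers w) = p := by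
      rw [Nat.card_zpowers, orderOf_eq_prime (H.pow_eq_one hF hE hwmem) hw1]
    haveI : Finite (Subgroup.zpowers z') :=
      Nat.finite_of_card_ne_zero (by rw [hcz]; exact hp.out.ne_zero)
    exact (Subgroup.eq_of_le_of_card_ge (Subgroup.zpowers_le.2 hwz')
      (by rw [hcz, hcw])).ge (Subgroup.mem_zpowers z')
  -- `u` moves `w` to `w z`
  obtain ⟨s, hs, hsw⟩ : ∃ s ∈ S, cj s w ≠ w := by
    by_contra hall
    push Not at hall
    exact H.not_ctr hF hE hg hgz (Subgroup.zpowers_le.2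
      (mem_ctr.2 ⟨hPS hwmem, hall⟩) hz'w)
  have hd := H.comm s hs w (hPS hwmem)
  obtain ⟨n, hn⟩ := Subgroup.mem_zpowers_iff.1
    (H.gen hd fun e => hsw (inv_mul_eq_one.1 e).symm)
  set u := s ^ n with hu
  have huS : u ∈ S := S.zpow_mem hs n
  have huw : cj u w = w * z := by
    rw [hu, cj_zpow (mul_inv_cancel_left w _).symm (cj_of_mem_ctr (H.zpow_mem_ctr hd) hs), hn]
  have huz : cj u z = z := cj_of_mem_ctr H.mem huS
  obtain ⟨a, ha, hae⟩ := exists_autInducedBy huS (H.normal hE huS)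
  set v := a * b * a with hv
  set j := v * v with hj
  have haG := autInducedBy_le F hPS ha
  have hjG : j ∈ F.autGroup P := mul_mem (mul_mem (mul_mem haG hbG) haG)
    (mul_mem (mul_mem haG hbG) haG)
  have haw : autFun a w = w * z := (hae w hwmem).trans huw
  have haz : autFun a z = z := (hae z hzP).trans huz
  have hwiP := P.inv_mem hwmem
  have hziP := P.inv_mem hzP
  have hvz : autFun v z = w⁻¹ := by
    rw [hv, autFun_mul _ _ hzP, autFun_mul _ _ (autFun_mem a hzP), haz, hbz,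
      autFun_map_mul a hzP hwiP, autFun_inv_map a hwmem, haz, haw, mul_inv_rev,
      mul_inv_cancel_left]
  have hvw : autFun v w = z := by
    rw [hv, autFun_mul _ _ hwmem, autFun_mul _ _ (autFun_mem a hwmem), haw,
      autFun_map_mul b hwmem hzP, hbw, hbz, hab w hwmem _ (P.mul_mem hzP hwiP),
      inv_mul_cancel_right, haz]
  have hjz : autFun j z = z⁻¹ := by
    rw [hj, autFun_mul _ _ hzP, hvz, autFun_inv_map v hwmem, hvw]
  have hjw : autFun j w = w⁻¹ := by rw [hj, autFun_mul _ _ hwmem, hvw, hvz]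
  have hdec : ∀ x ∈ P, ∀ i k : ℤ, cj u x = x * z ^ i → autFun b x = x * w ^ k →
      autFun j x = x * z ^ (2 * k) * (w ^ (2 * i))⁻¹ := by
    intro x hx i k hi hk
    have hwi := P.zpow_mem hwmem (-i)
    have hzk := P.zpow_mem hzP k
    have hxP : x * w ^ (-i) * z ^ k ∈ P := P.mul_mem (P.mul_mem hx hwi) hzk
    have hax : autFun a (x * w ^ (-i) * z ^ k) = x * w ^ (-i) * z ^ k := by
      rw [autFun_map_mul a (P.mul_mem hx hwi) hzk, autFun_map_mul a hx hwi, autFun_zpow a hwmem,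
        autFun_zpow a hzP, haw, haz, hae x hx, hi,
        (show Commute w z from hab w hwmem z hzP).mul_zpow,
        show x * z ^ i * (w ^ (-i) * z ^ (-i)) = x * w ^ (-i) by
          rw [hab _ hwi _ (P.zpow_mem hzP _), mul_assoc, ← mul_assoc (z ^ i), ← zpow_add,
            add_neg_cancel, zpow_zero, one_mul]]
    have hbx' : autFun b (x * w ^ (-i) * z ^ k) = x * w ^ (-i) * z ^ k := by
      rw [autFun_map_mul b (P.mul_mem hx hwi) hzk, autFun_map_mul b hx hwi, autFun_zpow b hwmem,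
        autFun_zpow b hzP, hbw, hbz, hk]
      exact congrArg Subtype.val (id_fix (⟨x, hx⟩ : P) ⟨w, hwmem⟩ ⟨z, hzP⟩ i k)
    have hjx : autFun j (x * w ^ (-i) * z ^ k) = x * w ^ (-i) * z ^ k := by
      have hv1 : autFun v (x * w ^ (-i) * z ^ k) = x * w ^ (-i) * z ^ k := by
        rw [hv, autFun_mul _ _ hxP, hax, autFun_mul _ _ hxP, hbx', hax]
      rw [hj, autFun_mul _ _ hxP, hv1, hv1]
    rw [autFun_map_mul j (P.mul_mem hx hwi) hzk, autFun_map_mul j hx hwi, autFun_zpow j hwmem,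
      autFun_zpow j hzP, hjw, hjz] at hjx
    exact congrArg Subtype.val (id_solve (⟨x, hx⟩ : P) ⟨w, hwmem⟩ ⟨z, hzP⟩ i k
      (a := ⟨autFun j x, autFun_mem j hx⟩) (Subtype.ext hjx))
  have hcoord : ∀ x ∈ P, ∃ i k : ℤ, cj u x = x * z ^ i ∧ autFun b x = x * w ^ k := fun x hx => by
    obtain ⟨i, hi⟩ := Subgroup.mem_zpowers_iff.1 (H.comm u huS x (hPS hx))
    obtain ⟨k, hk⟩ := Subgroup.mem_zpowers_iff.1
      (Subgroup.zpowers_le.2 hz'w (hbz' x hx))
    exact ⟨i, k, by rw [hi, mul_inv_cancel_left], by rw [hk, mul_inv_cancel_left]⟩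
  -- `j` normalises the transvection group
  have hext : nExt S P (autFun j) = S := by
    refine le_antisymm (fun x hx => hx.1) fun r hr => ⟨hr, H.normal hE hr, ?_⟩
    obtain ⟨l, hl⟩ := Subgroup.mem_zpowers_iff.1 (H.comm r hr w (hPS hwmem))
    refine ⟨u ^ (2 * l) * r⁻¹, S.mul_mem (S.zpow_mem huS _) (S.inv_mem hr), fun x hx => ?_⟩
    obtain ⟨i, k, hi, hk⟩ := hcoord x hx
    obtain ⟨m, hm⟩ := Subgroup.mem_zpowers_iff.1 (H.comm r hr x (hPS hx))
    have hrx : cj r x = x * z ^ m := by rw [hm, mul_inv_cancel_left]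
    have hrw : cj r w = w * z ^ l := by rw [hl, mul_inv_cancel_left]
    have hrz : cj r z = z := cj_of_mem_ctr H.mem hr
    have zfix : ∀ {y : Ω}, y ∈ S → ∀ n : ℤ, cj y (z ^ n) = z ^ n :=
      fun hy n => cj_of_mem_ctr (ctr S |>.zpow_mem H.mem n) hy
    have hr' : ∀ {y : Ω} {n : ℤ}, cj r y = y * z ^ n → cj r⁻¹ y = y * (z ^ n)⁻¹ := by
      intro y n h
      have e := congrArg (cj r⁻¹) h
      rw [cj_inv_cj, cj_map_mul, zfix (S.inv_mem hr) n] at e
      exact eq_mul_inv_iff_mul_eq.2 e.symm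
    have hrwn : ∀ n : ℤ, cj r⁻¹ (w ^ n) = w ^ n * (z ^ (l * n))⁻¹ := fun n => by
      refine hr' ?_
      rw [show cj r (w ^ n) = MulAut.conj r (w ^ n) from rfl, map_zpow,
        show MulAut.conj r w = cj r w from rfl, hrw,
        (show Commute w (z ^ l) from hab w hwmem _ (P.zpow_mem hzP l)).mul_zpow, zpow_mul]
    have hun : ∀ {y : Ω} {n : ℤ}, cj u y = y * z ^ n →
        cj (u ^ (2 * l)) y = y * z ^ (n * (2 * l)) := fun {y n} h => by
      rw [cj_zpow h (zfix huS n), ← zpow_mul]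
    have hjx := hdec x hx i k hi hk
    have huy : cj u (autFun j x) = autFun j x * z ^ (-i) := by
      have huwn : cj u (w ^ (2 * i)) = w ^ (2 * i) * z ^ (2 * i) := by
        rw [show cj u (w ^ (2 * i)) = MulAut.conj u (w ^ (2 * i)) from rfl, map_zpow,
          show MulAut.conj u w = cj u w from rfl, huw,
          (show Commute w z from hab w hwmem z hzP).mul_zpow]
      rw [hjx, cj_map_mul, cj_map_mul, hi, zfix huS,
        show cj u (w ^ (2 * i))⁻¹ = (cj u (w ^ (2 * i)))⁻¹ from map_inv (MulAut.conj u) _, huwn,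
        ]
      exact congrArg Subtype.val (id_move (⟨x, hx⟩ : P) ⟨w, hwmem⟩ ⟨z, hzP⟩ i k)
    have hry : cj r⁻¹ (autFun j x) = autFun j x * z ^ (2 * (l * i) - m) := by
      rw [hjx, cj_map_mul, cj_map_mul, hr' hrx, zfix (S.inv_mem hr),
        show cj r⁻¹ (w ^ (2 * i))⁻¹ = (cj r⁻¹ (w ^ (2 * i)))⁻¹ from map_inv (MulAut.conj r⁻¹) _,
        hrwn]
      exact congrArg Subtype.val (id_back (⟨x, hx⟩ : P) ⟨w, hwmem⟩ ⟨z, hzP⟩ i k l m)
    rw [cj_mul, hry, cj_map_mul, zfix (S.zpow_mem huS _), hun huy, hrx,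
      autFun_map_mul j hx (P.zpow_mem hzP m), autFun_zpow j hzP, hjz, inv_zpow, ← zpow_neg,
      mul_assoc, ← zpow_add]
    congr 2
    ring
  obtain ⟨-, hr⟩ := isFullyAutomized_of_normalized H.group hF hE.2.1
  obtain ⟨f, hf, hfj⟩ := (isReceptive_iff.1 hr).2 P _ (isMor_autFun hPS hjG) (img_autFun j)
  rw [hext] at hf
  obtain ⟨β, hβ, hβf⟩ := exists_aut hf
    (eq_of_le_of_card le_rfl (img_le fun x hx => hf.mem hx) (by rw [hf.card_img]))
  have hβj : ∀ x ∈ P, autFun β x = autFun j x := fun x hx =>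
    (hβf x (hPS hx)).trans (hfj x hx)
  have hβc : ∀ c ∈ ctr S, ∀ k : ℤ, autFun b c = c * w ^ k → autFun β c = c * z ^ (2 * k) := by
    intro c hc k hk
    rw [hβj c (H.ctr_le hE hc), hdec c (H.ctr_le hE hc) 0 k
      (by rw [zpow_zero, mul_one, cj_of_mem_ctr hc huS]) hk]
    simp
  refine ⟨β, ⟨hβ, (hβj z hzP).trans hjz, fun c hc => ?_⟩, fun c hc => ?_⟩
  · obtain ⟨-, k, -, hk⟩ := hcoord c (H.ctr_le hE hc)
    rw [hβc c hc k hk, inv_mul_cancel_left]
    exact Subgroup.zpow_mem _ (Subgroup.mem_zpowers z) _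
  · have hcP := H.ctr_le hE hc
    obtain ⟨-, k, -, hk⟩ := hcoord c hcP
    have hfix : cj t (autFun g⁻¹ c) = autFun g⁻¹ c ↔ autFun b c = c := by
      have hy := autFun_mem g⁻¹ hcP
      rw [hbdef, autFun_mul _ _ hcP, autFun_mul _ _ hy, hτe _ hy]
      constructor
      · intro e; rw [e, autFun_inv_right g hcP]
      · intro e
        have := congrArg (autFun g⁻¹) e
        rwa [autFun_inv_left g (hcjP ht hy)] at this
    rw [hfix, hβc c hc k hk, hk, mul_eq_left, mul_eq_left]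
    constructor
    · intro e
      have h1 : z ^ k = 1 := eq_one_of_zpow_sq H.odd H.pow e
      have hdvd : (orderOf z : ℤ) ∣ k := orderOf_dvd_iff_zpow_eq_one.2 h1
      refine orderOf_dvd_iff_zpow_eq_one.1 ?_
      rwa [orderOf_eq_prime (H.pow_eq_one hF hE hwmem) hw1, ← H.order_z]
    · intro e
      have hdvd : (orderOf w : ℤ) ∣ k := orderOf_dvd_iff_zpow_eq_one.2 e
      rw [orderOf_eq_prime (H.pow_eq_one hF hE hwmem) hw1, ← H.order_z] at hdvd
      rw [mul_comm, zpow_mul, orderOf_dvd_iff_zpow_eq_one.1 hdvd, one_zpow]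

/-- Every essential subgroup carries a good automorphism. -/
theorem Data.exists_moving_conj (H : Data p S z) (hF : F.IsSaturated p) (hE : F.IsEssential p P)
    {g : MulAut P} (hg : g ∈ F.autGroup P) (hgz : autFun g z ∉ Subgroup.zpowers z) :
    autFun g⁻¹ z ∉ Subgroup.zpowers z ∧ ∃ t ∈ S, cj t (autFun g⁻¹ z) ≠ autFun g⁻¹ z := by
  have hzP : z ∈ P := H.ctr_le hE H.mem
  have hgi : autFun g⁻¹ z ∉ Subgroup.zpowers z := by
    intro h
    have hne : autFun g⁻¹ z ≠ 1 := fun e => H.ne (by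
      rw [← autFun_inv_right g hzP, e, autFun_map_one])
    obtain ⟨n, hn⟩ := Subgroup.mem_zpowers_iff.1 (H.gen h hne)
    refine hgz ?_
    rw [show autFun g z = autFun g (autFun g⁻¹ z ^ n) by rw [hn],
      autFun_zpow g (autFun_mem _ hzP), autFun_inv_right g hzP]
    exact Subgroup.zpow_mem _ (Subgroup.mem_zpowers z) n
  refine ⟨hgi, ?_⟩
  by_contra hall
  push Not at hall
  exact H.not_ctr hF hE (inv_mem hg) hgi
    (mem_ctr.2 ⟨hE.1.1 (autFun_mem _ hzP), hall⟩)

/-- The fixed points of a good automorphism on the centre are invariant. -/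
theorem Data.fix_invariant (H : Data p S z) (hF : F.IsSaturated p) (hE : F.IsEssential p P)
    {β : MulAut S} (hβ : Good F z β) {g : MulAut P} (hg : g ∈ F.autGroup P) {c : Ω}
    (hc : c ∈ ctr S) (hβc : autFun β c = c) :
    autFun g c ∈ ctr S ∧ autFun β (autFun g c) = autFun g c := by
  have hPS := hE.1.1
  have hzP : z ∈ P := H.ctr_le hE H.mem
  have hcP := H.ctr_le hE hc
  have hctr : ∀ g ∈ F.autGroup P, autFun g c ∈ ctr S := by
    intro g hg
    by_cases hgz : autFun g z ∈ Subgroup.zpowers z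
    · exact H.ctr_of_fix hF hE hg hgz hc
    refine mem_ctr.2 ⟨hPS (autFun_mem g hcP), fun s hs => ?_⟩
    -- `g⁻¹` gives good automorphisms
    obtain ⟨hgi, -⟩ := H.exists_moving_conj hF hE hg hgz
    have key : ∀ t ∈ S, cj t (autFun g z) ≠ autFun g z → cj t (autFun g c) = autFun g c := by
      intro t ht hmv
      obtain ⟨β', hβ', hiff⟩ := H.exists_good hF hE (inv_mem hg) hgi ht (by rwa [inv_inv])
      have := (hiff c hc).1 (H.good_fix hF hβ hβ' hc hβc)
      rwa [inv_inv] at this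
    by_cases hsz : cj s (autFun g z) = autFun g z
    · obtain ⟨-, t, ht, hmv⟩ := H.exists_moving_conj hF hE (inv_mem hg) hgi
      rw [inv_inv] at hmv
      have h1 := key (t * s) (S.mul_mem ht hs) (by rwa [cj_mul, hsz])
      have h2 := key t ht hmv
      rw [cj_mul] at h1
      conv_rhs => rw [← cj_inv_cj t (autFun g c), h2]
      conv_lhs => rw [← cj_inv_cj t (cj s (autFun g c)), h1]
    · exact key s hs hsz
  refine ⟨hctr g hg, ?_⟩
  obtain ⟨g0, hg0, hg0z⟩ := H.exists_moving hF hE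
  obtain ⟨-, t, ht, hmv⟩ := H.exists_moving_conj hF hE hg0 hg0z
  obtain ⟨β', hβ', hiff⟩ := H.exists_good hF hE hg0 hg0z ht hmv
  refine H.good_fix hF hβ' hβ (hctr g hg) ((hiff _ (hctr g hg)).2 (cj_of_mem_ctr ?_ ht))
  rw [← autFun_mul _ _ hcP]
  exact hctr _ (mul_mem (inv_mem hg0) hg)

end Essential

/-- With the standing hypotheses and centre larger than `⟨z⟩` the core is nontrivial. -/
theorem Data.core_ne_bot (H : Data p S z) (hF : F.IsSaturated p)
    (hbig : ∃ c ∈ ctr S, c ∉ Subgroup.zpowers z) : F.core ≠ ⊥ := by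
  intro hcore
  by_cases hess : ∃ P, F.IsEssential p P
  swap
  · push Not at hess
    refine H.ne ?_
    have hN : F.IsNormal S := isNormal_of_invariant H.group hF fun P hP => by
      rcases hP with rfl | hP
      · exact ⟨le_rfl, fun α _ x hx => autFun_mem α hx⟩
      · exact absurd hP (hess P)
    exact Subgroup.mem_bot.1 (hcore ▸ le_core hN H.zS)
  obtain ⟨P0, hP0⟩ := hess
  obtain ⟨g0, hg0, hg0z⟩ := H.exists_moving hF hP0
  obtain ⟨-, t, ht, hmv⟩ := H.exists_moving_conj hF hP0 hg0 hg0z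
  obtain ⟨β, hβ, -⟩ := H.exists_good hF hP0 hg0 hg0z ht hmv
  let C : Subgroup Ω :=
    { carrier := {c | c ∈ ctr S ∧ autFun β c = c}
      one_mem' := ⟨one_mem _, autFun_map_one β⟩
      mul_mem' := by
        rintro a b ⟨ha, ha'⟩ ⟨hb, hb'⟩
        exact ⟨mul_mem ha hb, by rw [autFun_map_mul β ha.1 hb.1, ha', hb']⟩
      inv_mem' := by
        rintro a ⟨ha, ha'⟩
        exact ⟨inv_mem ha, by rw [autFun_inv_map β ha.1, ha']⟩ }
  have hN : F.IsNormal C := isNormal_of_invariant H.group hF fun P hP => by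
    rcases hP with rfl | hP
    · refine ⟨fun c hc => hc.1.1, fun α hα c hc => ⟨autFun_ctr α hc.1, ?_⟩⟩
      rw [H.commute hF hβ.1 hα hc.1, hc.2]
    · exact ⟨fun c hc => H.ctr_le hP hc.1, fun α hα c hc =>
        H.fix_invariant hF hP hβ hα hc.1 hc.2⟩
  obtain ⟨c, hc, hcz⟩ := hbig
  obtain ⟨m, hm⟩ := Subgroup.mem_zpowers_iff.1 (hβ.2.2 c hc)
  -- halve the exponent
  obtain ⟨q, hq⟩ := H.odd
  have hmC : c * z ^ (m * (q + 1)) ∈ C := by
    refine ⟨mul_mem hc (zpow_mem H.mem _), ?_⟩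
    have hzz : z ^ (m * (2 * q + 1 : ℕ)) = 1 := by
      rw [mul_comm, zpow_mul, zpow_natCast, ← hq, H.pow, one_zpow]
    rw [autFun_map_mul β hc.1 (S.zpow_mem H.zS _), autFun_zpow β H.zS, hβ.2.1, inv_zpow,
      ← zpow_neg, show autFun β c = c * z ^ m by rw [hm, mul_inv_cancel_left], mul_assoc,
      ← zpow_add]
    congr 1
    rw [show m + -(m * ((q : ℤ) + 1)) = m * (q + 1) - m * ((2 * q + 1 : ℕ) : ℤ) by push_cast; ring,
      zpow_sub, hzz, inv_one, mul_one]
  have h1 := Subgroup.mem_bot.1 (hcore ▸ le_core hN hmC)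
  exact hcz (by rw [eq_inv_of_mul_eq_one_left h1]
                exact Subgroup.inv_mem _ (Subgroup.zpow_mem _ (Subgroup.mem_zpowers z) _))

end CfsgLib.Fusion.CentralTransvection
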