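import Mathlib
import Cfsg.Agent.Lib.Fusion.ThinFunctor
import Cfsg.Agent.Lib.Transfer.ZJComplement
import Cfsg.Agent.Lib.LocalEven.JAbel

/-! `J` and `Z(J)` as functors on `p`-groups. -/
set_option autoImplicit false

universe u

namespace CfsgLib.Fusion

open Cfsg Cfsg.FusionSystem CfsgLib.PLocal

variable {G H : Type*} [Group G] [Group H]

theorem map_jAOf {f : G →* H} (hf : Function.Injective f) (P : Subgroup G) :
    (thompsonSubgroupAOf P).map f = thompsonSubgroupAOf (P.map f) := by
  rw [CfsgLib.LocalEven.thompsonSubgroupAOf_eq_jAb, CfsgLib.LocalEven.thompsonSubgroupAOf_eq_jAb,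
    CfsgLib.LocalEven.jAb, CfsgLib.LocalEven.jAb]
  refine le_antisymm (Subgroup.map_le_iff_le_comap.mpr (sSup_le fun A hA =>
    Subgroup.map_le_iff_le_comap.mp (le_sSup (map_mem_maxAbExp hf hA)))) (sSup_le fun B hB => ?_)
  obtain ⟨A, hA, rfl⟩ := exists_map_eq_of_mem_maxAbExp hf hB
  exact Subgroup.map_mono (le_sSup hA)

theorem map_centerJAOf {f : G →* H} (hf : Function.Injective f) (P : Subgroup G) :
    (centerThompsonAOf P).map f = centerThompsonAOf (P.map f) := by
  rw [centerThompsonAOf, centerThompsonAOf, map_inf_centralizer hf, map_jAOf hf]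

variable {p : ℕ} [hp : Fact p.Prime]

/-- `Z(J(Q))` as a functor. -/
def zjFunctor : PFunctor'.{u} p where
  W Q _ := centerThompsonAOf (⊤ : Subgroup Q)
  ne_bot Q _ _ hQ hnt := by
    exact (CfsgLib.Transfer.subgroupFunctor_centerThompsonAOf (p := p)).ne_bot Q ⊤
      (hQ.to_subgroup ⊤) ((Subgroup.nontrivial_iff_ne_bot _).mp inferInstance)
  equiv Q R _ _ _ _ φ := by
    show (centerThompsonAOf (⊤ : Subgroup Q)).map φ.toMonoidHom = centerThompsonAOf (⊤ : Subgroup R)
    rw [map_centerJAOf φ.injective, Subgroup.map_top_of_surjective _ φ.surjective]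

theorem zjFunctor_at {Ω : Type u} [Group Ω] (P : Subgroup Ω) :
    (zjFunctor (p := p)).at P = centerThompsonAOf P := by
  show (centerThompsonAOf (⊤ : Subgroup P)).map P.subtype = centerThompsonAOf P
  rw [map_centerJAOf P.subtype_injective, ← MonoidHom.range_eq_map, Subgroup.range_subtype]

theorem zjFunctor_criterion (hp2 : p ≠ 2) : GroupCriterion (zjFunctor.{u} (p := p)) :=
  fun G _ _ P h => CfsgLib.Transfer.hasNormalPComplement_of_centerThompsonAOf hp2 P
    (by rwa [zjFunctor_at] at h)

end CfsgLib.Fusion
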