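import Mathlib
import Cfsg.Agent.Lib.Fusion.Normal
import Cfsg.Agent.Lib.Fusion.Criteria
import Cfsg.Agent.Lib.Fusion.Centric

/-! Saturated systems over a `p`-group with an abelian subgroup of index `p` that is not essential:
some `Z(S)⟨x⟩` is essential and, without normal subgroups, `S` has maximal class. -/
set_option autoImplicit false

universe u

namespace CfsgLib.Fusion.AbelianIndexP

open Cfsg Cfsg.FusionSystem
open scoped commutatorElement

variable {Ω : Type u} [Group Ω] {S A : Subgroup Ω} [Finite S] {F : FusionSystem S} {p : ℕ}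
  [hp : Fact p.Prime]

/-- The standing hypotheses on the pair `(S, A)`. -/
structure Setup (p : ℕ) (S A : Subgroup Ω) : Prop where
  pgroup : IsPGroup p S
  le : A ≤ S
  comm : ∀ x ∈ A, ∀ y ∈ A, x * y = y * x
  index : (A.subgroupOf S).index = p
  nonab : ∃ x ∈ S, ∃ y ∈ S, x * y ≠ y * x

/-- `Z(S)`. -/
abbrev ctrS (S : Subgroup Ω) : Subgroup Ω := S ⊓ Subgroup.centralizer (S : Set Ω)

/-- `Z(S) ∩ S'`. -/
abbrev lineS (S : Subgroup Ω) : Subgroup Ω := ctrS S ⊓ ⁅S, S⁆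

omit [Finite S] hp in
theorem mem_ctrS {z : Ω} : z ∈ ctrS S ↔ z ∈ S ∧ ∀ s ∈ S, s * z = z * s :=
  ⟨fun h => ⟨h.1, fun s hs => h.2 s hs⟩, fun h => ⟨h.1, fun s hs => h.2 s hs⟩⟩

variable (H : Setup p S A)
include H

theorem Setup.normal : (A.subgroupOf S).Normal := by
  haveI := H.pgroup.isNilpotent
  refine Subgroup.NormalizerCondition.normal_of_coatom _ Group.normalizerCondition_of_isNilpotent ?_
  refine ⟨fun h => hp.1.ne_one (by rw [← H.index, h, Subgroup.index_top]), fun B hB => ?_⟩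
  by_contra h
  have h1 := Subgroup.relIndex_mul_index hB.le
  rw [H.index] at h1
  rcases (Nat.dvd_prime hp.1).1 (Dvd.intro_left _ h1) with h2 | h2
  · exact h (Subgroup.index_eq_one.1 h2)
  · rw [h2] at h1
    have h3 : (A.subgroupOf S).relIndex B = 1 := by
      have := hp.1.pos
      exact Nat.eq_of_mul_eq_mul_right this (h1.trans (one_mul p).symm)
    exact hB.not_ge (Subgroup.relIndex_eq_one.1 h3)

theorem Setup.conj_mem {s a : Ω} (hs : s ∈ S) (ha : a ∈ A) : s * a * s⁻¹ ∈ A :=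
  H.normal.conj_mem ⟨a, H.le ha⟩ ha ⟨s, hs⟩

theorem Setup.pow_mem {x : Ω} (hx : x ∈ S) : x ^ p ∈ A := by
  have := H.normal
  have h := Subgroup.pow_index_mem (A.subgroupOf S) ⟨x, hx⟩
  rw [H.index] at h
  exact h

theorem Setup.decomp {x : Ω} (hx : x ∈ S) (hxA : x ∉ A) {s : Ω} (hs : s ∈ S) :
    ∃ a ∈ A, ∃ k : ℤ, s = a * x ^ k := by
  have := H.normal
  have hpc : Nat.card (S ⧸ A.subgroupOf S) = p := H.index
  have hne : ((⟨x, hx⟩ : S) : S ⧸ A.subgroupOf S) ≠ 1 := fun h =>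
    hxA ((QuotientGroup.eq_one_iff (⟨x, hx⟩ : S)).1 h)
  obtain ⟨k, hk⟩ := Subgroup.mem_zpowers_iff.1
    (mem_zpowers_of_prime_card hpc hne : ((⟨s, hs⟩ : S) : S ⧸ A.subgroupOf S) ∈ _)
  refine ⟨s * (x ^ k)⁻¹, ?_, k, by group⟩
  have h1 : ((⟨s, hs⟩ : S) * (⟨x, hx⟩ ^ k)⁻¹ : S) ∈ A.subgroupOf S := by
    rw [← QuotientGroup.eq_one_iff, QuotientGroup.mk_mul, QuotientGroup.mk_inv,
      QuotientGroup.mk_zpow, hk, mul_inv_cancel]
  simpa [Subgroup.mem_subgroupOf] using h1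

theorem Setup.ctr_le : ctrS S ≤ A := by
  intro z hz
  by_contra hzA
  obtain ⟨hzS, hzc⟩ := mem_ctrS.1 hz
  obtain ⟨u, hu, v, hv, hne⟩ := H.nonab
  obtain ⟨a, ha, i, rfl⟩ := H.decomp hzS hzA hu
  obtain ⟨b, hb, j, rfl⟩ := H.decomp hzS hzA hv
  apply hne
  have h1 : ∀ (k : ℤ) c, c ∈ A → Commute (z ^ k) c := fun k c hc =>
    Commute.zpow_left (show Commute z c from (hzc c (H.le hc)).symm) k
  exact ((((show Commute a b from H.comm a ha b hb).mul_left (h1 i b hb))).mul_right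
    ((((h1 j a ha).symm).mul_left ((Commute.refl z).zpow_zpow i j)))).eq

/-- An element of `A` commuting with an element outside `A` is central. -/
theorem Setup.mem_ctr {a x : Ω} (ha : a ∈ A) (hx : x ∈ S) (hxA : x ∉ A) (hc : a * x = x * a) :
    a ∈ ctrS S := by
  refine mem_ctrS.2 ⟨H.le ha, fun s hs => ?_⟩
  obtain ⟨b, hb, k, rfl⟩ := H.decomp hx hxA hs
  exact (((show Commute b a from H.comm b hb a ha)).mul_left
    (Commute.zpow_left (show Commute x a from hc.symm) k)).eq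

omit H in
theorem ctr_le_centric {Q : Subgroup Ω} (hQ : F.IsCentric Q) : ctrS S ≤ Q := fun z hz =>
  centric_centralizer_le hQ (mem_centralizerIn.mpr ⟨hz.1, fun q hq => by
    rw [cj_apply, mul_inv_eq_iff_eq_mul]
    exact ((mem_ctrS.1 hz).2 q (hQ.1 hq)).symm⟩)

theorem Setup.exists_not_mem {Q : Subgroup Ω} (hna : ∃ x ∈ Q, ∃ y ∈ Q, x * y ≠ y * x) :
    ∃ q ∈ Q, q ∉ A := by
  obtain ⟨x, hx, y, hy, hne⟩ := hna
  by_contra h
  push Not at h
  exact hne (H.comm x (h x hx) y (h y hy))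

/-- A nonabelian centric subgroup has centre `Z(S)`. -/
theorem Setup.centre_eq {Q : Subgroup Ω} (hQ : F.IsCentric Q)
    (hna : ∃ x ∈ Q, ∃ y ∈ Q, x * y ≠ y * x) {z : Ω} (hz : z ∈ Q)
    (hzc : ∀ q ∈ Q, q * z = z * q) : z ∈ ctrS S := by
  obtain ⟨q, hq, hqA⟩ := H.exists_not_mem hna
  by_cases hzA : z ∈ A
  · exact H.mem_ctr hzA (hQ.1 hq) hqA (hzc q hq).symm
  exfalso
  obtain ⟨u, hu, v, hv, hne⟩ := hna
  obtain ⟨a, ha, i, rfl⟩ := H.decomp (hQ.1 hz) hzA (hQ.1 hu)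
  obtain ⟨b, hb, j, rfl⟩ := H.decomp (hQ.1 hz) hzA (hQ.1 hv)
  have ha' : a ∈ Q := (Subgroup.mul_mem_cancel_right Q (Q.zpow_mem hz i)).1 hu
  have hb' : b ∈ Q := (Subgroup.mul_mem_cancel_right Q (Q.zpow_mem hz j)).1 hv
  apply hne
  exact (((show Commute a b from H.comm a ha b hb).mul_left
      (Commute.zpow_left (show Commute z b from (hzc b hb').symm) i)).mul_right
    ((Commute.zpow_right (show Commute a z from hzc a ha') j).mul_left
      ((Commute.refl z).zpow_zpow i j))).eq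

theorem Setup.img_ctr {Q : Subgroup Ω} (hQ : F.IsCentric Q)
    (hna : ∃ x ∈ Q, ∃ y ∈ Q, x * y ≠ y * x) {f : Ω → Ω} (hf : IsMor F Q f) {z : Ω}
    (hz : z ∈ ctrS S) : f z ∈ ctrS S := by
  have hzQ := ctr_le_centric hQ hz
  refine H.centre_eq (centric_of_isConj hQ (isConj_img hf)) ?_ (mem_img_of_mem f hzQ) ?_
  · obtain ⟨x, hx, y, hy, hne⟩ := hna
    refine ⟨f x, mem_img_of_mem f hx, f y, mem_img_of_mem f hy, fun h => hne ?_⟩
    rw [← hf.map_mul hx hy, ← hf.map_mul hy hx] at h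
    exact hf.inj (Q.mul_mem hx hy) (Q.mul_mem hy hx) h
  · intro q' hq'
    obtain ⟨q, hq, rfl⟩ := hf.mem_img.1 hq'
    rw [← hf.map_mul hq hzQ, ← hf.map_mul hzQ hq, (mem_ctrS.1 hz).2 q (hQ.1 hq)]

omit H in
theorem autFun_S_ctr {δ : MulAut S} {z : Ω} (hz : z ∈ ctrS S) : autFun δ z ∈ ctrS S := by
  refine mem_ctrS.2 ⟨autFun_mem δ hz.1, fun s hs => ?_⟩
  have h := congrArg (autFun δ) ((mem_ctrS.1 hz).2 (autFun δ⁻¹ s) (autFun_mem _ hs))
  rwa [autFun_map_mul δ (autFun_mem _ hs) hz.1, autFun_map_mul δ hz.1 (autFun_mem _ hs),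
    autFun_inv_right δ hs] at h

/-- Maps of nonabelian centric subgroups act on `Z(S)` like automorphisms of `S`. -/
theorem Setup.map_ctr (hF : F.IsSaturated p) : ∀ {Q : Subgroup Ω} {f : Ω → Ω}, IsMor F Q f →
    F.IsCentric Q → (∃ x ∈ Q, ∃ y ∈ Q, x * y ≠ y * x) →
      ∃ δ ∈ F.autGroup S, ∀ z ∈ ctrS S, f z = autFun δ z := by
  have hS := H.pgroup
  suffices ∀ d, ∀ {Q : Subgroup Ω} {f : Ω → Ω}, Nat.card S - Nat.card Q = d → IsMor F Q f →
      F.IsCentric Q → (∃ x ∈ Q, ∃ y ∈ Q, x * y ≠ y * x) →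
        ∃ δ ∈ F.autGroup S, ∀ z ∈ ctrS S, f z = autFun δ z by
    intro Q f hf hQ hna
    exact this _ rfl hf hQ hna
  intro d
  induction d using Nat.strong_induction_on with
  | _ d ih =>
    intro Q f hd hf hQ hna
    subst hd
    rcases eq_or_lt_of_le hQ.1 with rfl | hlt
    · obtain ⟨δ, hδ, hδe⟩ := exists_aut hf
        (hf.img_eq_self fun x hx => hf.mem hx)
      exact ⟨δ, hδ, fun z hz => (hδe z hz.1).symm⟩
    obtain ⟨Q', hQQ', hQ'n⟩ := exists_fullyNormalized F hQ.1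
    have hQ'c := centric_of_isConj hQ hQQ'
    -- extending maps into `Q'` act as automorphisms of `S`
    have hext : ∀ {R : Subgroup Ω} {g : Ω → Ω}, F.IsConj Q R → IsMor F (normalizerIn S R) g →
        ∃ δ ∈ F.autGroup S, ∀ z ∈ ctrS S, g z = autFun δ z := by
      intro R g hR hg
      have hRS := (isConj_le hR).2
      have hRlt : R < S := lt_of_le_of_ne hRS fun e => by
        have := isConj_card hR
        rw [e] at this
        exact (card_lt_of_lt le_rfl hlt).ne this.symm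
      have hRc := centric_of_isConj hQ hR
      obtain ⟨e, he, rfl⟩ := isConj_iff.1 hR
      refine ih _ ?_ rfl hg (centric_mono hRc (le_normalizerIn hRS) normalizerIn_le) ?_
      · have h1 := card_lt_of_lt normalizerIn_le (normalizerIn_gt hS hRlt)
        rw [he.card_img] at h1
        have h2 : Nat.card ↥(normalizerIn S (img Q e)) ≤ Nat.card S :=
          Subgroup.card_le_of_le normalizerIn_le
        omega
      · obtain ⟨x, hx, y, hy, hne⟩ := hna
        refine ⟨e x, le_normalizerIn hRS (mem_img_of_mem e hx), e y,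
          le_normalizerIn hRS (mem_img_of_mem e hy), fun h => hne ?_⟩
        rw [← he.map_mul hx hy, ← he.map_mul hy hx] at h
        exact he.inj (Q.mul_mem hx hy) (Q.mul_mem hy hx) h
    set R := img Q f with hR
    have hQR : F.IsConj Q R := isConj_img hf
    obtain ⟨g₁, hg₁, hg₁Q, -⟩ := exists_map_fullyNormalized hS hF hQ'n hQQ'
    obtain ⟨g₂, hg₂, hg₂R, -⟩ := exists_map_fullyNormalized hS hF hQ'n
      (isConj_trans (isConj_symm hQR) hQQ')
    obtain ⟨δ₁, hδ₁, hδ₁e⟩ := hext (isConj_refl F hQ.1) hg₁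
    obtain ⟨δ₂, hδ₂, hδ₂e⟩ := hext hQR hg₂
    -- the automorphism of `Q'` in between
    have hg₁' : IsMor F Q g₁ := hg₁.restrict (le_normalizerIn hQ.1)
    have hg₂' : IsMor F R g₂ := hg₂.restrict (le_normalizerIn (isConj_le hQR).2)
    obtain ⟨k, hk, hkl, -, hki⟩ := hg₁'.inverse
    rw [hg₁Q] at hk hki
    have hkQ : ∀ y ∈ Q', k y ∈ Q := fun y hy => hki ▸ mem_img_of_mem k hy
    have hfk : IsMor F Q' (f ∘ k) := hk.comp hf hkQ
    have hcomp : IsMor F Q' (g₂ ∘ (f ∘ k)) :=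
      hfk.comp hg₂' fun y hy => mem_img_of_mem f (hkQ y hy)
    obtain ⟨β, hβ, hβe⟩ := exists_aut hcomp (hcomp.img_eq_self fun y hy => by
      rw [← hg₂R]
      exact mem_img_of_mem g₂ (mem_img_of_mem f (hkQ y hy)))
    have hna' : ∃ x ∈ Q', ∃ y ∈ Q', x * y ≠ y * x := by
      obtain ⟨x, hx, y, hy, hne⟩ := hna
      refine ⟨g₁ x, hg₁Q ▸ mem_img_of_mem g₁ hx, g₁ y, hg₁Q ▸ mem_img_of_mem g₁ hy, fun h => hne ?_⟩
      rw [← hg₁'.map_mul hx hy, ← hg₁'.map_mul hy hx] at h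
      exact hg₁'.inj (Q.mul_mem hx hy) (Q.mul_mem hy hx) h
    have hZinv : ∀ b ∈ F.autGroup Q', ∀ z ∈ ctrS S, autFun b z ∈ ctrS S := fun b hb z hz =>
      H.img_ctr hQ'c hna' (isMor_autFun hQ'c.1 hb) hz
    obtain ⟨δ, hδ, hδe⟩ : ∃ δ ∈ F.autGroup S, ∀ z ∈ ctrS S, autFun β z = autFun δ z := by
      let K : Subgroup ↥(F.autGroup Q') :=
        { carrier := {b | ∀ z ∈ ctrS S, autFun (b : MulAut Q') z = z}
          one_mem' := fun z hz => autFun_one (ctr_le_centric hQ'c hz)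
          mul_mem' := fun {a b} ha hb z hz => by
            show autFun ((a : MulAut Q') * (b : MulAut Q')) z = z
            rw [autFun_mul _ _ (ctr_le_centric hQ'c hz), hb z hz, ha z hz]
          inv_mem' := fun {a} ha z hz => by
            show autFun (a : MulAut Q')⁻¹ z = z
            conv_lhs => rw [← ha z hz]
            exact autFun_inv_left _ (ctr_le_centric hQ'c hz) }
      have : K.Normal := ⟨fun b hb a z hz => by
        show autFun ((a : MulAut Q') * (b : MulAut Q') * (a : MulAut Q')⁻¹) z = z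
        have hzQ := ctr_le_centric hQ'c hz
        rw [autFun_mul _ _ hzQ, autFun_mul _ _ (autFun_mem _ hzQ),
          hb _ (hZinv _ (Subgroup.inv_mem _ a.2) z hz), autFun_inv_right _ hzQ]⟩
      have := finite_mulAut hQ'c.1
      obtain ⟨Rs, hRs⟩ := (isFullyAutomized_of_normalized hS hF hQ'n).1.2
      have hRK : (Rs : Subgroup ↥(F.autGroup Q')) ≤ K := by
        rw [hRs]
        rintro ⟨b, hb⟩ hbT z hz
        obtain ⟨s, hs, -, hse⟩ := mem_autInducedBy.1 (Subgroup.mem_subgroupOf.1 hbT)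
        show autFun b z = z
        rw [hse z (ctr_le_centric hQ'c hz), cj_apply, (mem_ctrS.1 hz).2 s hs,
          mul_inv_cancel_right]
      obtain ⟨b, hb, c, hc, hbc⟩ := Subgroup.mem_sup_of_normal_right.1
        ((Sylow.normalizer_sup_eq_top' Rs hRK).ge (Subgroup.mem_top (⟨β, hβ⟩ : ↥(F.autGroup Q'))))
      have hbn : normalizerIn S Q' ≤ nExt S Q' (autFun (b : MulAut Q')) := by
        intro s hs
        obtain ⟨hsS, hsn⟩ := mem_normalizerIn.1 hs
        obtain ⟨γ, hγ, hγe⟩ := exists_autInducedBy (P := Q') hsS hsn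
        have hmem : (⟨γ, autInducedBy_le F hQ'c.1 hγ⟩ : ↥(F.autGroup Q')) ∈ (Rs : Subgroup _) :=
          hRs.ge hγ
        have h1 := (Subgroup.mem_normalizer_iff.1 hb _).1 hmem
        replace h1 := hRs.le h1
        obtain ⟨h, hh, -, hhe⟩ := mem_autInducedBy.1 (Subgroup.mem_subgroupOf.1 h1)
        exact mem_nExt.2 ⟨hsS, hsn, h, hh, (mul_conj_aut hγe hhe).1 rfl⟩
      have hbm := isMor_autFun hQ'c.1 b.2
      obtain ⟨g, hg, hge⟩ := (isReceptive_iff.1 (isFullyAutomized_of_normalized hS hF hQ'n).2).2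
        Q' _ hbm (img_autFun _)
      obtain ⟨δ, hδ, hδe⟩ := hext hQQ' (hg.restrict hbn)
      refine ⟨δ, hδ, fun z hz => ?_⟩
      have hzQ := ctr_le_centric hQ'c hz
      have h1 : autFun ((b * c : ↥(F.autGroup Q')) : MulAut Q') z = autFun β z :=
        congrArg (fun a : ↥(F.autGroup Q') => autFun (a : MulAut Q') z) hbc
      rw [← h1, Subgroup.coe_mul, autFun_mul _ _ hzQ, hc z hz, ← hδe z hz, hge z hzQ]
    refine ⟨δ₂⁻¹ * (δ * δ₁), Subgroup.mul_mem _ (Subgroup.inv_mem _ hδ₂) (Subgroup.mul_mem _ hδ hδ₁),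
      fun z hz => ?_⟩
    have hzQ := ctr_le_centric hQ hz
    have hfz := H.img_ctr hQ hna hf hz
    have hg1z : g₁ z ∈ Q' := hg₁Q ▸ mem_img_of_mem g₁ hzQ
    have e1 : autFun β (g₁ z) = g₂ (f z) := by
      rw [hβe _ hg1z]
      show g₂ (f (k (g₁ z))) = _
      rw [hkl z hzQ]
    rw [hδ₁e z hz, hδe _ (autFun_S_ctr hz), hδ₂e _ hfz] at e1
    rw [autFun_mul _ _ hz.1, autFun_mul _ _ hz.1, e1, autFun_inv_left δ₂ hfz.1]

/-! ### The commutator map -/

theorem Setup.commutator_eq {x : Ω} (hx : x ∈ S) (hxA : x ∉ A) {c : Ω} (hc : c ∈ ⁅S, S⁆) :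
    ∃ a ∈ A, c = a * x * a⁻¹ * x⁻¹ := by
  have hψ : ∀ a ∈ A, a * x * a⁻¹ * x⁻¹ ∈ A := fun a ha => by
    rw [mul_assoc a x, mul_assoc a]
    exact A.mul_mem ha (H.conj_mem hx (A.inv_mem ha))
  let M : Subgroup Ω :=
    { carrier := {c | ∃ a ∈ A, c = a * x * a⁻¹ * x⁻¹}
      one_mem' := ⟨1, A.one_mem, by simp⟩
      mul_mem' := by
        rintro _ _ ⟨a, ha, rfl⟩ ⟨b, hb, rfl⟩
        refine ⟨b * a, A.mul_mem hb ha, ?_⟩
        have h1 := H.comm _ (hψ a ha) b hb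
        calc a * x * a⁻¹ * x⁻¹ * (b * x * b⁻¹ * x⁻¹)
            = (a * x * a⁻¹ * x⁻¹ * b) * (x * b⁻¹ * x⁻¹) := by group
          _ = b * a * x * (b * a)⁻¹ * x⁻¹ := by rw [h1]; group
      inv_mem' := by
        rintro _ ⟨a, ha, rfl⟩
        refine ⟨a⁻¹, A.inv_mem ha, inv_eq_of_mul_eq_one_right ?_⟩
        have h1 := H.comm _ (hψ a ha) a⁻¹ (A.inv_mem ha)
        calc a * x * a⁻¹ * x⁻¹ * (a⁻¹ * x * a⁻¹⁻¹ * x⁻¹)
            = (a * x * a⁻¹ * x⁻¹ * a⁻¹) * (x * a * x⁻¹) := by group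
          _ = 1 := by rw [h1]; group }
  have hMA : ∀ m ∈ M, m ∈ A := by
    rintro _ ⟨a, ha, rfl⟩
    exact hψ a ha
  have hxM : ∀ (k : ℤ), ∀ m ∈ M, x ^ k * m * (x ^ k)⁻¹ ∈ M := by
    rintro k _ ⟨a, ha, rfl⟩
    exact ⟨x ^ k * a * (x ^ k)⁻¹, H.conj_mem (S.zpow_mem hx k) ha, by group⟩
  have hSM : ∀ s ∈ S, ∀ m ∈ M, s * m * s⁻¹ ∈ M := by
    intro s hs m hm
    obtain ⟨b, hb, k, rfl⟩ := H.decomp hx hxA hs
    have h1 := hxM k m hm
    have h2 := H.comm b hb _ (hMA _ h1)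
    rw [show b * x ^ k * m * (b * x ^ k)⁻¹ = b * (x ^ k * m * (x ^ k)⁻¹) * b⁻¹ by group, h2,
      mul_inv_cancel_right]
    exact h1
  have hMn : (M.subgroupOf S).Normal := ⟨fun m hm s => hSM s s.2 m hm⟩
  set π := QuotientGroup.mk' (M.subgroupOf S)
  have hcom : ∀ a : S, (a : Ω) ∈ A → Commute (π a) (π ⟨x, hx⟩) := fun a ha => by
    have h1 : π (a * ⟨x, hx⟩ * a⁻¹ * ⟨x, hx⟩⁻¹) = 1 :=
      (QuotientGroup.eq_one_iff _).2 ⟨a, ha, rfl⟩
    rw [map_mul, map_mul, map_mul, map_inv, map_inv, mul_inv_eq_one, mul_inv_eq_iff_eq_mul] at h1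
    exact h1
  have hab : ∀ s t : S, Commute (π s) (π t) := by
    intro s t
    obtain ⟨a, ha, i, hs⟩ := H.decomp hx hxA s.2
    obtain ⟨b, hb, j, ht⟩ := H.decomp hx hxA t.2
    have hs' : s = ⟨a, H.le ha⟩ * ⟨x, hx⟩ ^ i := Subtype.ext (by simpa using hs)
    have ht' : t = ⟨b, H.le hb⟩ * ⟨x, hx⟩ ^ j := Subtype.ext (by simpa using ht)
    rw [hs', ht', map_mul, map_mul, map_zpow, map_zpow]
    have hAB : Commute (π ⟨a, H.le ha⟩) (π ⟨b, H.le hb⟩) := by
      refine Commute.map ?_ π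
      exact Subtype.ext (H.comm a ha b hb)
    exact ((hAB.mul_left ((hcom _ hb).symm.zpow_left i))).mul_right
      (((hcom _ ha).zpow_right j).mul_left ((Commute.refl _).zpow_zpow i j))
  suffices ⁅S, S⁆ ≤ M from this hc
  refine Subgroup.commutator_le.2 fun s hs t ht => ?_
  have h1 : π ⁅(⟨s, hs⟩ : S), (⟨t, ht⟩ : S)⁆ = 1 := by
    rw [map_commutatorElement, commutatorElement_eq_one_iff_mul_comm]
    exact (hab _ _).eq
  exact (QuotientGroup.eq_one_iff ⁅(⟨s, hs⟩ : S), (⟨t, ht⟩ : S)⁆).1 h1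

theorem Setup.commutator_le : ⁅S, S⁆ ≤ A := by
  intro c hc
  obtain ⟨x, hx, hxA⟩ := H.exists_not_mem (Q := S) H.nonab
  obtain ⟨a, ha, rfl⟩ := H.commutator_eq hx hxA hc
  rw [mul_assoc a x, mul_assoc a]
  exact A.mul_mem ha (H.conj_mem hx (A.inv_mem ha))

omit H in
theorem autFun_S_line {δ : MulAut S} {z : Ω} (hz : z ∈ lineS S) : autFun δ z ∈ lineS S := by
  refine ⟨autFun_S_ctr hz.1, ?_⟩
  have hzc := hz.2
  rw [← Subgroup.map_subtype_commutator] at hzc ⊢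
  obtain ⟨w, hw, rfl⟩ := hzc
  refine ⟨δ w, ?_, (autFun_coe δ w).symm⟩
  exact (Subgroup.characteristic_iff_map_eq.1
    (inferInstance : (commutator ↥S).Characteristic) δ).le ⟨w, hw, rfl⟩

/-- Two automorphisms of `S` inverting `Z(S) ∩ S'` and acting trivially modulo it agree on `Z(S)`. -/
theorem Setup.delta_unique (hF : F.IsSaturated p) {δ δ' : MulAut S} (hδ : δ ∈ F.autGroup S)
    (hδ' : δ' ∈ F.autGroup S) (hi : ∀ l ∈ lineS S, autFun δ l = l⁻¹)
    (hi' : ∀ l ∈ lineS S, autFun δ' l = l⁻¹) (hm : ∀ z ∈ ctrS S, z⁻¹ * autFun δ z ∈ lineS S)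
    (hm' : ∀ z ∈ ctrS S, z⁻¹ * autFun δ' z ∈ lineS S) (hexp : ∀ l ∈ lineS S, l ^ p = 1)
    {z : Ω} (hz : z ∈ ctrS S) : autFun δ z = autFun δ' z := by
  have hS := H.pgroup
  set ε := δ⁻¹ * δ' with hε
  have hεF : ε ∈ F.autGroup S := Subgroup.mul_mem _ (Subgroup.inv_mem _ hδ) hδ'
  have hinv : ∀ l ∈ lineS S, autFun δ⁻¹ l = l⁻¹ := fun l hl => by
    have h1 := hi l⁻¹ (Subgroup.inv_mem _ hl)
    rw [inv_inv] at h1
    conv_lhs => rw [← h1]
    exact autFun_inv_left δ (S.inv_mem hl.1.1)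
  have hεl : ∀ l ∈ lineS S, autFun ε l = l := fun l hl => by
    rw [hε, autFun_mul _ _ hl.1.1, hi' l hl, hinv _ (Subgroup.inv_mem _ hl), inv_inv]
  set w := z⁻¹ * autFun ε z with hw
  have hwl : w ∈ lineS S := by
    have h1 : autFun δ⁻¹ z = z * (autFun δ⁻¹ (z⁻¹ * autFun δ z))⁻¹ := by
      rw [autFun_map_mul δ⁻¹ (S.inv_mem hz.1) (autFun_mem δ hz.1), autFun_inv_left δ hz.1,
        autFun_inv_map δ⁻¹ hz.1]
      group
    rw [hw, hε, autFun_mul _ _ hz.1,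
      show autFun δ' z = z * (z⁻¹ * autFun δ' z) by group,
      autFun_map_mul δ⁻¹ hz.1 (hm' z hz).1.1, h1, hinv _ (hm z hz), inv_inv, hinv _ (hm' z hz),
      mul_assoc z, inv_mul_cancel_left]
    exact Subgroup.mul_mem _ (hm z hz) (Subgroup.inv_mem _ (hm' z hz))
  have hpow : ∀ m : ℕ, autFun (ε ^ m) z = z * w ^ m := by
    intro m
    induction m with
    | zero => rw [pow_zero, pow_zero, mul_one, autFun_one hz.1]
    | succ m ih =>
      rw [pow_succ' ε, autFun_mul _ _ hz.1, ih, autFun_map_mul ε hz.1 (S.pow_mem hwl.1.1 m),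
        show autFun ε (w ^ m) = w ^ m from hεl _ (Subgroup.pow_mem _ hwl m),
        show autFun ε z = z * w from (mul_inv_cancel_left z _).symm, pow_succ', mul_assoc]
  have := finite_mulAut (le_refl S)
  obtain ⟨R, hR⟩ := (isFullyAutomized_of_normalized hS hF (isFullyNormalized_self F)).1.2
  have hRn : (R : Subgroup ↥(F.autGroup S)).Normal := by
    rw [hR, ← inn_eq_autInducedBy]
    exact inn_subgroupOf_normal F _
  have hidx := R.not_dvd_index
  set m := (R : Subgroup ↥(F.autGroup S)).index with hm_def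
  have h1 : (⟨ε, hεF⟩ : ↥(F.autGroup S)) ^ m ∈ (R : Subgroup ↥(F.autGroup S)) :=
    Subgroup.pow_index_mem _ _
  rw [hR] at h1
  obtain ⟨s, hs, -, hse⟩ := mem_autInducedBy.1 (Subgroup.mem_subgroupOf.1 h1)
  have h2 : w ^ m = 1 := by
    have h3 := hse z hz.1
    rw [cj_apply, (mem_ctrS.1 hz).2 s hs, mul_inv_cancel_right] at h3
    have h4 : autFun (ε ^ m) z = z := h3
    rw [hpow] at h4
    exact mul_eq_left.1 h4
  have h3 : w = 1 := by
    rw [← orderOf_eq_one_iff]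
    exact Nat.eq_one_of_dvd_coprimes (hp.1.coprime_iff_not_dvd.2 hidx)
      (orderOf_dvd_of_pow_eq_one (hexp w hwl)) (orderOf_dvd_of_pow_eq_one h2)
  have h4 : autFun δ⁻¹ (autFun δ' z) = z := by
    rw [← autFun_mul _ _ hz.1, ← hε]
    exact (inv_mul_eq_one.1 h3).symm
  have h5 := congrArg (autFun δ) h4
  rw [autFun_inv_right δ (autFun_mem δ' hz.1)] at h5
  exact h5.symm

omit H in
/-- In an abelian group a shift by a generator of prime order has powers shifting by any multiple. -/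
theorem exists_pow_shift {B : Type u} [CommGroup B] [Finite B] {τ : MulAut B} {e f c : B}
    (heo : orderOf e = p) (hfix : τ e = e) (hd : f⁻¹ * τ f ∈ Subgroup.zpowers e)
    (hne : τ f ≠ f) (hc : c ∈ Subgroup.zpowers e) :
    ∃ k : ℕ, (τ ^ k) f = f * c := by
  set d := f⁻¹ * τ f with hddef
  have hd1 : d ≠ 1 := fun h => hne (inv_mul_eq_one.1 h).symm
  have hez : Subgroup.zpowers d = Subgroup.zpowers e := by
    refine Subgroup.eq_of_le_of_card_ge (Subgroup.zpowers_le.2 hd) ?_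
    rw [Nat.card_zpowers, Nat.card_zpowers, heo]
    have h1 := orderOf_dvd_of_mem_zpowers hd
    rw [heo] at h1
    exact ((Nat.dvd_prime hp.1).1 h1).elim (fun h => absurd (orderOf_eq_one_iff.1 h) hd1) ge_of_eq
  rw [← hez] at hc
  obtain ⟨k, hk⟩ := mem_powers_iff_mem_zpowers.2 hc
  obtain ⟨j, hj⟩ := Subgroup.mem_zpowers_iff.1 hd
  have hde : τ d = d := by rw [← hj, map_zpow, hfix]
  refine ⟨k, ?_⟩
  have key : ∀ m : ℕ, (τ ^ m) f = f * d ^ m := by
    intro m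
    induction m with
    | zero => rw [pow_zero, pow_zero, mul_one]; rfl
    | succ m ih =>
      rw [pow_succ', MulAut.mul_apply, ih, map_mul, map_pow, hde,
        show τ f = f * d from (mul_inv_cancel_left f (τ f)).symm, pow_succ', mul_assoc]
  rw [key k]
  exact congrArg (f * ·) hk

/-- An abelian essential subgroup lies in `A` only if it is `A`. -/
theorem Setup.not_le_of_essential {E : Subgroup Ω} (hE : F.IsEssential p E)
    (hAe : ¬ F.IsEssential p A) : ¬ E ≤ A := by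
  intro h
  refine hAe ?_
  convert hE using 1
  refine le_antisymm (fun a ha => centric_centralizer_le hE.1 (mem_centralizerIn.mpr
    ⟨H.le ha, fun e he => ?_⟩)) h
  rw [cj_apply, mul_inv_eq_iff_eq_mul]
  exact H.comm a ha e (h he)

theorem Setup.abelian_essential_structure {E : Subgroup Ω} (hE : F.IsEssential p E)
    (hab : ∀ x ∈ E, ∀ y ∈ E, x * y = y * x) (hEnA : ¬ E ≤ A) :
    (∃ x ∈ E, x ∉ A) ∧ ctrS S ≤ E ∧ (∀ a ∈ E, a ∈ A → a ∈ ctrS S) ∧
      ∀ y ∈ E, y ∉ A → E = ctrS S ⊔ Subgroup.zpowers y := by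
  obtain ⟨x, hx, hxA⟩ : ∃ x ∈ E, x ∉ A := SetLike.not_le_iff_exists.1 hEnA
  have hEA : ∀ a ∈ E, a ∈ A → a ∈ ctrS S := fun a ha haA =>
    H.mem_ctr haA (hE.1.1 hx) hxA (hab a ha x hx)
  refine ⟨⟨x, hx, hxA⟩, ctr_le_centric hE.1, hEA, fun y hy hyA => ?_⟩
  refine le_antisymm (fun e he => ?_) (sup_le (ctr_le_centric hE.1) (Subgroup.zpowers_le.2 hy))
  obtain ⟨a, ha, k, rfl⟩ := H.decomp (hE.1.1 hy) hyA (hE.1.1 he)
  exact Subgroup.mul_mem_sup (hEA a ((Subgroup.mul_mem_cancel_right E (E.zpow_mem hy k)).1 he) ha)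
    (Subgroup.zpow_mem _ (Subgroup.mem_zpowers y) k)

theorem Setup.exists_moving {E : Subgroup Ω} (hF : F.IsSaturated p) (hE : F.IsEssential p E)
    (hab : ∀ x ∈ E, ∀ y ∈ E, x * y = y * x) (hEnA : ¬ E ≤ A) :
    ∃ α ∈ F.autGroup E, ∃ z ∈ ctrS S, autFun α z ∉ ctrS S := by
  have hS := H.pgroup
  obtain ⟨-, hZE, hEA, -⟩ := H.abelian_essential_structure hE hab hEnA
  by_contra hno
  push Not at hno
  have hES := hE.1.1
  obtain ⟨g, hg, hgE⟩ := SetLike.exists_of_lt (normalizerIn_gt hS (essential_lt hS hF hE))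
  obtain ⟨hgS, hgn⟩ := mem_normalizerIn.1 hg
  let W : ℕ → Subgroup Ω := fun i => if i = 0 then ⊥ else if i = 1 then ctrS S else E
  refine hgE (mem_of_stabilizing hS hE.1 (essential_radical hS hE) 2 W ?_ (by simp [W])
    (by simp [W]) hg fun i hi y hy hyW => ?_)
  · intro α hα i y hy hyW
    by_cases h0 : i = 0
    · simp only [W, h0, if_true, Subgroup.mem_bot] at hyW ⊢
      rw [hyW]
      exact (isMor_autFun hES hα).map_one
    by_cases h1 : i = 1
    · simp only [W, h1, one_ne_zero, if_false, if_true] at hyW ⊢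
      exact hno α hα y hyW
    · simp only [W, h0, h1, if_false]
      exact autFun_mem α hy
  · interval_cases i
    · simp only [W, Nat.zero_add, one_ne_zero, if_false, if_true] at hyW ⊢
      rw [cj_apply, (mem_ctrS.1 hyW).2 g hgS, mul_inv_cancel_right, inv_mul_cancel]
      exact Subgroup.one_mem _
    · simp only [W, one_ne_zero, if_false, if_true]
      refine hEA _ (E.mul_mem (E.inv_mem hy) ((Subgroup.mem_normalizer_iff.1 hgn y).1 hy))
        (H.commutator_le ?_)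
      have := Subgroup.commutator_mem_commutator (S.inv_mem (hES hy)) hgS
      rwa [show ⁅y⁻¹, g⁆ = y⁻¹ * cj g y by simp [commutatorElement_def, cj, mul_assoc]] at this

/-- The structure of an abelian essential subgroup: `Z(S) ∩ S'` has order `p` and a complement in
`Z(S)` centralised by an automorphism of `S` inverting it. -/
theorem Setup.abelian_essential (hF : F.IsSaturated p) {E : Subgroup Ω} (hE : F.IsEssential p E)
    (hab : ∀ x ∈ E, ∀ y ∈ E, x * y = y * x) (hEnA : ¬ E ≤ A)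
    {α : MulAut E} (hα : α ∈ F.autGroup E) (hmov : ∃ z ∈ ctrS S, autFun α z ∉ ctrS S) :
    ∃ l₀ ∈ lineS S, orderOf l₀ = p ∧ lineS S = Subgroup.zpowers l₀ ∧
      ∃ δ ∈ F.autGroup S, (∀ l ∈ lineS S, autFun δ l = l⁻¹) ∧
        (∀ z ∈ ctrS S, autFun α⁻¹ z ∈ ctrS S → autFun δ z = z) ∧
        (∀ z ∈ ctrS S, ∃ y ∈ ctrS S, autFun α⁻¹ y ∈ ctrS S ∧ ∃ l ∈ lineS S, z = y * l) := by
  have hS := H.pgroup
  have hES := hE.1.1
  have : Finite E := finite_of_le hES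
  have := finite_mulAut (P := E) hES
  obtain ⟨⟨x, hx, hxA⟩, hZE, hEA, -⟩ := H.abelian_essential_structure hE hab hEnA
  obtain ⟨z₁, hz₁, hy₀⟩ := hmov
  set y₀ := autFun α z₁ with hy₀def
  have hy₀E : y₀ ∈ E := autFun_mem α (hZE hz₁)
  -- membership in `α Z`
  have hinZ1 : ∀ e ∈ E, (∀ f ∈ E, autFun α⁻¹ e = autFun α⁻¹ f → e = f) := fun e he f hf h => by
    rw [← autFun_inv_right α he, ← autFun_inv_right α hf, h]
  clear hinZ1
  let Z0 : Subgroup Ω :=
    { carrier := {z | z ∈ ctrS S ∧ autFun α⁻¹ z ∈ ctrS S}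
      one_mem' := ⟨Subgroup.one_mem _, by
        rw [(isMor_autFun hES (Subgroup.inv_mem _ hα)).map_one]; exact Subgroup.one_mem _⟩
      mul_mem' := fun {a b} ha hb => ⟨Subgroup.mul_mem _ ha.1 hb.1, by
        rw [autFun_map_mul _ (hZE ha.1) (hZE hb.1)]; exact Subgroup.mul_mem _ ha.2 hb.2⟩
      inv_mem' := fun {a} ha => ⟨Subgroup.inv_mem _ ha.1, by
        rw [autFun_inv_map _ (hZE ha.1)]; exact Subgroup.inv_mem _ ha.2⟩ }
  have hZ0E : Z0 ≤ E := fun z hz => hZE hz.1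
  have hn : F.IsFullyNormalized E := hE.2.1
  obtain ⟨⟨-, hsyl⟩, hrec⟩ : (E ≤ S ∧ IsSylIn p (autInducedBy S E) (F.autGroup E)) ∧
      F.IsReceptive E :=
    ⟨isFullyAutomized_iff.1 (isFullyAutomized_of_normalized hS hF hn).1,
      (isFullyAutomized_of_normalized hS hF hn).2⟩
  set U := autInducedBy S E with hU
  have hUZ : ∀ τ ∈ U, ∀ z ∈ ctrS S, autFun τ z = z := by
    intro τ hτ z hz
    obtain ⟨s, hs, -, hse⟩ := mem_autInducedBy.1 hτ
    rw [hse z (hZE hz), cj_apply, (mem_ctrS.1 hz).2 s hs, mul_inv_cancel_right]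
  have hU'Z : ∀ τ ∈ U, ∀ y ∈ E, autFun α⁻¹ y ∈ ctrS S → autFun (α * τ * α⁻¹) y = y := by
    intro τ hτ y hy hyZ
    rw [autFun_mul _ _ hy, autFun_mul _ _ (autFun_mem _ hy), hUZ τ hτ _ hyZ, autFun_inv_right α hy]
  -- automorphisms fixing `Z0`, and those trivial modulo it
  let G0 : Subgroup (MulAut E) :=
    { carrier := {β | β ∈ F.autGroup E ∧ ∀ z ∈ Z0, autFun β z = z}
      one_mem' := ⟨Subgroup.one_mem _, fun z hz => autFun_one (hZ0E hz)⟩
      mul_mem' := fun {a b} ha hb => ⟨Subgroup.mul_mem _ ha.1 hb.1, fun z hz => by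
        rw [autFun_mul _ _ (hZ0E hz), hb.2 z hz, ha.2 z hz]⟩
      inv_mem' := fun {a} ha => ⟨Subgroup.inv_mem _ ha.1, fun z hz => by
        conv_lhs => rw [← ha.2 z hz]
        exact autFun_inv_left a (hZ0E hz)⟩ }
  have hUG : ∀ τ ∈ U, τ ∈ G0 := fun τ hτ => ⟨autInducedBy_le F hES hτ, fun z hz => hUZ τ hτ z hz.1⟩
  have hU'G : ∀ τ ∈ U, α * τ * α⁻¹ ∈ G0 := fun τ hτ =>
    ⟨Subgroup.mul_mem _ (Subgroup.mul_mem _ hα (autInducedBy_le F hES hτ)) (Subgroup.inv_mem _ hα),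
      fun z hz => hU'Z τ hτ z (hZ0E hz) hz.2⟩
  let W : ℕ → Subgroup Ω := fun i => if i = 0 then ⊥ else if i = 1 then Z0 else E
  have hW : ∀ β ∈ G0, ∀ i, ∀ y ∈ E, y ∈ W i → autFun β y ∈ W i := by
    intro β hβ i y hy hyW
    by_cases h0 : i = 0
    · simp only [W, h0, if_true, Subgroup.mem_bot] at hyW ⊢
      rw [hyW]
      exact (isMor_autFun hES hβ.1).map_one
    by_cases h1 : i = 1
    · simp only [W, h1, one_ne_zero, if_false, if_true] at hyW ⊢
      rw [hβ.2 y hyW]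
      exact hyW
    · simp only [W, h0, h1, if_false]
      exact autFun_mem β hy
  let K := seriesStab G0 2 W hW
  have hKp : IsPGroup p K := by
    refine isPGroup_stabilizing hS hES 2 (fun i => (W i : Set Ω)) (by simp [W])
      (fun y hy => by simp [W, hy]) fun β hβ i hi y hy hyW => hβ.2 i hi y hy hyW
  have hmemK : ∀ β ∈ G0, (∀ y ∈ E, y⁻¹ * autFun β y ∈ Z0) → β ∈ K := fun β hβ h =>
    ⟨hβ, fun i hi y hy hyW => by
      interval_cases i
      · simp only [W, Nat.zero_add, one_ne_zero, if_false, if_true] at hyW ⊢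
        rw [hβ.2 y hyW, inv_mul_cancel]
        exact Subgroup.one_mem _
      · simp only [W, one_ne_zero, if_false, if_true]
        exact h y hy⟩
  -- `Z` and `α Z` generate
  have hy₀A : y₀ ∉ A := fun h => hy₀ (hEA y₀ hy₀E h)
  have hgenE : ∀ e ∈ E, ∃ z ∈ ctrS S, ∃ k : ℤ, e = z * y₀ ^ k := fun e he => by
    obtain ⟨a, ha, k, rfl⟩ := H.decomp (hES hy₀E) hy₀A (hES he)
    exact ⟨a, hEA a ((Subgroup.mul_mem_cancel_right E (E.zpow_mem hy₀E k)).1 he) ha, k, rfl⟩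
  have hKle : ∀ β ∈ K, β = 1 := by
    have hKF : K ≤ F.autGroup E := fun β hβ => hβ.1.1
    have key : K ≤ U := by
      have h1 := hsyl.2.2 (U ⊔ K) (IsPGroup.to_sup_of_normal_right' hsyl.2.1 hKp fun τ hτ => by
        rw [Subgroup.mem_normalizer_iff]
        intro β
        refine ⟨fun hβ => seriesStab_conj (hUG τ hτ) hβ, fun hβ => ?_⟩
        have := seriesStab_conj (G0.inv_mem (hUG τ hτ)) hβ
        simpa [mul_assoc] using this)
        le_sup_left (sup_le hsyl.1 hKF)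
      exact h1 ▸ le_sup_right
    let K' : Subgroup (MulAut E) := K.map (MulAut.conj α⁻¹).toMonoidHom
    have key' : K' ≤ U := by
      have hK'F : K' ≤ F.autGroup E := by
        rintro _ ⟨β, hβ, rfl⟩
        exact Subgroup.mul_mem _ (Subgroup.mul_mem _ (Subgroup.inv_mem _ hα) (hKF hβ))
          (Subgroup.inv_mem _ (Subgroup.inv_mem _ hα))
      have h1 := hsyl.2.2 (U ⊔ K') (IsPGroup.to_sup_of_normal_right' hsyl.2.1 (hKp.map _) fun τ hτ => by
        have key₂ : ∀ τ ∈ U, ∀ b ∈ K', τ * b * τ⁻¹ ∈ K' := by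
          rintro τ hτ _ ⟨β, hβ, rfl⟩
          refine ⟨α * τ * α⁻¹ * β * (α * τ * α⁻¹)⁻¹, seriesStab_conj (hU'G τ hτ) hβ, ?_⟩
          show α⁻¹ * _ * α⁻¹⁻¹ = τ * (α⁻¹ * β * α⁻¹⁻¹) * τ⁻¹
          group
        rw [Subgroup.mem_normalizer_iff]
        intro β
        refine ⟨fun hβ => key₂ τ hτ β hβ, fun hβ => ?_⟩
        have := key₂ τ⁻¹ (U.inv_mem hτ) _ hβ
        simpa [mul_assoc] using this)
        le_sup_left (sup_le hsyl.1 hK'F)
      exact h1 ▸ le_sup_right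
    intro β hβ
    have hby : autFun β y₀ = y₀ := by
      have h1 : α⁻¹ * β * α⁻¹⁻¹ ∈ U := key' ⟨β, hβ, rfl⟩
      have h2 := hUZ _ h1 z₁ hz₁
      rw [inv_inv, autFun_mul _ _ (hZE hz₁), autFun_mul _ _ (autFun_mem _ (hZE hz₁))] at h2
      have h3 := congrArg (autFun α) h2
      rwa [autFun_inv_right α (autFun_mem β hy₀E)] at h3
    refine autFun_inj fun e he => ?_
    obtain ⟨z, hz, k, rfl⟩ := hgenE e he
    have hm := isMor_autFun hES (hKF hβ)
    rw [autFun_one he, autFun_map_mul β (hZE hz) (E.zpow_mem hy₀E k), hUZ β (key hβ) z hz,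
      hm.map_zpow hy₀E, hby]
  -- the elements moving `x` by the line
  have hact : ∀ l ∈ lineS S, ∃ a ∈ A, a ∈ Subgroup.normalizer (E : Set Ω) ∧
      a * x * a⁻¹ = l * x := by
    intro l hl
    obtain ⟨a, ha, hae⟩ := H.commutator_eq (hES hx) hxA hl.2
    have hax : a * x * a⁻¹ = l * x := by rw [hae]; group
    refine ⟨a, ha, ?_, hax⟩
    have hcl : ∀ e ∈ E, ∃ c ∈ E, a * e * a⁻¹ = c ∧ ∃ k : ℤ, c = l ^ k * e := by
      intro e he
      obtain ⟨b, hb, k, rfl⟩ := H.decomp (hES hx) hxA (hES he)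
      have hbZ : b ∈ ctrS S := hEA b ((Subgroup.mul_mem_cancel_right E (E.zpow_mem hx k)).1 he) hb
      refine ⟨_, ?_, rfl, k, ?_⟩
      · rw [show a * (b * x ^ k) * a⁻¹ = (a * b * a⁻¹) * (a * x * a⁻¹) ^ k by
          rw [conj_zpow]; group, hax, H.comm a ha b hb, mul_inv_cancel_right]
        exact E.mul_mem (hZE hbZ) (E.zpow_mem (E.mul_mem (hZE hl.1) hx) k)
      · rw [show a * (b * x ^ k) * a⁻¹ = (a * b * a⁻¹) * (a * x * a⁻¹) ^ k by
          rw [conj_zpow]; group, hax, H.comm a ha b hb, mul_inv_cancel_right,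
          Commute.mul_zpow (show Commute l x from hab l (hZE hl.1) x hx), ← mul_assoc, ← mul_assoc,
          hab b (hZE hbZ) (l ^ k) (E.zpow_mem (hZE hl.1) k)]
    rw [Subgroup.mem_normalizer_iff]
    intro e
    refine ⟨fun he => ?_, fun he => ?_⟩
    · obtain ⟨c, hc, hce, -⟩ := hcl e he
      exact hce ▸ hc
    · obtain ⟨c, -, hce, k, hck⟩ := hcl _ he
      have hlc : Commute a (l ^ k) :=
        Commute.zpow_right (show Commute a l from H.comm a ha l (H.ctr_le hl.1)) k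
      have h1 : a * (a * e * a⁻¹) * a⁻¹ = l ^ k * (a * e * a⁻¹) := hce.trans hck
      have h2 : a * e * a⁻¹ = l ^ k * e := by
        apply mul_left_cancel (a := a)
        apply mul_right_cancel (b := a⁻¹)
        rw [h1, ← mul_assoc a (l ^ k), hlc.eq]
        group
      rw [h2] at he
      exact (Subgroup.mul_mem_cancel_left E (E.zpow_mem (hZE hl.1) k)).1 he
  have hL0 : ∀ l ∈ lineS S, autFun α⁻¹ l ∈ ctrS S → l = 1 := by
    intro l hl hlα
    obtain ⟨a, ha, han, hax⟩ := hact l hl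
    obtain ⟨τ, hτ, hτe⟩ := exists_autInducedBy (P := E) (H.le ha) han
    have hτK : τ ∈ K := hmemK τ (hUG τ hτ) fun e he => by
      obtain ⟨b, hb, k, rfl⟩ := H.decomp (hES hx) hxA (hES he)
      have hbE : b ∈ E := (Subgroup.mul_mem_cancel_right E (E.zpow_mem hx k)).1 he
      rw [hτe _ he, cj_apply, show a * (b * x ^ k) * a⁻¹ = (a * b * a⁻¹) * (a * x * a⁻¹) ^ k by
          rw [conj_zpow]; group, hax, H.comm a ha b hb, mul_inv_cancel_right,
        Commute.mul_zpow (show Commute l x from hab l (hZE hl.1) x hx),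
        hab (l ^ k) (E.zpow_mem (hZE hl.1) k) (x ^ k) (E.zpow_mem hx k), ← mul_assoc b,
        inv_mul_cancel_left]
      exact Z0.zpow_mem ⟨hl.1, hlα⟩ k
    have h1 := hτe x hx
    rw [hKle τ hτK, autFun_one hx, cj_apply, hax, right_eq_mul] at h1
    exact h1
  have hexp : ∀ l ∈ lineS S, l ^ p = 1 := by
    intro l hl
    obtain ⟨a, ha, -, hax⟩ := hact l hl
    have h1 : (l * x) ^ p = x ^ p := by
      rw [← hax, conj_pow, H.comm a ha _ (H.pow_mem (hES hx)), mul_inv_cancel_right]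
    rwa [Commute.mul_pow (show Commute l x from hab l (hZE hl.1) x hx), mul_eq_right] at h1
  -- a nontrivial element of the line
  obtain ⟨l₀, hl₀, hl₀1⟩ : ∃ l ∈ lineS S, l ≠ 1 := by
    obtain ⟨g, hg, hgE⟩ := SetLike.exists_of_lt (normalizerIn_gt hS (essential_lt hS hF hE))
    obtain ⟨hgS, hgn⟩ := mem_normalizerIn.1 hg
    refine ⟨g * x * g⁻¹ * x⁻¹, ?_, fun h => hgE ?_⟩
    · have h1 : g * x * g⁻¹ * x⁻¹ ∈ ⁅S, S⁆ := by
        have := Subgroup.commutator_mem_commutator hgS (hES hx)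
        rwa [commutatorElement_def] at this
      exact ⟨hEA _ (E.mul_mem ((Subgroup.mem_normalizer_iff.1 hgn x).1 hx) (E.inv_mem hx))
        (H.commutator_le h1), h1⟩
    · obtain ⟨a, ha, k, rfl⟩ := H.decomp (hES hx) hxA hgS
      have h2 : a * x = x * a := by
        have h3 := mul_inv_eq_one.1 h
        rw [show a * x ^ k * x * (a * x ^ k)⁻¹ = a * x * a⁻¹ by group, mul_inv_eq_iff_eq_mul] at h3
        exact h3
      exact E.mul_mem (hZE (H.mem_ctr ha (hES hx) hxA h2)) (E.zpow_mem hx k)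
  have hl₀o : orderOf l₀ = p := orderOf_eq_prime (hexp _ hl₀) hl₀1
  have hl₀Z0 : autFun α⁻¹ l₀ ∉ ctrS S := fun h => hl₀1 (hL0 l₀ hl₀ h)
  -- `Z = Z0 ⟨l₀⟩`
  have hZdec : ∀ z ∈ ctrS S, ∃ y ∈ Z0, ∃ k : ℤ, z = y * l₀ ^ k := by
    intro z hz
    have hw : autFun α⁻¹ l₀ ∉ A := fun h => hl₀Z0 (hEA _ (autFun_mem _ (hZE hl₀.1)) h)
    obtain ⟨a, ha, k, hak⟩ := H.decomp (hES (autFun_mem α⁻¹ (hZE hl₀.1))) hw
      (hES (autFun_mem α⁻¹ (hZE hz)))
    have hwE := E.zpow_mem (autFun_mem α⁻¹ (hZE hl₀.1)) k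
    have haE : a ∈ E :=
      (Subgroup.mul_mem_cancel_right E hwE).1 (hak ▸ autFun_mem α⁻¹ (hZE hz))
    have h1 : z = autFun α a * l₀ ^ k := by
      rw [← autFun_inv_right α (hZE hz), hak, autFun_map_mul α haE hwE,
        (isMor_autFun hES hα).map_zpow (autFun_mem α⁻¹ (hZE hl₀.1)),
        autFun_inv_right α (hZE hl₀.1)]
    refine ⟨autFun α a, ⟨?_, ?_⟩, k, h1⟩
    · exact (Subgroup.mul_mem_cancel_right _ (Subgroup.zpow_mem _ hl₀.1 k)).1 (h1 ▸ hz)
    · rw [autFun_inv_left α haE]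
      exact hEA a haE ha
  have hline : lineS S = Subgroup.zpowers l₀ := by
    refine le_antisymm (fun l hl => ?_) (Subgroup.zpowers_le.2 hl₀)
    obtain ⟨y, hy, k, rfl⟩ := hZdec l hl.1
    have hyl : y ∈ lineS S :=
      (Subgroup.mul_mem_cancel_right _ (Subgroup.zpow_mem _ hl₀ k)).1 hl
    rw [hL0 y hyl hy.2, one_mul]
    exact Subgroup.zpow_mem _ (Subgroup.mem_zpowers l₀) k
  -- the second line
  set m₀ := autFun α l₀ with hm₀
  have hm₀E : m₀ ∈ E := autFun_mem α (hZE hl₀.1)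
  obtain ⟨a₀, ha₀, ha₀n, ha₀x⟩ := hact l₀ hl₀
  obtain ⟨τ, hτ, hτe⟩ := exists_autInducedBy (P := E) (H.le ha₀) ha₀n
  have hτl : ∀ e ∈ E, e⁻¹ * autFun τ e ∈ Subgroup.zpowers l₀ := fun e he => by
    rw [← hline, hτe e he]
    have h1 : e⁻¹ * cj a₀ e ∈ ⁅S, S⁆ := by
      have := Subgroup.commutator_mem_commutator (S.inv_mem (hES he)) (H.le ha₀)
      rwa [show ⁅e⁻¹, a₀⁆ = e⁻¹ * cj a₀ e by simp [commutatorElement_def, cj, mul_assoc]] at this
    exact ⟨hEA _ (E.mul_mem (E.inv_mem he) ((Subgroup.mem_normalizer_iff.1 ha₀n e).1 he))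
      (H.commutator_le h1), h1⟩
  have hτ1 : τ ≠ 1 := fun h => hl₀1 (by
    have h1 := hτe x hx
    rw [h, autFun_one hx, cj_apply, ha₀x, right_eq_mul] at h1
    exact h1)
  have hm₀Z : m₀ ∉ ctrS S := by
    intro hm
    have hσK : α * τ * α⁻¹ ∈ K := hmemK _ (hU'G τ hτ) fun e he => by
      obtain ⟨j, hj⟩ := Subgroup.mem_zpowers_iff.1 (hτl _ (autFun_mem α⁻¹ he))
      have h1 : e⁻¹ * autFun (α * τ * α⁻¹) e = m₀ ^ j := by
        rw [autFun_mul _ _ he, autFun_mul _ _ (autFun_mem _ he),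
          hm₀, ← (isMor_autFun hES hα).map_zpow (hZE hl₀.1), hj,
          autFun_map_mul α (E.inv_mem (autFun_mem _ he)) (autFun_mem τ (autFun_mem _ he)),
          autFun_inv_map α (autFun_mem _ he), autFun_inv_right α he]
      rw [h1]
      refine Z0.zpow_mem ⟨hm, ?_⟩ j
      rw [autFun_inv_left α (hZE hl₀.1)]
      exact hl₀.1
    exact hτ1 (conj_eq_one_iff.1 (hKle _ hσK))
  have hm₀A : m₀ ∉ A := fun h => hm₀Z (hEA m₀ hm₀E h)
  have hgen : ∀ e ∈ E, ∃ y ∈ Z0, ∃ i j : ℤ, e = y * l₀ ^ i * m₀ ^ j := fun e he => by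
    obtain ⟨b, hb, j, rfl⟩ := H.decomp (hES hm₀E) hm₀A (hES he)
    obtain ⟨y, hy, i, rfl⟩ :=
      hZdec b (hEA b ((Subgroup.mul_mem_cancel_right E (E.zpow_mem hm₀E j)).1 he) hb)
    exact ⟨y, hy, i, j, rfl⟩
  -- the element inverting both lines
  letI : CommGroup E := { (inferInstance : Group E) with
    mul_comm := fun a b => Subtype.ext (hab a a.2 b b.2) }
  set e : E := ⟨l₀, hZE hl₀.1⟩ with he_def
  set f : E := α e with hf_def
  have hf : (f : Ω) = m₀ := (autFun_coe α e).symm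
  have heo : orderOf e = p := by rw [← hl₀o]; exact (Subgroup.orderOf_coe e).symm
  have hτfix : τ e = e := Subtype.ext (by rw [← autFun_coe τ e]; exact hUZ τ hτ l₀ hl₀.1)
  have hτd : ∀ a : E, a⁻¹ * τ a ∈ Subgroup.zpowers e := fun a => by
    obtain ⟨j, hj⟩ := Subgroup.mem_zpowers_iff.1 (hτl a a.2)
    refine Subgroup.mem_zpowers_iff.2 ⟨j, Subtype.ext ?_⟩
    rw [Subgroup.coe_zpow, Subgroup.coe_mul, Subgroup.coe_inv, ← autFun_coe τ a]
    exact hj
  have hτf : τ f ≠ f := fun h => hτ1 (autFun_inj fun b hb => by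
    obtain ⟨y, hy, i, j, rfl⟩ := hgen b hb
    have hm := isMor_autFun hES (autInducedBy_le F hES hτ)
    rw [autFun_one hb,
      autFun_map_mul τ (E.mul_mem (hZ0E hy) (E.zpow_mem (hZE hl₀.1) i)) (E.zpow_mem hm₀E j),
      hUZ τ hτ _ (Subgroup.mul_mem _ hy.1 (Subgroup.zpow_mem _ hl₀.1 i)), hm.map_zpow hm₀E,
      show autFun τ m₀ = m₀ from by rw [← hf, autFun_coe, h]])
  set σ := α * τ * α⁻¹ with hσ
  have hσfix : σ f = f := by
    rw [hσ, hf_def, MulAut.mul_apply, MulAut.mul_apply, MulAut.inv_apply_self, hτfix]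
  have hσe : σ e ≠ e := fun h => hτ1 (conj_eq_one_iff.1 (autFun_inj fun b hb => by
    obtain ⟨y, hy, i, j, rfl⟩ := hgen b hb
    have hm := isMor_autFun hES (hU'G τ hτ).1
    rw [autFun_one hb,
      autFun_map_mul σ (E.mul_mem (hZ0E hy) (E.zpow_mem (hZE hl₀.1) i)) (E.zpow_mem hm₀E j),
      autFun_map_mul σ (hZ0E hy) (E.zpow_mem (hZE hl₀.1) i), hm.map_zpow (hZE hl₀.1),
      hm.map_zpow hm₀E, (hU'G τ hτ).2 y hy,
      show autFun σ l₀ = l₀ from by rw [show l₀ = (e : Ω) from rfl, autFun_coe, h],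
      show autFun σ m₀ = m₀ from by rw [← hf, autFun_coe, hσfix]] : σ = 1))
  obtain ⟨i, hi⟩ := exists_pow_shift heo hτfix (hτd f) hτf (Subgroup.mem_zpowers e)
  obtain ⟨j, hj⟩ := exists_pow_shift (τ := σ) (f := e) (e := f) (c := f⁻¹)
    (by rw [hf_def, MulEquiv.orderOf_eq, heo]) hσfix
    (by
      obtain ⟨k, hk⟩ := Subgroup.mem_zpowers_iff.1 (hτd (α⁻¹ e))
      refine Subgroup.mem_zpowers_iff.2 ⟨k, ?_⟩
      rw [hf_def, ← map_zpow, hk, map_mul, map_inv, MulAut.apply_inv_self]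
      rfl)
    hσe (Subgroup.inv_mem _ (Subgroup.mem_zpowers f))
  have hfixpow : ∀ (ρ : MulAut E) (v : E) (n : ℕ), ρ v = v → (ρ ^ n) v = v := by
    intro ρ v n hv
    induction n with
    | zero => rfl
    | succ n ih => rw [pow_succ', MulAut.mul_apply, ih, hv]
  set w := τ ^ i * σ ^ j * τ ^ i with hwdef
  have hw1 : w e = f⁻¹ := by
    rw [hwdef, MulAut.mul_apply, hfixpow τ e i hτfix, MulAut.mul_apply, hj, map_mul,
      hfixpow τ e i hτfix, map_inv, hi, mul_inv_rev, mul_inv_cancel_left]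
  have hw2 : w f = e := by
    rw [hwdef, MulAut.mul_apply, hi, MulAut.mul_apply, map_mul, hfixpow σ f j hσfix, hj,
      mul_left_comm, mul_inv_cancel, mul_one, hfixpow τ e i hτfix]
  have hwG : w ∈ G0 :=
    G0.mul_mem (G0.mul_mem (G0.pow_mem (hUG τ hτ) i) (G0.pow_mem (hU'G τ hτ) j))
      (G0.pow_mem (hUG τ hτ) i)
  set ι := w * w with hιdef
  have hιG : ι ∈ G0 := G0.mul_mem hwG hwG
  have hιl : autFun ι l₀ = l₀⁻¹ := by
    rw [show l₀ = (e : Ω) from rfl, autFun_coe, ← Subgroup.coe_inv]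
    refine congrArg Subtype.val ?_
    rw [hιdef, MulAut.mul_apply, hw1, map_inv, hw2]
  have hιm : autFun ι m₀ = m₀⁻¹ := by
    rw [← hf, autFun_coe, ← Subgroup.coe_inv]
    refine congrArg Subtype.val ?_
    rw [hιdef, MulAut.mul_apply, hw2, hw1]
  have hιm' := isMor_autFun hES hιG.1
  -- `ι` commutes with `Aut_S(E)`
  have hN : normalizerIn S E ≤ nExt S E (autFun ι) := by
    intro s hs
    obtain ⟨hsS, hsn⟩ := mem_normalizerIn.1 hs
    refine mem_nExt.2 ⟨hsS, hsn, s, hsS, fun b hb => ?_⟩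
    obtain ⟨y, hy, i, j, rfl⟩ := hgen b hb
    have hyl : y * l₀ ^ i ∈ ctrS S := Subgroup.mul_mem _ hy.1 (Subgroup.zpow_mem _ hl₀.1 i)
    have hcz : ∀ z ∈ ctrS S, cj s z = z := fun z hz => by
      rw [cj_apply, (mem_ctrS.1 hz).2 s hsS, mul_inv_cancel_right]
    have hms : cj s m₀ ∈ E := (Subgroup.mem_normalizer_iff.1 hsn m₀).1 hm₀E
    have hl' : m₀⁻¹ * cj s m₀ ∈ lineS S := by
      have h1 : m₀⁻¹ * cj s m₀ ∈ ⁅S, S⁆ := by
        have := Subgroup.commutator_mem_commutator (S.inv_mem (hES hm₀E)) hsS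
        rwa [show ⁅m₀⁻¹, s⁆ = m₀⁻¹ * cj s m₀ by simp [commutatorElement_def, cj, mul_assoc]] at this
      exact ⟨hEA _ (E.mul_mem (E.inv_mem hm₀E) hms) (H.commutator_le h1), h1⟩
    obtain ⟨k, hk⟩ := Subgroup.mem_zpowers_iff.1 (hline.le hl')
    have hms' : cj s m₀ = m₀ * l₀ ^ k := by rw [hk, mul_inv_cancel_left]
    have hιcj : autFun ι (cj s m₀) = cj s (m₀⁻¹) := by
      rw [hms', autFun_map_mul ι hm₀E (E.zpow_mem (hZE hl₀.1) k), hιm,
        hιm'.map_zpow (hZE hl₀.1), hιl]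
      have h2 : cj s m₀⁻¹ = (cj s m₀)⁻¹ := by simp [cj, mul_assoc]
      rw [h2, hms', mul_inv_rev, inv_zpow,
        hab _ (E.inv_mem hm₀E) _ (E.inv_mem (E.zpow_mem (hZE hl₀.1) k))]
    have hcpow : ∀ (v : Ω) (n : ℤ), cj s (v ^ n) = (cj s v) ^ n := fun v n => by
      simp [cj, conj_zpow]
    have hιyl : autFun ι (y * l₀ ^ i) = y * (l₀⁻¹) ^ i := by
      rw [autFun_map_mul ι (hZ0E hy) (E.zpow_mem (hZE hl₀.1) i), hιG.2 y hy,
        hιm'.map_zpow (hZE hl₀.1), hιl]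
    rw [cj_map_mul, hcz _ hyl, hcpow, autFun_map_mul ι (hZE hyl) (E.zpow_mem hms j),
      hιm'.map_zpow hms, hιcj, ← hcpow, hιyl,
      autFun_map_mul ι (hZE hyl) (E.zpow_mem hm₀E j), hιyl, hιm'.map_zpow hm₀E, hιm,
      cj_map_mul, hcz _ (Subgroup.mul_mem _ hy.1 (Subgroup.zpow_mem _ (Subgroup.inv_mem _ hl₀.1) i))]
  obtain ⟨g, hg, hge⟩ := (isReceptive_iff.1 hrec).2 E _ hιm' (img_autFun _)
  obtain ⟨δ, hδ, hδe⟩ := H.map_ctr hF (hg.restrict hN)
    (centric_mono hE.1 (le_normalizerIn hES) normalizerIn_le)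
    ⟨a₀, mem_normalizerIn.2 ⟨H.le ha₀, ha₀n⟩, x, le_normalizerIn hES hx, fun h => by
      rw [h, mul_inv_cancel_right] at ha₀x
      exact hl₀1 (right_eq_mul.1 ha₀x)⟩
  refine ⟨l₀, hl₀, hl₀o, hline, δ, hδ, fun l hl => ?_, fun z hz hzα => ?_, fun z hz => ?_⟩
  · obtain ⟨k, rfl⟩ := Subgroup.mem_zpowers_iff.1 (hline.le hl)
    rw [← hδe _ hl.1, hge _ (hZE hl.1), hιm'.map_zpow (hZE hl₀.1), hιl, inv_zpow]
  · rw [← hδe z hz, hge z (hZE hz), hιG.2 z ⟨hz, hzα⟩]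
  · obtain ⟨y, hy, k, rfl⟩ := hZdec z hz
    exact ⟨y, hy.1, hy.2, _, Subgroup.zpow_mem _ hl₀ k, rfl⟩

omit H in
theorem ctrS_ne_bot (hS : IsPGroup p S) (hne : S ≠ ⊥) : ctrS S ≠ ⊥ := by
  intro h
  haveI : Nontrivial S := (Subgroup.nontrivial_iff_ne_bot S).2 hne
  have hc := hS.center_nontrivial
  refine ((Subgroup.nontrivial_iff_ne_bot _).1 hc) (Subgroup.eq_bot_iff_forall _ |>.2 fun z hz => ?_)
  have h1 : (z : Ω) ∈ ctrS S := mem_ctrS.2 ⟨z.2, fun s hs =>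
    congrArg Subtype.val (Subgroup.mem_center_iff.1 hz ⟨s, hs⟩)⟩
  rw [h, Subgroup.mem_bot] at h1
  exact Subtype.ext h1

theorem Setup.main_aux (hF : F.IsSaturated p) (hp2 : p ≠ 2) (hcore : F.core = ⊥)
    (hsel : ∀ P, F.IsEssential p P → (∀ x ∈ P, ∀ y ∈ P, x * y = y * x) →
      ∃ B, Setup p S B ∧ ¬ P ≤ B) :
    Nat.card ↥(ctrS S) = p ∧ ctrS S ≤ ⁅S, S⁆ ∧
      ∃ E, F.IsEssential p E ∧ ∀ x ∈ E, ∀ y ∈ E, x * y = y * x := by
  have hS := H.pgroup
  have hSne : S ≠ ⊥ := fun h => by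
    obtain ⟨u, hu, v, hv, hne⟩ := H.nonab
    rw [h, Subgroup.mem_bot] at hu hv
    exact hne (by rw [hu, hv])
  have hbot : ∀ Y : Subgroup Ω, F.IsNormal Y → Y = ⊥ := fun Y hY =>
    le_bot_iff.1 (hcore ▸ le_core hY)
  obtain ⟨E, hE, hab⟩ : ∃ E, F.IsEssential p E ∧ ∀ x ∈ E, ∀ y ∈ E, x * y = y * x := by
    by_contra hno
    push Not at hno
    refine ctrS_ne_bot hS hSne (hbot _ (isNormal_of_invariant hS hF fun P hP => ?_))
    rcases hP with rfl | hP
    · exact ⟨inf_le_left, fun α _ z hz => autFun_S_ctr hz⟩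
    · exact ⟨ctr_le_centric hP.1, fun α hα z hz =>
        H.img_ctr hP.1 (hno P hP) (isMor_autFun hP.1.1 hα) hz⟩
  obtain ⟨B, HB, hEB⟩ := hsel E hE hab
  obtain ⟨α, hα, hmov⟩ := HB.exists_moving hF hE hab hEB
  obtain ⟨l₀, hl₀, hl₀o, hline, δ, hδ, hδl, hδZ0, hdec⟩ :=
    HB.abelian_essential hF hE hab hEB hα hmov
  have hexp : ∀ l ∈ lineS S, l ^ p = 1 := fun l hl => by
    obtain ⟨k, rfl⟩ := Subgroup.mem_zpowers_iff.1 (hline.le hl)
    rw [← zpow_natCast, ← zpow_mul, mul_comm, zpow_mul, zpow_natCast, ← hl₀o, pow_orderOf_eq_one,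
      one_zpow]
  have hsq : ∀ l ∈ lineS S, l⁻¹ = l → l = 1 := fun l hl h => by
    have h2 : l ^ 2 = 1 := by rw [sq]; nth_rewrite 1 [← h]; exact inv_mul_cancel l
    rw [← orderOf_eq_one_iff]
    exact Nat.eq_one_of_dvd_coprimes ((Nat.coprime_primes hp.1 Nat.prime_two).2 hp2)
      (orderOf_dvd_of_pow_eq_one (hexp l hl)) (orderOf_dvd_of_pow_eq_one h2)
  -- `δ` moves `Z` inside the line, and so does each of its possible replacements
  have hshift : ∀ (δ' : MulAut S) (P' : Ω → Prop), (∀ l ∈ lineS S, autFun δ' l = l⁻¹) →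
      (∀ z ∈ ctrS S, P' z → autFun δ' z = z) →
      (∀ z ∈ ctrS S, ∃ y ∈ ctrS S, P' y ∧ ∃ l ∈ lineS S, z = y * l) →
      ∀ z ∈ ctrS S, z⁻¹ * autFun δ' z ∈ lineS S ∧ (autFun δ' z = z → P' z) := by
    intro δ' P' h1 h2 h3 z hz
    obtain ⟨y, hy, hyP, l, hl, rfl⟩ := h3 z hz
    have h4 : autFun δ' (y * l) = y * l⁻¹ := by
      rw [autFun_map_mul δ' hy.1 hl.1.1, h2 y hy hyP, h1 l hl]
    refine ⟨?_, fun h => ?_⟩
    · rw [h4, mul_inv_rev, mul_assoc, inv_mul_cancel_left]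
      exact Subgroup.mul_mem _ (Subgroup.inv_mem _ hl) (Subgroup.inv_mem _ hl)
    · rw [h4, mul_right_inj] at h
      rwa [hsq l hl h, mul_one]
  have hδmov : ∀ z ∈ ctrS S, z⁻¹ * autFun δ z ∈ lineS S := fun z hz =>
    (hshift δ (fun y => autFun α⁻¹ y ∈ ctrS S) hδl hδZ0 hdec z hz).1
  have hcomm : ∀ φ ∈ F.autGroup S, ∀ z ∈ ctrS S, autFun δ z = z →
      autFun δ (autFun φ z) = autFun φ z := by
    intro φ hφ z hz hzδ
    set δ' := φ⁻¹ * δ * φ with hδ'
    have hδ'a : ∀ v ∈ S, autFun δ' v = autFun φ⁻¹ (autFun δ (autFun φ v)) := fun v hv => by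
      rw [hδ', autFun_mul _ _ hv, autFun_mul _ _ (autFun_mem φ hv)]
    have h1 : ∀ l ∈ lineS S, autFun δ' l = l⁻¹ := fun l hl => by
      rw [hδ'a l hl.1.1, hδl _ (autFun_S_line hl), autFun_inv_map φ⁻¹ (autFun_mem φ hl.1.1),
        autFun_inv_left φ hl.1.1]
    have h2 : ∀ v ∈ ctrS S, v⁻¹ * autFun δ' v ∈ lineS S := fun v hv => by
      rw [hδ'a v hv.1]
      have h4 : v⁻¹ = autFun φ⁻¹ (autFun φ v)⁻¹ := by
        rw [autFun_inv_map φ⁻¹ (autFun_mem φ hv.1), autFun_inv_left φ hv.1]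
      rw [h4, ← autFun_map_mul φ⁻¹ (S.inv_mem (autFun_mem φ hv.1))
        (autFun_mem δ (autFun_mem φ hv.1))]
      exact autFun_S_line (hδmov _ (autFun_S_ctr hv))
    have h3 := H.delta_unique hF hδ
      (Subgroup.mul_mem _ (Subgroup.mul_mem _ (Subgroup.inv_mem _ hφ) hδ) hφ)
      hδl h1 hδmov h2 hexp hz
    rw [hzδ, hδ'a z hz.1] at h3
    have h5 := congrArg (autFun φ) h3
    rw [autFun_inv_right φ (autFun_mem δ (autFun_mem φ hz.1))] at h5
    exact h5.symm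
  -- the fixed points of `δ` in `Z(S)` form a normal subgroup
  let Y : Subgroup Ω :=
    { carrier := {z | z ∈ ctrS S ∧ autFun δ z = z}
      one_mem' := ⟨Subgroup.one_mem _, (isMor_autFun le_rfl hδ).map_one⟩
      mul_mem' := fun {a b} ha hb => ⟨Subgroup.mul_mem _ ha.1 hb.1, by
        rw [autFun_map_mul δ ha.1.1 hb.1.1, ha.2, hb.2]⟩
      inv_mem' := fun {a} ha => ⟨Subgroup.inv_mem _ ha.1, by
        rw [autFun_inv_map δ ha.1.1, ha.2]⟩ }
  have hY : Y = ⊥ := by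
    refine hbot _ (isNormal_of_invariant hS hF fun P hP => ?_)
    rcases hP with rfl | hP
    · exact ⟨fun z hz => hz.1.1, fun φ hφ z hz => ⟨autFun_S_ctr hz.1, hcomm φ hφ z hz.1 hz.2⟩⟩
    refine ⟨fun z hz => ctr_le_centric hP.1 hz.1, fun β hβ z hz => ?_⟩
    by_cases hPab : ∀ u ∈ P, ∀ v ∈ P, u * v = v * u
    swap
    · push Not at hPab
      obtain ⟨φ, hφ, hφe⟩ := H.map_ctr hF (isMor_autFun hP.1.1 hβ) hP.1 hPab
      rw [hφe z hz.1]
      exact ⟨autFun_S_ctr hz.1, hcomm φ hφ z hz.1 hz.2⟩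
    obtain ⟨C, HC, hPC⟩ := hsel P hP hPab
    obtain ⟨-, hZP, -, -⟩ := HC.abelian_essential_structure hP hPab hPC
    -- `Y` lies in every translate of `Z(S)`
    have hall : ∀ γ ∈ F.autGroup P, ∀ v ∈ ctrS S, autFun δ v = v → autFun γ⁻¹ v ∈ ctrS S := by
      intro γ hγ v hv hvδ
      by_cases hm : ∃ u ∈ ctrS S, autFun γ u ∉ ctrS S
      · obtain ⟨-, -, -, -, δ', hδ', hδ'l, hδ'Z0, hdec'⟩ :=
          HC.abelian_essential hF hP hPab hPC hγ hm
        have h1 := hshift δ' (fun y => autFun γ⁻¹ y ∈ ctrS S) hδ'l hδ'Z0 hdec'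
        exact (h1 v hv).2 ((H.delta_unique hF hδ' hδ hδ'l hδl (fun u hu => (h1 u hu).1) hδmov hexp
          hv).trans hvδ)
      · push Not at hm
        -- `γ` preserves the finite group `Z(S)`, hence so does its inverse
        have hrest := (isMor_autFun hP.1.1 hγ).restrict hZP
        obtain ⟨u, hu, huv⟩ := hrest.mem_img.1 ((hrest.img_eq_self hm).ge hv)
        rw [← huv, autFun_inv_left γ (hZP hu)]
        exact hu
    have hbz : autFun β z ∈ ctrS S := by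
      simpa using hall β⁻¹ (Subgroup.inv_mem _ hβ) z hz.1 hz.2
    refine ⟨hbz, ?_⟩
    obtain ⟨α', hα', hmov'⟩ := HC.exists_moving hF hP hPab hPC
    obtain ⟨-, -, -, -, δ', hδ', hδ'l, hδ'Z0, hdec'⟩ :=
      HC.abelian_essential hF hP hPab hPC hα' hmov'
    have h1 := hshift δ' (fun y => autFun α'⁻¹ y ∈ ctrS S) hδ'l hδ'Z0 hdec'
    have h2 : autFun α'⁻¹ (autFun β z) ∈ ctrS S := by
      have := hall (β⁻¹ * α') (Subgroup.mul_mem _ (Subgroup.inv_mem _ hβ) hα') z hz.1 hz.2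
      rwa [mul_inv_rev, inv_inv, autFun_mul _ _ (hZP hz.1)] at this
    rw [← H.delta_unique hF hδ' hδ hδ'l hδl (fun u hu => (h1 u hu).1) hδmov hexp hbz]
    exact hδ'Z0 _ hbz h2
  have hZl : ctrS S = lineS S := by
    refine le_antisymm (fun z hz => ?_) inf_le_left
    obtain ⟨y, hy, hyα, l, hl, rfl⟩ := hdec z hz
    have : y ∈ Y := ⟨hy, hδZ0 y hy hyα⟩
    rw [hY, Subgroup.mem_bot] at this
    rwa [this, one_mul]
  exact ⟨by rw [hZl, hline, Nat.card_zpowers, hl₀o], hZl.le.trans inf_le_right, E, hE, hab⟩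

theorem Setup.main (hF : F.IsSaturated p) (hp2 : p ≠ 2) (hcore : F.core = ⊥)
    (hAe : ¬ F.IsEssential p A) :
    (∃ x ∈ S, x ∉ A ∧ F.IsEssential p (ctrS S ⊔ Subgroup.zpowers x)) ∧
      Nat.card ↥(ctrS S) = p ∧ ctrS S ≤ ⁅S, S⁆ := by
  obtain ⟨hc, hle, E, hE, hab⟩ := H.main_aux hF hp2 hcore fun P hP _ =>
    ⟨A, H, H.not_le_of_essential hP hAe⟩
  obtain ⟨⟨x, hx, hxA⟩, -, -, hgen⟩ :=
    H.abelian_essential_structure hE hab (H.not_le_of_essential hE hAe)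
  exact ⟨⟨x, hE.1.1 hx, hxA, hgen x hx hxA ▸ hE⟩, hc, hle⟩

theorem Setup.maximalClass (hZ : Nat.card ↥(ctrS S) = p) {n : ℕ} (hn : Nat.card S = p ^ n)
    (h3 : 3 ≤ n) : Subgroup.lowerCentralSeries S (n - 2) ≠ ⊥ := by
  obtain ⟨x, hx, hxA⟩ := H.exists_not_mem (Q := S) H.nonab
  have hψ : ∀ a ∈ A, a * x * a⁻¹ * x⁻¹ ∈ A := fun a ha => by
    rw [mul_assoc a x, mul_assoc a]
    exact A.mul_mem ha (H.conj_mem hx (A.inv_mem ha))
  let φ : A →* A :=
    { toFun := fun a => ⟨(a : Ω) * x * (a : Ω)⁻¹ * x⁻¹, hψ a a.2⟩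
      map_one' := Subtype.ext (by simp)
      map_mul' := fun a b => Subtype.ext <| by
        show (a * b : Ω) * x * (a * b : Ω)⁻¹ * x⁻¹
          = (a : Ω) * x * (a : Ω)⁻¹ * x⁻¹ * ((b : Ω) * x * (b : Ω)⁻¹ * x⁻¹)
        have h1 := H.comm _ (hψ b b.2) (a : Ω) a.2
        have h2 := H.comm (a : Ω) a.2 (b : Ω) b.2
        have h4 := H.comm _ (hψ a a.2) _ (hψ b b.2)
        rw [h4]
        calc (a * b : Ω) * x * (a * b : Ω)⁻¹ * x⁻¹
            = (b * a : Ω) * x * (b * a : Ω)⁻¹ * x⁻¹ := by rw [h2]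
          _ = (b : Ω) * ((a : Ω) * x * (a : Ω)⁻¹ * x⁻¹) * (x * (b : Ω)⁻¹ * x⁻¹) := by group
          _ = ((a : Ω) * x * (a : Ω)⁻¹ * x⁻¹ * (b : Ω)) * (x * (b : Ω)⁻¹ * x⁻¹) := by
            rw [H.comm _ (hψ a a.2) (b : Ω) b.2]
          _ = (a : Ω) * x * (a : Ω)⁻¹ * x⁻¹ * ((b : Ω) * x * (b : Ω)⁻¹ * x⁻¹) := by group
          _ = _ := h4 }
  let M : ℕ → Subgroup A := fun i => Nat.rec ⊤ (fun _ N => N.map φ) i
  have hsub : ∀ i, (M i).map A.subtype ≤ Subgroup.lowerCentralSeries S i := by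
    intro i
    induction i with
    | zero =>
      rw [Subgroup.lowerCentralSeries_zero]
      exact (Subgroup.map_subtype_le _).trans H.le
    | succ i ih =>
      rintro _ ⟨_, ⟨a, ha, rfl⟩, rfl⟩
      rw [Subgroup.lowerCentralSeries_succ]
      have := Subgroup.commutator_mem_commutator (ih ⟨a, ha, rfl⟩) hx
      rwa [commutatorElement_def] at this
  have : Finite A := finite_of_le H.le
  have : Finite ↥(ctrS S) := finite_of_le inf_le_left
  have hker : Nat.card φ.ker ≤ p := by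
    rw [← hZ]
    refine Nat.card_le_card_of_injective (fun a => (⟨((a : A) : Ω), H.mem_ctr (a : A).2 hx hxA ?_⟩ :
      ↥(ctrS S))) fun a b h => Subtype.ext (Subtype.ext (congrArg (fun z : ↥(ctrS S) => (z : Ω)) h))
    have h1 : ((a : A) : Ω) * x * ((a : A) : Ω)⁻¹ * x⁻¹ = 1 := congrArg Subtype.val a.2
    rwa [mul_inv_eq_one, mul_inv_eq_iff_eq_mul] at h1
  have hstep : ∀ i, Nat.card ↥(M i) ≤ p * Nat.card ↥(M (i + 1)) := by
    intro i
    show _ ≤ p * Nat.card ((M i).map φ)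
    rw [← Subgroup.relIndex_ker (f := φ) (M i), ← Subgroup.inf_relIndex_right]
    have h1 := Subgroup.relIndex_mul_relIndex (⊥ : Subgroup A) (φ.ker ⊓ M i) (M i) bot_le inf_le_right
    rw [Subgroup.relIndex_bot_left, Subgroup.relIndex_bot_left] at h1
    rw [← h1]
    exact Nat.mul_le_mul_right _ ((Subgroup.card_le_of_le inf_le_left).trans hker)
  have hcardA : Nat.card A * p = p ^ n := by
    rw [← hn, ← H.index, ← Nat.card_congr (Subgroup.subgroupOfEquivOfLe H.le).toEquiv,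
      Subgroup.card_mul_index]
  have hall : ∀ i, Nat.card A ≤ p ^ i * Nat.card ↥(M i) := by
    intro i
    induction i with
    | zero =>
      rw [pow_zero, one_mul]
      exact le_of_eq Subgroup.card_top.symm
    | succ i ih =>
      refine ih.trans ?_
      rw [pow_succ, mul_assoc]
      exact Nat.mul_le_mul_left _ (hstep i)
  intro hbot
  have h1 := hsub (n - 2)
  rw [hbot, le_bot_iff, Subgroup.map_eq_bot_iff_of_injective _ A.subtype_injective] at h1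
  have h2 := hall (n - 2)
  rw [h1, Subgroup.card_bot, mul_one] at h2
  have h4 : p ^ n ≤ p ^ (n - 1) := by
    rw [← hcardA, show n - 1 = (n - 2) + 1 by omega, pow_succ]
    exact Nat.mul_le_mul_right p h2
  have := (Nat.pow_le_pow_iff_right hp.1.one_lt).1 h4
  omega

end CfsgLib.Fusion.AbelianIndexP
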