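import Mathlib
import Cfsg.Agent.Lib.Fusion.AbelianIndexP
import Cfsg.Agent.Lib.Fusion.GoodFocal
import Cfsg.Agent.Lib.Fusion.Hyperfocal

/-!
# Fusion systems on groups with centre of index `p ^ 2`
-/

set_option autoImplicit false

namespace CfsgLib.Fusion.AbelianIndexP

open Cfsg Cfsg.FusionSystem CfsgLib.Fusion
open scoped commutatorElement Pointwise

universe u

variable {p : ℕ} [hp : Fact p.Prime] {Ω : Type u} [Group Ω] {S : Subgroup Ω} [Finite S]
  {F : FusionSystem S}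

/-- A nonabelian `p`-group whose centre has index `p ^ 2`. -/
structure SmallIdx (p : ℕ) (S : Subgroup Ω) : Prop where
  pgroup : IsPGroup p S
  nonab : ∃ x ∈ S, ∃ y ∈ S, x * y ≠ y * x
  index : ((ctrS S).subgroupOf S).index = p ^ 2

theorem ctrS_subgroupOf : (ctrS S).subgroupOf S = Subgroup.center S := by
  ext z
  rw [Subgroup.mem_subgroupOf, mem_ctrS, Subgroup.mem_center_iff]
  exact ⟨fun h g => Subtype.ext (h.2 g g.2),
    fun h => ⟨z.2, fun s hs => congrArg Subtype.val (h ⟨s, hs⟩)⟩⟩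

variable (K : SmallIdx p S)
include K

theorem SmallIdx.card_eq : Nat.card S = p ^ 2 * Nat.card ↥(ctrS S) := by
  rw [← ((ctrS S).subgroupOf S).index_mul_card, K.index,
    Nat.card_congr (Subgroup.subgroupOfEquivOfLe (inf_le_left : ctrS S ≤ S)).toEquiv]

/-- Every `x` outside the centre lies in the abelian subgroup `Z(S)⟨x⟩` of index `p`. -/
theorem SmallIdx.setup {x : Ω} (hx : x ∈ S) (hxZ : x ∉ ctrS S) :
    Setup p S (ctrS S ⊔ Subgroup.zpowers x) := by
  set A := ctrS S ⊔ Subgroup.zpowers x with hAdef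
  have hle : A ≤ S := sup_le inf_le_left (Subgroup.zpowers_le.2 hx)
  have hxc : x ∈ Subgroup.centralizer (A : Set Ω) := by
    have : A ≤ Subgroup.centralizer ({x} : Set Ω) :=
      sup_le (fun z hz => Subgroup.mem_centralizer_singleton_iff.2 ((mem_ctrS.1 hz).2 x hx).symm)
        (Subgroup.zpowers_le.2 (Subgroup.mem_centralizer_singleton_iff.2 rfl))
    exact Subgroup.mem_centralizer_iff.2 fun a ha =>
      Subgroup.mem_centralizer_singleton_iff.1 (this ha)
  have hAc : A ≤ Subgroup.centralizer (A : Set Ω) :=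
    sup_le (fun z hz => Subgroup.mem_centralizer_iff.2 fun a ha => (mem_ctrS.1 hz).2 a (hle ha))
      (Subgroup.zpowers_le.2 hxc)
  have hcomm : ∀ a ∈ A, ∀ b ∈ A, a * b = b * a := fun a ha b hb =>
    Subgroup.mem_centralizer_iff.1 (hAc hb) a ha
  refine ⟨K.pgroup, hle, hcomm, ?_, K.nonab⟩
  have h1 := Subgroup.relIndex_mul_index
    (show (ctrS S).subgroupOf S ≤ A.subgroupOf S from fun y hy => (le_sup_left : ctrS S ≤ A) hy)
  rw [K.index] at h1
  obtain ⟨k, hk, hk'⟩ := (Nat.dvd_prime_pow hp.1).1 (Dvd.intro_left _ h1)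
  rw [hk']
  interval_cases k
  · exfalso
    rw [pow_zero, Subgroup.index_eq_one, Subgroup.subgroupOf_eq_top] at hk'
    obtain ⟨u, hu, v, hv, hne⟩ := K.nonab
    exact hne (hcomm u (hk' hu) v (hk' hv))
  · exact pow_one p
  · exfalso
    rw [hk'] at h1
    have h2 : ((ctrS S).subgroupOf S).relIndex (A.subgroupOf S) = 1 :=
      (mul_eq_right₀ (pow_ne_zero 2 hp.1.ne_zero)).1 h1
    exact hxZ (Subgroup.relIndex_eq_one.1 h2
      (show (⟨x, hx⟩ : S) ∈ A.subgroupOf S from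
        (le_sup_right : Subgroup.zpowers x ≤ A) (Subgroup.mem_zpowers x)))

omit K in
/-- Comparable abelian subgroups of index `p` coincide. -/
theorem Setup.eq_of_le {A B : Subgroup Ω} (hA : Setup p S A) (hB : Setup p S B) (h : A ≤ B) :
    A = B := by
  refine le_antisymm h fun b hb => ?_
  have h1 := Subgroup.relIndex_mul_index
    (show A.subgroupOf S ≤ B.subgroupOf S from fun y hy => h hy)
  rw [hA.index, hB.index] at h1
  exact Subgroup.relIndex_eq_one.1 ((mul_eq_right₀ hp.1.ne_zero).1 h1)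
    (show (⟨b, hB.le hb⟩ : S) ∈ B.subgroupOf S from hb)

/-- An abelian subgroup of index `p` has a companion meeting it in the centre. -/
theorem SmallIdx.exists_other {A : Subgroup Ω} (hA : Setup p S A) :
    ∃ B, Setup p S B ∧ ¬ A ≤ B := by
  obtain ⟨y, hy, hyA⟩ : ∃ y ∈ S, y ∉ A := by
    obtain ⟨u, hu, v, hv, hne⟩ := K.nonab
    by_contra h
    push Not at h
    exact hne (hA.comm u (h u hu) v (h v hv))
  have hB := K.setup hy fun h => hyA (hA.ctr_le h)
  exact ⟨_, hB, fun h => hyA (hA.eq_of_le hB h ▸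
    (le_sup_right : Subgroup.zpowers y ≤ ctrS S ⊔ _) (Subgroup.mem_zpowers y))⟩

theorem SmallIdx.commutator_le_ctr : ⁅S, S⁆ ≤ ctrS S := by
  intro c hc
  obtain ⟨u, hu, v, hv, hne⟩ := K.nonab
  have hB := K.setup hu fun h => hne ((mem_ctrS.1 h).2 v hv).symm
  obtain ⟨C, hC, hBC⟩ := K.exists_other hB
  obtain ⟨x, hxB, hxC⟩ := SetLike.not_le_iff_exists.1 hBC
  exact hC.mem_ctr (hC.commutator_le hc) (hB.le hxB) hxC
    (hB.comm c (hB.commutator_le hc) x hxB)

theorem SmallIdx.line_eq : lineS S = ⁅S, S⁆ := inf_eq_right.2 K.commutator_le_ctr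

/-- The essential subgroups are abelian of index `p`. -/
theorem SmallIdx.setup_essential (hF : F.IsSaturated p) {E : Subgroup Ω}
    (hE : F.IsEssential p E) : Setup p S E := by
  have hS := K.pgroup
  have hlt := essential_lt hS hF hE
  have hZE : ctrS S ≤ E := ctr_le_centric hE.1
  obtain ⟨x, hx, hxZ⟩ : ∃ x ∈ E, x ∉ ctrS S := by
    by_contra h
    push Not at h
    exact hlt.not_ge fun s hs => centric_centralizer_le hE.1
      (mem_centralizerIn.mpr ⟨hs, fun e he => by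
        rw [cj_apply, (mem_ctrS.1 (h e he)).2 s hs, mul_inv_cancel_right]⟩)
  have hA := K.setup (hE.1.1 hx) hxZ
  have hAE : ctrS S ⊔ Subgroup.zpowers x ≤ E := sup_le hZE (Subgroup.zpowers_le.2 hx)
  have h1 := Subgroup.relIndex_mul_index (show (ctrS S ⊔ Subgroup.zpowers x).subgroupOf S ≤
    E.subgroupOf S from fun y hy => hAE hy)
  rw [hA.index] at h1
  have hEA : E = ctrS S ⊔ Subgroup.zpowers x := by
    rcases (Nat.dvd_prime hp.1).1 (Dvd.intro_left _ h1) with h2 | h2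
    · rw [Subgroup.index_eq_one, Subgroup.subgroupOf_eq_top] at h2
      exact absurd h2 hlt.not_ge
    · refine le_antisymm (fun e he => ?_) hAE
      rw [h2] at h1
      exact Subgroup.relIndex_eq_one.1 ((mul_eq_right₀ hp.1.ne_zero).1 h1)
        (show (⟨e, hE.1.1 he⟩ : S) ∈ E.subgroupOf S from he)
  rw [hEA]
  exact hA

omit K in
/-- An automorphism of `E` preserving `Z(S)` has inverse preserving it. -/
theorem ctr_stable_inv {E : Subgroup Ω} (hZE : ctrS S ≤ E) (hES : E ≤ S) {α : MulAut E}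
    (hα : α ∈ F.autGroup E) (h : ∀ z ∈ ctrS S, autFun α z ∈ ctrS S) :
    ∀ z ∈ ctrS S, autFun α⁻¹ z ∈ ctrS S := by
  intro z hz
  have hrest := (isMor_autFun hES hα).restrict hZE
  obtain ⟨u, hu, huv⟩ := hrest.mem_img.1 ((hrest.img_eq_self h).ge hz)
  rw [← huv, autFun_inv_left α (hZE hu)]
  exact hu

section Essential

variable (hF : F.IsSaturated p) {E : Subgroup Ω} (hE : F.IsEssential p E)
include hF hE

theorem SmallIdx.exists_moving :
    ∃ α ∈ F.autGroup E, ∃ z ∈ ctrS S, autFun α z ∉ ctrS S := by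
  have hA := K.setup_essential hF hE
  obtain ⟨B, hB, hEB⟩ := K.exists_other hA
  exact hB.exists_moving hF hE hA.comm hEB

/-- The basic facts about an automorphism moving the centre. -/
theorem SmallIdx.moving {α : MulAut E} (hα : α ∈ F.autGroup E)
    (hmov : ∃ z ∈ ctrS S, autFun α z ∉ ctrS S) :
    ∃ l₀ ∈ lineS S, orderOf l₀ = p ∧ lineS S = Subgroup.zpowers l₀ ∧
      autFun α l₀ ∉ ctrS S ∧ autFun α⁻¹ l₀ ∉ ctrS S ∧
      ∀ z ∈ ctrS S, ∃ y ∈ ctrS S, autFun α⁻¹ y ∈ ctrS S ∧ ∃ l ∈ lineS S, z = y * l := by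
  have hA := K.setup_essential hF hE
  obtain ⟨B, hB, hEB⟩ := K.exists_other hA
  have hES := hE.1.1
  have hZE : ctrS S ≤ E := hA.ctr_le
  -- the inverse moves the line out of the centre
  have key : ∀ (β : MulAut E), β ∈ F.autGroup E → (∃ z ∈ ctrS S, autFun β z ∉ ctrS S) →
      ¬ ∀ l ∈ lineS S, autFun β⁻¹ l ∈ ctrS S := by
    intro β hβ hm hall
    obtain ⟨l₀, -, -, -, δ, -, -, -, hdec⟩ := hB.abelian_essential hF hE hA.comm hEB hβ hm
    obtain ⟨z, hz, hzZ⟩ := hm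
    have hinv : ∀ z ∈ ctrS S, autFun β⁻¹ z ∈ ctrS S := fun z hz => by
      obtain ⟨y, hy, hyβ, l, hl, rfl⟩ := hdec z hz
      rw [autFun_map_mul β⁻¹ (hZE hy) (hZE hl.1)]
      exact Subgroup.mul_mem _ hyβ (hall l hl)
    have := ctr_stable_inv hZE hES (Subgroup.inv_mem _ hβ) hinv z hz
    rw [inv_inv] at this
    exact hzZ this
  obtain ⟨l₀, hl₀, hl₀o, hline, δ, -, -, -, hdec⟩ :=
    hB.abelian_essential hF hE hA.comm hEB hα hmov
  have hgen : ∀ (β : MulAut E), β ∈ F.autGroup E → autFun β l₀ ∈ ctrS S →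
      ∀ l ∈ lineS S, autFun β l ∈ ctrS S := fun β hβ h l hl => by
    obtain ⟨k, rfl⟩ := Subgroup.mem_zpowers_iff.1 (hline.le hl)
    rw [(isMor_autFun hES hβ).map_zpow (hZE hl₀.1)]
    exact Subgroup.zpow_mem _ h k
  have hmov' : ∃ z ∈ ctrS S, autFun α⁻¹ z ∉ ctrS S := by
    by_contra h
    push Not at h
    obtain ⟨z, hz, hzZ⟩ := hmov
    have := ctr_stable_inv hZE hES (Subgroup.inv_mem _ hα) h z hz
    rw [inv_inv] at this
    exact hzZ this
  refine ⟨l₀, hl₀, hl₀o, hline, fun h => ?_, fun h => ?_, hdec⟩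
  · refine key α⁻¹ (Subgroup.inv_mem _ hα) hmov' fun l hl => ?_
    rw [inv_inv]
    exact hgen α hα h l hl
  · exact key α hα hmov (hgen _ (Subgroup.inv_mem _ hα) h)

/-- `E = Z(S) ⟨α l₀⟩`, so the powers `e ^ p` come from the centre. -/
theorem SmallIdx.pow_mem {e : Ω} (he : e ∈ E) : ∃ z ∈ ctrS S, e ^ p = z ^ p := by
  have hA := K.setup_essential hF hE
  obtain ⟨B, hB, hEB⟩ := K.exists_other hA
  have hES := hE.1.1
  obtain ⟨α, hα, hmov⟩ := K.exists_moving hF hE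
  obtain ⟨l₀, hl₀, hl₀o, -, hm, -, -⟩ := K.moving hF hE hα hmov
  obtain ⟨-, hZE, hEA, -⟩ := hB.abelian_essential_structure hE hA.comm hEB
  have hmE : autFun α l₀ ∈ E := autFun_mem α (hZE hl₀.1)
  have hmB : autFun α l₀ ∉ B := fun h => hm (hEA _ hmE h)
  obtain ⟨b, hb, k, rfl⟩ := hB.decomp (hES hmE) hmB (hES he)
  have hbE : b ∈ E := (Subgroup.mul_mem_cancel_right E (E.zpow_mem hmE k)).1 he
  refine ⟨b, hEA b hbE hb, ?_⟩
  have h1 : autFun α l₀ ^ p = 1 := by
    rw [← (isMor_autFun hES hα).map_pow (hZE hl₀.1), ← hl₀o, pow_orderOf_eq_one,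
      (isMor_autFun hES hα).map_one]
  rw [Commute.mul_pow (show Commute b _ from hA.comm b hbE _ (E.zpow_mem hmE k)),
    ← zpow_natCast (autFun α l₀ ^ k), ← zpow_mul, mul_comm, zpow_mul, zpow_natCast, h1, one_zpow,
    mul_one]

end Essential

theorem SmallIdx.exists_essential (hF : F.IsSaturated p) (hcore : F.core = ⊥) :
    ∃ E, F.IsEssential p E := by
  by_contra h
  push Not at h
  have hne : S ≠ ⊥ := fun e => by
    obtain ⟨u, hu, v, hv, hne⟩ := K.nonab
    rw [e, Subgroup.mem_bot] at hu hv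
    exact hne (by rw [hu, hv])
  refine ctrS_ne_bot K.pgroup hne (le_bot_iff.1 (hcore ▸
    le_core (isNormal_of_invariant K.pgroup hF fun P hP => ?_)))
  rcases hP with rfl | hP
  · exact ⟨inf_le_left, fun α _ z hz => autFun_S_ctr hz⟩
  · exact absurd hP (h P)

/-- With trivial core the centre has exponent `p`, and so do the essential subgroups. -/
theorem SmallIdx.pow_eq_one (hF : F.IsSaturated p) (hcore : F.core = ⊥) :
    (∀ z ∈ ctrS S, z ^ p = 1) ∧ ∀ E, F.IsEssential p E → ∀ e ∈ E, e ^ p = 1 := by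
  set Pw := Subgroup.closure ((fun z : Ω => z ^ p) '' (ctrS S : Set Ω)) with hPw
  have hle : Pw ≤ ctrS S := (Subgroup.closure_le _).2 fun _ ⟨z, hz, e⟩ => e ▸ Subgroup.pow_mem _ hz p
  have hn : Pw = ⊥ := by
    refine le_bot_iff.1 (hcore ▸ le_core (isNormal_of_invariant K.pgroup hF fun P hP => ?_))
    have hPS : P ≤ S := hP.elim (fun e => e.le) fun h => h.1.1
    have hZP : ctrS S ≤ P := hP.elim (fun e => e ▸ inf_le_left) fun h => ctr_le_centric h.1
    refine ⟨hle.trans hZP, fun α hα x hx => ?_⟩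
    have hm := isMor_autFun hPS hα
    induction hx using Subgroup.closure_induction with
    | mem x hx =>
      obtain ⟨z, hz, rfl⟩ := hx
      rw [hm.map_pow (hZP hz)]
      rcases hP with rfl | hP
      · exact Subgroup.subset_closure ⟨_, autFun_S_ctr hz, rfl⟩
      · obtain ⟨w, hw, e⟩ := K.pow_mem hF hP (autFun_mem α (hZP hz))
        rw [e]
        exact Subgroup.subset_closure ⟨w, hw, rfl⟩
    | one =>
      rw [hm.map_one]
      exact Pw.one_mem
    | mul a b ha hb iha ihb =>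
      rw [hm.map_mul (hZP (hle ha)) (hZP (hle hb))]
      exact Pw.mul_mem iha ihb
    | inv a ha iha =>
      rw [hm.map_inv (hZP (hle ha))]
      exact Pw.inv_mem iha
  have hz : ∀ z ∈ ctrS S, z ^ p = 1 := fun z hz =>
    Subgroup.mem_bot.1 (hn ▸ Subgroup.subset_closure ⟨z, hz, rfl⟩)
  refine ⟨hz, fun E hE e he => ?_⟩
  obtain ⟨w, hw, h⟩ := K.pow_mem hF hE he
  rw [h, hz w hw]

/-- Some element of order `p` lies outside a given essential subgroup. -/
theorem SmallIdx.exists_outside (hF : F.IsSaturated p) (hcore : F.core = ⊥) {E : Subgroup Ω}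
    (hE : F.IsEssential p E) : ∃ g ∈ S, g ∉ E ∧ g ^ p = 1 := by
  obtain ⟨-, hexp⟩ := K.pow_eq_one hF hcore
  by_contra h
  push Not at h
  have hmem : ∀ g ∈ S, g ^ p = 1 → g ∈ E := fun g hg hgp => by
    by_contra hgE
    exact h g hg hgE hgp
  have hA := K.setup_essential hF hE
  have hEbot : E = ⊥ := by
    refine le_bot_iff.1 (hcore ▸ le_core (isNormal_of_invariant K.pgroup hF fun P hP => ?_))
    rcases hP with rfl | hP
    · refine ⟨hE.1.1, fun α hα x hx => hmem _ (autFun_mem α (hE.1.1 hx)) ?_⟩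
      have hm := isMor_autFun le_rfl hα
      rw [← hm.map_pow (hE.1.1 hx), hexp E hE x hx, hm.map_one]
    · have hEP : E = P :=
        ((K.setup_essential hF hP).eq_of_le hA fun x hx =>
          hmem x (hP.1.1 hx) (hexp P hP x hx)).symm
      subst hEP
      exact ⟨le_rfl, fun α _ x hx => autFun_mem α hx⟩
  obtain ⟨u, hu, v, hv, hne⟩ := K.nonab
  refine ctrS_ne_bot K.pgroup ?_ (le_bot_iff.1 (hEbot ▸ hA.ctr_le))
  intro e
  rw [e, Subgroup.mem_bot] at hu hv
  exact hne (by rw [hu, hv])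

/-! ### The prime two -/

section Two

variable (hF : F.IsSaturated p) (h2 : p = 2) (hexp : ∀ E, F.IsEssential p E → ∀ e ∈ E, e ^ p = 1)
  {E : Subgroup Ω} (hE : F.IsEssential p E)
include hF h2 hexp hE

/-- The transvection induced by `S` on `E`. -/
theorem SmallIdx.tau {g : Ω} (hg : g ∈ S) (hgE : g ∉ E) {l₀ : Ω} (hl₀ : l₀ ∈ lineS S)
    (hl₀o : orderOf l₀ = p) (hline : lineS S = Subgroup.zpowers l₀) :
    ∃ τ ∈ F.autGroup E, τ ∈ autInducedBy S E ∧ (∀ z ∈ ctrS S, autFun τ z = z) ∧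
      ∀ e ∈ E, e ∉ ctrS S → autFun τ e = e * l₀ := by
  have hA := K.setup_essential hF hE
  have hgn : g ∈ Subgroup.normalizer (E : Set Ω) := by
    rw [Subgroup.mem_normalizer_iff]
    refine fun x => ⟨fun hx => hA.conj_mem hg hx, fun hx => ?_⟩
    have := hA.conj_mem (S.inv_mem hg) hx
    simpa [mul_assoc] using this
  obtain ⟨τ, hτ, hτe⟩ := exists_autInducedBy (P := E) hg hgn
  refine ⟨τ, autInducedBy_le F hE.1.1 hτ, hτ, fun z hz => ?_, fun e he heZ => ?_⟩
  · rw [hτe z (hA.ctr_le hz), cj_apply, (mem_ctrS.1 hz).2 g hg, mul_inv_cancel_right]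
  rw [hτe e he]
  set c := e⁻¹ * cj g e with hc
  have hcl : c ∈ lineS S := by
    rw [K.line_eq]
    have := Subgroup.commutator_mem_commutator (S.inv_mem (hE.1.1 he)) hg
    rwa [show ⁅e⁻¹, g⁆ = e⁻¹ * cj g e by simp [commutatorElement_def, cj, mul_assoc]] at this
  have hc1 : c ≠ 1 := fun h => heZ (hA.mem_ctr he hg hgE (by
    have h1 : cj g e = e := (inv_mul_eq_one.1 h).symm
    exact (mul_inv_eq_iff_eq_mul.1 h1).symm))
  obtain ⟨k, hk⟩ := Subgroup.mem_zpowers_iff.1 (hline.le hcl)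
  have hl2 : l₀ * l₀ = 1 := by rw [← sq, ← h2, ← hl₀o, pow_orderOf_eq_one]
  have : c = l₀ := by
    rcases Int.even_or_odd k with ⟨i, hi⟩ | ⟨i, hi⟩
    · exact absurd (by rw [← hk, hi, ← two_mul, zpow_mul, zpow_two, hl2, one_zpow]) hc1
    · rw [← hk, hi, zpow_add_one, zpow_mul, zpow_two, hl2, one_zpow, one_mul]
  rw [← this, hc, mul_inv_cancel_left]

/-- The product of two elements of `E` outside the centre is central. -/
theorem SmallIdx.mul_mem_ctr {a b : Ω} (ha : a ∈ E) (haZ : a ∉ ctrS S) (hb : b ∈ E)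
    (hbZ : b ∉ ctrS S) : a * b ∈ ctrS S := by
  have hA := K.setup_essential hF hE
  obtain ⟨B, hB, hEB⟩ := K.exists_other hA
  obtain ⟨-, -, hEA, -⟩ := hB.abelian_essential_structure hE hA.comm hEB
  obtain ⟨c, hc, k, rfl⟩ := hB.decomp (hE.1.1 ha) (fun h => haZ (hEA a ha h)) (hE.1.1 hb)
  have hcE : c ∈ E := (Subgroup.mul_mem_cancel_right E (E.zpow_mem ha k)).1 hb
  have hcZ := hEA c hcE hc
  have haa : a * a = 1 := by rw [← sq, ← h2]; exact hexp E hE a ha
  rcases Int.even_or_odd k with ⟨i, hi⟩ | ⟨i, hi⟩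
  · rw [hi, ← two_mul, zpow_mul, zpow_two, haa, one_zpow, mul_one] at hbZ
    exact absurd hcZ hbZ
  · rw [hi, zpow_add_one, zpow_mul, zpow_two, haa, one_zpow, one_mul,
      hA.comm c hcE a ha, ← mul_assoc, haa, one_mul]
    exact hcZ

/-- Of two translates of the centre, one is the other or its image under the transvection. -/
theorem SmallIdx.dicho {α β : MulAut E} (hα : α ∈ F.autGroup E) (hβ : β ∈ F.autGroup E)
    (hαm : ∃ z ∈ ctrS S, autFun α z ∉ ctrS S) (hβm : ∃ z ∈ ctrS S, autFun β z ∉ ctrS S)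
    {τ : MulAut E} {l₀ : Ω} (hl₀ : l₀ ∈ lineS S) (hline : lineS S = Subgroup.zpowers l₀)
    (hτ : ∀ e ∈ E, e ∉ ctrS S → autFun τ e = e * l₀) :
    autFun (β⁻¹ * α) l₀ ∈ ctrS S ∨ autFun (β⁻¹ * (τ * α)) l₀ ∈ ctrS S := by
  have hA := K.setup_essential hF hE
  have hZE := hA.ctr_le
  obtain ⟨a, -, -, haline, haα, -, -⟩ := K.moving hF hE hα hαm
  obtain ⟨b, -, -, hbline, -, hbβ, -⟩ := K.moving hF hE hβ hβm
  have hnot : ∀ (γ : MulAut E), γ ∈ F.autGroup E → ∀ c, lineS S = Subgroup.zpowers c →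
      autFun γ c ∉ ctrS S → autFun γ l₀ ∉ ctrS S := fun γ hγ c hc hcγ h => hcγ (by
    obtain ⟨k, hk⟩ := Subgroup.mem_zpowers_iff.1
      (hline.le (hc.ge (Subgroup.mem_zpowers c) : c ∈ lineS S))
    rw [← hk, (isMor_autFun hE.1.1 hγ).map_zpow (hZE hl₀.1)]
    exact Subgroup.zpow_mem _ h k)
  have h1 := hnot α hα a haline haα
  have h3 := hnot β⁻¹ (Subgroup.inv_mem _ hβ) b hbline hbβ
  have hlE := hZE hl₀.1
  rw [autFun_mul _ _ hlE, autFun_mul _ _ hlE, autFun_mul _ _ hlE, hτ _ (autFun_mem α hlE) h1,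
    autFun_map_mul β⁻¹ (autFun_mem α hlE) hlE]
  by_cases h4 : autFun β⁻¹ (autFun α l₀) ∈ ctrS S
  · exact Or.inl h4
  · exact Or.inr (K.mul_mem_ctr hF h2 hexp hE (autFun_mem _ (autFun_mem α hlE)) h4
      (autFun_mem _ hlE) h3)

/-- An element of the centre sent back into it by one moving automorphism is sent back by all. -/
theorem SmallIdx.uniform {α : MulAut E} (hα : α ∈ F.autGroup E)
    (hαm : ∃ z ∈ ctrS S, autFun α z ∉ ctrS S) {z : Ω} (hz : z ∈ ctrS S)
    (hzα : autFun α⁻¹ z ∈ ctrS S) :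
    ∀ γ ∈ F.autGroup E, autFun γ⁻¹ z ∈ ctrS S := by
  intro β hβ
  have hA := K.setup_essential hF hE
  have hZE := hA.ctr_le
  have hES := hE.1.1
  by_cases hβm : ∃ v ∈ ctrS S, autFun β v ∉ ctrS S
  swap
  · push Not at hβm
    exact ctr_stable_inv hZE hES hβ hβm z hz
  obtain ⟨l₀, hl₀, hl₀o, hline, -, -, -⟩ := K.moving hF hE hα hαm
  obtain ⟨g, hg, hgE⟩ := SetLike.exists_of_lt (essential_lt K.pgroup hF hE)
  obtain ⟨τ, hτF, -, hτZ, hτe⟩ := K.tau hF h2 hexp hE hg hgE hl₀ hl₀o hline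
  have hfix : ∀ γ ∈ F.autGroup E, autFun γ l₀ ∈ ctrS S → ∀ v ∈ ctrS S,
      autFun γ v ∈ ctrS S := by
    intro γ hγ hγl
    by_contra hγm
    push Not at hγm
    obtain ⟨c, -, -, hc, hcγ, -, -⟩ := K.moving hF hE hγ hγm
    obtain ⟨k, hk⟩ := Subgroup.mem_zpowers_iff.1
      (hline.le (hc.ge (Subgroup.mem_zpowers c) : c ∈ lineS S))
    apply hcγ
    rw [← hk, (isMor_autFun hES hγ).map_zpow (hZE hl₀.1)]
    exact Subgroup.zpow_mem _ hγl k
  have hzE := hZE hz
  rcases K.dicho hF h2 hexp hE hα hβ hαm ⟨_, hβm.choose_spec.1, hβm.choose_spec.2⟩ hl₀ hline hτe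
    with h | h
  · have := hfix _ (Subgroup.mul_mem _ (Subgroup.inv_mem _ hβ) hα) h _ hzα
    rwa [autFun_mul _ _ (autFun_mem _ hzE), autFun_inv_right α hzE] at this
  · have := hfix _ (Subgroup.mul_mem _ (Subgroup.inv_mem _ hβ) (Subgroup.mul_mem _ hτF hα)) h _ hzα
    rwa [autFun_mul _ _ (autFun_mem _ hzE), autFun_mul _ _ (autFun_mem _ hzE),
      autFun_inv_right α hzE, hτZ z hz] at this

/-- Every element of `Z(S)` is `y` or `y l₀` with `y` in the invariant part. -/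
theorem SmallIdx.ctr_decomp {z : Ω} (hz : z ∈ ctrS S) :
    ∃ y ∈ ctrS S, (∀ γ ∈ F.autGroup E, autFun γ y ∈ ctrS S) ∧ ∃ l ∈ lineS S, z = y * l := by
  obtain ⟨α, hα, hαm⟩ := K.exists_moving hF hE
  obtain ⟨-, -, -, -, -, -, hdec⟩ := K.moving hF hE hα hαm
  obtain ⟨y, hy, hyα, l, hl, rfl⟩ := hdec z hz
  refine ⟨y, hy, fun γ hγ => ?_, l, hl, rfl⟩
  have := K.uniform hF h2 hexp hE hα hαm hy hyα γ⁻¹ (Subgroup.inv_mem _ hγ)
  rwa [inv_inv] at this

/-- An automorphism preserving `Z(S)` comes from one of `S`. -/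
theorem SmallIdx.extend {n : MulAut E} (hn : n ∈ F.autGroup E)
    (hnZ : ∀ z ∈ ctrS S, autFun n z ∈ ctrS S) :
    ∃ φ ∈ F.autGroup S, ∀ e ∈ E, autFun φ e = autFun n e := by
  have hS := K.pgroup
  have hA := K.setup_essential hF hE
  have hZE := hA.ctr_le
  have hES := hE.1.1
  have : Finite E := finite_of_le hES
  obtain ⟨hfa, hrec⟩ := isFullyAutomized_of_normalized hS hF hE.2.1
  obtain ⟨-, hsyl⟩ := isFullyAutomized_iff.1 hfa
  -- the pointwise stabiliser of `Z(S)` is `Aut_S(E)`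
  let T : Subgroup (MulAut E) :=
    { carrier := {β | β ∈ F.autGroup E ∧ ∀ z ∈ ctrS S, autFun β z = z}
      one_mem' := ⟨Subgroup.one_mem _, fun z hz => autFun_one (hZE hz)⟩
      mul_mem' := fun {a b} ha hb => ⟨Subgroup.mul_mem _ ha.1 hb.1, fun z hz => by
        rw [autFun_mul _ _ (hZE hz), hb.2 z hz, ha.2 z hz]⟩
      inv_mem' := fun {a} ha => ⟨Subgroup.inv_mem _ ha.1, fun z hz => by
        conv_lhs => rw [← ha.2 z hz]
        exact autFun_inv_left a (hZE hz)⟩ }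
  have hTp : IsPGroup p T := by
    refine isPGroup_stabilizing hS hES 2
      (fun i => if i = 0 then {1} else if i = 1 then (ctrS S : Set Ω) else Set.univ)
      (by simp) (fun x _ => by simp) fun β hβ i hi x hx hxW => ?_
    interval_cases i
    · simp only [Nat.zero_add, one_ne_zero, if_false, if_true] at hxW ⊢
      rw [hβ.2 x hxW, inv_mul_cancel]
      exact rfl
    · simp only [one_ne_zero, if_false, if_true]
      by_cases hxZ : x ∈ ctrS S
      · rw [hβ.2 x hxZ, inv_mul_cancel]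
        exact Subgroup.one_mem _
      refine K.mul_mem_ctr hF h2 hexp hE (E.inv_mem hx) (fun h => hxZ (by simpa using inv_mem h))
        (autFun_mem β hx) fun h => hxZ ?_
      have h1 := autFun_inv_left β hx
      rw [← h1]
      have := (T.inv_mem hβ).2 _ h
      rwa [this]
  have hUT : autInducedBy S E ≤ T := fun τ hτ => ⟨autInducedBy_le F hES hτ, fun z hz => by
    obtain ⟨s, hs, -, e⟩ := mem_autInducedBy.1 hτ
    rw [e z (hZE hz), cj_apply, (mem_ctrS.1 hz).2 s hs, mul_inv_cancel_right]⟩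
  have hTU : T = autInducedBy S E := hsyl.2.2 T hTp hUT fun β hβ => hβ.1
  have hN : S ≤ nExt S E (autFun n) := by
    intro s hs
    have hsn : s ∈ Subgroup.normalizer (E : Set Ω) := by
      rw [Subgroup.mem_normalizer_iff]
      refine fun x => ⟨fun hx => hA.conj_mem hs hx, fun hx => ?_⟩
      have := hA.conj_mem (S.inv_mem hs) hx
      simpa [mul_assoc] using this
    obtain ⟨γ, hγ, hγe⟩ := exists_autInducedBy (P := E) hs hsn
    have hmem : n * γ * n⁻¹ ∈ T := by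
      refine ⟨Subgroup.mul_mem _ (Subgroup.mul_mem _ hn (autInducedBy_le F hES hγ))
        (Subgroup.inv_mem _ hn), fun z hz => ?_⟩
      have h1 := ctr_stable_inv hZE hES hn hnZ z hz
      rw [autFun_mul _ _ (hZE hz), autFun_mul _ _ (autFun_mem _ (hZE hz)), (hUT hγ).2 _ h1,
        autFun_inv_right n (hZE hz)]
    rw [hTU] at hmem
    obtain ⟨h, hh, -, hhe⟩ := mem_autInducedBy.1 hmem
    exact mem_nExt.2 ⟨hs, hsn, h, hh, (mul_conj_aut hγe hhe).1 rfl⟩
  obtain ⟨g, hg, hge⟩ := (isReceptive_iff.1 hrec).2 E _ (isMor_autFun hES hn) (img_autFun _)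
  obtain ⟨φ, hφ, hφe⟩ := exists_autGroup_self (hg.restrict hN)
  exact ⟨φ, hφ, fun e he => (hφe e (hES he)).trans (hge e he)⟩

/-- A moving automorphism is one fixing the invariant part, times one preserving the centre. -/
theorem SmallIdx.factor {γ : MulAut E} (hγ : γ ∈ F.autGroup E)
    (hγm : ∃ z ∈ ctrS S, autFun γ z ∉ ctrS S) :
    ∃ u ∈ F.autGroup E, ∃ l₀ ∈ lineS S,
      (∀ y ∈ ctrS S, (∀ δ ∈ F.autGroup E, autFun δ y ∈ ctrS S) → autFun u y = y) ∧
      (∀ z ∈ ctrS S, autFun (u⁻¹ * γ) z ∈ ctrS S) ∧ autFun (u⁻¹ * γ) l₀ = l₀ ∧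
      lineS S = Subgroup.zpowers l₀ ∧
      ∀ e ∈ E, e⁻¹ * autFun u e ∈ Subgroup.closure {l₀, autFun γ l₀} := by
  have hA := K.setup_essential hF hE
  have hZE := hA.ctr_le
  have hES := hE.1.1
  obtain ⟨l₀, hl₀, hl₀o, hline, hγl, hγ'l, -⟩ := K.moving hF hE hγ hγm
  obtain ⟨g, hg, hgE⟩ := SetLike.exists_of_lt (essential_lt K.pgroup hF hE)
  obtain ⟨τ, hτF, -, hτZ, hτe⟩ := K.tau hF h2 hexp hE hg hgE hl₀ hl₀o hline
  set σ := γ * τ * γ⁻¹ with hσ
  set u := τ * σ with hu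
  have hσF : σ ∈ F.autGroup E :=
    Subgroup.mul_mem _ (Subgroup.mul_mem _ hγ hτF) (Subgroup.inv_mem _ hγ)
  have huF : u ∈ F.autGroup E := Subgroup.mul_mem _ hτF hσF
  have hlE := hZE hl₀.1
  have hl2 : l₀ * l₀ = 1 := by rw [← sq, ← h2, ← hl₀o, pow_orderOf_eq_one]
  have hσl : autFun σ l₀ = l₀ * autFun γ l₀ := by
    rw [hσ, autFun_mul _ _ hlE, autFun_mul _ _ (autFun_mem _ hlE), hτe _ (autFun_mem _ hlE) hγ'l,
      autFun_map_mul γ (autFun_mem _ hlE) hlE, autFun_inv_right γ hlE]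
  have hul : autFun u l₀ = autFun γ l₀ := by
    have hm : l₀ * autFun γ l₀ ∉ ctrS S := fun h =>
      hγl ((Subgroup.mul_mem_cancel_left _ hl₀.1).1 h)
    rw [hu, autFun_mul _ _ hlE, hσl, hτe _ (E.mul_mem hlE (autFun_mem γ hlE)) hm,
      hA.comm l₀ hlE _ (autFun_mem γ hlE), mul_assoc, hl2, mul_one]
  have hn : autFun (u⁻¹ * γ) l₀ = l₀ := by
    rw [autFun_mul _ _ hlE, ← hul, autFun_inv_left u hlE]
  refine ⟨u, huF, l₀, hl₀, fun y hy hyinv => ?_, ?_, hn, hline, fun e he => ?_⟩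
  · rw [hu, hσ, autFun_mul _ _ (hZE hy), autFun_mul _ _ (hZE hy),
      autFun_mul _ _ (autFun_mem _ (hZE hy)), hτZ _ (hyinv _ (Subgroup.inv_mem _ hγ)),
      autFun_inv_right γ (hZE hy), hτZ y hy]
  · by_contra hm
    push Not at hm
    obtain ⟨c, -, -, hc, hcn, -, -⟩ :=
      K.moving hF hE (Subgroup.mul_mem _ (Subgroup.inv_mem _ huF) hγ) hm
    obtain ⟨k, hk⟩ := Subgroup.mem_zpowers_iff.1
      (hline.le (hc.ge (Subgroup.mem_zpowers c) : c ∈ lineS S))
    apply hcn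
    rw [← hk, (isMor_autFun hES (Subgroup.mul_mem _ (Subgroup.inv_mem _ huF) hγ)).map_zpow hlE,
      hn]
    exact Subgroup.zpow_mem _ hl₀.1 k
  · set C := Subgroup.closure ({l₀, autFun γ l₀} : Set Ω)
    have hlC : l₀ ∈ C := Subgroup.subset_closure (by simp)
    have hcC : autFun γ l₀ ∈ C := Subgroup.subset_closure (by simp)
    have hτC : ∀ x ∈ E, x⁻¹ * autFun τ x ∈ Subgroup.zpowers l₀ := fun x hx => by
      by_cases hxZ : x ∈ ctrS S
      · rw [hτZ x hxZ, inv_mul_cancel]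
        exact Subgroup.one_mem _
      · rw [hτe x hx hxZ, inv_mul_cancel_left]
        exact Subgroup.mem_zpowers l₀
    have hσC : e⁻¹ * autFun σ e ∈ C := by
      obtain ⟨k, hk⟩ := Subgroup.mem_zpowers_iff.1 (hτC _ (autFun_mem γ⁻¹ he))
      have : e⁻¹ * autFun σ e = autFun γ l₀ ^ k := by
        rw [← (isMor_autFun hES hγ).map_zpow hlE, hk,
          autFun_map_mul γ (E.inv_mem (autFun_mem _ he)) (autFun_mem τ (autFun_mem _ he)),
          autFun_inv_map γ (autFun_mem _ he), autFun_inv_right γ he, hσ, autFun_mul _ _ he,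
          autFun_mul _ _ (autFun_mem _ he)]
      rw [this]
      exact C.zpow_mem hcC k
    rw [hu, autFun_mul _ _ he, show e⁻¹ * autFun τ (autFun σ e) =
      (e⁻¹ * autFun σ e) * ((autFun σ e)⁻¹ * autFun τ (autFun σ e)) by group]
    exact C.mul_mem hσC
      ((Subgroup.zpowers_le.2 hlC) (hτC _ (autFun_mem σ he)))

/-- Automorphisms of `S` in the system preserve each essential subgroup. -/
theorem SmallIdx.aut_preserves {φ : MulAut S} (hφ : φ ∈ F.autGroup S) :
    ∀ e ∈ E, autFun φ e ∈ E := by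
  have hS := K.pgroup
  have hA := K.setup_essential hF hE
  intro e he
  by_contra hφe
  -- noncentral involutions lie in `E`, or commute with each other
  let P2 : Set Ω := {x | x ∈ S ∧ x ∉ E ∧ x * x = 1}
  have hsq : ∀ x ∈ E, x * x = 1 := fun x hx => by rw [← sq, ← h2]; exact hexp E hE x hx
  have hP2 : ∀ x ∈ P2, ∀ y ∈ P2, x * y = y * x := by
    rintro x ⟨hxS, hxE, hxx⟩ y ⟨hyS, hyE, hyy⟩
    obtain ⟨a, ha, k, rfl⟩ := hA.decomp hxS hxE hyS
    rcases Int.even_or_odd k with ⟨i, hi⟩ | ⟨i, hi⟩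
    · rw [hi, ← two_mul, zpow_mul, zpow_two, hxx, one_zpow, mul_one] at hyE
      exact absurd ha hyE
    · rw [hi, zpow_add_one, zpow_mul, zpow_two, hxx, one_zpow, one_mul] at hyy ⊢
      have h1 : a * x = x * a := by
        have h3 := congrArg (fun w => a * (w * x)) hyy
        simp only [one_mul] at h3
        rw [show a * (a * x * (a * x) * x) = (a * a) * x * a * (x * x) by group, hsq a ha, hxx,
          one_mul, mul_one] at h3
        exact h3.symm
      rw [← mul_assoc, ← h1, mul_assoc]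
  have hne : ∀ x ∈ P2, ∀ y ∈ E, y ∉ ctrS S → x * y ≠ y * x := fun x hx y hy hyZ h =>
    hyZ (hA.mem_ctr hy hx.1 hx.2.1 h.symm)
  have hm := isMor_autFun le_rfl hφ
  have hnZ : ∀ x ∈ S, x ∉ ctrS S → autFun φ x ∉ ctrS S := fun x hx hxZ h => hxZ (by
    have := autFun_S_ctr (δ := φ⁻¹) h
    rwa [autFun_inv_left φ hx] at this)
  have hxx : ∀ x ∈ S, x * x = 1 → autFun φ x * autFun φ x = 1 := fun x hx h => by
    rw [← hm.map_mul hx hx, h, hm.map_one]
  have heZ : e ∉ ctrS S := fun h => hφe (hA.ctr_le (autFun_S_ctr h))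
  have heS := hE.1.1 he
  have hφe2 : autFun φ e ∈ P2 := ⟨autFun_mem φ heS, hφe, hxx e heS (hsq e he)⟩
  -- `φ` exchanges the two families
  have hE2 : ∀ x ∈ E, x ∉ ctrS S → autFun φ x ∈ P2 := fun x hx hxZ => by
    refine ⟨autFun_mem φ (hE.1.1 hx), fun h => hne _ hφe2 _ h (hnZ x (hE.1.1 hx) hxZ) ?_,
      hxx x (hE.1.1 hx) (hsq x hx)⟩
    rw [← hm.map_mul heS (hE.1.1 hx), ← hm.map_mul (hE.1.1 hx) heS, hA.comm e he x hx]
  have h2E : ∀ x ∈ P2, autFun φ x ∈ E := fun x hx => by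
    by_contra h
    refine hne x hx e he heZ (hm.inj (S.mul_mem hx.1 heS) (S.mul_mem heS hx.1) ?_)
    rw [hm.map_mul hx.1 heS, hm.map_mul heS hx.1]
    exact hP2 _ ⟨autFun_mem φ hx.1, h, hxx x hx.1 hx.2.2⟩ _ hφe2
  have hpow : ∀ k, (autFun (φ ^ (2 * k)) e ∈ E ∧ autFun (φ ^ (2 * k)) e ∉ ctrS S) ∧
      autFun (φ ^ (2 * k + 1)) e ∈ P2 := by
    intro k
    induction k with
    | zero =>
      rw [Nat.mul_zero, pow_zero, pow_one, autFun_one heS]
      exact ⟨⟨he, heZ⟩, hφe2⟩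
    | succ k ih =>
      have h3 : autFun (φ ^ (2 * (k + 1))) e = autFun φ (autFun (φ ^ (2 * k + 1)) e) := by
        rw [show 2 * (k + 1) = (2 * k + 1) + 1 by ring, pow_succ', autFun_mul _ _ heS]
      have h5 : autFun (φ ^ (2 * k + 1)) e ∉ ctrS S := fun h => ih.2.2.1 (hA.ctr_le h)
      have h4 : autFun (φ ^ (2 * (k + 1))) e ∈ E ∧ autFun (φ ^ (2 * (k + 1))) e ∉ ctrS S :=
        by rw [h3]; exact ⟨h2E _ ih.2, hnZ _ ih.2.1 h5⟩
      refine ⟨h4, ?_⟩
      rw [pow_succ', autFun_mul _ _ heS]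
      exact hE2 _ h4.1 h4.2
  have := finite_mulAut (le_refl S)
  obtain ⟨R, hR⟩ := (isFullyAutomized_of_normalized hS hF (isFullyNormalized_self F)).1.2
  have hRn : (R : Subgroup ↥(F.autGroup S)).Normal := by
    rw [hR, ← inn_eq_autInducedBy]
    exact inn_subgroupOf_normal F _
  have hidx := R.not_dvd_index
  obtain ⟨k, hk⟩ : Odd (R : Subgroup ↥(F.autGroup S)).index := by
    rw [Nat.odd_iff]
    generalize (R : Subgroup ↥(F.autGroup S)).index = m at hidx ⊢
    rw [h2] at hidx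
    omega
  have h1 : (⟨φ, hφ⟩ : ↥(F.autGroup S)) ^ (R : Subgroup ↥(F.autGroup S)).index ∈
      (R : Subgroup ↥(F.autGroup S)) := Subgroup.pow_index_mem _ _
  rw [hk] at h1
  rw [hR] at h1
  obtain ⟨s, hs, -, hse⟩ := mem_autInducedBy.1 (Subgroup.mem_subgroupOf.1 h1)
  have h3 : autFun (φ ^ (2 * k + 1)) e = cj s e := hse e heS
  exact (hpow k).2.2.1 (h3 ▸ hA.conj_mem hs he)

/-- Automorphisms of `S` move the centre only inside the invariant part. -/
theorem SmallIdx.aut_diff {φ : MulAut S} (hφ : φ ∈ F.autGroup S) {z : Ω} (hz : z ∈ ctrS S) :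
    ∀ γ ∈ F.autGroup E, autFun γ (z⁻¹ * autFun φ z) ∈ ctrS S := by
  intro γ hγ
  have hA := K.setup_essential hF hE
  have hZE := hA.ctr_le
  have hES := hE.1.1
  have hm := isMor_autFun le_rfl hφ
  have hrest := hm.restrict hES
  obtain ⟨α, hα, hαe⟩ := exists_aut hrest
    (hrest.img_eq_self (K.aut_preserves hF h2 hexp hE hφ))
  obtain ⟨y, hy, hyinv, l, hl, rfl⟩ := K.ctr_decomp hF h2 hexp hE hz
  have hl' : autFun φ l = l := by
    obtain ⟨β, hβ, hβm⟩ := K.exists_moving hF hE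
    obtain ⟨l₀, hl₀, hl₀o, hline, -, -, -⟩ := K.moving hF hE hβ hβm
    have hl2 : l₀ * l₀ = 1 := by rw [← sq, ← h2, ← hl₀o, pow_orderOf_eq_one]
    have hcases : ∀ x ∈ lineS S, x = 1 ∨ x = l₀ := fun x hx => by
      obtain ⟨k, rfl⟩ := Subgroup.mem_zpowers_iff.1 (hline.le hx)
      rcases Int.even_or_odd k with ⟨i, hi⟩ | ⟨i, hi⟩
      · left; rw [hi, ← two_mul, zpow_mul, zpow_two, hl2, one_zpow]
      · right; rw [hi, zpow_add_one, zpow_mul, zpow_two, hl2, one_zpow, one_mul]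
    rcases hcases l hl with rfl | rfl
    · exact hm.map_one
    · rcases hcases _ (autFun_S_line (δ := φ) hl) with h | h
      · exfalso
        have : l = 1 := hm.inj hl.1.1 S.one_mem (by rw [h, hm.map_one])
        rw [this, orderOf_one] at hl₀o
        exact hp.1.ne_one hl₀o.symm
      · exact h
  have h1 : (y * l)⁻¹ * autFun φ (y * l) = y⁻¹ * autFun φ y := by
    rw [hm.map_mul hy.1 hl.1.1, hl', mul_inv_rev]
    have h3 : autFun φ y * l = l * autFun φ y := ((mem_ctrS.1 hl.1).2 _ (autFun_mem φ hy.1))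
    rw [h3]
    rw [show l⁻¹ * y⁻¹ * (l * autFun φ y) = l⁻¹ * (y⁻¹ * l) * autFun φ y by group,
      ((mem_ctrS.1 hl.1).2 _ (S.inv_mem hy.1) : y⁻¹ * l = l * y⁻¹), inv_mul_cancel_left]
  rw [h1, ← hαe y (hZE hy), autFun_map_mul γ (E.inv_mem (hZE hy)) (autFun_mem α (hZE hy)),
    autFun_inv_map γ (hZE hy), ← autFun_mul _ _ (hZE hy)]
  exact Subgroup.mul_mem _ (Subgroup.inv_mem _ (hyinv γ hγ))
    (hyinv _ (Subgroup.mul_mem _ hγ hα))

end Two

/-- For `p = 2` the automorphisms of `S` in the system fix the centre. -/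
theorem SmallIdx.aut_fix_ctr (hF : F.IsSaturated p) (hcore : F.core = ⊥) (h2 : p = 2)
    (hexp : ∀ E, F.IsEssential p E → ∀ e ∈ E, e ^ p = 1) {φ : MulAut S}
    (hφ : φ ∈ F.autGroup S) : ∀ z ∈ ctrS S, autFun φ z = z := by
  intro z hz
  set W := Subgroup.closure
    {w : Ω | ∃ ψ ∈ F.autGroup S, ∃ v ∈ ctrS S, w = v⁻¹ * autFun ψ v} with hWdef
  have hle : W ≤ ctrS S := (Subgroup.closure_le _).2 fun _ ⟨ψ, _, v, hv, e⟩ =>
    e ▸ Subgroup.mul_mem _ (Subgroup.inv_mem _ hv) (autFun_S_ctr hv)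
  have hWS : ∀ ψ ∈ F.autGroup S, ∀ w ∈ W, autFun ψ w ∈ W := by
    intro ψ hψ w hw
    have hm := isMor_autFun le_rfl hψ
    induction hw using Subgroup.closure_induction with
    | mem w hw =>
      obtain ⟨χ, hχ, v, hv, rfl⟩ := hw
      refine Subgroup.subset_closure
        ⟨ψ * χ * ψ⁻¹, Subgroup.mul_mem _ (Subgroup.mul_mem _ hψ hχ) (Subgroup.inv_mem _ hψ),
          autFun ψ v, autFun_S_ctr hv, ?_⟩
      rw [hm.map_mul (S.inv_mem hv.1) (autFun_mem χ hv.1), hm.map_inv hv.1,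
        autFun_mul _ _ (autFun_mem ψ hv.1), autFun_mul _ _ (autFun_mem _ (autFun_mem ψ hv.1)),
        autFun_inv_left ψ hv.1]
    | one =>
      rw [hm.map_one]
      exact W.one_mem
    | mul a b ha hb iha ihb =>
      rw [hm.map_mul (hle ha).1 (hle hb).1]
      exact W.mul_mem iha ihb
    | inv a ha iha =>
      rw [hm.map_inv (hle ha).1]
      exact W.inv_mem iha
  have hW : W = ⊥ := by
    refine le_bot_iff.1 (hcore ▸ le_core (isNormal_of_invariant K.pgroup hF fun P hP => ?_))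
    rcases hP with rfl | hP
    · exact ⟨fun w hw => (hle hw).1, hWS⟩
    have hA := K.setup_essential hF hP
    have hWinv : ∀ w ∈ W, ∀ γ ∈ F.autGroup P, autFun γ w ∈ ctrS S := by
      intro w hw γ hγ
      have hm := isMor_autFun hP.1.1 hγ
      induction hw using Subgroup.closure_induction with
      | mem w hw =>
        obtain ⟨χ, hχ, v, hv, rfl⟩ := hw
        exact K.aut_diff hF h2 hexp hP hχ hv γ hγ
      | one =>
        rw [hm.map_one]
        exact Subgroup.one_mem _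
      | mul a b ha hb iha ihb =>
        rw [hm.map_mul (hA.ctr_le (hle ha)) (hA.ctr_le (hle hb))]
        exact Subgroup.mul_mem _ iha ihb
      | inv a ha iha =>
        rw [hm.map_inv (hA.ctr_le (hle ha))]
        exact Subgroup.inv_mem _ iha
    refine ⟨hle.trans hA.ctr_le, fun γ hγ w hw => ?_⟩
    have hwP : w ∈ P := hA.ctr_le (hle hw)
    by_cases hγm : ∃ v ∈ ctrS S, autFun γ v ∉ ctrS S
    swap
    · push Not at hγm
      obtain ⟨ψ, hψ, hψe⟩ := K.extend hF h2 hexp hP hγ hγm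
      exact hψe w hwP ▸ hWS ψ hψ w hw
    obtain ⟨u, hu, l₀, -, hufix, hn, -, -, -⟩ := K.factor hF h2 hexp hP hγ hγm
    have hnF := Subgroup.mul_mem _ (Subgroup.inv_mem _ hu) hγ
    obtain ⟨ψ, hψ, hψe⟩ := K.extend hF h2 hexp hP hnF hn
    have h1 : autFun (u⁻¹ * γ) w ∈ W := hψe w hwP ▸ hWS ψ hψ w hw
    have h3 : autFun γ w = autFun u (autFun (u⁻¹ * γ) w) := by
      rw [← autFun_mul _ _ hwP, mul_inv_cancel_left]
    rw [h3, hufix _ (hle h1) (fun δ hδ => hWinv _ h1 δ hδ)]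
    exact h1
  have h1 : z⁻¹ * autFun φ z ∈ W := Subgroup.subset_closure ⟨φ, hφ, z, hz, rfl⟩
  rw [hW, Subgroup.mem_bot] at h1
  exact (inv_mul_eq_one.1 h1).symm

/-- For `p = 2` the automorphisms of `S` in the system are inner. -/
theorem SmallIdx.aut_inner (hF : F.IsSaturated p) (hcore : F.core = ⊥) (h2 : p = 2)
    {φ : MulAut S} (hφ : φ ∈ F.autGroup S) : ∀ x ∈ S, x⁻¹ * autFun φ x ∈ lineS S := by
  obtain ⟨hZexp, hexp⟩ := K.pow_eq_one hF hcore
  have hS := K.pgroup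
  obtain ⟨E, hE⟩ := K.exists_essential hF hcore
  have hA := K.setup_essential hF hE
  obtain ⟨g, hg, hgE, hgp⟩ := K.exists_outside hF hcore hE
  have hgg : g * g = 1 := by rw [← sq, ← h2]; exact hgp
  have hfix := fun (ψ : MulAut S) (hψ : ψ ∈ F.autGroup S) => K.aut_fix_ctr hF hcore h2 hexp hψ
  have hquot : ∀ ψ ∈ F.autGroup S, ∀ x ∈ S, x⁻¹ * autFun ψ x ∈ ctrS S := by
    intro ψ hψ
    have hm := isMor_autFun le_rfl hψ
    have hpres := K.aut_preserves hF h2 hexp hE hψ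
    have hEq : ∀ x ∈ E, x⁻¹ * autFun ψ x ∈ ctrS S := fun x hx => by
      by_cases hxZ : x ∈ ctrS S
      · rw [hfix ψ hψ x hxZ, inv_mul_cancel]
        exact Subgroup.one_mem _
      refine K.mul_mem_ctr hF h2 hexp hE (E.inv_mem hx) (fun h => hxZ (by simpa using inv_mem h))
        (hpres x hx) fun h => hxZ ?_
      have := autFun_S_ctr (δ := ψ⁻¹) h
      rwa [autFun_inv_left ψ (hE.1.1 hx)] at this
    have hψg : autFun ψ g ∉ E := fun h => by
      have := K.aut_preserves hF h2 hexp hE (Subgroup.inv_mem _ hψ) _ h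
      rw [autFun_inv_left ψ hg] at this
      exact hgE this
    obtain ⟨a, ha, k, hk⟩ := hA.decomp hg hgE (autFun_mem ψ hg)
    have hgx : g⁻¹ * autFun ψ g ∈ ctrS S := by
      have hkodd : autFun ψ g = a * g := by
        rcases Int.even_or_odd k with ⟨i, hi⟩ | ⟨i, hi⟩
        · rw [hi, ← two_mul, zpow_mul, zpow_two, hgg, one_zpow, mul_one] at hk
          exact absurd (hk ▸ ha) hψg
        · rw [hk, hi, zpow_add_one, zpow_mul, zpow_two, hgg, one_zpow, one_mul]
      have haa : a * a = 1 := by rw [← sq, ← h2]; exact hexp E hE a ha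
      have h3 : a * g * (a * g) = 1 := by
        rw [← hkodd, ← hm.map_mul hg hg, hgg, hm.map_one]
      have hag : a * g = g * a := by
        calc a * g = a * g * (a * a) := by rw [haa, mul_one]
          _ = (a * g * (a * g)) * (g⁻¹ * a) := by group
          _ = g * a := by rw [h3, one_mul, inv_eq_of_mul_eq_one_right hgg]
      have haZ : a ∈ ctrS S := hA.mem_ctr ha hg hgE hag
      rw [hkodd, hag, inv_mul_cancel_left]
      exact haZ
    intro x hx
    obtain ⟨b, hb, j, rfl⟩ := hA.decomp hg hgE hx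
    have hbS := hA.le hb
    rw [hm.map_mul hbS (S.zpow_mem hg j), hm.map_zpow hg]
    set c := b⁻¹ * autFun ψ b with hc
    set d := g⁻¹ * autFun ψ g with hd
    have hcz := hEq b hb
    rw [← hc] at hcz
    have hcom : Commute g d := (mem_ctrS.1 hgx).2 g hg
    rw [show autFun ψ b = b * c by rw [hc, mul_inv_cancel_left],
      show autFun ψ g = g * d by rw [hd, mul_inv_cancel_left], hcom.mul_zpow,
      show (b * g ^ j)⁻¹ * (b * c * (g ^ j * d ^ j)) = (g ^ j)⁻¹ * c * g ^ j * d ^ j by group,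
      mul_assoc (g ^ j)⁻¹ c, ← (mem_ctrS.1 hcz).2 _ (S.zpow_mem hg j), ← mul_assoc,
      inv_mul_cancel, one_mul]
    exact Subgroup.mul_mem _ hcz (Subgroup.zpow_mem _ hgx j)
  have hp2 : IsPGroup p (F.autGroup S) := by
    refine isPGroup_stabilizing hS le_rfl 2
      (fun i => if i = 0 then {1} else if i = 1 then (ctrS S : Set Ω) else Set.univ)
      (by simp) (fun x _ => by simp) fun β hβ i hi x hx hxW => ?_
    interval_cases i
    · simp only [Nat.zero_add, one_ne_zero, if_false, if_true] at hxW ⊢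
      rw [hfix β hβ x hxW, inv_mul_cancel]
      exact rfl
    · simp only [one_ne_zero, if_false, if_true]
      exact hquot β hβ x hx
  intro x hx
  obtain ⟨s, hs, hse⟩ := mem_inn.1 (autGroup_le_inn_of_isPGroup hS hF hp2 hφ)
  rw [hse x hx, K.line_eq]
  have := Subgroup.commutator_mem_commutator (S.inv_mem hx) hs
  rwa [show ⁅x⁻¹, s⁆ = x⁻¹ * cj s x by simp [commutatorElement_def, cj, mul_assoc]] at this

/-- All translates of the line by an essential subgroup lie in a four-group. -/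
theorem SmallIdx.line_translate (hF : F.IsSaturated p) (hcore : F.core = ⊥) (h2 : p = 2)
    {E : Subgroup Ω} (hE : F.IsEssential p E) :
    ∃ l₀ ∈ lineS S, ∃ c ∈ E, lineS S = Subgroup.zpowers l₀ ∧ ∀ γ ∈ F.autGroup E, ∀ x ∈ E,
      x⁻¹ * autFun γ x ∈ Subgroup.closure {l₀, c} := by
  obtain ⟨-, hexp⟩ := K.pow_eq_one hF hcore
  have hA := K.setup_essential hF hE
  have hZE := hA.ctr_le
  have hES := hE.1.1
  obtain ⟨α, hα, hαm⟩ := K.exists_moving hF hE
  obtain ⟨l₀, hl₀, hl₀o, hline, hαl, -, -⟩ := K.moving hF hE hα hαm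
  obtain ⟨g, hg, hgE⟩ := SetLike.exists_of_lt (essential_lt K.pgroup hF hE)
  obtain ⟨τ, hτF, -, -, hτe⟩ := K.tau hF h2 hexp hE hg hgE hl₀ hl₀o hline
  refine ⟨l₀, hl₀, autFun α l₀, autFun_mem α (hZE hl₀.1), hline, ?_⟩
  set C := Subgroup.closure ({l₀, autFun α l₀} : Set Ω)
  have hlC : l₀ ∈ C := Subgroup.subset_closure (by simp)
  have hcC : autFun α l₀ ∈ C := Subgroup.subset_closure (by simp)
  have hlineC : ∀ l ∈ lineS S, l ∈ C := fun l hl =>
    (Subgroup.zpowers_le.2 hlC) (hline.le hl)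
  -- those preserving the centre
  have hstab : ∀ n ∈ F.autGroup E, (∀ z ∈ ctrS S, autFun n z ∈ ctrS S) →
      autFun n l₀ = l₀ ∧ ∀ x ∈ E, x⁻¹ * autFun n x ∈ C := by
    intro n hn hnZ
    obtain ⟨φ, hφ, hφe⟩ := K.extend hF h2 hexp hE hn hnZ
    refine ⟨?_, fun x hx => ?_⟩
    · rw [← hφe _ (hZE hl₀.1)]
      exact K.aut_fix_ctr hF hcore h2 hexp hφ _ hl₀.1
    · rw [← hφe x hx]
      exact hlineC _ (K.aut_inner hF hcore h2 hφ x (hES hx))
  have hlE := hZE hl₀.1
  -- the translates of `l₀`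
  have horb : ∀ β ∈ F.autGroup E, autFun β l₀ ∈ C := by
    intro β hβ
    by_cases hβm : ∃ v ∈ ctrS S, autFun β v ∉ ctrS S
    swap
    · push Not at hβm
      rw [(hstab β hβ hβm).1]
      exact hlC
    have hfix : ∀ γ ∈ F.autGroup E, autFun γ l₀ ∈ ctrS S → autFun γ l₀ = l₀ := by
      intro γ hγ hγl
      refine (hstab γ hγ ?_).1
      by_contra hγm
      push Not at hγm
      obtain ⟨c, -, -, hc, hcγ, -, -⟩ := K.moving hF hE hγ hγm
      obtain ⟨k, hk⟩ := Subgroup.mem_zpowers_iff.1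
        (hline.le (hc.ge (Subgroup.mem_zpowers c) : c ∈ lineS S))
      apply hcγ
      rw [← hk, (isMor_autFun hES hγ).map_zpow hlE]
      exact Subgroup.zpow_mem _ hγl k
    rcases K.dicho hF h2 hexp hE hα hβ hαm hβm hl₀ hline hτe with h | h
    · have h1 := congrArg (autFun β)
        (hfix _ (Subgroup.mul_mem _ (Subgroup.inv_mem _ hβ) hα) h)
      rw [autFun_mul _ _ hlE, autFun_inv_right β (autFun_mem α hlE)] at h1
      exact h1 ▸ hcC
    · have h1 := congrArg (autFun β)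
        (hfix _ (Subgroup.mul_mem _ (Subgroup.inv_mem _ hβ) (Subgroup.mul_mem _ hτF hα)) h)
      rw [autFun_mul _ _ hlE, autFun_inv_right β (autFun_mem _ hlE), autFun_mul _ _ hlE,
        hτe _ (autFun_mem α hlE) hαl] at h1
      exact h1 ▸ C.mul_mem hcC hlC
  intro γ hγ x hx
  by_cases hγm : ∃ v ∈ ctrS S, autFun γ v ∉ ctrS S
  swap
  · push Not at hγm
    exact (hstab γ hγ hγm).2 x hx
  obtain ⟨u, hu, l, hl, -, hn, -, -, hudiff⟩ := K.factor hF h2 hexp hE hγ hγm
  have hγl : autFun γ l ∈ C := by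
    obtain ⟨k, rfl⟩ := Subgroup.mem_zpowers_iff.1 (hline.le hl)
    rw [(isMor_autFun hES hγ).map_zpow hlE]
    exact C.zpow_mem (horb γ hγ) k
  have hsub : Subgroup.closure {l, autFun γ l} ≤ C := (Subgroup.closure_le _).2 (by
    rintro y (rfl | rfl)
    · exact hlineC _ hl
    · exact hγl)
  have hnF := Subgroup.mul_mem _ (Subgroup.inv_mem _ hu) hγ
  have h3 : autFun γ x = autFun u (autFun (u⁻¹ * γ) x) := by
    rw [← autFun_mul _ _ hx, mul_inv_cancel_left]
  rw [h3, show x⁻¹ * autFun u (autFun (u⁻¹ * γ) x) = (x⁻¹ * autFun (u⁻¹ * γ) x) *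
    ((autFun (u⁻¹ * γ) x)⁻¹ * autFun u (autFun (u⁻¹ * γ) x)) by group]
  exact C.mul_mem ((hstab _ hnF hn).2 x hx) (hsub (hudiff _ (autFun_mem _ hx)))

omit K in
/-- Three involutions, the first central and spanning the derived subgroup, span at most eight
elements. -/
theorem card_le_eight {G : Type*} [Group G] [Finite G] {a b c : G} (ha : a * a = 1)
    (hb : b * b = 1) (hc : c * c = 1) (hcomm : ∀ x y : G, ⁅x, y⁆ ∈ Subgroup.zpowers a)
    (htop : Subgroup.closure ({a, b, c} : Set G) = ⊤) : Nat.card G ≤ 8 := by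
  have hz : ∀ t : G, t * t = 1 → Nat.card (Subgroup.zpowers t) ≤ 2 := fun t ht => by
    rw [Nat.card_zpowers]
    exact orderOf_le_of_pow_eq_one two_pos (by rw [sq, ht])
  set N := Subgroup.zpowers a ⊔ Subgroup.zpowers b with hN
  have hA : (Subgroup.zpowers a).Normal := ⟨fun n hn x => by
    rw [show x * n * x⁻¹ = ⁅x, n⁆ * n by rw [commutatorElement_def]; group]
    exact Subgroup.mul_mem _ (hcomm x n) hn⟩
  have hNn : N.Normal := ⟨fun n hn x => by
    rw [show x * n * x⁻¹ = ⁅x, n⁆ * n by rw [commutatorElement_def]; group]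
    exact Subgroup.mul_mem _ ((le_sup_left : Subgroup.zpowers a ≤ N) (hcomm x n)) hn⟩
  have h3 : (⊤ : Subgroup G) ≤ N ⊔ Subgroup.zpowers c := by
    rw [← htop, Subgroup.closure_le]
    rintro t (rfl | rfl | rfl)
    · exact Subgroup.mem_sup_left (Subgroup.mem_sup_left (Subgroup.mem_zpowers t))
    · exact Subgroup.mem_sup_left (Subgroup.mem_sup_right (Subgroup.mem_zpowers t))
    · exact Subgroup.mem_sup_right (Subgroup.mem_zpowers t)
  have hsup : ∀ (M L : Subgroup G) [M.Normal],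
      Nat.card ↥(M ⊔ L) ≤ Nat.card M * Nat.card L := fun M L _ => by
    have h := Subgroup.normal_mul M L
    calc Nat.card ↥(M ⊔ L) = Nat.card ↥((M : Set G) * (L : Set G)) := by
          rw [← h]; rfl
      _ ≤ _ := Set.natCard_mul_le
  calc Nat.card G = Nat.card (⊤ : Subgroup G) := Subgroup.card_top.symm
    _ ≤ Nat.card ↥(N ⊔ Subgroup.zpowers c) := Subgroup.card_le_of_le h3
    _ ≤ Nat.card N * Nat.card (Subgroup.zpowers c) := hsup _ _
    _ ≤ (2 * 2) * 2 := Nat.mul_le_mul ((hsup _ _).trans (Nat.mul_le_mul (hz a ha) (hz b hb)))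
        (hz c hc)

theorem SmallIdx.card_two (hF : F.IsSaturated p) (hcore : F.core = ⊥)
    (hhyp : F.hyperfocalSubgroup p = S) (h2 : p = 2) : Nat.card S ≤ 8 := by
  have hS := K.pgroup
  obtain ⟨-, hexp⟩ := K.pow_eq_one hF hcore
  obtain ⟨E₀, hE₀⟩ := K.exists_essential hF hcore
  have hA₀ := K.setup_essential hF hE₀
  obtain ⟨l₀, hl₀, c₀, hc₀, hline, hd₀⟩ := K.line_translate hF hcore h2 hE₀
  have hsq : ∀ E, F.IsEssential p E → ∀ x ∈ E, x * x = 1 := fun E hE x hx => by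
    rw [← sq, ← h2]; exact hexp E hE x hx
  -- essentials other than `E₀` coincide
  have huniq : ∀ P Q, F.IsEssential p P → F.IsEssential p Q → P ≠ E₀ → Q ≠ E₀ → P = Q := by
    intro P Q hP hQ hPne hQne
    have hP' := K.setup_essential hF hP
    have hQ' := K.setup_essential hF hQ
    obtain ⟨x, hxP, hxE⟩ := SetLike.not_le_iff_exists.1 fun h => hPne (hP'.eq_of_le hA₀ h)
    obtain ⟨y, hyQ, hyE⟩ := SetLike.not_le_iff_exists.1 fun h => hQne (hQ'.eq_of_le hA₀ h)
    obtain ⟨a, ha, k, hk⟩ := hA₀.decomp (hP'.le hxP) hxE (hQ'.le hyQ)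
    have hxx := hsq P hP x hxP
    have hxk : y = a * x := by
      rcases Int.even_or_odd k with ⟨i, hi⟩ | ⟨i, hi⟩
      · rw [hi, ← two_mul, zpow_mul, zpow_two, hxx, one_zpow, mul_one] at hk
        exact absurd (hk ▸ ha) hyE
      · rw [hk, hi, zpow_add_one, zpow_mul, zpow_two, hxx, one_zpow, one_mul]
    have haa := hsq E₀ hE₀ a ha
    have hyy := hsq Q hQ y hyQ
    have hax : a * x = x * a := by
      rw [hxk] at hyy
      calc a * x = a * x * (a * a) := by rw [haa, mul_one]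
        _ = (a * x * (a * x)) * (x⁻¹ * a) := by group
        _ = x * a := by rw [hyy, one_mul, inv_eq_of_mul_eq_one_right hxx]
    have haZ : a ∈ ctrS S := hA₀.mem_ctr ha (hP'.le hxP) hxE hax
    have hyP : y ∈ P := hxk ▸ P.mul_mem (hP'.ctr_le haZ) hxP
    obtain ⟨B, hB, hBy⟩ : ∃ B, Setup p S B ∧ B = ctrS S ⊔ Subgroup.zpowers y :=
      ⟨_, K.setup (hQ'.le hyQ) fun h => hyE (hA₀.ctr_le h), rfl⟩
    have h1 : B ≤ P := hBy ▸ sup_le hP'.ctr_le (Subgroup.zpowers_le.2 hyP)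
    have h3 : B ≤ Q := hBy ▸ sup_le hQ'.ctr_le (Subgroup.zpowers_le.2 hyQ)
    rw [← hB.eq_of_le hP' h1, ← hB.eq_of_le hQ' h3]
  obtain ⟨c₁, hc₁S, hc₁, hd₁⟩ : ∃ c₁ ∈ S, c₁ * c₁ = 1 ∧ ∀ P, F.IsEssential p P → P ≠ E₀ →
      ∀ γ ∈ F.autGroup P, ∀ x ∈ P, x⁻¹ * autFun γ x ∈ Subgroup.closure {l₀, c₁} := by
    by_cases h : ∃ P, F.IsEssential p P ∧ P ≠ E₀
    · obtain ⟨P, hP, hPne⟩ := h
      obtain ⟨l, hl, c, hc, hline', hd⟩ := K.line_translate hF hcore h2 hP
      refine ⟨c, hP.1.1 hc, hsq P hP c hc, fun Q hQ hQne γ hγ x hx => ?_⟩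
      obtain rfl := huniq P Q hP hQ hPne hQne
      refine (Subgroup.closure_le _).2 ?_ (hd γ hγ x hx)
      rintro t (rfl | rfl)
      · exact (Subgroup.zpowers_le.2 (Subgroup.subset_closure (by simp))) (hline.le hl)
      · exact Subgroup.subset_closure (by simp)
    · exact ⟨1, S.one_mem, mul_one 1, fun P hP hPne => absurd ⟨P, hP, hPne⟩ h⟩
  set M := Subgroup.closure ({l₀, c₀, c₁} : Set Ω) with hM
  have hlM : lineS S ≤ M := hline ▸ Subgroup.zpowers_le.2 (Subgroup.subset_closure (by simp))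
  obtain ⟨F', hF'⟩ := exists_congrSys (F := F) (K := M) (K.line_eq ▸ hlM)
  have hle : F ≤ F' := by
    refine alperin hS hF fun P hP γ hγ => ?_
    have hPS : P ≤ S := hP.elim (fun e => e.le) fun h => h.1.1
    refine (autGroup_eq_set hPS γ).2 ((hF' _ _).2 ⟨isMor_autFun hPS hγ, fun x hx => ?_⟩)
    rcases hP with rfl | hP
    · exact hlM (K.aut_inner hF hcore h2 hγ x hx)
    by_cases hP0 : P = E₀
    · subst hP0
      exact Subgroup.closure_mono (by simp [Set.insert_subset_iff]) (hd₀ γ hγ x hx)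
    · exact Subgroup.closure_mono (by simp [Set.insert_subset_iff]) (hd₁ P hP hP0 γ hγ x hx)
  have hfoc : F.focalSubgroup ≤ M := by
    refine (Subgroup.closure_le _).2 ?_
    rintro y ⟨P, φ, x, hφ, rfl⟩
    have := ((hF' P _).1 (le_iff_isMor.mp hle P _ (isMor_of_mem hφ))).2 x x.2
    rwa [toFun_coe] at this
  have hSM : S ≤ M := by
    refine le_trans ?_ hfoc
    rw [focal_eq hS hF, hhyp]
    exact le_sup_left
  have hl2 : l₀ * l₀ = 1 := hsq E₀ hE₀ l₀ (hA₀.ctr_le hl₀.1)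
  have hc₀S : c₀ ∈ S := hE₀.1.1 hc₀
  refine card_le_eight (a := (⟨l₀, hl₀.1.1⟩ : S)) (b := ⟨c₀, hc₀S⟩) (c := ⟨c₁, hc₁S⟩)
    (Subtype.ext hl2) (Subtype.ext (hsq E₀ hE₀ c₀ hc₀)) (Subtype.ext hc₁) (fun x y => ?_) ?_
  · have h1 : (⁅x, y⁆ : S).1 ∈ Subgroup.zpowers l₀ := by
      rw [← hline, K.line_eq]
      exact Subgroup.commutator_mem_commutator x.2 y.2
    obtain ⟨k, hk⟩ := Subgroup.mem_zpowers_iff.1 h1
    exact Subgroup.mem_zpowers_iff.2 ⟨k, Subtype.ext hk⟩
  · refine Subgroup.map_injective S.subtype_injective ?_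
    rw [MonoidHom.map_closure, ← MonoidHom.range_eq_map, Subgroup.range_subtype,
      show S.subtype '' {⟨l₀, hl₀.1.1⟩, ⟨c₀, hc₀S⟩, ⟨c₁, hc₁S⟩} = {l₀, c₀, c₁} by
        simp [Set.image_insert_eq]]
    refine le_antisymm ((Subgroup.closure_le _).2 ?_) hSM
    rintro t (rfl | rfl | rfl)
    exacts [hl₀.1.1, hc₀S, hc₁S]

/-- Trivial core and full hyperfocal subgroup force order `p ^ 3` and two elementary abelian
maximal subgroups. -/
theorem SmallIdx.main (hF : F.IsSaturated p) (hcore : F.core = ⊥)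
    (hhyp : F.hyperfocalSubgroup p = S) :
    Nat.card S = p ^ 3 ∧ Nat.card ↥(ctrS S) = p ∧
      ∃ E, Setup p S E ∧ (∀ e ∈ E, e ^ p = 1) ∧ ∃ g ∈ S, g ∉ E ∧ g ^ p = 1 := by
  have hS := K.pgroup
  obtain ⟨-, hexp⟩ := K.pow_eq_one hF hcore
  obtain ⟨E, hE⟩ := K.exists_essential hF hcore
  have hA := K.setup_essential hF hE
  have hZ : Nat.card ↥(ctrS S) = p := by
    by_cases h2 : p = 2
    · have h8 := K.card_two hF hcore hhyp h2
      rw [K.card_eq, h2] at h8
      have hne : S ≠ ⊥ := fun e => by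
        obtain ⟨u, hu, v, hv, hne⟩ := K.nonab
        rw [e, Subgroup.mem_bot] at hu hv
        exact hne (by rw [hu, hv])
      have : Finite ↥(ctrS S) := finite_of_le inf_le_left
      have h1 : 1 < Nat.card ↥(ctrS S) :=
        (Subgroup.one_lt_card_iff_ne_bot _).2 (ctrS_ne_bot hS hne)
      omega
    · refine (hA.main_aux hF h2 hcore fun P hP _ => ?_).1
      exact K.exists_other (K.setup_essential hF hP)
  refine ⟨by rw [K.card_eq, hZ, ← pow_succ], hZ, E, hA, hexp E hE,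
    K.exists_outside hF hcore hE⟩

end CfsgLib.Fusion.AbelianIndexP
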