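import Mathlib
import Cfsg.Agent.Lib.Fusion.AbelianIndexP
import Cfsg.Agent.Lib.Fusion.CenterIndexPSq

/-!
# Essential subgroups next to a unique abelian subgroup of index `p`
-/

set_option autoImplicit false

namespace CfsgLib.Fusion.AbelianIndexP

open Cfsg Cfsg.FusionSystem CfsgLib.Fusion
open scoped commutatorElement

universe u

variable {Ω : Type u} [Group Ω] {S A : Subgroup Ω} [Finite S] {F : FusionSystem S} {p : ℕ}
  [hp : Fact p.Prime]

/-- The second centre as a subgroup of the ambient group. -/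
abbrev secondS (S : Subgroup Ω) : Subgroup Ω := (Subgroup.upperCentralSeries S 2).map S.subtype

theorem mem_secondS {w : Ω} :
    w ∈ secondS S ↔ w ∈ S ∧ ∀ s ∈ S, w * s * w⁻¹ * s⁻¹ ∈ ctrS S := by
  constructor
  · rintro ⟨v, hv, rfl⟩
    refine ⟨v.2, fun s hs => ?_⟩
    have h1 := (Subgroup.mem_upperCentralSeries_succ_iff).1 hv ⟨s, hs⟩
    rw [Subgroup.upperCentralSeries_one, ← ctrS_subgroupOf, Subgroup.mem_subgroupOf,
      commutatorElement_def] at h1
    exact h1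
  · rintro ⟨hw, h⟩
    refine ⟨⟨w, hw⟩, Subgroup.mem_upperCentralSeries_succ_iff.2 fun s => ?_, rfl⟩
    rw [Subgroup.upperCentralSeries_one, ← ctrS_subgroupOf, Subgroup.mem_subgroupOf,
      commutatorElement_def]
    exact h s s.2

variable (H : Setup p S A) {x : Ω}
include H

theorem Setup.dmem (hx : x ∈ S) {a : Ω} (ha : a ∈ A) : a * x * a⁻¹ * x⁻¹ ∈ A := by
  rw [mul_assoc a x, mul_assoc a]
  exact A.mul_mem ha (H.conj_mem hx (A.inv_mem ha))

/-- Commutation with `x`, a homomorphism of `A`. -/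
def Setup.dHom (hx : x ∈ S) : A →* A :=
  MonoidHom.mk' (fun a => ⟨(a : Ω) * x * (a : Ω)⁻¹ * x⁻¹, H.dmem hx a.2⟩) fun a b =>
    Subtype.ext <| by
      show (a * b : Ω) * x * (a * b : Ω)⁻¹ * x⁻¹
        = (a : Ω) * x * (a : Ω)⁻¹ * x⁻¹ * ((b : Ω) * x * (b : Ω)⁻¹ * x⁻¹)
      have h1 := H.comm _ (H.dmem hx b.2) (a : Ω) a.2
      have h4 := H.comm _ (H.dmem hx a.2) _ (H.dmem hx b.2)
      calc (a * b : Ω) * x * (a * b : Ω)⁻¹ * x⁻¹
          = (a : Ω) * ((b : Ω) * x * (b : Ω)⁻¹ * x⁻¹) * (x * (a : Ω)⁻¹ * x⁻¹) := by group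
        _ = ((b : Ω) * x * (b : Ω)⁻¹ * x⁻¹ * (a : Ω)) * (x * (a : Ω)⁻¹ * x⁻¹) := by rw [h1]
        _ = (b : Ω) * x * (b : Ω)⁻¹ * x⁻¹ * ((a : Ω) * x * (a : Ω)⁻¹ * x⁻¹) := by group
        _ = _ := h4.symm

/-- The image of `L ∩ A` under commutation with `x`. -/
def Setup.dImg (hx : x ∈ S) (L : Subgroup Ω) : Subgroup Ω :=
  ((L.subgroupOf A).map (H.dHom hx)).map A.subtype

theorem Setup.mem_dImg {hx : x ∈ S} {L : Subgroup Ω} {c : Ω} :
    c ∈ H.dImg hx L ↔ ∃ a ∈ L, a ∈ A ∧ a * x * a⁻¹ * x⁻¹ = c := by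
  constructor
  · rintro ⟨_, ⟨a, ha, rfl⟩, rfl⟩
    exact ⟨a, ha, a.2, rfl⟩
  · rintro ⟨a, haL, haA, rfl⟩
    exact ⟨_, ⟨⟨a, haA⟩, haL, rfl⟩, rfl⟩

theorem Setup.dImg_le (hx : x ∈ S) (L : Subgroup Ω) : H.dImg hx L ≤ A :=
  Subgroup.map_subtype_le _

theorem Setup.dImg_self (hx : x ∈ S) (hxA : x ∉ A) : H.dImg hx A = ⁅S, S⁆ := by
  refine le_antisymm (fun c hc => ?_) fun c hc => ?_
  · obtain ⟨a, ha, -, rfl⟩ := H.mem_dImg.1 hc
    have := Subgroup.commutator_mem_commutator (H.le ha) hx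
    rwa [commutatorElement_def] at this
  · obtain ⟨a, ha, rfl⟩ := H.commutator_eq hx hxA hc
    exact H.mem_dImg.2 ⟨a, ha, ha, rfl⟩

/-- The kernel of commutation with `x` is the centre. -/
theorem Setup.card_eq_mul (hx : x ∈ S) (hxA : x ∉ A) {L : Subgroup Ω} (hL : L ≤ A) :
    Nat.card L = Nat.card ↥(L ⊓ ctrS S) * Nat.card ↥(H.dImg hx L) := by
  set f := (H.dHom hx).comp (L.subgroupOf A).subtype with hf
  have h1 : Nat.card L = Nat.card f.ker * Nat.card f.range := by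
    rw [← Subgroup.index_ker, Subgroup.card_mul_index,
      Nat.card_congr (Subgroup.subgroupOfEquivOfLe hL).toEquiv]
  have hker : f.ker.map ((A.subtype).comp (L.subgroupOf A).subtype) = L ⊓ ctrS S := by
    ext a
    constructor
    · rintro ⟨a, ha, rfl⟩
      have h2 : ((a : A) : Ω) * x * ((a : A) : Ω)⁻¹ * x⁻¹ = 1 := congrArg Subtype.val ha
      refine ⟨a.2, H.mem_ctr (a : A).2 hx hxA ?_⟩
      rw [mul_inv_eq_one, mul_inv_eq_iff_eq_mul] at h2
      exact h2
    · rintro ⟨haL, haZ⟩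
      refine ⟨⟨⟨a, hL haL⟩, haL⟩, Subtype.ext ?_, rfl⟩
      show a * x * a⁻¹ * x⁻¹ = 1
      rw [← (mem_ctrS.1 haZ).2 x hx, mul_inv_cancel_right, mul_inv_cancel]
  have hinj : Function.Injective ((A.subtype).comp (L.subgroupOf A).subtype) :=
    A.subtype_injective.comp (L.subgroupOf A).subtype_injective
  have hrange : f.range.map A.subtype = H.dImg hx L := by
    rw [hf, MonoidHom.range_comp, Subgroup.range_subtype]
    rfl
  rw [h1, ← hker, ← hrange, Subgroup.card_map_of_injective hinj,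
    Subgroup.card_map_of_injective A.subtype_injective]

/-- A central commutator turns powers into powers. -/
theorem Setup.pow_comm {a : Ω} (hx : x ∈ S) (hl : a * x * a⁻¹ * x⁻¹ ∈ ctrS S) (k : ℤ) :
    a * x ^ k * a⁻¹ = (a * x * a⁻¹ * x⁻¹) ^ k * x ^ k := by
  rw [← conj_zpow, show a * x * a⁻¹ = (a * x * a⁻¹ * x⁻¹) * x by group]
  rw [Commute.mul_zpow (show Commute (a * x * a⁻¹ * x⁻¹) x from ((mem_ctrS.1 hl).2 x hx).symm)]
  group

theorem Setup.second_mem_iff (hx : x ∈ S) (hxA : x ∉ A) {a : Ω} (ha : a ∈ A) :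
    a ∈ secondS S ↔ a * x * a⁻¹ * x⁻¹ ∈ ctrS S := by
  refine ⟨fun h => (mem_secondS.1 h).2 x hx, fun h => mem_secondS.2 ⟨H.le ha, fun s hs => ?_⟩⟩
  obtain ⟨b, hb, k, rfl⟩ := H.decomp hx hxA hs
  have h2 : a * (b * x ^ k) * a⁻¹ * (b * x ^ k)⁻¹ = b * (a * x * a⁻¹ * x⁻¹) ^ k * b⁻¹ := by
    rw [show a * (b * x ^ k) * a⁻¹ = (a * b) * x ^ k * a⁻¹ by group, H.comm a ha b hb,
      show b * a * x ^ k * a⁻¹ = b * (a * x ^ k * a⁻¹) by group, H.pow_comm hx h k]
    group
  rw [h2, (mem_ctrS.1 (Subgroup.zpow_mem _ h k)).2 b (H.le hb), mul_inv_cancel_right]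
  exact Subgroup.zpow_mem _ h k

/-- Commutation with `x` carries `Z₂(S) ∩ A` onto `Z(S) ∩ S'`. -/
theorem Setup.dImg_second (hx : x ∈ S) (hxA : x ∉ A) :
    H.dImg hx (secondS S ⊓ A) = lineS S := by
  refine le_antisymm (fun c hc => ?_) fun c hc => ?_
  · obtain ⟨a, ha, haA, rfl⟩ := H.mem_dImg.1 hc
    refine ⟨(H.second_mem_iff hx hxA haA).1 ha.1, ?_⟩
    have := Subgroup.commutator_mem_commutator (H.le haA) hx
    rwa [commutatorElement_def] at this
  · obtain ⟨a, ha, rfl⟩ := H.commutator_eq hx hxA hc.2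
    exact H.mem_dImg.2 ⟨a, ⟨(H.second_mem_iff hx hxA ha).2 hc.1, ha⟩, ha, rfl⟩

theorem Setup.card_second (hx : x ∈ S) (hxA : x ∉ A) :
    Nat.card ↥(secondS S ⊓ A) = Nat.card ↥(ctrS S) * Nat.card ↥(lineS S) := by
  rw [H.card_eq_mul hx hxA inf_le_right, H.dImg_second hx hxA,
    show secondS S ⊓ A ⊓ ctrS S = ctrS S from inf_eq_right.2 fun z hz =>
      ⟨mem_secondS.2 ⟨hz.1, fun s hs => by
        rw [← (mem_ctrS.1 hz).2 s hs, mul_inv_cancel_right, mul_inv_cancel]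
        exact Subgroup.one_mem _⟩, H.ctr_le hz⟩]

/-- The shape of an essential subgroup other than `A`. -/
theorem Setup.essential_shape (hF : F.IsSaturated p) {P : Subgroup Ω} (hP : F.IsEssential p P)
    (hPA : P ≠ A) :
    ∃ y ∈ P, y ∉ A ∧ Nat.card ↥(lineS S) = p ∧
      (P ⊓ A = ctrS S ∨ P ⊓ A = secondS S ⊓ A) := by
  have hS := H.pgroup
  have hPS := hP.1.1
  have hZP := ctr_le_centric hP.1
  have hnle : ¬ P ≤ A := fun h => hPA (le_antisymm h fun a ha => centric_centralizer_le hP.1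
    (mem_centralizerIn.mpr ⟨H.le ha, fun e he => by
      rw [cj_apply, mul_inv_eq_iff_eq_mul]
      exact H.comm a ha e (h he)⟩))
  by_cases hab : ∀ u ∈ P, ∀ v ∈ P, u * v = v * u
  · obtain ⟨⟨y, hy, hyA⟩, -, hEA, -⟩ := H.abelian_essential_structure hP hab hnle
    obtain ⟨α, hα, hmov⟩ := H.exists_moving hF hP hab hnle
    obtain ⟨l₀, -, hl₀o, hline, -⟩ := H.abelian_essential hF hP hab hnle hα hmov
    refine ⟨y, hy, hyA, by rw [hline, Nat.card_zpowers, hl₀o], Or.inl ?_⟩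
    exact le_antisymm (fun a ha => hEA a ha.1 ha.2) (le_inf hZP H.ctr_le)
  push Not at hab
  have : Finite P := finite_of_le hPS
  -- an element of `A` normalising `P` from outside
  obtain ⟨a₀, ha₀, ha₀n, ha₀P⟩ :
      ∃ a ∈ A, a ∈ Subgroup.normalizer (P : Set Ω) ∧ a ∉ P := by
    obtain ⟨g, hg, hgP⟩ := SetLike.exists_of_lt (normalizerIn_gt hS (essential_lt hS hF hP))
    obtain ⟨hgS, hgn⟩ := mem_normalizerIn.1 hg
    obtain ⟨y, hy, hyA⟩ := SetLike.not_le_iff_exists.1 hnle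
    obtain ⟨a, ha, k, rfl⟩ := H.decomp (hPS hy) hyA hgS
    exact ⟨a, ha, (Subgroup.mul_mem_cancel_right _ (Subgroup.zpow_mem _
      (Subgroup.le_normalizer hy) k)).1 hgn, fun h => hgP (P.mul_mem h (P.zpow_mem hy k))⟩
  obtain ⟨α, hα, n, hn, hnA⟩ : ∃ α ∈ F.autGroup P, ∃ n ∈ P ⊓ A, autFun α n ∉ A := by
    by_contra hno
    push Not at hno
    let W : ℕ → Subgroup Ω := fun i => if i = 0 then ⊥ else if i = 1 then P ⊓ A else P
    refine ha₀P (mem_of_stabilizing hS hP.1 (essential_radical hS hP) 2 W ?_ (by simp [W])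
      (by simp [W]) (mem_normalizerIn.2 ⟨H.le ha₀, ha₀n⟩) fun i hi y hy hyW => ?_)
    · intro β hβ i y hy hyW
      by_cases h0 : i = 0
      · simp only [W, h0, if_true, Subgroup.mem_bot] at hyW ⊢
        rw [hyW]
        exact (isMor_autFun hPS hβ).map_one
      by_cases h1 : i = 1
      · simp only [W, h1, one_ne_zero, if_false, if_true] at hyW ⊢
        exact ⟨autFun_mem β hy, hno β hβ y hyW⟩
      · simp only [W, h0, h1, if_false]
        exact autFun_mem β hy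
    · interval_cases i
      · simp only [W, Nat.zero_add, one_ne_zero, if_false, if_true] at hyW ⊢
        rw [cj_apply, H.comm a₀ ha₀ y hyW.2, mul_inv_cancel_right, inv_mul_cancel]
        exact Subgroup.one_mem _
      · simp only [W, one_ne_zero, if_false, if_true]
        refine ⟨P.mul_mem (P.inv_mem hy) ((Subgroup.mem_normalizer_iff.1 ha₀n y).1 hy),
          H.commutator_le ?_⟩
        have := Subgroup.commutator_mem_commutator (S.inv_mem (hPS hy)) (H.le ha₀)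
        rwa [show ⁅y⁻¹, a₀⁆ = y⁻¹ * cj a₀ y by simp [commutatorElement_def, cj, mul_assoc]] at this
  have hm := isMor_autFun hPS hα
  set y := autFun α n with hydef
  have hyP : y ∈ P := autFun_mem α hn.1
  have hyS : y ∈ S := hPS hyP
  have hnaP : ∃ u ∈ P, ∃ v ∈ P, u * v ≠ v * u := hab
  -- the image of `P ∩ A` meets `A` in the centre
  have hin : ∀ c ∈ P, c ∈ A → (∃ b ∈ P ⊓ A, autFun α b = c) → c ∈ ctrS S := by
    rintro c hcP hcA ⟨b, hb, rfl⟩
    refine H.mem_ctr hcA hyS hnA ?_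
    rw [hydef, ← hm.map_mul hb.1 hn.1, ← hm.map_mul hn.1 hb.1, H.comm b hb.2 n hn.2]
  have hαinv : ∀ z ∈ ctrS S, autFun α⁻¹ z ∈ ctrS S := fun z hz =>
    H.img_ctr hP.1 hnaP (isMor_autFun hPS (Subgroup.inv_mem _ hα)) hz
  have hbn : ∀ b ∈ P ⊓ A, ∃ z ∈ ctrS S, ∃ k : ℤ, b = z * n ^ k := by
    intro b hb
    obtain ⟨c, hc, k, hck⟩ := H.decomp hyS hnA (hPS (autFun_mem α hb.1))
    have hcP : c ∈ P :=
      (Subgroup.mul_mem_cancel_right P (P.zpow_mem hyP k)).1 (hck ▸ autFun_mem α hb.1)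
    have hcb : autFun α (b * (n ^ k)⁻¹) = c := by
      rw [hm.map_mul hb.1 (P.inv_mem (P.zpow_mem hn.1 k)), hm.map_inv (P.zpow_mem hn.1 k),
        hm.map_zpow hn.1, ← hydef, hck, mul_inv_cancel_right]
    have hcZ := hin c hcP hc ⟨_, (P ⊓ A).mul_mem hb ((P ⊓ A).inv_mem ((P ⊓ A).zpow_mem hn k)),
      hcb⟩
    refine ⟨autFun α⁻¹ c, hαinv c hcZ, k, ?_⟩
    rw [← hcb, autFun_inv_left α (P.mul_mem hb.1 (P.inv_mem (P.zpow_mem hn.1 k))),
      inv_mul_cancel_right]
  -- commutators of `P ∩ A` with `y` are central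
  have hcom : ∀ b ∈ P ⊓ A, b * y * b⁻¹ * y⁻¹ ∈ ctrS S := by
    intro b hb
    refine hin _ (P.mul_mem (P.mul_mem (P.mul_mem hb.1 hyP) (P.inv_mem hb.1)) (P.inv_mem hyP))
      (H.dmem hyS hb.2) ?_
    -- the image of a normal subgroup is normal
    have hconj : autFun α⁻¹ b * n * (autFun α⁻¹ b)⁻¹ ∈ P ⊓ A :=
      ⟨P.mul_mem (P.mul_mem (autFun_mem _ hb.1) hn.1) (P.inv_mem (autFun_mem _ hb.1)),
        H.conj_mem (hPS (autFun_mem _ hb.1)) hn.2⟩
    refine ⟨_, (P ⊓ A).mul_mem hconj ((P ⊓ A).inv_mem hn), ?_⟩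
    rw [hm.map_mul hconj.1 (P.inv_mem hn.1), hm.map_conj (autFun_mem _ hb.1) hn.1,
      hm.map_inv hn.1, autFun_inv_right α hb.1]
  set l := n * y * n⁻¹ * y⁻¹ with hl
  have hlZ : l ∈ ctrS S := hcom n hn
  have hlp : l ^ p = 1 := by
    have h1 := H.pow_comm hyS hlZ (p : ℤ)
    rw [zpow_natCast, zpow_natCast, H.comm n hn.2 _ (H.pow_mem hyS), mul_inv_cancel_right] at h1
    exact mul_eq_right.1 h1.symm
  have hl1 : l ≠ 1 := fun h => by
    have hnZ : n ∈ ctrS S := H.mem_ctr hn.2 hyS hnA (mul_inv_eq_iff_eq_mul.1 (mul_inv_eq_one.1 h))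
    exact hnA (H.ctr_le (H.img_ctr hP.1 hnaP hm hnZ))
  -- `Z₂(S) ∩ A` lies in `P`
  have hWP : secondS S ⊓ A ≤ P := by
    rintro a ⟨haW, haA⟩
    have hnorm : ∀ a, a ∈ secondS S → a ∈ A → ∀ u ∈ P, cj a u ∈ P := by
      intro a haW haA u hu
      have h1 := (mem_secondS.1 haW).2 u (hPS hu)
      have : cj a u = (a * u * a⁻¹ * u⁻¹) * u := by rw [cj_apply, inv_mul_cancel_right]
      rw [this]
      exact P.mul_mem (hZP h1) hu
    have han : a ∈ Subgroup.normalizer (P : Set Ω) := by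
      rw [Subgroup.mem_normalizer_iff]
      refine fun u => ⟨fun hu => hnorm a haW haA u hu, fun hu => ?_⟩
      have := hnorm a⁻¹ ((secondS S).inv_mem haW) (A.inv_mem haA) _ hu
      simpa [cj, mul_assoc] using this
    let W : ℕ → Subgroup Ω := fun i => if i = 0 then ⊥ else if i = 1 then ctrS S else P
    refine mem_of_stabilizing hS hP.1 (essential_radical hS hP) 2 W ?_ (by simp [W])
      (by simp [W]) (mem_normalizerIn.2 ⟨H.le haA, han⟩) fun i hi u hu huW => ?_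
    · intro β hβ i u hu huW
      by_cases h0 : i = 0
      · simp only [W, h0, if_true, Subgroup.mem_bot] at huW ⊢
        rw [huW]
        exact (isMor_autFun hPS hβ).map_one
      by_cases h1 : i = 1
      · simp only [W, h1, one_ne_zero, if_false, if_true] at huW ⊢
        exact H.img_ctr hP.1 hnaP (isMor_autFun hPS hβ) huW
      · simp only [W, h0, h1, if_false]
        exact autFun_mem β hu
    · interval_cases i
      · simp only [W, Nat.zero_add, one_ne_zero, if_false, if_true] at huW ⊢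
        rw [cj_apply, (mem_ctrS.1 huW).2 a (H.le haA), mul_inv_cancel_right, inv_mul_cancel]
        exact Subgroup.one_mem _
      · simp only [W, one_ne_zero, if_false, if_true]
        have h1 := (mem_secondS.1 haW).2 u (hPS hu)
        rw [cj_apply, show u⁻¹ * (a * u * a⁻¹) = u⁻¹ * (a * u * a⁻¹ * u⁻¹) * u by group,
          (mem_ctrS.1 h1).2 u⁻¹ (S.inv_mem (hPS hu)), inv_mul_cancel_right]
        exact h1
  have hNW : P ⊓ A = secondS S ⊓ A :=
    le_antisymm (fun b hb => ⟨(H.second_mem_iff hyS hnA hb.2).2 (hcom b hb), hb.2⟩)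
      (le_inf hWP inf_le_right)
  refine ⟨y, hyP, hnA, ?_, Or.inr hNW⟩
  have hline : lineS S = Subgroup.zpowers l := by
    rw [← H.dImg_second hyS hnA, ← hNW]
    refine le_antisymm (fun c hc => ?_) (Subgroup.zpowers_le.2 (H.mem_dImg.2 ⟨n, hn, hn.2, rfl⟩))
    obtain ⟨b, hb, hbA, rfl⟩ := H.mem_dImg.1 hc
    obtain ⟨z, hz, k, rfl⟩ := hbn b hb
    refine Subgroup.mem_zpowers_iff.2 ⟨k, ?_⟩
    have h1 := congrArg Subtype.val
      (map_zpow (H.dHom hyS) ⟨n, hn.2⟩ k)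
    have h2 : n ^ k * y * (n ^ k)⁻¹ * y⁻¹ = l ^ k := h1
    rw [← h2, show z * n ^ k * y * (z * n ^ k)⁻¹ * y⁻¹
      = z * (n ^ k * y * (n ^ k)⁻¹) * z⁻¹ * y⁻¹ by group,
      ← (mem_ctrS.1 hz).2 _ (S.mul_mem (S.mul_mem (S.zpow_mem (hPS hn.1) k) hyS)
        (S.inv_mem (S.zpow_mem (hPS hn.1) k))), mul_inv_cancel_right]
  rw [hline, Nat.card_zpowers, orderOf_eq_prime hlp hl1]

/-- With a unique abelian subgroup of index `p`, the second centre lies in it. -/
theorem Setup.second_le (huniq : ∀ B : Subgroup Ω, Setup p S B → B = A)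
    (hline : Nat.card ↥(lineS S) = p) : secondS S ≤ A := by
  intro w hw
  by_contra hwA
  obtain ⟨hwS, hwc⟩ := mem_secondS.1 hw
  have hS'Z : ⁅S, S⁆ ≤ ctrS S := fun c hc => by
    obtain ⟨a, ha, rfl⟩ := H.commutator_eq hwS hwA hc
    have h1 := Subgroup.inv_mem _ (hwc a (H.le ha))
    rwa [show (w * a * w⁻¹ * a⁻¹)⁻¹ = a * w * a⁻¹ * w⁻¹ by group] at h1
  have hA : Nat.card A = Nat.card ↥(ctrS S) * p := by
    rw [H.card_eq_mul hwS hwA le_rfl, H.dImg_self hwS hwA, inf_eq_right.2 H.ctr_le, ← hline,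
      lineS, inf_eq_right.2 hS'Z]
  have hidx : ((ctrS S).subgroupOf S).index = p ^ 2 := by
    have h1 := ((ctrS S).subgroupOf S).card_mul_index
    have h2 := (A.subgroupOf S).card_mul_index
    rw [Nat.card_congr (Subgroup.subgroupOfEquivOfLe (inf_le_left : ctrS S ≤ S)).toEquiv] at h1
    rw [Nat.card_congr (Subgroup.subgroupOfEquivOfLe H.le).toEquiv, H.index, hA] at h2
    have : Finite ↥(ctrS S) := finite_of_le inf_le_left
    refine Nat.eq_of_mul_eq_mul_left (Nat.card_pos (α := ↥(ctrS S))) ?_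
    rw [h1, ← h2]
    ring
  have K : SmallIdx p S := ⟨H.pgroup, H.nonab, hidx⟩
  exact hwA (huniq _ (K.setup hwS fun h => hwA (H.ctr_le h)) ▸
    (le_sup_right : Subgroup.zpowers w ≤ ctrS S ⊔ _) (Subgroup.mem_zpowers w))

/-- An essential subgroup other than `A` has index `p` in its normaliser. -/
theorem Setup.normalizer_index {P : Subgroup Ω} (hS : IsPGroup p S) (hF : F.IsSaturated p)
    (hP : F.IsEssential p P) {y : Ω} (hy : y ∈ P) (hyA : y ∉ A)
    (hline : Nat.card ↥(lineS S) = p)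
    (hshape : P ⊓ A = ctrS S ∨ P ⊓ A = secondS S ⊓ A) :
    (P.subgroupOf (normalizerIn S P)).index = p := by
  have hPS := hP.1.1
  have hyS := hPS hy
  set Nn := normalizerIn S P with hNn
  set M := Nn ⊓ A with hM
  have : Finite Nn := finite_of_le normalizerIn_le
  have : Finite A := finite_of_le H.le
  -- the commutators with `y` of elements of `M` lie in `P ∩ A`
  have hDM : H.dImg hyS M ≤ P ⊓ A := by
    intro c hc
    obtain ⟨a, ha, haA, rfl⟩ := H.mem_dImg.1 hc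
    exact ⟨P.mul_mem ((Subgroup.mem_normalizer_iff.1 (mem_normalizerIn.1 ha.1).2 y).1 hy)
      (P.inv_mem hy), H.dmem hyS haA⟩
  have hDM' : H.dImg hyS M ≤ ⁅S, S⁆ := by
    rw [← H.dImg_self hyS hyA]
    intro c hc
    obtain ⟨a, -, haA, rfl⟩ := H.mem_dImg.1 hc
    exact H.mem_dImg.2 ⟨a, haA, haA, rfl⟩
  have hcardM : Nat.card M ≤ p * Nat.card ↥(P ⊓ A) := by
    have : Finite ↥(lineS S) := finite_of_le (inf_le_left.trans inf_le_left)
    have : Finite ↥(ctrS S) := finite_of_le inf_le_left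
    rw [H.card_eq_mul hyS hyA inf_le_right]
    rcases hshape with h | h
    · rw [h] at hDM
      calc Nat.card ↥(M ⊓ ctrS S) * Nat.card ↥(H.dImg hyS M)
          ≤ Nat.card ↥(ctrS S) * Nat.card ↥(lineS S) :=
            Nat.mul_le_mul (Subgroup.card_le_of_le inf_le_right)
              (Subgroup.card_le_of_le fun c hc => (⟨hDM hc, hDM' hc⟩ : c ∈ lineS S))
        _ = _ := by rw [h, hline, mul_comm]
    · have h1 : Nat.card ↥(H.dImg hyS M) ≤ p * p := by
        rw [H.card_eq_mul hyS hyA (H.dImg_le hyS M)]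
        refine Nat.mul_le_mul ?_ ?_
        · exact le_trans (Subgroup.card_le_of_le
            fun c hc => (⟨hc.2, hDM' hc.1⟩ : c ∈ lineS S)) hline.le
        · refine le_trans (Subgroup.card_le_of_le (K := lineS S) ?_) hline.le
          rw [← H.dImg_second hyS hyA]
          intro c hc
          obtain ⟨a, ha, haA, rfl⟩ := H.mem_dImg.1 hc
          exact H.mem_dImg.2 ⟨a, h ▸ hDM ha, haA, rfl⟩
      rw [h, H.card_second hyS hyA, hline]
      calc Nat.card ↥(M ⊓ ctrS S) * Nat.card ↥(H.dImg hyS M)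
          ≤ Nat.card ↥(ctrS S) * (p * p) :=
            Nat.mul_le_mul (Subgroup.card_le_of_le inf_le_right) h1
        _ = _ := by ring
  have hPN : P ≤ Nn := le_normalizerIn hPS
  set P' := P.subgroupOf Nn with hP'
  set M' := M.subgroupOf Nn with hM'
  haveI : P'.Normal := ⟨fun u hu g =>
    (Subgroup.mem_normalizer_iff.1 (mem_normalizerIn.1 g.2).2 u).1 hu⟩
  have hsup : M' ⊔ P' = ⊤ := by
    rw [eq_top_iff]
    intro g _
    obtain ⟨a, ha, k, hak⟩ := H.decomp hyS hyA (normalizerIn_le g.2)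
    have haN : a ∈ Nn :=
      (Subgroup.mul_mem_cancel_right Nn (Nn.zpow_mem (hPN hy) k)).1 (hak ▸ g.2)
    have : g = ⟨a, haN⟩ * ⟨y ^ k, Nn.zpow_mem (hPN hy) k⟩ := Subtype.ext hak
    rw [this]
    exact Subgroup.mul_mem_sup (show (⟨a, haN⟩ : Nn) ∈ M' from ⟨haN, ha⟩)
      (P.zpow_mem hy k)
  have hidx : P'.index = (P ⊓ A).relIndex M := by
    rw [← Subgroup.relIndex_top_right, ← hsup, Subgroup.relIndex_sup_right, hP', hM',
      Subgroup.relIndex_subgroupOf (inf_le_left : M ≤ Nn), ← Subgroup.inf_relIndex_right,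
      hM, ← inf_assoc, inf_eq_left.2 hPN]
  have hle : P'.index ≤ p := by
    have hNM : P ⊓ A ≤ M := inf_le_inf_right _ hPN
    have h1 := ((P ⊓ A).subgroupOf M).card_mul_index
    rw [Nat.card_congr (Subgroup.subgroupOfEquivOfLe hNM).toEquiv] at h1
    rw [hidx, Subgroup.relIndex]
    have : Finite ↥(P ⊓ A) := finite_of_le (inf_le_left.trans hPS)
    refine Nat.le_of_mul_le_mul_left ?_ (Nat.card_pos (α := ↥(P ⊓ A)))
    rw [h1, mul_comm (Nat.card ↥(P ⊓ A)) p]
    exact hcardM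
  obtain ⟨k, hk⟩ := (isPGroup_of_le normalizerIn_le hS).index P'
  have hne : P'.index ≠ 1 := fun h =>
    (normalizerIn_gt hS (essential_lt hS hF hP)).not_ge (Subgroup.subgroupOf_eq_top.1
      (Subgroup.index_eq_one.1 h))
  rw [hk] at hle hne ⊢
  rcases k with _ | _ | k
  · exact absurd (pow_zero p) hne
  · exact pow_one p
  · exfalso
    have : p ^ 2 ≤ p ^ (k + 1 + 1) := Nat.pow_le_pow_right hp.1.pos (by omega)
    have h2 := hp.1.two_le
    nlinarith

end CfsgLib.Fusion.AbelianIndexP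

namespace CfsgLib.Fusion.AbelianIndexP

open Cfsg Cfsg.FusionSystem CfsgLib.Fusion
open scoped commutatorElement

universe v

variable {Ω : Type v} [Group Ω] {S A : Subgroup Ω} [Finite S] {p : ℕ} [hp : Fact p.Prime]
  (H : Setup p S A)
include H

/-- If `Z(S) ∩ S'` has order `p` then `Z(S) S'` has index `p` in `A`. -/
theorem Setup.index_sup {x : Ω} (hx : x ∈ S) (hxA : x ∉ A) (hline : Nat.card ↥(lineS S) = p) :
    ((ctrS S ⊔ ⁅S, S⁆).subgroupOf A).index = p := by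
  have : Finite A := finite_of_le H.le
  set L := ctrS S ⊔ ⁅S, S⁆ with hL
  have hLA : L ≤ A := sup_le H.ctr_le H.commutator_le
  have hD : H.dImg hx L = H.dImg hx ⁅S, S⁆ := by
    refine le_antisymm ?_ fun c hc => ?_
    · rintro c hc
      obtain ⟨a, ha, haA, rfl⟩ := H.mem_dImg.1 hc
      have hn : ((⁅S, S⁆).subgroupOf A).Normal := ⟨fun u hu g => by
        rw [show g * u * g⁻¹ = u from by
          rw [mul_inv_eq_iff_eq_mul]
          exact Subtype.ext (H.comm g g.2 u u.2)]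
        exact hu⟩
      have ha' : (⟨a, haA⟩ : A) ∈ (ctrS S).subgroupOf A ⊔ (⁅S, S⁆).subgroupOf A := by
        rw [← Subgroup.subgroupOf_sup H.ctr_le H.commutator_le]
        exact ha
      rw [← SetLike.mem_coe, Subgroup.mul_normal] at ha'
      obtain ⟨z, hz, w, hw, hzw⟩ := ha'
      refine H.mem_dImg.2 ⟨w, hw, w.2, ?_⟩
      have : (z : Ω) * w = a := congrArg Subtype.val hzw
      have hzc : ((w : Ω) * x * (w : Ω)⁻¹) * (z : Ω) = (z : Ω) * ((w : Ω) * x * (w : Ω)⁻¹) :=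
        (mem_ctrS.1 hz).2 _ (S.mul_mem (S.mul_mem (H.le w.2) hx) (S.inv_mem (H.le w.2)))
      rw [← this, show (z : Ω) * w * x * ((z : Ω) * w)⁻¹ * x⁻¹
        = (z : Ω) * ((w : Ω) * x * (w : Ω)⁻¹) * (z : Ω)⁻¹ * x⁻¹ by group,
        ← hzc,
        mul_inv_cancel_right]
    · obtain ⟨a, ha, haA, rfl⟩ := H.mem_dImg.1 hc
      exact H.mem_dImg.2 ⟨a, Subgroup.mem_sup_right ha, haA, rfl⟩
  have h1 : Nat.card L = Nat.card ↥(ctrS S) * Nat.card ↥(H.dImg hx ⁅S, S⁆) := by
    rw [H.card_eq_mul hx hxA hLA, hD, inf_eq_right.2 (le_sup_left : ctrS S ≤ L)]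
  have h2 : Nat.card A = Nat.card L * p := by
    rw [H.card_eq_mul hx hxA le_rfl, H.dImg_self hx hxA, inf_eq_right.2 H.ctr_le,
      H.card_eq_mul hx hxA H.commutator_le, h1, inf_comm ⁅S, S⁆, show ctrS S ⊓ ⁅S, S⁆ = lineS S
        from rfl, hline]
    ring
  have h3 := (L.subgroupOf A).card_mul_index
  rw [Nat.card_congr (Subgroup.subgroupOfEquivOfLe hLA).toEquiv, h2] at h3
  have : Finite L := finite_of_le (hLA.trans H.le)
  exact Nat.eq_of_mul_eq_mul_left Nat.card_pos h3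

/-- If `Z(S) ∩ S'` has order `p` then `S / Z(S)` has maximal class. -/
theorem Setup.maximal_mod_ctr {x : Ω} (hx : x ∈ S) (hxA : x ∉ A)
    (hline : Nat.card ↥(lineS S) = p) {m : ℕ} (hm : ((ctrS S).subgroupOf S).index = p ^ m)
    (h3 : 3 ≤ m) : ¬ Subgroup.lowerCentralSeries S (m - 2) ≤ ctrS S := by
  intro hle
  have : Finite A := finite_of_le H.le
  have : Finite ↥(ctrS S) := finite_of_le inf_le_left
  let D : ℕ → Subgroup Ω := fun i => Nat.rec A (fun _ L => H.dImg hx L) i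
  have hDA : ∀ i, D i ≤ A := fun i => by
    cases i with
    | zero => exact le_rfl
    | succ i => exact H.dImg_le hx _
  have hDl : ∀ i, D i ≤ Subgroup.lowerCentralSeries S i := by
    intro i
    induction i with
    | zero =>
      rw [Subgroup.lowerCentralSeries_zero]
      exact H.le
    | succ i ih =>
      intro c hc
      obtain ⟨a, ha, -, rfl⟩ := H.mem_dImg.1 hc
      rw [Subgroup.lowerCentralSeries_succ]
      have := Subgroup.commutator_mem_commutator (ih ha) hx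
      rwa [commutatorElement_def] at this
  have h1 : Nat.card ↥(D 1) * p = p ^ m := by
    rw [← hm]
    have e1 := ((ctrS S).subgroupOf S).card_mul_index
    have e2 := (A.subgroupOf S).card_mul_index
    rw [Nat.card_congr (Subgroup.subgroupOfEquivOfLe (inf_le_left : ctrS S ≤ S)).toEquiv] at e1
    rw [Nat.card_congr (Subgroup.subgroupOfEquivOfLe H.le).toEquiv, H.index,
      H.card_eq_mul hx hxA le_rfl, inf_eq_right.2 H.ctr_le, ← e1, mul_assoc] at e2
    exact Nat.eq_of_mul_eq_mul_left (Nat.card_pos (α := ↥(ctrS S))) e2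
  have hD1 : ∀ i, D (i + 1) ≤ ⁅S, S⁆ := by
    intro i
    rw [← H.dImg_self hx hxA]
    intro c hc
    obtain ⟨a, -, haA, rfl⟩ := H.mem_dImg.1 hc
    exact H.mem_dImg.2 ⟨a, haA, haA, rfl⟩
  have hline' : Finite ↥(lineS S) := finite_of_le (inf_le_left.trans inf_le_left)
  have hstep : ∀ i, Nat.card ↥(D (i + 1)) ≤ p * Nat.card ↥(D (i + 1 + 1)) := by
    intro i
    rw [H.card_eq_mul hx hxA (hDA (i + 1))]
    exact Nat.mul_le_mul_right _ (le_trans (Subgroup.card_le_of_le (K := lineS S)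
      fun c hc => (⟨hc.2, hD1 i hc.1⟩ : c ∈ lineS S)) hline.le)
  have hlow : ∀ j, p ^ m ≤ p ^ (j + 1) * Nat.card ↥(D (j + 1)) := by
    intro j
    induction j with
    | zero => rw [Nat.zero_add, pow_one, mul_comm, h1]
    | succ j ih =>
      refine ih.trans ?_
      rw [pow_succ p (j + 1), mul_assoc]
      exact Nat.mul_le_mul_left _ (hstep j)
  have hsmall : Nat.card ↥(D (m - 3 + 1)) ≤ p := by
    refine le_trans (Subgroup.card_le_of_le (K := lineS S) fun c hc =>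
      (⟨hle ?_, hD1 _ hc⟩ : c ∈ lineS S)) hline.le
    have := hDl (m - 3 + 1) hc
    rwa [show m - 3 + 1 = m - 2 by omega] at this
  have h4 := (hlow (m - 3)).trans (Nat.mul_le_mul_left _ hsmall)
  rw [← pow_succ, Nat.pow_le_pow_iff_right hp.1.one_lt] at h4
  omega

end CfsgLib.Fusion.AbelianIndexP
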