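import Cfsg.Agent.Lib.LocalEven.OrbitProd
import Cfsg.Agent.Lib.PLocal.Replacement
import Cfsg.Agent.Lib.Fusion.Invariant
import Cfsg.Agent.Lib.LocalEven.S4Section

/-! Abelian subgroups of largest order centralize the conjugates of the `p`-th powers of central
elements lying in an abelian normal subgroup. -/
set_option autoImplicit false

namespace CfsgLib.AgemoFactor

open Cfsg CfsgLib.LocalEven
open scoped commutatorElement IsMulCommutative

universe u

variable {G : Type u} [Group G] [Finite G] {p : ℕ}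

/-- An element of order prime to `p` fixing the elements of order `p` of an abelian normal
`p`-subgroup centralizes it. -/
theorem coprime_fixes_of_omega [Fact p.Prime] {W : Subgroup G} [W.Normal] [IsMulCommutative W]
    (hW : IsPGroup p W) {y : G} {m : ℕ} (hm : y ^ m = 1) (hcop : m.Coprime p)
    (hfix : ∀ v : W, v ^ p = 1 → MulAut.conjNormal y v = v) (v : W) :
    MulAut.conjNormal y v = v := by
  obtain ⟨k, hk⟩ := hW v
  induction k generalizing v with
  | zero => rw [pow_zero, pow_one] at hk; rw [hk, map_one]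
  | succ k ih =>
    have h1 := ih (v ^ p) (by rw [← pow_mul, ← pow_succ']; exact hk)
    set t := MulAut.conjNormal y v * v⁻¹ with ht
    have htp : t ^ p = 1 := by rw [mul_pow, ← map_pow, h1, inv_pow, mul_inv_cancel]
    have htm : t ^ m = 1 := by
      have h2 := conjNormal_pow_apply (b := y) (u := v) (t := t)
        (by rw [ht, inv_mul_cancel_right]) (hfix t htp) m
      rw [hm, map_one, MulAut.one_apply] at h2
      exact right_eq_mul.mp h2
    have := Nat.dvd_gcd (orderOf_dvd_of_pow_eq_one htm) (orderOf_dvd_of_pow_eq_one htp)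
    rw [hcop.gcd_eq_one, Nat.dvd_one, orderOf_eq_one_iff, mul_inv_eq_one] at this
    exact this

variable [hp : Fact p.Prime]

/-- A normal subgroup that is a `p`-group modulo the centralizer of the normal closure of an
element centralized by a Sylow subgroup lies in that centralizer. -/
theorem le_centralizer_normalClosure (R : Sylow p G) {z : G}
    (hz : (R : Subgroup G) ≤ Subgroup.centralizer {z}) {N : Subgroup G} [hN : N.Normal]
    (h : ∀ n ∈ N, ∃ k : ℕ, n ^ p ^ k ∈
      Subgroup.centralizer ((Subgroup.normalClosure {z} : Subgroup G) : Set G)) :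
    N ≤ Subgroup.centralizer ((Subgroup.normalClosure {z} : Subgroup G) : Set G) := by
  set C := Subgroup.centralizer ((Subgroup.normalClosure {z} : Subgroup G) : Set G)
  set P := (R : Subgroup G) ⊓ N with hP
  have hsyl : CfsgLib.Fusion.IsSylIn p P N := CfsgLib.Fusion.isSylIn_inf
    (⟨le_top, R.2, fun C hC hle _ => R.3 hC hle⟩ : CfsgLib.Fusion.IsSylIn p (R : Subgroup G) ⊤)
    le_top fun b _ n hn => hN.conj_mem n hn b
  obtain ⟨Q, hQ⟩ := (CfsgLib.Fusion.exists_sylow_iff inf_le_right).2 hsyl
  have hcop : ¬ p ∣ P.relIndex N := by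
    show ¬ p ∣ (P.subgroupOf N).index
    rw [← hQ]; exact Q.not_dvd_index
  have hquot : IsPGroup p (↥N ⧸ C.subgroupOf N) := by
    intro x
    induction x using QuotientGroup.induction_on with
    | _ x =>
      obtain ⟨k, hk⟩ := h x x.2
      exact ⟨k, by
        rw [← QuotientGroup.mk_pow, QuotientGroup.eq_one_iff]
        exact Subgroup.mem_subgroupOf.mpr (by rw [SubmonoidClass.coe_pow]; exact hk)⟩
  obtain ⟨k, hk⟩ := IsPGroup.iff_card.mp hquot
  have h1 : (C ⊔ P).relIndex N ∣ p ^ k := by
    rw [← hk, ← Subgroup.index_eq_card]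
    exact Subgroup.relIndex_dvd_of_le_left N le_sup_left
  have h2 : (C ⊔ P).relIndex N ∣ P.relIndex N := Subgroup.relIndex_dvd_of_le_left N le_sup_right
  have h3 : (C ⊔ P).relIndex N = 1 := by
    obtain ⟨j, -, hj⟩ := (Nat.dvd_prime_pow hp.out).1 h1
    rcases j with _ | j
    · rw [hj, pow_zero]
    · exact absurd ((hj ▸ dvd_pow_self p (Nat.succ_ne_zero j)).trans h2) hcop
  have hNz : N ≤ Subgroup.centralizer ({z} : Set G) := (Subgroup.relIndex_eq_one.mp h3).trans
    (sup_le (Subgroup.centralizer_le (Subgroup.subset_normalClosure)) (inf_le_left.trans hz))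
  refine Subgroup.le_centralizer_iff.mp ?_
  refine (Subgroup.normalClosure_le_normal (N := Subgroup.centralizer (N : Set G)) ?_)
  exact Set.singleton_subset_iff.mpr fun n hn => Subgroup.mem_centralizer_singleton_iff.mp (hNz hn)

/-- The normal closure of the `p`-th power is centralized by the elements acting quadratically. -/
theorem quadratic_mem (R : Sylow p G) {z : G} (hz : (R : Subgroup G) ≤ Subgroup.centralizer {z})
    (hc : IsMulCommutative (Subgroup.normalClosure ({z} : Set G)))
    (hWp : IsPGroup p (Subgroup.normalClosure ({z} : Set G))) {a : G}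
    (hquad : ∀ v : Subgroup.normalClosure ({z} : Set G),
      MulAut.conjNormal a (MulAut.conjNormal a v * v⁻¹) = MulAut.conjNormal a v * v⁻¹) :
    a ∈ Subgroup.centralizer ((Subgroup.normalClosure {z ^ p} : Subgroup G) : Set G) := by
  set W := Subgroup.normalClosure ({z} : Set G) with hW
  set C := Subgroup.centralizer (W : Set G) with hC
  -- the kernel of the action on the elements of order `p`
  let N : Subgroup G :=
    { carrier := {g | ∀ v : W, v ^ p = 1 → MulAut.conjNormal g v = v}
      one_mem' := fun v _ => by rw [map_one, MulAut.one_apply]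
      mul_mem' := fun {g g'} hg hg' v hv => by rw [map_mul, MulAut.mul_apply, hg' v hv, hg v hv]
      inv_mem' := fun {g} hg v hv => by
        rw [map_inv, MulAut.inv_apply, MulEquiv.symm_apply_eq, hg v hv] }
  have hNn : N.Normal := ⟨fun n hn g v hv => by
    have h1 := hn (MulAut.conjNormal g⁻¹ v) (by rw [← map_pow, hv, map_one])
    rw [map_mul, map_mul, MulAut.mul_apply, MulAut.mul_apply, h1, ← MulAut.mul_apply, ← map_mul,
      mul_inv_cancel, map_one, MulAut.one_apply]⟩
  have hmemC : ∀ g : G, (∀ v : W, MulAut.conjNormal g v = v) → g ∈ C := fun g hg w hw =>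
    (Subgroup.mem_centralizer_singleton_iff.1 (conjNormal_eq_self_iff.1 (hg ⟨w, hw⟩))).symm
  have hNC : N ≤ C := le_centralizer_normalClosure R hz fun n hn => by
    obtain ⟨k, m, hm, hord⟩ := Nat.exists_eq_pow_mul_and_not_dvd (orderOf_pos n).ne' p hp.out.ne_one
    refine ⟨k, hmemC _ (coprime_fixes_of_omega hWp (m := m) ?_ ?_ (N.pow_mem hn _))⟩
    · rw [← pow_mul, ← hord, pow_orderOf_eq_one]
    · exact (hp.out.coprime_iff_not_dvd.mpr hm).symm
  have hap : a ^ p ∈ N := fun v hv => by
    rw [conjNormal_pow_apply (inv_mul_cancel_right _ v).symm (hquad v), mul_pow, ← map_pow, hv,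
      map_one, inv_pow, hv, inv_one, mul_one, one_mul]
  have hfix : ∀ v : W, MulAut.conjNormal a (v ^ p) = v ^ p := fun v => by
    have h1 := conjNormal_pow_apply (inv_mul_cancel_right _ v).symm (hquad v) p
    have h2 : MulAut.conjNormal (a ^ p) v = v := conjNormal_eq_self_iff.2
      (Subgroup.mem_centralizer_singleton_iff.2 (hNC hap v v.2).symm)
    rw [h2, right_eq_mul, mul_pow, ← map_pow, inv_pow, mul_inv_eq_one] at h1
    exact h1
  have hle : Subgroup.normalClosure ({z ^ p} : Set G) ≤ Subgroup.centralizer ({a} : Set G) := by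
    refine (Subgroup.closure_le _).mpr fun x hx => ?_
    obtain ⟨y, hy, hyx⟩ := Group.mem_conjugatesOfSet_iff.mp hx
    obtain ⟨g, rfl⟩ := isConj_iff.mp hyx
    rw [Set.mem_singleton_iff] at hy
    subst hy
    have hmem : g * z * g⁻¹ ∈ W :=
      Subgroup.normalClosure_normal.conj_mem z (Subgroup.subset_normalClosure (Set.mem_singleton z)) g
    have h3 := Subgroup.mem_centralizer_singleton_iff.1 (conjNormal_eq_self_iff.1 (hfix ⟨_, hmem⟩))
    rw [SubmonoidClass.coe_pow, conj_pow] at h3
    exact Subgroup.mem_centralizer_singleton_iff.2 h3.symm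
  exact fun x hx => Subgroup.mem_centralizer_singleton_iff.1 (hle hx)

/-- The inductive statement. -/
theorem maxAb_centralizes_aux (n : ℕ) : ∀ (G : Type u) [Group G] [Finite G], Nat.card G = n →
    ∀ (R : Sylow p G) (W : Subgroup G), W.Normal → IsMulCommutative W → W ≤ (R : Subgroup G) →
      ∀ z ∈ W, (R : Subgroup G) ≤ Subgroup.centralizer {z} →
      ∀ A ∈ maxAb (R : Subgroup G), ∀ g : G, A ≤ Subgroup.centralizer ({g * z ^ p * g⁻¹} : Set G) := by
  induction n using Nat.strong_induction_on with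
  | _ n IH =>
  intro G _ _ hn R W hWn hWc hWR z hzW hz A hA g
  set V := Subgroup.normalClosure ({z} : Set G) with hVdef
  have hVW : V ≤ W := Subgroup.normalClosure_le_normal (Set.singleton_subset_iff.mpr hzW)
  have hVc : IsMulCommutative V := isMulCommutative_of_le_centralizer
    ((hVW.trans (le_centralizer_of_isMulCommutative hWc)).trans (Subgroup.centralizer_le hVW))
  have hVp : IsPGroup p V := R.2.to_le (hVW.trans hWR)
  set K := Subgroup.centralizer ((Subgroup.normalClosure ({z ^ p} : Set G) : Subgroup G) : Set G)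
    with hK
  have hKfix : ∀ k ∈ K, k * z ^ p * k⁻¹ = z ^ p := fun k hk => mul_inv_eq_iff_eq_mul.mpr
    (hk (z ^ p) (Subgroup.subset_normalClosure rfl)).symm
  set R₀ := (R : Subgroup G) ⊓ K with hR₀
  set L := Subgroup.normalizer (R₀ : Set G) with hL
  have hRL : (R : Subgroup G) ≤ L := fun r hr => mem_normalizer_of_conj_mem fun y hy =>
    ⟨(R : Subgroup G).mul_mem ((R : Subgroup G).mul_mem hr hy.1) ((R : Subgroup G).inv_mem hr),
      (inferInstance : K.Normal).conj_mem y hy.2 r⟩
  by_cases hLtop : L = ⊤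
  · -- the quadratic elements act trivially
    have hR₀n : R₀.Normal := Subgroup.normalizer_eq_top_iff.1 hLtop
    have hR₀C : R₀ ≤ Subgroup.centralizer (V : Set G) := le_centralizer_normalClosure R hz
      fun x hx => by
        obtain ⟨k, hk⟩ := R.2 ⟨x, hx.1⟩
        refine ⟨k, ?_⟩
        rw [show x ^ p ^ k = 1 from congrArg Subtype.val hk]
        exact Subgroup.one_mem _
    obtain ⟨hAR, hAc, -⟩ := mem_maxAb.1 hA
    have hAV : A ≤ Subgroup.normalizer (V : Set G) := fun a _ => mem_normalizer_of_conj_mem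
      fun y hy => Subgroup.normalClosure_normal.conj_mem y hy a
    suffices hAC : A ≤ Subgroup.centralizer (V : Set G) by
      intro a ha
      refine Subgroup.mem_centralizer_singleton_iff.2 (hAC ha _ ?_).symm
      exact Subgroup.normalClosure_normal.conj_mem _
        (V.pow_mem (Subgroup.subset_normalClosure rfl) p) g
    by_contra hne
    have hab : ⁅A, A⁆ ≤ Subgroup.centralizer (V : Set G) := by
      rw [Subgroup.commutator_eq_bot_iff_le_centralizer.2 (le_centralizer_of_isMulCommutative hAc)]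
      exact bot_le
    have hB := CfsgLib.PLocal.replacement_nontrivial (V := V) (A := A) hVc hVp hAV hab
      (fun a ha => by
        obtain ⟨k, hk⟩ := R.2 ⟨a, hAR ha⟩
        refine ⟨k, ?_⟩
        rw [show a ^ p ^ k = 1 from congrArg Subtype.val hk]
        exact Subgroup.one_mem _)
      (fun X hX => card_offender hA hVc (hVW.trans hWR) hX) (le_refl V)
      (fun h => hne (Subgroup.le_centralizer_iff.1
        (Subgroup.commutator_eq_bot_iff_le_centralizer.1 h)))
    refine hB (Subgroup.commutator_eq_bot_iff_le_centralizer.2 (Subgroup.le_centralizer_iff.1 ?_))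
    rintro a ⟨haA, hac⟩
    refine hR₀C ⟨hAR haA, quadratic_mem R hz hVc hVp fun v => ?_⟩
    refine conjNormal_eq_self_iff.2 (Subgroup.mem_centralizer_singleton_iff.2 (hac _ ?_).symm)
    rw [Subgroup.coe_mul, Subgroup.coe_inv, MulAut.conjNormal_apply, Subgroup.commutator_comm]
    simpa [commutatorElement_def] using Subgroup.commutator_mem_commutator haA v.2
  · -- Frattini argument and induction
    have hsyl : CfsgLib.Fusion.IsSylIn p R₀ K := CfsgLib.Fusion.isSylIn_inf
      (⟨le_top, R.2, fun C hC hle _ => R.3 hC hle⟩ : CfsgLib.Fusion.IsSylIn p (R : Subgroup G) ⊤)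
      le_top fun b _ k hk => (inferInstance : K.Normal).conj_mem k hk b
    obtain ⟨Q, hQ⟩ := (CfsgLib.Fusion.exists_sylow_iff inf_le_right).2 hsyl
    have hfr := Sylow.normalizer_sup_eq_top Q
    rw [hQ, Subgroup.map_subgroupOf_eq_of_le inf_le_right] at hfr
    obtain ⟨l, hl, k, hk, rfl⟩ := Subgroup.mem_sup_of_normal_right.mp (hfr.ge (Subgroup.mem_top g))
    have hlt : Nat.card L < n := hn ▸ lt_of_le_of_ne (Subgroup.card_le_card_group _)
      (fun e => hLtop (Subgroup.eq_top_of_card_eq _ e))
    have hWL : W ≤ L := hWR.trans hRL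
    have hmap : (A.subgroupOf L).map L.subtype = A :=
      Subgroup.map_subgroupOf_eq_of_le ((mem_maxAb.1 hA).1.trans hRL)
    have hA' : A.subgroupOf L ∈ maxAb ((R.subtype hRL : Sylow p L) : Subgroup L) := by
      obtain ⟨hAR, hAc, hmax⟩ := mem_maxAb.1 hA
      refine mem_maxAb.2 ⟨fun x hx => hAR hx,
        ⟨⟨fun a b => Subtype.ext (Subtype.ext (CfsgLib.PLocal.comm_of_mem hAc a.2 b.2))⟩⟩,
        fun B hB hBc => ?_⟩
      rw [← Subgroup.card_map_of_injective (K := B) L.subtype_injective,
        ← Subgroup.card_map_of_injective (K := A.subgroupOf L) L.subtype_injective, hmap]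
      refine hmax _ ?_ (isMulCommutative_of_le_centralizer ?_)
      · rintro _ ⟨x, hx, rfl⟩; exact hB hx
      · rintro _ ⟨x, hx, rfl⟩ _ ⟨y, hy, rfl⟩
        exact congrArg Subtype.val (CfsgLib.PLocal.comm_of_mem hBc hy hx)
    have key := IH _ hlt L rfl (R.subtype hRL) (W.subgroupOf L)
      ((Subgroup.normal_subgroupOf_iff_le_normalizer hWL).2 fun x _ =>
        mem_normalizer_of_conj_mem fun y hy => hWn.conj_mem y hy x)
      ⟨⟨fun a b => Subtype.ext (Subtype.ext (CfsgLib.PLocal.comm_of_mem hWc a.2 b.2))⟩⟩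
      (fun x hx => hWR hx) ⟨z, hWL hzW⟩ (Subgroup.mem_subgroupOf.mpr hzW)
      (fun x hx => Subgroup.mem_centralizer_singleton_iff.2
        (Subtype.ext (Subgroup.mem_centralizer_singleton_iff.1 (hz hx))))
      (A.subgroupOf L) hA' ⟨l, hl⟩
    intro a ha
    have h1 := Subgroup.mem_centralizer_singleton_iff.1
      (key (show (⟨a, hRL ((mem_maxAb.1 hA).1 ha)⟩ : L) ∈ A.subgroupOf L from ha))
    refine Subgroup.mem_centralizer_singleton_iff.2 ?_
    rw [show l * k * z ^ p * (l * k)⁻¹ = l * (k * z ^ p * k⁻¹) * l⁻¹ by group, hKfix k hk]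
    exact congrArg Subtype.val h1

/-- Abelian subgroups of largest order of a Sylow subgroup centralize the conjugates of the `p`-th
powers of its central elements that lie in an abelian normal subgroup. -/
theorem maxAb_centralizes (R : Sylow p G) {W : Subgroup G} [W.Normal] (hWc : IsMulCommutative W)
    (hWR : W ≤ (R : Subgroup G)) {z : G} (hzW : z ∈ W)
    (hz : (R : Subgroup G) ≤ Subgroup.centralizer {z}) {A : Subgroup G}
    (hA : A ∈ maxAb (R : Subgroup G)) (g : G) :
    A ≤ Subgroup.centralizer ({g * z ^ p * g⁻¹} : Set G) :=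
  maxAb_centralizes_aux _ G rfl R W inferInstance hWc hWR z hzW hz A hA g

/-- In a group with a self-centralizing largest normal `p`-subgroup the fusion in a Sylow subgroup
is given by the centralizer of the `p`-th powers of its center and the normalizer of its Thompson
subgroup. -/
theorem factorization (R : Sylow p G)
    (hself : Subgroup.centralizer ((pCore p G : Subgroup G) : Set G) ≤ pCore p G) {P : Subgroup G}
    (hPR : P ≤ (R : Subgroup G)) (g : G) (hg : ∀ x ∈ P, g * x * g⁻¹ ∈ (R : Subgroup G)) :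
    ∃ n c : G, g = n * c ∧ n ∈ Subgroup.normalizer (jAb (R : Subgroup G) : Set G) ∧
      (∀ x ∈ P, c * x * c⁻¹ ∈ (R : Subgroup G)) ∧
      ∀ z ∈ (R : Subgroup G) ⊓ Subgroup.centralizer ((R : Subgroup G) : Set G),
        c * z ^ p = z ^ p * c := by
  set Z := (R : Subgroup G) ⊓ Subgroup.centralizer ((R : Subgroup G) : Set G) with hZ
  set Q := Cfsg.pCore p G
  set W := Q ⊓ Subgroup.centralizer (Q : Set G) with hW
  have hQR : Q ≤ (R : Subgroup G) := CfsgLib.Base.pCore_le_sylow R
  have hWc : IsMulCommutative W := isMulCommutative_of_le_centralizer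
    (inf_le_right.trans (Subgroup.centralizer_le inf_le_left))
  have hZW : ∀ z ∈ Z, z ∈ W := fun z hz => ⟨hself fun q hq => hz.2 q (hQR hq),
    fun q hq => hz.2 q (hQR hq)⟩
  set U := Subgroup.normalClosure ((fun z => z ^ p) '' (Z : Set G)) with hU
  set K := Subgroup.centralizer (U : Set G) with hK
  set R₀ := (R : Subgroup G) ⊓ K with hR₀
  have hJK : ∀ A ∈ maxAb (R : Subgroup G), A ≤ R₀ := by
    intro A hA
    refine le_inf (mem_maxAb.1 hA).1 (Subgroup.le_centralizer_iff.1 ?_)
    refine (Subgroup.closure_le _).mpr fun x hx => ?_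
    obtain ⟨y, ⟨z, hz, rfl⟩, hyx⟩ := Group.mem_conjugatesOfSet_iff.mp hx
    obtain ⟨c, rfl⟩ := isConj_iff.mp hyx
    intro a ha
    exact Subgroup.mem_centralizer_singleton_iff.1 (maxAb_centralizes R (W := W) hWc
      (inf_le_left.trans hQR) (hZW z hz)
      (fun r hr => Subgroup.mem_centralizer_singleton_iff.2 (hz.2 r hr)) hA c ha)
  have hJ : jAb R₀ = jAb (R : Subgroup G) := by
    obtain ⟨A, hA⟩ := maxAb_nonempty (R : Subgroup G)
    exact le_antisymm (sSup_le fun B hB => le_jAb ((mem_maxAb_iff_of_le inf_le_left hA (hJK A hA)).1 hB).1)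
      (sSup_le fun B hB => le_jAb ((mem_maxAb_iff_of_le inf_le_left hA (hJK A hA)).2 ⟨hB, hJK B hB⟩))
  have hsyl : CfsgLib.Fusion.IsSylIn p R₀ K := CfsgLib.Fusion.isSylIn_inf
    (⟨le_top, R.2, fun C hC hle _ => R.3 hC hle⟩ : CfsgLib.Fusion.IsSylIn p (R : Subgroup G) ⊤)
    le_top fun b _ k hk => (inferInstance : K.Normal).conj_mem k hk b
  obtain ⟨Q₁, hQ₁⟩ := (CfsgLib.Fusion.exists_sylow_iff inf_le_right).2 hsyl
  have hfr := Sylow.normalizer_sup_eq_top Q₁
  rw [hQ₁, Subgroup.map_subgroupOf_eq_of_le inf_le_right] at hfr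
  obtain ⟨n, hn, c, hc, rfl⟩ := Subgroup.mem_sup_of_normal_right.mp (hfr.ge (Subgroup.mem_top g))
  set H := (K ⊔ P) ⊓ Subgroup.normalizer (R₀ : Set G) with hH
  have hRN : (R : Subgroup G) ≤ Subgroup.normalizer (R₀ : Set G) := fun r hr =>
    mem_normalizer_of_conj_mem fun y hy =>
      ⟨(R : Subgroup G).mul_mem ((R : Subgroup G).mul_mem hr hy.1) ((R : Subgroup G).inv_mem hr),
        (inferInstance : K.Normal).conj_mem y hy.2 r⟩
  have hUR : R₀ ⊔ P ≤ (R : Subgroup G) := sup_le inf_le_left hPR
  have hsylH : CfsgLib.Fusion.IsSylIn p (R₀ ⊔ P) H := by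
    refine ⟨le_inf (sup_le_sup_right inf_le_right _) (hUR.trans hRN), R.2.to_le hUR,
      fun C hC hle hCH => le_antisymm (fun x hx => ?_) hle⟩
    obtain ⟨k, hk, y, hy, rfl⟩ := Subgroup.mem_sup_of_normal_left.mp (hCH hx).1
    have hkC : k ∈ C := by
      simpa using C.mul_mem hx (C.inv_mem (hle (Subgroup.mem_sup_right hy)))
    refine Subgroup.mul_mem _ (Subgroup.mem_sup_left ?_) (Subgroup.mem_sup_right hy)
    have hCK : C ⊓ K = R₀ := hsyl.2.2 (C ⊓ K) (hC.to_le inf_le_left)
      (le_inf (le_sup_left.trans hle) inf_le_right) inf_le_right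
    exact hCK.le ⟨hkC, hk⟩
  obtain ⟨d, hd, hdC⟩ := hsylH.exists_conj_le (C := P.map (MulAut.conj c).toMonoidHom)
    ((R.2.to_le hPR).map _) (by
      rintro _ ⟨x, hx, rfl⟩
      show c * x * c⁻¹ ∈ H
      refine ⟨?_, ?_⟩
      · exact Subgroup.mul_mem _ (Subgroup.mul_mem _ (Subgroup.mem_sup_left hc)
          (Subgroup.mem_sup_right hx)) (Subgroup.inv_mem _ (Subgroup.mem_sup_left hc))
      · have h1 := Subgroup.mul_mem _ (Subgroup.mul_mem _ (Subgroup.inv_mem _ hn)
          (hRN (hg x hx))) hn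
        rwa [show n⁻¹ * (n * c * x * (n * c)⁻¹) * n = c * x * c⁻¹ by group] at h1)
  obtain ⟨y, hy, k, hk, rfl⟩ := Subgroup.mem_sup_of_normal_right.mp
    ((sup_comm K P).le hd.1)
  have hkN : k ∈ Subgroup.normalizer (R₀ : Set G) := by
    have h1 := Subgroup.mul_mem _ (Subgroup.inv_mem _ (hRN (hPR hy))) hd.2
    rwa [inv_mul_cancel_left] at h1
  refine ⟨n * k⁻¹, k * c, by group, ?_, fun x hx => ?_, fun z hz => ?_⟩
  · exact hJ ▸ normalizer_le_normalizer_jAb R₀ (Subgroup.mul_mem _ hn (Subgroup.inv_mem _ hkN))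
  · have h1 := (R : Subgroup G).mul_mem ((R : Subgroup G).mul_mem ((R : Subgroup G).inv_mem (hPR hy))
      (hUR (hdC _ ⟨x, hx, rfl⟩))) (hPR hy)
    simpa [mul_assoc] using h1
  · have h1 := hc (z ^ p) (Subgroup.subset_normalClosure ⟨z, hz, rfl⟩)
    have h2 := hk (z ^ p) (Subgroup.subset_normalClosure ⟨z, hz, rfl⟩)
    rw [mul_assoc, ← h1, ← mul_assoc, ← h2, mul_assoc]

end CfsgLib.AgemoFactor
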