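import Mathlib
import Cfsg.Agent.Lib.BlockApps.SylowSymGen

/-!
# Permutations preserving blocks of prime size

Facts about the symmetric group on `m` blocks of `p` points and `r` further points that are needed
for the fusion systems of alternating groups.
-/

set_option autoImplicit false

open Equiv Equiv.Perm

namespace CfsgLib.Fusion.AltModel

open CfsgLib.BlockApps.SylowSymGen

/-! ### Two cycles of length `p` inside one `p`-group -/

section Cycles

variable {α : Type*} [Fintype α] [DecidableEq α] {p : ℕ} [Fact p.Prime]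

theorem isCycle_of_card {y : Perm α} (hy : y ^ p = 1) (hc : y.support.card = p) : y.IsCycle := by
  have hne : y ≠ 1 := fun e => (Fact.out : p.Prime).ne_zero (by simpa [e] using hc.symm)
  have ho : orderOf y = p := orderOf_eq_prime hy hne
  exact isCycle_of_prime_order (ho ▸ Fact.out) (by rw [ho, hc]; have := (Fact.out : p.Prime).pos; omega)

/-- Two cycles of length `p` in a common `p`-group commute. -/
theorem commute_of_cycles {P : Subgroup (Perm α)} (hP : IsPGroup p P) {y z : Perm α}
    (hy : y ∈ P) (hz : z ∈ P) (hyp : y ^ p = 1) (hzp : z ^ p = 1)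
    (hyc : y.support.card = p) (hzc : z.support.card = p) : Commute y z := by
  classical
  have hp := (Fact.out : p.Prime)
  by_cases hd : _root_.Disjoint y.support z.support
  · exact (disjoint_iff_disjoint_support.mpr hd).commute
  obtain ⟨x, hxy, hxz⟩ := Finset.not_disjoint_iff.mp hd
  set Q : Subgroup (Perm α) := Subgroup.closure {y, z} with hQ
  have hQP : Q ≤ P := (Subgroup.closure_le _).mpr (by simp [Set.insert_subset_iff, hy, hz])
  have hQp : IsPGroup p Q := hP.to_le hQP
  set U := y.support ∪ z.support with hU
  let W : Subgroup (Perm α) :=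
    { carrier := {g | ∀ a, a ∉ U → g a = a}
      one_mem' := fun a _ => rfl
      mul_mem' := fun {g h} hg hh a ha => by rw [Perm.mul_apply, hh a ha, hg a ha]
      inv_mem' := fun {g} hg a ha => inv_eq_iff_eq.mpr (hg a ha).symm }
  have hfix : ∀ g ∈ Q, ∀ a, a ∉ U → g a = a := by
    have hQW : Q ≤ W := by
      refine (Subgroup.closure_le W).mpr ?_
      rintro g (rfl | rfl) a ha <;>
      · simp only [hU, Finset.mem_union, mem_support, not_or, not_not] at ha
        tauto
    exact fun g hg => hQW hg
  have hyQ : y ∈ Q := Subgroup.subset_closure (by simp)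
  have hzQ : z ∈ Q := Subgroup.subset_closure (by simp)
  have horb : MulAction.orbit Q x = (U : Set α) := by
    ext a
    constructor
    · rintro ⟨g, rfl⟩
      by_contra ha
      have h1 := hfix _ g.2 _ ha
      have h2 : (g : Perm α) x = x := (g : Perm α).injective h1
      exact ha (show (g : Perm α) x ∈ U by rw [h2]; exact Finset.mem_union_left _ hxy)
    · intro ha
      rcases Finset.mem_union.mp ha with h | h
      · obtain ⟨i, hi⟩ := (isCycle_of_card hyp hyc).sameCycle (mem_support.mp hxy) (mem_support.mp h)
        exact ⟨⟨y ^ i, Q.zpow_mem hyQ i⟩, hi⟩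
      · obtain ⟨i, hi⟩ := (isCycle_of_card hzp hzc).sameCycle (mem_support.mp hxz) (mem_support.mp h)
        exact ⟨⟨z ^ i, Q.zpow_mem hzQ i⟩, hi⟩
  obtain ⟨j, hj⟩ := hQp.card_orbit x
  rw [horb, SetLike.coe_sort_coe, Nat.card_eq_finsetCard] at hj
  have hlo : p ≤ U.card := hyc ▸ Finset.card_le_card Finset.subset_union_left
  have hhi : U.card < 2 * p := by
    have h1 := Finset.card_union_add_card_inter y.support z.support
    have h2 : 0 < (y.support ∩ z.support).card :=
      Finset.card_pos.mpr ⟨x, Finset.mem_inter.mpr ⟨hxy, hxz⟩⟩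
    rw [← hU, hyc, hzc] at h1
    omega
  have hUp : U.card = p := by
    rcases Nat.lt_or_ge j 2 with hj2 | hj2
    · interval_cases j
      · rw [pow_zero] at hj; have := hp.two_le; omega
      · rw [hj, pow_one]
    · have := Nat.pow_le_pow_right hp.pos hj2
      have := hp.two_le
      nlinarith
  let ρ : Q →* Perm {a // a ∈ U} := MonoidHom.mk'
    (fun g => (g : Perm α).subtypePerm fun a => by
      constructor
      · intro h; by_contra ha
        rw [hfix _ g.2 a ha] at h; exact ha h
      · intro h; by_contra ha
        have h2 := hfix _ g.2 _ ha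
        rw [(g : Perm α).injective h2] at ha; exact ha h)
    fun g h => Equiv.ext fun a => rfl
  have hρ : Function.Injective ρ := by
    refine (injective_iff_map_eq_one ρ).mpr fun g hg => Subtype.ext (Equiv.ext fun a => ?_)
    by_cases ha : a ∈ U
    · exact congrArg Subtype.val (congrArg (fun σ : Perm {a // a ∈ U} => σ ⟨a, ha⟩) hg)
    · exact hfix _ g.2 a ha
  obtain ⟨k, hk⟩ := IsPGroup.iff_card.mp hQp
  have hdvd : p ^ k ∣ p.factorial := by
    have h := Subgroup.card_dvd_of_injective ρ hρ
    rwa [hk, Nat.card_eq_fintype_card, Fintype.card_perm, Fintype.card_coe, hUp] at h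
  have hk1 : k ≤ 1 := by
    by_contra hk1
    have h2 : p * p ∣ p.factorial := by
      rw [← sq]; exact (pow_dvd_pow p (by omega)).trans hdvd
    obtain ⟨q, hq⟩ : ∃ q, p = q + 1 := ⟨p - 1, by have := hp.pos; omega⟩
    rw [hq, Nat.factorial_succ, ← hq] at h2
    have := (hp.dvd_factorial).mp (Nat.dvd_of_mul_dvd_mul_left hp.pos h2)
    omega
  have hcyc : IsCyclic Q := by
    interval_cases k
    · rw [pow_zero] at hk
      have := (Nat.card_eq_one_iff_unique.mp hk).1
      infer_instance
    · exact isCyclic_of_prime_card (p := p) (by simpa using hk)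
  obtain ⟨g, hg⟩ := hcyc.exists_generator
  obtain ⟨a, ha⟩ := hg ⟨y, hyQ⟩
  obtain ⟨b, hb⟩ := hg ⟨z, hzQ⟩
  have := congrArg Subtype.val ((Commute.refl g).zpow_zpow a b).eq
  rw [show g ^ a = ⟨y, hyQ⟩ from ha, show g ^ b = ⟨z, hzQ⟩ from hb] at this
  exact this

end Cycles

/-! ### Blocks -/

variable {p : ℕ} [Fact p.Prime] {m r : ℕ}

/-- Multiplications inside the blocks. -/
def scale (m r : ℕ) : (Fin m → (ZMod p)ˣ) →* Perm (Pt m p r) where
  toFun u := Equiv.sumCongr (Equiv.prodCongrRight fun i => Units.mulLeft (u i)) 1
  map_one' := by ext x; rcases x with ⟨i, a⟩ | j <;> simp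
  map_mul' f g := by ext x; rcases x with ⟨i, a⟩ | j <;> simp [mul_assoc]

theorem base_inl (f : Multiplicative (Fin m → ZMod p)) (i : Fin m) (a : ZMod p) :
    base m r f (Sum.inl (i, a)) = Sum.inl (i, Multiplicative.toAdd f i + a) := rfl

theorem base_inr (f : Multiplicative (Fin m → ZMod p)) (j : Fin r) :
    base m r f (Sum.inr j) = Sum.inr j := rfl

theorem lift_inl (π : Perm (Fin m)) (i : Fin m) (a : ZMod p) :
    lift m r π (Sum.inl (i, a) : Pt m p r) = Sum.inl (π i, a) := rfl

theorem lift_inr (π : Perm (Fin m)) (j : Fin r) :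
    lift (p := p) m r π (Sum.inr j) = Sum.inr j := rfl

theorem scale_inl (u : Fin m → (ZMod p)ˣ) (i : Fin m) (a : ZMod p) :
    scale m r u (Sum.inl (i, a)) = Sum.inl (i, u i * a) := rfl

theorem scale_inr (u : Fin m → (ZMod p)ˣ) (j : Fin r) :
    scale m r u (Sum.inr j) = Sum.inr j := rfl

theorem scale_mul_base (u : Fin m → (ZMod p)ˣ) (f : Multiplicative (Fin m → ZMod p)) :
    scale m r u * base m r f * (scale m r u)⁻¹ =
      base m r (Multiplicative.ofAdd fun i => (u i : ZMod p) * Multiplicative.toAdd f i) := by
  rw [mul_inv_eq_iff_eq_mul]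
  ext x
  rcases x with ⟨i, a⟩ | j <;>
    simp [Perm.mul_apply, base_inl, base_inr, scale_inl, scale_inr, mul_add]

theorem lift_mul_scale (π : Perm (Fin m)) (u : Fin m → (ZMod p)ˣ) :
    lift m r π * scale m r u * (lift m r π)⁻¹ = scale m r fun i => u (π⁻¹ i) := by
  rw [mul_inv_eq_iff_eq_mul]
  ext x
  rcases x with ⟨i, a⟩ | j <;> simp [Perm.mul_apply, lift_inl, lift_inr, scale_inl, scale_inr]

theorem sign_lift' (π : Perm (Fin m)) : sign (lift (p := p) m r π) = sign π ^ p := by
  show sign (Equiv.sumCongr (Equiv.prodCongrLeft fun _ : ZMod p => π) 1) = _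
  rw [sign_sumCongr, map_one, mul_one, sign_prodCongrLeft, Finset.prod_const, Finset.card_univ,
    ZMod.card]

theorem sign_scale (u : Fin m → (ZMod p)ˣ) :
    sign (scale m r u) = ∏ i, sign (Units.mulLeft (u i)) := by
  show sign (Equiv.sumCongr (Equiv.prodCongrRight fun i => Units.mulLeft (u i)) 1) = _
  rw [sign_sumCongr, map_one, mul_one, sign_prodCongrRight]

theorem base_pow (f : Multiplicative (Fin m → ZMod p)) : base m r f ^ p = 1 := by
  rw [← map_pow]
  convert map_one (base (p := p) m r)
  apply Multiplicative.toAdd.injective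
  funext i
  simp

theorem base_injective : Function.Injective (base (p := p) m r) := by
  intro f g h
  refine Multiplicative.toAdd.injective (funext fun i => ?_)
  have := congrArg (fun σ : Perm (Pt m p r) => σ (Sum.inl (i, 0))) h
  simpa [base_inl] using this

/-- The blocks moved by a translation. -/
def blocks (f : Fin m → ZMod p) : Finset (Fin m) := Finset.univ.filter fun i => f i ≠ 0

theorem support_base (f : Multiplicative (Fin m → ZMod p)) :
    (base m r f).support.card = p * (blocks (Multiplicative.toAdd f)).card := by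
  have h : (base m r f).support =
      ((blocks (Multiplicative.toAdd f)) ×ˢ (Finset.univ : Finset (ZMod p))).map
        ⟨Sum.inl, Sum.inl_injective⟩ := by
    ext x
    rcases x with ⟨i, a⟩ | j <;> simp [blocks, mem_support, base_inl, base_inr]
  rw [h, Finset.card_map, Finset.card_product, Finset.card_univ, ZMod.card, mul_comm]

/-- The unit translation of one block. -/
def unitCycle (m r : ℕ) (i : Fin m) : Perm (Pt m p r) :=
  base m r (Multiplicative.ofAdd (Pi.single i 1))

theorem blocks_single (i : Fin m) {c : ZMod p} (hc : c ≠ 0) : blocks (Pi.single i c) = {i} := by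
  ext j
  by_cases h : j = i
  · subst h; simp [blocks, hc]
  · simp [blocks, h]

theorem unitCycle_support (i : Fin m) : (unitCycle (p := p) m r i).support.card = p := by
  rw [unitCycle, support_base, toAdd_ofAdd, blocks_single i one_ne_zero, Finset.card_singleton,
    mul_one]

theorem unitCycle_self (i : Fin m) (a : ZMod p) :
    unitCycle m r i (Sum.inl (i, a) : Pt m p r) = Sum.inl (i, a + 1) := by
  simp [unitCycle, base_inl, add_comm]

theorem unitCycle_other {i j : Fin m} (h : j ≠ i) (a : ZMod p) :
    unitCycle m r i (Sum.inl (j, a) : Pt m p r) = Sum.inl (j, a) := by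
  simp [unitCycle, base_inl, h]

/-- The translations are self-centralising. -/
theorem exists_base_of_commute (hr : r ≤ 1) {g : Perm (Pt m p r)}
    (hg : ∀ i, Commute g (unitCycle m r i)) : ∃ f, g = base m r f := by
  have hc : ∀ i x, g (unitCycle m r i x) = unitCycle m r i (g x) := fun i x => by
    rw [← Perm.mul_apply, (hg i).eq, Perm.mul_apply]
  have hblk : ∀ i a, ∃ b, g (Sum.inl (i, a)) = Sum.inl (i, b) := by
    intro i a
    rcases h : g (Sum.inl (i, a)) with ⟨j, b⟩ | j
    · by_cases hji : j = i
      · exact ⟨b, by rw [hji]⟩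
      · have h1 := hc i (Sum.inl (i, a))
        rw [unitCycle_self, h, unitCycle_other hji, ← h] at h1
        simpa using g.injective h1
    · have h1 := hc i (Sum.inl (i, a))
      rw [unitCycle_self, h, unitCycle, base_inr, ← h] at h1
      simpa using g.injective h1
  choose b hb using hblk
  have hb1 : ∀ i a, b i (a + 1) = b i a + 1 := fun i a => by
    have h1 := hc i (Sum.inl (i, a))
    rw [unitCycle_self, hb, hb, unitCycle_self] at h1
    simpa using h1
  have hb2 : ∀ i, ∀ k : ℕ, b i (k : ZMod p) = b i 0 + k := by
    intro i k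
    induction k with
    | zero => simp
    | succ k ih => push_cast; rw [hb1, ih, add_assoc]
  refine ⟨Multiplicative.ofAdd fun i => b i 0, Equiv.ext fun x => ?_⟩
  rcases x with ⟨i, a⟩ | j
  · rw [hb, base_inl, toAdd_ofAdd, ← ZMod.natCast_zmod_val a, hb2]
  · rcases h : g (Sum.inr j) with ⟨i, c⟩ | k
    · have h1 := hc i (Sum.inr j)
      rw [show unitCycle m r i (Sum.inr j : Pt m p r) = Sum.inr j from rfl, h, unitCycle_self] at h1
      simp at h1
    · rw [base_inr]
      congr 1
      exact Fin.ext (by omega)

/-- Elements normalising the translations. -/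
theorem exists_of_normalize (hr : r ≤ 1) {g : Perm (Pt m p r)}
    (hg : ∀ i, g * unitCycle m r i * g⁻¹ ∈ (base (p := p) m r).range) :
    ∃ π u f, g = lift m r π * scale m r u * base m r f := by
  classical
  choose f hf using hg
  have hsingle : ∀ i, ∃ j c, c ≠ 0 ∧ Multiplicative.toAdd (f i) = Pi.single j c := by
    intro i
    have h1 : (base m r (f i)).support.card = p := by
      rw [hf, card_support_conj, unitCycle_support]
    rw [support_base, Nat.mul_eq_left (Fact.out : p.Prime).ne_zero, Finset.card_eq_one] at h1
    obtain ⟨j, hj⟩ := h1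
    refine ⟨j, Multiplicative.toAdd (f i) j, ?_, funext fun k => ?_⟩
    · have : j ∈ blocks (Multiplicative.toAdd (f i)) := hj ▸ Finset.mem_singleton_self j
      simpa [blocks] using this
    · by_cases hk : k = j
      · subst hk; simp
      · have : k ∉ blocks (Multiplicative.toAdd (f i)) := by rw [hj]; simpa using hk
        simpa [blocks, hk] using this
  choose π₀ c hc hfc using hsingle
  have hinj : Function.Injective π₀ := by
    intro i k hik
    by_contra hne
    have h1 : g * base m r (Multiplicative.ofAdd ((c k) • (Pi.single i 1 : Fin m → ZMod p) -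
        (c i) • Pi.single k 1)) * g⁻¹ = 1 := by
      have hn : ∀ (l : Fin m) (a : ZMod p),
          base m r (Multiplicative.ofAdd (a • (Pi.single l 1 : Fin m → ZMod p))) =
            unitCycle m r l ^ a.val := fun l a => by
        rw [unitCycle, ← map_pow, ← ofAdd_nsmul]
        congr 2
        funext t
        simp [ZMod.natCast_zmod_val]
      have hn' : ∀ (l : Fin m) (a : ZMod p), g * unitCycle m r l ^ a.val * g⁻¹ =
          base m r (Multiplicative.ofAdd (a • Multiplicative.toAdd (f l))) := fun l a => by
        rw [← conj_pow, ← hf, ← map_pow]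
        congr 1
        apply Multiplicative.toAdd.injective
        funext t
        simp [ZMod.natCast_zmod_val]
      rw [sub_eq_add_neg, ofAdd_add, ofAdd_neg, map_mul, map_inv, hn, hn, ← conj_mul, ← conj_inv,
        hn', hn', hfc, hfc, hik, ← map_inv, ← map_mul, ← ofAdd_neg, ← ofAdd_add, ← Pi.single_smul,
        ← Pi.single_smul, smul_eq_mul, smul_eq_mul, mul_comm (c k), add_neg_cancel, ofAdd_zero,
        map_one]
    have h2 := mul_inv_eq_one.mp h1
    rw [mul_eq_left] at h2
    have h3 := congrArg (fun f : Multiplicative (Fin m → ZMod p) => Multiplicative.toAdd f i)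
      (base_injective (h2.trans (map_one _).symm))
    simp [hne, hc k] at h3
  let π : Perm (Fin m) := Equiv.ofBijective π₀ ⟨hinj, Finite.surjective_of_injective hinj⟩
  let u : Fin m → (ZMod p)ˣ := fun i => Units.mk0 (c i) (hc i)
  obtain ⟨f', hf'⟩ := exists_base_of_commute hr (g := (lift m r π * scale m r u)⁻¹ * g) fun i => by
    have h1 : lift m r π * scale m r u * unitCycle m r i * (lift m r π * scale m r u)⁻¹ =
        g * unitCycle m r i * g⁻¹ := by
      rw [← hf i, show lift m r π * scale m r u * unitCycle m r i * (lift m r π * scale m r u)⁻¹ =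
        lift m r π * (scale m r u * unitCycle m r i * (scale m r u)⁻¹) * (lift m r π)⁻¹ by group,
        unitCycle, scale_mul_base, lift_mul_base]
      congr 1
      apply Multiplicative.toAdd.injective
      rw [hfc]
      funext k
      simp only [toAdd_ofAdd]
      by_cases hk : k = π₀ i
      · subst hk
        rw [show π⁻¹ (π₀ i) = i from π.symm_apply_apply i]
        simp [u]
      · have : π⁻¹ k ≠ i := fun e => hk (by rw [← e]; exact (π.apply_symm_apply k).symm)
        rw [Pi.single_eq_of_ne this, mul_zero, Pi.single_eq_of_ne hk]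
    rw [commute_iff_eq]
    have h2 := congrArg (fun t => (lift m r π * scale m r u)⁻¹ * t * g) h1
    simpa [mul_assoc] using h2.symm
  exact ⟨π, u, f', by rw [← hf', mul_inv_cancel_left]⟩

end CfsgLib.Fusion.AltModel
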