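import Mathlib
import Cfsg.Agent.Lib.Fusion.AltModel

/-!
# An affine plane among the blocks
-/

set_option autoImplicit false

open Equiv Equiv.Perm

namespace CfsgLib.Fusion.AltModel

open CfsgLib.BlockApps.SylowSymGen

variable {p : ℕ} [Fact p.Prime] {m r : ℕ} (emb : ZMod p ↪ Fin m)

/-- The `p²` points of the chosen blocks, as a plane. -/
def plane (r : ℕ) : (Fin 2 → ZMod p) ↪ Pt m p r where
  toFun v := Sum.inl (emb (v 1), v 0)
  inj' v w h := by
    simp only [Sum.inl.injEq, Prod.mk.injEq, emb.apply_eq_iff_eq] at h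
    funext i; fin_cases i
    · exact h.2
    · exact h.1

theorem plane_apply (v : Fin 2 → ZMod p) : plane emb r v = Sum.inl (emb (v 1), v 0) := rfl

theorem not_plane_of_block {i : Fin m} (hi : i ∉ Set.range emb) (a : ZMod p) :
    (Sum.inl (i, a) : Pt m p r) ∉ Set.range (plane emb r) := by
  rintro ⟨v, hv⟩
  simp only [plane_apply, Sum.inl.injEq, Prod.mk.injEq] at hv
  exact hi ⟨_, hv.1⟩

theorem not_plane_inr (j : Fin r) : (Sum.inr j : Pt m p r) ∉ Set.range (plane emb r) := by
  rintro ⟨v, hv⟩
  simp [plane_apply] at hv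

/-- Translations of the plane. -/
noncomputable def transl (r : ℕ) : Multiplicative (Fin 2 → ZMod p) →* Perm (Pt m p r) :=
  (Equiv.Perm.viaEmbeddingHom (plane emb r)).comp
    { toFun := fun w => Equiv.addLeft (Multiplicative.toAdd w)
      map_one' := by ext; simp
      map_mul' := fun v w => by ext; simp [add_assoc] }

/-- Linear maps of the plane. -/
noncomputable def linP (r : ℕ) : Matrix.SpecialLinearGroup (Fin 2) (ZMod p) →* Perm (Pt m p r) :=
  (Equiv.Perm.viaEmbeddingHom (plane emb r)).comp
    { toFun := fun g => (Matrix.SpecialLinearGroup.toLin' g).toEquiv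
      map_one' := by ext; simp
      map_mul' := fun g h => by ext; simp }

theorem transl_plane (w : Multiplicative (Fin 2 → ZMod p)) (v : Fin 2 → ZMod p) :
    transl emb r w (plane emb r v) = plane emb r (Multiplicative.toAdd w + v) :=
  Equiv.Perm.viaEmbedding_apply _ _ _

theorem transl_outside (w : Multiplicative (Fin 2 → ZMod p)) {x : Pt m p r}
    (hx : x ∉ Set.range (plane emb r)) : transl emb r w x = x :=
  Equiv.Perm.viaEmbedding_apply_of_notMem _ _ _ hx

theorem linP_plane (g : Matrix.SpecialLinearGroup (Fin 2) (ZMod p)) (v : Fin 2 → ZMod p) :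
    linP emb r g (plane emb r v) = plane emb r (g.1.mulVec v) :=
  (Equiv.Perm.viaEmbedding_apply _ _ _).trans rfl

theorem linP_outside (g : Matrix.SpecialLinearGroup (Fin 2) (ZMod p)) {x : Pt m p r}
    (hx : x ∉ Set.range (plane emb r)) : linP emb r g x = x :=
  Equiv.Perm.viaEmbedding_apply_of_notMem _ _ _ hx

/-- The two kinds of points. -/
theorem plane_or (i : Fin m) (a : ZMod p) :
    (∃ v, (Sum.inl (i, a) : Pt m p r) = plane emb r v) ∨ i ∉ Set.range emb := by
  by_cases hi : i ∈ Set.range emb
  · obtain ⟨y, rfl⟩ := hi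
    exact Or.inl ⟨![a, y], by simp [plane_apply]⟩
  · exact Or.inr hi

theorem linP_mul_transl (g : Matrix.SpecialLinearGroup (Fin 2) (ZMod p))
    (w : Multiplicative (Fin 2 → ZMod p)) : linP emb r g * transl emb r w * (linP emb r g)⁻¹ =
      transl emb r (Multiplicative.ofAdd (g.1.mulVec (Multiplicative.toAdd w))) := by
  rw [mul_inv_eq_iff_eq_mul]
  ext x
  by_cases hx : x ∈ Set.range (plane emb r)
  · obtain ⟨v, rfl⟩ := hx
    rw [Perm.mul_apply, Perm.mul_apply, transl_plane, linP_plane, linP_plane, transl_plane,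
      toAdd_ofAdd, Matrix.mulVec_add]
  · rw [Perm.mul_apply, Perm.mul_apply, transl_outside _ _ hx, linP_outside _ _ hx,
      transl_outside _ _ hx]

theorem base_outer_fix {f : Multiplicative (Fin m → ZMod p)}
    (hf : ∀ y, Multiplicative.toAdd f (emb y) = 0) (v : Fin 2 → ZMod p) :
    base m r f (plane emb r v) = plane emb r v := by
  rw [plane_apply, base_inl, hf, zero_add]

theorem base_outside {f : Multiplicative (Fin m → ZMod p)} {x : Pt m p r}
    (hx : x ∉ Set.range (plane emb r)) : base m r f x ∉ Set.range (plane emb r) := by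
  rcases x with ⟨i, a⟩ | j
  · rcases plane_or (r := r) emb i a with ⟨v, hv⟩ | hi
    · exact absurd ⟨v, hv.symm⟩ hx
    · rw [base_inl]; exact not_plane_of_block emb hi _
  · rw [base_inr]; exact not_plane_inr emb j

theorem linP_commute_outer (g : Matrix.SpecialLinearGroup (Fin 2) (ZMod p))
    {f : Multiplicative (Fin m → ZMod p)} (hf : ∀ y, Multiplicative.toAdd f (emb y) = 0) :
    linP emb r g * base m r f * (linP emb r g)⁻¹ = base m r f := by
  rw [mul_inv_eq_iff_eq_mul]
  ext x
  by_cases hx : x ∈ Set.range (plane emb r)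
  · obtain ⟨v, rfl⟩ := hx
    rw [Perm.mul_apply, Perm.mul_apply, base_outer_fix emb hf, linP_plane, base_outer_fix emb hf]
  · rw [Perm.mul_apply, Perm.mul_apply, linP_outside _ _ (base_outside emb hx),
      linP_outside _ _ hx]

open Classical in
/-- A translation of the plane in coordinates. -/
theorem transl_eq (w : Multiplicative (Fin 2 → ZMod p)) :
    transl emb r w = base m r (Multiplicative.ofAdd fun i =>
        if i ∈ Set.range emb then Multiplicative.toAdd w 0 else 0) *
      lift m r (Equiv.Perm.viaEmbedding (Equiv.addLeft (Multiplicative.toAdd w 1)) emb) := by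
  ext x
  rw [Perm.mul_apply]
  rcases x with ⟨i, a⟩ | j
  · rw [lift_inl, base_inl, toAdd_ofAdd]
    by_cases hi : i ∈ Set.range emb
    · obtain ⟨y, rfl⟩ := hi
      rw [Equiv.Perm.viaEmbedding_apply]
      rw [show (Sum.inl (emb y, a) : Pt m p r) = plane emb r ![a, y] by simp [plane_apply],
        transl_plane, plane_apply]
      simp [Pi.add_apply]
    · rw [Equiv.Perm.viaEmbedding_apply_of_notMem _ _ _ hi, if_neg hi,
        transl_outside _ _ (not_plane_of_block emb hi a), zero_add]
  · rw [lift_inr, base_inr, transl_outside _ _ (not_plane_inr emb j)]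

theorem transl_normalize (w : Multiplicative (Fin 2 → ZMod p))
    (f : Multiplicative (Fin m → ZMod p)) :
    transl emb r w * base m r f * (transl emb r w)⁻¹ ∈ (base (p := p) m r).range := by
  classical
  rw [transl_eq]
  set b := base m r (Multiplicative.ofAdd fun i =>
        if i ∈ Set.range emb then Multiplicative.toAdd w 0 else 0) with hb
  set l := lift (p := p) m r (Equiv.Perm.viaEmbedding (Equiv.addLeft (Multiplicative.toAdd w 1)) emb) with hl
  rw [show b * l * base m r f * (b * l)⁻¹ = b * (l * base m r f * l⁻¹) * b⁻¹ by group, hl,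
    lift_mul_base]
  exact Subgroup.mul_mem _ (Subgroup.mul_mem _ ⟨_, rfl⟩ ⟨_, rfl⟩) (Subgroup.inv_mem _ ⟨_, rfl⟩)

/-- The diagonal element. -/
def diagSL (c : (ZMod p)ˣ) : Matrix.SpecialLinearGroup (Fin 2) (ZMod p) :=
  ⟨!![(c : ZMod p), 0; 0, ((c⁻¹ : (ZMod p)ˣ) : ZMod p)], by
    rw [Matrix.det_fin_two_of, zero_mul, sub_zero, ← Units.val_mul, mul_inv_cancel, Units.val_one]⟩

open Classical in
theorem linP_diag (c : (ZMod p)ˣ) : linP emb r (diagSL c) =
    lift m r (Equiv.Perm.viaEmbedding (Units.mulLeft c⁻¹) emb) *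
      scale m r (fun i => if i ∈ Set.range emb then c else 1) := by
  ext x
  rw [Perm.mul_apply]
  rcases x with ⟨i, a⟩ | j
  · rw [scale_inl, lift_inl]
    by_cases hi : i ∈ Set.range emb
    · obtain ⟨y, rfl⟩ := hi
      rw [Equiv.Perm.viaEmbedding_apply]
      rw [show (Sum.inl (emb y, a) : Pt m p r) = plane emb r ![a, y] by simp [plane_apply],
        linP_plane, plane_apply]
      have h0 : (diagSL c).1.mulVec ![a, y] 0 = (c : ZMod p) * a := by
        show (c : ZMod p) * a + (0 * y + 0) = _
        rw [zero_mul, add_zero, add_zero]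
      have h1 : (diagSL c).1.mulVec ![a, y] 1 = ((c⁻¹ : (ZMod p)ˣ) : ZMod p) * y := by
        show (0 : ZMod p) * a + (_ * y + 0) = _
        rw [zero_mul, add_zero, zero_add]
        rfl
      rw [h0, h1, if_pos ⟨y, rfl⟩]
      rfl
    · rw [Equiv.Perm.viaEmbedding_apply_of_notMem _ _ _ hi, if_neg hi,
        linP_outside _ _ (not_plane_of_block emb hi a), Units.val_one, one_mul]
  · rw [scale_inr, lift_inr, linP_outside _ _ (not_plane_inr emb j)]

/-- What commutes with the plane translations and the outer cycles is a product of such. -/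
theorem exists_of_commute_plane (hr : r ≤ 1) {g : Perm (Pt m p r)}
    (ht : ∀ w, Commute g (transl emb r w))
    (ho : ∀ i, i ∉ Set.range emb → Commute g (unitCycle m r i)) :
    ∃ (w : Multiplicative (Fin 2 → ZMod p)) (f : Multiplicative (Fin m → ZMod p)),
      (∀ y, Multiplicative.toAdd f (emb y) = 0) ∧ g = transl emb r w * base m r f := by
  classical
  have ht' : ∀ w x, g (transl emb r w x) = transl emb r w (g x) := fun w x => by
    rw [← Perm.mul_apply, (ht w).eq, Perm.mul_apply]
  have ho' : ∀ i, i ∉ Set.range emb → ∀ x, g (unitCycle m r i x) = unitCycle m r i (g x) :=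
    fun i hi x => by rw [← Perm.mul_apply, (ho i hi).eq, Perm.mul_apply]
  let e : Multiplicative (Fin 2 → ZMod p) := Multiplicative.ofAdd ![1, 0]
  have hne : ∀ v, transl emb r e (plane emb r v) ≠ plane emb r v := fun v h => by
    rw [transl_plane] at h
    simpa [e] using congrFun ((plane emb r).injective h) 0
  have hblk : ∀ i, i ∉ Set.range emb → ∀ a, ∃ b, g (Sum.inl (i, a)) = Sum.inl (i, b) := by
    intro i hi a
    rcases h : g (Sum.inl (i, a)) with ⟨j, b⟩ | j
    · by_cases hji : j = i
      · exact ⟨b, by rw [hji]⟩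
      · have h1 := ho' i hi (Sum.inl (i, a))
        rw [unitCycle_self, h, unitCycle_other hji, ← h] at h1
        simpa using g.injective h1
    · have h1 := ho' i hi (Sum.inl (i, a))
      rw [unitCycle_self, h, unitCycle, base_inr, ← h] at h1
      simpa using g.injective h1
  have hpl : ∀ v, ∃ v', g (plane emb r v) = plane emb r v' := by
    intro v
    rcases h : g (plane emb r v) with ⟨i, b⟩ | j
    · rcases plane_or (r := r) emb i b with hv | hi
      · exact hv
      · have h1 := ht' e (plane emb r v)
        rw [h, transl_outside _ _ (not_plane_of_block emb hi b), ← h] at h1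
        exact absurd (g.injective h1) (hne v)
    · have h1 := ht' e (plane emb r v)
      rw [h, transl_outside _ _ (not_plane_inr emb j), ← h] at h1
      exact absurd (g.injective h1) (hne v)
  choose b hb using hblk
  choose v' hv' using hpl
  refine ⟨Multiplicative.ofAdd (v' 0), Multiplicative.ofAdd fun i =>
    if h : i ∈ Set.range emb then 0 else b i h 0, fun y => dif_pos ⟨y, rfl⟩, Equiv.ext fun x => ?_⟩
  rw [Perm.mul_apply]
  rcases x with ⟨i, a⟩ | j
  · rcases plane_or (r := r) emb i a with ⟨v, hv⟩ | hi
    · rw [hv, base_outer_fix emb (fun y => dif_pos ⟨y, rfl⟩), transl_plane]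
      have h1 := ht' (Multiplicative.ofAdd v) (plane emb r 0)
      rw [transl_plane, hv', hv', transl_plane] at h1
      simp only [toAdd_ofAdd, add_zero] at h1 ⊢
      rw [hv', add_comm]
      have h1 := (plane emb r).injective h1
      rw [h1]
    · rw [base_inl, transl_outside _ _ (not_plane_of_block emb hi _), toAdd_ofAdd, dif_neg hi]
      have hb1 : ∀ a, b i hi (a + 1) = b i hi a + 1 := fun a => by
        have h1 := ho' i hi (Sum.inl (i, a))
        rw [unitCycle_self, hb i hi, hb i hi, unitCycle_self] at h1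
        simpa using h1
      have hb2 : ∀ k : ℕ, b i hi (k : ZMod p) = b i hi 0 + k := by
        intro k
        induction k with
        | zero => simp
        | succ k ih => push_cast; rw [hb1, ih, add_assoc]
      rw [hb i hi, ← ZMod.natCast_zmod_val a, hb2]
  · rw [base_inr, transl_outside _ _ (not_plane_inr emb j)]
    rcases h : g (Sum.inr j) with ⟨i, c⟩ | k
    · rcases plane_or (r := r) emb i c with ⟨v, hv⟩ | hi
      · have h1 := ht' e (Sum.inr j)
        rw [transl_outside _ _ (not_plane_inr emb j), h, hv] at h1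
        exact absurd h1.symm (hne v)
      · have h1 := ho' i hi (Sum.inr j)
        rw [show unitCycle m r i (Sum.inr j : Pt m p r) = Sum.inr j from rfl, h, unitCycle_self] at h1
        simp at h1
    · congr 1
      exact Fin.ext (by omega)

end CfsgLib.Fusion.AltModel
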