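import Mathlib
import Cfsg.Agent.Lib.Fusion.SatTools
import Cfsg.Agent.Lib.Fusion.Normal
import Cfsg.Agent.Lib.Fusion.Centric

/-!
# Centric subgroups meeting a normal subsystem in a non-centric subgroup
-/

set_option autoImplicit false
set_option linter.unusedSectionVars false

namespace CfsgLib.Fusion

open Cfsg Cfsg.FusionSystem
open scoped Pointwise

variable {Ω : Type*} [Group Ω] {S : Subgroup Ω} {F : FusionSystem S} {p : ℕ}
  [hp : Fact p.Prime] [Finite S]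

/-- An automorphism of `P` centralizing `U` and `P / U` lies in `O_p(Aut_F(P))`, if `U` is
invariant under `Aut_F(P)`. -/
theorem mem_core_of_stabilizes_series (hS : IsPGroup p S) {P U : Subgroup Ω} (hPS : P ≤ S)
    (hUP : U ≤ P) (hinv : ∀ γ ∈ F.autGroup P, ∀ u ∈ U, autFun γ u ∈ U) {α : MulAut P}
    (hα : α ∈ F.autGroup P) (h1 : ∀ u ∈ U, autFun α u = u)
    (h2 : ∀ y ∈ P, autFun α y * y⁻¹ ∈ U) :
    α ∈ (pCore p (F.autGroup P)).map (F.autGroup P).subtype := by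
  let K : Subgroup (MulAut P) :=
    { carrier := {β | (∀ u ∈ U, autFun β u = u) ∧ ∀ y ∈ P, autFun β y * y⁻¹ ∈ U}
      one_mem' := ⟨fun u hu => autFun_one (hUP hu), fun y hy => by
        rw [autFun_one hy, mul_inv_cancel]; exact U.one_mem⟩
      mul_mem' := fun {a b} ha hb => ⟨fun u hu => by
          rw [autFun_mul _ _ (hUP hu), hb.1 u hu, ha.1 u hu], fun y hy => by
          rw [autFun_mul _ _ hy]
          have := U.mul_mem (ha.2 _ (autFun_mem b hy)) (hb.2 y hy)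
          simpa [mul_assoc] using this⟩
      inv_mem' := fun {a} ha => ⟨fun u hu => by
          conv_lhs => rw [← ha.1 u hu]
          exact autFun_inv_left a (hUP hu), fun y hy => by
          have := U.inv_mem (ha.2 _ (autFun_mem a⁻¹ hy))
          rw [autFun_inv_right a hy] at this
          simpa using this⟩ }
  let L : Subgroup (F.autGroup P) := K.comap (F.autGroup P).subtype
  haveI hn : L.Normal := ⟨fun b hb γ => by
    obtain ⟨hb1, hb2⟩ := hb
    have hγ := γ.2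
    have hγi := (F.autGroup P).inv_mem hγ
    refine ⟨fun u hu => ?_, fun y hy => ?_⟩
    · show autFun ((γ : MulAut P) * (b : MulAut P) * (γ : MulAut P)⁻¹) u = u
      rw [autFun_mul _ _ (hUP hu), autFun_mul _ _ (autFun_mem _ (hUP hu))]
      have h3 : autFun (b : MulAut P) (autFun (γ : MulAut P)⁻¹ u) = autFun (γ : MulAut P)⁻¹ u :=
        hb1 _ (hinv _ hγi u hu)
      rw [h3, autFun_inv_right _ (hUP hu)]
    · show autFun ((γ : MulAut P) * (b : MulAut P) * (γ : MulAut P)⁻¹) y * y⁻¹ ∈ U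
      set w := autFun (γ : MulAut P)⁻¹ y with hw
      have hwP : w ∈ P := autFun_mem _ hy
      have hbw : autFun (b : MulAut P) w * w⁻¹ ∈ U := hb2 w hwP
      have hy' : y = autFun (γ : MulAut P) w := (autFun_inv_right _ hy).symm
      rw [autFun_mul _ _ hy, ← hw, autFun_mul _ _ hwP]
      have h4 := hinv _ hγ _ hbw
      rw [autFun_map_mul _ (autFun_mem _ hwP) (P.inv_mem hwP)] at h4
      have h5 : autFun (γ : MulAut P) w⁻¹ = y⁻¹ := by
        refine eq_inv_of_mul_eq_one_right ?_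
        rw [hy', ← autFun_map_mul _ hwP (P.inv_mem hwP), mul_inv_cancel, autFun_of_mem _ P.one_mem]
        exact congrArg Subtype.val (map_one (γ : MulAut P))
      rwa [h5] at h4⟩
  have hLp : IsPGroup p L := by
    have : Finite U := finite_of_le (hUP.trans hPS)
    rintro ⟨⟨β, hβ⟩, hβK⟩
    obtain ⟨hb1, hb2⟩ : (∀ u ∈ U, autFun β u = u) ∧ ∀ y ∈ P, autFun β y * y⁻¹ ∈ U := hβK
    obtain ⟨e, he⟩ := IsPGroup.iff_card.mp (isPGroup_of_le (hUP.trans hPS) hS)
    refine ⟨e, Subtype.ext (Subtype.ext (autFun_inj fun y hy => ?_))⟩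
    have hn : ∀ n : ℕ, autFun (β ^ n) y = (autFun β y * y⁻¹) ^ n * y := by
      intro n
      induction n with
      | zero => rw [pow_zero, autFun_one hy, pow_zero, one_mul]
      | succ n ih =>
        have hd := hb2 y hy
        rw [pow_succ', autFun_mul _ _ hy, ih,
          autFun_map_mul _ (P.pow_mem (hUP hd) n) hy, hb1 _ (U.pow_mem hd n), pow_succ,
          mul_assoc ((autFun β y * y⁻¹) ^ n), inv_mul_cancel_right]
    show autFun (β ^ p ^ e) y = autFun (1 : MulAut P) y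
    rw [hn, autFun_one hy, ← he,
      orderOf_dvd_iff_pow_eq_one.mp (Subgroup.orderOf_dvd_natCard U (hb2 y hy)), one_mul]
  exact ⟨⟨α, hα⟩, CfsgLib.Base.le_pCore hLp ⟨h1, h2⟩, rfl⟩

/-- `S5251`: some conjugate has `Out_S ∩ O_p(Out_F)` nontrivial. -/
theorem exists_conj_core_of_inf_not_centric (hS : IsPGroup p S) (hF : F.IsSaturated p)
    {T : Subgroup Ω} (hT : F.StronglyClosed T) {E : FusionSystem T} (hsub : E.IsSubsystemOf F)
    {P : Subgroup Ω} (hPS : P ≤ S) (hPT : ¬ E.IsCentric (P ⊓ T)) :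
    ∃ f x, IsMor F P f ∧ x ∈ normalizerIn S (img P f) ∧ x ∉ img P f ∧
      ∃ α ∈ (pCore p ↥(F.autGroup (img P f))).map (F.autGroup (img P f)).subtype,
        ∀ y ∈ img P f, autFun α y = cj x y := by
  set U := P ⊓ T with hUdef
  obtain ⟨U₁, hU₁, hU₁n⟩ : ∃ U₁, E.IsConj U U₁ ∧ ¬ centralizerIn T U₁ ≤ U₁ := by
    by_contra h
    exact hPT ⟨inf_le_right, fun Q hQ => by_contra fun h' => h ⟨Q, hQ, h'⟩⟩
  have hU₁F : F.IsConj U U₁ := by
    obtain ⟨f, hf, e⟩ := isConj_iff.mp hU₁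
    exact isConj_iff.mpr ⟨f, le_iff_isMor.mp hsub _ _ hf, e⟩
  obtain ⟨U₂, hU₂, hU₂n⟩ := exists_fullyNormalized F (inf_le_left.trans hPS : U ≤ S)
  obtain ⟨a₁, ha₁, ha₁U, -⟩ :=
    exists_map_fullyNormalized hS hF hU₂n (isConj_trans (isConj_symm hU₁F) hU₂)
  obtain ⟨a, ha, haU, -⟩ := exists_map_fullyNormalized hS hF hU₂n hU₂
  have hTS := hT.1
  have hSN := stronglyClosed_le_normalizer hT
  have hPN : P ≤ normalizerIn S U := by
    intro y hy
    have hfin : Finite U := finite_of_le (inf_le_left.trans hPS)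
    refine mem_normalizerIn.mpr ⟨hPS hy, Subgroup.mem_normalizer_fintype fun u hu =>
      ⟨P.mul_mem (P.mul_mem hy hu.1) (P.inv_mem hy),
        (Subgroup.mem_normalizer_iff.mp (hSN (hPS hy)) u).mp hu.2⟩⟩
  have hUN : U ≤ normalizerIn S U := inf_le_left.trans hPN
  have hstr := (stronglyClosed_iff.mp hT).2
  set P' := img P a with hP'
  have hP'S : P' ≤ S := (ha.restrict hPN).img_le
  obtain ⟨ai, hai, hal, -, -⟩ := ha.inverse
  have hU₂P : U₂ ≤ P' ⊓ T := haU ▸ img_le fun u hu =>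
    ⟨mem_img_of_mem a hu.1, hstr _ a ha u (hUN hu) hu.2⟩
  have hP'T : P' ⊓ T ≤ U₂ := by
    rintro y ⟨hy, hyT⟩
    obtain ⟨x, hx, rfl⟩ := (ha.restrict hPN).mem_img.mp hy
    have h1 := hstr _ ai hai (a x) (mem_img_of_mem a (hPN hx)) hyT
    rw [hal x (hPN hx)] at h1
    exact haU ▸ mem_img_of_mem a ⟨hx, h1⟩
  -- the centralizer in `T`
  set Z := centralizerIn T U₂ with hZ
  have hU₁T : U₁ ≤ T := (isConj_le hU₁).2
  have hU₁S : U₁ ≤ S := hU₁T.trans hTS
  have hZS : Z ≤ S := centralizerIn_le.trans hTS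
  obtain ⟨c, hc, hcU⟩ := SetLike.not_le_iff_exists.mp hU₁n
  obtain ⟨hcT, hcc⟩ := mem_centralizerIn.mp hc
  have hcS : c ∈ centralizerIn S U₁ := mem_centralizerIn.mpr ⟨hTS hcT, hcc⟩
  have hcN := centralizerIn_le_normalizerIn hcS
  have hacZ : a₁ c ∈ Z := by
    refine mem_centralizerIn.mpr ⟨hstr _ a₁ ha₁ c hcN hcT, fun y hy => ?_⟩
    obtain ⟨x, hx, rfl⟩ := (ha₁.restrict (le_normalizerIn hU₁S)).mem_img.mp (ha₁U.ge hy)
    rw [show cj (a₁ c) (a₁ x) = a₁ (cj c x) from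
      (ha₁.map_conj hcN (le_normalizerIn hU₁S hx)).symm, hcc x hx]
  have hacU : a₁ c ∉ U₂ := fun h => hcU
    ((ha₁.mem_img_iff (le_normalizerIn hU₁S) hcN).mp (ha₁U.ge h))
  have hZP : ¬ Z ≤ P' := fun h => hacU (hP'T ⟨h hacZ, (mem_centralizerIn.mp hacZ).1⟩)
  have hU₂S : U₂ ≤ S := hU₂n.1
  have hnorm : P' ≤ Subgroup.normalizer (Z : Set Ω) := by
    intro y hy
    have hfinZ : Finite Z := finite_of_le hZS
    refine Subgroup.mem_normalizer_fintype fun z hz => ?_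
    obtain ⟨hzT, hzc⟩ := mem_centralizerIn.mp hz
    refine mem_centralizerIn.mpr
      ⟨(Subgroup.mem_normalizer_iff.mp (hSN (hP'S hy)) z).mp hzT, fun u hu => ?_⟩
    have hu' := hU₂P hu
    have h1 : cj y⁻¹ u ∈ U₂ := hP'T ⟨P'.mul_mem (P'.mul_mem (P'.inv_mem hy) hu'.1)
      (P'.inv_mem (P'.inv_mem hy)),
      (Subgroup.mem_normalizer_iff.mp (hSN (S.inv_mem (hP'S hy))) u).mp hu'.2⟩
    show cj (y * z * y⁻¹) u = u
    rw [cj_mul, cj_mul, hzc _ h1, cj_cj_inv]
  have hlt : P' < P' ⊔ Z := lt_of_le_of_ne le_sup_left fun h => hZP (le_sup_right.trans h.ge)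
  have : Finite ↥(P' ⊔ Z) := finite_of_le (sup_le hP'S hZS)
  obtain ⟨z, hz, hzP⟩ := SetLike.exists_of_lt
    (lt_inf_normalizer (isPGroup_of_le (sup_le hP'S hZS) hS) hlt)
  obtain ⟨hzsup, hzN⟩ := Subgroup.mem_inf.mp hz
  have hzm : z ∈ ((P' : Set Ω) * (Z : Set Ω)) := by
    rw [← Subgroup.coe_mul_of_left_le_normalizer_right P' Z hnorm]; exact hzsup
  obtain ⟨q, hq, m, hm, rfl⟩ := hzm
  have hmP : m ∉ P' := fun h => hzP (P'.mul_mem hq h)
  have hmN : m ∈ Subgroup.normalizer (P' : Set Ω) := by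
    have := Subgroup.mul_mem _ (Subgroup.inv_mem _ (Subgroup.le_normalizer hq)) hzN
    rwa [inv_mul_cancel_left] at this
  obtain ⟨hmT, hmc⟩ := mem_centralizerIn.mp hm
  have hmS := hTS hmT
  obtain ⟨α, hα, hαe⟩ := exists_autInducedBy (P := P') hmS hmN
  refine ⟨a, m, ha.restrict hPN, mem_normalizerIn.mpr ⟨hmS, hmN⟩, hmP, α,
    mem_core_of_stabilizes_series hS hP'S (hU₂P.trans inf_le_left) (fun γ hγ u hu => ?_)
      (autInducedBy_le F hP'S hα) (fun u hu => ?_) (fun y hy => ?_), hαe⟩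
  · have hu' := hU₂P hu
    exact hP'T ⟨autFun_mem γ hu'.1, hstr _ _ (isMor_autFun hP'S hγ) u hu'.1 hu'.2⟩
  · rw [hαe u (hU₂P hu).1, hmc u hu]
  · rw [hαe y hy]
    refine hP'T ⟨P'.mul_mem ((Subgroup.mem_normalizer_iff.mp hmN y).mp hy) (P'.inv_mem hy), ?_⟩
    have h1 := T.mul_mem hmT
      ((Subgroup.mem_normalizer_iff.mp (hSN (hP'S hy)) m⁻¹).mp (T.inv_mem hmT))
    simpa [cj, mul_assoc] using h1

theorem not_radical_of_inf_not_centric (hS : IsPGroup p S) (hF : F.IsSaturated p)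
    {T : Subgroup Ω} (hT : F.StronglyClosed T) {E : FusionSystem T} (hsub : E.IsSubsystemOf F)
    {P : Subgroup Ω} (hP : F.IsCentric P) (hPT : ¬ E.IsCentric (P ⊓ T)) : ¬ F.IsRadical p P := by
  rintro ⟨-, hrad⟩
  obtain ⟨f, x, hf, hx, hxP, α, hα, hαe⟩ :=
    exists_conj_core_of_inf_not_centric hS hF hT hsub hP.1 hPT
  obtain ⟨g, hg, hgl, hgr, hgi⟩ := hf.inverse
  obtain ⟨e, he, -, -⟩ := exists_transport hg hgi
  have h1 := (OFam.core F p).nat _ P g hg hgi α hα (e α) (he α)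
  rw [show (OFam.core F p).O P = Inn P from hrad, mem_inn] at h1
  obtain ⟨u, hu, hue⟩ := h1
  refine hxP ?_
  have hu' : f u ∈ img P f := mem_img_of_mem f hu
  have hc : (f u)⁻¹ * x ∈ centralizerIn S (img P f) := by
    refine mem_centralizerIn.mpr
      ⟨S.mul_mem (S.inv_mem (hf.mem hu)) (mem_normalizerIn.mp hx).1, fun y hy => ?_⟩
    have hgy : g y ∈ P := hgi.le (mem_img_of_mem g hy)
    have h2 := he α y hy
    rw [hue _ hgy, hαe y hy] at h2
    have h3 := congrArg f h2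
    have hxy : cj x y ∈ img P f :=
      (Subgroup.mem_normalizer_iff.mp (mem_normalizerIn.mp hx).2 y).mp hy
    rw [hgr _ hxy,
      show f (cj u (g y)) = cj (f u) (f (g y)) from hf.map_conj hu hgy, hgr y hy] at h3
    rw [cj_mul, ← h3, cj_inv_cj]
  have := (img P f).mul_mem hu' (hP.2 _ (isConj_img hf) hc)
  rwa [mul_inv_cancel_left] at this

end CfsgLib.Fusion
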