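import Mathlib
import Cfsg.Agent.Lib.Fusion.Alperin
import Cfsg.Agent.Lib.Fusion.Criteria

/-!
# Subsystems `D` of `F` over the same group with `F = Aut_F(S) ∘ D`
-/

set_option autoImplicit false
set_option linter.unusedSectionVars false

namespace CfsgLib.Fusion

open Cfsg Cfsg.FusionSystem

variable {Ω : Type*} [Group Ω] {S : Subgroup Ω} {F D : FusionSystem S} {p : ℕ}
  [hp : Fact p.Prime] [Finite S]

/-- `D` is carried to itself by every automorphism of `S` in `F`. -/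
def AutStable (D F : FusionSystem S) : Prop :=
  ∀ β ∈ F.autGroup S, ∀ P g, IsMor D P g →
    IsMor D (img P (autFun β)) (autFun β ∘ g ∘ autFun β⁻¹)

/-- Every map of `F` is an automorphism of `S` following a map of `D`. -/
def AutFac (D F : FusionSystem S) : Prop :=
  ∀ P f, IsMor F P f → ∃ β ∈ F.autGroup S, ∃ g, IsMor D P g ∧ ∀ x ∈ P, f x = autFun β (g x)

theorem img_autFun_inv {P : Subgroup Ω} (hP : P ≤ S) (β : MulAut S) (hβ : β ∈ F.autGroup S) :
    img (img P (autFun β)) (autFun β⁻¹) = P := by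
  rw [((isMor_autFun le_rfl hβ).restrict hP).img_comp]
  exact (img_congr (g := id) fun x hx => autFun_inv_left β (hP hx)).trans (img_id P)

theorem img_aut_le {P : Subgroup Ω} (hP : P ≤ S) (β : MulAut S) : img P (autFun β) ≤ S :=
  img_le fun _ hx => autFun_mem β (hP hx)

theorem exists_facSys (hst : AutStable D F) :
    ∃ E : FusionSystem S, ∀ P f, IsMor E P f ↔ IsMor F P f ∧
      ∃ β ∈ F.autGroup S, ∃ g, IsMor D P g ∧ ∀ x ∈ P, f x = autFun β (g x) := by
  let M : Subgroup Ω → (Ω → Ω) → Prop := fun P f => IsMor F P f ∧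
    ∃ β ∈ F.autGroup S, ∃ g, IsMor D P g ∧ ∀ x ∈ P, f x = autFun β (g x)
  suffices hM : ∃ E : FusionSystem S, ∀ P f, IsMor E P f ↔ M P f from hM
  refine ⟨ofPred S M (fun P f h => ⟨h.1.le, fun x hx => h.1.mem hx⟩)
    (fun P f h x hx y hy e => h.1.inj hx hy e) ?_ ?_ ?_ ?_, fun P f => ?_⟩
  · rintro P f f' ⟨hf, β, hβ, g, hg, e⟩ e'
    exact ⟨hf.congr e', β, hβ, g, hg, fun x hx => (e' x hx).symm.trans (e x hx)⟩
  · exact fun P a hP ha => ⟨isMor_cj F hP ha, 1, Subgroup.one_mem _, cj a, isMor_cj D hP ha,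
      fun x hx => (autFun_one ((isMor_cj D hP ha).mem hx)).symm⟩
  · rintro P R f f' ⟨hf, β, hβ, g, hg, e⟩ ⟨hf', β', hβ', g', hg', e'⟩ hfR
    have hβi := (F.autGroup S).inv_mem hβ
    have h1 := hst _ hβi R g' hg'
    have hmap : ∀ x ∈ P, g x ∈ img R (autFun β⁻¹) := fun x hx => by
      have := mem_img_of_mem (autFun β⁻¹) (hfR x hx)
      rwa [e x hx, autFun_inv_left β (hg.mem hx)] at this
    refine ⟨hf.comp hf' hfR, β' * β, (F.autGroup S).mul_mem hβ' hβ, _, hg.comp h1 hmap,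
      fun x hx => ?_⟩
    simp only [Function.comp_apply, inv_inv]
    rw [← e x hx, autFun_mul _ _ (autFun_mem _ (hg'.mem (hfR x hx))),
      autFun_inv_right β (hg'.mem (hfR x hx)), e' _ (hfR x hx)]
  · rintro P f ⟨hf, β, hβ, g, hg, e⟩ -
    obtain ⟨fi, hfi, hfl, hfr, -⟩ := hf.inverse
    obtain ⟨gi, hgi, hgl, -, -⟩ := hg.inverse
    have h1 := hst _ hβ _ gi hgi
    rw [hg.img_comp, img_congr (f := autFun β ∘ g) fun x hx => (e x hx).symm] at h1
    refine ⟨fi, ⟨hfi, β⁻¹, (F.autGroup S).inv_mem hβ, _, h1, fun y hy => ?_⟩, hfl⟩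
    obtain ⟨x, hx, rfl⟩ := hf.mem_img.mp hy
    simp only [Function.comp_apply]
    rw [hfl x hx, e x hx, autFun_inv_left β (hg.mem hx), hgl x hx,
      autFun_inv_left β (hf.le hx)]
  · rw [isMor_ofPred fun h x hx y hy => h.1.map_mul hx hy]

theorem autFac_of_generators (hS : IsPGroup p S) (hF : F.IsSaturated p) (hsub : D.IsSubsystemOf F)
    (hst : AutStable D F)
    (h : ∀ P : Subgroup Ω, (P = S ∨ F.IsEssential p P) → ∀ α ∈ F.autGroup P,
      ∃ β ∈ F.autGroup S, ∃ g, IsMor D P g ∧ ∀ x ∈ P, autFun α x = autFun β (g x)) :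
    AutFac D F := by
  obtain ⟨E, hE⟩ := exists_facSys hst
  have hle : F ≤ E := alperin hS hF fun P hP α hα => by
    have hPS : P ≤ S := hP.elim (fun e => e.le) fun he => essential_le he
    exact (autGroup_eq_set hPS α).mpr ((hE _ _).mpr ⟨isMor_autFun hPS hα, h P hP α hα⟩)
  exact fun P f hf => ((hE P f).mp (le_iff_isMor.mp hle P f hf)).2

theorem isFullyNormalized_aut {Q : Subgroup Ω} (hQ : F.IsFullyNormalized Q) {β : MulAut S}
    (hβ : β ∈ F.autGroup S) : F.IsFullyNormalized (img Q (autFun β)) := by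
  have hb := isMor_autFun le_rfl hβ
  refine ⟨img_aut_le hQ.1 β, fun R hR => (hQ.2 R (isConj_trans (isConj_img (hb.restrict hQ.1)) hR)).trans ?_⟩
  exact card_le_of_img_le (hb.restrict normalizerIn_le) normalizerIn_le (img_le fun x hx =>
    mapsTo_normalizerIn (hb.restrict (normalizerIn_le (P := Q))) (le_normalizerIn hQ.1) le_rfl x hx)

theorem exists_conj_fullyNormalized_in (hfac : AutFac D F) {P : Subgroup Ω} (hP : P ≤ S) :
    ∃ Q, D.IsConj P Q ∧ F.IsFullyNormalized Q := by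
  obtain ⟨Q, hQ, hQn⟩ := exists_fullyNormalized F hP
  obtain ⟨f, hf, rfl⟩ := isConj_iff.mp hQ
  obtain ⟨β, hβ, g, hg, e⟩ := hfac P f hf
  refine ⟨img P g, isConj_img hg, ?_⟩
  have h1 := isFullyNormalized_aut hQn ((F.autGroup S).inv_mem hβ)
  rw [hf.img_comp] at h1
  have h2 : img P (autFun β⁻¹ ∘ f) = img P g := img_congr fun x hx => by
    rw [Function.comp_apply, e x hx, autFun_inv_left β (hg.mem hx)]
  rwa [h2] at h1

theorem centric_iff_of_autFac (hsub : D.IsSubsystemOf F) (hfac : AutFac D F) {P : Subgroup Ω} :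
    D.IsCentric P ↔ F.IsCentric P := by
  refine ⟨fun h => ⟨h.1, fun Q hQ => ?_⟩, fun h => ⟨h.1, fun Q hQ => h.2 Q ?_⟩⟩
  · obtain ⟨f, hf, rfl⟩ := isConj_iff.mp hQ
    obtain ⟨β, hβ, g, hg, e⟩ := hfac P f hf
    intro c hc
    obtain ⟨hcS, hcc⟩ := mem_centralizerIn.mp hc
    have hb := isMor_autFun le_rfl hβ
    have hd : autFun β⁻¹ c ∈ centralizerIn S (img P g) := by
      refine mem_centralizerIn.mpr ⟨autFun_mem _ hcS, fun y hy => ?_⟩
      obtain ⟨x, hx, rfl⟩ := hg.mem_img.mp hy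
      have h1 := hcc _ (mem_img_of_mem f hx)
      rw [e x hx] at h1
      refine hb.inj (S.mul_mem (S.mul_mem (autFun_mem _ hcS) (hg.mem hx))
        (S.inv_mem (autFun_mem _ hcS))) (hg.mem hx) ?_
      rw [cj_apply, hb.map_conj (autFun_mem _ hcS) (hg.mem hx), autFun_inv_right β hcS]
      exact h1
    obtain ⟨x, hx, hxe⟩ := hg.mem_img.mp (h.2 _ (isConj_img hg) hd)
    have h3 := mem_img_of_mem f hx
    rwa [e x hx, hxe, autFun_inv_right β hcS] at h3
  · obtain ⟨f, hf, rfl⟩ := isConj_iff.mp hQ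
    exact isConj_img (le_iff_isMor.mp hsub _ _ hf)

theorem autGroup_normal_of_autFac (hsub : D.IsSubsystemOf F) (hst : AutStable D F)
    (hfac : AutFac D F) {P : Subgroup Ω} {γ a : MulAut P} (hγ : γ ∈ F.autGroup P)
    (ha : a ∈ D.autGroup P) : γ * a * γ⁻¹ ∈ D.autGroup P := by
  rcases em (P ≤ S) with hP | hP
  swap
  · rw [autGroup_of_not_le hP] at ha ⊢
    simp [Subgroup.mem_bot.mp ha]
  obtain ⟨β, hβ, g, hg, e⟩ := hfac P _ (isMor_autFun hP hγ)
  obtain ⟨gi, hgi, hgl, -, hgii⟩ := hg.inverse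
  have h1 := hst β hβ _ _ ((hgi.comp (isMor_autFun hP ha) fun y hy =>
    hgii ▸ mem_img_of_mem gi hy).comp hg fun y hy =>
      autFun_mem a (hgii ▸ mem_img_of_mem gi hy))
  have himg : img (img P g) (autFun β) = P := by
    rw [hg.img_comp, img_congr (f := autFun β ∘ g) (g := autFun γ) fun x hx => (e x hx).symm, img_autFun]
  rw [himg] at h1
  refine (autGroup_eq_set hP _).mpr (h1.congr fun y hy => ?_)
  simp only [Function.comp_apply]
  have hx := autFun_mem γ⁻¹ hy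
  have hy' : autFun β⁻¹ y = g (autFun γ⁻¹ y) := by
    conv_lhs => rw [← autFun_inv_right γ hy, e _ hx, autFun_inv_left β (hg.mem hx)]
  rw [hy', hgl _ hx, ← e _ (autFun_mem a hx), autFun_mul _ _ hy, autFun_mul _ _ hx]

theorem pElement_mem_autGroup (hS : IsPGroup p S) (hF : F.IsSaturated p)
    (hsub : D.IsSubsystemOf F) (hst : AutStable D F) (hfac : AutFac D F) {P : Subgroup Ω}
    (hP : P ≤ S) {α : MulAut P} (hα : α ∈ F.autGroup P) {k : ℕ} (hk : α ^ p ^ k = 1) :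
    α ∈ D.autGroup P := by
  obtain ⟨Q, hQ, hQn⟩ := exists_conj_fullyNormalized_in hfac hP
  obtain ⟨g, hg, hgi⟩ := isConj_iff.mp hQ
  obtain ⟨d, hd, hdA, -⟩ := exists_transport hg hgi
  obtain ⟨d', hd', hdA', -⟩ := exists_transport (le_iff_isMor.mp hsub _ _ hg) hgi
  have heq : d' α = d α := autFun_inj fun y hy => by
    obtain ⟨x, hx, rfl⟩ := hg.mem_img.mp (hgi.symm ▸ hy)
    rw [hd α x hx, hd' α x hx]
  rw [hdA α]
  have hαQ : d α ∈ F.autGroup Q := heq ▸ (hdA' α).mp hα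
  have hsyl := (isFullyAutomized_iff.mp (isFullyAutomized_of_normalized hS hF hQn).1).2
  have := finite_mulAut hQn.1
  have hC : IsPGroup p (Subgroup.zpowers (d α)) := by
    rintro ⟨c, hc⟩
    obtain ⟨z, rfl⟩ := Subgroup.mem_zpowers_iff.mp hc
    refine ⟨k, Subtype.ext ?_⟩
    show (d α ^ z) ^ p ^ k = 1
    rw [← zpow_natCast, ← zpow_mul, mul_comm, zpow_mul, zpow_natCast, ← map_pow, hk, map_one,
      one_zpow]
  obtain ⟨b, hb, hbc⟩ := hsyl.exists_conj_le hC (by rwa [Subgroup.zpowers_le])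
  have h1 := autGroup_normal_of_autFac hsub hst hfac ((F.autGroup Q).inv_mem hb)
    (autInducedBy_le D hQn.1 (hbc _ (Subgroup.mem_zpowers _)))
  simpa [mul_assoc] using h1

theorem hasPrimeToPIndexIn_of_autFac (hS : IsPGroup p S) (hF : F.IsSaturated p)
    (hsub : D.IsSubsystemOf F) (hst : AutStable D F) (hfac : AutFac D F) :
    D.HasPrimeToPIndexIn F p := by
  refine ⟨hsub, fun P hP => ?_⟩
  rw [MonoidHom.map_closure, Subgroup.closure_le]
  rintro _ ⟨α, ⟨k, hk⟩, rfl⟩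
  have h1 : α ^ p ^ k = 1 := hk ▸ pow_orderOf_eq_one α
  exact pElement_mem_autGroup hS hF hsub hst hfac hP α.2 (congrArg Subtype.val h1)

theorem isNormalIn_of_autFac (hF : F.IsSaturated p) (hD : D.IsSaturated p)
    (hsub : D.IsSubsystemOf F) (hst : AutStable D F) (hfac : AutFac D F) :
    D.IsNormalIn F p := by
  refine ⟨⟨hD, hF, hsub, ⟨le_rfl, fun R _ φ hφ x => (F.le_of_mem hφ).2 x⟩, ?_, ?_⟩, ?_⟩
  · intro P hPS φ hφ α hα
    have h1 := hst α hα P (toFun φ) (isMor_of_mem hφ)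
    rw [← map_subgroupOf_eq_img (ψ := S.subtype.comp α.toMonoidHom) (f := autFun α) (fun x => (autFun_coe α x).symm) hPS] at h1
    obtain ⟨χ, hχ, hχe⟩ := h1
    refine ⟨χ, hχ, fun x hφx hαx => ?_⟩
    rw [hχe]
    simp only [Function.comp_apply]
    rw [← autFun_coe α ⟨x, hPS x.2⟩, ← autFun_coe α ⟨φ x, hφx⟩, autFun_inv_left α (hPS x.2),
      toFun_coe]
  · intro P _ φ hφ
    obtain ⟨β, hβ, g, ⟨φ₀, hφ₀, hg⟩, e⟩ := hfac P _ (isMor_of_mem hφ)
    refine ⟨β, hβ, φ₀, hφ₀, fun x hx => ?_⟩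
    rw [← toFun_coe φ x, e x x.2, ← autFun_coe β ⟨φ₀ x, hx⟩]
    exact congrArg _ (hg x).symm
  · intro α hα
    have hC : centralizerIn S S ≤ S := centralizerIn_le
    have hSC : S ⊔ centralizerIn S S = S := sup_eq_left.mpr hC
    have ha := isMor_autFun le_rfl (autGroup_mono hsub hα)
    have h1 : IsMor F (S ⊔ centralizerIn S S) (autFun α) := hSC.symm ▸ ha
    obtain ⟨β, hβ, hβe⟩ := exists_aut h1 (by rw [hSC, img_autFun])
    refine ⟨β, hβ, fun x => ?_, fun c hc => ?_⟩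
    · rw [← autFun_coe β, ← autFun_coe α]
      exact hβe _ (Subgroup.mem_sup_left x.2)
    · rw [← autFun_coe β, hβe _ c.2]
      obtain ⟨hcS, hcc⟩ := mem_centralizerIn.mp hc
      refine ⟨S.mul_mem (S.inv_mem hcS) (autFun_mem α hcS), ?_⟩
      show _ ∈ Subgroup.centralizer (S : Set Ω)
      refine Subgroup.mul_mem _ (Subgroup.inv_mem _ hc.2) (Subgroup.mem_centralizer_iff.mpr fun y hy => ?_)
      obtain ⟨x, hx, rfl⟩ : ∃ x ∈ S, autFun α x = y :=
        ⟨autFun α⁻¹ y, autFun_mem _ hy, autFun_inv_right α hy⟩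
      rw [← ha.map_mul hx hcS, ← ha.map_mul hcS hx]
      exact congrArg _ (Subgroup.mem_centralizer_iff.mp hc.2 x hx)

end CfsgLib.Fusion
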