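import Mathlib
import Cfsg.Agent.Lib.Fusion.AutFrattini
import Cfsg.Agent.Lib.Fusion.SatMain

/-!
# Labels of the maps between large subgroups, and their kernel systems

A label assigns to every map of `F` whose source lies in an overgroup closed, conjugation closed
family `𝒳` an element of a group `Δ` of order prime to `p`, compatibly with restriction and
composition. The maps with label `1` generate a saturated normal subsystem of index prime to `p`.
-/

set_option autoImplicit false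
set_option linter.unusedSectionVars false

namespace CfsgLib.Fusion

open Cfsg Cfsg.FusionSystem

variable {Ω : Type*} [Group Ω] {S : Subgroup Ω}

/-- A labelling of the maps with source in `𝒳`. -/
structure Label (F : FusionSystem S) (𝒳 : Set (Subgroup Ω)) (Δ : Type*) [Group Δ] where
  /-- `Th P f d`: the map `f` with source `P` has label `d`. -/
  Th : Subgroup Ω → (Ω → Ω) → Δ → Prop
  self_mem : S ∈ 𝒳
  conj_closed : ∀ {P : Subgroup Ω} {f : Ω → Ω}, P ∈ 𝒳 → IsMor F P f → img P f ∈ 𝒳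
  up : ∀ {P R : Subgroup Ω}, P ∈ 𝒳 → P ≤ R → R ≤ S → R ∈ 𝒳
  exists_th : ∀ {P : Subgroup Ω} {f : Ω → Ω}, P ∈ 𝒳 → IsMor F P f → ∃ d, Th P f d
  unique : ∀ {P : Subgroup Ω} {f : Ω → Ω} {d d' : Δ}, P ∈ 𝒳 → IsMor F P f →
    Th P f d → Th P f d' → d = d'
  restrict : ∀ {P R : Subgroup Ω} {f f' : Ω → Ω} {d : Δ}, P ∈ 𝒳 → P ≤ R → IsMor F R f →
    Th R f d → (∀ x ∈ P, f x = f' x) → Th P f' d
  comp : ∀ {P R : Subgroup Ω} {f g : Ω → Ω} {d d' : Δ}, P ∈ 𝒳 → IsMor F P f → IsMor F R g →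
    (∀ x ∈ P, f x ∈ R) → Th P f d → Th R g d' → Th P (g ∘ f) (d' * d)
  surj : ∀ d, ∃ β ∈ F.autGroup S, Th S (autFun β) d

namespace Label

variable {F : FusionSystem S} {𝒳 : Set (Subgroup Ω)} {Δ : Type*} [Group Δ]
  (L : Label F 𝒳 Δ)

include L

theorem th_id {P : Subgroup Ω} (hP : P ∈ 𝒳) (hPS : P ≤ S) : L.Th P id 1 := by
  obtain ⟨d, hd⟩ := L.exists_th hP (isMor_id F hPS)
  have h := L.comp hP (isMor_id F hPS) (isMor_id F hPS) (fun _ hx => hx) hd hd
  have := L.unique hP (isMor_id F hPS) hd h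
  have h1 : d = 1 := by simpa using this
  rw [h1] at hd
  exact hd

theorem th_congr {P : Subgroup Ω} {f f' : Ω → Ω} {d : Δ} (hP : P ∈ 𝒳) (hf : IsMor F P f)
    (h : L.Th P f d) (e : ∀ x ∈ P, f x = f' x) : L.Th P f' d :=
  L.restrict hP le_rfl hf h e

theorem th_inv {P : Subgroup Ω} {f g : Ω → Ω} {d : Δ} (hP : P ∈ 𝒳) (hf : IsMor F P f)
    (hd : L.Th P f d) (hg : IsMor F (img P f) g) (hgl : ∀ x ∈ P, g (f x) = x) :
    L.Th (img P f) g d⁻¹ := by
  obtain ⟨d', hd'⟩ := L.exists_th (L.conj_closed hP hf) hg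
  have h := L.comp hP hf hg (fun x hx => mem_img_of_mem f hx) hd hd'
  have hfg := hf.comp hg fun x hx => mem_img_of_mem f hx
  have := L.unique hP hfg h (L.th_congr hP (isMor_id F hf.le) (L.th_id hP hf.le)
    fun x hx => (hgl x hx).symm)
  rwa [eq_inv_of_mul_eq_one_left this] at hd'

theorem th_autFun_pow {P : Subgroup Ω} (hP : P ∈ 𝒳) (hPS : P ≤ S) {α : MulAut P}
    (hα : α ∈ F.autGroup P) {d : Δ} (hd : L.Th P (autFun α) d) (n : ℕ) :
    L.Th P (autFun (α ^ n)) (d ^ n) := by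
  induction n with
  | zero =>
    rw [pow_zero, pow_zero]
    exact L.th_congr hP (isMor_id F hPS) (L.th_id hP hPS) fun x hx => (autFun_one hx).symm
  | succ n ih =>
    rw [pow_succ' α, pow_succ' d]
    have h1 := isMor_autFun hPS ((F.autGroup P).pow_mem hα n)
    have h2 := isMor_autFun hPS hα
    exact L.th_congr hP (h1.comp h2 fun x hx => autFun_mem _ hx)
      (L.comp hP h1 h2 (fun x hx => autFun_mem _ hx) ih hd)
      fun x hx => (autFun_mul _ _ hx).symm

/-- An automorphism of `p`-power order has label `1`. -/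
theorem th_pElement [Finite Δ] {p : ℕ} (hΔ : (Nat.card Δ).Coprime p) {P : Subgroup Ω}
    (hP : P ∈ 𝒳) (hPS : P ≤ S) {α : MulAut P} (hα : α ∈ F.autGroup P) {k : ℕ}
    (hk : α ^ p ^ k = 1) : L.Th P (autFun α) 1 := by
  obtain ⟨d, hd⟩ := L.exists_th hP (isMor_autFun hPS hα)
  have h := L.th_autFun_pow hP hPS hα hd (p ^ k)
  rw [hk] at h
  have h1 := L.unique hP (isMor_autFun hPS (one_mem _)) h
    (L.th_congr hP (isMor_id F hPS) (L.th_id hP hPS) fun x hx => (autFun_one hx).symm)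
  have hd1 : d = 1 := orderOf_eq_one_iff.mp (Nat.eq_one_of_dvd_coprimes (hΔ.pow_right k)
    (orderOf_dvd_natCard d) (orderOf_dvd_of_pow_eq_one h1))
  exact hd1 ▸ hd

omit L in
/-- The maps generated by the maps of label `1`. -/
inductive Gen (L : Label F 𝒳 Δ) : Subgroup Ω → (Ω → Ω) → Prop
  | step {P R : Subgroup Ω} {g f : Ω → Ω} : R ∈ 𝒳 → IsMor F R g → L.Th R g 1 → P ≤ R →
      (∀ x ∈ P, f x = g x) → Gen L P f
  | comp {P : Subgroup Ω} {g h f : Ω → Ω} : Gen L P g → Gen L (img P g) h →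
      (∀ x ∈ P, f x = h (g x)) → Gen L P f

theorem Gen.isMor {P : Subgroup Ω} {f : Ω → Ω} (h : L.Gen P f) : IsMor F P f := by
  induction h with
  | step _ hg _ hPR e => exact (hg.restrict hPR).congr fun x hx => (e x hx).symm
  | comp _ _ e ih₁ ih₂ =>
    exact (ih₁.comp ih₂ fun x hx => mem_img_of_mem _ hx).congr fun x hx => (e x hx).symm

theorem Gen.congr {P : Subgroup Ω} {f f' : Ω → Ω} (h : L.Gen P f) (e : ∀ x ∈ P, f x = f' x) :
    L.Gen P f' := by
  cases h with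
  | step hR hg ht hPR e' => exact .step hR hg ht hPR fun x hx => (e x hx).symm.trans (e' x hx)
  | comp h₁ h₂ e' => exact .comp h₁ h₂ fun x hx => (e x hx).symm.trans (e' x hx)

theorem Gen.restrict {P : Subgroup Ω} {f : Ω → Ω} (h : L.Gen P f) :
    ∀ P' ≤ P, L.Gen P' f := by
  induction h with
  | step hR hg ht hPR e => exact fun P' h' => .step hR hg ht (h'.trans hPR) fun x hx => e x (h' hx)
  | comp _ _ e ih₁ ih₂ =>
    exact fun P' h' => .comp (ih₁ P' h') (ih₂ _ (img_mono _ h')) fun x hx => e x (h' hx)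

theorem Gen.inverse {P : Subgroup Ω} {f : Ω → Ω} (h : L.Gen P f) :
    ∀ k, IsMor F (img P f) k → (∀ x ∈ P, k (f x) = x) → L.Gen (img P f) k := by
  induction h with
  | @step P R g f hR hg ht hPR e =>
    intro k hk hkl
    obtain ⟨gi, hgi, hgl, -, -⟩ := hg.inverse
    have hgit := L.th_inv hR hg ht hgi hgl
    rw [inv_one] at hgit
    have hi : img P f = img P g := img_congr e
    rw [hi]
    refine .step (L.conj_closed hR hg) hgi hgit (img_mono g hPR) fun y hy => ?_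
    obtain ⟨x, hx, rfl⟩ := (hg.restrict hPR).mem_img.mp hy
    rw [hgl x (hPR hx), ← e x hx, hkl x hx]
  | @comp P g h f h₁ h₂ e ih₁ ih₂ =>
    intro k hk hkl
    obtain ⟨gi, hgi, hgl, hgr, hgii⟩ := (Gen.isMor L h₁).inverse
    obtain ⟨hi', hhi, hhl, hhr, hhii⟩ := (Gen.isMor L h₂).inverse
    have hi : img P f = img (img P g) h := by
      rw [(Gen.isMor L h₁).img_comp]
      exact img_congr e
    rw [hi]
    refine .comp (ih₂ hi' hhi hhl) (show L.Gen (img (img (img P g) h) hi') gi from ?_)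
      fun y hy => ?_
    · rw [hhii]
      exact ih₁ gi hgi hgl
    · obtain ⟨z, hz, rfl⟩ := (Gen.isMor L h₂).mem_img.mp hy
      obtain ⟨x, hx, rfl⟩ := (Gen.isMor L h₁).mem_img.mp hz
      rw [hhl _ hz, hgl x hx, ← e x hx, hkl x hx]

theorem Gen.th {P : Subgroup Ω} {f : Ω → Ω} (h : L.Gen P f) : P ∈ 𝒳 → L.Th P f 1 := by
  induction h with
  | step _ hg ht hPR e => exact fun hP => L.restrict hP hPR hg ht fun x hx => (e x hx).symm
  | @comp P g h f h₁ h₂ e ih₁ ih₂ =>
    intro hP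
    have hg := Gen.isMor L h₁
    have hh := Gen.isMor L h₂
    have h3 := L.comp hP hg hh (fun x hx => mem_img_of_mem g hx) (ih₁ hP)
      (ih₂ (L.conj_closed hP hg))
    rw [mul_one] at h3
    exact L.th_congr hP (hg.comp hh fun x hx => mem_img_of_mem g hx) h3 fun x hx => (e x hx).symm

omit L in
theorem exists_sys [Finite Δ] [Finite S] {p : ℕ} (L : Label F 𝒳 Δ) (hS : IsPGroup p S)
    (hΔ : (Nat.card Δ).Coprime p) :
    ∃ D : FusionSystem S, ∀ P f, IsMor D P f ↔ L.Gen P f := by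
  refine ⟨ofPred S L.Gen (fun P f h => ⟨(Gen.isMor L h).le, fun x hx => (Gen.isMor L h).mem hx⟩)
    (fun P f h x hx y hy e => (Gen.isMor L h).inj hx hy e) (fun P f f' h e => Gen.congr L h e)
    ?_ ?_ ?_, fun P f => ?_⟩
  · intro P s hP hs
    obtain ⟨α, hα, e⟩ := exists_autInducedBy (K := S) (P := S) hs (Subgroup.le_normalizer hs)
    obtain ⟨k, hk⟩ := isPGroup_autInducedBy (S := S) (P := S) hS ⟨α, hα⟩
    have hk' : α ^ p ^ k = 1 := congrArg Subtype.val hk
    exact .step L.self_mem (isMor_autFun le_rfl (autInducedBy_le F le_rfl hα))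
      (L.th_pElement hΔ L.self_mem le_rfl (autInducedBy_le F le_rfl hα) hk') hP
      fun x hx => (e x (hP hx)).symm
  · exact fun P R f g hf hg hfR =>
      .comp hf (Gen.restrict L hg _ (img_le hfR)) fun _ _ => rfl
  · intro P f hf _
    obtain ⟨g, hg, hgl, -, -⟩ := (Gen.isMor L hf).inverse
    exact ⟨g, Gen.inverse L hf g hg hgl, hgl⟩
  · exact isMor_ofPred fun h x hx y hy => (Gen.isMor L h).map_mul hx hy

/-- The kernel system of a label. -/
noncomputable def sys [Finite Δ] [Finite S] {p : ℕ} (hS : IsPGroup p S)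
    (hΔ : (Nat.card Δ).Coprime p) : FusionSystem S :=
  Classical.choose (exists_sys L hS hΔ)

section Sys

variable [Finite Δ] [Finite S] {p : ℕ} [hp : Fact p.Prime] (hS : IsPGroup p S)
  (hΔ : (Nat.card Δ).Coprime p)

omit hp in
theorem isMor_sys {P : Subgroup Ω} {f : Ω → Ω} : IsMor (L.sys hS hΔ) P f ↔ L.Gen P f :=
  Classical.choose_spec (exists_sys L hS hΔ) P f

omit hp in
theorem sys_sub : (L.sys hS hΔ).IsSubsystemOf F :=
  le_iff_isMor.mpr fun _ _ h => Gen.isMor L ((L.isMor_sys hS hΔ).mp h)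

omit hp in
theorem isMor_sys_of_th {P : Subgroup Ω} {f : Ω → Ω} (hP : P ∈ 𝒳) (hf : IsMor F P f)
    (h : L.Th P f 1) : IsMor (L.sys hS hΔ) P f :=
  (L.isMor_sys hS hΔ).mpr (.step hP hf h le_rfl fun _ _ => rfl)

omit hp in
theorem isMor_sys_iff {P : Subgroup Ω} {f : Ω → Ω} (hP : P ∈ 𝒳) :
    IsMor (L.sys hS hΔ) P f ↔ IsMor F P f ∧ L.Th P f 1 :=
  ⟨fun h => ⟨Gen.isMor L ((L.isMor_sys hS hΔ).mp h), Gen.th L ((L.isMor_sys hS hΔ).mp h) hP⟩,
    fun h => L.isMor_sys_of_th hS hΔ hP h.1 h.2⟩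

omit hp in
theorem sys_stable : AutStable (L.sys hS hΔ) F := by
  intro β hβ P g hg
  rw [L.isMor_sys hS hΔ] at hg ⊢
  have hb := isMor_autFun le_rfl hβ
  have hbi := isMor_autFun le_rfl ((F.autGroup S).inv_mem hβ)
  induction hg with
  | @step P R g f hR hg ht hPR e =>
    have hRS := hg.le
    have hbR : IsMor F (img R (autFun β)) (autFun β⁻¹) := hbi.restrict (img_aut_le hRS β)
    have hmapR : ∀ y ∈ img R (autFun β), autFun β⁻¹ y ∈ R := fun y hy =>
      (img_autFun_inv hRS β hβ).le (mem_img_of_mem _ hy)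
    obtain ⟨d, hd⟩ := L.exists_th L.self_mem hb
    have hS' : img S (autFun β) = S := img_autFun β
    have hdi : L.Th S (autFun β⁻¹) d⁻¹ := by
      have h := L.th_inv L.self_mem hb hd (hS'.symm ▸ hbi) fun x hx => autFun_inv_left β hx
      rwa [hS'] at h
    have hR' : img R (autFun β) ∈ 𝒳 := L.conj_closed hR (hb.restrict hRS)
    have hdiR := L.restrict hR' (img_aut_le hRS β) hbi hdi fun _ _ => rfl
    have hm := hbR.comp hg hmapR
    have h2 := L.comp hR' hbR hg hmapR hdiR ht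
    have h3 := L.comp hR' hm hb (fun y hy => hm.mem hy) h2 hd
    rw [one_mul, mul_inv_cancel] at h3
    refine .step hR' (hm.comp hb fun y hy => hm.mem hy) h3 (img_mono _ hPR) fun y hy => ?_
    simp only [Function.comp_apply]
    rw [e _ ((img_autFun_inv (hPR.trans hRS) β hβ).le (mem_img_of_mem _ hy))]
  | @comp P g h f h₁ h₂ e ih₁ ih₂ =>
    have hPS := (Gen.isMor L h₁).le
    have hi : img (img P (autFun β)) (autFun β ∘ g ∘ autFun β⁻¹) = img (img P g) (autFun β) := by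
      rw [(hb.restrict hPS).img_comp, (Gen.isMor L h₁).img_comp]
      exact img_congr fun x hx => by simp [autFun_inv_left β (hPS hx)]
    refine .comp ih₁ (hi ▸ ih₂) fun y hy => ?_
    have hy' := (img_autFun_inv hPS β hβ).le (mem_img_of_mem _ hy)
    simp only [Function.comp_apply]
    rw [autFun_inv_left β ((Gen.isMor L h₁).mem hy'), e _ hy']

theorem sys_fac (hF : F.IsSaturated p)
    (hrad : ∀ P : Subgroup Ω, F.IsCentric P → F.IsRadical p P → P ∈ 𝒳) :
    AutFac (L.sys hS hΔ) F := by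
  refine autFac_of_generators hS hF (L.sys_sub hS hΔ) (L.sys_stable hS hΔ) fun P hP α hα => ?_
  have hP𝒳 : P ∈ 𝒳 := hP.elim (fun e => e ▸ L.self_mem)
    fun he => hrad P he.1 (essential_radical hS he)
  have hPS : P ≤ S := hP.elim (fun e => e.le) fun he => essential_le he
  have ha := isMor_autFun hPS hα
  obtain ⟨d, hd⟩ := L.exists_th hP𝒳 ha
  obtain ⟨β, hβ, hβd⟩ := L.surj d
  have hb := isMor_autFun le_rfl hβ
  have hbi := isMor_autFun le_rfl ((F.autGroup S).inv_mem hβ)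
  have hdi : L.Th S (autFun β⁻¹) d⁻¹ := by
    have h := L.th_inv L.self_mem hb hβd ((img_autFun β).symm ▸ hbi)
      fun x hx => autFun_inv_left β hx
    rwa [img_autFun] at h
  have h2 := L.comp hP𝒳 ha hbi (fun x hx => hPS (autFun_mem α hx)) hd hdi
  rw [inv_mul_cancel] at h2
  exact ⟨β, hβ, autFun β⁻¹ ∘ autFun α, L.isMor_sys_of_th hS hΔ hP𝒳
    (ha.comp hbi fun x hx => hPS (autFun_mem α hx)) h2,
    fun x hx => (autFun_inv_right β (hPS (autFun_mem α hx))).symm⟩

theorem sys_hasPrimeToPIndexIn (hF : F.IsSaturated p)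
    (hrad : ∀ P : Subgroup Ω, F.IsCentric P → F.IsRadical p P → P ∈ 𝒳) :
    (L.sys hS hΔ).HasPrimeToPIndexIn F p :=
  hasPrimeToPIndexIn_of_autFac hS hF (L.sys_sub hS hΔ) (L.sys_stable hS hΔ)
    (L.sys_fac hS hΔ hF hrad)

theorem sys_saturated (hF : F.IsSaturated p)
    (hrad : ∀ P : Subgroup Ω, F.IsCentric P → F.IsRadical p P → P ∈ 𝒳)
    (hstar : ∀ P : Subgroup Ω, F.IsCentric P → P ∉ 𝒳 → ∃ f x, IsMor F P f ∧
      x ∈ normalizerIn S (img P f) ∧ x ∉ img P f ∧
      ∃ α ∈ (pCore p ↥(F.autGroup (img P f))).map (F.autGroup (img P f)).subtype,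
        ∀ y ∈ img P f, autFun α y = cj x y) :
    (L.sys hS hΔ).IsSaturated p := by
  set D := L.sys hS hΔ with hD
  have hsub := L.sys_sub hS hΔ
  have hfac := L.sys_fac hS hΔ hF hrad
  have hle := le_iff_isMor.mp hsub
  refine saturated_of_crit hS (ℋ := {P | P ∈ 𝒳 ∧ P ≤ S}) ?_ ?_ ?_ ?_
  · intro P hP Q hQ
    obtain ⟨f, hf, rfl⟩ := isConj_iff.mp hQ
    exact ⟨L.conj_closed hP.1 (hle _ _ hf), hf.img_le⟩
  · rintro P ⟨hP, hPS⟩
    obtain ⟨Q, hQ, hQn⟩ := exists_conj_fullyNormalized_in hfac hPS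
    obtain ⟨f, hf, hfi⟩ := isConj_iff.mp hQ
    have hQ𝒳 : Q ∈ 𝒳 := hfi ▸ L.conj_closed hP (hle _ _ hf)
    obtain ⟨hfa, hrec⟩ := isFullyAutomized_of_normalized hS hF hQn
    refine ⟨Q, hQ, ?_, ?_⟩
    · obtain ⟨-, -, hp', hmax⟩ := isFullyAutomized_iff.mp hfa
      exact isFullyAutomized_iff.mpr ⟨hQn.1, autInducedBy_le D hQn.1, hp',
        fun C hC hAC hCD => hmax C hC hAC (hCD.trans (autGroup_mono hsub))⟩
    · refine isReceptive_iff.mpr ⟨hQn.1, fun R g hg hgi => ?_⟩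
      have hR : R ∈ 𝒳 := by
        obtain ⟨gi, hgi', -, -, hgii⟩ := hg.inverse
        rw [hgi] at hgi' hgii
        exact hgii ▸ L.conj_closed hQ𝒳 (hle _ _ hgi')
      obtain ⟨hgF, hg1⟩ := (L.isMor_sys_iff hS hΔ hR).mp hg
      obtain ⟨k, hk, hke⟩ := (isReceptive_iff.mp hrec).2 R g hgF hgi
      have hRN := le_nExt hgF
      have hN : nExt S R g ∈ 𝒳 := L.up hR hRN hk.le
      obtain ⟨d, hd⟩ := L.exists_th hN hk
      have h1 := L.unique hR hgF (L.restrict hR hRN hk hd hke) hg1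
      exact ⟨k, L.isMor_sys_of_th hS hΔ hN hk (h1 ▸ hd), hke⟩
  · intro D' hD'
    refine le_iff_isMor.mpr fun P f hf => ?_
    have hf' := (L.isMor_sys hS hΔ).mp hf
    clear hf
    induction hf' with
    | step hR hg ht hPR e =>
      obtain ⟨φ, hφ, hφe⟩ := L.isMor_sys_of_th hS hΔ hR hg ht
      exact ((show IsMor D' _ _ from ⟨φ, hD' _ ⟨hR, hg.le⟩ hφ, hφe⟩).restrict hPR).congr
        fun x hx => (e x hx).symm
    | comp _ _ e ih₁ ih₂ =>
      exact (ih₁.comp ih₂ fun x hx => mem_img_of_mem _ hx).congr fun x hx => (e x hx).symm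
  · intro P hP hP𝒳'
    have hP𝒳 : P ∉ 𝒳 := fun h => hP𝒳' ⟨h, hP.1⟩
    have hPF := (centric_iff_of_autFac hsub hfac).mp hP
    obtain ⟨f, x, hf, hx, hxP, α, hα, hαe⟩ := hstar P hPF hP𝒳
    obtain ⟨β, hβ, g, hg, e⟩ := hfac P f hf
    set Q := img P g
    have hbi := isMor_autFun le_rfl ((F.autGroup S).inv_mem hβ)
    have hQ : img (img P f) (autFun β⁻¹) = Q := by
      rw [hf.img_comp]
      exact img_congr fun y hy => by
        rw [Function.comp_apply, e y hy, autFun_inv_left β (hg.mem hy)]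
    have hbQ := hbi.restrict hf.img_le
    obtain ⟨d, hd, -, -⟩ := exists_transport hbQ hQ
    have h1 := (OFam.core F p).nat _ Q (autFun β⁻¹) hbQ hQ α hα (d α) (hd α)
    set x' := autFun β⁻¹ x
    have hxS := (mem_normalizerIn.mp hx).1
    have hde : ∀ y ∈ Q, autFun (d α) y = cj x' y := by
      intro y hy
      obtain ⟨z, hz, rfl⟩ := hbQ.mem_img.mp (hQ.symm ▸ hy)
      rw [hd α z hz, hαe z hz]
      exact hbi.map_conj hxS (hf.img_le hz)
    have hda : d α ∈ autInducedBy S Q := by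
      refine mem_autInducedBy.mpr ⟨x', autFun_mem _ hxS, ?_, hde⟩
      have hm := mapsTo_normalizerIn (hbi.restrict (normalizerIn_le (P := img P f)))
        (le_normalizerIn hf.img_le) le_rfl x hx
      rw [hQ] at hm
      exact (mem_normalizerIn.mp hm).2
    refine ⟨Q, isConj_img hg, fun hinn => ?_⟩
    have hcore : d α ∈ (pCore p ↥(D.autGroup Q)).map (D.autGroup Q).subtype := by
      have hdD : d α ∈ D.autGroup Q := autInducedBy_le D hg.img_le hda
      let N : Subgroup (D.autGroup Q) :=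
        ((pCore p ↥(F.autGroup Q)).map (F.autGroup Q).subtype).comap (D.autGroup Q).subtype
      have hN : N.Normal := ⟨fun b hb γ => by
        obtain ⟨b', hb', hbe⟩ := hb
        let γ' : F.autGroup Q := ⟨(γ : MulAut Q), autGroup_mono hsub γ.2⟩
        haveI : (pCore p (F.autGroup Q)).Normal := Subgroup.sSup_normal _ fun N hN => hN.1
        exact ⟨γ' * b' * γ'⁻¹, Subgroup.Normal.conj_mem inferInstance b' hb' γ', by
          simp only [Subgroup.coe_subtype] at hbe ⊢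
          simp [γ', hbe]⟩⟩
      have hp' : IsPGroup p N := (CfsgLib.Base.isPGroup_map_pCore p _).comap_of_injective _
        (Subgroup.subtype_injective _)
      exact ⟨⟨d α, hdD⟩, CfsgLib.Base.le_pCore hp' h1, rfl⟩
    obtain ⟨u, hu, hue⟩ := mem_inn.mp (hinn ⟨hda, hcore⟩)
    have hxQ : x' ∈ Q := by
      have hc : u⁻¹ * x' ∈ centralizerIn S Q := mem_centralizerIn.mpr
        ⟨S.mul_mem (S.inv_mem (hg.img_le hu)) (autFun_mem _ hxS), fun y hy => by
          rw [cj_mul, ← hde y hy, hue y hy, cj_inv_cj]⟩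
      have := Q.mul_mem hu (hP.2 Q (isConj_img hg) hc)
      rwa [mul_inv_cancel_left] at this
    exact hxP ((hbi.mem_img_iff hf.img_le hxS).mp (hQ.symm ▸ hxQ))

theorem sys_isNormalIn (hF : F.IsSaturated p)
    (hrad : ∀ P : Subgroup Ω, F.IsCentric P → F.IsRadical p P → P ∈ 𝒳)
    (hsat : (L.sys hS hΔ).IsSaturated p) : (L.sys hS hΔ).IsNormalIn F p :=
  isNormalIn_of_autFac hF hsat (L.sys_sub hS hΔ) (L.sys_stable hS hΔ) (L.sys_fac hS hΔ hF hrad)

end Sys

end Label

end CfsgLib.Fusion
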