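import Mathlib
import Cfsg.Agent.Lib.Fusion.Label
import Cfsg.Agent.Lib.Fusion.CentricInf
import Cfsg.Agent.S5119

/-!
# The label defined by a homomorphism on `Aut_F(T)` killing `Aut_E(T)`, `E` invariant in `F`
-/

set_option autoImplicit false
set_option linter.unusedSectionVars false

namespace CfsgLib.Fusion

open Cfsg Cfsg.FusionSystem

variable {Ω : Type*} [Group Ω] {S T : Subgroup Ω} {F : FusionSystem S} {E : FusionSystem T}
  {Δ : Type*} [Group Δ]

/-- The label relation: on `U` the map `f` is an element of label `d` following a map of `E`. -/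
def NTh (F : FusionSystem S) (E : FusionSystem T) (χ : ↥(F.autGroup T) →* Δ)
    (U : Subgroup Ω) (f : Ω → Ω) (d : Δ) : Prop :=
  ∃ α : ↥(F.autGroup T), χ α = d ∧
    ∃ e, IsMor E U e ∧ ∀ x ∈ U, f x = autFun (α : MulAut T) (e x)

/-- On `U` the homomorphism `χ` is well defined. -/
def NWell (F : FusionSystem S) (E : FusionSystem T) (χ : ↥(F.autGroup T) →* Δ)
    (U : Subgroup Ω) : Prop :=
  ∀ γ : ↥(F.autGroup T), IsMor E U (autFun (γ : MulAut T)) → χ γ = 1

/-- An automorphism fixing `U` and centralizing `N / U` has `p`-power order. -/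
theorem pow_eq_one_of_stabilizes {p : ℕ} [Fact p.Prime] {N U : Subgroup Ω} [Finite U]
    (hU : IsPGroup p U) (hUN : U ≤ N) {δ : MulAut N}
    (h1 : ∀ u ∈ U, autFun δ u = u) (h2 : ∀ y ∈ N, y⁻¹ * autFun δ y ∈ U) :
    ∃ k : ℕ, δ ^ p ^ k = 1 := by
  obtain ⟨k, hk⟩ := IsPGroup.iff_card.mp hU
  refine ⟨k, autFun_inj fun y hy => ?_⟩
  have hn : ∀ n : ℕ, autFun (δ ^ n) y = y * (y⁻¹ * autFun δ y) ^ n := by
    intro n
    induction n with
    | zero => rw [pow_zero, autFun_one hy, pow_zero, mul_one]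
    | succ n ih =>
      have hd := h2 y hy
      rw [pow_succ', autFun_mul _ _ hy, ih, autFun_map_mul _ hy (N.pow_mem (hUN hd) n),
        h1 _ (U.pow_mem hd n), pow_succ', ← mul_assoc, ← mul_assoc, mul_inv_cancel, one_mul]
  rw [hn, autFun_one hy, ← hk,
    orderOf_dvd_iff_pow_eq_one.mp (Subgroup.orderOf_dvd_natCard U (h2 y hy)), mul_one]

section

variable [Finite S] {p : ℕ} [hp : Fact p.Prime] (χ : ↥(F.autGroup T) →* Δ)

omit [Finite S] hp in
theorem nth_of_isMor (hTS : T ≤ S) {U : Subgroup Ω} {f : Ω → Ω} (hf : IsMor E U f) :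
    NTh F E χ U f 1 :=
  ⟨1, map_one χ, f, hf, fun _ hx => (autFun_one (hf.mem hx)).symm⟩

omit [Finite S] hp in
theorem nth_restrict {U R : Subgroup Ω} {f f' : Ω → Ω} {d : Δ} (hUR : U ≤ R)
    (h : NTh F E χ R f d) (e : ∀ x ∈ U, f x = f' x) : NTh F E χ U f' d := by
  obtain ⟨α, hα, a, ha, hfa⟩ := h
  exact ⟨α, hα, a, ha.restrict hUR, fun x hx => (e x hx).symm.trans (hfa x (hUR hx))⟩

omit [Finite S] hp in
theorem nth_comp (hTS : T ≤ S) (hinv : StrongInv E F) {U R : Subgroup Ω} {f g : Ω → Ω} {d d' : Δ}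
    (hR : R ≤ T) (hfR : ∀ x ∈ U, f x ∈ R) (h : NTh F E χ U f d) (h' : NTh F E χ R g d') :
    NTh F E χ U (g ∘ f) (d' * d) := by
  obtain ⟨α, rfl, e, he, hfe⟩ := h
  obtain ⟨α', rfl, e', he', hge⟩ := h'
  have hαi := (F.autGroup T).inv_mem α.2
  obtain ⟨e'', he'', hee⟩ := hinv R T e' (autFun (α : MulAut T)⁻¹) hR le_rfl he'
    (fun x hx => he'.mem hx) (isMor_autFun hTS hαi)
  have hmap : ∀ x ∈ U, e x ∈ img R (autFun (α : MulAut T)⁻¹) := fun x hx => by
    have := mem_img_of_mem (autFun (α : MulAut T)⁻¹) (hfR x hx)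
    rwa [hfe x hx, autFun_inv_left _ (he.mem hx)] at this
  refine ⟨α' * α, map_mul χ α' α, e'' ∘ e, he.comp he'' hmap, fun x hx => ?_⟩
  show g (f x) = autFun ((α' : MulAut T) * (α : MulAut T)) (e'' (e x))
  rw [hge _ (hfR x hx), autFun_mul _ _ (he''.mem (hmap x hx))]
  congr 1
  have h1 := hee _ (hfR x hx)
  rw [hfe x hx, autFun_inv_left _ (he.mem hx)] at h1
  rw [h1, autFun_inv_right _ (he'.mem (hfe x hx ▸ hfR x hx)), hfe x hx]

omit [Finite S] hp in
theorem nth_unique {U : Subgroup Ω} {f : Ω → Ω} {d d' : Δ}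
    (hw : ∀ e, IsMor E U e → NWell F E χ (img U e)) (h : NTh F E χ U f d)
    (h' : NTh F E χ U f d') : d = d' := by
  obtain ⟨α, rfl, e, he, hfe⟩ := h
  obtain ⟨α', rfl, e', he', hfe'⟩ := h'
  obtain ⟨ei, hei, hl, -, hii⟩ := he.inverse
  have hm := hei.comp he' fun y hy => hii ▸ mem_img_of_mem ei hy
  have h1 := hw e he (α'⁻¹ * α) (hm.congr fun y hy => by
    obtain ⟨x, hx, rfl⟩ := he.mem_img.mp hy
    show e' (ei (e x)) = autFun ((α' : MulAut T)⁻¹ * (α : MulAut T)) (e x)
    rw [hl x hx, autFun_mul _ _ (he.mem hx), ← hfe x hx, hfe' x hx,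
      autFun_inv_left _ (he'.mem hx)])
  rw [map_mul, map_inv, inv_mul_eq_one] at h1
  exact h1.symm

theorem nth_exists (hS : IsPGroup p S) (hF : F.IsSaturated p) (hsub : E.IsSubsystemOf F)
    (hT : F.StronglyClosed T) (hinv : StrongInv E F) {U : Subgroup Ω} {f : Ω → Ω}
    (hU : U ≤ T) (hf : IsMor F U f) : ∃ d, NTh F E χ U f d := by
  obtain ⟨α, hα, e, he, hfe⟩ := factors_of_strongInv hS hF hsub hT hinv hf hU
  exact ⟨χ ⟨α, hα⟩, ⟨α, hα⟩, rfl, e, he, hfe⟩

/-- Images of `E`-centric subgroups under maps of `F` are `E`-centric. -/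
theorem centric_img_of_invariant (hS : IsPGroup p S) (hF : F.IsSaturated p)
    (hsub : E.IsSubsystemOf F) (hT : F.StronglyClosed T) (hinv : StrongInv E F)
    {U : Subgroup Ω} {f : Ω → Ω} (hU : E.IsCentric U) (hf : IsMor F U f) :
    E.IsCentric (img U f) := by
  have hsc := (stronglyClosed_iff.mp hT).2
  refine ⟨img_le fun x hx => hsc U f hf x hx (hU.1 hx), fun R hR => ?_⟩
  obtain ⟨k, hk, rfl⟩ := isConj_iff.mp hR
  have hkf := hf.comp (le_iff_isMor.mp hsub _ _ hk) fun x hx => mem_img_of_mem f hx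
  obtain ⟨α, hα, e, he, hfe⟩ := factors_of_strongInv hS hF hsub hT hinv hkf hU.1
  rw [hf.img_comp, img_congr hfe, show (fun x => autFun α (e x)) = autFun α ∘ e from rfl,
    ← he.img_comp]
  intro c hc
  obtain ⟨hcT, hcc⟩ := mem_centralizerIn.mp hc
  have ha := isMor_autFun hT.1 hα
  have heT : img U e ≤ T := he.img_le
  have hd : autFun α⁻¹ c ∈ centralizerIn T (img U e) := by
    refine mem_centralizerIn.mpr ⟨autFun_mem _ hcT, fun y hy => ?_⟩
    have h1 := hcc _ (mem_img_of_mem (autFun α) hy)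
    refine ha.inj (T.mul_mem (T.mul_mem (autFun_mem _ hcT) (heT hy))
      (T.inv_mem (autFun_mem _ hcT))) (heT hy) ?_
    rw [cj_apply, ha.map_conj (autFun_mem _ hcT) (heT hy), autFun_inv_right α hcT]
    exact h1
  have h2 := mem_img_of_mem (autFun α) (hU.2 _ (isConj_img he) hd)
  rwa [autFun_inv_right α hcT] at h2

/-- `χ` is well defined on every `E`-centric subgroup. -/
theorem nwell [Finite Δ] (hS : IsPGroup p S) (hF : F.IsSaturated p) (hEs : E.IsSaturated p)
    (hsub : E.IsSubsystemOf F) (hT : F.StronglyClosed T) (hinv : StrongInv E F)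
    (hΔ : (Nat.card Δ).Coprime p)
    (hker : (E.autGroup T).subgroupOf (F.autGroup T) ≤ χ.ker) :
    ∀ U, E.IsCentric U → NWell F E χ U := by
  have hTS := hT.1
  have : Finite T := finite_of_le hTS
  have hTp : IsPGroup p T := isPGroup_of_le hTS hS
  have hsc := (stronglyClosed_iff.mp hT).2
  suffices h : ∀ n (U : Subgroup Ω), Nat.card T - Nat.card U = n → E.IsCentric U → NWell F E χ U from
    fun U hU => h _ U rfl hU
  intro n
  induction n using Nat.strong_induction_on with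
  | _ n ih =>
  intro U hn hU γ hγ
  subst hn
  rcases eq_or_lt_of_le hU.1 with e | hlt
  · rw [e] at hγ
    exact hker (show (γ : MulAut T) ∈ E.autGroup T from (autGroup_eq_set le_rfl _).mpr hγ)
  set N := normalizerIn T U with hNdef
  have hUN : U ≤ N := le_normalizerIn hU.1
  have hNT : N ≤ T := normalizerIn_le
  have hUlt : U < N := lt_inf_normalizer hTp hlt
  have hNc : E.IsCentric N := centric_mono hU hUN hNT
  have hgF := isMor_autFun hTS γ.2
  have hgiF := isMor_autFun hTS ((F.autGroup T).inv_mem γ.2)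
  have hU₁ : E.IsCentric (img U (autFun (γ : MulAut T))) :=
    centric_of_isConj hU (isConj_img hγ)
  obtain ⟨k, hk, hke⟩ := (isReceptive_iff.mp (centric_receptive hTp hEs hU₁)).2 U _ hγ rfl
  have hNn : N ≤ nExt T U (autFun (γ : MulAut T)) := by
    intro t ht
    obtain ⟨htT, htn⟩ := mem_normalizerIn.mp ht
    exact ⟨htT, htn, autFun (γ : MulAut T) t, autFun_mem _ htT,
      fun x hx => hgF.map_conj htT (hU.1 hx)⟩
  have hkN := hk.restrict hNn
  have hkNF := le_iff_isMor.mp hsub _ _ hkN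
  -- the difference of the extension and `γ`
  have hδm : IsMor F N (autFun (γ : MulAut T)⁻¹ ∘ k) := hkNF.comp hgiF fun x hx => hkN.mem hx
  have hfix : ∀ u ∈ U, autFun (γ : MulAut T)⁻¹ (k u) = u := fun u hu => by
    rw [hke u hu, autFun_inv_left _ (hU.1 hu)]
  have himg : img N (autFun (γ : MulAut T)⁻¹ ∘ k) = N := by
    refine hδm.img_eq_self fun y hy => mem_normalizerIn.mpr ⟨autFun_mem _ (hkN.mem hy), ?_⟩
    have h1 := mapsTo_normalizerIn hδm hUN (inf_le_inf_right _ hTS) y hy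
    rw [img_congr (f := autFun (γ : MulAut T)⁻¹ ∘ k) (g := id) hfix, img_id] at h1
    exact (mem_normalizerIn.mp h1).2
  obtain ⟨δ, hδ, hδe⟩ := exists_aut hδm himg
  have h1 : ∀ u ∈ U, autFun δ u = u := fun u hu => (hδe u (hUN hu)).trans (hfix u hu)
  have h2 : ∀ y ∈ N, y⁻¹ * autFun δ y ∈ U := by
    intro y hy
    refine hU.2 U (isConj_refl E hU.1) (mem_centralizerIn.mpr
      ⟨T.mul_mem (T.inv_mem (hNT hy)) (hNT (autFun_mem δ hy)), fun u hu => ?_⟩)
    have hd := isMor_autFun (hNT.trans hTS) hδ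
    have hyu : cj y u ∈ U :=
      (Subgroup.mem_normalizer_iff.mp (mem_normalizerIn.mp hy).2 u).mp hu
    have h3 : autFun δ (cj y u) = cj (autFun δ y) (autFun δ u) := hd.map_conj hy (hUN hu)
    rw [h1 u hu, h1 _ hyu] at h3
    rw [cj_mul, ← h3, cj_inv_cj]
  have : Finite U := finite_of_le (hU.1.trans hTS)
  obtain ⟨m, hm⟩ := pow_eq_one_of_stabilizes (isPGroup_of_le hU.1 hTp) hUN h1 h2
  -- labels of the automorphisms of `N`
  have hcard : Nat.card T - Nat.card N < Nat.card T - Nat.card U := by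
    have := card_lt_of_lt (hNT.trans hTS) hUlt
    have := Subgroup.card_le_of_le hNT
    omega
  have hw : ∀ e, IsMor E N e → NWell F E χ (img N e) := fun e he =>
    ih _ (by rwa [he.card_img]) _ rfl (centric_of_isConj hNc (isConj_img he))
  have hNN : N ≤ T := hNT
  obtain ⟨d, hd⟩ := nth_exists χ hS hF hsub hT hinv hNT (isMor_autFun (hNT.trans hTS) hδ)
  have hpow : ∀ i : ℕ, NTh F E χ N (autFun (δ ^ i)) (d ^ i) := by
    intro i
    induction i with
    | zero =>
      rw [pow_zero, pow_zero]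
      exact nth_restrict χ le_rfl (nth_of_isMor χ hTS (isMor_id E hNT))
        fun x hx => (autFun_one hx).symm
    | succ i ih' =>
      rw [pow_succ' δ, pow_succ' d]
      exact nth_restrict χ le_rfl (nth_comp χ hTS hinv hNN (fun x hx => autFun_mem _ hx) ih' hd)
        fun x hx => (autFun_mul _ _ hx).symm
  have hd1 : d = 1 := by
    have h := hpow (p ^ m)
    rw [hm] at h
    have h' := nth_unique χ hw h (nth_restrict χ le_rfl (nth_of_isMor χ hTS (isMor_id E hNT))
      fun x hx => (autFun_one hx).symm)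
    exact orderOf_eq_one_iff.mp (Nat.eq_one_of_dvd_coprimes (hΔ.pow_right m)
      (orderOf_dvd_natCard d) (orderOf_dvd_of_pow_eq_one h'))
  subst hd1
  have hgN : NTh F E χ T (autFun (γ : MulAut T)) (χ γ) :=
    ⟨γ, rfl, id, isMor_id E le_rfl, fun _ _ => rfl⟩
  have hk1 : NTh F E χ N k (χ γ * 1) := by
    refine nth_restrict χ le_rfl
      (nth_comp χ hTS hinv le_rfl (fun x hx => hNT (autFun_mem δ hx)) hd hgN) fun x hx => ?_
    show autFun (γ : MulAut T) (autFun δ x) = k x
    rw [hδe x hx]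
    exact autFun_inv_right _ (hkN.mem hx)
  have := nth_unique χ hw hk1 (nth_of_isMor χ hTS hkN)
  rwa [mul_one] at this

/-- An element of `Aut_F(S)` with given label. -/
theorem nth_surj [Finite Δ] (hS : IsPGroup p S) (hF : F.IsSaturated p) (hT : F.StronglyClosed T)
    (hΔ : (Nat.card Δ).Coprime p) (hχ : Function.Surjective χ) (d : Δ) :
    ∃ β ∈ F.autGroup S, NTh F E χ T (autFun β) d := by
  have hTS := hT.1
  have hsc := (stronglyClosed_iff.mp hT).2
  have hTn : F.IsFullyNormalized T := by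
    refine ⟨hTS, fun Q hQ => ?_⟩
    obtain ⟨f, hf, rfl⟩ := isConj_iff.mp hQ
    rw [hf.img_eq_self fun x hx => hsc T f hf x hx hx]
  obtain ⟨hfa, hrec⟩ := isFullyAutomized_of_normalized hS hF hTn
  obtain ⟨-, hAF, hAp, hAmax⟩ := isFullyAutomized_iff.mp hfa
  set A := autInducedBy S T
  let K : Subgroup (MulAut T) := χ.ker.map (F.autGroup T).subtype
  have hAK : A ≤ K := by
    intro a ha
    refine ⟨⟨a, hAF ha⟩, MonoidHom.mem_ker.mpr ?_, rfl⟩
    obtain ⟨k, hk⟩ := hAp ⟨a, ha⟩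
    have h1 : (⟨a, hAF ha⟩ : ↥(F.autGroup T)) ^ p ^ k = 1 :=
      Subtype.ext (show a ^ p ^ k = 1 from congrArg Subtype.val hk)
    exact orderOf_eq_one_iff.mp (Nat.eq_one_of_dvd_coprimes (hΔ.pow_right k)
      (orderOf_dvd_natCard _) (orderOf_dvd_of_pow_eq_one (by rw [← map_pow, h1, map_one])))
  have hKF : K ≤ F.autGroup T := Subgroup.map_subtype_le _
  have hsyl : IsSylIn p A K := ⟨hAK, hAp, fun C hC hAC hCK => hAmax C hC hAC (hCK.trans hKF)⟩
  obtain ⟨γ, rfl⟩ := hχ d
  have := finite_mulAut hTS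
  obtain ⟨b, hb, hbc⟩ := hsyl.exists_conj_le (hAp.map (MulAut.conj (γ : MulAut T)).toMonoidHom) (by
    rintro _ ⟨a, ha, rfl⟩
    obtain ⟨a', ha', rfl⟩ := hAK ha
    exact ⟨γ * a' * γ⁻¹, χ.normal_ker.conj_mem a' ha' γ, rfl⟩)
  obtain ⟨b', hb', rfl⟩ := hb
  set η : ↥(F.autGroup T) := b' * γ
  have hη : χ η = χ γ := by rw [map_mul, MonoidHom.mem_ker.mp hb', one_mul]
  obtain ⟨k, hk, hke⟩ :=
    (isReceptive_iff.mp hrec).2 T _ (isMor_autFun hTS η.2) (img_autFun (η : MulAut T))
  have hSn : S ≤ nExt S T (autFun (η : MulAut T)) := by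
    intro s hs
    obtain ⟨c, hc, hce⟩ := exists_autInducedBy hs (stronglyClosed_le_normalizer hT hs)
    obtain ⟨h, hh, -, hhe⟩ := mem_autInducedBy.mp (hbc _ ⟨c, hc, rfl⟩)
    refine ⟨hs, stronglyClosed_le_normalizer hT hs, h, hh,
      (mul_conj_aut (α := (η : MulAut T)) hce hhe).mp ?_⟩
    simp [η, mul_assoc]
  have hkS := hk.restrict hSn
  obtain ⟨β, hβ, hβe⟩ := exists_aut hkS (hkS.img_eq_self fun x hx => hkS.mem hx)
  exact ⟨β, hβ, η, hη, id, isMor_id E le_rfl, fun x hx => (hβe x (hTS hx)).trans (hke x hx)⟩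

/-- The label of an invariant subsystem. -/
noncomputable def normalLabel [Finite Δ] (hS : IsPGroup p S) (hF : F.IsSaturated p)
    (hEs : E.IsSaturated p) (hE : E.IsInvariantIn F) (hΔ : (Nat.card Δ).Coprime p)
    (hχ : Function.Surjective χ) (hker : (E.autGroup T).subgroupOf (F.autGroup T) ≤ χ.ker) :
    Label F {P | E.IsCentric (P ⊓ T)} Δ :=
  have hsub := hE.1
  have hT := hE.2.1
  have hinv : StrongInv E F :=
    strongInv_iff.mpr ((Cfsg.Agent.S5119.result p hS F hF E hsub hT).mp hE)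
  have hST : S ⊓ T = T := inf_eq_right.mpr hT.1
  have : Finite T := finite_of_le hT.1
  have hTp : IsPGroup p T := isPGroup_of_le hT.1 hS
  have hsc := (stronglyClosed_iff.mp hT).2
  { Th := fun P f d => NTh F E χ (P ⊓ T) f d
    self_mem := by show E.IsCentric (S ⊓ T); rw [hST]; exact centric_self E
    conj_closed := fun {P f} hP hf => by
      have h := centric_img_of_invariant hS hF hsub hT hinv hP (hf.restrict inf_le_left)
      obtain ⟨g, hg, hgl, hgr, hgi⟩ := hf.inverse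
      have e : img P f ⊓ T = img (P ⊓ T) f := by
        refine le_antisymm ?_ (img_le fun x hx =>
          ⟨mem_img_of_mem f hx.1, hsc P f hf x hx.1 hx.2⟩)
        rintro y ⟨hy, hyT⟩
        have h1 := hsc _ g hg y hy hyT
        rw [← hgr y hy]
        exact mem_img_of_mem f ⟨hgi.le (mem_img_of_mem g hy), h1⟩
      show E.IsCentric (img P f ⊓ T)
      rw [e]
      exact h
    up := fun hP hPR _ => centric_mono hP (inf_le_inf_right _ hPR) inf_le_right
    exists_th := fun _ hf => nth_exists χ hS hF hsub hT hinv inf_le_right (hf.restrict inf_le_left)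
    unique := fun hP _ h h' => nth_unique χ (fun e he =>
      nwell χ hS hF hEs hsub hT hinv hΔ hker _ (centric_of_isConj hP (isConj_img he))) h h'
    restrict := fun _ hPR _ h e =>
      nth_restrict χ (inf_le_inf_right _ hPR) h fun x hx => e x hx.1
    comp := fun {P R f g d d'} _ hf _ hfR h h' => nth_comp χ hT.1 hinv inf_le_right
      (fun x hx => ⟨hfR x hx.1, hsc P f hf x hx.1 hx.2⟩) h h'
    surj := fun d => by rw [hST]; exact nth_surj χ hS hF hT hΔ hχ d }

end

end CfsgLib.Fusion
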