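import Mathlib
import Cfsg.Agent.Lib.Fusion.Label
import Cfsg.Agent.Lib.Fusion.AlperinAbove

/-!
# The subsystem generated by the `p`-elements of the automizers of the centric subgroups
-/

set_option autoImplicit false
set_option linter.unusedSectionVars false

namespace CfsgLib.Fusion

open Cfsg Cfsg.FusionSystem

variable {Ω : Type*} [Group Ω] {S : Subgroup Ω} {F : FusionSystem S} {p : ℕ}
  [hp : Fact p.Prime] [Finite S]

/-- The automorphism `θ` of `S` carries `F` into itself. -/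
def Sym (F : FusionSystem S) (θ : MulAut S) : Prop :=
  ∀ P f, IsMor F P f → IsMor F (img P (autFun θ)) (autFun θ ∘ f ∘ autFun θ⁻¹)

theorem mem_img_autFun {P : Subgroup Ω} (hP : P ≤ S) {θ : MulAut S} {y : Ω} :
    y ∈ img P (autFun θ) ↔ ∃ x ∈ P, autFun θ x = y := by
  rw [← map_subgroupOf_eq_img (ψ := S.subtype.comp θ.toMonoidHom) (f := autFun θ)
    (fun x => (autFun_coe θ x).symm) hP]
  constructor
  · rintro ⟨x, hx, rfl⟩
    exact ⟨x, hx, autFun_coe θ x⟩
  · rintro ⟨x, hx, rfl⟩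
    exact ⟨⟨x, hP hx⟩, hx, (autFun_coe θ ⟨x, hP hx⟩).symm⟩

theorem img_autFun_cancel {P : Subgroup Ω} (hP : P ≤ S) (θ : MulAut S) :
    img (img P (autFun θ)) (autFun θ⁻¹) = P := by
  refine le_antisymm (img_le fun y hy => ?_) fun x hx => ?_
  · obtain ⟨x, hx, rfl⟩ := (mem_img_autFun hP).mp hy
    rw [autFun_inv_left θ (hP hx)]; exact hx
  · have := mem_img_of_mem (autFun θ⁻¹) (mem_img_of_mem (autFun θ) hx)
    rwa [autFun_inv_left θ (hP hx)] at this

theorem sym_of_mem {β : MulAut S} (hβ : β ∈ F.autGroup S) : Sym F β := by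
  intro P f hf
  have hb := isMor_autFun le_rfl hβ
  have hbi := (isMor_autFun le_rfl ((F.autGroup S).inv_mem hβ)).restrict (img_aut_le hf.le β)
  have hm : ∀ y ∈ img P (autFun β), autFun β⁻¹ y ∈ P := fun y hy =>
    (img_autFun_cancel hf.le β).le (mem_img_of_mem _ hy)
  exact (hbi.comp hf hm).comp hb fun y hy => hf.mem (hm y hy)

/-- Images of centric subgroups under symmetries are centric. -/
theorem centric_of_sym {θ : MulAut S} (hθi : Sym F θ⁻¹) {R : Subgroup Ω} (hR : F.IsCentric R) :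
    F.IsCentric (img R (autFun θ)) := by
  refine ⟨img_aut_le hR.1 θ, fun Q hQ => ?_⟩
  obtain ⟨f, hf, rfl⟩ := isConj_iff.mp hQ
  have h1 := hθi _ f hf
  rw [inv_inv, img_autFun_cancel hR.1] at h1
  intro c hc
  obtain ⟨hcS, hcc⟩ := mem_centralizerIn.mp hc
  have hd : autFun θ⁻¹ c ∈ centralizerIn S (img R (autFun θ⁻¹ ∘ f ∘ autFun θ)) := by
    refine mem_centralizerIn.mpr ⟨autFun_mem _ hcS, fun y hy => ?_⟩
    obtain ⟨x, hx, rfl⟩ := h1.mem_img.mp hy
    have hfx := hf.mem (mem_img_of_mem (autFun θ) hx)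
    have h2 := hcc _ (mem_img_of_mem f (mem_img_of_mem (autFun θ) hx))
    simp only [Function.comp_apply]
    conv_rhs => rw [← h2]
    rw [cj_apply, cj_apply, autFun_map_mul _ (S.mul_mem hcS hfx) (S.inv_mem hcS),
      autFun_map_mul _ hcS hfx, autFun_inv_map _ hcS]
  obtain ⟨x, hx, hxe⟩ := h1.mem_img.mp (hR.2 _ (isConj_img h1) hd)
  simp only [Function.comp_apply] at hxe
  have hfx := hf.mem (mem_img_of_mem (autFun θ) hx)
  have h3 := mem_img_of_mem f (mem_img_of_mem (autFun θ) hx)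
  rwa [← autFun_inv_right θ hfx, hxe, autFun_inv_right θ hcS] at h3

/-- The maps generated by restrictions of `p`-elements of automizers of centric subgroups. -/
inductive OpGen (F : FusionSystem S) (p : ℕ) : Subgroup Ω → (Ω → Ω) → Prop
  | step {P R : Subgroup Ω} {f : Ω → Ω} (α : MulAut R) (k : ℕ) : F.IsCentric R →
      α ∈ F.autGroup R → α ^ p ^ k = 1 → P ≤ R → (∀ x ∈ P, f x = autFun α x) → OpGen F p P f
  | comp {P : Subgroup Ω} {g h f : Ω → Ω} : OpGen F p P g → OpGen F p (img P g) h →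
      (∀ x ∈ P, f x = h (g x)) → OpGen F p P f

theorem OpGen.isMor {P : Subgroup Ω} {f : Ω → Ω} (h : OpGen F p P f) : IsMor F P f := by
  induction h with
  | step α _ hR hα _ hPR e =>
    exact ((isMor_autFun hR.1 hα).restrict hPR).congr fun x hx => (e x hx).symm
  | comp _ _ e ih₁ ih₂ =>
    exact (ih₁.comp ih₂ fun x hx => mem_img_of_mem _ hx).congr fun x hx => (e x hx).symm

theorem OpGen.congr {P : Subgroup Ω} {f f' : Ω → Ω} (h : OpGen F p P f)
    (e : ∀ x ∈ P, f x = f' x) : OpGen F p P f' := by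
  cases h with
  | step α k hR hα hk hPR e' =>
    exact .step α k hR hα hk hPR fun x hx => (e x hx).symm.trans (e' x hx)
  | comp h₁ h₂ e' => exact .comp h₁ h₂ fun x hx => (e x hx).symm.trans (e' x hx)

theorem OpGen.restrict {P : Subgroup Ω} {f : Ω → Ω} (h : OpGen F p P f) :
    ∀ P' ≤ P, OpGen F p P' f := by
  induction h with
  | step α k hR hα hk hPR e =>
    exact fun P' h' => .step α k hR hα hk (h'.trans hPR) fun x hx => e x (h' hx)
  | comp _ _ e ih₁ ih₂ =>
    exact fun P' h' => .comp (ih₁ P' h') (ih₂ _ (img_mono _ h')) fun x hx => e x (h' hx)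

theorem OpGen.inverse {P : Subgroup Ω} {f : Ω → Ω} (h : OpGen F p P f) :
    ∀ g, (∀ x ∈ P, g (f x) = x) → OpGen F p (img P f) g := by
  induction h with
  | @step P R f α k hR hα hk hPR e =>
    intro g hg
    have hm := ((isMor_autFun hR.1 hα).restrict hPR)
    rw [img_congr e]
    refine .step α⁻¹ k hR ((F.autGroup R).inv_mem hα) (by rw [inv_pow, hk, inv_one])
      (img_le fun x hx => autFun_mem α (hPR hx)) fun y hy => ?_
    obtain ⟨x, hx, rfl⟩ := hm.mem_img.mp hy
    rw [autFun_inv_left α (hPR hx), ← e x hx, hg x hx]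
  | @comp P g h f h₁ h₂ e ih₁ ih₂ =>
    intro k hk
    obtain ⟨gi, -, hgl, -, -⟩ := h₁.isMor.inverse
    obtain ⟨hi, -, hhl, -, hhii⟩ := h₂.isMor.inverse
    have hi' : img P f = img (img P g) h := by
      rw [h₁.isMor.img_comp]
      exact img_congr e
    rw [hi']
    refine .comp (ih₂ hi hhl)
      (show OpGen F p (img (img (img P g) h) hi) gi from hhii.symm ▸ ih₁ gi hgl) fun y hy => ?_
    obtain ⟨z, hz, rfl⟩ := h₂.isMor.mem_img.mp hy
    obtain ⟨x, hx, rfl⟩ := h₁.isMor.mem_img.mp hz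
    rw [hhl _ hz, hgl x hx, ← e x hx, hk x hx]

theorem OpGen.map_sym {θ : MulAut S} (hθ : Sym F θ) (hθi : Sym F θ⁻¹) {P : Subgroup Ω}
    {f : Ω → Ω} (h : OpGen F p P f) :
    OpGen F p (img P (autFun θ)) (autFun θ ∘ f ∘ autFun θ⁻¹) := by
  induction h with
  | @step P R f α k hR hα hk hPR e =>
    have hm : ∀ y ∈ img R (autFun θ), autFun θ⁻¹ y ∈ R := fun y hy =>
      (img_autFun_cancel hR.1 θ).le (mem_img_of_mem _ hy)
    have h1 := hθ R _ (isMor_autFun hR.1 hα)
    obtain ⟨α', hα', hαe⟩ := exists_aut h1 (h1.img_eq_self fun y hy =>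
      mem_img_of_mem _ (autFun_mem α (hm y hy)))
    have hn : ∀ n : ℕ, ∀ y ∈ img R (autFun θ),
        autFun (α' ^ n) y = autFun θ (autFun (α ^ n) (autFun θ⁻¹ y)) := by
      intro n
      induction n with
      | zero =>
        intro y hy
        rw [pow_zero, pow_zero, autFun_one hy, autFun_one (hm y hy),
          autFun_inv_right θ (img_aut_le hR.1 θ hy)]
      | succ n ih =>
        intro y hy
        rw [pow_succ' α', autFun_mul _ _ hy, ih y hy, pow_succ' α, autFun_mul _ _ (hm y hy),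
          hαe _ (mem_img_of_mem _ (autFun_mem _ (hm y hy))), Function.comp_apply,
          Function.comp_apply, autFun_inv_left θ (hR.1 (autFun_mem _ (hm y hy)))]
    refine .step α' k (centric_of_sym hθi hR) hα' (autFun_inj fun y hy => ?_) (img_mono _ hPR)
      fun y hy => ?_
    · rw [hn _ y hy, hk, autFun_one (hm y hy), autFun_one hy,
        autFun_inv_right θ (img_aut_le hR.1 θ hy)]
    · have hy' := (img_autFun_cancel (hPR.trans hR.1) θ).le (mem_img_of_mem _ hy)
      rw [hαe y (img_mono _ hPR hy)]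
      simp only [Function.comp_apply]
      rw [e _ hy']
  | @comp P g h f h₁ h₂ e ih₁ ih₂ =>
    have hPS := h₁.isMor.le
    have hi : img (img P (autFun θ)) (autFun θ ∘ g ∘ autFun θ⁻¹) = img (img P g) (autFun θ) := by
      refine le_antisymm (img_le fun y hy => ?_) (img_le fun z hz => ?_)
      · exact mem_img_of_mem _ (mem_img_of_mem g
          ((img_autFun_cancel hPS θ).le (mem_img_of_mem _ hy)))
      · obtain ⟨x, hx, rfl⟩ := h₁.isMor.mem_img.mp hz
        have := mem_img_of_mem (autFun θ ∘ g ∘ autFun θ⁻¹) (mem_img_of_mem (autFun θ) hx)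
        simpa [autFun_inv_left θ (hPS hx)] using this
    refine .comp ih₁ (hi.symm ▸ ih₂) fun y hy => ?_
    have hy' := (img_autFun_cancel hPS θ).le (mem_img_of_mem _ hy)
    simp only [Function.comp_apply]
    rw [autFun_inv_left θ (h₁.isMor.mem hy'), e _ hy']

theorem exists_opSys (hS : IsPGroup p S) (F : FusionSystem S) :
    ∃ D : FusionSystem S, ∀ P f, IsMor D P f ↔ OpGen F p P f := by
  refine ⟨ofPred S (OpGen F p) (fun P f h => ⟨h.isMor.le, fun x hx => h.isMor.mem hx⟩)
    (fun P f h x hx y hy e => h.isMor.inj hx hy e) (fun P f f' h e => h.congr e) ?_ ?_ ?_,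
    fun P f => ?_⟩
  · intro P s hP hs
    obtain ⟨α, hα, e⟩ := exists_autInducedBy (K := S) (P := S) hs (Subgroup.le_normalizer hs)
    obtain ⟨k, hk⟩ := isPGroup_autInducedBy (S := S) (P := S) hS ⟨α, hα⟩
    exact .step α k (centric_self F) (autInducedBy_le F le_rfl hα) (congrArg Subtype.val hk) hP
      fun x hx => (e x (hP hx)).symm
  · exact fun P R f g hf hg hfR => .comp hf (hg.restrict _ (img_le hfR)) fun _ _ => rfl
  · intro P f hf _
    obtain ⟨g, -, hgl, -, -⟩ := hf.isMor.inverse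
    exact ⟨g, hf.inverse g hgl, hgl⟩
  · exact isMor_ofPred fun h x hx y hy => h.isMor.map_mul hx hy

/-- The subsystem generated by the `p`-elements of automizers of centric subgroups. -/
noncomputable def opSys (hS : IsPGroup p S) (F : FusionSystem S) : FusionSystem S :=
  Classical.choose (exists_opSys hS F)

theorem isMor_opSys {hS : IsPGroup p S} {P : Subgroup Ω} {f : Ω → Ω} :
    IsMor (opSys hS F) P f ↔ OpGen F p P f :=
  Classical.choose_spec (exists_opSys hS F) P f

theorem opSys_sub (hS : IsPGroup p S) : (opSys hS F).IsSubsystemOf F :=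
  le_iff_isMor.mpr fun _ _ h => (isMor_opSys.mp h).isMor

theorem opSys_stable (hS : IsPGroup p S) : AutStable (opSys hS F) F := fun _ hβ _ _ hg =>
  isMor_opSys.mpr ((isMor_opSys.mp hg).map_sym (sym_of_mem hβ)
    (sym_of_mem ((F.autGroup S).inv_mem hβ)))

/-- `opSys` is the least system containing the `p`-elements of centric automizers. -/
theorem opSys_le (hS : IsPGroup p S) {D : FusionSystem S}
    (h : ∀ (R : Subgroup Ω) (α : MulAut R) (k : ℕ), F.IsCentric R → α ∈ F.autGroup R →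
      α ^ p ^ k = 1 → α ∈ D.autGroup R) : (opSys hS F).IsSubsystemOf D :=
  le_iff_isMor.mpr fun P f hf => by
    have hf' := isMor_opSys.mp hf
    clear hf
    induction hf' with
    | step α k hR hα hk hPR e =>
      exact ((isMor_autFun hR.1 (h _ α k hR hα hk)).restrict hPR).congr fun x hx => (e x hx).symm
    | comp _ _ e ih₁ ih₂ =>
      exact (ih₁.comp ih₂ fun x hx => mem_img_of_mem _ hx).congr fun x hx => (e x hx).symm

theorem opSys_le_of_index (hS : IsPGroup p S) {D : FusionSystem S}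
    (hD : D.HasPrimeToPIndexIn F p) : (opSys hS F).IsSubsystemOf D :=
  opSys_le hS fun R α k hR hα hk => by
    refine hD.2 R hR.1 ⟨⟨α, hα⟩, Subgroup.subset_closure ?_, rfl⟩
    obtain ⟨j, -, hj⟩ := (Nat.dvd_prime_pow hp.out).mp (orderOf_dvd_of_pow_eq_one
      (show (⟨α, hα⟩ : ↥(F.autGroup R)) ^ p ^ k = 1 from Subtype.ext hk))
    exact ⟨j, hj⟩

theorem opSys_fac (hS : IsPGroup p S) (hF : F.IsSaturated p) : AutFac (opSys hS F) F := by
  have hst := opSys_stable (F := F) hS
  refine autFac_of_generators hS hF (opSys_sub hS) hst ?_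
  obtain ⟨E, hE⟩ := exists_facSys hst
  suffices h : ∀ n (P : Subgroup Ω), Nat.card S - Nat.card P = n → (P = S ∨ F.IsEssential p P) →
      F.autGroup P ≤ E.autGroup P by
    intro P hP α hα
    have hPS : P ≤ S := hP.elim (fun e => e.le) fun he => essential_le he
    exact ((hE _ _).mp (isMor_autFun hPS (h _ P rfl hP hα))).2
  intro n
  induction n using Nat.strong_induction_on with
  | _ n ih =>
  intro P hn hP α hα
  subst hn
  rcases hP with rfl | hP
  · exact (autGroup_eq_set le_rfl α).mpr ((hE _ _).mpr ⟨isMor_autFun le_rfl hα, α, hα, id,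
      isMor_id _ le_rfl, fun _ _ => rfl⟩)
  have hPS := essential_lt hS hF hP
  obtain ⟨hfa, hrec⟩ := isFullyAutomized_of_normalized hS hF hP.2.1
  obtain ⟨-, hAF, hAp, hAmax⟩ := isFullyAutomized_iff.mp hfa
  set A := autInducedBy S P
  let O : Subgroup (F.autGroup P) :=
    Subgroup.closure {γ : F.autGroup P | ∃ k : ℕ, γ ^ p ^ k = 1}
  have hOn : O.Normal := ⟨fun x hx g => by
    induction hx using Subgroup.closure_induction with
    | mem y hy =>
      obtain ⟨k, hk⟩ := hy
      exact Subgroup.subset_closure ⟨k, by rw [conj_pow, hk, mul_one, mul_inv_cancel]⟩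
    | one => rw [mul_one, mul_inv_cancel]; exact O.one_mem
    | mul y z _ _ hy hz =>
      rw [show g * (y * z) * g⁻¹ = (g * y * g⁻¹) * (g * z * g⁻¹) by group]
      exact O.mul_mem hy hz
    | inv y _ hy =>
      rw [show g * y⁻¹ * g⁻¹ = (g * y * g⁻¹)⁻¹ by group]
      exact O.inv_mem hy⟩
  let K : Subgroup (MulAut P) := O.map (F.autGroup P).subtype
  have hOE : K ≤ E.autGroup P := by
    rw [show K = Subgroup.map _ (Subgroup.closure _) from rfl, MonoidHom.map_closure,
      Subgroup.closure_le]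
    rintro _ ⟨γ, ⟨k, hk⟩, rfl⟩
    have hg : OpGen F p P (autFun (γ : MulAut P)) :=
      .step (γ : MulAut P) k hP.1 γ.2 (congrArg Subtype.val hk) le_rfl fun _ _ => rfl
    exact (autGroup_eq_set hPS.le _).mpr ((hE _ _).mpr ⟨hg.isMor, 1, Subgroup.one_mem _, _,
      isMor_opSys.mpr hg, fun x hx => (autFun_one (hg.isMor.mem hx)).symm⟩)
  have hAK : A ≤ K := fun a ha => by
    obtain ⟨k, hk⟩ := hAp ⟨a, ha⟩
    exact ⟨⟨a, hAF ha⟩, Subgroup.subset_closure
      ⟨k, Subtype.ext (show a ^ p ^ k = 1 from congrArg Subtype.val hk)⟩, rfl⟩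
  have hKF : K ≤ F.autGroup P := Subgroup.map_subtype_le _
  have hsyl : IsSylIn p A K := ⟨hAK, hAp, fun C hC hAC hCK => hAmax C hC hAC (hCK.trans hKF)⟩
  have := finite_mulAut hPS.le
  obtain ⟨b, hb, hbc⟩ := hsyl.exists_conj_le (hAp.map (MulAut.conj α).toMonoidHom) (by
    rintro _ ⟨a, ha, rfl⟩
    obtain ⟨a', ha', rfl⟩ := hAK ha
    exact ⟨⟨α, hα⟩ * a' * ⟨α, hα⟩⁻¹, hOn.conj_mem a' ha' ⟨α, hα⟩, rfl⟩)
  have hη := (F.autGroup P).mul_mem (hKF hb) hα
  obtain ⟨k, hk, hke⟩ :=
    (isReceptive_iff.mp hrec).2 P _ (isMor_autFun hPS.le hη) (img_autFun (b * α))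
  have hN : normalizerIn S P ≤ nExt S P (autFun (b * α)) := by
    intro s hs
    obtain ⟨hsS, hsn⟩ := mem_normalizerIn.mp hs
    obtain ⟨c, hc, hce⟩ := exists_autInducedBy hsS hsn
    obtain ⟨h, hh, -, hhe⟩ := mem_autInducedBy.mp (hbc _ ⟨c, hc, rfl⟩)
    refine ⟨hsS, hsn, h, hh, (mul_conj_aut (α := b * α) hce hhe).mp ?_⟩
    simp [mul_assoc]
  have hlt := normalizerIn_gt hS hPS
  have hkE := alperin_above (Nat.card P) hS hF (E := E) (fun R hR hR' => ih _ (by
      have h1 : R ≤ S := hR'.elim (fun e => e.le) fun he => essential_le he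
      have := Subgroup.card_le_of_le h1
      omega) R rfl hR') _ k (hk.restrict hN) (card_lt_of_lt normalizerIn_le hlt)
  have hηE : b * α ∈ E.autGroup P :=
    (autGroup_eq_set hPS.le _).mpr ((hkE.restrict hlt.le).congr hke)
  simpa using (E.autGroup P).mul_mem ((E.autGroup P).inv_mem (hOE hb)) hηE

end CfsgLib.Fusion
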