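import Mathlib
import Cfsg.Agent.Lib.Fusion.OpGen
import Cfsg.Agent.Lib.Fusion.NormalLabel
import Cfsg.Prelude.Def_FusionComponents

/-!
# The `p'`-residual subsystem of a saturated system
-/

set_option autoImplicit false
set_option linter.unusedSectionVars false

namespace CfsgLib.Fusion

open Cfsg Cfsg.FusionSystem

variable {Ω : Type*} [Group Ω] {S : Subgroup Ω} {p : ℕ} [hp : Fact p.Prime] [Finite S]

/-- The automorphisms of `S` that restrict to a generated map on some centric subgroup. -/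
def aut0 (F : FusionSystem S) (p : ℕ) : Subgroup ↥(F.autGroup S) :=
  Subgroup.closure {β : ↥(F.autGroup S) | ∃ R : Subgroup Ω, F.IsCentric R ∧
    OpGen F p R (autFun (β : MulAut S))}

variable {F : FusionSystem S}

theorem mem_aut0_of_opGen {R : Subgroup Ω} {β : ↥(F.autGroup S)} (hR : F.IsCentric R)
    (h : OpGen F p R (autFun (β : MulAut S))) : β ∈ aut0 F p :=
  Subgroup.subset_closure ⟨R, hR, h⟩

/-- Symmetries of `F` carry `aut0` into itself. -/
theorem aut0_map_sym {θ : MulAut S} (hθ : Sym F θ) (hθi : Sym F θ⁻¹) {β : ↥(F.autGroup S)}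
    (hβ : β ∈ aut0 F p) :
    ∃ β' ∈ aut0 F p, (β' : MulAut S) = θ * (β : MulAut S) * θ⁻¹ := by
  induction hβ using Subgroup.closure_induction with
  | mem b hb =>
    obtain ⟨R, hR, hRb⟩ := hb
    have hθS : img S (autFun θ) = S := img_autFun θ
    have hm : θ * (b : MulAut S) * θ⁻¹ ∈ F.autGroup S := by
      have h := hθ S _ (isMor_autFun le_rfl b.2)
      rw [hθS] at h
      exact (autGroup_eq_set le_rfl _).mpr (h.congr fun x hx => by
        rw [Function.comp_apply, Function.comp_apply, autFun_mul _ _ hx,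
          autFun_mul _ _ (autFun_mem _ hx)])
    refine ⟨⟨_, hm⟩, mem_aut0_of_opGen (centric_of_sym hθi hR) ?_, rfl⟩
    refine (hRb.map_sym hθ hθi).congr fun y hy => ?_
    have hyS := img_aut_le hR.1 θ hy
    rw [Function.comp_apply, Function.comp_apply, autFun_mul _ _ hyS,
      autFun_mul _ _ (autFun_mem _ hyS)]
  | one => exact ⟨1, one_mem _, by simp⟩
  | mul b c _ _ hb hc =>
    obtain ⟨b', hb', eb⟩ := hb
    obtain ⟨c', hc', ec⟩ := hc
    refine ⟨b' * c', mul_mem hb' hc', ?_⟩
    rw [Subgroup.coe_mul, Subgroup.coe_mul, eb, ec]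
    group
  | inv b _ hb =>
    obtain ⟨b', hb', eb⟩ := hb
    refine ⟨b'⁻¹, Subgroup.inv_mem _ hb', ?_⟩
    rw [Subgroup.coe_inv, Subgroup.coe_inv, eb]
    group

instance aut0_normal (F : FusionSystem S) (p : ℕ) [Fact p.Prime] : (aut0 F p).Normal :=
  ⟨fun b hb γ => by
    obtain ⟨b', hb', e⟩ := aut0_map_sym (sym_of_mem γ.2)
      (sym_of_mem ((F.autGroup S).inv_mem γ.2)) hb
    have h1 : b' = γ * b * γ⁻¹ := Subtype.ext e
    exact h1 ▸ hb'⟩

theorem aut0_index_coprime (hS : IsPGroup p S) (hF : F.IsSaturated p) :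
    (Nat.card (↥(F.autGroup S) ⧸ aut0 F p)).Coprime p := by
  obtain ⟨-, R, hR⟩ := (isFullyAutomized_of_normalized hS hF (isFullyNormalized_self F)).1
  have := finite_mulAut (le_refl S)
  have hle : (R : Subgroup ↥(F.autGroup S)) ≤ aut0 F p := by
    intro a ha
    obtain ⟨k, hk⟩ := R.2 ⟨a, ha⟩
    exact mem_aut0_of_opGen (centric_self F) (.step (a : MulAut S) k (centric_self F) a.2
      (congrArg (fun x : ↥(R : Subgroup ↥(F.autGroup S)) => ((x : ↥(F.autGroup S)) : MulAut S)) hk)
      le_rfl fun _ _ => rfl)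
  have h1 : ¬ p ∣ (aut0 F p).index := fun h =>
    R.not_dvd_index (h.trans (Subgroup.index_dvd_of_le hle))
  exact ((Nat.Prime.coprime_iff_not_dvd hp.out).mpr h1).symm

/-- The label relation of the residual system. -/
def RTh (F : FusionSystem S) (p : ℕ) [Fact p.Prime] (P : Subgroup Ω) (f : Ω → Ω)
    (d : ↥(F.autGroup S) ⧸ aut0 F p) : Prop :=
  ∃ β : ↥(F.autGroup S), QuotientGroup.mk β = d ∧
    ∃ g, OpGen F p P g ∧ ∀ x ∈ P, f x = autFun (β : MulAut S) (g x)

/-- The label of the residual system. -/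
noncomputable def residualLabel (hS : IsPGroup p S) (hF : F.IsSaturated p) :
    Label F {P | F.IsCentric P} (↥(F.autGroup S) ⧸ aut0 F p) where
  Th := RTh F p
  self_mem := centric_self F
  conj_closed hP hf := centric_of_isConj hP (isConj_img hf)
  up hP hPR hR := centric_mono hP hPR hR
  exists_th {P f} _ hf := by
    obtain ⟨β, hβ, g, hg, e⟩ := opSys_fac hS hF P f hf
    exact ⟨_, ⟨β, hβ⟩, rfl, g, isMor_opSys.mp hg, e⟩
  unique {P f d d'} hP _ h h' := by
    obtain ⟨β, rfl, g, hg, e⟩ := h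
    obtain ⟨β', rfl, g', hg', e'⟩ := h'
    obtain ⟨gi, -, hgl, -, hgii⟩ := hg.isMor.inverse
    refine (QuotientGroup.eq.mpr ?_).symm
    refine mem_aut0_of_opGen (centric_of_isConj hP (isConj_img hg.isMor))
      (.comp (hg.inverse gi hgl) (hgii.symm ▸ hg') fun y hy => ?_)
    obtain ⟨x, hx, rfl⟩ := hg.isMor.mem_img.mp hy
    show autFun ((β' : MulAut S)⁻¹ * (β : MulAut S)) (g x) = g' (gi (g x))
    rw [hgl x hx, autFun_mul _ _ (hg.isMor.mem hx), ← e x hx, e' x hx,
      autFun_inv_left _ (hg'.isMor.mem hx)]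
  restrict {P R f f' d} _ hPR _ h he := by
    obtain ⟨β, hβ, g, hg, e⟩ := h
    exact ⟨β, hβ, g, hg.restrict P hPR, fun x hx => (he x hx).symm.trans (e x (hPR hx))⟩
  comp {P R f g d d'} _ _ _ hfR h h' := by
    obtain ⟨β, rfl, a, ha, e⟩ := h
    obtain ⟨β', rfl, b, hb, e'⟩ := h'
    have h1 := hb.map_sym (sym_of_mem ((F.autGroup S).inv_mem β.2))
      (by rw [inv_inv]; exact sym_of_mem β.2)
    rw [inv_inv] at h1
    have hle : img P a ≤ img R (autFun (β : MulAut S)⁻¹) := img_le fun x hx => by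
      have := mem_img_of_mem (autFun (β : MulAut S)⁻¹) (hfR x hx)
      rwa [e x hx, autFun_inv_left _ (ha.isMor.mem hx)] at this
    refine ⟨β' * β, rfl, _, .comp ha (h1.restrict _ hle) fun _ _ => rfl, fun x hx => ?_⟩
    simp only [Function.comp_apply]
    show g (f x) = autFun ((β' : MulAut S) * (β : MulAut S)) _
    rw [← e x hx, autFun_mul _ _ (autFun_mem _ (hb.isMor.mem (hfR x hx))),
      autFun_inv_right _ (hb.isMor.mem (hfR x hx)), e' _ (hfR x hx)]
  surj d := by
    obtain ⟨β, rfl⟩ := QuotientGroup.mk_surjective d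
    obtain ⟨k, hk⟩ : ∃ k : ℕ, (1 : MulAut S) ^ p ^ k = 1 := ⟨0, one_pow _⟩
    exact ⟨β, β.2, β, rfl, id, .step 1 k (centric_self F) (one_mem _) hk le_rfl
      fun x hx => (autFun_one hx).symm, fun _ _ => rfl⟩

variable (hS : IsPGroup p S) (hF : F.IsSaturated p)

/-- The `p'`-residual system. -/
noncomputable def residual : FusionSystem S :=
  have := finite_mulAut (le_refl S)
  (residualLabel hS hF).sys hS (aut0_index_coprime hS hF)

theorem isMor_residual {P : Subgroup Ω} {f : Ω → Ω} :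
    IsMor (residual hS hF) P f ↔ (residualLabel hS hF).Gen P f :=
  have := finite_mulAut (le_refl S)
  (residualLabel hS hF).isMor_sys hS (aut0_index_coprime hS hF)

theorem residual_sub : (residual hS hF).IsSubsystemOf F :=
  have := finite_mulAut (le_refl S)
  (residualLabel hS hF).sys_sub hS (aut0_index_coprime hS hF)

theorem residual_stable : AutStable (residual hS hF) F :=
  have := finite_mulAut (le_refl S)
  (residualLabel hS hF).sys_stable hS (aut0_index_coprime hS hF)

theorem residual_fac : AutFac (residual hS hF) F :=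
  have := finite_mulAut (le_refl S)
  (residualLabel hS hF).sys_fac hS (aut0_index_coprime hS hF) hF fun _ hP _ => hP

theorem residual_index : (residual hS hF).HasPrimeToPIndexIn F p :=
  hasPrimeToPIndexIn_of_autFac hS hF (residual_sub hS hF) (residual_stable hS hF)
    (residual_fac hS hF)

theorem residual_saturated : (residual hS hF).IsSaturated p :=
  have := finite_mulAut (le_refl S)
  (residualLabel hS hF).sys_saturated hS (aut0_index_coprime hS hF) hF (fun _ hP _ => hP)
    fun _ hP hP' => absurd hP hP'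

theorem autGroup_residual {β : ↥(F.autGroup S)} :
    (β : MulAut S) ∈ (residual hS hF).autGroup S ↔ β ∈ aut0 F p := by
  have := finite_mulAut (le_refl S)
  rw [autGroup_eq_set le_rfl, residual,
    (residualLabel hS hF).isMor_sys_iff hS (aut0_index_coprime hS hF) (residualLabel hS hF).self_mem]
  constructor
  · rintro ⟨-, b, hb, g, hg, e⟩
    obtain ⟨γ, hγ, hγe⟩ := exists_aut hg.isMor (hg.isMor.img_eq_self fun x hx => hg.isMor.mem hx)
    have h1 : (⟨γ, hγ⟩ : ↥(F.autGroup S)) ∈ aut0 F p :=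
      mem_aut0_of_opGen (centric_self F) (hg.congr fun x hx => (hγe x hx).symm)
    have h2 : β = b * ⟨γ, hγ⟩ := Subtype.ext (autFun_inj fun x hx => by
      show _ = autFun ((b : MulAut S) * γ) x
      rw [autFun_mul _ _ hx, hγe x hx, ← e x hx])
    exact h2 ▸ mul_mem ((QuotientGroup.eq_one_iff b).mp hb) h1
  · intro hβ
    exact ⟨isMor_autFun le_rfl β.2, β, (QuotientGroup.eq_one_iff β).mpr hβ, id,
      .step 1 0 (centric_self F) (one_mem _) (one_pow _) le_rfl fun x hx => (autFun_one hx).symm,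
      fun _ _ => rfl⟩

include hS in
/-- An automorphism of `S` in `D` on a centric subgroup is in `D`. -/
theorem mem_of_restrict_centric {D : FusionSystem S} (hDs : D.IsSaturated p)
    (hD : D.HasPrimeToPIndexIn F p) {β : MulAut S} (hβ : β ∈ F.autGroup S) :
    ∀ R : Subgroup Ω, F.IsCentric R → IsMor D R (autFun β) → β ∈ D.autGroup S := by
  suffices h : ∀ n (R : Subgroup Ω), Nat.card S - Nat.card R = n → F.IsCentric R →
      IsMor D R (autFun β) → β ∈ D.autGroup S from fun R => h _ R rfl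
  intro n
  induction n using Nat.strong_induction_on with
  | _ n ih =>
  intro R hn hR hRm
  subst hn
  rcases eq_or_lt_of_le hR.1 with e | hlt
  · rw [e] at hRm
    exact (autGroup_eq_set le_rfl β).mpr hRm
  set N := normalizerIn S R with hNdef
  have hNS : N ≤ S := normalizerIn_le
  have hRN : R ≤ N := le_normalizerIn hR.1
  have hRlt : R < N := normalizerIn_gt hS hlt
  have hb := isMor_autFun le_rfl hβ
  have hbi := isMor_autFun le_rfl ((F.autGroup S).inv_mem hβ)
  have hDF := le_iff_isMor.mp hD.1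
  have hR₁ : D.IsCentric (img R (autFun β)) := by
    have h1 : F.IsCentric (img R (autFun β)) := centric_of_isConj hR (isConj_img (hb.restrict hR.1))
    refine ⟨h1.1, fun Q hQ => h1.2 Q ?_⟩
    obtain ⟨f, hf, rfl⟩ := isConj_iff.mp hQ
    exact isConj_img (hDF _ _ hf)
  obtain ⟨k, hk, hke⟩ := (isReceptive_iff.mp (centric_receptive hS hDs hR₁)).2 R _ hRm rfl
  have hNn : N ≤ nExt S R (autFun β) := by
    intro t ht
    obtain ⟨htS, htn⟩ := mem_normalizerIn.mp ht
    exact ⟨htS, htn, autFun β t, autFun_mem _ htS, fun x hx => hb.map_conj htS (hR.1 hx)⟩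
  have hkN := hk.restrict hNn
  have hδm : IsMor F N (autFun β⁻¹ ∘ k) := (hDF _ _ hkN).comp hbi fun x hx => hkN.mem hx
  have hfix : ∀ u ∈ R, autFun β⁻¹ (k u) = u := fun u hu => by
    rw [hke u hu, autFun_inv_left _ (hR.1 hu)]
  have himg : img N (autFun β⁻¹ ∘ k) = N := by
    refine hδm.img_eq_self fun y hy => ?_
    have h1 := mapsTo_normalizerIn hδm hRN le_rfl y hy
    rwa [img_congr (f := autFun β⁻¹ ∘ k) (g := id) hfix, img_id] at h1
  obtain ⟨δ, hδ, hδe⟩ := exists_aut hδm himg
  have h1 : ∀ u ∈ R, autFun δ u = u := fun u hu => (hδe u (hRN hu)).trans (hfix u hu)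
  have h2 : ∀ y ∈ N, y⁻¹ * autFun δ y ∈ R := by
    intro y hy
    refine centric_centralizer_le hR (mem_centralizerIn.mpr
      ⟨S.mul_mem (S.inv_mem (hNS hy)) (hNS (autFun_mem δ hy)), fun u hu => ?_⟩)
    have hd := isMor_autFun hNS hδ
    have hyu : cj y u ∈ R :=
      (Subgroup.mem_normalizer_iff.mp (mem_normalizerIn.mp hy).2 u).mp hu
    have h3 : autFun δ (cj y u) = cj (autFun δ y) (autFun δ u) := hd.map_conj hy (hRN hu)
    rw [h1 u hu, h1 _ hyu] at h3
    rw [cj_mul, ← h3, cj_inv_cj]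
  have : Finite R := finite_of_le hR.1
  obtain ⟨m, hm⟩ := pow_eq_one_of_stabilizes (isPGroup_of_le hR.1 hS) hRN h1 h2
  have hδD : δ⁻¹ ∈ D.autGroup N := by
    refine hD.2 N hNS ⟨⟨δ⁻¹, (F.autGroup N).inv_mem hδ⟩, Subgroup.subset_closure ?_, rfl⟩
    obtain ⟨j, -, hj⟩ := (Nat.dvd_prime_pow hp.out).mp (orderOf_dvd_of_pow_eq_one
      (show (⟨δ⁻¹, (F.autGroup N).inv_mem hδ⟩ : ↥(F.autGroup N)) ^ p ^ m = 1 from
        Subtype.ext (by show δ⁻¹ ^ p ^ m = 1; rw [inv_pow, hm, inv_one])))
    exact ⟨j, hj⟩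
  have hβN : IsMor D N (autFun β) := by
    refine ((isMor_autFun hNS hδD).comp hkN fun x hx => autFun_mem _ hx).congr fun x hx => ?_
    rw [Function.comp_apply]
    have h4 := hδe _ (autFun_mem δ⁻¹ hx)
    rw [autFun_inv_right δ hx, Function.comp_apply] at h4
    conv_rhs => rw [h4, autFun_inv_right β (hkN.mem (autFun_mem δ⁻¹ hx))]
  refine ih _ ?_ N rfl (centric_mono hR hRN hNS) hβN
  have := card_lt_of_lt hNS hRlt
  have := Subgroup.card_le_of_le hNS
  omega

theorem residual_le {D : FusionSystem S} (hDs : D.IsSaturated p)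
    (hD : D.HasPrimeToPIndexIn F p) : (residual hS hF).IsSubsystemOf D := by
  have hop := le_iff_isMor.mp (opSys_le_of_index hS hD)
  have h0 : ∀ β ∈ aut0 F p, ((β : ↥(F.autGroup S)) : MulAut S) ∈ D.autGroup S := by
    intro β hβ
    induction hβ using Subgroup.closure_induction with
    | mem b hb =>
      obtain ⟨R, hR, hRb⟩ := hb
      exact mem_of_restrict_centric hS hDs hD b.2 R hR (hop _ _ (isMor_opSys.mpr hRb))
    | one => exact one_mem _
    | mul b c _ _ hb hc => exact (D.autGroup S).mul_mem hb hc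
    | inv b _ hb => exact (D.autGroup S).inv_mem hb
  refine le_iff_isMor.mpr fun P f hf => ?_
  have hf' := (isMor_residual hS hF).mp hf
  clear hf
  induction hf' with
  | step hR hg ht hPR e =>
    obtain ⟨β, hβ, g₀, hg₀, e₀⟩ := ht
    have hb := isMor_autFun le_rfl (h0 β ((QuotientGroup.eq_one_iff β).mp hβ))
    have hg0 := hop _ _ (isMor_opSys.mpr hg₀)
    exact ((hg0.comp hb fun x hx => hg0.mem hx).restrict hPR).congr
      fun x hx => (e₀ x (hPR hx)).symm.trans (e x hx).symm
  | comp _ _ e ih₁ ih₂ =>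
    exact (ih₁.comp ih₂ fun x hx => mem_img_of_mem _ hx).congr fun x hx => (e x hx).symm

theorem residual_isPPrimeResidual : F.IsPPrimeResidual p (residual hS hF) :=
  ⟨residual_saturated hS hF, residual_index hS hF, fun _ hD hD' => residual_le hS hF hD hD'⟩

theorem eq_residual {D : FusionSystem S} (hD : F.IsPPrimeResidual p D) : D = residual hS hF :=
  fusion_le_antisymm (hD.2.2 _ (residual_saturated hS hF) (residual_index hS hF))
    (residual_le hS hF hD.1 hD.2.1)

end CfsgLib.Fusion
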