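import Mathlib
import Cfsg.Agent.Lib.Fusion.AltPlane
import Cfsg.Agent.Lib.Fusion.GroupClimb
import Cfsg.Agent.Lib.Classical.SLGen
import Cfsg.Agent.Lib.KnownA.SylowAlt

/-! The fusion systems of alternating groups of degree at least `p²` and `0, 1` modulo `p`. -/

set_option autoImplicit false

open Equiv Equiv.Perm

namespace CfsgLib.Fusion.AltModel

open Cfsg Cfsg.FusionSystem CfsgLib.BlockApps.SylowSymGen

variable {p : ℕ} [Fact p.Prime] {m r : ℕ}

local notation "𝔸" => alternatingGroup (Pt m p r)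

theorem sign_eq_one_of_odd {α : Type*} [Fintype α] [DecidableEq α] {g : Perm α} {n : ℕ}
    (hn : Odd n) (h : g ^ n = 1) : sign g = 1 := by
  rcases Int.units_eq_one_or (sign g) with h1 | h1
  · exact h1
  · have h2 := congrArg sign h
    rw [map_pow, h1, hn.neg_one_pow, map_one] at h2
    exact absurd h2 (by decide)

theorem odd_of_ne_two (h : p ≠ 2) : Odd p := (Fact.out : p.Prime).odd_of_ne_two h

/-- The translations as a subgroup of translations and their preimage in the alternating group. -/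
theorem base_range_isPGroup : IsPGroup p (base (p := p) m r).range := by
  rintro ⟨_, f, rfl⟩
  exact ⟨1, Subtype.ext (by simpa using base_pow f)⟩

theorem base_range_le {H : Subgroup (Perm (Pt m p r))} (h : ∀ i, unitCycle m r i ∈ H) :
    (base (p := p) m r).range ≤ H := by
  classical
  rintro _ ⟨f, rfl⟩
  have e : f = ∏ i, (Multiplicative.ofAdd (Pi.single i (1 : ZMod p))) ^ (Multiplicative.toAdd f i).val := by
    apply Multiplicative.toAdd.injective
    rw [toAdd_prod]
    funext j
    simp [Finset.sum_apply, Pi.single_apply, Pi.natCast_apply, -ZMod.natCast_val]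
    exact (ZMod.natCast_zmod_val _).symm
  rw [e]
  refine (Subgroup.mem_comap (f := base (p := p) m r) (K := H)).mp (Subgroup.prod_mem _ fun i _ => ?_)
  refine Subgroup.pow_mem _ ?_ _
  exact h i

theorem mem_base_range_single (i : Fin m) :
    unitCycle m r i ∈ (base (p := p) m r).range := ⟨_, rfl⟩

theorem unitCycle_even (hp : p ≠ 2) (i : Fin m) : unitCycle m r i ∈ 𝔸 :=
  mem_alternatingGroup.mpr (sign_eq_one_of_odd (odd_of_ne_two hp) (base_pow _))

/-! ### Conjugacy of elements of order `p` -/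

theorem isConj_of_support {α : Type*} [Fintype α] [DecidableEq α] {a b : Perm α}
    (ha : a ^ p = 1) (hb : b ^ p = 1) (h : a.support.card = b.support.card) : _root_.IsConj a b := by
  rw [isConj_iff_cycleType_eq, cycleType_of_pow_prime_eq_one ha, cycleType_of_pow_prime_eq_one hb]
  congr 1
  have h1 := sum_cycleType a
  have h2 := sum_cycleType b
  rw [cycleType_of_pow_prime_eq_one ha, Multiset.sum_replicate, smul_eq_mul] at h1
  rw [cycleType_of_pow_prime_eq_one hb, Multiset.sum_replicate, smul_eq_mul] at h2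
  exact Nat.eq_of_mul_eq_mul_right (Fact.out : p.Prime).pos (by omega)

theorem exists_odd_commute (hm : 3 ≤ m) (f : Multiplicative (Fin m → ZMod p)) :
    ∃ c : Perm (Pt m p r), sign c = -1 ∧ Commute c (base m r f) := by
  classical
  by_cases hp : p = 2
  · refine ⟨unitCycle m r ⟨0, by omega⟩, ?_, ?_⟩
    · rw [(isCycle_of_card (y := unitCycle m r ⟨0, by omega⟩) (base_pow _) (unitCycle_support _)).sign, unitCycle_support, hp]
      decide
    · rw [unitCycle, commute_iff_eq, ← map_mul, ← map_mul, mul_comm]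
  · set F := Multiplicative.toAdd f with hF
    obtain ⟨i, j, hij, hiff⟩ : ∃ i j : Fin m, i ≠ j ∧ (F i = 0 ↔ F j = 0) := by
      have hi : (⟨0, by omega⟩ : Fin m) ≠ ⟨1, by omega⟩ := by simp [Fin.ext_iff]
      have hj : (⟨0, by omega⟩ : Fin m) ≠ ⟨2, by omega⟩ := by simp [Fin.ext_iff]
      have hk : (⟨1, by omega⟩ : Fin m) ≠ ⟨2, by omega⟩ := by simp [Fin.ext_iff]
      by_cases h0 : F ⟨0, by omega⟩ = 0 <;> by_cases h1 : F ⟨1, by omega⟩ = 0 <;>
        by_cases h2 : F ⟨2, by omega⟩ = 0
      all_goals first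
        | exact ⟨_, _, hi, iff_of_true h0 h1⟩
        | exact ⟨_, _, hi, iff_of_false h0 h1⟩
        | exact ⟨_, _, hj, iff_of_true h0 h2⟩
        | exact ⟨_, _, hj, iff_of_false h0 h2⟩
        | exact ⟨_, _, hk, iff_of_true h1 h2⟩
        | exact ⟨_, _, hk, iff_of_false h1 h2⟩
    obtain ⟨x, hxi, hxj⟩ : ∃ x : (ZMod p)ˣ, (x : ZMod p) * F i = F j ∧
        ((x⁻¹ : (ZMod p)ˣ) : ZMod p) * F j = F i := by
      by_cases h : F i = 0
      · exact ⟨1, by simp [h, hiff.mp h], by simp [h, hiff.mp h]⟩
      · have hj : F j ≠ 0 := fun e => h (hiff.mpr e)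
        refine ⟨Units.mk0 (F j / F i) (div_ne_zero hj h), by simp [h], ?_⟩
        rw [Units.val_inv_eq_inv_val, Units.val_mk0, inv_div, div_mul_cancel₀ _ hj]
    let u : Fin m → (ZMod p)ˣ := fun k => if k = i then x else if k = j then x⁻¹ else 1
    refine ⟨lift m r (Equiv.swap i j) * scale m r u, ?_, ?_⟩
    · have hu : sign (scale m r u) = 1 := by
        rw [sign_scale, Finset.prod_eq_mul i j hij
          (fun k _ hk => by
            rw [show u k = 1 from (if_neg hk.1).trans (if_neg hk.2),
              show Units.mulLeft (1 : (ZMod p)ˣ) = (1 : Perm (ZMod p)) from Equiv.ext fun a => one_mul a,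
              map_one])
          (fun h => absurd (Finset.mem_univ _) h) (fun h => absurd (Finset.mem_univ _) h)]
        rw [← map_mul, show Units.mulLeft (u i) * Units.mulLeft (u j) = (1 : Perm (ZMod p)) from ?_, map_one]
        refine Equiv.ext fun a => ?_
        show (u i : ZMod p) * ((u j : ZMod p) * a) = a
        rw [show u i = x from if_pos rfl, show u j = x⁻¹ from (if_neg hij.symm).trans (if_pos rfl),
          Units.mul_inv_cancel_left]
      rw [map_mul, sign_lift', sign_swap hij, hu, mul_one, (odd_of_ne_two hp).neg_one_pow]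
    · have h1 : lift m r (Equiv.swap i j) * scale m r u * base m r f *
          (lift m r (Equiv.swap i j) * scale m r u)⁻¹ = base m r f := by
        rw [show lift m r (Equiv.swap i j) * scale m r u * base m r f *
          (lift m r (Equiv.swap i j) * scale m r u)⁻¹ = lift m r (Equiv.swap i j) *
            (scale m r u * base m r f * (scale m r u)⁻¹) * (lift m r (Equiv.swap i j))⁻¹ by group,
          scale_mul_base, lift_mul_base]
        congr 1
        apply Multiplicative.toAdd.injective
        funext k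
        simp only [toAdd_ofAdd, Equiv.swap_inv]
        by_cases hki : k = i
        · rw [hki, Equiv.swap_apply_left, show u j = x⁻¹ from (if_neg hij.symm).trans (if_pos rfl),
            ← hF, hxj]
        by_cases hkj : k = j
        · rw [hkj, Equiv.swap_apply_right, show u i = x from if_pos rfl, ← hF, hxi]
        · rw [Equiv.swap_apply_of_ne_of_ne hki hkj,
            show u k = 1 from (if_neg hki).trans (if_neg hkj), Units.val_one, one_mul]
      exact mul_inv_eq_iff_eq_mul.mp h1

/-- An element of order `p` is conjugate in the alternating group to a translation. -/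
theorem exists_base_conj (hm : 3 ≤ m) (hr : r ≤ 1) (y : 𝔸) (hy : (y : Perm (Pt m p r)) ^ p = 1) :
    ∃ f, ∃ a : 𝔸, (a : Perm (Pt m p r)) = base m r f ∧ _root_.IsConj y a := by
  classical
  set k := Multiset.card (y : Perm (Pt m p r)).cycleType
  have hsum : (y : Perm (Pt m p r)).support.card = p * k := by
    rw [← sum_cycleType, cycleType_of_pow_prime_eq_one hy, Multiset.sum_replicate, smul_eq_mul,
      mul_comm]
  have hk : k ≤ m := by
    have h1 := Finset.card_le_univ (y : Perm (Pt m p r)).support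
    rw [hsum] at h1
    simp only [Fintype.card_sum, Fintype.card_prod, Fintype.card_fin, ZMod.card] at h1
    by_contra hlt
    have h2 : p * (m + 1) ≤ p * k := Nat.mul_le_mul_left p (by omega)
    have := (Fact.out : p.Prime).two_le
    rw [mul_add, mul_one, mul_comm p m] at h2
    omega
  let f : Multiplicative (Fin m → ZMod p) := Multiplicative.ofAdd fun i => if (i : ℕ) < k then 1 else 0
  have hb : (blocks (Multiplicative.toAdd f)).card = k := by
    rw [show blocks (Multiplicative.toAdd f) = Finset.univ.filter fun i : Fin m => (i : ℕ) < k from ?_,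
      Fin.card_filter_val_lt, min_eq_right hk]
    ext i
    by_cases h : (i : ℕ) < k <;> simp [f, blocks, h]
  obtain ⟨π, hπ⟩ := _root_.isConj_iff.mp
    (isConj_of_support hy (base_pow f) (by rw [hsum, support_base, hb]))
  have hf : base m r f ∈ 𝔸 := by
    rw [mem_alternatingGroup, ← hπ, map_mul, map_mul, map_inv, mem_alternatingGroup.mp y.2]
    simp
  refine ⟨f, ⟨_, hf⟩, rfl, ?_⟩
  rcases Int.units_eq_one_or (sign π) with h | h
  · exact _root_.isConj_iff.mpr ⟨⟨π, mem_alternatingGroup.mpr h⟩, Subtype.ext hπ⟩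
  · obtain ⟨c, hc, hcc⟩ := exists_odd_commute (p := p) (r := r) hm f
    refine _root_.isConj_iff.mpr ⟨⟨c * π, mem_alternatingGroup.mpr (by rw [map_mul, h, hc]; rfl)⟩,
      Subtype.ext ?_⟩
    show c * π * (y : Perm (Pt m p r)) * (c * π)⁻¹ = base m r f
    rw [show c * π * (y : Perm (Pt m p r)) * (c * π)⁻¹ = c * (π * y * π⁻¹) * c⁻¹ by group, hπ,
      hcc.eq, mul_inv_cancel_right]

theorem isConj_alt (hm : 3 ≤ m) (hr : r ≤ 1) {x y : 𝔸} (hx : (x : Perm (Pt m p r)) ^ p = 1)
    (hy : (y : Perm (Pt m p r)) ^ p = 1)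
    (h : (x : Perm (Pt m p r)).support.card = (y : Perm (Pt m p r)).support.card) :
    _root_.IsConj x y := by
  obtain ⟨f, a, ha, hxa⟩ := exists_base_conj hm hr x hx
  have hyc : _root_.IsConj (y : Perm (Pt m p r)) (base m r f) := by
    have h1 : _root_.IsConj (x : Perm (Pt m p r)) (base m r f) :=
      ha ▸ MonoidHom.map_isConj (alternatingGroup (Pt m p r)).subtype hxa
    exact (isConj_of_support hy hx h.symm).trans h1
  obtain ⟨π, hπ⟩ := _root_.isConj_iff.mp hyc
  refine hxa.trans (IsConj.symm ?_)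
  rcases Int.units_eq_one_or (sign π) with h' | h'
  · exact _root_.isConj_iff.mpr ⟨⟨π, mem_alternatingGroup.mpr h'⟩, Subtype.ext (hπ.trans ha.symm)⟩
  · obtain ⟨c, hc, hcc⟩ := exists_odd_commute (p := p) (r := r) hm f
    refine _root_.isConj_iff.mpr ⟨⟨c * π, mem_alternatingGroup.mpr (by rw [map_mul, h', hc]; rfl)⟩,
      Subtype.ext ?_⟩
    show c * π * (y : Perm (Pt m p r)) * (c * π)⁻¹ = a
    rw [show c * π * (y : Perm (Pt m p r)) * (c * π)⁻¹ = c * (π * y * π⁻¹) * c⁻¹ by group, hπ,
      hcc.eq, mul_inv_cancel_right, ha]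

theorem mem_of_closed {G : Type*} [Group G] {S T : Subgroup G}
    (hT : (groupFusionSystem S).StronglyClosed T) {x y : G} (hx : x ∈ T) (hy : y ∈ S)
    (hc : _root_.IsConj x y) : y ∈ T := by
  obtain ⟨hTS, h⟩ := stronglyClosed_iff.1 hT
  obtain ⟨g, rfl⟩ := _root_.isConj_iff.1 hc
  refine h (Subgroup.zpowers x) (cj g) (isMor_group.2
    ⟨Subgroup.zpowers_le.2 (hTS hx), ?_, g, fun _ _ => rfl⟩) x (Subgroup.mem_zpowers x) hx
  rintro _ ⟨k, rfl⟩
  show g * x ^ k * g⁻¹ ∈ S
  rw [← conj_zpow]
  exact S.zpow_mem hy k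

/-- Sylow subgroups of the alternating group are generated by elements of order `p`. -/
theorem sylow_le_closure (S : Sylow p 𝔸) :
    (S : Subgroup 𝔸) ≤ Subgroup.closure {g : 𝔸 | g ∈ (S : Subgroup 𝔸) ∧ (g : Perm (Pt m p r)) ^ p = 1} := by
  classical
  obtain ⟨W₀, hW₀⟩ := exists_good p (Fintype.card (Pt m p r))
  obtain ⟨hWp, hWc, -, hWgen⟩ := good_map (Fintype.equivFin (Pt m p r)).symm hW₀
  set W := W₀.map (Fintype.equivFin (Pt m p r)).symm.permCongrHom.toMonoidHom
  have hcard : Nat.card W = p ^ (Nat.card (Perm (Pt m p r))).factorization p := by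
    obtain ⟨j, hj⟩ := IsPGroup.iff_card.mp hWp
    have h1 : p ^ padicValNat p (Fintype.card (Pt m p r)).factorial ≤ p ^ j := hj ▸ hWc
    have h2 := hj ▸ Subgroup.card_subgroup_dvd_card W
    rw [Nat.card_eq_fintype_card (α := Perm (Pt m p r)), Fintype.card_perm,
      Nat.factorization_def _ Fact.out]
    rw [Nat.card_eq_fintype_card (α := Perm (Pt m p r)), Fintype.card_perm,
      padicValNat_dvd_iff_le (Nat.factorial_ne_zero _)] at h2
    have h3 := (Nat.pow_le_pow_iff_right (Fact.out : p.Prime).one_lt).mp h1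
    rw [hj, le_antisymm h2 h3]
  let P₀ : Sylow p (Perm (Pt m p r)) := Sylow.ofCard W hcard
  obtain ⟨P, hP⟩ := (S.2.map (alternatingGroup (Pt m p r)).subtype).exists_le_sylow
  obtain ⟨c, hc⟩ := MulAction.exists_smul_eq (Perm (Pt m p r)) P₀ P
  have hS : (P : Subgroup (Perm (Pt m p r))).comap (alternatingGroup (Pt m p r)).subtype =
      (S : Subgroup 𝔸) :=
    S.is_maximal' (P.2.comap_of_injective _ (Subgroup.subtype_injective _))
      (Subgroup.map_le_iff_le_comap.mp hP)
  intro s hs
  have hsP : (s : Perm (Pt m p r)) ∈ (P : Subgroup (Perm (Pt m p r))) := hP ⟨s, hs, rfl⟩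
  rw [← hc] at hsP
  obtain ⟨w, hw, hws⟩ := hsP
  have hwA : w ∈ alternatingGroup (Pt m p r) := by
    have h1 : sign (c * w * c⁻¹) = 1 := by
      rw [show c * w * c⁻¹ = (s : Perm (Pt m p r)) from hws]; exact mem_alternatingGroup.mp s.2
    rw [map_mul, map_mul, map_inv, mul_right_comm, mul_inv_cancel, one_mul] at h1
    exact mem_alternatingGroup.mpr h1
  have hmem := Subgroup.mem_map_of_mem (MulAut.conj c).toMonoidHom (hWgen ⟨hw, hwA⟩)
  rw [MonoidHom.map_closure] at hmem
  have hle : Subgroup.closure ((MulAut.conj c).toMonoidHom '' {g | g ∈ W ⊓ alternatingGroup (Pt m p r) ∧ g ^ p = 1}) ≤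
      (Subgroup.closure {g : 𝔸 | g ∈ (S : Subgroup 𝔸) ∧ (g : Perm (Pt m p r)) ^ p = 1}).map
        (alternatingGroup (Pt m p r)).subtype := by
    refine (Subgroup.closure_le _).mpr ?_
    rintro _ ⟨g, ⟨⟨hgW, hgA⟩, hgp⟩, rfl⟩
    have hA' : c * g * c⁻¹ ∈ alternatingGroup (Pt m p r) := by
      rw [mem_alternatingGroup, map_mul, map_mul, map_inv, mul_right_comm, mul_inv_cancel, one_mul]
      exact mem_alternatingGroup.mp hgA
    refine ⟨⟨_, hA'⟩, Subgroup.subset_closure ⟨?_, ?_⟩, rfl⟩
    · rw [← hS, ← hc]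
      exact ⟨g, hgW, rfl⟩
    · show (c * g * c⁻¹) ^ p = 1
      rw [conj_pow, hgp]; simp
  obtain ⟨z, hz, hzs⟩ := hle hmem
  rwa [show s = z from Subtype.ext (hzs.trans hws).symm]

end CfsgLib.Fusion.AltModel
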