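import Mathlib
import Cfsg.Agent.Lib.Fusion.AltSimple

/-! Strongly closed subgroups of the Sylow subgroups of alternating groups. -/

set_option autoImplicit false

open Equiv Equiv.Perm

namespace CfsgLib.Fusion.AltModel

open Cfsg Cfsg.FusionSystem CfsgLib.BlockApps.SylowSymGen

variable {p : ℕ} [Fact p.Prime] {m r : ℕ}

local notation "𝔸" => alternatingGroup (Pt m p r)

theorem transl_sign (emb : ZMod p ↪ Fin m) (w : Multiplicative (Fin 2 → ZMod p)) :
    sign (transl emb r w) = 1 := by
  by_cases hp : p = 2
  · subst hp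
    rw [transl_eq, map_mul, sign_lift']
    rw [sq, Int.units_mul_self, mul_one]
    classical
    set f : Multiplicative (Fin m → ZMod 2) :=
      Multiplicative.ofAdd fun i => if i ∈ Set.range emb then Multiplicative.toAdd w 0 else 0 with hf
    by_cases h0 : Multiplicative.toAdd w 0 = 0
    · have : f = 1 := Multiplicative.toAdd.injective (funext fun i => by simp [hf, h0])
      rw [this, map_one, map_one]
    · have hb : blocks (Multiplicative.toAdd f) = Finset.univ.image emb := by
        ext i
        by_cases hi : i ∈ Set.range emb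
        · have : i ∈ Finset.univ.image emb := by simpa using hi
          simp [blocks, hf, hi, h0, this]
        · have : i ∉ Finset.univ.image emb := by simpa using hi
          simp [blocks, hf, hi, this]
          exact fun x hx => absurd ⟨x, hx⟩ hi
      rw [sign_of_cycleType, cycleType_of_pow_prime_eq_one (base_pow (p := 2) f),
        Multiset.sum_replicate, Multiset.card_replicate]
      have h1 := sum_cycleType (base m r f)
      rw [cycleType_of_pow_prime_eq_one (base_pow (p := 2) f), Multiset.sum_replicate, support_base,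
        hb, Finset.card_image_of_injective _ emb.injective, Finset.card_univ, ZMod.card,
        smul_eq_mul] at h1
      have hk : Multiset.card (base m r f).cycleType = 2 := by omega
      rw [hk]
      decide
  · refine sign_eq_one_of_odd (odd_of_ne_two hp) ?_
    rw [← map_pow]
    convert map_one (transl emb r)
    apply Multiplicative.toAdd.injective
    funext i
    simp

theorem transl_range_isPGroup (emb : ZMod p ↪ Fin m) : IsPGroup p (transl emb r).range := by
  rintro ⟨_, f, rfl⟩
  refine ⟨1, Subtype.ext ?_⟩
  show transl emb r f ^ p ^ 1 = 1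
  rw [pow_one, ← map_pow]
  convert map_one (transl emb r)
  apply Multiplicative.toAdd.injective
  funext i
  simp

/-- The translations inside the blocks and of the plane. -/
noncomputable def bigR (emb : ZMod p ↪ Fin m) (r : ℕ) : Subgroup (Perm (Pt m p r)) :=
  (transl emb r).range ⊔ (base (p := p) m r).range

theorem transl_range_le_normalizer (emb : ZMod p ↪ Fin m) :
    (transl emb r).range ≤ Subgroup.normalizer ((base (p := p) m r).range : Set (Perm (Pt m p r))) := by
  rintro _ ⟨w, rfl⟩
  refine Subgroup.mem_normalizer_iff.mpr fun x => ⟨?_, fun hx => ?_⟩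
  · rintro ⟨f, rfl⟩; exact transl_normalize emb w f
  · obtain ⟨f, hf⟩ := hx
    have h := transl_normalize (r := r) emb w⁻¹ f
    rw [hf, map_inv] at h
    simpa [mul_assoc] using h

theorem bigR_isPGroup (emb : ZMod p ↪ Fin m) : IsPGroup p (bigR emb r) :=
  (transl_range_isPGroup emb).to_sup_of_normal_right' base_range_isPGroup
    (transl_range_le_normalizer emb)

theorem exists_emb (h : p ≤ m) : Nonempty (ZMod p ↪ Fin m) :=
  Function.Embedding.nonempty_of_card_le (by simpa using h)

theorem transl_sq {m r : ℕ} [Fact (Nat.Prime 2)] (emb : ZMod 2 ↪ Fin m)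
    (w : Multiplicative (Fin 2 → ZMod 2)) : transl emb r w ^ 2 = 1 := by
  rw [← map_pow]
  convert map_one (transl emb r)
  apply Multiplicative.toAdd.injective
  funext i
  rw [toAdd_pow, two_nsmul, Pi.add_apply, CharTwo.add_self_eq_zero]
  rfl

theorem zmod_two_ne : ∀ (c : ZMod 2), c ≠ 0 → c = 1 := by decide

theorem zmod_two_add_self : ∀ (c : ZMod 2), c + c = 0 := by decide

theorem zmod_two_one_add : ∀ (c : ZMod 2), 1 + c ≠ c := by decide

/-- The pairs of blocks, and so the even translations, for `p = 2`. -/
theorem translations_two {m r : ℕ} (hm : 3 ≤ m) (hr : r ≤ 1) (emb : ZMod 2 ↪ Fin m)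
    [Fact (Nat.Prime 2)]
    (S : Sylow 2 (alternatingGroup (Pt m 2 r)))
    (hR : (bigR emb r).subgroupOf (alternatingGroup (Pt m 2 r)) ≤ (S : Subgroup (alternatingGroup (Pt m 2 r))))
    {T : Subgroup (alternatingGroup (Pt m 2 r))}
    (hT : (groupFusionSystem (S : Subgroup (alternatingGroup (Pt m 2 r)))).StronglyClosed T)
    (f : Multiplicative (Fin m → ZMod 2)) (a : alternatingGroup (Pt m 2 r))
    (ha : (a : Perm (Pt m 2 r)) = base m r f) (haT : a ∈ T)
    (hfne : ∃ i₀, Multiplicative.toAdd f i₀ ≠ 0) :
    ∀ g : Multiplicative (Fin m → ZMod 2), base m r g ∈ alternatingGroup (Pt m 2 r) →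
      g ∈ (T.map (alternatingGroup (Pt m 2 r)).subtype).comap (base (p := 2) m r) := by
  classical
  set J := (T.map (alternatingGroup (Pt m 2 r)).subtype).comap (base (p := 2) m r) with hJ
  have hfJ : f ∈ J := ⟨a, haT, ha⟩
  have hJmem : ∀ f, base m r f ∈ alternatingGroup (Pt m 2 r) → ∀ x ∈ T, (x : Perm (Pt m 2 r)) ^ 2 = 1 →
      (x : Perm (Pt m 2 r)).support.card = (base m r f).support.card → f ∈ J :=
    fun f hf x hx hxp h => ⟨⟨_, hf⟩, mem_of_closed hT hx
      (hR (Subgroup.mem_subgroupOf.mpr (Subgroup.mem_sup_right ⟨f, rfl⟩)))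
      (isConj_alt hm hr hxp (base_pow f) h), rfl⟩
  -- one pair of blocks
  obtain ⟨q, hqJ, hqc⟩ : ∃ q : Perm (Pt m 2 r), (∃ t ∈ T, (t : Perm (Pt m 2 r)) = q) ∧
      q ^ 2 = 1 ∧ q.support.card = 4 := by
    by_cases hz : ∃ j₀, Multiplicative.toAdd f j₀ = 0
    · obtain ⟨i₀, hi₀⟩ := hfne
      obtain ⟨j₀, hj₀⟩ := hz
      have hij : i₀ ≠ j₀ := fun e => hi₀ (e ▸ hj₀)
      let h : Multiplicative (Fin m → ZMod 2) :=
        Multiplicative.ofAdd (Multiplicative.toAdd f + Pi.single i₀ 1 + Pi.single j₀ 1)
      have h1 : Multiplicative.toAdd f i₀ = 1 := zmod_two_ne _ hi₀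
      have hbl : blocks (Multiplicative.toAdd h) =
          insert j₀ ((blocks (Multiplicative.toAdd f)).erase i₀) := by
        ext i
        by_cases hi : i = i₀
        · subst hi
          simp [blocks, h, hij, h1, zmod_two_add_self]
        by_cases hi' : i = j₀
        · subst hi'
          simp [blocks, h, hi, hj₀]
        · simp [blocks, h, hi, hi']
      have hcard : (base m r h).support.card = (base m r f).support.card := by
        rw [support_base, support_base, hbl, Finset.card_insert_of_notMem (by simp [blocks, hj₀]),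
          Finset.card_erase_of_mem (by simp [blocks, hi₀])]
        have : 0 < (blocks (Multiplicative.toAdd f)).card :=
          Finset.card_pos.mpr ⟨i₀, by simp [blocks, hi₀]⟩
        congr 1
        omega
      have hsg : base m r h ∈ alternatingGroup (Pt m 2 r) := by
        rw [mem_alternatingGroup, sign_of_cycleType,
          isConj_iff_cycleType_eq.mp (isConj_of_support (base_pow h) (base_pow f) hcard),
          ← sign_of_cycleType, ← ha]
        exact mem_alternatingGroup.mp a.2
      have hh : h ∈ J := hJmem h hsg a (by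
        obtain ⟨t, ht, hte⟩ := hfJ
        rwa [show a = t from Subtype.ext (ha.trans hte.symm)]) (by rw [ha]; exact base_pow f)
        (by rw [ha, hcard])
      have hprod : f * h ∈ J := J.mul_mem hfJ hh
      obtain ⟨t, ht, hte⟩ := hprod
      refine ⟨base m r (f * h), ⟨t, ht, hte⟩, base_pow _, ?_⟩
      have e : blocks (Multiplicative.toAdd (f * h)) = {i₀, j₀} := by
        ext i
        have h2 : ∀ c : ZMod 2, c + c = 0 := zmod_two_add_self
        by_cases hi : i = i₀
        · subst hi
          simp [blocks, h, hij, h1, zmod_two_add_self]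
        by_cases hi' : i = j₀
        · subst hi'
          simp [blocks, h, hi, hj₀]
        · simp [blocks, h, hi, hi', h2]
      rw [support_base, e, Finset.card_pair hij]
    · push Not at hz
      let w : Multiplicative (Fin 2 → ZMod 2) := Multiplicative.ofAdd ![1, 1]
      have hone : ∀ i, Multiplicative.toAdd f i = 1 := fun i => zmod_two_ne _ (hz i)
      have hnb : ∀ c : ZMod 2, 1 + c ≠ c := zmod_two_one_add
      have hwm : ∀ v : Fin 2 → ZMod 2, Multiplicative.toAdd w + v ≠ v := fun v hv => by
        exact hnb _ (congrFun hv 0)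
      have hfp : ∀ v, base m r f (plane emb r v) = plane emb r (![1, 0] + v) := fun v => by
        rw [plane_apply, plane_apply, base_inl, hone]
        simp
      have hne1 : ∀ v : Fin 2 → ZMod 2, Multiplicative.toAdd w + (![1, 0] + v) ≠ v := fun v hv => by
        exact hnb (v 1) (by simpa [w, Matrix.vecHead, Matrix.vecTail] using congrFun hv 1)
      set y := transl emb r w * base m r f with hy
      have hcomm : Commute (transl emb r w) (base m r f) := by
        refine Equiv.ext fun z => ?_
        simp only [Perm.mul_apply]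
        rcases z with ⟨i, c⟩ | j
        · rcases plane_or (r := r) emb i c with ⟨v, hv⟩ | hi
          · rw [hv, hfp, transl_plane, transl_plane, hfp, add_left_comm]
          · rw [base_inl, transl_outside _ _ (not_plane_of_block emb hi _),
              transl_outside _ _ (not_plane_of_block emb hi _), base_inl]
        · rw [base_inr, transl_outside _ _ (not_plane_inr emb j), base_inr]
      have hyp : y ^ 2 = 1 := by
        rw [hy, hcomm.mul_pow, base_pow, mul_one, transl_sq]
      have hysupp : y.support = (base m r f).support := by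
        ext z
        rw [mem_support, mem_support, hy, Perm.mul_apply]
        rcases z with ⟨i, c⟩ | j
        · rcases plane_or (r := r) emb i c with ⟨v, hv⟩ | hi
          · rw [hv, hfp, transl_plane]
            refine iff_of_true (fun e => hne1 v ((plane emb r).injective e)) fun e => ?_
            exact hnb (v 0) (by simpa using congrFun ((plane emb r).injective e) 0)
          · rw [base_inl, transl_outside _ _ (not_plane_of_block emb hi _)]
        · rw [base_inr, transl_outside _ _ (not_plane_inr emb j)]
      have hyA : y ∈ alternatingGroup (Pt m 2 r) := by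
        rw [mem_alternatingGroup, hy, map_mul, transl_sign, one_mul, ← ha]
        exact mem_alternatingGroup.mp a.2
      have haT : a ∈ T := by
        obtain ⟨t, ht, hte⟩ := hfJ
        rwa [show a = t from Subtype.ext (ha.trans hte.symm)]
      have hyT : (⟨y, hyA⟩ : alternatingGroup (Pt m 2 r)) ∈ T := mem_of_closed hT haT (y := ⟨y, hyA⟩) (hR (Subgroup.mem_subgroupOf.mpr
        (Subgroup.mul_mem _ (Subgroup.mem_sup_left ⟨w, rfl⟩) (Subgroup.mem_sup_right ⟨f, rfl⟩))))
        (isConj_alt hm hr (by rw [ha]; exact base_pow f) hyp (by rw [ha]; show _ = y.support.card; rw [hysupp]))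
      refine ⟨transl emb r w, ⟨_, T.mul_mem hyT (T.inv_mem haT), ?_⟩, ?_, ?_⟩
      · simp [hy, ha]
      · exact transl_sq emb w
      · have e : (transl emb r w).support = (Finset.univ : Finset (Fin 2 → ZMod 2)).map (plane emb r) := by
          ext z
          rw [mem_support]
          by_cases hzp : z ∈ Set.range (plane emb r)
          · obtain ⟨v, rfl⟩ := hzp
            rw [transl_plane]
            simp only [Finset.mem_map', Finset.mem_univ, iff_true]
            exact fun e => hwm v ((plane emb r).injective e)
          · rw [transl_outside _ _ hzp]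
            simp only [ne_eq, not_true, false_iff, Finset.mem_map, Finset.mem_univ, true_and]
            exact fun ⟨v, hv⟩ => hzp ⟨v, hv⟩
        rw [e, Finset.card_map]
        rfl
  obtain ⟨t, ht, rfl⟩ := hqJ
  have hpair : ∀ i j : Fin m, i ≠ j →
      Multiplicative.ofAdd ((Pi.single i (1 : ZMod 2) : Fin m → ZMod 2) + Pi.single j 1) ∈ J := by
    intro i j hij
    have hs : (base m r (Multiplicative.ofAdd ((Pi.single i (1 : ZMod 2) : Fin m → ZMod 2) + Pi.single j 1))).support.card = 4 := by
      rw [support_base, show blocks (Multiplicative.toAdd (Multiplicative.ofAdd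
        ((Pi.single i (1 : ZMod 2) : Fin m → ZMod 2) + Pi.single j 1))) = {i, j} from ?_, Finset.card_pair hij]
      ext k
      by_cases hi : k = i
      · subst hi; simp [blocks, hij]
      by_cases hj : k = j
      · subst hj; simp [blocks, hi]
      · simp [blocks, hi, hj]
    have hsg : base m r (Multiplicative.ofAdd ((Pi.single i (1 : ZMod 2) : Fin m → ZMod 2) + Pi.single j 1)) ∈ alternatingGroup (Pt m 2 r) := by
      rw [mem_alternatingGroup, sign_of_cycleType, isConj_iff_cycleType_eq.mp
        (isConj_of_support (base_pow _) hqc.1 (hs.trans hqc.2.symm)), ← sign_of_cycleType]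
      exact mem_alternatingGroup.mp t.2
    exact hJmem _ hsg t ht hqc.1 (hqc.2.trans hs.symm)
  intro g hg
  let i₀ : Fin m := ⟨0, by omega⟩
  set G' := Multiplicative.toAdd g with hG'
  have heven : ∑ i, G' i = 0 := by
    have h1 := sum_cycleType (base m r g)
    rw [cycleType_of_pow_prime_eq_one (base_pow (p := 2) g), Multiset.sum_replicate, support_base,
      smul_eq_mul] at h1
    have h2 := mem_alternatingGroup.mp hg
    rw [sign_of_cycleType, cycleType_of_pow_prime_eq_one (base_pow (p := 2) g),
      Multiset.sum_replicate, Multiset.card_replicate, smul_eq_mul] at h2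
    set c := Multiset.card (base m r g).cycleType
    have hceven : Even c := by
      rw [show c * 2 + c = 2 * c + c by ring, pow_add, pow_mul, show ((-1 : ℤˣ) ^ 2) = 1 by decide,
        one_pow, one_mul] at h2
      rcases Nat.even_or_odd c with hc | hc
      · exact hc
      · rw [hc.neg_one_pow] at h2; exact absurd h2 (by decide)
    have h3 : ∀ i, G' i = if i ∈ blocks G' then 1 else 0 := fun i => by
      by_cases hi : G' i = 0
      · simp [blocks, hi]
      · simp only [blocks, Finset.mem_filter, Finset.mem_univ, true_and, ne_eq, hi, not_false_iff, if_true]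
        exact zmod_two_ne _ hi
    rw [Finset.sum_congr rfl fun i _ => h3 i, Finset.sum_ite_mem, Finset.univ_inter,
      Finset.sum_const, nsmul_eq_mul, mul_one]
    obtain ⟨d, hd⟩ := hceven
    rw [← hG'] at h1
    rw [show (blocks G').card = d + d by omega, Nat.cast_add]
    exact zmod_two_add_self _
  have e : g = ∏ i, (Multiplicative.ofAdd ((Pi.single i (1 : ZMod 2) : Fin m → ZMod 2) + Pi.single i₀ 1)) ^ (G' i).val := by
    apply Multiplicative.toAdd.injective
    rw [toAdd_prod]
    funext j
    rw [Finset.sum_apply]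
    have h4 : ∀ i, (Multiplicative.toAdd (((Multiplicative.ofAdd
        ((Pi.single i (1 : ZMod 2) : Fin m → ZMod 2) + Pi.single i₀ 1)) :
          Multiplicative (Fin m → ZMod 2)) ^ (G' i).val) : Fin m → ZMod 2) j =
        G' i * (Pi.single i (1 : ZMod 2) : Fin m → ZMod 2) j +
          G' i * (Pi.single i₀ (1 : ZMod 2) : Fin m → ZMod 2) j := fun i => by
      rw [toAdd_pow, toAdd_ofAdd, Pi.smul_apply, Pi.add_apply, nsmul_eq_mul,
        ZMod.natCast_zmod_val, mul_add]
    rw [Finset.sum_congr rfl fun i _ => h4 i, Finset.sum_add_distrib, ← Finset.sum_mul, heven,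
      zero_mul, add_zero]
    simp [Pi.single_apply, ← hG']
  rw [e]
  refine J.prod_mem fun i _ => J.pow_mem ?_ _
  by_cases hi : i = i₀
  · have h0 : Multiplicative.ofAdd ((Pi.single i (1 : ZMod 2) : Fin m → ZMod 2) + Pi.single i₀ 1) = 1 := by
      apply Multiplicative.toAdd.injective
      funext j
      subst hi
      simp only [toAdd_ofAdd, Pi.add_apply, toAdd_one, Pi.zero_apply]
      exact zmod_two_add_self _
    rw [h0]; exact one_mem _
  · exact hpair i i₀ hi

/-- A strongly closed subgroup is trivial or everything. -/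
theorem closed_eq (hm : 3 ≤ m) (hr : r ≤ 1) (emb : ZMod p ↪ Fin m) (S : Sylow p 𝔸)
    (hR : (bigR emb r).subgroupOf 𝔸 ≤ (S : Subgroup 𝔸)) {T : Subgroup 𝔸}
    (hT : (groupFusionSystem (S : Subgroup 𝔸)).StronglyClosed T) (hne : T ≠ ⊥) :
    (S : Subgroup 𝔸) ≤ T := by
  classical
  have hTS : T ≤ (S : Subgroup 𝔸) := hT.1
  set J := (T.map (alternatingGroup (Pt m p r)).subtype).comap (base (p := p) m r) with hJ
  -- translations in `S`
  have hAS : ∀ f (h : base m r f ∈ 𝔸), (⟨_, h⟩ : 𝔸) ∈ (S : Subgroup 𝔸) := fun f h =>
    hR (Subgroup.mem_subgroupOf.mpr (Subgroup.mem_sup_right ⟨f, rfl⟩))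
  have key : ∀ x ∈ T, ∀ y ∈ (S : Subgroup 𝔸), (x : Perm (Pt m p r)) ^ p = 1 →
      (y : Perm (Pt m p r)) ^ p = 1 →
      (x : Perm (Pt m p r)).support.card = (y : Perm (Pt m p r)).support.card → y ∈ T :=
    fun x hx y hy hxp hyp h => mem_of_closed hT hx hy (isConj_alt hm hr hxp hyp h)
  have hJmem : ∀ f, base m r f ∈ 𝔸 → ∀ x ∈ T, (x : Perm (Pt m p r)) ^ p = 1 →
      (x : Perm (Pt m p r)).support.card = (base m r f).support.card → f ∈ J :=
    fun f hf x hx hxp h => ⟨⟨_, hf⟩, key x hx _ (hAS f hf) hxp (base_pow f) h, rfl⟩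
  have hJT : ∀ f ∈ J, ∀ h : base m r f ∈ 𝔸, (⟨_, h⟩ : 𝔸) ∈ T := by
    intro f hf h
    obtain ⟨t, ht, hte⟩ := hf
    rwa [show (⟨_, h⟩ : 𝔸) = t from Subtype.ext hte.symm]
  -- an element of order `p` in `T`
  have : Finite T := inferInstance
  obtain ⟨j, hj⟩ := IsPGroup.iff_card.mp (S.2.to_le hTS)
  have hj0 : j ≠ 0 := fun h0 => hne (Subgroup.eq_bot_of_card_eq _ (by rw [hj, h0, pow_zero]))
  obtain ⟨x, hx⟩ := exists_prime_orderOf_dvd_card' (G := T) p (hj ▸ dvd_pow_self p hj0)
  have hxp : ((x : 𝔸) : Perm (Pt m p r)) ^ p = 1 := by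
    have h := pow_orderOf_eq_one x
    rw [hx] at h
    exact congrArg (fun z : T => ((z : 𝔸) : Perm (Pt m p r))) h
  have hx1 : ((x : 𝔸) : Perm (Pt m p r)) ≠ 1 := fun e => by
    have : x = 1 := Subtype.ext (Subtype.ext e)
    rw [this, orderOf_one] at hx
    exact (Fact.out : p.Prime).ne_one hx.symm
  set k := Multiset.card ((x : 𝔸) : Perm (Pt m p r)).cycleType
  have hxk : ((x : 𝔸) : Perm (Pt m p r)).support.card = p * k := by
    rw [← sum_cycleType, cycleType_of_pow_prime_eq_one hxp, Multiset.sum_replicate, smul_eq_mul,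
      mul_comm]
  obtain ⟨f, a, ha, hxa⟩ := exists_base_conj hm hr (x : 𝔸) hxp
  have haT : a ∈ T := mem_of_closed hT x.2 (by
    have h1 := hAS f (ha ▸ a.2)
    rwa [show a = ⟨_, ha ▸ a.2⟩ from Subtype.ext ha]) hxa
  have hfJ : f ∈ J := ⟨a, haT, ha⟩
  have hfne : ∃ i₀, Multiplicative.toAdd f i₀ ≠ 0 := by
    by_contra hall
    push Not at hall
    have : f = 1 := Multiplicative.toAdd.injective (funext fun i => by simp [hall])
    rw [this, map_one] at ha
    exact hx1 (by
      have := MonoidHom.map_isConj (alternatingGroup (Pt m p r)).subtype hxa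
      simp only [Subgroup.subtype_apply] at this
      rw [ha] at this
      exact isConj_one_left.mp this)
  -- the translations in `T`
  have hall : ∀ g : Multiplicative (Fin m → ZMod p), base m r g ∈ 𝔸 → g ∈ J := by
    by_cases hp : p = 2
    · subst hp
      exact translations_two hm hr emb S hR hT f a ha haT hfne
    · have heven : ∀ g, base m r g ∈ 𝔸 := fun g =>
        mem_alternatingGroup.mpr (sign_eq_one_of_odd (odd_of_ne_two hp) (base_pow g))
      obtain ⟨i₀, hi₀⟩ := hfne
      set c := Multiplicative.toAdd f i₀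
      have h2 : (2 : ZMod p) ≠ 0 := by
        intro h
        have : p ∣ 2 := (ZMod.natCast_eq_zero_iff 2 p).mp (by simpa using h)
        exact hp ((Nat.prime_dvd_prime_iff_eq Fact.out Nat.prime_two).mp this)
      let h : Multiplicative (Fin m → ZMod p) :=
        Multiplicative.ofAdd (Multiplicative.toAdd f + Pi.single i₀ c)
      have hbl : blocks (Multiplicative.toAdd h) = blocks (Multiplicative.toAdd f) := by
        ext i
        by_cases hi : i = i₀
        · subst hi
          have : c + c ≠ 0 := by rw [← two_mul]; exact mul_ne_zero h2 hi₀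
          simp [blocks, h, this, hi₀, c]
        · simp [blocks, h, hi]
      have hh : h ∈ J := hJmem h (heven _) a haT (by rw [ha]; exact base_pow f)
        (by rw [ha, support_base, support_base, hbl])
      obtain ⟨t, ht, hte⟩ := J.mul_mem (J.inv_mem hfJ) hh
      have hq : (f⁻¹ * h) = Multiplicative.ofAdd (Pi.single i₀ c) := by
        apply Multiplicative.toAdd.injective
        simp [h]
      rw [hq] at hte
      have hone : ∀ i, Multiplicative.ofAdd (Pi.single i (1 : ZMod p)) ∈ J := fun i => by
        refine hJmem _ (heven _) t ht ?_ ?_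
        · rw [show (t : Perm (Pt m p r)) = _ from hte]; exact base_pow _
        · rw [show (t : Perm (Pt m p r)) = _ from hte, support_base, support_base, toAdd_ofAdd,
            toAdd_ofAdd, blocks_single i₀ hi₀, blocks_single i one_ne_zero, Finset.card_singleton,
            Finset.card_singleton]
      intro g _
      have h1 := base_range_le (H := T.map (alternatingGroup (Pt m p r)).subtype)
        (fun i => hone i) ⟨g, rfl⟩
      exact h1
  -- every element of order `p`
  refine (sylow_le_closure S).trans ((Subgroup.closure_le _).mpr ?_)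
  rintro y ⟨hy, hyp⟩
  obtain ⟨g, b, hb, hyb⟩ := exists_base_conj hm hr y hyp
  have hg : base m r g ∈ 𝔸 := hb ▸ b.2
  have hbT : b ∈ T := by
    rw [show b = ⟨_, hg⟩ from Subtype.ext hb]
    exact hJT g (hall g hg) hg
  exact mem_of_closed hT hbT hy hyb.symm

end CfsgLib.Fusion.AltModel
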