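import Mathlib
import Cfsg.Agent.Lib.Fusion.Criteria
import Cfsg.Agent.Lib.Fusion.FactorSaturated
import Cfsg.Agent.Lib.Fusion.FactorExists

/-!
# Isomorphisms of fusion systems given by functions on the ambient groups

`IsIso F θ F'` says that `θ`, restricted to `S`, is an isomorphism of `S` onto `S'` that carries
`F` onto `F'`.
-/

set_option autoImplicit false

namespace CfsgLib.Fusion

open Cfsg Cfsg.FusionSystem

variable {Ω Ω' : Type*} [Group Ω] [Group Ω']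

/-- The subgroup generated by the image of `P` in another ambient group. -/
def imgT (P : Subgroup Ω) (θ : Ω → Ω') : Subgroup Ω' := Subgroup.closure (θ '' (P : Set Ω))

theorem imgT_eq_img (P : Subgroup Ω) (θ : Ω → Ω) : imgT P θ = img P θ := rfl

theorem mem_imgT_of_mem {P : Subgroup Ω} (θ : Ω → Ω') {x : Ω} (hx : x ∈ P) : θ x ∈ imgT P θ :=
  Subgroup.subset_closure ⟨x, hx, rfl⟩

theorem imgT_le {P : Subgroup Ω} {θ : Ω → Ω'} {Q' : Subgroup Ω'} (h : ∀ x ∈ P, θ x ∈ Q') :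
    imgT P θ ≤ Q' := by
  refine (Subgroup.closure_le _).mpr ?_
  rintro _ ⟨x, hx, rfl⟩
  exact h x hx

theorem imgT_mono {P Q : Subgroup Ω} (θ : Ω → Ω') (h : P ≤ Q) : imgT P θ ≤ imgT Q θ :=
  imgT_le fun _ hx => mem_imgT_of_mem θ (h hx)

theorem imgT_congr {P : Subgroup Ω} {θ η : Ω → Ω'} (h : ∀ x ∈ P, θ x = η x) :
    imgT P θ = imgT P η := by
  rw [imgT, imgT, Set.image_congr h]

/-- `θ` carries the system `F` over `S` isomorphically onto the system `F'` over `S'`. -/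
structure IsIso {S : Subgroup Ω} (F : FusionSystem S) (θ : Ω → Ω') {S' : Subgroup Ω'}
    (F' : FusionSystem S') : Prop where
  map_mul : ∀ x ∈ S, ∀ y ∈ S, θ (x * y) = θ x * θ y
  inj : Set.InjOn θ S
  range : imgT S θ = S'
  push : ∀ P f, IsMor F P f →
    ∃ f', IsMor F' (imgT P θ) f' ∧ ∀ x ∈ P, f' (θ x) = θ (f x)
  pull : ∀ P, P ≤ S → ∀ f', IsMor F' (imgT P θ) f' →
    ∃ f, IsMor F P f ∧ ∀ x ∈ P, f' (θ x) = θ (f x)

section Hom

variable {S : Subgroup Ω} {θ : Ω → Ω'}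

/-- A multiplicative function on `S`, as a homomorphism. -/
def homOn (hmul : ∀ x ∈ S, ∀ y ∈ S, θ (x * y) = θ x * θ y) : S →* Ω' :=
  MonoidHom.mk' (fun x => θ x) fun a b => hmul _ a.2 _ b.2

theorem homOn_apply (hmul : ∀ x ∈ S, ∀ y ∈ S, θ (x * y) = θ x * θ y) (x : S) :
    homOn hmul x = θ x := rfl

theorem imgT_eq_map (hmul : ∀ x ∈ S, ∀ y ∈ S, θ (x * y) = θ x * θ y) {P : Subgroup Ω}
    (hP : P ≤ S) : imgT P θ = (P.subgroupOf S).map (homOn hmul) := by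
  refine le_antisymm (imgT_le fun x hx => ⟨⟨x, hP hx⟩, hx, rfl⟩) ?_
  rintro _ ⟨x, hx, rfl⟩
  exact mem_imgT_of_mem θ hx

theorem mem_imgT_iff (hmul : ∀ x ∈ S, ∀ y ∈ S, θ (x * y) = θ x * θ y) {P : Subgroup Ω}
    (hP : P ≤ S) {y : Ω'} : y ∈ imgT P θ ↔ ∃ x ∈ P, θ x = y := by
  refine ⟨fun hy => ?_, fun ⟨x, hx, e⟩ => e ▸ mem_imgT_of_mem θ hx⟩
  rw [imgT_eq_map hmul hP] at hy
  obtain ⟨x, hx, rfl⟩ := hy
  exact ⟨x, hx, rfl⟩

end Hom

section Iso

variable {S : Subgroup Ω} {S' : Subgroup Ω'} {F : FusionSystem S} {F' : FusionSystem S'}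
  {θ : Ω → Ω'}

theorem IsIso.mem (h : IsIso F θ F') {x : Ω} (hx : x ∈ S) : θ x ∈ S' :=
  h.range ▸ mem_imgT_of_mem θ hx

theorem IsIso.le (h : IsIso F θ F') {P : Subgroup Ω} (hP : P ≤ S) : imgT P θ ≤ S' :=
  imgT_le fun _ hx => h.mem (hP hx)

theorem IsIso.map_one (h : IsIso F θ F') : θ 1 = 1 := (homOn h.map_mul).map_one

theorem IsIso.map_inv (h : IsIso F θ F') {x : Ω} (hx : x ∈ S) : θ x⁻¹ = (θ x)⁻¹ :=
  (homOn h.map_mul).map_inv ⟨x, hx⟩

theorem IsIso.map_conj (h : IsIso F θ F') {a x : Ω} (ha : a ∈ S) (hx : x ∈ S) :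
    θ (a * x * a⁻¹) = θ a * θ x * (θ a)⁻¹ := by
  rw [h.map_mul _ (S.mul_mem ha hx) _ (S.inv_mem ha), h.map_mul _ ha _ hx, h.map_inv ha]

theorem IsIso.mem_iff (h : IsIso F θ F') {P : Subgroup Ω} (hP : P ≤ S) {x : Ω} (hx : x ∈ S) :
    θ x ∈ imgT P θ ↔ x ∈ P := by
  refine ⟨fun hm => ?_, mem_imgT_of_mem θ⟩
  obtain ⟨z, hz, e⟩ := (mem_imgT_iff h.map_mul hP).mp hm
  exact h.inj (hP hz) hx e ▸ hz

theorem IsIso.surj (h : IsIso F θ F') {y : Ω'} (hy : y ∈ S') : ∃ x ∈ S, θ x = y :=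
  (mem_imgT_iff h.map_mul le_rfl).mp (h.range.ge hy)

theorem IsIso.imgT_sup (h : IsIso F θ F') {P Q : Subgroup Ω} (hP : P ≤ S) (hQ : Q ≤ S) :
    imgT (P ⊔ Q) θ = imgT P θ ⊔ imgT Q θ := by
  refine le_antisymm (imgT_le fun x hx => ?_)
    (sup_le (imgT_mono θ le_sup_left) (imgT_mono θ le_sup_right))
  have hle : P ⊔ Q ≤ ((imgT P θ ⊔ imgT Q θ).comap (homOn h.map_mul)).map S.subtype :=
    sup_le (fun z hz => ⟨⟨z, hP hz⟩, Subgroup.mem_sup_left (mem_imgT_of_mem θ hz), rfl⟩)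
      (fun z hz => ⟨⟨z, hQ hz⟩, Subgroup.mem_sup_right (mem_imgT_of_mem θ hz), rfl⟩)
  obtain ⟨z, hz, rfl⟩ := hle hx
  exact hz

theorem IsIso.imgT_inj (h : IsIso F θ F') {P Q : Subgroup Ω} (hP : P ≤ S) (hQ : Q ≤ S)
    (e : imgT P θ = imgT Q θ) : P = Q :=
  le_antisymm (fun _ hx => (h.mem_iff hQ (hP hx)).mp (e ▸ mem_imgT_of_mem θ hx))
    (fun _ hx => (h.mem_iff hP (hQ hx)).mp (e.symm ▸ mem_imgT_of_mem θ hx))

/-- The inverse of an isomorphism. -/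
noncomputable def isoInv (S : Subgroup Ω) (θ : Ω → Ω') : Ω' → Ω :=
  Function.invFunOn θ (S : Set Ω)

theorem IsIso.inv_left (h : IsIso F θ F') {x : Ω} (hx : x ∈ S) : isoInv S θ (θ x) = x :=
  h.inj.leftInvOn_invFunOn hx

theorem IsIso.inv_mem (h : IsIso F θ F') {y : Ω'} (hy : y ∈ S') : isoInv S θ y ∈ S := by
  obtain ⟨x, hx, rfl⟩ := h.surj hy
  rwa [h.inv_left hx]

theorem IsIso.inv_right (h : IsIso F θ F') {y : Ω'} (hy : y ∈ S') : θ (isoInv S θ y) = y := by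
  obtain ⟨x, hx, rfl⟩ := h.surj hy
  rw [h.inv_left hx]

theorem IsIso.imgT_inv (h : IsIso F θ F') {P : Subgroup Ω} (hP : P ≤ S) :
    imgT (imgT P θ) (isoInv S θ) = P := by
  refine le_antisymm (imgT_le fun y hy => ?_) fun x hx => ?_
  · obtain ⟨x, hx, rfl⟩ := (mem_imgT_iff h.map_mul hP).mp hy
    rwa [h.inv_left (hP hx)]
  · have := mem_imgT_of_mem (isoInv S θ) (mem_imgT_of_mem θ hx)
    rwa [h.inv_left (hP hx)] at this

theorem IsIso.inv_le (h : IsIso F θ F') {P' : Subgroup Ω'} (hP' : P' ≤ S') :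
    imgT P' (isoInv S θ) ≤ S :=
  imgT_le fun _ hy => h.inv_mem (hP' hy)

theorem IsIso.imgT_inv' (h : IsIso F θ F') {P' : Subgroup Ω'} (hP' : P' ≤ S') :
    imgT (imgT P' (isoInv S θ)) θ = P' := by
  refine le_antisymm (imgT_le fun x hx => ?_) fun y hy => ?_
  · have hle : imgT P' (isoInv S θ) ≤ (P'.comap (homOn h.map_mul)).map S.subtype :=
      imgT_le fun y hy => ⟨⟨_, h.inv_mem (hP' hy)⟩,
        show θ (isoInv S θ y) ∈ P' by rwa [h.inv_right (hP' hy)], rfl⟩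
    obtain ⟨z, hz, rfl⟩ := hle hx
    exact hz
  · have := mem_imgT_of_mem θ (mem_imgT_of_mem (isoInv S θ) hy)
    rwa [h.inv_right (hP' hy)] at this

/-- Every subgroup of `S'` is the image of one of `S`. -/
theorem IsIso.exists_imgT (h : IsIso F θ F') {P' : Subgroup Ω'} (hP' : P' ≤ S') :
    ∃ P ≤ S, imgT P θ = P' :=
  ⟨_, h.inv_le hP', h.imgT_inv' hP'⟩

theorem IsIso.symm (h : IsIso F θ F') : IsIso F' (isoInv S θ) F := by
  refine ⟨fun a ha b hb => ?_, fun a ha b hb e => ?_, ?_, fun P' f' hf' => ?_,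
    fun P' hP' f hf => ?_⟩
  · obtain ⟨x, hx, rfl⟩ := h.surj ha
    obtain ⟨y, hy, rfl⟩ := h.surj hb
    rw [h.inv_left hx, h.inv_left hy, ← h.map_mul x hx y hy, h.inv_left (S.mul_mem hx hy)]
  · rw [← h.inv_right ha, ← h.inv_right hb, e]
  · rw [← h.range, h.imgT_inv le_rfl]
  · obtain ⟨P, hP, rfl⟩ := h.exists_imgT hf'.le
    rw [h.imgT_inv hP]
    obtain ⟨f, hf, e⟩ := h.pull P hP f' hf'
    refine ⟨f, hf, fun y hy => ?_⟩
    obtain ⟨x, hx, rfl⟩ := (mem_imgT_iff h.map_mul hP).mp hy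
    rw [h.inv_left (hP hx), e x hx, h.inv_left (hf.mem hx)]
  · obtain ⟨P, hP, rfl⟩ := h.exists_imgT hP'
    rw [h.imgT_inv hP] at hf
    obtain ⟨f', hf', e⟩ := h.push P f hf
    refine ⟨f', hf', fun y hy => ?_⟩
    obtain ⟨x, hx, rfl⟩ := (mem_imgT_iff h.map_mul hP).mp hy
    rw [h.inv_left (hP hx), e x hx, h.inv_left (hf.mem hx)]

theorem IsIso.congr (h : IsIso F θ F') {η : Ω → Ω'} (e : ∀ x ∈ S, θ x = η x) : IsIso F η F' := by
  have hi : ∀ {P : Subgroup Ω}, P ≤ S → imgT P η = imgT P θ := fun hP =>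
    imgT_congr fun x hx => (e x (hP hx)).symm
  refine ⟨fun x hx y hy => ?_, fun x hx y hy he => h.inj hx hy ((e x hx).trans (he.trans (e y hy).symm)),
    (hi le_rfl).trans h.range, fun P f hf => ?_, fun P hP f' hf' => ?_⟩
  · rw [← e x hx, ← e y hy, ← e _ (S.mul_mem hx hy), h.map_mul x hx y hy]
  · obtain ⟨f', hf', hf'e⟩ := h.push P f hf
    refine ⟨f', (hi hf.le).symm ▸ hf', fun x hx => ?_⟩
    rw [← e x (hf.le hx), hf'e x hx, e _ (hf.mem hx)]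
  · rw [hi hP] at hf'
    obtain ⟨f, hf, hfe⟩ := h.pull P hP f' hf'
    refine ⟨f, hf, fun x hx => ?_⟩
    rw [← e x (hP hx), hfe x hx, e _ (hf.mem hx)]

theorem IsIso.trans (h : IsIso F θ F') {Ω'' : Type*} [Group Ω''] {S'' : Subgroup Ω''}
    {F'' : FusionSystem S''} {η : Ω' → Ω''} (h' : IsIso F' η F'') : IsIso F (η ∘ θ) F'' := by
  have hi : ∀ {P : Subgroup Ω}, P ≤ S → imgT P (η ∘ θ) = imgT (imgT P θ) η := fun {P} hP => by
    refine le_antisymm (imgT_le fun x hx => mem_imgT_of_mem η (mem_imgT_of_mem θ hx))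
      (imgT_le fun y hy => ?_)
    obtain ⟨x, hx, rfl⟩ := (mem_imgT_iff h.map_mul hP).mp hy
    exact mem_imgT_of_mem (η ∘ θ) hx
  refine ⟨fun x hx y hy => ?_, fun x hx y hy e => h.inj hx hy (h'.inj (h.mem hx) (h.mem hy) e),
    by rw [hi le_rfl, h.range, h'.range], fun P f hf => ?_, fun P hP f'' hf'' => ?_⟩
  · rw [Function.comp_apply, h.map_mul x hx y hy, h'.map_mul _ (h.mem hx) _ (h.mem hy)]; rfl
  · obtain ⟨f', hf', e'⟩ := h.push P f hf
    obtain ⟨f'', hf'', e''⟩ := h'.push _ f' hf'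
    refine ⟨f'', (hi hf.le).symm ▸ hf'', fun x hx => ?_⟩
    rw [Function.comp_apply, e'' _ (mem_imgT_of_mem θ hx), e' x hx]; rfl
  · rw [hi hP] at hf''
    obtain ⟨f', hf', e''⟩ := h'.pull _ (h.le hP) f'' hf''
    obtain ⟨f, hf, e'⟩ := h.pull P hP f' hf'
    refine ⟨f, hf, fun x hx => ?_⟩
    rw [Function.comp_apply, e'' _ (mem_imgT_of_mem θ hx), e' x hx]; rfl

/-- The image system is determined by the isomorphism. -/
theorem IsIso.unique (h : IsIso F θ F') {F₁ : FusionSystem S'} (h₁ : IsIso F θ F₁) : F' = F₁ := by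
  have key : ∀ {A B : FusionSystem S'}, IsIso F θ A → IsIso F θ B → ∀ P' f',
      IsMor A P' f' → IsMor B P' f' := by
    intro A B hA hB P' f' hf'
    obtain ⟨P, hP, rfl⟩ := hA.exists_imgT hf'.le
    obtain ⟨f, hf, e⟩ := hA.pull P hP f' hf'
    obtain ⟨g, hg, eg⟩ := hB.push P f hf
    refine hg.congr fun y hy => ?_
    obtain ⟨x, hx, rfl⟩ := (mem_imgT_iff hA.map_mul hP).mp hy
    rw [eg x hx, e x hx]
  exact fusion_ext fun P f => ⟨key h h₁ P f, key h₁ h P f⟩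

theorem IsIso.push_img (h : IsIso F θ F') {P : Subgroup Ω} {f : Ω → Ω} {f' : Ω' → Ω'}
    (hf : IsMor F P f) (e : ∀ x ∈ P, f' (θ x) = θ (f x)) :
    img (imgT P θ) f' = imgT (img P f) θ := by
  refine le_antisymm (img_le fun y hy => ?_) (imgT_le fun z hz => ?_)
  · obtain ⟨x, hx, rfl⟩ := (mem_imgT_iff h.map_mul hf.le).mp hy
    rw [e x hx]
    exact mem_imgT_of_mem θ (mem_img_of_mem f hx)
  · obtain ⟨x, hx, rfl⟩ := hf.mem_img.mp hz
    rw [← e x hx]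
    exact mem_img_of_mem f' (mem_imgT_of_mem θ hx)

theorem IsIso.bijective (h : IsIso F θ F') :
    Function.Bijective (fun x : S => (⟨θ x, h.mem x.2⟩ : S')) :=
  ⟨fun x y e => Subtype.ext (h.inj x.2 y.2 (congrArg Subtype.val e)), fun y => by
    obtain ⟨x, hx, e⟩ := h.surj y.2
    exact ⟨⟨x, hx⟩, Subtype.ext e⟩⟩

theorem IsIso.finite (h : IsIso F θ F') [Finite S] : Finite S' :=
  Finite.of_surjective _ h.bijective.2

theorem IsIso.card_eq (h : IsIso F θ F') : Nat.card S' = Nat.card S :=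
  (Nat.card_eq_of_bijective _ h.bijective).symm

theorem IsIso.isPGroup (h : IsIso F θ F') {p : ℕ} (hS : IsPGroup p S) : IsPGroup p S' :=
  hS.of_surjective ((homOn h.map_mul).codRestrict S' fun x => h.mem x.2) h.bijective.2

/-- An isomorphism presents the image as a factor system modulo the trivial subgroup. -/
theorem IsIso.isFactorSystem (h : IsIso F θ F') :
    F.IsFactorSystem ⊥ (homOn h.map_mul) F' := by
  have hpre : ∀ {P' : Subgroup Ω'}, P' ≤ S' →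
      preimageAlong (homOn h.map_mul) P' = imgT P' (isoInv S θ) := by
    intro P' hP'
    refine le_antisymm (fun x hx => ?_) (imgT_le fun y hy => ?_)
    · obtain ⟨hxS, hxP⟩ := mem_preimageAlong.mp hx
      have := mem_imgT_of_mem (isoInv S θ) hxP
      rwa [homOn_apply, h.inv_left hxS] at this
    · refine mem_preimageAlong.mpr ⟨h.inv_mem (hP' hy), ?_⟩
      rw [homOn_apply, h.inv_right (hP' hy)]
      exact hy
  refine ⟨bot_le, fun s => ⟨fun e => Subgroup.mem_bot.mpr (h.inj s.2 S.one_mem (e.trans h.map_one.symm)),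
    fun e => ?_⟩, ?_, fun P' φ' => ⟨fun hφ' => ?_, ?_⟩⟩
  · rw [homOn_apply, Subgroup.mem_bot.mp e, h.map_one]
  · ext y
    exact ⟨fun ⟨x, e⟩ => e ▸ h.mem x.2, fun hy => by
      obtain ⟨x, hx, e⟩ := h.surj hy
      exact ⟨⟨x, hx⟩, e⟩⟩
  · have hP' := (F'.le_of_mem hφ').1
    refine ⟨hP', ?_⟩
    have hm : IsMor F' (imgT (imgT P' (isoInv S θ)) θ) (toFun φ') :=
      (h.imgT_inv' hP').symm ▸ isMor_of_mem hφ'
    obtain ⟨f, hf, e⟩ := h.pull _ (h.inv_le hP') _ hm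
    rw [← hpre hP'] at hf e
    obtain ⟨φ, hφ, hφf⟩ := hf
    refine ⟨φ, hφ, preimageAlong_le _, fun x => (F.le_of_mem hφ).2 x,
      fun x => (mem_preimageAlong.mp x.2).2, fun x => ?_⟩
    rw [← toFun_coe φ']
    exact (e x x.2).trans (congrArg θ (hφf x).symm)
  · rintro ⟨hP', φ, hφ, hle, hval, hmem, he⟩
    have hm : IsMor F (imgT P' (isoInv S θ)) (toFun φ) := hpre hP' ▸ isMor_of_mem hφ
    obtain ⟨f', hf', e⟩ := h.push _ _ hm
    rw [h.imgT_inv' hP'] at hf'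
    refine hf'.mem_hom fun y => ?_
    obtain ⟨x, hx, hxe⟩ := h.surj (hP' y.2)
    have hxp : x ∈ preimageAlong (homOn h.map_mul) P' :=
      mem_preimageAlong.mpr ⟨hx, by rw [homOn_apply, hxe]; exact y.2⟩
    have h1 := he ⟨x, hxp⟩
    have h2 := e x (hpre hP' ▸ hxp)
    rw [toFun_of_mem φ hxp] at h2
    rw [← hxe, h2]
    exact Eq.trans (congrArg φ' (Subtype.ext hxe.symm)) h1

/-- A factor system modulo the trivial subgroup is an isomorphism. -/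
theorem isIso_of_factor [Finite S] {γ : S →* Ω'} (hE : F.IsFactorSystem ⊥ γ F')
    (e : ∀ x : S, θ x = γ x) : IsIso F θ F' := by
  obtain ⟨-, hker, hrange, -⟩ := id hE
  have hbot : F.StronglyClosed ⊥ := isNormal_stronglyClosed (isNormal_bot F)
  have hinj : Function.Injective γ := (injective_iff_map_eq_one γ).mpr fun s hs =>
    Subtype.ext (Subgroup.mem_bot.mp ((hker s).mp hs))
  have hmul : ∀ x ∈ S, ∀ y ∈ S, θ (x * y) = θ x * θ y := fun x hx y hy => by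
    rw [e ⟨x, hx⟩, e ⟨y, hy⟩, e ⟨x * y, S.mul_mem hx hy⟩, ← map_mul]
    rfl
  have hpre : ∀ {P : Subgroup Ω}, P ≤ S → preimageAlong γ (imgT P θ) = P := by
    intro P hP
    refine le_antisymm (fun x hx => ?_) fun x hx =>
      mem_preimageAlong.mpr ⟨hP hx, e ⟨x, hP hx⟩ ▸ mem_imgT_of_mem θ hx⟩
    obtain ⟨hxS, hxP⟩ := mem_preimageAlong.mp hx
    obtain ⟨z, hz, hze⟩ := (mem_imgT_iff hmul hP).mp hxP
    rw [e ⟨z, hP hz⟩] at hze
    have h2 : z = x := congrArg Subtype.val (hinj hze)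
    exact h2 ▸ hz
  refine ⟨hmul, fun x hx y hy he => ?_, ?_, fun P f hf => ?_, fun P hP f' hf' => ?_⟩
  · rw [e ⟨x, hx⟩, e ⟨y, hy⟩] at he
    exact congrArg Subtype.val (hinj he)
  · rw [← hrange]
    ext y
    rw [mem_imgT_iff hmul le_rfl]
    exact ⟨fun ⟨x, hx, hxe⟩ => ⟨⟨x, hx⟩, (e ⟨x, hx⟩).symm.trans hxe⟩,
      fun ⟨x, hxe⟩ => ⟨x, x.2, (e x).trans hxe⟩⟩
  · have hP := hf.le
    have hP' : imgT P θ ≤ S' := imgT_le fun x hx => hrange ▸ ⟨⟨x, hP hx⟩, (e _).symm⟩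
    obtain ⟨f', hf', he⟩ := factor_push hE hbot hP' ((hpre hP).symm ▸ hf)
    refine ⟨f', hf', fun x hx => ?_⟩
    rw [e ⟨x, hP hx⟩, he ⟨x, hP hx⟩ (hf.mem hx) (e ⟨x, hP hx⟩ ▸ mem_imgT_of_mem θ hx), ← e]
  · obtain ⟨g, hg, he⟩ := factor_lift hE hf'
    rw [hpre hP] at hg
    refine ⟨g, hg, fun x hx => ?_⟩
    rw [e ⟨x, hP hx⟩, he ⟨x, hP hx⟩ (hg.mem hx) (e ⟨x, hP hx⟩ ▸ mem_imgT_of_mem θ hx), ← e]

theorem IsIso.isSaturated (h : IsIso F θ F') [Finite S] {p : ℕ} [Fact p.Prime]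
    (hS : IsPGroup p S) (hF : F.IsSaturated p) : F'.IsSaturated p :=
  factor_isSaturated hS hF (isNormal_stronglyClosed (isNormal_bot F)) h.isFactorSystem

/-- The image of a system along an injective multiplicative function. -/
theorem exists_isIso {T : Subgroup Ω} [Finite T] (E : FusionSystem T)
    (hmul : ∀ x ∈ T, ∀ y ∈ T, θ (x * y) = θ x * θ y) (hinj : Set.InjOn θ T) :
    ∃ E' : FusionSystem (imgT T θ), IsIso E θ E' := by
  have hrange : (homOn hmul).range = imgT T θ := by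
    ext y
    rw [mem_imgT_iff hmul le_rfl]
    exact ⟨fun ⟨x, hxe⟩ => ⟨x, x.2, hxe⟩, fun ⟨x, hx, hxe⟩ => ⟨⟨x, hx⟩, hxe⟩⟩
  have hker : ∀ s : T, homOn hmul s = 1 ↔ (s : Ω) ∈ (⊥ : Subgroup Ω) := fun s => by
    rw [Subgroup.mem_bot, ← (homOn hmul).map_one]
    exact ⟨fun e => hinj s.2 T.one_mem e, fun e => congrArg _ (Subtype.ext e : s = 1)⟩
  obtain ⟨E', hE'⟩ := exists_factorSystem (isNormal_stronglyClosed (isNormal_bot E)) hker hrange
  exact ⟨E', isIso_of_factor hE' fun _ => rfl⟩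

end Iso

end CfsgLib.Fusion
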