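import Mathlib
import Cfsg.Agent.Lib.Fusion.Criteria

/-! Constrained systems: subsystems on strongly closed subgroups. -/
set_option autoImplicit false

namespace CfsgLib.Fusion

open Cfsg Cfsg.FusionSystem

variable {Ω Ω' : Type*} [Group Ω] [Group Ω'] {S : Subgroup Ω} {F : FusionSystem S}
  {T' : Subgroup Ω'} {E : FusionSystem T'} {p : ℕ} [hp : Fact p.Prime]

/-- Elements stabilizing a series `1 ≤ R ≤ Q` with `Q` normal and centric lie in the core. -/
theorem mem_core_of_stabilizes [Finite S] (hS : IsPGroup p S) (hF : F.IsSaturated p)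
    {Q R : Subgroup Ω} (hQ : F.IsNormal Q) (hQc : F.IsCentric Q) (hR : F.StronglyClosed R)
    (hRQ : R ≤ Q) {x : Ω} (hx : x ∈ S) (hx1 : ∀ r ∈ R, cj x r = r)
    (hx2 : ∀ q ∈ Q, q⁻¹ * cj x q ∈ R) : x ∈ F.core := by
  have hQS := hQ.1
  have hscR := (stronglyClosed_iff.mp hR).2
  have hQn := stronglyClosed_le_normalizer (isNormal_stronglyClosed hQ)
  -- the elements acting on Q as stabilizers of the series 1 ≤ R ≤ Q
  let U : Subgroup Ω :=
    { carrier := {u | u ∈ S ∧ (∀ r ∈ R, cj u r = r) ∧ ∀ q ∈ Q, q⁻¹ * cj u q ∈ R}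
      one_mem' := ⟨S.one_mem, fun r _ => cj_one r, fun q _ => by simp [cj]⟩
      mul_mem' := by
        rintro a b ⟨ha, ha1, ha2⟩ ⟨hb, hb1, hb2⟩
        refine ⟨S.mul_mem ha hb, fun r hr => by rw [cj_mul, hb1 r hr, ha1 r hr], fun q hq => ?_⟩
        rw [cj_mul]
        have hr := hb2 q hq
        have h1 : cj a (cj b q) = cj a q * (q⁻¹ * cj b q) := by
          rw [← ha1 _ hr, ← cj_map_mul]
          congr 1
          rw [mul_inv_cancel_left]
        rw [h1, ← mul_assoc]
        exact R.mul_mem (ha2 q hq) hr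
      inv_mem' := by
        rintro a ⟨ha, ha1, ha2⟩
        refine ⟨S.inv_mem ha, fun r hr => ?_, fun q hq => ?_⟩
        · conv_lhs => rw [← ha1 r hr]
          exact cj_inv_cj a r
        · have hq' : cj a⁻¹ q ∈ Q :=
            (Subgroup.mem_normalizer_iff.mp (hQn (S.inv_mem ha)) q).mp hq
          have := R.inv_mem (ha2 _ hq')
          rwa [cj_cj_inv, mul_inv_rev, inv_inv] at this }
  have hUS : U ≤ S := fun u hu => hu.1
  have hUsc : F.StronglyClosed U := by
    refine stronglyClosed_iff.mpr ⟨hUS, fun P f hf u hu hU => ?_⟩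
    obtain ⟨hu1, hu2, hu3⟩ := hU
    obtain ⟨g, hg, hgf, hgQ⟩ := (isNormal_iff.mp hQ).2 P f hf
    have hgR : img R g = R :=
      (hg.restrict (hRQ.trans le_sup_right)).img_eq_self fun r hr =>
        hscR _ _ hg r (Subgroup.mem_sup_right (hRQ hr)) hr
    refine ⟨hf.mem hu, fun r hr => ?_, fun q hq => ?_⟩
    · rw [← hgR] at hr
      obtain ⟨r₀, hr₀, rfl⟩ :=
        (hg.restrict (hRQ.trans le_sup_right : R ≤ P ⊔ Q)).mem_img.mp hr
      have := hg.map_conj (Subgroup.mem_sup_left hu : u ∈ P ⊔ Q) (Subgroup.mem_sup_right (hRQ hr₀))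
      have e : u * r₀ * u⁻¹ = r₀ := hu2 r₀ hr₀
      rw [e, hgf u hu] at this
      exact this.symm
    · rw [← hgQ] at hq
      obtain ⟨q₀, hq₀, rfl⟩ := (hg.restrict (le_sup_right : Q ≤ P ⊔ Q)).mem_img.mp hq
      have hm : cj u q₀ ∈ Q := (Subgroup.mem_normalizer_iff.mp (hQn hu1) q₀).mp hq₀
      have := hg.map_conj (Subgroup.mem_sup_left hu : u ∈ P ⊔ Q) (Subgroup.mem_sup_right hq₀)
      rw [hgf u hu] at this
      show (g q₀)⁻¹ * (f u * g q₀ * (f u)⁻¹) ∈ R
      rw [← this, ← hg.map_inv (Subgroup.mem_sup_right hq₀),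
        ← hg.map_mul (Subgroup.mem_sup_right (Q.inv_mem hq₀)) (Subgroup.mem_sup_right (show u * q₀ * u⁻¹ ∈ Q from hm)),
        ← hgR]
      exact mem_img_of_mem g (hu3 q₀ hq₀)
  have hUn : F.IsNormal U := by
    refine isNormal_of_stronglyClosed hS hF hUsc fun P hc hr => ?_
    have hP := hc.1
    have hQP : Q ≤ P := le_of_normal_of_radical hS hQ hc hr
    have hinvQ : ∀ β ∈ F.autGroup P, ∀ q ∈ Q, autFun β q ∈ Q := fun β hβ q hq =>
      (stronglyClosed_iff.mp (isNormal_stronglyClosed hQ)).2 P _ (isMor_autFun hP hβ) q (hQP hq) hq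
    have hinvR : ∀ β ∈ F.autGroup P, ∀ r ∈ R, autFun β r ∈ R := fun β hβ r hr =>
      hscR P _ (isMor_autFun hP hβ) r (hQP (hRQ hr)) hr
    let W : ℕ → Subgroup Ω := fun i => if i = 0 then ⊥ else if i = 1 then R else Q
    have hWA : ∀ α ∈ F.autGroup Q, ∀ i, ∀ x ∈ Q, x ∈ W i → autFun α x ∈ W i := by
      intro α hα i x hx hxW
      rcases i with _ | _ | i
      · simp [W] at hxW ⊢
        rw [hxW, (isMor_autFun hQS hα).map_one]
      · simp only [W] at hxW ⊢
        simp at hxW ⊢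
        exact hscR Q _ (isMor_autFun hQS hα) x hx hxW
      · simp [W] at hxW ⊢
        exact autFun_mem α hx
    let K := seriesStab (F.autGroup Q) 2 W hWA
    have : Finite Q := finite_of_le hQS
    have hKp : IsPGroup p K := isPGroup_stabilizing hS hQS 2
      (fun i => ((Q ⊓ W i : Subgroup Ω) : Set Ω)) (by simp [W]) (fun x hx => ⟨hx, by simpa [W] using hx⟩)
      fun α hα i hi x hx hxW => ⟨Q.mul_mem (Q.inv_mem hx) (autFun_mem α hx), hα.2 i hi x hx hxW.2⟩
    let L : Subgroup (MulAut P) :=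
      { carrier := {β | β ∈ F.autGroup P ∧ (∀ r ∈ R, autFun β r = r) ∧
          ∀ q ∈ Q, q⁻¹ * autFun β q ∈ R}
        one_mem' := ⟨Subgroup.one_mem _, fun r hr => autFun_one (hQP (hRQ hr)),
          fun q hq => by simp [autFun_one (hQP hq)]⟩
        mul_mem' := by
          rintro a b ⟨ha, ha1, ha2⟩ ⟨hb, hb1, hb2⟩
          refine ⟨Subgroup.mul_mem _ ha hb,
            fun r hr => by rw [autFun_mul _ _ (hQP (hRQ hr)), hb1 r hr, ha1 r hr], fun q hq => ?_⟩
          have hr := hb2 q hq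
          rw [autFun_mul _ _ (hQP hq)]
          have h1 : autFun a (autFun b q) = autFun a q * (q⁻¹ * autFun b q) := by
            rw [← ha1 _ hr, ← autFun_map_mul a (hQP hq) (hQP (hRQ hr))]
            congr 1
            rw [mul_inv_cancel_left]
          rw [h1, ← mul_assoc]
          exact R.mul_mem (ha2 q hq) hr
        inv_mem' := by
          rintro a ⟨ha, ha1, ha2⟩
          refine ⟨Subgroup.inv_mem _ ha, fun r hr => ?_, fun q hq => ?_⟩
          · conv_lhs => rw [← ha1 r hr]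
            exact autFun_inv_left a (hQP (hRQ hr))
          · have := R.inv_mem (ha2 _ (hinvQ _ (Subgroup.inv_mem _ ha) q hq))
            rwa [autFun_inv_right a (hQP hq), mul_inv_rev, inv_inv] at this }
    have hLn : ∀ a ∈ F.autGroup P, ∀ k ∈ L, a * k * a⁻¹ ∈ L := by
      rintro a ha k ⟨hk, hk1, hk2⟩
      have hai := Subgroup.inv_mem _ ha
      refine ⟨Subgroup.mul_mem _ (Subgroup.mul_mem _ ha hk) hai, fun r hr => ?_, fun q hq => ?_⟩
      · rw [autFun_mul _ _ (hQP (hRQ hr)), autFun_mul _ _ (autFun_mem _ (hQP (hRQ hr))),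
          hk1 _ (hinvR _ hai r hr), autFun_inv_right a (hQP (hRQ hr))]
      · have hm := hinvQ _ hai q hq
        have := hinvR _ ha _ (hk2 _ hm)
        rw [autFun_map_mul a (hQP (Q.inv_mem hm)) (hQP (hinvQ _ hk _ hm)),
          autFun_inv_map a (hQP hm), autFun_inv_right a (hQP hq)] at this
        rwa [autFun_mul _ _ (hQP hq), autFun_mul _ _ (autFun_mem _ (hQP hq))]
    have hLp : IsPGroup p L := by
      rintro ⟨β, hβ, hβ1, hβ2⟩
      obtain ⟨α, hα, hαe⟩ := exists_aut ((isMor_autFun hP hβ).restrict hQP)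
        (((isMor_autFun hP hβ).restrict hQP).img_eq_self (hinvQ β hβ))
      have hαK : α ∈ K := ⟨hα, fun i hi q hq hqW => by
        rw [hαe q hq]
        rcases i with _ | _ | i
        · simp [W] at hqW ⊢
          rw [hβ1 q hqW, inv_mul_cancel]
        · simp only [W]
          simp
          exact hβ2 q hq
        · omega⟩
      obtain ⟨k, hk⟩ := hKp ⟨α, hαK⟩
      have hk' : α ^ (p ^ k) = 1 := congrArg Subtype.val hk
      have hpow : ∀ n : ℕ, ∀ q ∈ Q, autFun (β ^ n) q = autFun (α ^ n) q := by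
        intro n
        induction n with
        | zero => intro q hq; simp [autFun_one (hQP hq), autFun_one hq]
        | succ n ih =>
          intro q hq
          rw [pow_succ, pow_succ, autFun_mul _ _ (hQP hq), autFun_mul _ _ hq, ← hαe q hq,
            ih _ (autFun_mem α hq)]
      have hγ : β ^ (p ^ k) ∈ F.autGroup P := Subgroup.pow_mem _ hβ _
      obtain ⟨z, hz, -, hze⟩ := centric_agree hS hF (isMor_autFun hP hγ) (isMor_id F hP) hQP hQc
        (fun q hq => by rw [hpow _ q hq, hk', autFun_one hq, id])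
      have hinn : β ^ (p ^ k) ∈ Inn P := mem_inn.mpr ⟨z⁻¹, P.inv_mem (hQP hz), fun x hx => by
        have hm : cj z⁻¹ x ∈ P := P.mul_mem (P.mul_mem (P.inv_mem (hQP hz)) hx)
          (P.inv_mem (P.inv_mem (hQP hz)))
        have := hze _ hm
        rw [cj_cj_inv] at this
        exact this.symm⟩
      obtain ⟨m, hm⟩ := isPGroup_inn hS hP ⟨_, hinn⟩
      refine ⟨k + m, Subtype.ext ?_⟩
      show β ^ (p ^ (k + m)) = 1
      rw [pow_add, pow_mul]
      exact congrArg Subtype.val hm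
    have hLI : L ≤ Inn P := le_inn_of_radical hr (fun β hβ => hβ.1) hLp hLn
    by_contra hUP
    have hlt : P < P ⊔ U := left_lt_sup.mpr hUP
    have hPUS : P ⊔ U ≤ S := sup_le hP hUS
    have : Finite ↥(P ⊔ U) := finite_of_le hPUS
    obtain ⟨g, hg, hgP⟩ := SetLike.exists_of_lt (lt_inf_normalizer (isPGroup_of_le hPUS hS) hlt)
    obtain ⟨hgR, hgN⟩ := Subgroup.mem_inf.mp hg
    rw [← SetLike.mem_coe, Subgroup.coe_mul_of_left_le_normalizer_right _ _
      (hP.trans (stronglyClosed_le_normalizer hUsc))] at hgR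
    obtain ⟨a, ha, b, hb, rfl⟩ := hgR
    have hbN : b ∈ Subgroup.normalizer (P : Set Ω) :=
      (Subgroup.mul_mem_cancel_left _ (Subgroup.le_normalizer ha)).mp hgN
    refine hgP (P.mul_mem ha ?_)
    obtain ⟨α, hα, e⟩ := exists_autInducedBy (hUS hb) hbN
    have hαL : α ∈ L := ⟨autInducedBy_le F hP hα,
      fun r hr => by rw [e r (hQP (hRQ hr))]; exact hb.2.1 r hr,
      fun q hq => by rw [e q (hQP hq)]; exact hb.2.2 q hq⟩
    exact mem_of_cj_inn hP (centric_centralizer_le hc) (hUS hb) (hLI hαL) e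
  exact le_core hUn ⟨hx, hx1, hx2⟩

/-- In a constrained system the centralizer in `T` of `Q ⊓ T` lies in the core. -/
theorem mem_of_centralizes_inf [Finite S] (hS : IsPGroup p S) (hF : F.IsSaturated p)
    {Q T : Subgroup Ω} (hQ : F.IsNormal Q) (hQc : F.IsCentric Q) (hT : F.StronglyClosed T)
    {x : Ω} (hx : x ∈ T) (hxc : ∀ r ∈ Q ⊓ T, cj x r = r) : x ∈ F.core := by
  have hR : F.StronglyClosed (Q ⊓ T) := stronglyClosed_iff.mpr ⟨inf_le_left.trans hQ.1,
    fun P f hf y hy hyR => ⟨(stronglyClosed_iff.mp (isNormal_stronglyClosed hQ)).2 P f hf y hy hyR.1,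
      (stronglyClosed_iff.mp hT).2 P f hf y hy hyR.2⟩⟩
  refine mem_core_of_stabilizes hS hF hQ hQc hR inf_le_left (hT.1 hx) hxc fun q hq =>
    ⟨Q.mul_mem (Q.inv_mem hq) ((Subgroup.mem_normalizer_iff.mp
      (stronglyClosed_le_normalizer (isNormal_stronglyClosed hQ) (hT.1 hx)) q).mp hq), ?_⟩
  have h1 : q⁻¹ * x * q ∈ T := by
    have := (Subgroup.mem_normalizer_iff.mp
      (stronglyClosed_le_normalizer hT (S.inv_mem (hQ.1 hq))) x).mp hx
    simpa using this
  have := T.mul_mem h1 (T.inv_mem hx)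
  simpa [cj, mul_assoc] using this

theorem constrained_pullback [Finite S] (hS : IsPGroup p S) (hF : F.IsConstrained p)
    (j : Ω' →* Ω) (hj : Function.Injective j) (hE : E.IsSaturated p)
    (hT : F.StronglyClosed (T'.map j))
    (hmap : ∀ P f, IsMor E P f → ∃ g, IsMor F (P.map j) g ∧ ∀ x ∈ P, g (j x) = j (f x)) :
    E.IsConstrained p := by
  refine ⟨hE, ?_⟩
  obtain ⟨hFs, Q₀, hQ₀, hQ₀c⟩ := hF
  have hQ := isNormal_core F
  have hQc : F.IsCentric F.core := centric_mono hQ₀c (le_core hQ₀) hQ.1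
  set T := T'.map j with hTdef
  have hTS := hT.1
  have : Finite T' := by
    have : Finite T := finite_of_le hTS
    exact Finite.of_equiv _ (T'.equivMapOfInjective j hj).toEquiv.symm
  have hT'p : IsPGroup p T' :=
    (isPGroup_of_le hTS hS).of_equiv (T'.equivMapOfInjective j hj).symm
  obtain ⟨n, Qs, hQs0, hQsn, -, hQsc, hQcomm⟩ := exists_chain_of_isNormal hS hQ
  let Qs' : ℕ → Subgroup Ω' := fun i => (Qs i ⊓ T).comap j
  have hsub : ∀ i, Qs' i ≤ T' := fun i x hx => (Subgroup.mem_map_iff_mem hj).mp hx.2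
  have hnormal : E.IsNormal (Qs' n) := by
    refine isNormal_of_chain hT'p hE n Qs' ?_ rfl (fun i _ => ?_) fun i hi => ?_
    · refine le_bot_iff.mp fun x hx => Subgroup.mem_bot.mpr (hj ?_)
      have : j x ∈ Qs 0 := hx.1
      rw [hQs0, Subgroup.mem_bot] at this
      rw [this, map_one]
    · refine stronglyClosed_iff.mpr ⟨hsub i, fun P f hf x hxP hx => ?_⟩
      obtain ⟨g, hg, hge⟩ := hmap P f hf
      refine ⟨?_, Subgroup.mem_map_of_mem j (hf.mem hxP)⟩
      rw [← hge x hxP]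
      exact (stronglyClosed_iff.mp (hQsc i)).2 _ g hg _ (Subgroup.mem_map_of_mem j hxP) hx.1
    · refine Subgroup.commutator_le.mpr fun a ha b hb => ⟨?_, ?_⟩
      · rw [map_commutatorElement]
        refine hQcomm i hi (Subgroup.commutator_mem_commutator ?_ hb.1)
        rw [← hQsn]
        exact ha.1
      · exact Subgroup.mem_map_of_mem j (T'.mul_mem (T'.mul_mem (T'.mul_mem (hsub _ ha)
          (hsub _ hb)) (T'.inv_mem (hsub _ ha))) (T'.inv_mem (hsub _ hb)))
  refine ⟨_, hnormal, hsub n, fun R hR => ?_⟩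
  obtain ⟨f, hf, rfl⟩ := isConj_iff.mp hR
  rw [hf.img_eq_self fun x hx =>
    (stronglyClosed_iff.mp (isNormal_stronglyClosed hnormal)).2 _ f hf x hx hx]
  intro x hx
  obtain ⟨hxT, hxc⟩ := mem_centralizerIn.mp hx
  refine ⟨?_, Subgroup.mem_map_of_mem j hxT⟩
  rw [hQsn]
  refine mem_of_centralizes_inf hS hFs hQ hQc hT (Subgroup.mem_map_of_mem j hxT) fun r hr => ?_
  obtain ⟨r', -, rfl⟩ := hr.2
  have := congrArg j (hxc r' ⟨hQsn ▸ hr.1, hr.2⟩)
  simpa [cj] using this

end CfsgLib.Fusion
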