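import Mathlib
import Cfsg.Prelude.Def_FusionComponents
import Cfsg.Agent.Lib.Fusion.Constrained

/-! Subnormal subsystems. -/
set_option autoImplicit false

namespace CfsgLib.Fusion

open Cfsg Cfsg.FusionSystem

variable {Ω : Type*} [Group Ω] {S T : Subgroup Ω} {F : FusionSystem S} {E : FusionSystem T}
  {p : ℕ}

theorem subnormal_le (h : E.IsSubnormalIn F p) : T ≤ S := by
  induction h with
  | refl => exact le_rfl
  | step _ hD ih => exact ih.trans hD.1.2.2.2.1.1

theorem subnormal_saturated (h : E.IsSubnormalIn F p) :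
    F.IsSaturated p → E.IsSaturated p ∧ E.IsSubsystemOf F := by
  induction h with
  | refl => exact fun hF => ⟨hF, fun _ => subset_rfl⟩
  | step _ hD ih =>
    intro _
    obtain ⟨hs, hsub⟩ := ih hD.1.1
    exact ⟨hs, fun P => (hsub P).trans (hD.1.2.2.1 P)⟩

theorem subnormal_constrained (h : E.IsSubnormalIn F p) :
    Fact p.Prime → Finite S → IsPGroup p S → F.IsConstrained p → E.IsConstrained p := by
  induction h with
  | refl => exact fun _ _ _ hF => hF
  | step _ hD ih =>
    intro hp hfin hS hF
    have hUS := hD.1.2.2.2.1.1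
    refine ih hp (finite_of_le hUS) (isPGroup_of_le hUS hS)
      (constrained_pullback hS hF (MonoidHom.id Ω) Function.injective_id hD.1.1 ?_ ?_)
    · rw [Subgroup.map_id]
      exact hD.1.2.2.2.1
    · intro P f hf
      exact ⟨f, by rw [Subgroup.map_id]; exact le_iff_isMor.mp hD.1.2.2.1 P f hf, fun _ _ => rfl⟩

end CfsgLib.Fusion
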