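import Mathlib
import Cfsg.Agent.Lib.Fusion.Iso
import Cfsg.Agent.Lib.Fusion.Hyperfocal
import Cfsg.Agent.Lib.Fusion.Invariant
import Cfsg.Agent.Lib.Fusion.Subnormal
import Cfsg.Agent.S5119

/-!
# Normality, subnormality and quasisimplicity are invariant under isomorphisms
-/

set_option autoImplicit false

namespace CfsgLib.Fusion

open Cfsg Cfsg.FusionSystem

variable {Ω Ω' : Type*} [Group Ω] [Group Ω'] {S T : Subgroup Ω} {S' T' : Subgroup Ω'}
  {F : FusionSystem S} {F' : FusionSystem S'} {E : FusionSystem T} {E' : FusionSystem T'}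
  {θ : Ω → Ω'}

theorem iso_subsystem_of_subsystem (hF : IsIso F θ F') (hE : IsIso E θ E')
    (h : E.IsSubsystemOf F) : E'.IsSubsystemOf F' := by
  refine le_iff_isMor.mpr fun P' f' hf' => ?_
  obtain ⟨P, hP, rfl⟩ := hE.exists_imgT hf'.le
  obtain ⟨f, hf, e⟩ := hE.pull P hP f' hf'
  obtain ⟨g', hg', eg⟩ := hF.push P f (le_iff_isMor.mp h P f hf)
  refine hg'.congr fun y hy => ?_
  obtain ⟨x, hx, rfl⟩ := (mem_imgT_iff hE.map_mul hP).mp hy
  rw [eg x hx, e x hx]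

theorem IsIso.stronglyClosed (hF : IsIso F θ F') {A : Subgroup Ω} (hA : F.StronglyClosed A) :
    F'.StronglyClosed (imgT A θ) := by
  obtain ⟨hAS, hc⟩ := stronglyClosed_iff.mp hA
  refine stronglyClosed_iff.mpr ⟨hF.le hAS, fun P' f' hf' y hyP hyA => ?_⟩
  obtain ⟨P, hP, rfl⟩ := hF.exists_imgT hf'.le
  obtain ⟨f, hf, e⟩ := hF.pull P hP f' hf'
  obtain ⟨x, hx, rfl⟩ := (mem_imgT_iff hF.map_mul hP).mp hyP
  rw [e x hx]
  exact mem_imgT_of_mem θ (hc P f hf x hx ((hF.mem_iff hAS (hP hx)).mp hyA))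

theorem IsIso.imgT_centralizerIn (hF : IsIso F θ F') {A : Subgroup Ω} (hA : A ≤ S) :
    imgT (centralizerIn S A) θ = centralizerIn S' (imgT A θ) := by
  refine le_antisymm (imgT_le fun c hc => ?_) fun y hy => ?_
  · obtain ⟨hcS, hc'⟩ := mem_centralizerIn.mp hc
    refine mem_centralizerIn.mpr ⟨hF.mem hcS, fun z hz => ?_⟩
    obtain ⟨a, ha, rfl⟩ := (mem_imgT_iff hF.map_mul hA).mp hz
    rw [cj_apply, ← hF.map_conj hcS (hA ha), show c * a * c⁻¹ = a from hc' a ha]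
  · obtain ⟨hyS, hy'⟩ := mem_centralizerIn.mp hy
    obtain ⟨c, hc, rfl⟩ := hF.surj hyS
    refine mem_imgT_of_mem θ (mem_centralizerIn.mpr ⟨hc, fun a ha => ?_⟩)
    have := hy' _ (mem_imgT_of_mem θ ha)
    rw [cj_apply, ← hF.map_conj hc (hA ha)] at this
    exact hF.inj (S.mul_mem (S.mul_mem hc (hA ha)) (S.inv_mem hc)) (hA ha) this

/-- An automorphism in `F` of `A` gives one in `F'` of the image. -/
theorem IsIso.push_aut (hF : IsIso F θ F') [Finite S] {A : Subgroup Ω} (hA : A ≤ S)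
    {α : MulAut A} (hα : α ∈ F.autGroup A) :
    ∃ β ∈ F'.autGroup (imgT A θ), ∀ x ∈ A, autFun β (θ x) = θ (autFun α x) := by
  have := hF.finite
  obtain ⟨f', hf', e⟩ := hF.push A _ (isMor_autFun hA hα)
  obtain ⟨β, hβ, hβe⟩ := exists_aut hf' (by rw [hF.push_img (isMor_autFun hA hα) e, img_autFun])
  exact ⟨β, hβ, fun x hx => by rw [hβe _ (mem_imgT_of_mem θ hx), e x hx]⟩

theorem IsIso.pull_aut (hF : IsIso F θ F') [Finite S] {A : Subgroup Ω} (hA : A ≤ S)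
    {β : MulAut ↥(imgT A θ)} (hβ : β ∈ F'.autGroup (imgT A θ)) :
    ∃ α ∈ F.autGroup A, ∀ x ∈ A, autFun β (θ x) = θ (autFun α x) := by
  obtain ⟨f, hf, e⟩ := hF.pull A hA _ (isMor_autFun (hF.le hA) hβ)
  obtain ⟨α, hα, hαe⟩ := exists_aut hf (hf.img_eq_self fun x hx =>
    (hF.mem_iff hA (hf.mem hx)).mp (e x hx ▸ autFun_mem β (mem_imgT_of_mem θ hx)))
  exact ⟨α, hα, fun x hx => by rw [hαe x hx, e x hx]⟩

variable {p : ℕ} [hp : Fact p.Prime]

theorem IsIso.weaklyNormal (hF : IsIso F θ F') (hE : IsIso E θ E') [Finite S]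
    (hS : IsPGroup p S) (h : E.IsWeaklyNormalIn F p) : E'.IsWeaklyNormalIn F' p := by
  obtain ⟨hEs, hFs, hinv⟩ := h
  have hsub := hinv.1
  have hT := hinv.2.1
  have hTS := hT.1
  have : Finite T := finite_of_le hTS
  have := hF.finite
  have hF's := hF.isSaturated hS hFs
  have hsub' := iso_subsystem_of_subsystem hF hE hsub
  have hT' : F'.StronglyClosed T' := hE.range ▸ hF.stronglyClosed hT
  refine ⟨hE.isSaturated (isPGroup_of_le hTS hS) hEs, hF's,
    (Cfsg.Agent.S5119.result p (hF.isPGroup hS) F' hF's E' hsub' hT').mpr (strongInv_iff.mp ?_)⟩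
  have hSI : StrongInv E F :=
    strongInv_iff.mpr ((Cfsg.Agent.S5119.result p hS F hFs E hsub hT).mp hinv)
  intro P' Q' f' g' hPQ' hQT' hf' hfQ hg'
  obtain ⟨Q, hQ, rfl⟩ := hE.exists_imgT hQT'
  obtain ⟨P, hP, rfl⟩ := hE.exists_imgT hf'.le
  have hPQ : P ≤ Q := fun x hx => (hE.mem_iff hQ (hP hx)).mp (hPQ' (mem_imgT_of_mem θ hx))
  obtain ⟨f, hf, ef⟩ := hE.pull P hP f' hf'
  obtain ⟨g, hg, eg⟩ := hF.pull Q (hQ.trans hTS) g' hg'
  have hfQ' : ∀ x ∈ P, f x ∈ Q := fun x hx =>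
    (hE.mem_iff hQ (hf.mem hx)).mp (ef x hx ▸ hfQ _ (mem_imgT_of_mem θ hx))
  obtain ⟨k, hk, ek⟩ := hSI P Q f g hPQ hQ hf hfQ' hg
  obtain ⟨k', hk', ek'⟩ := hE.push _ k hk
  refine ⟨k', (hF.push_img (hg.restrict hPQ) fun x hx => eg x (hPQ hx)).symm ▸ hk',
    fun y hy => ?_⟩
  obtain ⟨x, hx, rfl⟩ := (mem_imgT_iff hE.map_mul hP).mp hy
  rw [eg x (hPQ hx), ek' _ (mem_img_of_mem g hx), ek x hx, ef x hx, eg _ (hfQ' x hx)]

theorem IsIso.normal (hF : IsIso F θ F') (hE : IsIso E θ E') [Finite S]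
    (hS : IsPGroup p S) (h : E.IsNormalIn F p) : E'.IsNormalIn F' p := by
  refine ⟨hF.weaklyNormal hE hS h.1, fun a' ha' => ?_⟩
  have hTS := h.1.2.2.2.1.1
  have : Finite T := finite_of_le hTS
  obtain rfl := hE.range
  obtain ⟨α, hα, hαe⟩ := hE.pull_aut le_rfl ha'
  obtain ⟨β, hβ, hβT, hβC⟩ := h.2 α hα
  have hMS : T ⊔ centralizerIn S T ≤ S := sup_le hTS centralizerIn_le
  have hM' : imgT (T ⊔ centralizerIn S T) θ = imgT T θ ⊔ centralizerIn S' (imgT T θ) := by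
    rw [hF.imgT_sup hTS centralizerIn_le, hF.imgT_centralizerIn hTS]
  obtain ⟨f', hf', hβ'e⟩ := hF.push _ _ (isMor_autFun hMS hβ)
  have hi : img (imgT T θ ⊔ centralizerIn S' (imgT T θ)) f' =
      imgT T θ ⊔ centralizerIn S' (imgT T θ) := by
    rw [← hM', hF.push_img (isMor_autFun hMS hβ) hβ'e, img_autFun]
  rw [hM'] at hf'
  obtain ⟨γ, hγ, hγe⟩ := exists_aut hf' hi
  refine ⟨γ, hγ, fun y => ?_, fun c hc => ?_⟩
  · rw [← autFun_coe γ, ← autFun_coe a']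
    show autFun γ (y : Ω') = autFun a' (y : Ω')
    obtain ⟨x, hx, e⟩ := (mem_imgT_iff hE.map_mul le_rfl).mp y.2
    rw [← e, hαe x hx, hγe _ (Subgroup.mem_sup_left (mem_imgT_of_mem θ hx)),
      hβ'e x (Subgroup.mem_sup_left hx)]
    have := hβT ⟨x, hx⟩
    rw [← autFun_coe, ← autFun_coe] at this
    exact congrArg θ this
  · rw [← autFun_coe γ]
    have hc' := (hF.imgT_centralizerIn hTS).ge hc
    obtain ⟨x, hx, e⟩ := (mem_imgT_iff hF.map_mul centralizerIn_le).mp hc'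
    have hxM : x ∈ T ⊔ centralizerIn S T := Subgroup.mem_sup_right hx
    have h1 := hβC ⟨x, hxM⟩ hx
    rw [← autFun_coe] at h1
    have hxS : x ∈ S := centralizerIn_le hx
    have hbS : autFun β x ∈ S := hMS (autFun_mem β hxM)
    rw [← e, hγe _ (hM' ▸ mem_imgT_of_mem θ hxM), hβ'e x hxM, ← hF.map_inv hxS,
      ← hF.map_mul _ (S.inv_mem hxS) _ hbS]
    refine ⟨mem_imgT_of_mem θ h1.1, fun z hz => ?_⟩
    obtain ⟨t, ht, rfl⟩ := (mem_imgT_iff hE.map_mul le_rfl).mp hz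
    rw [← hF.map_mul _ (hTS ht) _ (hTS h1.1), ← hF.map_mul _ (hTS h1.1) _ (hTS ht)]
    exact congrArg θ (h1.2 t ht)

omit hp in
theorem exists_isIso_sub (hF : IsIso F θ F') {D : FusionSystem T} [Finite S] (hTS : T ≤ S) :
    ∃ D' : FusionSystem (imgT T θ), IsIso D θ D' := by
  have : Finite T := finite_of_le hTS
  exact exists_isIso D (fun x hx y hy => hF.map_mul x (hTS hx) y (hTS hy)) (hF.inj.mono hTS)

omit hp in
/-- Subnormality is carried along isomorphisms. -/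
theorem iso_subnormal (h : E.IsSubnormalIn F p) : Fact p.Prime → Finite S → IsPGroup p S →
    ∀ {T₁ S₁ : Subgroup Ω'} {F₁ : FusionSystem S₁} {E₁ : FusionSystem T₁},
      IsIso F θ F₁ → IsIso E θ E₁ → E₁.IsSubnormalIn F₁ p := by
  induction h with
  | refl =>
    intro _ _ _ T₁ S₁ F₁ E₁ hF₁ hE₁
    obtain rfl := hF₁.range
    obtain rfl := hE₁.range
    rw [hF₁.unique hE₁]
    exact .refl _ _
  | @step U S E D F p _ hD ih =>
    intro hp' hfin hS T₁ S₁ F₁ E₁ hF₁ hE₁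
    have hUS := hD.1.2.2.2.1.1
    obtain ⟨D₁, hD₁⟩ := exists_isIso_sub (D := D) hF₁ hUS
    exact .step (ih hp' (finite_of_le hUS) (isPGroup_of_le hUS hS) hD₁ hE₁)
      (hF₁.normal hD₁ hS hD)

omit hp in
theorem IsIso.isCentral (hF : IsIso F θ F') {Q : Subgroup Ω} (hQ : F.IsCentral Q) :
    F'.IsCentral (imgT Q θ) := by
  obtain ⟨hQS, hext⟩ := isCentral_iff.mp hQ
  refine isCentral_iff.mpr ⟨hF.le hQS, fun P' f' hf' => ?_⟩
  obtain ⟨P, hP, rfl⟩ := hF.exists_imgT hf'.le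
  obtain ⟨f, hf, e⟩ := hF.pull P hP f' hf'
  obtain ⟨g, hg, hgf, hgQ⟩ := hext P f hf
  obtain ⟨g', hg', eg⟩ := hF.push _ g hg
  rw [hF.imgT_sup hP hQS] at hg'
  refine ⟨g', hg', fun y hy => ?_, fun y hy => ?_⟩
  · obtain ⟨x, hx, rfl⟩ := (mem_imgT_iff hF.map_mul hP).mp hy
    rw [eg x (Subgroup.mem_sup_left hx), hgf x hx, e x hx]
  · obtain ⟨x, hx, rfl⟩ := (mem_imgT_iff hF.map_mul hQS).mp hy
    rw [eg x (Subgroup.mem_sup_right hx), hgQ x hx]

omit hp in
theorem IsIso.center (hF : IsIso F θ F') [Finite S] : imgT F.center θ = F'.center := by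
  have := hF.finite
  have hZ := (isCentral_center F').1
  refine le_antisymm (le_center (hF.isCentral (isCentral_center F))) ?_
  rw [← hF.imgT_inv' hZ]
  exact imgT_mono θ (le_center (hF.symm.isCentral (isCentral_center F')))

theorem IsIso.hyperfocal (hF : IsIso F θ F') [Finite S] (h : F.hyperfocalSubgroup p = S) :
    F'.hyperfocalSubgroup p = S' := by
  refine le_antisymm hyp_le_top ?_
  set Y := ((F'.hyperfocalSubgroup p).comap (homOn hF.map_mul)).map S.subtype with hY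
  have hle : F.hyperfocalSubgroup p ≤ Y := by
    refine hyp_le fun P hP α hα hc x hx => ?_
    obtain ⟨β, hβ, e⟩ := hF.push_aut hP hα
    have hn : ∀ (n : ℕ), ∀ z ∈ P, autFun (β ^ n) (θ z) = θ (autFun (α ^ n) z) := by
      intro n
      induction n with
      | zero =>
        intro z hz
        rw [pow_zero, pow_zero, autFun_one hz, autFun_one (mem_imgT_of_mem θ hz)]
      | succ n ih =>
        intro z hz
        rw [pow_succ, pow_succ, autFun_mul _ _ (mem_imgT_of_mem θ hz), autFun_mul _ _ hz, e z hz,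
          ih _ (autFun_mem α hz)]
    have hβc : (orderOf β).Coprime p := by
      refine Nat.Coprime.coprime_dvd_left (orderOf_dvd_of_pow_eq_one ?_) hc
      refine autFun_inj fun y hy => ?_
      obtain ⟨z, hz, rfl⟩ := (mem_imgT_iff hF.map_mul hP).mp hy
      rw [hn _ z hz, pow_orderOf_eq_one, autFun_one hz, autFun_one (mem_imgT_of_mem θ hz)]
    have h1 := hyp_gen (hF.le hP) hβ hβc (mem_imgT_of_mem θ hx)
    rw [e x hx, ← hF.map_inv (hP hx), ← hF.map_mul _ (S.inv_mem (hP hx)) _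
      (hP (autFun_mem α hx))] at h1
    exact ⟨⟨_, S.mul_mem (S.inv_mem (hP hx)) (hP (autFun_mem α hx))⟩, h1, rfl⟩
  intro y hy
  obtain ⟨x, hx, rfl⟩ := hF.surj hy
  obtain ⟨z, hz, rfl⟩ := (h.ge.trans hle) hx
  exact hz

/-- Simplicity is carried along isomorphisms. -/
theorem IsIso.isSimple (hF : IsIso F θ F') [Finite S] (hS : IsPGroup p S) (h : F.IsSimple p) :
    F'.IsSimple p := by
  obtain ⟨hFs, hne, hall⟩ := h
  have := hF.finite
  refine ⟨hF.isSaturated hS hFs, fun e => hne ?_, fun R N hN => ?_⟩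
  · refine (Subgroup.card_eq_one).mp ?_
    rw [← hF.card_eq, Subgroup.card_eq_one.mpr e]
  have hR := hN.1.2.2.2.1.1
  obtain ⟨N₀, hN₀⟩ := exists_isIso_sub (D := N) hF.symm hR
  rcases hall _ N₀ (hF.symm.normal hN₀ (hF.isPGroup hS) hN) with h1 | ⟨h1, h2⟩
  · left
    refine eq_bot_iff.mpr fun y hy => Subgroup.mem_bot.mpr ?_
    have := mem_imgT_of_mem (isoInv S θ) hy
    rw [h1, Subgroup.mem_bot] at this
    rw [← hF.inv_right (hR hy), this, hF.map_one]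
  · refine Or.inr ?_
    have hRS : R = S' := hF.symm.imgT_inj hR le_rfl (h1.trans hF.symm.range.symm)
    refine ⟨hRS, fun P => hom_eq_iff.mpr (fun f => ⟨le_iff_isMor.mp hN.1.2.2.1 P f, fun hf' => ?_⟩)⟩
    have hP : P ≤ S' := hf'.le
    obtain ⟨f, hf, e⟩ := hF.symm.push P _ hf'
    rw [← mem_hom_iff_of_eq h2] at hf
    obtain ⟨g, hg, eg⟩ := hN₀.pull P (hRS ▸ hP) _ hf
    refine hg.congr fun y hy => hF.symm.inj (hR (hg.mem hy)) (hf'.mem hy) ?_
    rw [← eg y hy, e y hy]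
where
  mem_hom_iff_of_eq {A B : Subgroup Ω} {X : FusionSystem A} {Y : FusionSystem B}
      (h : ∀ P, X.Hom P = Y.Hom P) {P : Subgroup Ω} {f : Ω → Ω} : IsMor X P f ↔ IsMor Y P f :=
    hom_eq_iff.mp (h P) f

/-- Quasisimplicity is carried along isomorphisms. -/
theorem IsIso.quasisimple (hF : IsIso F θ F') [Finite S] (hS : IsPGroup p S)
    (h : F.Quasisimple p) : F'.Quasisimple p := by
  obtain ⟨hFs, hhyp, hall⟩ := h
  have := hF.finite
  refine ⟨hF.isSaturated hS hFs, hF.hyperfocal hhyp, fun E₁ hE₁ => ?_⟩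
  set q := QuotientGroup.mk' (F.center.subgroupOf S) with hq
  set q' := QuotientGroup.mk' (F'.center.subgroupOf S') with hq'
  have hZ : F.StronglyClosed F.center :=
    isNormal_stronglyClosed (isNormal_of_isCentral (isCentral_center F))
  have hZ' : F'.StronglyClosed F'.center :=
    isNormal_stronglyClosed (isNormal_of_isCentral (isCentral_center F'))
  have hker : ∀ s : S, q s = 1 ↔ (s : Ω) ∈ F.center := fun s =>
    (QuotientGroup.eq_one_iff s).trans Subgroup.mem_subgroupOf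
  have hker' : ∀ s : S', q' s = 1 ↔ (s : Ω') ∈ F'.center := fun s =>
    (QuotientGroup.eq_one_iff s).trans Subgroup.mem_subgroupOf
  have hsurj := QuotientGroup.mk'_surjective (F.center.subgroupOf S)
  obtain ⟨E₀, hE₀⟩ := exists_factorSystem hZ hker (MonoidHom.range_eq_top.mpr hsurj)
  let φ : S →* S' := (homOn hF.map_mul).codRestrict S' fun x => hF.mem x.2
  have hzz : ∀ s : S, (φ s : Ω') ∈ F'.center ↔ (s : Ω) ∈ F.center := fun s => by
    rw [← hF.center]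
    exact hF.mem_iff (isCentral_center F).1 s.2
  have hzle : F.center.subgroupOf S ≤ (q'.comp φ).ker := fun s hs =>
    (hker' _).mpr ((hzz s).mpr hs)
  let Φ : (S ⧸ F.center.subgroupOf S) →* (S' ⧸ F'.center.subgroupOf S') :=
    QuotientGroup.lift _ (q'.comp φ) hzle
  have hΦq : ∀ s : S, Φ (q s) = q' (φ s) := fun s => rfl
  have hΦi : Function.Injective Φ := (injective_iff_map_eq_one Φ).mpr fun a ha => by
    obtain ⟨s, rfl⟩ := hsurj a
    exact (hker s).mpr ((hzz s).mp ((hker' _).mp ha))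
  have hΦs : ∀ b, ∃ a, Φ a = b := fun b => by
    obtain ⟨s', rfl⟩ := QuotientGroup.mk'_surjective _ b
    obtain ⟨x, hx, e⟩ := hF.surj s'.2
    exact ⟨q ⟨x, hx⟩, (hΦq _).trans (congrArg q' (Subtype.ext e))⟩
  have hmul : ∀ x ∈ (⊤ : Subgroup (S ⧸ F.center.subgroupOf S)), ∀ y ∈ (⊤ : Subgroup _),
      Φ (x * y) = Φ x * Φ y := fun x _ y _ => _root_.map_mul Φ x y
  have hpre : ∀ P : Subgroup (S ⧸ F.center.subgroupOf S),
      preimageAlong q' (imgT P ⇑Φ) = imgT (preimageAlong q P) θ := by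
    intro P
    refine le_antisymm (fun y hy => ?_) (imgT_le fun x hx => ?_)
    · obtain ⟨hyS, hyP⟩ := mem_preimageAlong.mp hy
      obtain ⟨a, ha, e⟩ := (mem_imgT_iff hmul le_top).mp hyP
      obtain ⟨x, hx, rfl⟩ := hF.surj hyS
      refine mem_imgT_of_mem θ (mem_preimageAlong.mpr ⟨hx, ?_⟩)
      have : q ⟨x, hx⟩ = a := hΦi ((hΦq _).trans e.symm)
      exact this ▸ ha
    · obtain ⟨hxS, hxP⟩ := mem_preimageAlong.mp hx
      exact mem_preimageAlong.mpr ⟨hF.mem hxS, hΦq ⟨x, hxS⟩ ▸ mem_imgT_of_mem (⇑Φ) hxP⟩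
  have hiso : IsIso E₀ (⇑Φ) E₁ := by
    refine ⟨hmul, hΦi.injOn, top_le_iff.mp fun b _ => ?_, fun P f hf => ?_, fun P _ f₁ hf₁ => ?_⟩
    · obtain ⟨a, rfl⟩ := hΦs b
      exact mem_imgT_of_mem (⇑Φ) (Subgroup.mem_top a)
    · obtain ⟨g, hg, eg⟩ := factor_lift hE₀ hf
      obtain ⟨g', hg', eg'⟩ := hF.push _ g hg
      obtain ⟨f', hf', ef'⟩ := factor_push hE₁ hZ' le_top ((hpre P).symm ▸ hg')
      refine ⟨f', hf', fun a ha => ?_⟩
      obtain ⟨s, rfl⟩ := hsurj a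
      have hsm : (s : Ω) ∈ preimageAlong q P := mem_preimageAlong.mpr ⟨s.2, ha⟩
      have h1 := eg' s hsm
      rw [eg s (hg.mem hsm) ha, hΦq, hΦq,
        ef' (φ s) (h1.symm ▸ hF.mem (hg.mem hsm)) (hΦq s ▸ mem_imgT_of_mem (⇑Φ) ha)]
      exact congrArg q' (Subtype.ext h1)
    · obtain ⟨g', hg', eg'⟩ := factor_lift hE₁ hf₁
      rw [hpre P] at hg'
      obtain ⟨g, hg, eg⟩ := hF.pull _ (preimageAlong_le P) g' hg'
      obtain ⟨f, hf, ef⟩ := factor_push hE₀ hZ le_top hg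
      refine ⟨f, hf, fun a ha => ?_⟩
      obtain ⟨s, rfl⟩ := hsurj a
      have hsm : (s : Ω) ∈ preimageAlong q P := mem_preimageAlong.mpr ⟨s.2, ha⟩
      have h1 := eg s hsm
      rw [ef s (hg.mem hsm) ha, hΦq, hΦq,
        eg' (φ s) (h1.symm ▸ hF.mem (hg.mem hsm)) (hΦq s ▸ mem_imgT_of_mem (⇑Φ) ha)]
      exact congrArg q' (Subtype.ext h1)
  exact hiso.isSimple ((hS.to_quotient (F.center.subgroupOf S)).to_subgroup ⊤) (hall E₀ hE₀)

end CfsgLib.Fusion
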