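import Mathlib
import Cfsg.Agent.Lib.Fusion.AltClosed
import Cfsg.Agent.Lib.Fusion.GroupIso

/-! The fusion systems of `A_n` are simple for `p² ≤ n` and `n ≡ 0, 1 (mod p)`. -/

set_option autoImplicit false

open Equiv Equiv.Perm

namespace CfsgLib.Fusion

open Cfsg Cfsg.FusionSystem

section Generic

variable {G : Type*} [Group G] [Finite G] {S : Subgroup G}

theorem centric_of_centralizer_le {X : Subgroup G} (hX : X ≤ S)
    (h : Subgroup.centralizer (X : Set G) ≤ X) : (groupFusionSystem S).IsCentric X := by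
  refine ⟨hX, fun Q hQ c hc => ?_⟩
  obtain ⟨f, hf, rfl⟩ := isConj_iff.mp hQ
  obtain ⟨-, -, g, hg⟩ := isMor_group.mp hf
  obtain ⟨-, hcc⟩ := mem_centralizerIn.mp hc
  have h1 : g⁻¹ * c * g ∈ X := h (Subgroup.mem_centralizer_iff.mpr fun x hx => by
    have h2 := cj_fixed_iff.mp (hcc (f x) (mem_img_of_mem f hx))
    rw [hg x hx] at h2
    have h3 := congrArg (fun t => g⁻¹ * t * g) h2
    simpa [cj, mul_assoc] using h3.symm)
  have h4 := mem_img_of_mem f h1
  rwa [hg _ h1, show cj g (g⁻¹ * c * g) = c by simp [cj, mul_assoc]] at h4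

/-- The elements of a normalizer that act inside a subsystem. -/
def autoSub (E : FusionSystem S) (X : Subgroup G) (hX : X ≤ S) : Subgroup G where
  carrier := {g | g ∈ Subgroup.normalizer (X : Set G) ∧ IsMor E X (cj g)}
  one_mem' := ⟨one_mem _, (isMor_id E hX).congr fun x _ => (cj_one x).symm⟩
  mul_mem' := by
    rintro g h ⟨hg, hgE⟩ ⟨hh, hhE⟩
    exact ⟨Subgroup.mul_mem _ hg hh, (hhE.comp hgE fun x hx =>
      (Subgroup.mem_normalizer_iff.mp hh x).mp hx).congr fun x _ => (cj_mul g h x).symm⟩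
  inv_mem' := by
    rintro g ⟨hg, hgE⟩
    obtain ⟨k, hk, hkl, -, -⟩ := hgE.inverse
    rw [img_cj_of_normalizer hg] at hk
    refine ⟨Subgroup.inv_mem _ hg, hk.congr fun x hx => ?_⟩
    have := hkl (cj g⁻¹ x) ((Subgroup.mem_normalizer_iff.mp (Subgroup.inv_mem _ hg) x).mp hx)
    rwa [cj_cj_inv] at this

end Generic

namespace AltModel

open CfsgLib.BlockApps.SylowSymGen

variable {p : ℕ} [Fact p.Prime] {m r : ℕ}

local notation "𝔸" => alternatingGroup (Pt m p r)

theorem range_prod_units (emb : ZMod p ↪ Fin m) (c : (ZMod p)ˣ) [DecidablePred (· ∈ Set.range emb)] :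
    ∏ i, (if i ∈ Set.range emb then c else 1) = c := by
  classical
  rw [Finset.prod_ite, Finset.prod_const_one, mul_one, Finset.prod_const]
  have h : (Finset.univ.filter fun i => i ∈ Set.range emb) = Finset.univ.image emb := by
    ext i; simp
  rw [h, Finset.card_image_of_injective _ emb.injective, Finset.card_univ, ZMod.card]
  exact Units.ext (by rw [Units.val_pow_eq_pow_val, ZMod.pow_card])

/-- The sign of a multiplication as a homomorphism. -/
def mulSign (p : ℕ) [Fact p.Prime] : (ZMod p)ˣ →* ℤˣ where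
  toFun c := sign (Units.mulLeft c)
  map_one' := by
    rw [show Units.mulLeft (1 : (ZMod p)ˣ) = (1 : Perm (ZMod p)) from Equiv.ext fun a => one_mul a,
      map_one]
  map_mul' a b := by
    rw [← map_mul]
    congr 1
    exact Equiv.ext fun x => mul_assoc _ _ _

theorem sign_scale' (u : Fin m → (ZMod p)ˣ) : sign (scale m r u) = mulSign p (∏ i, u i) := by
  rw [sign_scale, map_prod]
  rfl

theorem linP_transvection_pow (emb : ZMod p ↪ Fin m) {i j : Fin 2} (h : i ≠ j) (c : ZMod p) :
    linP emb r (Matrix.SpecialLinearGroup.transvection h c) ^ p = 1 := by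
  rw [← map_pow]
  convert map_one (linP emb r)
  apply Subtype.ext
  rw [Matrix.SpecialLinearGroup.coe_pow, Matrix.SpecialLinearGroup.coe_one]
  have hn : ∀ n : ℕ, (Matrix.transvection i j c : Matrix (Fin 2) (Fin 2) (ZMod p)) ^ n =
      Matrix.transvection i j (n • c) := fun n => by
    induction n with
    | zero => rw [pow_zero, zero_smul, Matrix.transvection_zero]
    | succ n ih => rw [pow_succ, ih, Matrix.transvection_mul_transvection_same _ _ h, succ_nsmul]
  show (Matrix.transvection i j c : Matrix (Fin 2) (Fin 2) (ZMod p)) ^ p = 1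
  rw [hn, show p • c = 0 by simp, Matrix.transvection_zero]

theorem linP_even (hp : p ≠ 2) (emb : ZMod p ↪ Fin m)
    (g : Matrix.SpecialLinearGroup (Fin 2) (ZMod p)) : linP emb r g ∈ 𝔸 := by
  have h : Matrix.SpecialLinearGroup (Fin 2) (ZMod p) = _ := rfl
  have h1 : (sign.comp (linP emb r)) = 1 := CfsgLib.Classical.hom_ext_transvection fun i j hij c => by
    rw [MonoidHom.one_apply, MonoidHom.comp_apply]
    exact sign_eq_one_of_odd (odd_of_ne_two hp) (linP_transvection_pow emb hij c)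
  exact mem_alternatingGroup.mpr (DFunLike.congr_fun h1 g)

theorem bigR_le (hp : p ≠ 2) (emb : ZMod p ↪ Fin m) : bigR emb r ≤ 𝔸 := by
  refine sup_le ?_ ?_
  · rintro _ ⟨w, rfl⟩; exact mem_alternatingGroup.mpr (transl_sign emb w)
  · rintro _ ⟨f, rfl⟩
    exact mem_alternatingGroup.mpr (sign_eq_one_of_odd (odd_of_ne_two hp) (base_pow f))

/-- The plane translations and the translations of the other blocks. -/
noncomputable def bigB (emb : ZMod p ↪ Fin m) (r : ℕ) : Subgroup (Perm (Pt m p r)) :=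
  Subgroup.closure (Set.range (transl emb r) ∪
    {g | ∃ f : Multiplicative (Fin m → ZMod p), (∀ y, Multiplicative.toAdd f (emb y) = 0) ∧
      base m r f = g})

theorem bigB_le (emb : ZMod p ↪ Fin m) : bigB emb r ≤ bigR emb r := by
  refine (Subgroup.closure_le _).mpr ?_
  rintro g (⟨w, rfl⟩ | ⟨f, -, rfl⟩)
  · exact Subgroup.mem_sup_left ⟨w, rfl⟩
  · exact Subgroup.mem_sup_right ⟨f, rfl⟩

theorem linP_conj_bigB (emb : ZMod p ↪ Fin m) (g : Matrix.SpecialLinearGroup (Fin 2) (ZMod p)) :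
    ∀ x ∈ bigB emb r, linP emb r g * x * (linP emb r g)⁻¹ ∈ bigB emb r := by
  intro x hx
  induction hx using Subgroup.closure_induction with
  | mem x hx =>
    rcases hx with ⟨w, rfl⟩ | ⟨f, hf, rfl⟩
    · rw [linP_mul_transl]; exact Subgroup.subset_closure (Or.inl ⟨_, rfl⟩)
    · rw [linP_commute_outer emb g hf]; exact Subgroup.subset_closure (Or.inr ⟨f, hf, rfl⟩)
  | one => simp
  | mul a b _ _ ha hb =>
    rw [show linP emb r g * (a * b) * (linP emb r g)⁻¹ =
      linP emb r g * a * (linP emb r g)⁻¹ * (linP emb r g * b * (linP emb r g)⁻¹) by group]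
    exact Subgroup.mul_mem _ ha hb
  | inv a _ ha =>
    rw [show linP emb r g * a⁻¹ * (linP emb r g)⁻¹ = (linP emb r g * a * (linP emb r g)⁻¹)⁻¹ by group]
    exact Subgroup.inv_mem _ ha

theorem normalizer_mem {G : Type*} [Group G] [Finite G] {H : Subgroup G} {g : G}
    (h : ∀ x ∈ H, g * x * g⁻¹ ∈ H) : g ∈ Subgroup.normalizer (H : Set G) := by
  rw [Subgroup.mem_normalizer_iff_map_conj_eq]
  refine Subgroup.eq_of_le_of_card_ge (by rintro _ ⟨x, hx, rfl⟩; exact h x hx) ?_
  rw [← Nat.card_congr (H.equivMapOfInjective _ (MulAut.conj g).injective).toEquiv]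

theorem subgroupOf_normalizer_mem {H : Subgroup (Perm (Pt m p r))} {g : 𝔸}
    (h : ∀ x ∈ H, (g : Perm (Pt m p r)) * x * (g : Perm (Pt m p r))⁻¹ ∈ H) :
    g ∈ Subgroup.normalizer ((H.subgroupOf 𝔸 : Subgroup 𝔸) : Set 𝔸) :=
  normalizer_mem fun x hx => Subgroup.mem_subgroupOf.mpr (h x (Subgroup.mem_subgroupOf.mp hx))

theorem base_subgroupOf_centralizer (hp : p ≠ 2) (hr : r ≤ 1) :
    Subgroup.centralizer (((base (p := p) m r).range.subgroupOf 𝔸 : Subgroup 𝔸) : Set 𝔸) ≤
      (base (p := p) m r).range.subgroupOf 𝔸 := by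
  intro g hg
  obtain ⟨f, hf⟩ := exists_base_of_commute hr (g := (g : Perm (Pt m p r))) fun i => by
    exact congrArg Subtype.val (Subgroup.mem_centralizer_iff.mp hg ⟨_, unitCycle_even hp i⟩
      (Subgroup.mem_subgroupOf.mpr ⟨_, rfl⟩)).symm
  exact Subgroup.mem_subgroupOf.mpr ⟨f, hf.symm⟩

theorem bigB_subgroupOf_centralizer (hp : p ≠ 2) (hr : r ≤ 1) (emb : ZMod p ↪ Fin m) :
    Subgroup.centralizer (((bigB emb r).subgroupOf 𝔸 : Subgroup 𝔸) : Set 𝔸) ≤
      (bigB emb r).subgroupOf 𝔸 := by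
  classical
  intro g hg
  have key : ∀ x (hx : x ∈ bigB emb r), Commute (g : Perm (Pt m p r)) x := fun x hx =>
    congrArg Subtype.val (Subgroup.mem_centralizer_iff.mp hg ⟨x, bigR_le hp emb (bigB_le emb hx)⟩
      (Subgroup.mem_subgroupOf.mpr hx)).symm
  obtain ⟨w, f, hf, e⟩ := exists_of_commute_plane emb hr
    (fun w => key _ (Subgroup.subset_closure (Or.inl ⟨w, rfl⟩)))
    (fun i hi => key _ (Subgroup.subset_closure (Or.inr ⟨Multiplicative.ofAdd (Pi.single i 1),
      fun y => Pi.single_eq_of_ne (fun h => hi ⟨y, h⟩) _, rfl⟩)))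
  refine Subgroup.mem_subgroupOf.mpr (e ▸ Subgroup.mul_mem _ (Subgroup.subset_closure (Or.inl ⟨w, rfl⟩))
    (Subgroup.subset_closure (Or.inr ⟨f, hf, rfl⟩)))

/-- The Sylow normalizer acts inside every normal subsystem, for odd `p`. -/
theorem mem_normalizer_sylow (hp : p ≠ 2) (hpm : p ≤ m) (hr : r ≤ 1) (emb : ZMod p ↪ Fin m)
    (S : Sylow p 𝔸) (hR : (bigR emb r).subgroupOf 𝔸 ≤ (S : Subgroup 𝔸))
    (E : FusionSystem (S : Subgroup 𝔸)) (hEs : E.IsSaturated p)
    (hsub : E.IsSubsystemOf (groupFusionSystem (S : Subgroup 𝔸)))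
    (hpel : ∀ R : Subgroup 𝔸, (groupFusionSystem (S : Subgroup 𝔸)).IsCentric R →
      ∀ g ∈ Subgroup.normalizer (R : Set 𝔸), (∃ k : ℕ, g ^ p ^ k = 1) → IsMor E R (cj g))
    (g : 𝔸) (hg : g ∈ Subgroup.normalizer ((S : Subgroup 𝔸) : Set 𝔸)) :
    IsMor E (S : Subgroup 𝔸) (cj g) := by
  classical
  have hp3 : 3 ≤ p := by have := (Fact.out : p.Prime).two_le; omega
  set A := (base (p := p) m r).range.subgroupOf 𝔸 with hA
  set B := (bigB emb r).subgroupOf 𝔸 with hB
  set R := (bigR emb r).subgroupOf 𝔸 with hRdef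
  have hAR : A ≤ R := Subgroup.comap_mono le_sup_right
  have hBR : B ≤ R := Subgroup.comap_mono (bigB_le emb)
  have hAc := centric_of_centralizer_le (hAR.trans hR) (base_subgroupOf_centralizer hp hr)
  have hBc := centric_of_centralizer_le (hBR.trans hR) (bigB_subgroupOf_centralizer hp hr emb)
  set K := (autoSub E A (hAR.trans hR)).map (alternatingGroup (Pt m p r)).subtype with hK
  -- elements of `p`-power order
  have hP1 : ∀ x : Perm (Pt m p r), (∀ b ∈ (base (p := p) m r).range,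
      x * b * x⁻¹ ∈ (base (p := p) m r).range) → x ^ p = 1 → x ∈ K := by
    intro x hx hxp
    have hxA : x ∈ 𝔸 := mem_alternatingGroup.mpr (sign_eq_one_of_odd (odd_of_ne_two hp) hxp)
    refine ⟨⟨x, hxA⟩, ?_, rfl⟩
    have hn : (⟨x, hxA⟩ : 𝔸) ∈ Subgroup.normalizer (A : Set 𝔸) := subgroupOf_normalizer_mem hx
    exact ⟨hn, hpel A hAc _ hn ⟨1, Subtype.ext (by simpa using hxp)⟩⟩
  have hLn : ∀ (π : Perm (Fin m)), ∀ b ∈ (base (p := p) m r).range,
      lift m r π * b * (lift m r π)⁻¹ ∈ (base (p := p) m r).range := by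
    rintro π _ ⟨f, rfl⟩; rw [lift_mul_base]; exact ⟨_, rfl⟩
  have hDn : ∀ (u : Fin m → (ZMod p)ˣ), ∀ b ∈ (base (p := p) m r).range,
      scale m r u * b * (scale m r u)⁻¹ ∈ (base (p := p) m r).range := by
    rintro u _ ⟨f, rfl⟩; rw [scale_mul_base]; exact ⟨_, rfl⟩
  have hcomm : ∀ (y : Perm (Pt m p r)) (π : Perm (Fin m)), π ^ p = 1 →
      (∀ b ∈ (base (p := p) m r).range, y * b * y⁻¹ ∈ (base (p := p) m r).range) →
      (∀ b ∈ (base (p := p) m r).range, y⁻¹ * b * y ∈ (base (p := p) m r).range) →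
      y * lift m r π * y⁻¹ * (lift m r π)⁻¹ ∈ K := by
    intro y π hπ hy hy'
    have hLp : lift (p := p) m r π ^ p = 1 := by rw [← map_pow, hπ, map_one]
    refine Subgroup.mul_mem _ (hP1 _ (fun b hb => ?_) (by rw [conj_pow, hLp, mul_one, mul_inv_cancel]))
      (Subgroup.inv_mem _ (hP1 _ (hLn π) hLp))
    have := hy _ (hLn π _ (hy' b hb))
    simpa [mul_assoc] using this
  let σ : Perm (Fin m) := Equiv.Perm.viaEmbeddingHom emb (Equiv.addLeft (1 : ZMod p))
  have hσ : σ ^ p = 1 := by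
    rw [← map_pow]
    convert map_one (Equiv.Perm.viaEmbeddingHom emb)
    ext x
    simp
  have hσ' : ∀ y, σ (emb y) = emb (1 + y) := fun y => Equiv.Perm.viaEmbedding_apply _ _ _
  -- moving scalars between blocks
  have hD : ∀ (i j : Fin m) (x : (ZMod p)ˣ), i ≠ j →
      scale m r (Pi.mulSingle i x * Pi.mulSingle j x⁻¹) ∈ K := by
    intro i j x hij
    obtain ⟨q, hqi, hqj⟩ : ∃ q : Perm (Fin m), q (emb 0) = i ∧ q (emb 1) = j := by
      let q₁ := Equiv.swap (emb 0) i
      refine ⟨Equiv.swap (q₁ (emb 1)) j * q₁, ?_, by simp⟩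
      rw [Perm.mul_apply, show q₁ (emb 0) = i from Equiv.swap_apply_left _ _,
        Equiv.swap_apply_of_ne_of_ne (fun h => ?_) hij]
      have h2 : q₁ (emb 0) = q₁ (emb 1) := (Equiv.swap_apply_left _ _).trans h
      exact zero_ne_one (emb.injective (q₁.injective h2))
    let π := q * σ * q⁻¹
    have hπi : π i = j := by
      rw [← hqi]
      show q (σ (q⁻¹ (q (emb 0)))) = j
      rw [show q⁻¹ (q (emb 0)) = emb 0 from q.symm_apply_apply _, hσ', add_zero, hqj]
    have h1 := hcomm (scale m r (Pi.mulSingle i x)) π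
      (by rw [conj_pow, hσ, mul_one, mul_inv_cancel]) (hDn _) (fun b hb => by
        have := hDn (Pi.mulSingle i x)⁻¹ b hb
        rwa [map_inv, inv_inv] at this)
    convert h1 using 1
    rw [mul_assoc (scale m r (Pi.mulSingle i x)), mul_assoc (scale m r (Pi.mulSingle i x)),
      ← map_inv (scale m r), lift_mul_scale, ← map_mul]
    congr 1
    funext k
    simp only [Pi.mul_apply, Pi.inv_apply]
    by_cases hk : k = j
    · subst hk
      rw [show π⁻¹ k = i from by rw [Perm.inv_eq_iff_eq]; exact hπi.symm]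
      simp [hij.symm]
    · have hk' : π⁻¹ k ≠ i := fun e => hk (by rw [← hπi, ← e]; simp)
      rw [Pi.mulSingle_eq_of_ne hk', inv_one, mul_one, Pi.mulSingle_eq_of_ne hk, mul_one]
  -- even permutations of the blocks
  have hL : ∀ π : Perm (Fin m), sign π = 1 → lift m r π ∈ K := by
    intro π hπ
    let L := K.comap (lift (p := p) m r)
    suffices h : alternatingGroup (Fin m) ≤ L from h (mem_alternatingGroup.mpr hπ)
    rw [← closure_three_cycles_eq_alternating, Subgroup.closure_le]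
    intro t ht
    have h12 : (1 : ZMod p) ≠ 1 + 1 := fun e => one_ne_zero (add_eq_left.mp e.symm)
    have h02 : (0 : ZMod p) ≠ 1 + 1 := fun e => by
      have : p ∣ 2 := (ZMod.natCast_eq_zero_iff 2 p).mp (by rw [Nat.cast_ofNat, ← one_add_one_eq_two]; exact e.symm)
      exact hp ((Nat.prime_dvd_prime_iff_eq Fact.out Nat.prime_two).mp this)
    let t₀ : Perm (Fin m) := Equiv.swap (emb 1) (emb 0) * Equiv.swap (emb 1) (emb (1 + 1))
    have ht₀ : IsThreeCycle t₀ := isThreeCycle_swap_mul_swap_same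
      (emb.injective.ne one_ne_zero) (emb.injective.ne h12) (emb.injective.ne h02)
    obtain ⟨q, hq⟩ := _root_.isConj_iff.mp (isConj_iff_cycleType_eq.mpr (ht₀.trans ht.symm))
    let s := q * Equiv.swap (emb 0) (emb 1) * q⁻¹
    let π₁ := q * σ * q⁻¹
    have h1 := hcomm (lift m r s) π₁ (by rw [conj_pow, hσ, mul_one, mul_inv_cancel]) (hLn s)
      (fun b hb => by
        have := hLn s⁻¹ b hb
        rwa [map_inv, inv_inv] at this)
    rw [← map_inv, ← map_inv, ← map_mul, ← map_mul, ← map_mul] at h1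
    show lift m r t ∈ K
    convert h1 using 2
    rw [← hq, show s * π₁ * s⁻¹ * π₁⁻¹ = q * (Equiv.swap (emb 0) (emb 1) *
      (σ * (Equiv.swap (emb 0) (emb 1))⁻¹ * σ⁻¹)) * q⁻¹ by simp only [s, π₁]; group]
    congr 2
    rw [Equiv.swap_inv, ← Equiv.swap_apply_apply, hσ', hσ', add_zero]
    simp only [t₀]
    rw [Equiv.swap_comm (emb 1) (emb 0)]
  have hDone : ∀ u : Fin m → (ZMod p)ˣ, ∏ i, u i = 1 → scale m r u ∈ K := by
    intro u hu
    let i₀ : Fin m := emb 0
    have e : u = ∏ i, (Pi.mulSingle i (u i) * Pi.mulSingle i₀ (u i)⁻¹) := by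
      rw [Finset.prod_mul_distrib, Finset.univ_prod_mulSingle]
      rw [show (∏ i, Pi.mulSingle i₀ (u i)⁻¹ : Fin m → (ZMod p)ˣ) =
        Pi.mulSingle i₀ (∏ i, (u i)⁻¹) from (map_prod (MonoidHom.mulSingle (fun _ => (ZMod p)ˣ) i₀) _ _).symm,
        Finset.prod_inv_distrib, hu, inv_one, Pi.mulSingle_one, mul_one]
    rw [e]
    refine (Subgroup.mem_comap (f := scale m r) (K := K)).mp (Subgroup.prod_mem _ fun i _ => ?_)
    by_cases hi : i = i₀
    · rw [hi, ← Pi.mulSingle_mul, mul_inv_cancel, Pi.mulSingle_one]; exact one_mem _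
    · exact Subgroup.mem_comap.mpr (hD i i₀ (u i) hi)
  -- the diagonal element
  have hdiag : ∀ c : (ZMod p)ˣ, linP emb r (diagSL c) ∈ K := by
    intro c
    let Ψ : Matrix.SpecialLinearGroup (Fin 2) (ZMod p) →* 𝔸 :=
      (linP emb r).codRestrict _ (linP_even hp emb)
    have hΨ : ∀ x, Ψ x ∈ Subgroup.normalizer (B : Set 𝔸) := fun x =>
      subgroupOf_normalizer_mem (linP_conj_bigB emb x)
    have htop : (autoSub E B (hBR.trans hR)).comap Ψ = ⊤ :=
      CfsgLib.Classical.eq_top_of_transvection_mem _ fun i j hij c => ⟨hΨ _, hpel B hBc _ (hΨ _)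
        ⟨1, Subtype.ext (by
          rw [pow_one]
          exact linP_transvection_pow emb hij c)⟩⟩
    have h1 : IsMor E B (cj (Ψ (diagSL c))) := (htop.ge (Subgroup.mem_top (diagSL c))).2
    have hnA : ∀ b ∈ (base (p := p) m r).range,
        linP emb r (diagSL c) * b * (linP emb r (diagSL c))⁻¹ ∈ (base (p := p) m r).range := by
      intro b hb
      rw [linP_diag]
      have := hLn (Equiv.Perm.viaEmbedding (Units.mulLeft c⁻¹) emb) _
        (hDn (fun i => if i ∈ Set.range emb then c else 1) b hb)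
      simpa [mul_assoc] using this
    have hnR : Ψ (diagSL c) ∈ Subgroup.normalizer (R : Set 𝔸) := subgroupOf_normalizer_mem (by
      intro x hx
      have hle : bigR emb r ≤ (bigR emb r).comap (MulAut.conj (linP emb r (diagSL c))).toMonoidHom := by
        refine sup_le ?_ fun b hb => Subgroup.mem_sup_right (hnA b hb)
        rintro _ ⟨w, rfl⟩
        show linP emb r (diagSL c) * transl emb r w * (linP emb r (diagSL c))⁻¹ ∈ bigR emb r
        rw [linP_mul_transl]
        exact Subgroup.mem_sup_left ⟨_, rfl⟩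
      exact hle hx)
    have h2 := isMor_climb S hEs hsub hBc hBR hR (hΨ _) hnR h1
    exact ⟨Ψ (diagSL c), ⟨subgroupOf_normalizer_mem hnA, h2.restrict hAR⟩, rfl⟩
  -- the normalizer of `S` normalises the translations
  have hgA : ∀ b ∈ (base (p := p) m r).range,
      (g : Perm (Pt m p r)) * b * (g : Perm (Pt m p r))⁻¹ ∈ (base (p := p) m r).range := by
    have hunit : ∀ i, (⟨_, unitCycle_even hp i⟩ : 𝔸) ∈ (S : Subgroup 𝔸) := fun i =>
      hR (hAR (Subgroup.mem_subgroupOf.mpr ⟨_, rfl⟩))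
    intro b hb
    refine base_range_le (H := (base (p := p) m r).range.comap
      (MulAut.conj (g : Perm (Pt m p r))).toMonoidHom) (fun i => ?_) hb
    obtain ⟨f, hf⟩ := exists_base_of_commute hr
      (g := (g : Perm (Pt m p r)) * unitCycle m r i * (g : Perm (Pt m p r))⁻¹) fun j => by
        refine commute_of_cycles (p := p) (S.2.map (alternatingGroup (Pt m p r)).subtype) ?_
          ⟨_, hunit j, rfl⟩ ?_ (base_pow _) ?_ (unitCycle_support j)
        · exact ⟨_, (Subgroup.mem_normalizer_iff.mp hg _).mp (hunit i), rfl⟩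
        · rw [conj_pow, unitCycle, base_pow, mul_one, mul_inv_cancel]
        · rw [card_support_conj, unitCycle_support]
    exact ⟨f, hf.symm⟩
  obtain ⟨π, u, f, hgd⟩ := exists_of_normalize hr fun i => hgA _ ⟨_, rfl⟩
  set lam := ∏ i, u i with hlam
  set v : Fin m → (ZMod p)ˣ := fun i => if i ∈ Set.range emb then lam else 1 with hv
  set μ : Perm (Fin m) := Equiv.Perm.viaEmbedding (Units.mulLeft lam⁻¹) emb
  have hvprod : ∏ i, v i = lam := range_prod_units emb lam
  have hgK : (g : Perm (Pt m p r)) ∈ K := by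
    have hbK : base m r f ∈ K := hP1 _ (fun b hb => Subgroup.mul_mem _ (Subgroup.mul_mem _ ⟨f, rfl⟩ hb)
      (Subgroup.inv_mem _ ⟨f, rfl⟩)) (base_pow f)
    rw [hgd]
    refine Subgroup.mul_mem _ ?_ hbK
    have h1 := hdiag lam
    rw [linP_diag] at h1
    have e : lift m r π * scale m r u = lift m r (π * μ⁻¹) *
        scale m r (fun i => (u * v⁻¹) (μ⁻¹ i)) * (lift m r μ * scale m r v) := by
      rw [← lift_mul_scale μ (u * v⁻¹), map_mul (lift (p := p) m r), map_inv, map_mul (scale m r),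
        map_inv]
      group
    rw [e]
    refine Subgroup.mul_mem _ (Subgroup.mul_mem _ (hL _ ?_) (hDone _ ?_)) h1
    · have hs1 : sign (lift (p := p) m r π * scale m r u) = 1 := by
        have := mem_alternatingGroup.mp g.2
        rw [hgd, map_mul, sign_eq_one_of_odd (odd_of_ne_two hp) (base_pow f), mul_one] at this
        exact this
      have hs2 : sign (lift (p := p) m r μ * scale m r v) = 1 := by
        rw [← linP_diag]; exact mem_alternatingGroup.mp (linP_even hp emb _)
      have hpow : ∀ x : ℤˣ, x ^ p = x := fun x => by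
        rcases Int.units_eq_one_or x with h | h
        · rw [h, one_pow]
        · rw [h, (odd_of_ne_two hp).neg_one_pow]
      rw [map_mul, sign_lift', sign_scale', hpow] at hs1 hs2
      rw [hvprod] at hs2
      rw [map_mul, map_inv, mul_inv_eq_one]
      exact mul_right_cancel (hs1.trans hs2.symm)
    · rw [Equiv.prod_comp μ⁻¹ (u * v⁻¹)]
      simp only [Pi.mul_apply, Pi.inv_apply]
      rw [Finset.prod_mul_distrib, Finset.prod_inv_distrib, hvprod, mul_inv_cancel]
  obtain ⟨g', hg', hgg⟩ := hgK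
  rw [show g' = g from Subtype.ext hgg] at hg'
  exact isMor_climb S hEs hsub hAc (hAR.trans hR) le_rfl hg'.1 hg hg'.2

/-- The fusion system of the alternating group on the blocks is simple. -/
theorem isSimple_model (hpm : p ≤ m) (hm : 3 ≤ m) (hr : r ≤ 1) :
    ∃ S : Sylow p 𝔸, (groupFusionSystem (S : Subgroup 𝔸)).IsSimple p := by
  obtain ⟨emb⟩ := exists_emb (p := p) hpm
  obtain ⟨S, hS⟩ := IsPGroup.exists_le_sylow
    ((bigR_isPGroup (r := r) emb).comap_of_injective (alternatingGroup (Pt m p r)).subtype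
      (Subgroup.subtype_injective _))
  refine ⟨S, groupFusion_isSimple_of_climb S (fun hbot => ?_)
    (fun T hT hne => closed_eq hm hr emb S hS hT hne) fun E hEs hsub _ hpel g hg => ?_⟩
  · have hw : transl emb r (Multiplicative.ofAdd ![1, 0]) ∈ 𝔸 := mem_alternatingGroup.mpr (transl_sign emb _)
    have h1 : (⟨_, hw⟩ : 𝔸) ∈ (S : Subgroup 𝔸) :=
      hS (Subgroup.mem_subgroupOf.mpr (Subgroup.mem_sup_left ⟨_, rfl⟩))
    rw [hbot, Subgroup.mem_bot] at h1
    have h2 := congrArg (fun σ : 𝔸 => (σ : Perm (Pt m p r)) (plane emb r 0)) h1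
    simp only [transl_plane, toAdd_ofAdd, add_zero, Subgroup.coe_one, Perm.one_apply] at h2
    simpa using congrFun ((plane emb r).injective h2) 0
  by_cases hp : p = 2
  · subst hp
    have hn : 6 ≤ Fintype.card (Pt m 2 r) := by
      simp only [Fintype.card_sum, Fintype.card_prod, Fintype.card_fin, ZMod.card]
      omega
    let φ := Equiv.altCongrHom (Fintype.equivFin (Pt m 2 r))
    have h1 : φ g ∈ Subgroup.normalizer ((S.mapSurjective (f := φ.toMonoidHom) φ.surjective :
        Subgroup (alternatingGroup (Fin (Fintype.card (Pt m 2 r))))) : Set _) :=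
      Subgroup.le_normalizer_map _ (Subgroup.mem_map_of_mem _ hg)
    rw [CfsgLib.KnownA.SylowAlt.normalizer_sylow_alt _ hn] at h1
    obtain ⟨g', hg', e⟩ := h1
    exact isMor_cj E le_rfl (φ.injective e ▸ hg')
  · exact mem_normalizer_sylow hp hpm hr emb S hS E hEs hsub hpel g hg

/-- The fusion system of `A_n` is simple for `p² ≤ n` and `n ≡ 0, 1 (mod p)`. -/
theorem isSimple_alternating (n : ℕ) (hn : 6 ≤ n) (hnp : p ^ 2 ≤ n) (hb : n % p ≤ 1)
    (S : Sylow p (alternatingGroup (Fin n))) :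
    (groupFusionSystem (S : Subgroup (alternatingGroup (Fin n)))).IsSimple p := by
  have hp := (Fact.out : p.Prime)
  have hpm : p ≤ n / p := (Nat.le_div_iff_mul_le hp.pos).mpr (by rw [← sq]; exact hnp)
  have hm : 3 ≤ n / p := by
    rcases Nat.lt_or_ge 2 p with h | h
    · omega
    · have : p = 2 := le_antisymm h hp.two_le
      subst this
      omega
  obtain ⟨S₀, hS₀⟩ := isSimple_model (p := p) hpm hm hb
  let e : Pt (n / p) p (n % p) ≃ Fin n := Fintype.equivFinOfCardEq (by
    simp only [Fintype.card_sum, Fintype.card_prod, Fintype.card_fin, ZMod.card]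
    rw [mul_comm]; exact Nat.div_add_mod n p)
  exact groupFusion_isSimple_of_equiv (Equiv.altCongrHom e) S₀ S hS₀

end AltModel

end CfsgLib.Fusion
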