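import Mathlib
import Cfsg.Agent.Lib.LocalEven.WeakClosure
import Cfsg.Agent.Lib.Transfer.Alperin
import Cfsg.Agent.Lib.Fusion.SectionFree
import Cfsg.Agent.Lib.Fusion.SectionFreeFactor

/-! A normal `p`-complement from automizers of characteristic subgroups. -/
set_option autoImplicit false

universe u

namespace CfsgLib.Fusion

open Cfsg Equiv

variable {p : ℕ} [hp : Fact p.Prime] {G : Type*} [Group G]

/-- Invariant under all automorphisms of `P`. -/
def AutInvariant (P Q : Subgroup G) : Prop :=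
  ∀ φ : MulAut P, ∀ x : P, (x : G) ∈ Q → ((φ x : P) : G) ∈ Q

/-- Elements of order prime to `p` normalizing a subgroup centralize it. -/
def AutPGroup (p : ℕ) (Q : Subgroup G) : Prop :=
  ∀ g ∈ Subgroup.normalizer (Q : Set G), Nat.Coprime (orderOf g) p → g ∈ Subgroup.centralizer (Q : Set G)

theorem autInvariant_iff {P Q : Subgroup G} :
    AutInvariant P Q ↔ (Q.subgroupOf P).Characteristic := by
  rw [Subgroup.characteristic_iff_le_comap]
  exact ⟨fun h φ x hx => h φ x hx, fun h φ x hx => h φ hx⟩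

/-- An element of order prime to `p` moving a `p`-element by a fixed `p`-element fixes it. -/
theorem conj_eq_self_of_coprime {g r z : G} (hg : Nat.Coprime (orderOf g) p)
    (h : g * r * g⁻¹ = z * r) (hz : g * z * g⁻¹ = z) (hzp : ∃ k, z ^ p ^ k = 1) :
    g * r * g⁻¹ = r := by
  have key : ∀ n : ℕ, g ^ n * r * (g ^ n)⁻¹ = z ^ n * r := by
    intro n
    induction n with
    | zero => simp
    | succ n ih =>
      calc g ^ (n + 1) * r * (g ^ (n + 1))⁻¹ = g * (g ^ n * r * (g ^ n)⁻¹) * g⁻¹ := by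
            rw [pow_succ']; group
        _ = (g * z ^ n * g⁻¹) * (g * r * g⁻¹) := by rw [ih]; group
        _ = z ^ (n + 1) * r := by rw [← conj_pow, hz, h, pow_succ, mul_assoc]
  have h1 : z ^ orderOf g = 1 := by
    have h0 := key (orderOf g)
    rw [pow_orderOf_eq_one, one_mul, inv_one, mul_one] at h0
    exact mul_eq_right.mp h0.symm
  obtain ⟨k, hk⟩ := hzp
  have h2 := Nat.dvd_gcd (orderOf_dvd_of_pow_eq_one h1) (orderOf_dvd_of_pow_eq_one hk)
  rw [(hg.pow_right k).gcd_eq_one, Nat.dvd_one, orderOf_eq_one_iff] at h2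
  rw [h, h2, one_mul]

omit hp in
theorem autInvariant_center (P : Subgroup G) :
    AutInvariant P (P ⊓ Subgroup.centralizer (P : Set G)) := by
  intro φ x hx
  refine ⟨(φ x).2, fun y hy => ?_⟩
  have h1 : φ.symm ⟨y, hy⟩ * x = x * φ.symm ⟨y, hy⟩ :=
    Subtype.ext ((Subgroup.mem_inf.mp hx).2 _ (φ.symm ⟨y, hy⟩).2)
  have h2 := congrArg φ h1
  rw [map_mul, map_mul, MulEquiv.apply_symm_apply] at h2
  exact congrArg Subtype.val h2

theorem inf_centralizer_jAb_le [Finite G] (P : Subgroup G) :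
    P ⊓ Subgroup.centralizer (LocalEven.jAb P : Set G) ≤ LocalEven.jAb P := by
  intro x hx
  obtain ⟨A, hA⟩ := LocalEven.maxAb_nonempty P
  obtain ⟨hAP, hc, hmax⟩ := LocalEven.mem_maxAb.1 hA
  have hxA : Subgroup.zpowers x ≤ Subgroup.centralizer (A : Set G) :=
    Subgroup.zpowers_le.mpr fun a ha => hx.2 a (LocalEven.le_jAb hA ha)
  have hB := LocalEven.isMulCommutative_sup
    (show IsMulCommutative (Subgroup.zpowers x) from inferInstance) hc hxA
  have h1 := hmax _ (sup_le (Subgroup.zpowers_le.mpr hx.1) hAP) hB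
  have h2 := Subgroup.eq_of_le_of_card_ge (le_sup_right : A ≤ Subgroup.zpowers x ⊔ A) h1
  exact LocalEven.le_jAb hA (h2.ge (Subgroup.mem_sup_left (Subgroup.mem_zpowers x)))

theorem complement_normalizer_jAb [Finite G] (P : Sylow p G)
    (hA : AutPGroup p (LocalEven.jAb (P : Subgroup G))) :
    HasNormalPComplement p ↥(Subgroup.normalizer (LocalEven.jAb (P : Subgroup G) : Set G)) := by
  set J := LocalEven.jAb (P : Subgroup G)
  have hPN : (P : Subgroup G) ≤ Subgroup.normalizer (J : Set G) :=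
    Subgroup.le_normalizer.trans (LocalEven.normalizer_le_normalizer_jAb _)
  refine (Transfer.hasNormalPComplement_iff_forall_centralizing (P.subtype hPN)).mpr
    fun R hR g hg hgp r hr => ?_
  have hgJ : (g : G) ∈ Subgroup.centralizer (J : Set G) :=
    hA g g.2 (by rwa [Subgroup.orderOf_coe])
  have hrP : (r : G) ∈ (P : Subgroup G) := hR hr
  have hgrP : ((g * r * g⁻¹ : ↥(Subgroup.normalizer (J : Set G))) : G) ∈ (P : Subgroup G) :=
    hR ((Subgroup.mem_normalizer_iff.mp hg r).mp hr)
  set z := (g : G) * r * (g : G)⁻¹ * (r : G)⁻¹ with hz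
  have hzC : z ∈ Subgroup.centralizer (J : Set G) := by
    have h1 : (r : G) * (g : G)⁻¹ * (r : G)⁻¹ ∈ Subgroup.centralizer (J : Set G) := fun j hj => by
      have h2 := (Subgroup.centralizer (J : Set G)).inv_mem hgJ _
        ((Subgroup.mem_normalizer_iff''.mp r.2 j).mp hj)
      calc j * ((r : G) * (g : G)⁻¹ * (r : G)⁻¹)
          = r * ((r : G)⁻¹ * j * r * (g : G)⁻¹) * (r : G)⁻¹ := by group
        _ = r * (g : G)⁻¹ * (r : G)⁻¹ * j := by rw [h2]; group
    simpa [hz, mul_assoc] using (Subgroup.centralizer (J : Set G)).mul_mem hgJ h1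
  have hzP : z ∈ (P : Subgroup G) :=
    (P : Subgroup G).mul_mem hgrP ((P : Subgroup G).inv_mem hrP)
  have hzJ : z ∈ J := inf_centralizer_jAb_le _ ⟨hzP, hzC⟩
  obtain ⟨k, hk⟩ := P.2 ⟨z, hzP⟩
  have h3 := conj_eq_self_of_coprime (r := (r : G)) (z := z) (g := (g : G))
    (by rwa [Subgroup.orderOf_coe]) (by rw [hz]; group)
    (by rw [← hgJ z hzJ, mul_inv_cancel_right]) ⟨k, congrArg Subtype.val hk⟩
  apply Subtype.ext
  show (r : G) * g = g * r
  conv_lhs => rw [← h3]
  group

theorem complement_of_char_automizers : ∀ (n : ℕ) (G : Type u) [Group G] [Finite G],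
    Nat.card G ≤ n → ∀ P : Sylow p G, p ≠ 2 ∨ ¬ Involves (Perm (Fin 4)) G →
    (∀ Q : Subgroup G, Q ≤ (P : Subgroup G) → Q ≠ ⊥ → AutInvariant (P : Subgroup G) Q → AutPGroup p Q) →
    HasNormalPComplement p G := by
  intro n
  induction n with
  | zero => intro G _ _ h; exact absurd h (not_le.mpr Nat.card_pos)
  | succ n ih =>
  intro G _ _ hn P hS4 hA
  by_cases hP1 : (P : Subgroup G) = ⊥
  · refine (Transfer.hasNormalPComplement_iff_forall_centralizing P).mpr fun Q hQ g _ _ x hx => ?_
    have : x = 1 := Subgroup.mem_bot.mp (hP1 ▸ hQ hx)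
    simp [this]
  set Z := (P : Subgroup G) ⊓ Subgroup.centralizer ((P : Subgroup G) : Set G) with hZdef
  have hZ1 : Z ≠ ⊥ := by
    have : Nontrivial ↥(P : Subgroup G) := (Subgroup.nontrivial_iff_ne_bot _).mpr hP1
    obtain ⟨z, hz1⟩ := @exists_ne _ P.2.center_nontrivial (1 : Subgroup.center ↥(P : Subgroup G))
    intro h
    have hzZ : ((z : ↥(P : Subgroup G)) : G) ∈ Z :=
      ⟨(z : ↥(P : Subgroup G)).2, fun y hy =>
        congrArg Subtype.val (Subgroup.mem_center_iff.mp z.2 ⟨y, hy⟩)⟩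
    rw [h, Subgroup.mem_bot] at hzZ
    exact hz1 (Subtype.ext (Subtype.ext hzZ))
  refine LocalEven.hasNormalPComplement_of_jAb P hS4 ?_
    (complement_normalizer_jAb P (hA _ (LocalEven.jAb_le _) ?_ ?_))
  · -- the centralizer of the center, by induction on the quotient
    set C := Subgroup.centralizer (Z : Set G)
    have hPC : (P : Subgroup G) ≤ C := fun a ha z hz => ((Subgroup.mem_inf.mp hz).2 a ha).symm
    have hZC : Z ≤ C := inf_le_left.trans hPC
    have hn' : (Z.subgroupOf C).Normal := ⟨fun z hz c => by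
      have : c * z * c⁻¹ = z := Subtype.ext (by
        show (c : G) * z * (c : G)⁻¹ = z
        rw [← c.2 (z : G) hz, mul_inv_cancel_right])
      rwa [this]⟩
    set f := QuotientGroup.mk' (Z.subgroupOf C)
    have hf : ∀ c : C, f c = 1 ↔ (c : G) ∈ Z := fun c =>
      (QuotientGroup.eq_one_iff c).trans Subgroup.mem_subgroupOf
    let PX := (P.subtype hPC).mapSurjective (QuotientGroup.mk'_surjective (Z.subgroupOf C))
    have hcard : Nat.card (↥C ⧸ Z.subgroupOf C) ≤ n := by
      have h1 : 1 < Nat.card ↥(Z.subgroupOf C) := by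
        rw [Nat.card_congr (Subgroup.subgroupOfEquivOfLe hZC).toEquiv]
        exact Finite.one_lt_card_iff_nontrivial.mpr ((Subgroup.nontrivial_iff_ne_bot Z).mpr hZ1)
      have h2 := Subgroup.card_eq_card_quotient_mul_card_subgroup (Z.subgroupOf C)
      have h3 := Subgroup.card_le_card_group C
      have h4 : 0 < Nat.card (↥C ⧸ Z.subgroupOf C) := Nat.card_pos
      have := lt_mul_of_one_lt_right h4 h1
      omega
    have hX : HasNormalPComplement p (↥C ⧸ Z.subgroupOf C) := by
      refine ih _ hcard PX (hS4.imp id fun h hi => h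
        (involves_of_injective C.subtype C.subtype_injective
          (involves_of_quotient (QuotientGroup.mk' (Z.subgroupOf C)) (QuotientGroup.mk'_surjective _) hi)))
        fun Qb hQbP hQb1 hinv gb hgb hgbp => ?_
      set Q := (Qb.comap f).map C.subtype with hQ
      have hQP : Q ≤ (P : Subgroup G) := by
        rintro _ ⟨c, hc, rfl⟩
        obtain ⟨a, ha, e⟩ := hQbP (Subgroup.mem_comap.mp hc)
        have h1 : ((a⁻¹ * c : C) : G) ∈ Z := (hf _).mp (by rw [map_mul, map_inv, ← e, inv_mul_cancel])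
        have := (P : Subgroup G).mul_mem (show (a : G) ∈ (P : Subgroup G) from ha)
          (Subgroup.mem_inf.mp h1).1
        simpa using this
      have hQ1 : Q ≠ ⊥ := fun h => hQb1 (le_bot_iff.mp fun y hy => by
        obtain ⟨c, rfl⟩ := QuotientGroup.mk'_surjective (Z.subgroupOf C) y
        have h1 : (c : G) ∈ Q := ⟨c, hy, rfl⟩
        rw [h, Subgroup.mem_bot] at h1
        exact Subgroup.mem_bot.mpr ((hf c).mpr (h1 ▸ Z.one_mem)))
      have hQinv : AutInvariant (P : Subgroup G) Q := by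
        intro φ x hx
        obtain ⟨c, hc, hce⟩ := hx
        let f₀ : ↥(P : Subgroup G) →* ↥(PX : Subgroup (↥C ⧸ Z.subgroupOf C)) :=
          MonoidHom.mk' (fun a => ⟨f ⟨a, hPC a.2⟩, ⟨a, hPC a.2⟩, a.2, rfl⟩)
            fun a b => Subtype.ext (map_mul f ⟨a, hPC a.2⟩ ⟨b, hPC b.2⟩)
        have hsur : Function.Surjective f₀ := by
          rintro ⟨_, a, ha, rfl⟩
          exact ⟨⟨a, ha⟩, Subtype.ext (by simp [f₀]; rfl)⟩
        have hker : ∀ a, a ∈ f₀.ker ↔ (a : G) ∈ Z := fun a => by
          rw [MonoidHom.mem_ker, ← hf ⟨a, hPC a.2⟩]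
          exact ⟨fun h => congrArg Subtype.val h, fun h => Subtype.ext h⟩
        have hchar : f₀.ker.map (φ : ↥(P : Subgroup G) →* ↥(P : Subgroup G)) = f₀.ker := by
          refine le_antisymm ?_ fun a ha => ⟨φ.symm a, ?_, φ.apply_symm_apply a⟩
          · rintro _ ⟨a, ha, rfl⟩
            exact (hker _).mpr (autInvariant_center _ φ a ((hker a).mp ha))
          · exact (hker _).mpr (autInvariant_center _ φ.symm a ((hker a).mp ha))
        let E := QuotientGroup.quotientKerEquivOfSurjective f₀ hsur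
        let φb : MulAut ↥(PX : Subgroup (↥C ⧸ Z.subgroupOf C)) :=
          E.symm.trans ((QuotientGroup.congr f₀.ker f₀.ker φ hchar).trans E)
        have hφb : ∀ a, φb (f₀ a) = f₀ (φ a) := fun a => by
          have h1 : E.symm (f₀ a) = QuotientGroup.mk' f₀.ker a := E.injective (by
            rw [MulEquiv.apply_symm_apply]; rfl)
          show E (QuotientGroup.congr f₀.ker f₀.ker φ hchar (E.symm (f₀ a))) = f₀ (φ a)
          rw [h1]
          rfl
        have hcx : c = ⟨x, hPC x.2⟩ := Subtype.ext hce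
        subst hcx
        have h2 := hinv φb (f₀ x) hc
        rw [hφb] at h2
        exact ⟨⟨φ x, hPC (φ x).2⟩, h2, rfl⟩
      obtain ⟨g, rfl⟩ := QuotientGroup.mk'_surjective (Z.subgroupOf C) gb
      obtain ⟨a, ha, b, hb, hab, ⟨k, hak⟩, hbp⟩ := Transfer.exists_pPart_mul (p := p) g
      have hfa : f a = 1 := by
        obtain ⟨i, rfl⟩ := Subgroup.mem_zpowers_iff.mp ha
        have h1 : orderOf (f (g ^ i)) ∣ orderOf (f g) := by
          rw [map_zpow]
          exact orderOf_dvd_of_pow_eq_one (by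
            rw [← zpow_natCast, ← zpow_mul, mul_comm, zpow_mul, zpow_natCast, pow_orderOf_eq_one, one_zpow])
        have h2 : orderOf (f (g ^ i)) ∣ p ^ k := (orderOf_map_dvd f _).trans hak
        have h3 := Nat.dvd_gcd h1 h2
        rwa [(hgbp.pow_right k).gcd_eq_one, Nat.dvd_one, orderOf_eq_one_iff] at h3
      have hfg : f g = f b := by rw [← hab, map_mul, hfa, one_mul]
      rw [show (QuotientGroup.mk' (Z.subgroupOf C)) g = f b from hfg] at hgb ⊢
      have hbN : (b : G) ∈ Subgroup.normalizer (Q : Set G) := by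
        refine Subgroup.le_normalizer_map C.subtype ⟨b, ?_, rfl⟩
        refine Subgroup.mem_normalizer_iff.mpr fun y => ?_
        show f y ∈ Qb ↔ f (b * y * b⁻¹) ∈ Qb
        rw [map_mul, map_mul, map_inv]
        exact Subgroup.mem_normalizer_iff.mp hgb (f y)
      have hbC := hA Q hQP hQ1 hQinv b hbN (by rwa [Subgroup.orderOf_coe])
      intro y hy
      obtain ⟨c, rfl⟩ := QuotientGroup.mk'_surjective (Z.subgroupOf C) y
      have h1 : c * b = b * c := Subtype.ext (hbC _ ⟨c, hy, rfl⟩)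
      show f c * f b = f b * f c
      rw [← map_mul, ← map_mul, h1]
    refine (Transfer.hasNormalPComplement_iff_forall_centralizing (P.subtype hPC)).mpr
      fun R hR g hg hgp r hr => ?_
    have h1 := (Transfer.hasNormalPComplement_iff_forall_centralizing PX).mp hX (R.map f)
      (Subgroup.map_mono hR) (f g) (Subgroup.le_normalizer_map f ⟨g, hg, rfl⟩)
      (Nat.Coprime.coprime_dvd_left (orderOf_map_dvd f g) hgp) (f r) ⟨r, hr, rfl⟩
    set z := g * r * g⁻¹ * r⁻¹ with hz
    have hzZ : (z : G) ∈ Z := (hf z).mp (by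
      rw [hz, map_mul, map_mul, map_mul, map_inv, map_inv, ← h1]; group)
    obtain ⟨k, hk⟩ := P.2 ⟨(z : G), (Subgroup.mem_inf.mp hzZ).1⟩
    have h3 := conj_eq_self_of_coprime (g := g) (r := r) (z := z) hgp (by rw [hz]; group)
      (Subtype.ext (by
        show (g : G) * z * (g : G)⁻¹ = z
        rw [← g.2 _ hzZ, mul_inv_cancel_right]))
      ⟨k, Subtype.ext (congrArg Subtype.val hk :)⟩
    conv_lhs => rw [← h3]
    group
  · intro h
    exact hP1 (by
      refine le_bot_iff.mp fun x hx => ?_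
      obtain ⟨A, hA'⟩ := LocalEven.maxAb_nonempty (P : Subgroup G)
      obtain ⟨hAP, hc, hmax⟩ := LocalEven.mem_maxAb.1 hA'
      have hA0 : A = ⊥ := le_bot_iff.mp ((LocalEven.le_jAb hA').trans h.le)
      have h1 := hmax _ (Subgroup.zpowers_le.mpr hx) inferInstance
      rw [hA0, Subgroup.card_bot] at h1
      have h2 := Subgroup.eq_bot_of_card_le _ h1
      exact h2.le (Subgroup.mem_zpowers x))
  · intro φ x hx
    obtain ⟨y, hy, hye⟩ : (x : G) ∈ (thompsonSubgroupA ↥(P : Subgroup G)).map (P : Subgroup G).subtype := by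
      rw [← thompsonSubgroupAOf, LocalEven.thompsonSubgroupAOf_eq_jAb]; exact hx
    rw [← LocalEven.thompsonSubgroupAOf_eq_jAb]
    refine ⟨φ y, ?_, congrArg (fun a => ((φ a : ↥(P : Subgroup G)) : G)) (Subtype.ext hye)⟩
    refine (Subgroup.map_le_iff_le_comap.mpr (sSup_le fun A hA' => ?_))
      (Subgroup.mem_map_of_mem φ.toMonoidHom hy)
    refine Subgroup.map_le_iff_le_comap.mp (le_sSup ⟨?_, fun B hB => ?_⟩)
    · exact PLocal.abExp_zero.1 ((PLocal.abExp_map_iff φ.injective).2 (PLocal.abExp_zero.2 hA'.1))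
    · rw [Subgroup.card_map_of_injective (f := φ.toMonoidHom) φ.injective]
      exact hA'.2 B hB

end CfsgLib.Fusion
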