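import Mathlib
import Cfsg.Agent.Lib.Fusion.ModelProps

/-! The fusion system of `T ⋊ A` for a group `A` of automorphisms of order prime to `p`. -/
set_option autoImplicit false

universe u

namespace CfsgLib.Fusion

open Cfsg Cfsg.FusionSystem

variable {p : ℕ} [hp : Fact p.Prime] {Ω : Type u} [Group Ω] {T : Subgroup Ω}

theorem exists_autSystem [Finite T] (hT : IsPGroup p T) (A : Subgroup (MulAut T))
    (hA : (Nat.card A).Coprime p) :
    ∃ E : FusionSystem T, E.IsSaturated p ∧ ∀ P f, IsMor E P f ↔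
      P ≤ T ∧ ∃ t ∈ T, ∃ γ ∈ A, ∀ x ∈ P, f x = cj t (autFun γ x) := by
  classical
  let M : Subgroup Ω → (Ω → Ω) → Prop := fun P f =>
    P ≤ T ∧ ∃ t ∈ T, ∃ γ ∈ A, ∀ x ∈ P, f x = cj t (autFun γ x)
  have hmem : ∀ t ∈ T, ∀ x ∈ T, cj t x ∈ T := fun t ht x hx =>
    T.mul_mem (T.mul_mem ht hx) (T.inv_mem ht)
  have hcomm : ∀ (γ : MulAut T) (t x : Ω), t ∈ T → x ∈ T →
      autFun γ (cj t x) = cj (autFun γ t) (autFun γ x) := by
    intro γ t x ht hx
    rw [cj_apply, cj_apply, autFun_of_mem γ ht, autFun_of_mem γ hx,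
      autFun_of_mem γ (T.mul_mem (T.mul_mem ht hx) (T.inv_mem ht))]
    exact congrArg Subtype.val (show γ (⟨t, ht⟩ * ⟨x, hx⟩ * ⟨t, ht⟩⁻¹) = _ by
      rw [map_mul, map_mul, map_inv])
  have hmul : ∀ P f, M P f → ∀ x ∈ P, ∀ y ∈ P, f (x * y) = f x * f y := by
    rintro P f ⟨hP, t, ht, γ, hγ, e⟩ x hx y hy
    rw [e _ (P.mul_mem hx hy), e x hx, e y hy, autFun_map_mul γ (hP hx) (hP hy)]
    simp [cj, mul_assoc]
  let E := ofPred T M
    (fun P f ⟨hP, t, ht, γ, _, e⟩ => ⟨hP, fun x hx => e x hx ▸ hmem t ht _ (autFun_mem γ (hP hx))⟩)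
    (fun P f ⟨hP, t, _, γ, _, e⟩ x hx y hy h => by
      rw [e x hx, e y hy, cj_apply, cj_apply, mul_left_inj, mul_right_inj,
        autFun_of_mem γ (hP hx), autFun_of_mem γ (hP hy)] at h
      exact congrArg Subtype.val (γ.injective (Subtype.ext h)))
    (fun P f g ⟨hP, t, ht, γ, hγ, e⟩ h => ⟨hP, t, ht, γ, hγ, fun x hx => (h x hx).symm.trans (e x hx)⟩)
    (fun P g hP hg => ⟨hP, g, hg, 1, A.one_mem, fun x hx => by rw [autFun_one (hP hx)]⟩)
    (fun P Q f g ⟨hP, t, ht, γ, hγ, e⟩ ⟨hQ, s, hs, δ, hδ, e'⟩ hfQ =>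
      ⟨hP, s * autFun δ t, T.mul_mem hs (autFun_mem δ ht), δ * γ, A.mul_mem hδ hγ, fun x hx => by
        show g (f x) = _
        rw [e' _ (hfQ x hx), e x hx, hcomm δ t _ ht (autFun_mem γ (hP hx)), ← cj_mul,
          autFun_mul _ _ (hP hx)]⟩)
    (fun P f ⟨hP, t, ht, γ, hγ, e⟩ _ => by
      refine ⟨fun y => cj (autFun γ⁻¹ t⁻¹) (autFun γ⁻¹ y), ⟨img_le fun x hx => ?_, _,
        autFun_mem _ (T.inv_mem ht), γ⁻¹, A.inv_mem hγ, fun _ _ => rfl⟩, fun x hx => ?_⟩
      · rw [e x hx]; exact hmem t ht _ (autFun_mem γ (hP hx))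
      · show cj (autFun γ⁻¹ t⁻¹) (autFun γ⁻¹ (f x)) = x
        rw [e x hx, ← hcomm γ⁻¹ _ _ (T.inv_mem ht) (hmem t ht _ (autFun_mem γ (hP hx))), cj_inv_cj,
          autFun_inv_left γ (hP hx)])
  have hE : ∀ P f, IsMor E P f ↔ M P f := fun P f => isMor_ofPred (hmul P f)
  refine ⟨E, ?_, hE⟩
  let φ : A →* MulAut T := A.subtype
  have hfinA : Finite (MulAut T) := Finite.of_injective (fun α => (⇑α : T → T)) DFunLike.coe_injective
  have : Finite (T ⋊[φ] A) := Finite.of_equiv _ SemidirectProduct.equivProd.symm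
  let ι : T →* T ⋊[φ] A := SemidirectProduct.inl
  have hι : Function.Injective ι := SemidirectProduct.inl_injective
  have hkey : ∀ (a : A) (x : T), SemidirectProduct.inr a * ι x * (SemidirectProduct.inr a)⁻¹ =
      ι ((a : MulAut T) x) := fun a x => by
    rw [← map_inv]; exact (SemidirectProduct.inl_aut (φ := φ) a x).symm
  have hconj : ∀ (g : T ⋊[φ] A) (x : T), g * ι x * g⁻¹ =
      ι (g.left * ((g.right : MulAut T) x) * g.left⁻¹) := fun g x => by
    have h := SemidirectProduct.inl_left_mul_inr_right g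
    calc g * ι x * g⁻¹ = (SemidirectProduct.inl g.left * SemidirectProduct.inr g.right) * ι x *
          (SemidirectProduct.inl g.left * SemidirectProduct.inr g.right)⁻¹ := by rw [h]
      _ = ι g.left * (SemidirectProduct.inr g.right * ι x * (SemidirectProduct.inr g.right)⁻¹) *
          (ι g.left)⁻¹ := by simp only [ι, mul_inv_rev, mul_assoc]
      _ = _ := by rw [hkey, map_mul, map_mul, map_inv]
  have hr : E.IsRealizedBy ι := by
    refine ⟨hι, fun P hP ψ hψ => ⟨fun h => ?_, ?_⟩⟩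
    · obtain ⟨-, t, ht, γ, hγ, e⟩ := (hE _ _).mp (isMor_of_mem h)
      refine ⟨⟨⟨t, ht⟩, ⟨γ, hγ⟩⟩, fun x => ?_⟩
      rw [hconj]
      refine congrArg ι (Subtype.ext ?_)
      show ψ x = t * ((γ ⟨x, hP x.2⟩ : T) : Ω) * t⁻¹
      rw [← toFun_coe ψ x, e x x.2, cj_apply, autFun_of_mem γ (hP x.2)]
    · rintro ⟨g, hg⟩
      refine IsMor.mem_hom ((hE P _).mpr ⟨hP, g.left, g.left.2, g.right, g.right.2, fun x hx => ?_⟩)
        fun x => (toFun_coe ψ x).symm
      have h1 := hg ⟨x, hx⟩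
      rw [hconj] at h1
      rw [toFun_of_mem ψ hx]
      refine (congrArg Subtype.val (hι h1)).trans ?_
      rw [cj_apply, autFun_of_mem _ (hP hx)]
      rfl
  have hpr : IsPGroup p ι.range := hT.of_surjective _ ι.rangeRestrict_surjective
  have hidx : ¬ p ∣ ι.range.index := by
    have h1 : ι.range = (SemidirectProduct.rightHom : T ⋊[φ] A →* A).ker :=
      SemidirectProduct.range_inl_eq_ker_rightHom
    rw [h1, Subgroup.index_ker, MonoidHom.range_eq_top.mpr SemidirectProduct.rightHom_surjective,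
      Subgroup.card_top]
    exact fun h => hp.out.ne_one (Nat.eq_one_of_dvd_coprimes hA h dvd_rfl)
  exact realized_isSaturated hr (hpr.toSylow hidx) (IsPGroup.toSylow_coe hpr hidx)

end CfsgLib.Fusion
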