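import Mathlib
import Cfsg.Agent.Lib.Fusion.Transfer

/-!
# A homomorphism on the group of a characteristic biset

The group of the permutations commuting with the right action realizes the system; a homomorphism
`χ` on `S` extends to it, and an element centralizing a subgroup of a strongly closed kernel on
which it is nontrivial yields an element outside the kernel in the centralizer of a conjugate.
-/

set_option autoImplicit false
set_option linter.unusedSectionVars false

namespace CfsgLib.Fusion

open Cfsg Cfsg.FusionSystem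

universe u

variable {Ω : Type u} [Group Ω] {S : Subgroup Ω} [Finite S] {F : FusionSystem S} {p : ℕ}

local instance (B : CharBiset F p) : MulAction (S × S) B.X := B.act

attribute [local instance] TransferData.fin

/-- The permutations commuting with the right action. -/
def bisetGroup (B : CharBiset F p) : Subgroup (Equiv.Perm B.X) where
  carrier := {π | ∀ (b : S) (x : B.X), π (((1 : S), b) • x) = ((1 : S), b) • π x}
  one_mem' := fun _ _ => rfl
  mul_mem' := fun {π ρ} hπ hρ b x => by
    show π (ρ _) = _ • π (ρ x)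
    rw [hρ, hπ]
  inv_mem' := fun {π} hπ b x => by
    show π.symm _ = _ • π.symm x
    rw [Equiv.symm_apply_eq, hπ, Equiv.apply_symm_apply]

/-- The left action of `S`. -/
noncomputable def leftHom (B : CharBiset F p) : S →* bisetGroup B :=
  MonoidHom.mk' (fun a => ⟨MulAction.toPerm ((a, 1) : S × S), fun b x => by
      show ((a, 1) : S × S) • ((1 : S), b) • x = ((1 : S), b) • ((a, 1) : S × S) • x
      rw [← mul_smul, ← mul_smul]
      simp⟩)
    fun a b => Subtype.ext (Equiv.ext fun x => by
      show ((a * b, 1) : S × S) • x = ((a, 1) : S × S) • ((b, 1) : S × S) • x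
      rw [← mul_smul]
      simp)

theorem exists_realizer (B : CharBiset F p) {P : Subgroup Ω} {f : Ω → Ω} (hf : IsMor F P f) :
    ∃ g : bisetGroup B, ∀ a a' : S, (a : Ω) ∈ P → (a' : Ω) = f a →
      g * leftHom B a = leftHom B a' * g := by
  obtain ⟨β, hβ⟩ := B.twist P f hf
  have hmem : β ∈ bisetGroup B := fun b x =>
    hβ 1 b 1 (one_mem P) (by rw [Subgroup.coe_one]; exact hf.map_one.symm) x
  refine ⟨⟨β, hmem⟩, fun a a' ha ha' => Subtype.ext (Equiv.ext fun x => ?_)⟩
  exact hβ a 1 a' ha ha' x

namespace TransferData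

variable {B : CharBiset F p} (D : TransferData B)

/-- The right orbit of the image of a representative. -/
def gsig (g : bisetGroup B) (i : D.R) : D.R := (D.e.symm (g.1 (D.r i))).1

/-- The position of the image of a representative. -/
def gpos (g : bisetGroup B) (i : D.R) : S := (D.e.symm (g.1 (D.r i))).2

theorem g_apply (g : bisetGroup B) (i : D.R) :
    g.1 (D.r i) = ((1 : S), D.gpos g i) • D.r (D.gsig g i) := by
  rw [smul_r]
  exact (D.e.apply_symm_apply _).symm

theorem gsig_mul (g h : bisetGroup B) (i : D.R) :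
    D.gsig (g * h) i = D.gsig g (D.gsig h i) ∧
      D.gpos (g * h) i = D.gpos h i * D.gpos g (D.gsig h i) := by
  refine D.uniq ?_
  rw [← D.g_apply]
  show g.1 (h.1 (D.r i)) = _
  rw [D.g_apply, g.2, D.g_apply, ← mul_smul]
  simp

theorem gsig_one (i : D.R) : D.gsig 1 i = i ∧ D.gpos 1 i = 1 := by
  refine D.uniq ?_
  rw [← D.g_apply]
  show D.r i = ((1 : S), (1 : S)) • D.r i
  exact (one_smul (S × S) _).symm

/-- The action on the right orbits. -/
def gperm : bisetGroup B →* Equiv.Perm D.R :=
  MonoidHom.mk' (fun g =>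
    { toFun := D.gsig g
      invFun := D.gsig g⁻¹
      left_inv := fun i => by rw [← (D.gsig_mul _ _ _).1, inv_mul_cancel, (D.gsig_one i).1]
      right_inv := fun i => by rw [← (D.gsig_mul _ _ _).1, mul_inv_cancel, (D.gsig_one i).1] })
    fun g h => Equiv.ext fun i => (D.gsig_mul g h i).1

theorem gperm_apply (g : bisetGroup B) (i : D.R) : D.gperm g i = D.gsig g i := rfl

theorem gpos_leftHom (a : S) (i : D.R) :
    D.gsig (leftHom B a) i = D.sig a i ∧ D.gpos (leftHom B a) i = D.pos a i := ⟨rfl, rfl⟩

variable {A : Type*} [CommGroup A] (χ : S →* A)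

/-- The extension of `χ` to the group of the biset. -/
def gtau : bisetGroup B →* A :=
  MonoidHom.mk' (fun g => ∏ i, χ (D.gpos g i)) fun g h => by
    rw [Finset.prod_congr rfl fun i _ => by rw [(D.gsig_mul g h i).2, map_mul],
      Finset.prod_mul_distrib, mul_comm]
    congr 1
    exact Equiv.prod_comp (D.gperm h) (fun i => χ (D.gpos g i))

theorem gtau_leftHom (a : S) : D.gtau χ (leftHom B a) = D.transfer χ a := rfl

theorem gpos_pow {g : bisetGroup B} {i : D.R} (hi : D.gsig g i = i) (n : ℕ) :
    D.gsig (g ^ n) i = i ∧ χ (D.gpos (g ^ n) i) = χ (D.gpos g i) ^ n := by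
  induction n with
  | zero => rw [pow_zero, pow_zero, (D.gsig_one i).1, (D.gsig_one i).2, map_one]; exact ⟨rfl, rfl⟩
  | succ n ih =>
    rw [pow_succ' g, (D.gsig_mul g (g ^ n) i).1, (D.gsig_mul g (g ^ n) i).2, ih.1, map_mul, ih.2,
      pow_succ]
    exact ⟨hi, rfl⟩

theorem gpos_power_prod (g : bisetGroup B) (i : D.R) (n : ℕ) :
    χ (D.gpos (g ^ n) i) = ∏ k ∈ Finset.range n, χ (D.gpos g ((D.gperm g ^ k) i)) := by
  induction n with
  | zero => rw [pow_zero, (D.gsig_one i).2, map_one, Finset.prod_range_zero]
  | succ n ih =>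
    rw [pow_succ' g, (D.gsig_mul g (g ^ n) i).2, map_mul, ih, Finset.prod_range_succ,
      ← map_pow]
    rfl

/-- The transfer of an element fixing a point of a graph kills elements of a strongly closed kernel. -/
theorem chi_pos_of_fixed {T : Subgroup Ω} (hT : F.StronglyClosed T)
    (hker : ∀ a : S, (a : Ω) ∈ T → χ a = 1) {q : S} (hq : (q : Ω) ∈ T) {i : D.R}
    (hi : D.sig q i = i) : χ (D.pos q i) = 1 := by
  have h1 := D.left_smul q i
  rw [hi] at h1
  have h2 : (q, (D.pos q i)⁻¹) ∈ MulAction.stabilizer (S × S) (D.r i) := by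
    rw [MulAction.mem_stabilizer_iff, show (q, (D.pos q i)⁻¹) =
      ((1 : S), (D.pos q i)⁻¹) * (q, (1 : S)) by simp, mul_smul, h1, ← mul_smul]
    show ((1 : S) * 1, (D.pos q i)⁻¹ * D.pos q i) • D.r i = D.r i
    rw [mul_one, inv_mul_cancel]
    exact one_smul (S × S) _
  obtain ⟨P, f, hf, hK⟩ := B.inFam (D.r i)
  obtain ⟨h3, h4⟩ := (hK _).mp h2
  have h5 := (stronglyClosed_iff.mp hT).2 P f hf _ h3 hq
  rw [h4] at h5
  have := hker _ h5
  rw [map_inv, inv_eq_one] at this
  exact this

/-- An element centralizing `Q` with nontrivial value gives an element outside the kernel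
centralizing a conjugate of `Q`. -/
theorem exists_escape [hp : Fact p.Prime] (hS : IsPGroup p S) (hA : ∀ a : A, a ^ p = 1)
    {T : Subgroup Ω} (hT : F.StronglyClosed T) (hker : ∀ a : S, (a : Ω) ∈ T → χ a = 1)
    {Q : Subgroup Ω} (hQ : Q ≤ T) {h : bisetGroup B}
    (hc : ∀ a : S, (a : Ω) ∈ Q → h * leftHom B a = leftHom B a * h) (hne : D.gtau χ h ≠ 1) :
    ∃ f, IsMor F Q f ∧ ∃ z : S, (z : Ω) ∈ centralizerIn S (img Q f) ∧ χ z ≠ 1 := by
  classical
  by_contra hno
  apply hne
  set σ := D.gperm h with hσ
  let st : Setoid D.R := Equiv.Perm.SameCycle.setoid σ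
  let w : Quotient st → A := fun C =>
    ∏ i ∈ Finset.univ.filter (fun i => Quotient.mk st i = C), χ (D.gpos h i)
  have htau : D.gtau χ h = ∏ C, w C :=
    (Finset.prod_fiberwise Finset.univ (fun i => Quotient.mk st i) fun i => χ (D.gpos h i)).symm
  have hQS : Q ≤ S := hQ.trans hT.1
  let QS : Subgroup S := Q.subgroupOf S
  have hcomm : ∀ q : QS, Commute (D.gperm (leftHom B q.1)) σ := fun q => by
    rw [hσ, Commute, SemiconjBy, ← map_mul, ← map_mul, hc q.1 q.2]
  have hsame : ∀ (q : QS) (i j : D.R), Equiv.Perm.SameCycle σ i j →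
      Equiv.Perm.SameCycle σ (D.gperm (leftHom B q.1) i) (D.gperm (leftHom B q.1) j) := by
    rintro q i j ⟨n, rfl⟩
    refine ⟨n, ?_⟩
    have := (hcomm q).zpow_right n
    exact (Equiv.Perm.ext_iff.mp this.eq i).symm
  let act : QS → Quotient st → Quotient st := fun q =>
    Quotient.map (D.gperm (leftHom B q.1)) (fun i j hij => hsame q i j hij)
  let ma : MulAction QS (Quotient st) :=
    { smul := act
      one_smul := fun C => Quotient.inductionOn C fun i => by
        show Quotient.mk st (D.gperm (leftHom B (1 : S)) i) = _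
        rw [map_one, map_one]; rfl
      mul_smul := fun a b C => Quotient.inductionOn C fun i => by
        show Quotient.mk st (D.gperm (leftHom B ((a : S) * (b : S))) i) = _
        rw [map_mul, map_mul]; rfl }
  letI := ma
  -- `w` is invariant
  have hw : ∀ (q : QS) (C : Quotient st), w (q • C) = w C := by
    intro q C
    set π := D.gperm (leftHom B q.1) with hπ
    have hre : w (q • C) = ∏ i ∈ Finset.univ.filter (fun i => Quotient.mk st i = C),
        χ (D.gpos h (π i)) := by
      symm
      refine Finset.prod_nbij π (fun i hi => ?_) (fun a _ b _ e => π.injective e) (fun j hj => ?_)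
        fun i _ => rfl
      · simp only [Finset.mem_filter, Finset.mem_univ, true_and] at hi ⊢
        rw [← hi]; rfl
      · simp only [Finset.coe_filter, Finset.mem_univ, true_and] at hj
        refine ⟨π.symm j, ?_, π.apply_symm_apply j⟩
        simp only [Finset.coe_filter, Finset.mem_univ, true_and]
        show Quotient.mk st (π.symm j) = C
        have h1 : q⁻¹ • Quotient.mk st j = C := by
          rw [show Quotient.mk st j = q • C from hj, inv_smul_smul]
        rw [← h1]
        show _ = Quotient.mk st (D.gperm (leftHom B ((q⁻¹ : QS) : S)) j)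
        rw [Subgroup.coe_inv, map_inv, map_inv]
        rfl
    rw [hre]
    have hrel : ∀ i, χ (D.gpos h (π i)) * χ (D.pos q.1 i) =
        χ (D.gpos h i) * χ (D.pos q.1 (σ i)) := by
      intro i
      have h1 : D.gpos (h * leftHom B q.1) i = D.gpos (leftHom B q.1 * h) i := by rw [hc q.1 q.2]
      rw [(D.gsig_mul h _ i).2, (D.gsig_mul _ h i).2, (D.gpos_leftHom q.1 i).2,
        (D.gpos_leftHom q.1 _).2] at h1
      rw [← map_mul χ (D.gpos h i), mul_comm (χ (D.gpos h (π i))), ← map_mul χ (D.pos q.1 i)]
      exact congrArg χ h1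
    have h2 := Finset.prod_congr (s₁ := Finset.univ.filter (fun i => Quotient.mk st i = C)) rfl
      fun i _ => hrel i
    rw [Finset.prod_mul_distrib, Finset.prod_mul_distrib] at h2
    have h3 : (∏ i ∈ Finset.univ.filter (fun i => Quotient.mk st i = C), χ (D.pos q.1 (σ i))) =
        ∏ i ∈ Finset.univ.filter (fun i => Quotient.mk st i = C), χ (D.pos q.1 i) := by
      have hst : ∀ i, Quotient.mk st (σ i) = Quotient.mk st i := fun i =>
        Quotient.sound (Equiv.Perm.sameCycle_apply_left.mpr (Equiv.Perm.SameCycle.refl σ i))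
      refine Finset.prod_equiv σ (fun i => ?_) fun i _ => rfl
      simp [hst i]
    rw [h3] at h2
    exact mul_right_cancel h2
  -- the value of an invariant cycle is trivial
  have hfix : ∀ C : Quotient st, (∀ q : QS, q • C = C) → w C = 1 := by
    intro C
    induction C using Quotient.inductionOn with
    | _ i =>
    intro hCf
    set L := Function.minimalPeriod σ i with hL
    have hper : i ∈ Function.periodicPts σ := σ.injective.mem_periodicPts i
    have hLpos : 0 < L := Function.minimalPeriod_pos_of_mem_periodicPts hper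
    have hpow : ∀ n : ℕ, (σ ^ n) i = (σ^[n]) i := fun n => by rw [← Equiv.Perm.coe_pow]
    have hwi : w (Quotient.mk st i) = χ (D.gpos (h ^ L) i) := by
      rw [D.gpos_power_prod χ h i L]
      symm
      refine Finset.prod_nbij (fun k => (σ ^ k) i) (fun k _ => ?_) (fun a ha b hb e => ?_)
        (fun j hj => ?_) fun k _ => rfl
      · simp only [Finset.mem_filter, Finset.mem_univ, true_and]
        exact Quotient.sound (Equiv.Perm.SameCycle.symm ⟨(k : ℤ), by rw [zpow_natCast]⟩)
      · simp only [Finset.coe_range, Set.mem_Iio] at ha hb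
        simp only [hpow] at e
        exact Function.iterate_injOn_Iio_minimalPeriod (f := σ) (x := i) ha hb e
      · simp only [Finset.coe_filter, Finset.mem_univ, true_and] at hj
        obtain ⟨n, hn⟩ := (Quotient.exact hj).symm.exists_nat_pow_eq
        refine ⟨n % L, by simpa using Nat.mod_lt n hLpos, ?_⟩
        show (σ ^ (n % L)) i = j
        rw [hpow, hL, Function.iterate_mod_minimalPeriod_eq, ← hpow, hn]
    have hLfix : D.gsig (h ^ L) i = i := by
      rw [← gperm_apply, map_pow, hpow]
      exact Function.iterate_minimalPeriod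
    rw [hwi]
    by_contra hv
    by_cases hall : ∀ q : QS, D.sig q.1 i = i
    · -- a fixed representative: the position centralizes a conjugate of `Q`
      obtain ⟨P, f, hf, hK⟩ := B.inFam (D.r i)
      have hst : ∀ q : QS, ((q.1 : Ω) ∈ P ∧ f q.1 = (((D.pos q.1 i)⁻¹ : S) : Ω)) := by
        intro q
        refine (hK (q.1, (D.pos q.1 i)⁻¹)).mp (MulAction.mem_stabilizer_iff.mpr ?_)
        have h1 := D.left_smul q.1 i
        rw [hall q] at h1
        rw [show (q.1, (D.pos q.1 i)⁻¹) =
          ((1 : S), (D.pos q.1 i)⁻¹) * (q.1, (1 : S)) by simp, mul_smul, h1, ← mul_smul]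
        show ((1 : S) * 1, (D.pos q.1 i)⁻¹ * D.pos q.1 i) • D.r i = D.r i
        rw [mul_one, inv_mul_cancel]
        exact one_smul (S × S) _
      have hQP : Q ≤ P := fun x hx => (hst ⟨⟨x, hQS hx⟩, hx⟩).1
      set z := D.gpos (h ^ L) i with hz
      have hzc : ∀ q : QS, z * D.pos q.1 i = D.pos q.1 i * z := by
        intro q
        have h1 : h ^ L * leftHom B q.1 = leftHom B q.1 * h ^ L :=
          ((show Commute h (leftHom B q.1) from hc q.1 q.2).pow_left L).eq
        have h2 := congrArg (fun g => D.gpos g i) h1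
        simp only [(D.gsig_mul _ _ i).2, (D.gpos_leftHom q.1 _).2, (D.gpos_leftHom q.1 _).1,
          hall q, hLfix] at h2
        exact h2.symm
      refine hno ⟨f, hf.restrict hQP, z, mem_centralizerIn.mpr ⟨z.2, fun y hy => ?_⟩, hv⟩
      obtain ⟨x, hx, rfl⟩ := (hf.restrict hQP).mem_img.mp hy
      rw [(hst ⟨⟨x, hQS hx⟩, hx⟩).2, cj_apply]
      have h3 := congrArg (fun s : S => (s : Ω))
        (show z * (D.pos (⟨x, hQS hx⟩ : S) i)⁻¹ * z⁻¹ = (D.pos (⟨x, hQS hx⟩ : S) i)⁻¹ by
          rw [mul_inv_eq_iff_eq_mul]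
          have h4 := hzc ⟨⟨x, hQS hx⟩, hx⟩
          have h5 : Commute z (D.pos (⟨x, hQS hx⟩ : S) i) := h4
          exact h5.inv_right.eq)
      simpa using h3
    · -- an element of `Q` moving `i` along the cycle
      push Not at hall
      obtain ⟨q, hq⟩ := hall
      obtain ⟨j, hj⟩ := ((Quotient.exact (show Quotient.mk st (D.gperm (leftHom B q.1) i) =
        Quotient.mk st i from hCf q)).symm).exists_nat_pow_eq
      rw [gperm_apply, (D.gpos_leftHom q.1 i).1] at hj
      have hLj : ¬ L ∣ j := by
        intro hd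
        obtain ⟨c, rfl⟩ := hd
        apply hq
        rw [← hj, hpow]
        exact ((Function.isPeriodicPt_minimalPeriod σ i).mul_const c).eq
      set a : bisetGroup B := (h ^ j)⁻¹ * leftHom B q.1 with ha
      have hafix : D.gsig a i = i := by
        rw [← gperm_apply, ha, map_mul, map_inv, map_pow, Equiv.Perm.mul_apply, gperm_apply,
          (D.gpos_leftHom q.1 i).1, ← hj]
        exact (σ ^ j).symm_apply_apply i
      obtain ⟨m, hm⟩ := hS q.1
      have hLd : L ∣ j * p ^ m := by
        rw [hL, ← Function.isPeriodicPt_iff_minimalPeriod_dvd, Function.IsPeriodicPt,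
          Function.IsFixedPt, ← hpow, pow_mul]
        have hfixall : ∀ n : ℕ, ((σ ^ j) ^ n) i = (D.gperm (leftHom B q.1) ^ n) i := by
          intro n
          induction n with
          | zero => simp
          | succ n ih =>
            rw [pow_succ (σ ^ j), Equiv.Perm.mul_apply, pow_succ' (D.gperm (leftHom B q.1)),
              Equiv.Perm.mul_apply, ← ih, hj, ← (D.gpos_leftHom q.1 i).1, ← gperm_apply]
            exact (Equiv.Perm.ext_iff.mp
              ((((hcomm q).pow_right j).pow_right n).eq) i).symm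
        rw [hfixall, ← map_pow, ← map_pow, hm, map_one, map_one]
        rfl
      set g := Nat.gcd j L with hg
      have hgpos : 0 < g := Nat.gcd_pos_of_pos_right j hLpos
      obtain ⟨e, he⟩ := Nat.gcd_dvd_left j L
      obtain ⟨l, hl⟩ := Nat.gcd_dvd_right j L
      rw [← hg] at he hl
      have hco : Nat.Coprime e l := by
        have := Nat.coprime_div_gcd_div_gcd (m := j) (n := L) (hg ▸ hgpos)
        rwa [← hg, show j / g = e from Nat.div_eq_of_eq_mul_right hgpos he,
          show L / g = l from Nat.div_eq_of_eq_mul_right hgpos hl] at this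
      have hlpm : l ∣ p ^ m := by
        refine hco.symm.dvd_of_dvd_mul_left ?_
        refine Nat.dvd_of_mul_dvd_mul_left hgpos ?_
        rw [← hl, ← mul_assoc, ← he]
        exact hLd
      have hl1 : l ≠ 1 := by
        rintro rfl
        exact hLj ⟨e, by rw [hl, mul_one]; exact he⟩
      obtain ⟨t, -, rfl⟩ := (Nat.dvd_prime_pow hp.out).mp hlpm
      have ht : t ≠ 0 := fun h0 => hl1 (by rw [h0, pow_zero])
      have hpe : ¬ p ∣ e := fun hd => hp.out.ne_one
        (Nat.eq_one_of_dvd_coprimes hco hd (dvd_pow_self p ht))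
      -- `q^l = h^(L e) a^l`
      have hca : Commute (h ^ j) a := by
        rw [ha]
        refine Commute.mul_right (Commute.inv_right (Commute.refl _)) ?_
        exact (show Commute h (leftHom B q.1) from hc q.1 q.2).pow_left j
      have hqa : leftHom B (q.1 ^ p ^ t) = (h ^ L) ^ e * a ^ p ^ t := by
        rw [map_pow, show leftHom B q.1 = h ^ j * a by rw [ha, mul_inv_cancel_left],
          hca.mul_pow, ← pow_mul h j, ← pow_mul h L]
        congr 2
        rw [he, hl]; ring
      obtain ⟨hae, hav⟩ := D.gpos_pow χ hafix (p ^ t)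
      obtain ⟨hhe, hhv⟩ := D.gpos_pow χ hLfix e
      have hqfix : D.sig (q.1 ^ p ^ t) i = i := by
        rw [← (D.gpos_leftHom _ i).1, hqa, (D.gsig_mul _ _ i).1, hae, hhe]
      have h1 := D.chi_pos_of_fixed χ hT hker (hQ (Subgroup.mem_subgroupOf.mp (QS.pow_mem q.2 (p ^ t)))) hqfix
      rw [← (D.gpos_leftHom _ i).2, hqa, (D.gsig_mul _ _ i).2, map_mul, hav, hae, hhv,
        ← Nat.succ_pred_eq_of_ne_zero ht, pow_succ' p, pow_mul, hA, one_pow, one_mul] at h1
      exact hv (orderOf_eq_one_iff.mp (Nat.eq_one_of_dvd_coprimes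
        ((Nat.Prime.coprime_iff_not_dvd hp.out).mpr hpe)
        (orderOf_dvd_of_pow_eq_one (hA _)) (orderOf_dvd_of_pow_eq_one h1)))
  rw [htau]
  have hQp : IsPGroup p QS := hS.to_subgroup _
  let st' : Setoid (Quotient st) := MulAction.orbitRel QS (Quotient st)
  rw [← Finset.prod_fiberwise Finset.univ (fun C => Quotient.mk st' C) w]
  refine Finset.prod_eq_one fun O _ => ?_
  induction O using Quotient.inductionOn with
  | _ C =>
  have horb : (Finset.univ.filter fun C' => Quotient.mk st' C' = Quotient.mk st' C) =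
      (MulAction.orbit QS C).toFinset := by
    ext C'
    simp only [Finset.mem_filter, Finset.mem_univ, true_and, Set.mem_toFinset]
    exact ⟨fun e => Quotient.exact e, fun e => Quotient.sound e⟩
  rw [horb, Finset.prod_eq_pow_card (b := w C) (fun C' hC' => by
    obtain ⟨q, rfl⟩ := Set.mem_toFinset.mp hC'
    exact hw q C)]
  obtain ⟨n, hn⟩ := hQp.card_orbit C
  rw [Set.toFinset_card, ← Nat.card_eq_fintype_card, hn]
  rcases Nat.eq_zero_or_pos n with rfl | hn0
  · rw [pow_zero, pow_one]
    refine hfix C fun q => ?_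
    have : Subsingleton (MulAction.orbit QS C) := (Nat.card_eq_one_iff_unique.mp (by simpa using hn)).1
    exact congrArg Subtype.val (Subsingleton.elim
      (⟨q • C, MulAction.mem_orbit C q⟩ : MulAction.orbit QS C) ⟨C, MulAction.mem_orbit_self C⟩)
  · rw [← Nat.succ_pred_eq_of_pos hn0, pow_succ' p, pow_mul, hA, one_pow]

end TransferData

end CfsgLib.Fusion
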