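import Mathlib
import Cfsg.Agent.Lib.Fusion.FunctorZJ
import Cfsg.Agent.Lib.Fusion.NormalizerSaturated
import Cfsg.Agent.Lib.LocalEven.WeakClosure

/-! Thompson's normal `p`-complement theorem for fusion systems. -/
set_option autoImplicit false

universe u

namespace CfsgLib.Fusion

open Cfsg Cfsg.FusionSystem Equiv

variable {p : ℕ} [hp : Fact p.Prime] {Ω : Type u} [Group Ω] {S : Subgroup Ω} {F : FusionSystem S}

/-- The center of a subgroup. -/
def ctr (P : Subgroup Ω) : Subgroup Ω := P ⊓ Subgroup.centralizer (P : Set Ω)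

/-- The maps fixing `V` pointwise are conjugations by elements of `S`. -/
def CThin (F : FusionSystem S) (V : Subgroup Ω) : Prop :=
  ∀ P f, IsMor F P f → (∃ g, IsMor F (P ⊔ V) g ∧ (∀ x ∈ P, g x = f x) ∧ ∀ x ∈ V, g x = x) →
    ∃ s ∈ S, ∀ x ∈ P, f x = cj s x

omit hp in
theorem cThin_of_nThin [Finite S] {V : Subgroup Ω} (hV : normalizerIn S V = S) (h : NThin F V) : CThin F V := by
  intro P f hf ⟨g, hg, hgf, hgV⟩
  refine h P f hf (hV.symm ▸ hf.le) ⟨g, hg, hgf, ?_⟩
  exact (hg.restrict le_sup_right).img_eq_self fun x hx => (hgV x hx).symm ▸ hx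

omit hp in
theorem normalizerIn_ctr : normalizerIn S (ctr S) = S := by
  refine le_antisymm normalizerIn_le fun s hs => mem_normalizerIn.mpr ⟨hs, ?_⟩
  refine Subgroup.mem_normalizer_iff.mpr fun x => ?_
  constructor
  · intro hx
    rwa [show s * x * s⁻¹ = x by rw [(Subgroup.mem_inf.mp hx).2 s hs, mul_inv_cancel_right]]
  · intro hx
    have h1 := (Subgroup.mem_inf.mp hx).2 s hs
    have h2 : s * x * s⁻¹ = x := by
      have : s * (s * x * s⁻¹) = s * x := by rw [h1]; group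
      exact mul_left_cancel this
    rwa [h2] at hx

/-- `J(Q)` as a functor. -/
def jFunctor : PFunctor'.{u} p where
  W Q _ := thompsonSubgroupAOf (⊤ : Subgroup Q)
  ne_bot Q _ _ hQ hnt := by
    intro h
    obtain ⟨x, hx⟩ := exists_ne (1 : Q)
    obtain ⟨A, hA'⟩ := LocalEven.maxAb_nonempty (⊤ : Subgroup Q)
    obtain ⟨-, hc, hmax⟩ := LocalEven.mem_maxAb.1 hA'
    have hA0 : A = ⊥ := le_bot_iff.mp ((LocalEven.le_jAb hA').trans
      (by rw [← LocalEven.thompsonSubgroupAOf_eq_jAb]; exact h.le))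
    have h1 := hmax _ (le_top : Subgroup.zpowers x ≤ ⊤) inferInstance
    rw [hA0, Subgroup.card_bot] at h1
    exact hx (Subgroup.mem_bot.mp ((Subgroup.eq_bot_of_card_le _ h1).le (Subgroup.mem_zpowers x)))
  equiv Q R _ _ _ _ φ := by
    show (thompsonSubgroupAOf (⊤ : Subgroup Q)).map φ.toMonoidHom = thompsonSubgroupAOf (⊤ : Subgroup R)
    rw [map_jAOf φ.injective, Subgroup.map_top_of_surjective _ φ.surjective]

omit hp in
theorem jFunctor_at (P : Subgroup Ω) : (jFunctor (p := p)).at P = thompsonSubgroupAOf P := by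
  show (thompsonSubgroupAOf (⊤ : Subgroup P)).map P.subtype = thompsonSubgroupAOf P
  rw [map_jAOf P.subtype_injective, ← MonoidHom.range_eq_map, Subgroup.range_subtype]

variable {L : Type u} [Group L] {ι : S →* L}

/-- In a model, a thin centralizer system gives a normal `p`-complement in the centralizer. -/
theorem model_centralizer_complement [Finite S] (hL : F.IsModel p L ι) (hV : CThin F (ctr S)) :
    HasNormalPComplement p (Subgroup.centralizer
      ((ι.range ⊓ Subgroup.centralizer (ι.range : Set L) : Subgroup L) : Set L)) := by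
  obtain ⟨hfin, hr, ⟨T, hT⟩, -⟩ := id hL
  set W := ι.range ⊓ Subgroup.centralizer (ι.range : Set L)
  set V := ctr S with hVdef
  have hVS : V ≤ S := inf_le_left
  have hVW : ∀ b : S, (b : Ω) ∈ V → ι b ∈ W := fun b hb => ⟨⟨b, rfl⟩, by
    rintro _ ⟨c, rfl⟩
    rw [← map_mul, ← map_mul]
    exact congrArg ι (Subtype.ext ((Subgroup.mem_inf.mp hb).2 _ c.2))⟩
  have hTN : (T : Subgroup L) ≤ Subgroup.centralizer (W : Set L) := fun t ht w hw =>
    ((Subgroup.mem_inf.mp hw).2 t (hT.le ht)).symm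
  refine CfsgLib.Transfer.hasNormalPComplement_of_fusion (T.subtype hTN) fun x hx g hgx => ?_
  obtain ⟨a, ha⟩ := hT.le hx
  set P := Subgroup.zpowers (a : Ω)
  have hPS : P ≤ S := Subgroup.zpowers_le.mpr a.2
  have hfix : ∀ b : S, (b : Ω) ∈ V → (g : L) * ι b * (g : L)⁻¹ = ι b := fun b hb => by
    rw [← g.2 _ (hVW b hb), mul_inv_cancel_right]
  have hgood : ∀ b : S, (b : Ω) ∈ P ⊔ V → (g : L) * ι b * (g : L)⁻¹ ∈ ι.range := by
    intro b hb
    have hsup : (P.subgroupOf S) ⊔ (V.subgroupOf S) ≤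
        ι.range.comap ((MulAut.conj (g : L)).toMonoidHom.comp ι) := by
      refine sup_le (fun c hc => ?_) fun c hc => ?_
      · obtain ⟨n, hn⟩ := Subgroup.mem_zpowers_iff.mp (Subgroup.mem_subgroupOf.mp hc)
        have : c = a ^ n := Subtype.ext (hn.symm.trans (SubgroupClass.coe_zpow a n).symm)
        rw [this]
        refine Subgroup.zpow_mem _ ?_ n
        show (g : L) * ι a * (g : L)⁻¹ ∈ ι.range
        rw [ha]
        exact hT.le hgx
      · show (g : L) * ι c * (g : L)⁻¹ ∈ ι.range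
        rw [hfix c hc]
        exact ⟨c, rfl⟩
    rw [← Subgroup.subgroupOf_sup hPS hVS] at hsup
    exact hsup (Subgroup.mem_subgroupOf.mpr hb)
  obtain ⟨hf, hind⟩ := isMor_pullConj hr (sup_le hPS hVS) hgood
  obtain ⟨s, hs, e⟩ := hV P _ (hf.restrict le_sup_left) ⟨pullConj ι (g : L), hf, fun _ _ => rfl,
    fun y hy => by
      have h1 := hind ⟨y, hVS hy⟩ ⟨_, hf.mem (Subgroup.mem_sup_right hy)⟩
        (Subgroup.mem_sup_right hy) rfl
      rw [hfix ⟨y, hVS hy⟩ hy] at h1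
      exact congrArg Subtype.val (hr.1 h1)⟩
  have ha' : (a : Ω) ∈ P := Subgroup.mem_zpowers _
  have h1 := hind a ⟨_, hf.mem (Subgroup.mem_sup_left ha')⟩ (Subgroup.mem_sup_left ha') rfl
  rw [show (⟨_, hf.mem (Subgroup.mem_sup_left ha')⟩ : S) = ⟨s, hs⟩ * a * ⟨s, hs⟩⁻¹ from
    Subtype.ext (e _ ha'), map_mul, map_mul, map_inv, ha] at h1
  exact ⟨⟨ι ⟨s, hs⟩, hTN (hT.ge ⟨_, rfl⟩)⟩, hT.ge ⟨⟨s, hs⟩, rfl⟩, Subtype.ext h1⟩

theorem model_thin_of_thompson [Finite S] (hS : IsPGroup p S) (hL : F.IsModel p L ι)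
    (hS4 : p ≠ 2 ∨ ¬ Involves (Perm (Fin 4)) L) (hC : CThin F (ctr S))
    (hN : NThin F ((jFunctor (p := p)).at S)) : Thin F := by
  obtain ⟨hfin, hr, ⟨T, hT⟩, -⟩ := id hL
  refine thin_of_range_eq_top hr (model_range_eq_top hL
    (LocalEven.hasNormalPComplement_of_jAb T hS4 ?_ ?_))
  · rw [hT]; exact model_centralizer_complement hL hC
  · rw [← LocalEven.thompsonSubgroupAOf_eq_jAb, hT, ← jFunctor_at (p := p),
      ← (jFunctor (p := p)).map_at_eq hS hr.1]
    refine model_normalizer_complement hL ((jFunctor (p := p)).at_le S)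
      (mem_normalizer_of_conj_le fun s hs => ?_) hN
    rw [(jFunctor (p := p)).img_at hS (isMor_cj F (le_refl S) hs),
      img_cj_of_normalizer (Subgroup.le_normalizer hs)]

/-- Thompson's criterion for fusion systems. -/
theorem thin_of_thompson (H : Type*) [Group H]
    (hH : p ≠ 2 ∨ ∀ (L : Type u) [Group L], ¬ Involves H L → ¬ Involves (Perm (Fin 4)) L)
    [Finite S] (hS : IsPGroup p S) (hF : F.IsSaturated p) (hfree : F.IsSectionFree p H)
    (hC : CThin F (ctr S)) (hN : NThin F ((jFunctor (p := p)).at S)) : Thin F := by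
  have hctr : ∀ (Ω' : Type u) [Group Ω'] (T : Subgroup Ω') [Finite T], IsPGroup p T → T ≠ ⊥ →
      ctr T ≠ ⊥ := by
    intro Ω' _ T _ hT hT1 h
    have : Nontrivial T := (Subgroup.nontrivial_iff_ne_bot _).mpr hT1
    obtain ⟨z, hz1⟩ := @exists_ne _ hT.center_nontrivial (1 : Subgroup.center T)
    have hzZ : ((z : T) : Ω') ∈ ctr T := ⟨(z : T).2, fun y hy =>
      congrArg Subtype.val (Subgroup.mem_center_iff.mp z.2 ⟨y, hy⟩)⟩
    rw [h, Subgroup.mem_bot] at hzZ
    exact hz1 (Subtype.ext (Subtype.ext hzZ))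
  refine thin_of_models (p := p) H
    (fun Ω' _ S' F' => CThin F' (ctr S') ∧ NThin F' ((jFunctor (p := p)).at S'))
    ?_ ?_ ?_ ?_ _ _ Ω S F rfl rfl hS hF hfree ⟨hC, hN⟩
  · intro Ω' _ S' F' D hsub h
    refine ⟨fun P f hf hg => ?_, fun P f hf hP hg => ?_⟩
    · obtain ⟨g, hg, hgf, hgV⟩ := hg
      exact h.1 P f (hsub _ _ hf) ⟨g, hsub _ _ hg, hgf, hgV⟩
    · obtain ⟨g, hg, hgf, hgV⟩ := hg
      exact h.2 P f (hsub _ _ hf) hP ⟨g, hsub _ _ hg, hgf, hgV⟩
  · intro Ω' _ S' T _ F' D hS' _ _ hTS hT hsub hV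
    have : Finite T := finite_of_le hTS
    refine ⟨cThin_of_nThin normalizerIn_ctr (hV _ (hctr Ω' T (isPGroup_of_le hTS hS') hT) inf_le_left
      fun f hf hfT => ?_), hV _ ((jFunctor (p := p)).at_ne_bot (isPGroup_of_le hTS hS') hT)
      ((jFunctor (p := p)).at_le T) fun f hf hfT => ?_⟩
    · refine (hf.restrict inf_le_left).img_eq_self fun x hx => ⟨hfT.le (mem_img_of_mem f hx.1), ?_⟩
      intro y hy
      obtain ⟨z, hz, rfl⟩ := hf.mem_img.mp (hfT.ge hy)
      rw [← hf.map_mul hz hx.1, ← hf.map_mul hx.1 hz, hx.2 z hz]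
    · rw [(jFunctor (p := p)).img_at hS' hf, hfT]
  · intro Ω₁ _ S₁ _ F₁ R Ω₂ _ S₂ θ E hS₁ _ _ hE _ hS₂ hV
    have hr : θ.range = S₂ := (id hE).2.2.1
    have : Finite S₂ := hr ▸ Finite.of_surjective _ θ.rangeRestrict_surjective
    have hp₂ : IsPGroup p S₂ := hr ▸ hS₁.of_surjective _ θ.rangeRestrict_surjective
    refine ⟨cThin_of_nThin normalizerIn_ctr (hV _ (hctr Ω₂ S₂ hp₂ hS₂) inf_le_left normalizerIn_ctr),
      hV _ ((jFunctor (p := p)).at_ne_bot hp₂ hS₂) ((jFunctor (p := p)).at_le S₂)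
        (mem_normalizer_of_conj_le fun s hs => ?_)⟩
    rw [(jFunctor (p := p)).img_at hp₂ (isMor_cj E (le_refl S₂) hs),
      img_cj_of_normalizer (Subgroup.le_normalizer hs)]
  · intro Ω₁ _ S₁ _ F₁ hS₁ _ h L _ ι hL hnot
    exact model_thin_of_thompson hS₁ hL (hH.imp id fun h' => h' L hnot) h.1 h.2

end CfsgLib.Fusion
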