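import Mathlib
import Cfsg.Agent.Lib.Fusion.Criteria
import Cfsg.Agent.Lib.Fusion.Control
import Cfsg.Agent.Lib.Fusion.ThinThompson
import Cfsg.Agent.Lib.Techniques.Averaging

/-! `Z(F)` is a direct factor of `Z(S)` when `Z(S) ≤ O_p(F)`. -/
set_option autoImplicit false

universe u

namespace CfsgLib.Fusion

open Cfsg Cfsg.FusionSystem

variable {p : ℕ} [hp : Fact p.Prime] {Ω : Type u} [Group Ω] {S : Subgroup Ω} {F : FusionSystem S}

theorem center_directFactor_of_le_core [Finite S] (hS : IsPGroup p S) (hF : F.IsSaturated p)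
    (hZ : ctr S ≤ F.core) :
    ∃ K : Subgroup Ω, K ≤ ctr S ∧ F.center ⊓ K = ⊥ ∧ F.center ⊔ K = ctr S := by
  classical
  set Q := F.core with hQdef
  have hQ : F.IsNormal Q := isNormal_core F
  have hQsc := (stronglyClosed_iff.mp (isNormal_stronglyClosed hQ)).2
  set A := Q ⊓ Subgroup.centralizer (Q : Set Ω) with hA
  have hAS : A ≤ S := inf_le_left.trans hQ.1
  have hfin : Finite A := finite_of_le hAS
  have hZA : ctr S ≤ A := fun x hx => ⟨hZ hx, fun y hy => hx.2 y (hQ.1 hy)⟩
  have hmapA : ∀ P g, IsMor F P g → Q ≤ P → img Q g = Q → ∀ x ∈ A, g x ∈ A := by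
    intro P g hg hQP hgQ x hx
    refine ⟨hQsc P g hg x (hQP hx.1) hx.1, fun y hy => ?_⟩
    obtain ⟨y₀, hy₀, rfl⟩ := (hg.restrict hQP).mem_img.mp (hgQ.ge hy)
    rw [← hg.map_mul (hQP hy₀) (hQP hx.1), ← hg.map_mul (hQP hx.1) (hQP hy₀), hx.2 y₀ hy₀]
  have hAn : normalizerIn S A = S := mem_normalizer_of_conj_le fun s hs => img_le fun x hx =>
    hmapA Q (cj s) (isMor_cj F hQ.1 hs) le_rfl
      ((isMor_cj F hQ.1 hs).img_eq_self fun y hy => conj_mem_of_isNormal hQ hs hy) x hx
  obtain ⟨-, R, hR⟩ := (isFullyAutomized_of_normalized hS hF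
    (isFullyNormalized_of_normal (F := F) hAS hAn)).1
  letI : CommGroup A := { (inferInstance : Group A) with
    mul_comm := fun a b => Subtype.ext (b.2.2 a a.2.1) }
  have : Finite (MulAut A) := Finite.of_injective (fun α => (⇑α : A → A)) DFunLike.coe_injective
  have hm : (Nat.card A).Coprime (R : Subgroup ↥(F.autGroup A)).index := by
    obtain ⟨k, hk⟩ := (isPGroup_of_le hAS hS).exists_card_eq
    rw [hk]
    exact Nat.Coprime.pow_left _ ((Nat.Prime.coprime_iff_not_dvd hp.out).2 R.not_dvd_index)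
  letI : MulDistribMulAction ↥(F.autGroup A) A := MulDistribMulAction.compHom A (F.autGroup A).subtype
  have hsm : ∀ (l : ↥(F.autGroup A)) (a : A), ((l • a : A) : Ω) = autFun (l : MulAut A) a := fun l a =>
    (autFun_coe (l : MulAut A) a).symm
  set T : Subgroup ↥(F.autGroup A) := (R : Subgroup ↥(F.autGroup A)) with hTdef
  set Fx := FixedPoints.subgroup ↥T A with hFx
  -- the fixed points of the `S`-automizer are `Z(S)`
  have hZF : ∀ x : A, x ∈ Fx ↔ (x : Ω) ∈ ctr S := by
    intro x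
    constructor
    · intro hx
      refine ⟨hAS x.2, fun s hs => ?_⟩
      have hm := isMor_cj F hAS hs
      have him : img A (cj s) = A :=
        hm.img_eq_self fun y hy => (Subgroup.mem_normalizer_iff.mp
          (mem_normalizerIn.mp (hAn.ge hs)).2 y).mp hy
      obtain ⟨α, hα, hαe⟩ := exists_aut hm him
      have hαT : (⟨α, hα⟩ : ↥(F.autGroup A)) ∈ T := by
        rw [hR, Subgroup.mem_subgroupOf, mem_autInducedBy]
        exact ⟨s, hs, (mem_normalizerIn.mp (hAn.ge hs)).2, hαe⟩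
      have h1 := congrArg Subtype.val (hx (⟨⟨α, hα⟩, hαT⟩ : T))
      change ((α x : A) : Ω) = x at h1
      rw [← autFun_coe α x, hαe x x.2, cj_apply, mul_inv_eq_iff_eq_mul] at h1
      exact h1
    · rintro hx ⟨l, hl⟩
      refine Subtype.ext ?_
      change (((l : MulAut A) x : A) : Ω) = x
      rw [← autFun_coe (l : MulAut A) x]
      rw [hR, Subgroup.mem_subgroupOf, mem_autInducedBy] at hl
      obtain ⟨s, hs, -, hse⟩ := hl
      rw [hse x x.2, cj_apply, hx.2 s hs, mul_inv_cancel_right]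
  -- the fixed points of the automizer are `Z(F)`
  have hW : ∀ x : A, (∀ l : ↥(F.autGroup A), l • x = x) ↔ (x : Ω) ∈ F.center := by
    intro x
    constructor
    · intro hx
      refine le_center (Q := Subgroup.zpowers (x : Ω)) (isCentral_iff.mpr
        ⟨Subgroup.zpowers_le.mpr (hAS x.2), fun P f hf => ?_⟩) (Subgroup.mem_zpowers _)
      obtain ⟨g, hg, hgf, hgQ⟩ := (isNormal_iff.mp hQ).2 P f hf
      have hle : A ≤ P ⊔ Q := inf_le_left.trans le_sup_right
      have hgA : img A g = A :=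
        (hg.restrict hle).img_eq_self fun y hy => hmapA _ g hg le_sup_right hgQ y hy
      obtain ⟨α, hα, hαe⟩ := exists_aut (hg.restrict hle) hgA
      have hgx : g (x : Ω) = x := by
        rw [← hαe x x.2, ← hsm ⟨α, hα⟩, hx]
      refine ⟨g, hg.restrict (sup_le_sup_left (Subgroup.zpowers_le.mpr x.2.1) P), hgf,
        fun y hy => ?_⟩
      obtain ⟨n, rfl⟩ := Subgroup.mem_zpowers_iff.mp hy
      rw [hg.map_zpow (Subgroup.mem_sup_right x.2.1), hgx]
    · intro hx l
      refine Subtype.ext ?_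
      rw [hsm]
      exact ((isCentral_iff_fixed hS hF).mp (isCentral_center F)).2 A _
        (isMor_autFun hAS l.2) x x.2 hx
  have hCZ : F.center ≤ ctr S := fun x hx => by
    obtain ⟨hC1, hC2⟩ := (isCentral_iff_fixed hS hF).mp (isCentral_center F)
    refine ⟨hC1 hx, fun s hs => ?_⟩
    have h1 := hC2 S _ (isMor_cj F le_rfl hs) x (hC1 hx) hx
    rwa [cj_apply, mul_inv_eq_iff_eq_mul] at h1
  refine ⟨((CfsgLib.Techniques.avg (L := ↥(F.autGroup A)) (M := A) T).ker.map Fx.subtype).map A.subtype, ?_, ?_, ?_⟩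
  · rintro _ ⟨_, ⟨c, -, rfl⟩, rfl⟩
    exact (hZF _).1 c.2
  · rw [eq_bot_iff]
    rintro _ ⟨hw, _, ⟨c, hc, rfl⟩, rfl⟩
    have hfix : ∀ l : ↥(F.autGroup A), l • (c : A) = c := (hW c).2 hw
    have h1 : (c : A) ^ T.index = 1 := by
      rw [← CfsgLib.Techniques.avg_eq_pow T c hfix]; exact hc
    have h2 : (c : A) = 1 := (powCoprime hm).injective (by simpa using h1)
    simp [h2]
  · refine le_antisymm (sup_le hCZ ?_) fun x hx => ?_
    · rintro _ ⟨_, ⟨c, -, rfl⟩, rfl⟩
      exact (hZF _).1 c.2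
    set c : Fx := ⟨⟨x, hZA hx⟩, (hZF ⟨x, hZA hx⟩).2 hx⟩ with hc
    set b : A := (powCoprime hm).symm ((CfsgLib.Techniques.avg (L := ↥(F.autGroup A)) (M := A) T) c) with hb
    have hbm : b ^ T.index = (CfsgLib.Techniques.avg (L := ↥(F.autGroup A)) (M := A) T) c :=
      (powCoprime hm).apply_symm_apply _
    have hbfix : ∀ l : ↥(F.autGroup A), l • b = b := by
      intro l
      refine (powCoprime hm).injective ?_
      show (l • b) ^ T.index = b ^ T.index
      refine ((smul_pow' l b T.index).symm.trans ?_)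
      exact (congrArg (l • ·) hbm).trans ((CfsgLib.Techniques.smul_avg T c l).trans hbm.symm)
    set b' : Fx := ⟨b, fun t => hbfix t⟩ with hb'
    have hk : b'⁻¹ * c ∈ (CfsgLib.Techniques.avg (L := ↥(F.autGroup A)) (M := A) T).ker := by
      rw [MonoidHom.mem_ker, map_mul, map_inv, CfsgLib.Techniques.avg_eq_pow T b' hbfix]
      show (b ^ T.index)⁻¹ * (CfsgLib.Techniques.avg (L := ↥(F.autGroup A)) (M := A) T) c = 1
      rw [hbm, inv_mul_cancel]
    have e : x = (b : Ω) * (((b'⁻¹ * c : Fx) : A) : Ω) := by simp [hb', hc]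
    rw [e]
    exact Subgroup.mul_mem_sup ((hW b).1 hbfix) ⟨_, ⟨_, hk, rfl⟩, rfl⟩

end CfsgLib.Fusion
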