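import Mathlib
import Cfsg.Agent.Lib.Fusion.GoodTools
import Cfsg.Agent.Lib.Fusion.ThinFunctor
import Cfsg.Agent.Lib.Fusion.NormalizerSaturated
import Cfsg.Agent.Lib.Fusion.Criteria
import Cfsg.Agent.S5097

/-! Control of weak closure of elements: from models to saturated systems. -/
set_option autoImplicit false

universe u

namespace CfsgLib.Fusion

open Cfsg Cfsg.FusionSystem

variable {p : ℕ} [hp : Fact p.Prime]

/-- `E` is the centralizer of the `p^k`-th power of a central element, and contains the maps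
normalizing `W(S)`. -/
def CenterHyp (w : PFunctor'.{u} p) (k : ℕ) {Ω : Type u} [Group Ω] {S : Subgroup Ω}
    (F E : FusionSystem S) : Prop :=
  ∃ a : Ω, a ∈ S ⊓ Subgroup.centralizer (S : Set Ω) ∧
    (∀ P f, IsMor E P f → a ^ p ^ k ∈ P → f (a ^ p ^ k) = a ^ p ^ k) ∧
    (∀ P f, IsMor F P f → a ^ p ^ k ∈ P → f (a ^ p ^ k) = a ^ p ^ k → IsMor E P f) ∧
    NGood F E (w.at S)

variable {Ω : Type u} [Group Ω] {S : Subgroup Ω} {F : FusionSystem S}

/-- The centralizer system of an element of the center, as a system over `S`. -/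
theorem exists_centralizerAt {z : Ω} (hz : z ∈ S ⊓ Subgroup.centralizer (S : Set Ω)) :
    ∃ E : FusionSystem S, (∀ P f, IsMor E P f ↔ IsMor F P f ∧
      ∃ g, IsMor F (P ⊔ Subgroup.zpowers z) g ∧ (∀ x ∈ P, g x = f x) ∧ g z = z) := by
  obtain ⟨C, hC⟩ := Cfsg.Agent.S5097.result F (Subgroup.zpowers z)
    (Subgroup.zpowers_le.mpr (Subgroup.mem_inf.mp hz).1)
  have hSC : centralizerIn S (Subgroup.zpowers z) = S := by
    refine le_antisymm inf_le_left (le_inf le_rfl fun s hs y hy => ?_)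
    obtain ⟨n, rfl⟩ := Subgroup.mem_zpowers_iff.mp hy
    exact (Commute.zpow_left (Commute.symm ((Subgroup.mem_inf.mp hz).2 s hs : s * z = z * s)) n).eq
  obtain ⟨E, hE⟩ := exists_system_of_eq hSC C
  refine ⟨E, fun P f => ?_⟩
  rw [hE, isMor_centralizerSystem hC, hSC]
  constructor
  · rintro ⟨hf, -, -, g, hg, hgf, hgz⟩
    exact ⟨hf, g, hg, hgf, hgz z (Subgroup.mem_zpowers z)⟩
  · rintro ⟨hf, g, hg, hgf, hgz⟩
    refine ⟨hf, hf.le, fun x hx => hf.mem hx, g, hg, hgf, fun x hx => ?_⟩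
    obtain ⟨n, rfl⟩ := Subgroup.mem_zpowers_iff.mp hx
    rw [hg.map_zpow (Subgroup.mem_sup_right (Subgroup.mem_zpowers z)), hgz]

theorem centerHyp_quot (w : PFunctor'.{u} p) (k : ℕ)
    (hwZ : ∀ (Ω : Type u) [Group Ω] (S : Subgroup Ω) [Finite S], IsPGroup p S →
      S ⊓ Subgroup.centralizer (S : Set Ω) ≤ w.at S)
    [Finite S] {E : FusionSystem S} {Q : Subgroup Ω} {Ω' : Type u} [Group Ω'] {S' : Subgroup Ω'}
    {θ : S →* Ω'} {Fb : FusionSystem S'} (hS : IsPGroup p S) (hF : F.IsSaturated p)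
    (hH : CenterHyp w k F E) (hE : F.IsFactorSystem Q θ Fb) (hQ : F.IsNormal Q)
    (hinn : ∀ f, IsMor F Q f → ∃ s ∈ S, ∀ x ∈ Q, f x = cj s x) (hS' : S' ≠ ⊥)
    (hNT : ∀ V, V ≠ ⊥ → V ≤ S' → normalizerIn S' V = S' → ∀ P f, IsMor Fb P f →
      (∃ g, IsMor Fb (P ⊔ V) g ∧ (∀ x ∈ P, g x = f x) ∧ img V g = V) →
      ∃ G, IsMor F (preimageAlong θ P) G ∧ IsMor E (preimageAlong θ P) G ∧
        ∀ (x : S) (hgx : G x ∈ S), θ x ∈ P → f (θ x) = θ ⟨G x, hgx⟩)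
    (hIH : ∀ Eb : FusionSystem S', CenterHyp w k Fb Eb → AllGood Fb Eb) : AllGood F E := by
  obtain ⟨a, ha, hE1, hE2, -⟩ := hH
  obtain ⟨haS, hac⟩ := Subgroup.mem_inf.mp ha
  have hzS : a ^ p ^ k ∈ S := S.pow_mem haS _
  have hr : θ.range = S' := (id hE).2.2.1
  have hker := (id hE).2.1
  have : Finite S' := hr ▸ Finite.of_surjective _ θ.rangeRestrict_surjective
  have hp' : IsPGroup p S' := hr ▸ hS.of_surjective _ θ.rangeRestrict_surjective
  set b := θ ⟨a, haS⟩ with hb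
  have hbc : b ∈ S' ⊓ Subgroup.centralizer (S' : Set Ω') := by
    refine ⟨hr.le ⟨_, rfl⟩, fun y hy => ?_⟩
    obtain ⟨x, rfl⟩ := hr.ge hy
    rw [hb, ← map_mul, ← map_mul]
    exact congrArg θ (Subtype.ext (hac x x.2))
  have hbk : b ^ p ^ k = θ ⟨a ^ p ^ k, hzS⟩ := by rw [hb, ← map_pow]; rfl
  have hbz : b ^ p ^ k ∈ S' ⊓ Subgroup.centralizer (S' : Set Ω') := Subgroup.pow_mem _ hbc _
  obtain ⟨Eb, hEb⟩ := exists_centralizerAt (F := Fb) hbz
  have hV1 := w.at_ne_bot hp' hS'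
  have hVn : normalizerIn S' (w.at S') = S' := mem_normalizer_of_conj_le fun s hs => by
    have hm := isMor_cj Fb (le_refl S') hs
    rw [w.img_at hp' hm, img_cj_of_normalizer (Subgroup.le_normalizer hs)]
  have hall : AllGood Fb Eb := by
    refine hIH Eb ⟨b, hbc, fun P f hf hb' => ?_, fun P f hf hb' hfb => ?_, fun P f hf hP hg => ?_⟩
    · obtain ⟨-, g, -, hgf, hgz⟩ := (hEb P f).mp hf
      rw [← hgf _ hb', hgz]
    · refine (hEb P f).mpr ⟨hf, f, ?_, fun _ _ => rfl, hfb⟩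
      rwa [sup_eq_left.mpr (Subgroup.zpowers_le.mpr hb')]
    · obtain ⟨g, hg, hgf, hgV⟩ := hg
      obtain ⟨G, hG, hGE, hGe⟩ := hNT _ hV1 (w.at_le S') hVn _ g hg
        ⟨g, by rwa [sup_assoc, sup_idem], fun _ _ => rfl, hgV⟩
      have hbV : b ^ p ^ k ∈ P ⊔ w.at S' := Subgroup.mem_sup_right (hwZ Ω' S' hp' hbz)
      have hzX : a ^ p ^ k ∈ preimageAlong θ (P ⊔ w.at S') :=
        mem_preimageAlong.mpr ⟨hzS, hbk ▸ hbV⟩
      have h1 := hE1 _ G hGE hzX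
      refine (hEb P f).mpr ⟨hf, g,
        hg.restrict (sup_le le_sup_left (Subgroup.zpowers_le.mpr hbV)), hgf, ?_⟩
      have h2 := hGe ⟨a ^ p ^ k, hzS⟩ (show G (a ^ p ^ k) ∈ S by rw [h1]; exact hzS) (hbk ▸ hbV)
      rw [hbk, h2]
      exact congrArg θ (Subtype.ext h1)
  refine fun P f hf => le_iff_isMor.mp (alperin hS hF fun R hR α hα => ?_) P f hf
  have hRS : R ≤ S := hR.elim (fun h => h.le) essential_le
  have hQR : Q ≤ R := by
    rcases hR with rfl | hR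
    · exact hQ.1
    · exact le_of_normal_of_radical hS hQ hR.1 (essential_radical hS hR)
  have hzR : a ^ p ^ k ∈ R := by
    rcases hR with rfl | hR
    · exact hzS
    · refine hR.1.2 R (isConj_refl F hRS) (mem_centralizerIn.mpr ⟨hzS, fun y hy => ?_⟩)
      exact cj_fixed_iff.mpr ((Subgroup.mem_inf.mp (Subgroup.pow_mem _ ha (p ^ k))).2 y (hRS hy)).symm
  have hRn : F.IsFullyNormalized R := by
    rcases hR with rfl | hR
    · exact isFullyNormalized_self F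
    · exact hR.2.1
  let K : Subgroup (MulAut R) :=
    { carrier := {β | β ∈ F.autGroup R ∧ autFun β (a ^ p ^ k) = a ^ p ^ k}
      one_mem' := ⟨one_mem _, autFun_one hzR⟩
      mul_mem' := fun {x y} hx hy => ⟨mul_mem hx.1 hy.1, by rw [autFun_mul _ _ hzR, hy.2, hx.2]⟩
      inv_mem' := fun {x} hx => ⟨inv_mem hx.1, by
        conv_lhs => rw [← hx.2]
        exact autFun_inv_left x hzR⟩ }
  suffices F.autGroup R ≤ K from
    (autGroup_eq_set hRS α).mpr (hE2 _ _ (isMor_autFun hRS hα) hzR (this hα).2)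
  refine autGroup_le_of_coprime hS hF hRn (fun β hβ => ?_) fun β hβ hcop => ⟨hβ, ?_⟩
  · obtain ⟨s, hs, -, e⟩ := mem_autInducedBy.mp hβ
    exact ⟨autInducedBy_le F hRS hβ, (e _ hzR).trans
      (cj_fixed_iff.mpr ((Subgroup.mem_inf.mp (Subgroup.pow_mem _ ha (p ^ k))).2 s hs))⟩
  have hQfix := coprime_fixes_normal hS hQ hinn hRS hQR hβ hcop
  refine coprime_fixes_coset hS hQ.1 hQR hcop hQfix hzR ?_
  have hpre : preimageAlong θ (imageAlong θ R) = R := by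
    rw [preimage_image hker hQ.1 hRS, sup_eq_left.mpr hQR]
  have hbI : b ^ p ^ k ∈ imageAlong θ R := ⟨⟨_, hzS⟩, hzR, hbk.symm⟩
  obtain ⟨gb, hgb, hgbe⟩ := factor_push hE (isNormal_stronglyClosed hQ)
    ((imageAlong_le_range R).trans hr.le)
    (show IsMor F (preimageAlong θ (imageAlong θ R)) (autFun β) by rw [hpre]; exact isMor_autFun hRS hβ)
  obtain ⟨-, g, -, hgf, hgz⟩ := (hEb _ _).mp (hall _ _ hgb)
  have hβz : autFun β (a ^ p ^ k) ∈ S := hRS (autFun_mem β hzR)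
  have h3 : gb (b ^ p ^ k) = θ ⟨_, hβz⟩ := by
    rw [hbk]
    exact hgbe ⟨_, hzS⟩ hβz (hbk ▸ hbI)
  rw [← hgf _ hbI, hgz, hbk] at h3
  exact (hker (⟨_, hzS⟩⁻¹ * ⟨_, hβz⟩)).mp (by rw [map_mul, map_inv, ← h3, inv_mul_cancel])

variable {L : Type u} [Group L] {ι : S →* L}

theorem centerHyp_model (w : PFunctor'.{u} p) (k : ℕ)
    (hwZ : ∀ (Ω : Type u) [Group Ω] (S : Subgroup Ω) [Finite S], IsPGroup p S →
      S ⊓ Subgroup.centralizer (S : Set Ω) ≤ w.at S)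
    [Finite S] {E : FusionSystem S} (hS : IsPGroup p S) (hH : CenterHyp w k F E)
    (hL : F.IsModel p L ι)
    (hloc : ∀ (T : Sylow p L), ∀ c ∈ (T : Subgroup L) ⊓ Subgroup.centralizer ((T : Subgroup L) : Set L),
      (∀ g ∈ Subgroup.normalizer (w.at (T : Subgroup L) : Set L), g * c ^ p ^ k = c ^ p ^ k * g) →
      ∀ g : L, g * c ^ p ^ k = c ^ p ^ k * g) : AllGood F E := by
  obtain ⟨a, ha, hE1, hE2, hN⟩ := hH
  obtain ⟨hfin, hr, ⟨T, hT⟩, -⟩ := id hL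
  obtain ⟨haS, hac⟩ := Subgroup.mem_inf.mp ha
  have hzS : a ^ p ^ k ∈ S := S.pow_mem haS _
  set V := w.at S
  have hVn : normalizerIn S V = S := mem_normalizer_of_conj_le fun s hs => by
    rw [w.img_at hS (isMor_cj F (le_refl S) hs), img_cj_of_normalizer (Subgroup.le_normalizer hs)]
  have hVS : V ≤ S := w.at_le S
  have hzV : a ^ p ^ k ∈ V := hwZ Ω S hS (Subgroup.pow_mem _ ha _)
  have hc : ι ⟨a, haS⟩ ∈ (T : Subgroup L) ⊓ Subgroup.centralizer ((T : Subgroup L) : Set L) := by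
    refine ⟨hT.ge ⟨_, rfl⟩, fun y hy => ?_⟩
    obtain ⟨x, rfl⟩ := hT.le hy
    rw [← map_mul, ← map_mul]
    exact congrArg ι (Subtype.ext (hac x x.2))
  have hpow : ι ⟨a, haS⟩ ^ p ^ k = ι ⟨a ^ p ^ k, hzS⟩ := by rw [← map_pow]; rfl
  have hcen : ∀ g : L, g * ι ⟨a ^ p ^ k, hzS⟩ = ι ⟨a ^ p ^ k, hzS⟩ * g := by
    rw [← hpow]
    refine hloc T _ hc fun g hg => ?_
    rw [hT, ← w.map_at_eq hS hr.1] at hg
    rw [hpow]
    have hgood : ∀ b : S, (b : Ω) ∈ V → g * ι b * g⁻¹ ∈ ι.range := fun b hb => by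
      obtain ⟨d, -, hd⟩ := ((Subgroup.mem_normalizer_iff.mp hg) (ι b)).mp ⟨b, hb, rfl⟩
      exact ⟨d, hd⟩
    obtain ⟨hf, hind⟩ := isMor_pullConj hr hVS hgood
    have hVi : img V (pullConj ι g) = V := hf.img_eq_self fun y hy => by
      obtain ⟨d, hd, hde⟩ := ((Subgroup.mem_normalizer_iff.mp hg) (ι ⟨y, hVS hy⟩)).mp
        ⟨⟨y, hVS hy⟩, hy, rfl⟩
      have h2 : (d : Ω) = pullConj ι g y := congrArg Subtype.val
        (hr.1 (hde.trans (hind ⟨y, hVS hy⟩ ⟨_, hf.mem hy⟩ hy rfl).symm))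
      rw [← h2]
      exact hd
    have hfE := hN V _ hf (hVn.symm ▸ hVS)
      ⟨pullConj ι g, by rwa [sup_idem], fun _ _ => rfl, hVi⟩
    have h4 := hind ⟨_, hzS⟩ ⟨_, hzS⟩ hzV (hE1 _ _ hfE hzV).symm
    exact (eq_mul_inv_iff_mul_eq.mp h4).symm
  intro P f hf
  obtain ⟨g, hg⟩ := exists_induces hr hf
  have hgood : ∀ b : S, (b : Ω) ∈ P ⊔ Subgroup.zpowers (a ^ p ^ k) → g * ι b * g⁻¹ ∈ ι.range := by
    intro b hb
    have hsup : (P.subgroupOf S) ⊔ ((Subgroup.zpowers (a ^ p ^ k)).subgroupOf S) ≤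
        ι.range.comap ((MulAut.conj g).toMonoidHom.comp ι) := by
      refine sup_le (fun c hc => ⟨⟨_, hf.mem hc⟩, hg c _ hc rfl⟩) fun c hc => ?_
      obtain ⟨n, hn⟩ := Subgroup.mem_zpowers_iff.mp (Subgroup.mem_subgroupOf.mp hc)
      refine ⟨c, ?_⟩
      show ι c = g * ι c * g⁻¹
      rw [show c = ⟨a ^ p ^ k, hzS⟩ ^ n from
        Subtype.ext (by rw [SubgroupClass.coe_zpow]; exact hn.symm), map_zpow, ← conj_zpow,
        hcen g, mul_inv_cancel_right]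
    rw [← Subgroup.subgroupOf_sup hf.le (Subgroup.zpowers_le.mpr hzS)] at hsup
    exact hsup (Subgroup.mem_subgroupOf.mpr hb)
  obtain ⟨hk, hind⟩ := isMor_pullConj hr (sup_le hf.le (Subgroup.zpowers_le.mpr hzS)) hgood
  have hz' : a ^ p ^ k ∈ P ⊔ Subgroup.zpowers (a ^ p ^ k) :=
    Subgroup.mem_sup_right (Subgroup.mem_zpowers _)
  have hkz : pullConj ι g (a ^ p ^ k) = a ^ p ^ k := by
    have h1 := hind ⟨_, hzS⟩ ⟨_, hk.mem hz'⟩ hz' rfl
    rw [hcen g, mul_inv_cancel_right] at h1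
    exact congrArg Subtype.val (hr.1 h1)
  refine ((hE2 _ _ hk hz' hkz).restrict le_sup_left).congr fun x hx => ?_
  exact congrArg Subtype.val (hr.1 ((hind ⟨x, hf.le hx⟩ ⟨_, hk.mem (Subgroup.mem_sup_left hx)⟩
    (Subgroup.mem_sup_left hx) rfl).trans (hg ⟨x, hf.le hx⟩ ⟨f x, hf.mem hx⟩ hx rfl).symm))

/-- If the functor controls the central `p^k`-th powers in the models, it does so in every
saturated system. -/
theorem center_le_of_models (w : PFunctor'.{u} p) (k : ℕ) (H : Type*) [Group H]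
    (hwZ : ∀ (Ω : Type u) [Group Ω] (S : Subgroup Ω) [Finite S], IsPGroup p S →
      S ⊓ Subgroup.centralizer (S : Set Ω) ≤ w.at S)
    (hloc : ∀ (L : Type u) [Group L] [Finite L] (T : Sylow p L),
      Subgroup.centralizer ((pCore p L : Subgroup L) : Set L) ≤ pCore p L → ¬ Involves H L →
      ∀ c ∈ (T : Subgroup L) ⊓ Subgroup.centralizer ((T : Subgroup L) : Set L),
      (∀ g ∈ Subgroup.normalizer (w.at (T : Subgroup L) : Set L), g * c ^ p ^ k = c ^ p ^ k * g) →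
      ∀ g : L, g * c ^ p ^ k = c ^ p ^ k * g)
    [Finite S] (hS : IsPGroup p S) (hF : F.IsSaturated p) (hfree : F.IsSectionFree p H)
    {a : Ω} (ha : a ∈ S ⊓ Subgroup.centralizer (S : Set Ω))
    {N : FusionSystem (normalizerIn S (w.at S))} (hN : F.IsNormalizerSystem (w.at S) N)
    (haN : a ^ p ^ k ∈ N.center) : a ^ p ^ k ∈ F.center := by
  set z := a ^ p ^ k with hz
  have hzc : z ∈ S ⊓ Subgroup.centralizer (S : Set Ω) := Subgroup.pow_mem _ ha _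
  obtain ⟨E, hE⟩ := exists_centralizerAt (F := F) hzc
  have hall : AllGood F E := by
    refine good_of_models (p := p) H (fun Ω' _ S' F' E' => CenterHyp w k F' E') ?_ ?_ ?_ ?_ _ _ Ω S F E
      rfl rfl hS hF hfree ⟨a, ha, fun P f hf hb' => ?_, fun P f hf hb' hfb => ?_, fun P f hf hP hg => ?_⟩
    · intro Ω₁ _ S₁ F₁ E₁ D hsub ⟨b, hb, h1, h2, h3⟩
      refine ⟨b, hb, h1, fun P f hf => h2 P f (hsub _ _ hf), fun P f hf hP hg => ?_⟩
      obtain ⟨g, hg, hgf, hgV⟩ := hg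
      exact h3 P f (hsub _ _ hf) hP ⟨g, hsub _ _ hg, hgf, hgV⟩
    · intro Ω₁ _ S₁ T _ F₁ E₁ D E' hS₁ _ ⟨b, hb, h1, h2, _⟩ hTS hT hcT hE' hsub hV
      have : Finite T := finite_of_le hTS
      refine ⟨b, ⟨hcT hb, fun y hy => (Subgroup.mem_inf.mp hb).2 y (hTS hy)⟩,
        fun P f hf hbP => h1 P f ((hE' P f).mp hf).1 hbP,
        fun P f hf hbP hfb => (hE' P f).mpr
          ⟨h2 P f (hsub _ _ hf) hbP hfb, hf.le, fun x hx => hf.mem hx⟩,
        hV _ (w.at_ne_bot (isPGroup_of_le hTS hS₁) hT) (w.at_le T) fun f hf hfT => ?_⟩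
      rw [w.img_at hS₁ hf, hfT]
    · intro Ω₁ _ S₁ _ F₁ E₁ Q Ω₂ _ S₂ θ Fb hS₁ hF₁ hH₁ hE₁ hQ _ hinn hS₂ hNT hIH
      exact centerHyp_quot w k hwZ hS₁ hF₁ hH₁ hE₁ hQ hinn hS₂ hNT hIH
    · intro Ω₁ _ S₁ _ F₁ E₁ hS₁ _ hH₁ L₁ _ ι₁ hL₁ hnot
      have := hL₁.1
      exact centerHyp_model w k hwZ hS₁ hH₁ hL₁ fun T => hloc L₁ T hL₁.2.2.2 hnot
    · obtain ⟨-, g, -, hgf, hgz⟩ := (hE P f).mp hf
      rw [← hgf _ hb', hgz]
    · refine (hE P f).mpr ⟨hf, f, ?_, fun _ _ => rfl, hfb⟩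
      rwa [sup_eq_left.mpr (Subgroup.zpowers_le.mpr hb')]
    · obtain ⟨g, hg, hgf, hgV⟩ := hg
      have hfN : ∀ x ∈ P, f x ∈ normalizerIn S (w.at S) := fun x hx => by
        rw [mem_normalizer_of_conj_le fun s hs => by
          rw [w.img_at hS (isMor_cj F (le_refl S) hs),
            img_cj_of_normalizer (Subgroup.le_normalizer hs)]]
        exact hf.mem hx
      have hfN' := (isMor_normalizerSystem hN).mpr ⟨hf, hP, hfN, g, hg, hgf, hgV⟩
      have : Finite ↥(normalizerIn S (w.at S)) := finite_of_le normalizerIn_le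
      obtain ⟨φ, hφ, e⟩ := hfN'
      obtain ⟨ψ, hψ, hψ1, hψ2⟩ := (isCentral_center N).2 P φ hφ
      have hle : P ⊔ Subgroup.zpowers z ≤ P ⊔ N.center :=
        sup_le_sup_left (Subgroup.zpowers_le.mpr haN) _
      refine (hE P f).mpr ⟨hf, toFun ψ,
        (((isMor_normalizerSystem hN).mp (isMor_of_mem hψ)).1).restrict hle, fun x hx => ?_, ?_⟩
      · exact ((toFun_of_mem ψ (Subgroup.mem_sup_left hx)).trans (hψ1 ⟨x, hx⟩)).trans (e ⟨x, hx⟩)
      · exact (toFun_of_mem ψ (Subgroup.mem_sup_right haN)).trans (hψ2 ⟨z, haN⟩)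
  refine le_center (Q := Subgroup.zpowers z) ⟨Subgroup.zpowers_le.mpr (Subgroup.mem_inf.mp hzc).1,
    fun P φ hφ => ?_⟩ (Subgroup.mem_zpowers z)
  obtain ⟨-, g, hg, hgf, hgz⟩ := (hE _ _).mp (hall _ _ (isMor_of_mem hφ))
  obtain ⟨ψ, hψ, hψe⟩ := id hg
  refine ⟨ψ, hψ, fun x => (hψe _).trans ((hgf x x.2).trans (toFun_coe φ x)), fun x => ?_⟩
  obtain ⟨n, hn⟩ := Subgroup.mem_zpowers_iff.mp x.2
  refine (hψe _).trans ?_
  show g (x : Ω) = x
  rw [← hn, hg.map_zpow (Subgroup.mem_sup_right (Subgroup.mem_zpowers z)), hgz]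

end CfsgLib.Fusion
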