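import Mathlib
import Cfsg.Agent.Lib.Fusion.GoodCenter

/-! The centre of a system and of a normalizer system of a subgroup normal in `S`. -/
set_option autoImplicit false

universe u

namespace CfsgLib.Fusion

open Cfsg Cfsg.FusionSystem

variable {Ω : Type u} [Group Ω] {S : Subgroup Ω} [Finite S] {F : FusionSystem S} {V : Subgroup Ω}

theorem center_le_normalizerCenter (hV : V ≤ S) (hN : normalizerIn S V = S)
    {N : FusionSystem (normalizerIn S V)} (hNs : F.IsNormalizerSystem V N) : F.center ≤ N.center := by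
  have hC := isCentral_center F
  refine le_center ⟨hN.symm ▸ hC.1, fun P φ hφ => ?_⟩
  obtain ⟨hfF, hP, -, g, hg, hgf, hgV⟩ := (isMor_normalizerSystem hNs).mp (isMor_of_mem hφ)
  obtain ⟨γ, hγ, hγe⟩ := id hg
  obtain ⟨ψ, hψ, hψ1, hψ2⟩ := hC.2 _ γ hγ
  have hh := isMor_of_mem hψ
  have h1 : ∀ x ∈ P ⊔ V, toFun ψ x = g x := fun x hx =>
    ((toFun_of_mem ψ (Subgroup.mem_sup_left hx)).trans (hψ1 ⟨x, hx⟩)).trans (hγe ⟨x, hx⟩)
  have hle : P ⊔ F.center ⊔ V ≤ P ⊔ V ⊔ F.center :=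
    sup_le (sup_le (le_sup_left.trans le_sup_left) le_sup_right) (le_sup_right.trans le_sup_left)
  have hm : IsMor N (P ⊔ F.center) (toFun ψ) := by
    refine (isMor_normalizerSystem hNs).mpr ⟨(hh.restrict hle).restrict le_sup_left,
      hN.symm ▸ sup_le hfF.le hC.1, fun x hx => hN.symm ▸ hh.mem (hle (Subgroup.mem_sup_left hx)),
      toFun ψ, hh.restrict hle, fun _ _ => rfl, ?_⟩
    rw [img_congr (g := g) fun x hx => h1 x (Subgroup.mem_sup_right hx), hgV]
  obtain ⟨ρ, hρ, hρe⟩ := hm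
  refine ⟨ρ, hρ, fun x => ?_, fun x => ?_⟩
  · refine (hρe _).trans ?_
    exact (h1 x (Subgroup.mem_sup_left x.2)).trans ((hgf x x.2).trans (toFun_coe φ x))
  · refine (hρe _).trans ?_
    exact (toFun_of_mem ψ (Subgroup.mem_sup_right x.2)).trans (hψ2 x)

/-- The centre of a normalizer system of a subgroup normal in `S` is central in `S`. -/
theorem normalizerCenter_le (hN : normalizerIn S V = S) {N : FusionSystem (normalizerIn S V)} :
    N.center ≤ S ⊓ Subgroup.centralizer (S : Set Ω) := by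
  have : Finite ↥(normalizerIn S V) := finite_of_le normalizerIn_le
  intro z hz
  have hC := isCentral_center N
  refine ⟨normalizerIn_le (hC.1 hz), fun s hs => ?_⟩
  obtain ⟨φ, hφ, e⟩ := isMor_cj N (le_refl (normalizerIn S V)) (hN.ge hs)
  obtain ⟨ψ, hψ, h1, h2⟩ := hC.2 _ φ hφ
  have h3 : cj s z = z := by
    refine ((e ⟨z, hC.1 hz⟩).symm.trans (h1 ⟨z, hC.1 hz⟩).symm).trans ?_
    exact h2 ⟨z, hz⟩
  exact cj_fixed_iff.mp h3

theorem center_le_at {p : ℕ} [Fact p.Prime] (w : PFunctor'.{u} p)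
    (h : ∀ (Q : Type u) [Group Q] [Finite Q], IsPGroup p Q → Subgroup.center Q ≤ w.W Q)
    (hS : IsPGroup p S) : S ⊓ Subgroup.centralizer (S : Set Ω) ≤ w.at S := by
  intro x hx
  exact ⟨⟨x, (Subgroup.mem_inf.mp hx).1⟩, h ↥S hS (Subgroup.mem_center_iff.mpr fun y =>
    Subtype.ext ((Subgroup.mem_inf.mp hx).2 y y.2)), rfl⟩

theorem normalizerIn_at {p : ℕ} [Fact p.Prime] (w : PFunctor'.{u} p) (F : FusionSystem S)
    (hS : IsPGroup p S) : normalizerIn S (w.at S) = S :=
  mem_normalizer_of_conj_le fun s hs => by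
    rw [w.img_at hS (isMor_cj F (le_refl S) hs), img_cj_of_normalizer (Subgroup.le_normalizer hs)]

end CfsgLib.Fusion
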