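import Mathlib
import Cfsg.Agent.Lib.Fusion.PSolvableModel
import Cfsg.Agent.Lib.Involutions.ZStar.Main
import Cfsg.Agent.Lib.Involutions.Isolated

/-! The centre of the 2-fusion system of a finite group (via the Z*-theorem). -/
set_option autoImplicit false

universe u

namespace CfsgLib.Fusion

open Cfsg Cfsg.FusionSystem

theorem groupFusion_realized {G : Type*} [Group G] (S : Subgroup G) :
    (groupFusionSystem S).IsRealizedBy S.subtype :=
  ⟨S.subtype_injective, fun _ hP _ hφ =>
    ⟨fun h => ⟨h.2.2.choose, h.2.2.choose_spec⟩, fun ⟨g, hg⟩ => ⟨hP, hφ, g, hg⟩⟩⟩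

/-- With trivial odd core an element all of whose powers are weakly closed is central. -/
theorem mem_center_of_weaklyClosed {G : Type u} [Group G] [Finite G] (hO : oddCore G = ⊥)
    (P : Sylow 2 G) : ∀ k : ℕ, ∀ e ∈ (P : Subgroup G),
      (∀ (n : ℕ) (g : G), g * e ^ n * g⁻¹ ∈ (P : Subgroup G) → g * e ^ n * g⁻¹ = e ^ n) →
      e ^ 2 ^ k = 1 → e ∈ Subgroup.center G := by
  intro k
  induction k with
  | zero => intro e _ _ h; rw [pow_zero, pow_one] at h; rw [h]; exact one_mem _
  | succ k ih =>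
    intro e heP hwk h
    have h2 : e * e ∈ Subgroup.center G := ih _ (Subgroup.mul_mem _ heP heP)
      (fun n g => by rw [← sq, ← pow_mul]; exact hwk (2 * n) g)
      (by rw [← sq, ← pow_mul, ← pow_succ', h])
    set M := Subgroup.zpowers (e * e) with hM
    have hMc : M ≤ Subgroup.center G := Subgroup.zpowers_le.2 h2
    by_cases heM : e ∈ M
    · exact hMc heM
    haveI hMn : M.Normal := ⟨fun w hw g => by
      rw [Subgroup.mem_center_iff.1 (hMc hw) g, mul_inv_cancel_right]; exact hw⟩
    have hMP : M ≤ (P : Subgroup G) := Subgroup.zpowers_le.2 (Subgroup.mul_mem _ heP heP)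
    set π := QuotientGroup.mk' M with hπ
    have hq2 : orderOf (π e) = 2 := by
      refine Involutions.invol_iff.2 ⟨?_, fun h1 => heM ((QuotientGroup.eq_one_iff e).1 h1)⟩
      rw [← map_mul, hπ, QuotientGroup.mk'_apply, QuotientGroup.eq_one_iff]
      exact Subgroup.mem_zpowers _
    have hwc : ∀ g : G, π (g * e * g⁻¹) ∈ (P : Subgroup G).map π → g * e * g⁻¹ = e := by
      intro g hg
      obtain ⟨q, hq, hqe⟩ := hg
      have h1 : q⁻¹ * (g * e * g⁻¹) ∈ M := (QuotientGroup.eq).1 hqe
      have h3 : g * e * g⁻¹ ∈ (P : Subgroup G) := by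
        simpa using Subgroup.mul_mem _ hq (hMP h1)
      simpa using hwk 1 g (by simpa using h3)
    have hsurj : Function.Surjective π := QuotientGroup.mk'_surjective M
    have hiso : IsIsolatedInvolution (π e) := by
      refine Involutions.isolated_of_sylow (P.mapSurjective hsurj) hq2 fun q hq => ?_
      obtain ⟨g, rfl⟩ := hsurj q
      rw [← map_inv, ← map_mul, ← map_mul] at hq ⊢
      rw [hwc g (by rw [← Sylow.coe_mapSurjective]; exact hq)]
    have hOq : oddCore (G ⧸ M) = ⊥ := by
      haveI : (oddCore (G ⧸ M)).Normal := pPrimeCore_normal 2 _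
      have hle : (oddCore (G ⧸ M)).comap π ≤ M := by
        refine PLocal.le_of_central_of_pPrimeCore_eq_bot (p := 2) hO
          (QuotientGroup.le_comap_mk' M _) ?_ (P.isPGroup'.to_le hMP) ?_
        · intro x _
          exact Subgroup.mem_centralizer_iff.2 fun y hy =>
            (Subgroup.mem_center_iff.1 (hMc hy) x).symm
        · have hM0 : M = (⊥ : Subgroup (G ⧸ M)).comap π := by
            rw [MonoidHom.comap_bot, hπ, QuotientGroup.ker_mk']
          rw [show M.relIndex ((oddCore (G ⧸ M)).comap π) =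
              ((⊥ : Subgroup (G ⧸ M)).comap π).relIndex ((oddCore (G ⧸ M)).comap π) by rw [← hM0],
            Subgroup.relIndex_comap, Subgroup.map_comap_eq_self_of_surjective hsurj,
            Subgroup.relIndex_bot_left]
          exact Base.pPrimeCore_coprime 2 _
      rw [eq_bot_iff]
      intro q hq
      obtain ⟨g, rfl⟩ := hsurj q
      exact (QuotientGroup.eq_one_iff g).2 (hle hq)
    have hcen := Involutions.ZStar.mem_center_of_oddCore_eq_bot hiso hOq
    rw [Subgroup.mem_center_iff]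
    intro g
    refine mul_inv_eq_iff_eq_mul.1 (hwc g ⟨e, heP, ?_⟩)
    rw [map_mul, map_mul, map_inv, Subgroup.mem_center_iff.1 hcen, mul_inv_cancel_right]

theorem groupFusion_center_two {G : Type u} [Group G] [Finite G] (S : Sylow 2 G) :
    (groupFusionSystem (S : Subgroup G)).center = (S : Subgroup G) ⊓
      (Subgroup.center (G ⧸ oddCore G)).comap (QuotientGroup.mk' (oddCore G)) := by
  classical
  haveI : (oddCore G).Normal := pPrimeCore_normal 2 G
  set π := QuotientGroup.mk' (oddCore G) with hπ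
  set F := groupFusionSystem (S : Subgroup G) with hF
  set X := (S : Subgroup G) ⊓ (Subgroup.center (G ⧸ oddCore G)).comap π with hX
  obtain ⟨hr, T', hT'⟩ := realized_quotient (groupFusion_realized (S : Subgroup G)) S
    (Subgroup.range_subtype _).symm (oddCore G) (Base.pPrimeCore_coprime 2 G)
  refine le_antisymm (fun e he => ?_) (le_center (isCentral_iff.mpr ⟨inf_le_left, fun P f hf => ?_⟩))
  · obtain ⟨hZS, hext⟩ := isCentral_iff.mp (isCentral_center F)
    have heS := hZS he
    refine ⟨heS, ?_⟩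
    obtain ⟨k, hk⟩ := S.isPGroup' ⟨e, heS⟩
    have hk' : e ^ 2 ^ k = 1 := congrArg Subtype.val hk
    refine mem_center_of_weaklyClosed (Base.pPrimeCore_quotient_pPrimeCore 2 G) T' k (π e)
      (hT'.ge ⟨⟨e, heS⟩, rfl⟩) (fun n g hg => ?_) (by rw [← map_pow, hk', map_one])
    have hzp : Subgroup.zpowers (e ^ n) ≤ (S : Subgroup G) :=
      Subgroup.zpowers_le.2 (Subgroup.pow_mem _ heS n)
    have hin : ∀ a : (S : Subgroup G), (a : G) ∈ Subgroup.zpowers (e ^ n) →
        g * (π.comp (S : Subgroup G).subtype) a * g⁻¹ ∈ (π.comp (S : Subgroup G).subtype).range := by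
      intro a ha
      obtain ⟨i, hi⟩ := ha
      refine hT'.le ?_
      have h1 := Subgroup.zpow_mem _ hg i
      rw [conj_zpow, ← map_pow, ← map_zpow, show (e ^ n) ^ i = (a : G) from hi] at h1
      exact h1
    obtain ⟨hm, -⟩ := isMor_pullConj hr hzp hin
    obtain ⟨ψ, hψ, hψf, hψe⟩ := hext _ _ hm
    have hen : (e ^ n : G) ∈ Subgroup.zpowers (e ^ n) := Subgroup.mem_zpowers _
    obtain ⟨b, hb, hbe⟩ := pullConj_spec (π.comp (S : Subgroup G).subtype)
      (a := ⟨e ^ n, hzp hen⟩) (hin _ hen)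
    have hfix : pullConj (π.comp (S : Subgroup G).subtype) g (e ^ n) = e ^ n :=
      (hψf _ hen).symm.trans (hψe _ (Subgroup.pow_mem _ he n))
    have hb' : π (b : G) = g * π (e ^ n) * g⁻¹ := hbe
    rw [hb, hfix, map_pow] at hb'
    exact hb'.symm
  · obtain ⟨g, hg⟩ := exists_induces hr hf
    have hX' : ∀ a : (S : Subgroup G), (a : G) ∈ X → g * π a * g⁻¹ = π a := fun a ha => by
      rw [Subgroup.mem_center_iff.1 ha.2 g, mul_inv_cancel_right]
    have hgood : ∀ a : (S : Subgroup G), (a : G) ∈ P ⊔ X →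
        g * (π.comp (S : Subgroup G).subtype) a * g⁻¹ ∈ (π.comp (S : Subgroup G).subtype).range := by
      intro a ha
      have hsup : (P.subgroupOf (S : Subgroup G)) ⊔ (X.subgroupOf (S : Subgroup G)) ≤
          (π.comp (S : Subgroup G).subtype).range.comap
            ((MulAut.conj g).toMonoidHom.comp (π.comp (S : Subgroup G).subtype)) :=
        sup_le (fun x hx => ⟨⟨f x, hf.mem hx⟩, hg x _ hx rfl⟩)
          fun x hx => ⟨x, (hX' x hx).symm⟩
      refine hsup ?_
      rw [← Subgroup.subgroupOf_sup hf.le inf_le_left]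
      exact ha
    obtain ⟨hk, -⟩ := isMor_pullConj hr (sup_le hf.le inf_le_left) hgood
    refine ⟨_, hk, fun x hx => ?_, fun x hx => ?_⟩
    · obtain ⟨b, hb, hbe⟩ := pullConj_spec _ (hgood ⟨x, hf.le hx⟩ (Subgroup.mem_sup_left hx))
      rw [← hb]
      exact congrArg Subtype.val
        (hr.1 (hbe.trans (hg ⟨x, hf.le hx⟩ ⟨f x, hf.mem hx⟩ hx rfl).symm))
    · obtain ⟨b, hb, hbe⟩ := pullConj_spec _ (hgood ⟨x, hx.1⟩ (Subgroup.mem_sup_right hx))
      rw [← hb]
      exact congrArg Subtype.val (hr.1 (a₁ := b) (a₂ := ⟨x, hx.1⟩) (hbe.trans (hX' ⟨x, hx.1⟩ hx)))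

end CfsgLib.Fusion
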