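import Mathlib
import Cfsg.Agent.Lib.Fusion.Normal
import Cfsg.Agent.Lib.Fusion.Saturation
import Cfsg.Agent.Lib.Fusion.Criteria

/-!
A saturated 2-fusion system in which every element is conjugate into the centre lives on an
abelian group. A map from `⟨x⟩` to a central `⟨z⟩` shows that `x` is conjugate in `S` to none of
its other powers, since a cyclic 2-group has a 2-group of automorphisms. So involutions commute
and form a normal subgroup `A` of the system; extending the maps over `A` gives `A ≤ Z(S)` and,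
by induction on the order, every element is central.
-/
set_option autoImplicit false

namespace CfsgLib.Fusion.CentralConjTwo

open Cfsg Cfsg.FusionSystem CfsgLib.Fusion

variable {Ω : Type*} [Group Ω] {S : Subgroup Ω} {F : FusionSystem S}

/-- The elements of `S` centralized by `S`. -/
abbrev zS (S : Subgroup Ω) : Subgroup Ω := S ⊓ Subgroup.centralizer (S : Set Ω)

/-- Every element is conjugate into the centre. -/
def Hyp (F : FusionSystem S) : Prop :=
  ∀ x ∈ S, ∃ f, IsMor F (Subgroup.zpowers x) f ∧ f x ∈ zS S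

theorem hyp_of (h : ∀ x ∈ S, ∃ z ∈ S ⊓ Subgroup.centralizer (S : Set Ω), F.IsConjElt x z) :
    Hyp F := fun x hx => by
  obtain ⟨z, hz, φ, hφ, e⟩ := h x hx
  refine ⟨toFun φ, isMor_of_mem hφ, ?_⟩
  rw [toFun_of_mem φ (Subgroup.mem_zpowers x), e]
  exact hz

theorem zS_comm {z : Ω} (hz : z ∈ zS S) {s : Ω} (hs : s ∈ S) : s * z = z * s :=
  Subgroup.mem_centralizer_iff.mp hz.2 s hs

/-- A cyclic 2-group has a 2-group of automorphisms. -/
theorem isPGroup_mulAut_zpowers [Finite S] (hS : IsPGroup 2 S) {z : Ω} (hz : z ∈ S) :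
    IsPGroup 2 (MulAut (Subgroup.zpowers z)) := by
  have hle : Subgroup.zpowers z ≤ S := Subgroup.zpowers_le.2 hz
  haveI := finite_of_le hle
  haveI := finite_mulAut hle
  obtain ⟨n, hn⟩ := (hS.to_le hle).exists_card_eq
  haveI : NeZero (Nat.card (Subgroup.zpowers z)) := ⟨Nat.card_pos.ne'⟩
  have hc : Nat.card (MulAut (Subgroup.zpowers z)) = Nat.totient (Nat.card (Subgroup.zpowers z)) := by
    rw [Nat.card_congr (IsCyclic.mulAutMulEquiv (Subgroup.zpowers z)).toEquiv,
      Nat.card_eq_fintype_card, ZMod.card_units_eq_totient]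
  cases n with
  | zero => exact IsPGroup.of_card (n := 0) (by rw [hc, hn]; simp)
  | succ n =>
    refine IsPGroup.of_card (n := n) ?_
    rw [hc, hn, Nat.totient_prime_pow_succ Nat.prime_two]
    simp

/-- Elements conjugate into the centre are not conjugate in `S` to their other powers. -/
theorem conj_pow_eq [Finite S] (hS : IsPGroup 2 S) (hF : F.IsSaturated 2) (h : Hyp F)
    {x u : Ω} (hx : x ∈ S) (hu : u ∈ S) (hux : u * x * u⁻¹ ∈ Subgroup.zpowers x) :
    u * x * u⁻¹ = x := by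
  obtain ⟨f, hf, hz⟩ := h x hx
  set z := f x with hzdef
  have hzS : z ∈ S := hz.1
  have hP : Subgroup.zpowers z ≤ S := Subgroup.zpowers_le.2 hzS
  have hcentral : ∀ s ∈ S, ∀ y ∈ Subgroup.zpowers z, s * y * s⁻¹ = y := by
    intro s hs y hy
    obtain ⟨k, rfl⟩ := hy
    have : Commute s z := zS_comm hz hs
    show s * z ^ k * s⁻¹ = z ^ k
    rw [(this.zpow_right k).eq, mul_inv_cancel_right]
  have hn : F.IsFullyNormalized (Subgroup.zpowers z) := by
    refine ⟨hP, fun Q _ => ?_⟩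
    have hN : normalizerIn S (Subgroup.zpowers z) = S := by
      refine le_antisymm normalizerIn_le fun s hs => mem_normalizerIn.mpr ⟨hs, ?_⟩
      refine Subgroup.mem_normalizer_iff.mpr fun y => ⟨fun hy => by rwa [hcentral s hs y hy],
        fun hy => ?_⟩
      have := hcentral s⁻¹ (S.inv_mem hs) _ hy
      have e : y = s * y * s⁻¹ := by simpa [mul_assoc] using this
      rw [e]; exact hy
    rw [hN]
    exact Subgroup.card_le_of_le normalizerIn_le
  obtain ⟨-, hAle, -, hmax⟩ :=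
    isFullyAutomized_iff.mp (isFullyAutomized_of_normalized hS hF hn).1
  have hAeq : F.autGroup (Subgroup.zpowers z) = autInducedBy S (Subgroup.zpowers z) :=
    hmax _ ((isPGroup_mulAut_zpowers hS hzS).to_subgroup _) hAle le_rfl
  obtain ⟨j, hj⟩ := hux
  replace hj : x ^ j = u * x * u⁻¹ := hj
  obtain ⟨f', hf', hleft, -, -⟩ := hf.inverse
  have hxz : z ∈ img (Subgroup.zpowers x) f := mem_img_of_mem f (Subgroup.mem_zpowers x)
  have hzle : Subgroup.zpowers z ≤ img (Subgroup.zpowers x) f := Subgroup.zpowers_le.2 hxz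
  have hback : ∀ y ∈ Subgroup.zpowers z, f' y ∈ Subgroup.zpowers x := by
    rintro y ⟨k, rfl⟩
    show f' (z ^ k) ∈ _
    rw [hf'.map_zpow hxz, hzdef, hleft x (Subgroup.mem_zpowers x)]
    exact ⟨k, rfl⟩
  have hcx : ∀ y ∈ Subgroup.zpowers x, cj u y ∈ Subgroup.zpowers x := by
    rintro y ⟨k, rfl⟩
    show u * x ^ k * u⁻¹ ∈ _
    rw [← conj_zpow, ← hj, ← zpow_mul]
    exact ⟨j * k, rfl⟩
  have hm1 : IsMor F (Subgroup.zpowers z) (cj u ∘ f') :=
    (hf'.restrict hzle).comp (isMor_cj F hf.le hu) hback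
  have hm : IsMor F (Subgroup.zpowers z) (f ∘ (cj u ∘ f')) :=
    hm1.comp hf fun y hy => hcx _ (hback y hy)
  have hmz : (f ∘ (cj u ∘ f')) z = z ^ j := by
    show f (cj u (f' z)) = z ^ j
    rw [hzdef, hleft x (Subgroup.mem_zpowers x), cj, ← hj, hf.map_zpow (Subgroup.mem_zpowers x)]
  have himg : img (Subgroup.zpowers z) (f ∘ (cj u ∘ f')) = Subgroup.zpowers z := by
    refine hm.img_eq_self fun y hy => ?_
    obtain ⟨k, rfl⟩ := hy
    show (f ∘ (cj u ∘ f')) (z ^ k) ∈ _
    rw [hm.map_zpow (Subgroup.mem_zpowers z), hmz, ← zpow_mul]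
    exact ⟨j * k, rfl⟩
  obtain ⟨α, hα, hαe⟩ := exists_aut hm himg
  obtain ⟨s, hs, -, hse⟩ := mem_autInducedBy.mp (hAeq ▸ hα)
  have h1 : z ^ j = z := by
    rw [← hmz, ← hαe z (Subgroup.mem_zpowers z), hse z (Subgroup.mem_zpowers z), cj]
    exact hcentral s hs z (Subgroup.mem_zpowers z)
  rw [← hj]
  refine hf.inj ⟨j, rfl⟩ (Subgroup.mem_zpowers x) ?_
  rw [hf.map_zpow (Subgroup.mem_zpowers x)]
  exact h1

/-- The involutions of `S` commute. -/
theorem invol_commute [Finite S] (hS : IsPGroup 2 S) (hF : F.IsSaturated 2) (h : Hyp F)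
    {t v : Ω} (ht : t ∈ S) (hv : v ∈ S) (ht2 : t * t = 1) (hv2 : v * v = 1) : t * v = v * t := by
  have hti : t⁻¹ = t := inv_eq_of_mul_eq_one_right ht2
  have hvi : v⁻¹ = v := inv_eq_of_mul_eq_one_right hv2
  have e : t * (t * v) * t⁻¹ = (t * v)⁻¹ := by
    rw [mul_inv_rev, ← mul_assoc t t v, ht2, one_mul, hti, hvi]
  have := conj_pow_eq hS hF h (S.mul_mem ht hv) ht
    (e ▸ Subgroup.inv_mem _ (Subgroup.mem_zpowers _))
  rw [e, mul_inv_rev, hti, hvi] at this
  exact this.symm

/-- Every element is central. -/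
theorem mem_zS [Finite S] (hS : IsPGroup 2 S) (hF : F.IsSaturated 2) (h : Hyp F)
    {x : Ω} (hx : x ∈ S) : x ∈ zS S := by
  let A : Subgroup Ω :=
    { carrier := {y | y ∈ S ∧ y * y = 1}
      one_mem' := ⟨S.one_mem, one_mul 1⟩
      mul_mem' := fun {a b} ha hb => ⟨S.mul_mem ha.1 hb.1, by
        have c : a * b = b * a := invol_commute hS hF h ha.1 hb.1 ha.2 hb.2
        calc a * b * (a * b) = a * (b * a) * b := by group
          _ = a * (a * b) * b := by rw [c]
          _ = a * a * (b * b) := by group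
          _ = 1 := by rw [ha.2, hb.2, one_mul]⟩
      inv_mem' := fun {a} ha => ⟨S.inv_mem ha.1, by rw [← mul_inv_rev, ha.2, inv_one]⟩ }
  have hAS : A ≤ S := fun y hy => hy.1
  have hsc : F.StronglyClosed A := stronglyClosed_iff.mpr ⟨hAS, fun P f hf y hyP hy =>
    ⟨hf.mem hyP, by rw [← hf.map_mul hyP hyP, hy.2, hf.map_one]⟩⟩
  have hext := (isNormal_iff.mp (isNormal_of_abelian hS hF hsc
    (fun a ha b hb => invol_commute hS hF h ha.1 hb.1 ha.2 hb.2))).2
  have hA : A ≤ zS S := by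
    refine fun a ha => ⟨ha.1, Subgroup.mem_centralizer_iff.mpr fun s hs => ?_⟩
    obtain ⟨f, hf, hz⟩ := h s hs
    obtain ⟨g, hg, hgf, hgA⟩ := hext _ f hf
    have hsm : s ∈ Subgroup.zpowers s ⊔ A := Subgroup.mem_sup_left (Subgroup.mem_zpowers s)
    have ham : a ∈ Subgroup.zpowers s ⊔ A := Subgroup.mem_sup_right ha
    have hgs : g s = f s := hgf s (Subgroup.mem_zpowers s)
    have e : g (s * a) = g (a * s) := by
      rw [hg.map_mul hsm ham, hg.map_mul ham hsm, hgs]
      exact (zS_comm hz (hg.mem ham)).symm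
    exact hg.inj (Subgroup.mul_mem _ hsm ham) (Subgroup.mul_mem _ ham hsm) e
  haveI : Finite A := finite_of_le hAS
  have hCA : centralizerIn S A = S := by
    refine le_antisymm centralizerIn_le fun s hs => ⟨hs, ?_⟩
    exact Subgroup.mem_centralizer_iff.mpr fun a ha => (zS_comm (hA ha) hs).symm
  have hrA : F.IsReceptive A := by
    refine isReceptive_of_centralized hS hF ⟨hAS, fun Q _ => ?_⟩
    rw [hCA]
    exact Subgroup.card_le_of_le centralizerIn_le
  obtain ⟨n, hn⟩ := hS ⟨x, hx⟩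
  have hn' : x ^ 2 ^ n = 1 := congrArg Subtype.val hn
  clear hn
  induction n generalizing x with
  | zero => rw [pow_zero, pow_one] at hn'; rw [hn']; exact one_mem _
  | succ k ih =>
    have ha : x ^ 2 ^ k ∈ A :=
      ⟨S.pow_mem hx _, by rw [← pow_add, ← two_mul, ← pow_succ', hn']⟩
    obtain ⟨f, hf, hz⟩ := h x hx
    obtain ⟨g, hg, hgf, hgA⟩ := hext _ f hf
    obtain ⟨g', hg', hl, -, hg'i⟩ := (hg.restrict (le_sup_right : A ≤ _)).inverse
    rw [hgA] at hg' hg'i
    obtain ⟨k', hk', hk'e, -⟩ := exists_map_centralizer hrA hg' hg'i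
    rw [hCA, sup_eq_left.mpr hAS] at hk'
    have himg : img S k' = S := hk'.img_eq_self fun y hy => hk'.mem hy
    have hgx : g x = f x := hgf x (Subgroup.mem_zpowers x)
    have hw : k' (f x) ∈ zS S := by
      refine ⟨hk'.mem hz.1, Subgroup.mem_centralizer_iff.mpr fun y hy => ?_⟩
      obtain ⟨y', hy', rfl⟩ := hk'.mem_img.mp (himg.ge hy)
      rw [← hk'.map_mul hy' hz.1, ← hk'.map_mul hz.1 hy', zS_comm hz hy']
    set w := k' (f x) with hwdef
    have hwp : w ^ 2 ^ k = x ^ 2 ^ k := by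
      have hxm : x ∈ Subgroup.zpowers x ⊔ A := Subgroup.mem_sup_left (Subgroup.mem_zpowers x)
      have hga : g (x ^ 2 ^ k) ∈ A := hgA.le (mem_img_of_mem g ha)
      rw [hwdef, ← hk'.map_pow hz.1, ← hgx, ← hg.map_pow hxm, hk'e _ hga, hl _ ha]
    have hc : Commute x w⁻¹ := Commute.inv_right (zS_comm hw hx)
    have hy : x * w⁻¹ ∈ zS S := ih (S.mul_mem hx (S.inv_mem hw.1)) (by
      rw [hc.mul_pow, inv_pow, hwp, mul_inv_cancel])
    have := (zS S).mul_mem hy hw
    rwa [inv_mul_cancel_right] at this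

theorem isMulCommutative [Finite S] (hS : IsPGroup 2 S) (hF : F.IsSaturated 2) (h : Hyp F) :
    IsMulCommutative S :=
  ⟨⟨fun a b => Subtype.ext (zS_comm (mem_zS hS hF h b.2) a.2)⟩⟩

end CfsgLib.Fusion.CentralConjTwo
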