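import Mathlib
import Cfsg.Agent.Lib.Fusion.SylowAux

/-!
# Control of fixed points by quadratically acting elements, odd `p`

Let `G` act on an abelian `p`-group, let `S` be a subgroup of index prime to `p` and `X` a set of
elements of `S`, stable under `S`, acting quadratically. A point fixed by `S` and by the elements `g`
with `g⁻¹ X g ⊆ S` is fixed by `G`: its norm from `S` to `G` is a power of it.
-/

set_option autoImplicit false
set_option linter.unusedSectionVars false

namespace CfsgLib.Fusion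

variable {G V : Type*} [Group G] [CommGroup V] (ρ : G →* MulAut V) {p : ℕ} [hp : Fact p.Prime]

/-- An element acting quadratically. -/
def QuadEl (x : G) : Prop := ∀ v, ρ x (ρ x v / v) = ρ x v / v

theorem quadEl_pow {x : G} (h : QuadEl ρ x) (v : V) (i : ℕ) :
    ρ (x ^ i) v = v * (ρ x v / v) ^ i := by
  induction i with
  | zero => simp
  | succ i ih =>
    rw [pow_succ' x, map_mul, MulAut.mul_apply, ih, map_mul, map_pow, h v, pow_succ' (ρ x v / v),
      ← mul_assoc, mul_div_cancel]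

/-- The product over a set on which a quadratic element has no fixed point. -/
theorem prod_eq_one_of_quad (hodd : Odd p) {X : Type*} [MulAction G X] [DecidableEq X] (f : X → V)
    (hf : ∀ (g : G) q, f (g • q) = ρ g (f q)) {x : G} (hx : QuadEl ρ x) {k : ℕ}
    (hk : x ^ p ^ k = 1) : ∀ (n : ℕ) (O : Finset X), O.card = n → (∀ q ∈ O, f q ^ p = 1) →
      (∀ q ∈ O, x • q ∈ O) → (∀ q ∈ O, x • q ≠ q) → ∏ q ∈ O, f q = 1 := by
  intro n
  induction n using Nat.strong_induction_on with
  | _ n ih =>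
    intro O hn hfp hst hne
    rcases O.eq_empty_or_nonempty with rfl | ⟨q, hq⟩
    · simp
    set φ : X → X := fun y => x • y with hφ
    have hiter : ∀ i : ℕ, φ^[i] q = x ^ i • q := by
      intro i
      induction i with
      | zero => simp
      | succ i ih' => rw [Function.iterate_succ_apply', ih', hφ, pow_succ', mul_smul]
    have hper : Function.IsPeriodicPt φ (p ^ k) q := by
      show φ^[p ^ k] q = q
      rw [hiter, hk, one_smul]
    set m := Function.minimalPeriod φ q with hm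
    have hm0 : 0 < m := hper.minimalPeriod_pos (pow_pos hp.out.pos k)
    obtain ⟨j, -, hj⟩ := (Nat.dvd_prime_pow hp.out).mp hper.minimalPeriod_dvd
    have hj0 : j ≠ 0 := by
      rintro rfl
      exact hne q hq (Function.minimalPeriod_eq_one_iff_isFixedPt.mp (by rw [pow_zero] at hj; exact hj))
    have hmem : ∀ i : ℕ, x ^ i • q ∈ O := by
      intro i
      induction i with
      | zero => simpa using hq
      | succ i ih' => rw [pow_succ', mul_smul]; exact hst _ ih'
    set O₁ := (Finset.range m).image (fun i => x ^ i • q) with hO₁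
    have hsub : O₁ ⊆ O := Finset.image_subset_iff.mpr fun i _ => hmem i
    have hclosed : ∀ y, y ∈ O₁ ↔ ∃ i : ℕ, x ^ i • q = y := by
      intro y
      simp only [hO₁, Finset.mem_image, Finset.mem_range]
      refine ⟨fun ⟨i, _, e⟩ => ⟨i, e⟩, fun ⟨i, e⟩ => ⟨i % m, Nat.mod_lt _ hm0, ?_⟩⟩
      rw [← hiter, Function.iterate_mod_minimalPeriod_eq, hiter, e]
    have hinj : Set.InjOn (fun i => x ^ i • q) (Finset.range m : Set ℕ) := by
      intro a ha b hb e
      simp only [Finset.coe_range, Set.mem_Iio] at ha hb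
      simp only [← hiter] at e
      exact Function.iterate_injOn_Iio_minimalPeriod ha hb e
    have h1 : ∏ y ∈ O₁, f y = 1 := by
      rw [hO₁, Finset.prod_image hinj]
      simp only [hf, quadEl_pow ρ hx]
      rw [Finset.prod_mul_distrib, Finset.prod_const, Finset.card_range,
        Finset.prod_pow_eq_pow_sum]
      have hd : (ρ x (f q) / f q) ^ p = 1 := by
        rw [div_pow, ← map_pow, hfp q hq, map_one, div_one]
      have hpm : p ∣ m := by rw [hm, hj]; exact dvd_pow_self p hj0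
      obtain ⟨l, hl⟩ := hpm
      have hsum : p ∣ ∑ i ∈ Finset.range m, i := by
        refine (Nat.Coprime.dvd_mul_right (?_ : p.Coprime 2)).mp
          ((Finset.sum_range_id_mul_two m).symm ▸ Dvd.dvd.mul_right ⟨l, hl⟩ _)
        exact hodd.coprime_two_right
      obtain ⟨l', hl'⟩ := hsum
      rw [hl', hl, pow_mul, pow_mul, hfp q hq, hd, one_pow, one_pow, one_mul]
    have hdiff : ∀ y ∈ O \ O₁, x • y ∈ O \ O₁ := by
      intro y hy
      rw [Finset.mem_sdiff] at hy ⊢
      refine ⟨hst y hy.1, fun hc => hy.2 ?_⟩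
      obtain ⟨i, hi⟩ := (hclosed _).mp hc
      refine (hclosed y).mpr ⟨i + (m - 1), smul_left_cancel x ?_⟩
      rw [← mul_smul, ← pow_succ', add_assoc, Nat.sub_add_cancel hm0, pow_add, mul_smul, ← hiter m,
        Function.iterate_minimalPeriod, hi]
    have hlt : (O \ O₁).card < n := by
      rw [← hn]
      refine Finset.card_lt_card (Finset.sdiff_ssubset hsub ⟨q, ?_⟩)
      exact (hclosed q).mpr ⟨0, by simp⟩
    rw [← Finset.prod_sdiff hsub, h1, mul_one]
    exact ih _ hlt _ rfl (fun y hy => hfp y (Finset.mem_sdiff.mp hy).1) hdiff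
      fun y hy => hne y (Finset.mem_sdiff.mp hy).1

/-- The product over a set without common fixed point of the quadratic elements. -/
theorem prod_eq_one_of_moving [Finite G] (hodd : Odd p) {X : Type*} [MulAction G X] (f : X → V)
    (hf : ∀ (g : G) q, f (g • q) = ρ g (f q)) :
    ∀ (n : ℕ) (S : Subgroup G), Nat.card S = n → IsPGroup p S → ∀ 𝒳 : Set G, 𝒳 ⊆ S →
      (∀ s ∈ S, ∀ x ∈ 𝒳, s * x * s⁻¹ ∈ 𝒳) → (∀ x ∈ 𝒳, QuadEl ρ x) →
      ∀ (m : ℕ) (O : Finset X), O.card = m → (∀ q ∈ O, f q ^ p = 1) →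
        (∀ s ∈ S, ∀ q ∈ O, s • q ∈ O) → (∀ q ∈ O, ∃ x ∈ 𝒳, x • q ≠ q) → ∏ q ∈ O, f q = 1 := by
  classical
  intro n
  induction n using Nat.strong_induction_on with
  | _ n ihn =>
    intro S hn hS 𝒳 hXS hconj hquad m
    induction m using Nat.strong_induction_on with
    | _ m ihm =>
      intro O hm hfp hst hmove
      rcases O.eq_empty_or_nonempty with rfl | ⟨q₀, hq₀⟩
      · simp
      set O₁ := O.filter (fun q => ∃ s ∈ S, s • q₀ = q) with hO₁
      have hsub : O₁ ⊆ O := Finset.filter_subset _ _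
      by_cases hall : O₁ = O
      · obtain ⟨x₀, hx₀, hx₀q⟩ := hmove q₀ hq₀
        set K := MulAction.stabilizer G q₀ ⊓ S with hK
        have hKS : K < S := lt_of_le_of_ne inf_le_right fun e => hx₀q
          (MulAction.mem_stabilizer_iff.mp (e.ge (hXS hx₀)).1)
        obtain ⟨M, hM⟩ := (Set.toFinite {M : Subgroup G | K ≤ M ∧ M < S}).exists_maximal
          ⟨K, le_rfl, hKS⟩
        obtain ⟨⟨hKM, hMS⟩, hMmax⟩ := hM
        have hMn : S ≤ Subgroup.normalizer (M : Set G) := by
          have h1 := lt_inf_normalizer hS hMS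
          by_contra hne
          have h2 : S ⊓ Subgroup.normalizer (M : Set G) < S :=
            lt_of_le_of_ne inf_le_left fun e => hne (e ▸ inf_le_right)
          exact absurd (hMmax ⟨hKM.trans h1.le, h2⟩ h1.le) (not_le_of_gt h1)
        by_cases hXM : 𝒳 ⊆ (M : Set G)
        · have hlt : Nat.card M < n := by
            rw [← hn]
            by_contra hle
            exact hMS.ne (Subgroup.eq_of_le_of_card_ge hMS.le (Nat.le_of_not_lt hle))
          exact ihn _ hlt M rfl (hS.to_le hMS.le) 𝒳 hXM (fun s hs => hconj s (hMS.le hs)) hquad _ O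
            rfl hfp (fun s hs => hst s (hMS.le hs)) hmove
        · obtain ⟨x, hx, hxM⟩ := Set.not_subset.mp hXM
          obtain ⟨k, hk⟩ := hS ⟨x, hXS hx⟩
          refine prod_eq_one_of_quad ρ hodd f hf (hquad x hx)
            (congrArg Subtype.val hk : x ^ p ^ k = 1) _ O rfl hfp (fun q hq => hst x (hXS hx) q hq)
            fun q hq hfix => hxM ?_
          rw [← hall, hO₁, Finset.mem_filter] at hq
          obtain ⟨-, s, hs, rfl⟩ := hq
          have h1 : s⁻¹ * x * s ∈ K := ⟨MulAction.mem_stabilizer_iff.mpr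
            (by rw [mul_smul, mul_smul, hfix, inv_smul_smul]),
            S.mul_mem (S.mul_mem (S.inv_mem hs) (hXS hx)) hs⟩
          have h2 := (Subgroup.mem_normalizer_iff.mp (hMn hs) _).mp (hKM h1)
          rwa [show s * (s⁻¹ * x * s) * s⁻¹ = x by group] at h2
      · have hlt₁ : O₁.card < m := hm ▸ Finset.card_lt_card
          (Finset.ssubset_iff_subset_ne.mpr ⟨hsub, hall⟩)
        have hq₁ : q₀ ∈ O₁ := Finset.mem_filter.mpr ⟨hq₀, 1, S.one_mem, one_smul _ _⟩
        have hlt₂ : (O \ O₁).card < m :=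
          hm ▸ Finset.card_lt_card (Finset.sdiff_ssubset hsub ⟨q₀, hq₁⟩)
        have hst₁ : ∀ s ∈ S, ∀ q ∈ O₁, s • q ∈ O₁ := by
          intro s hs q hq
          obtain ⟨hqO, t, ht, rfl⟩ := Finset.mem_filter.mp hq
          exact Finset.mem_filter.mpr ⟨hst s hs _ hqO, s * t, S.mul_mem hs ht, mul_smul _ _ _⟩
        rw [← Finset.prod_sdiff hsub,
          ihm _ hlt₁ O₁ rfl (fun q hq => hfp q (hsub hq)) hst₁ fun q hq => hmove q (hsub hq),
          ihm _ hlt₂ (O \ O₁) rfl (fun q hq => hfp q (Finset.mem_sdiff.mp hq).1) ?_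
            (fun q hq => hmove q (Finset.mem_sdiff.mp hq).1), mul_one]
        intro s hs q hq
        rw [Finset.mem_sdiff] at hq ⊢
        refine ⟨hst s hs q hq.1, fun hc => hq.2 ?_⟩
        have := hst₁ s⁻¹ (S.inv_mem hs) _ hc
        rwa [inv_smul_smul] at this

variable [Finite G] {S : Subgroup G}

/-- The average of a cocycle over the cosets of a subgroup where it is trivial. -/
theorem exists_average {δ : G → V} (hcoc : ∀ g h, δ (g * h) = δ g * ρ g (δ h))
    (hS : ∀ s ∈ S, δ s = 1) : ∃ v, (∀ g, δ g ^ S.index * ρ g v = v) ∧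
      (∀ W : Subgroup V, (∀ g, δ g ∈ W) → v ∈ W) := by
  classical
  have : Fintype (G ⧸ S) := Fintype.ofFinite _
  refine ⟨∏ q : G ⧸ S, δ (Quotient.out q), fun g => ?_, fun W hW => W.prod_mem fun q _ => hW _⟩
  have hwd : ∀ a : G, δ (QuotientGroup.mk (s := S) a).out = δ a := fun a => by
    obtain ⟨s, hs⟩ := QuotientGroup.mk_out_eq_mul S a
    rw [hs, hcoc, hS _ s.2, map_one, mul_one]
  have h1 : ∀ q : G ⧸ S, δ g * ρ g (δ q.out) = δ (g • q).out := fun q => by
    rw [← hcoc, ← hwd (g * q.out)]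
    congr 2
    conv_rhs => rw [← QuotientGroup.out_eq' q]
    rfl
  have hcard : Fintype.card (G ⧸ S) = S.index := by
    rw [Subgroup.index, Nat.card_eq_fintype_card]
  calc δ g ^ S.index * ρ g (∏ q : G ⧸ S, δ q.out)
      = ∏ q : G ⧸ S, δ g * ρ g (δ q.out) := by
        rw [map_prod, Finset.prod_mul_distrib, Finset.prod_const, Finset.card_univ, hcard]
    _ = ∏ q : G ⧸ S, δ (g • q).out := Finset.prod_congr rfl fun q _ => h1 q
    _ = ∏ q : G ⧸ S, δ q.out := Equiv.prod_comp (MulAction.toPerm g) fun q : G ⧸ S => δ q.out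

/-- The elements of exponent `p`. -/
theorem fixed_elementary (hodd : Odd p) (hS : IsPGroup p S) (hidx : ¬ p ∣ S.index) {𝒳 : Set G}
    (hXS : 𝒳 ⊆ S) (hconj : ∀ s ∈ S, ∀ x ∈ 𝒳, s * x * s⁻¹ ∈ 𝒳) (hquad : ∀ x ∈ 𝒳, QuadEl ρ x)
    {v : V} (hv : v ^ p = 1) (hvS : ∀ s ∈ S, ρ s v = v)
    (hH : ∀ g : G, (∀ x ∈ 𝒳, g⁻¹ * x * g ∈ S) → ρ g v = v) : ∀ g, ρ g v = v := by
  classical
  have : Fintype (G ⧸ S) := Fintype.ofFinite _
  set f : G ⧸ S → V := fun q => ρ q.out v with hf
  have hwd : ∀ a : G, f (QuotientGroup.mk a) = ρ a v := fun a => by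
    obtain ⟨s, hs⟩ := QuotientGroup.mk_out_eq_mul S a
    rw [hf]
    show ρ (QuotientGroup.mk (s := S) a).out v = ρ a v
    rw [hs, map_mul, MulAut.mul_apply, hvS _ s.2]
  have hfeq : ∀ (g : G) q, f (g • q) = ρ g (f q) := fun g q => by
    obtain ⟨a, rfl⟩ := QuotientGroup.mk_surjective q
    rw [hwd a, MulAction.Quotient.smul_mk, hwd, smul_eq_mul, map_mul, MulAut.mul_apply]
  set P₁ := Finset.univ.filter (fun q : G ⧸ S => ∀ x ∈ 𝒳, x • q = q) with hP₁
  set P₂ := Finset.univ.filter (fun q : G ⧸ S => ¬ ∀ x ∈ 𝒳, x • q = q) with hP₂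
  have hstable : ∀ s ∈ S, ∀ q ∈ P₂, s • q ∈ P₂ := by
    intro s hs q hq
    rw [hP₂, Finset.mem_filter] at hq ⊢
    refine ⟨Finset.mem_univ _, fun hall => hq.2 fun x hx => ?_⟩
    have := hall _ (hconj s hs x hx)
    rwa [mul_smul, mul_smul, inv_smul_smul, smul_left_cancel_iff] at this
  have hmove : ∀ q ∈ P₂, ∃ x ∈ 𝒳, x • q ≠ q := fun q hq => by
    have := (Finset.mem_filter.mp hq).2
    push Not at this
    exact this
  have h2 : ∏ q ∈ P₂, f q = 1 := prod_eq_one_of_moving ρ hodd f hfeq _ S rfl hS 𝒳 hXS hconj hquad _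
    P₂ rfl (fun q _ => by rw [hf]; simp only; rw [← map_pow, hv, map_one]) hstable hmove
  have hcard₂ : p ∣ P₂.card := by
    have h := prod_eq_one_of_moving (1 : G →* MulAut (Multiplicative (ZMod p))) hodd
      (fun _ : G ⧸ S => Multiplicative.ofAdd (1 : ZMod p)) (fun g q => by simp) _ S rfl hS 𝒳 hXS
      hconj (fun x _ w => by simp) _ P₂ rfl
      (fun q _ => by rw [← ofAdd_nsmul]; simp) hstable hmove
    rw [Finset.prod_const, ← ofAdd_nsmul, ofAdd_eq_one, nsmul_one] at h
    exact (ZMod.natCast_eq_zero_iff P₂.card p).mp h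
  have hsplit : P₁.card + P₂.card = S.index := by
    rw [hP₁, hP₂, Finset.card_filter_add_card_filter_not, Finset.card_univ, Subgroup.index,
      Nat.card_eq_fintype_card]
  have hcard₁ : ¬ p ∣ P₁.card := fun hd => hidx (hsplit ▸ dvd_add hd hcard₂)
  have h1 : ∀ q ∈ P₁, f q = v := by
    intro q hq
    obtain ⟨a, rfl⟩ := QuotientGroup.mk_surjective q
    rw [hwd]
    refine hH a fun x hx => ?_
    have := (Finset.mem_filter.mp hq).2 x hx
    rw [MulAction.Quotient.smul_mk, eq_comm, QuotientGroup.eq, smul_eq_mul] at this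
    simpa [mul_assoc] using this
  have hN : ∏ q, f q = v ^ P₁.card := by
    rw [← Finset.prod_filter_mul_prod_filter_not Finset.univ (fun q => ∀ x ∈ 𝒳, x • q = q), ← hP₁,
      ← hP₂, h2, mul_one, Finset.prod_congr rfl h1, Finset.prod_const]
  intro g
  have hfix : ρ g (v ^ P₁.card) = v ^ P₁.card := by
    rw [← hN, map_prod, ← Equiv.prod_comp (MulAction.toPerm g) f]
    exact Finset.prod_congr rfl fun q _ => (hfeq g q).symm
  have hcop : (P₁.card).Coprime p := ((hp.out.coprime_iff_not_dvd).mpr hcard₁).symm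
  obtain ⟨j, hj⟩ := exists_pow_eq_self_of_coprime (x := v) (n := P₁.card)
    (hcop.coprime_dvd_right (orderOf_dvd_of_pow_eq_one hv))
  rw [← hj, map_pow, hfix]

/-- Control of fixed points. -/
theorem fixed_of_control (hodd : Odd p) (hS : IsPGroup p S) (hidx : ¬ p ∣ S.index) {𝒳 : Set G}
    (hXS : 𝒳 ⊆ S) (hconj : ∀ s ∈ S, ∀ x ∈ 𝒳, s * x * s⁻¹ ∈ 𝒳) (hquad : ∀ x ∈ 𝒳, QuadEl ρ x) :
    ∀ (k : ℕ) {v : V}, v ^ p ^ k = 1 → (∀ s ∈ S, ρ s v = v) →
      (∀ g : G, (∀ x ∈ 𝒳, g⁻¹ * x * g ∈ S) → ρ g v = v) → ∀ g, ρ g v = v := by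
  intro k
  induction k with
  | zero => intro v hv _ _ g; rw [pow_zero, pow_one] at hv; rw [hv, map_one]
  | succ k ih =>
    intro v hv hvS hH g
    have hu : ∀ g, ρ g (v ^ p) = v ^ p := ih (by rw [← pow_mul, ← pow_succ']; exact hv)
      (fun s hs => by rw [map_pow, hvS s hs]) fun g hg => by rw [map_pow, hH g hg]
    let δ : G → V := fun g => ρ g v / v
    have hcoc : ∀ g h, δ (g * h) = δ g * ρ g (δ h) := fun g h => by
      simp only [δ, map_mul, MulAut.mul_apply, map_div]
      exact (div_mul_div_cancel' _ _ _).symm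
    have hδS : ∀ s ∈ S, δ s = 1 := fun s hs => by simp [δ, hvS s hs]
    have hδp : ∀ g, δ g ^ p = 1 := fun g => by
      simp only [δ, div_pow, ← map_pow, hu g, div_self']
    obtain ⟨w, hw, hwW⟩ := exists_average ρ hcoc hδS
    have hwp : w ^ p = 1 := by
      have := hwW (powMonoidHom p).ker fun g => MonoidHom.mem_ker.mpr (hδp g)
      exact MonoidHom.mem_ker.mp this
    have hfix : ∀ g, δ g = 1 → ρ g w = w := fun g hg => by
      have := hw g
      rwa [hg, one_pow, one_mul] at this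
    have hwall := fixed_elementary ρ hodd hS hidx hXS hconj hquad hwp
      (fun s hs => hfix s (hδS s hs)) (fun g hg => hfix g (by simp [δ, hH g hg]))
    have h1 : δ g ^ S.index = 1 := by
      have := hw g
      rwa [hwall g, mul_eq_right] at this
    obtain ⟨j, hj⟩ := exists_pow_eq_self_of_coprime (x := δ g) (n := S.index)
      (((hp.out.coprime_iff_not_dvd).mpr hidx).symm.coprime_dvd_right
        (orderOf_dvd_of_pow_eq_one (hδp g)))
    have h2 : δ g = 1 := by rw [← hj, h1, one_pow]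
    exact div_eq_one.mp h2

end CfsgLib.Fusion
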