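import Mathlib
import Cfsg.Agent.Lib.Fusion.Saturation

/-!
# Restriction of a saturated system to a strongly closed factor
-/

set_option autoImplicit false

namespace CfsgLib.Fusion

open Cfsg Cfsg.FusionSystem

variable {Ω : Type*} [Group Ω] {S T : Subgroup Ω} {F : FusionSystem S} [Finite S] {p : ℕ}
  [hp : Fact p.Prime]

/-- If `S = T C_S(T)` with `T` strongly closed, the full subsystem over `T` is saturated. -/
theorem restriction_isSaturated (hS : IsPGroup p S) (hF : F.IsSaturated p)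
    (hT : F.StronglyClosed T)
    (hdec : ∀ s ∈ S, ∃ t ∈ T, ∀ x ∈ T, cj s x = cj t x) {R : FusionSystem T}
    (hR : ∀ P, P ≤ T → ∀ f, IsMor R P f ↔ IsMor F P f) : R.IsSaturated p := by
  obtain ⟨hTS, hsc⟩ := stronglyClosed_iff.mp hT
  intro P hP
  obtain ⟨Q, hPQ, hQ⟩ := exists_fullyNormalized F (hP.trans hTS)
  obtain ⟨g, hg, hgi⟩ := isConj_iff.mp hPQ
  have hQT : Q ≤ T := hgi ▸ img_le fun x hx => hsc P g hg x hx (hP hx)
  obtain ⟨hfa, hrec⟩ := isFullyAutomized_of_normalized hS hF hQ
  refine ⟨Q, isConj_iff.mpr ⟨g, (hR P hP g).mpr hg, hgi⟩, ?_, ?_⟩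
  · refine isFullyAutomized_iff.mpr ⟨hQT, ?_⟩
    have hA : R.autGroup Q = F.autGroup Q := by
      ext α
      rw [autGroup_eq_set hQT, autGroup_eq_set (hQT.trans hTS), hR Q hQT]
    have hI : autInducedBy T Q = autInducedBy S Q := by
      refine le_antisymm (fun α hα => ?_) fun α hα => ?_
      · obtain ⟨t, ht, htn, hte⟩ := mem_autInducedBy.mp hα
        exact mem_autInducedBy.mpr ⟨t, hTS ht, htn, hte⟩
      · obtain ⟨s, hs, hsn, hse⟩ := mem_autInducedBy.mp hα
        obtain ⟨t, ht, hte⟩ := hdec s hs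
        refine mem_autInducedBy.mpr ⟨t, ht, ?_, fun x hx => (hse x hx).trans (hte x (hQT hx))⟩
        rw [Subgroup.mem_normalizer_iff]
        intro x
        constructor
        · intro hx
          have := (Subgroup.mem_normalizer_iff.mp hsn x).mp hx
          rwa [show s * x * s⁻¹ = t * x * t⁻¹ from hte x (hQT hx)] at this
        · intro hx
          have hxT : x ∈ T := by
            have := T.mul_mem (T.mul_mem (T.inv_mem ht) (hQT hx)) ht
            simpa [mul_assoc] using this
          refine (Subgroup.mem_normalizer_iff.mp hsn x).mpr ?_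
          rwa [show s * x * s⁻¹ = t * x * t⁻¹ from hte x hxT]
    rw [hA, hI]
    exact (isFullyAutomized_iff.mp hfa).2
  · refine isReceptive_iff.mpr ⟨hQT, fun X f hf hfi => ?_⟩
    have hXT : X ≤ T := hf.le
    obtain ⟨k, hk, hke⟩ := (isReceptive_iff.mp hrec).2 X f ((hR X hXT f).mp hf) hfi
    have hle : nExt T X f ≤ nExt S X f := fun a ⟨ha, hn, h, hh, he⟩ =>
      ⟨hTS ha, hn, h, hTS hh, he⟩
    exact ⟨k, (hR _ ((nExt_le f).trans normalizerIn_le) k).mpr (hk.restrict hle), hke⟩

end CfsgLib.Fusion
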