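import Mathlib
import Cfsg.Agent.Lib.Fusion.Restriction
import Cfsg.Agent.Lib.Fusion.Criteria
import Cfsg.Agent.Lib.PLocal.Replacement

/-!
# The subgroup generated by the abelian subgroups of largest order
-/

set_option autoImplicit false
set_option linter.unusedSectionVars false

namespace CfsgLib.Fusion

open Cfsg Cfsg.FusionSystem

variable {Ω : Type*} [Group Ω]

/-- An abelian subgroup of largest order of `W`. -/
def IsAbMax (W A : Subgroup Ω) : Prop :=
  A ≤ W ∧ (∀ a ∈ A, ∀ b ∈ A, a * b = b * a) ∧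
    ∀ B ≤ W, (∀ a ∈ B, ∀ b ∈ B, a * b = b * a) → Nat.card B ≤ Nat.card A

/-- The subgroup generated by them. -/
def jMax (W : Subgroup Ω) : Subgroup Ω := sSup {A | IsAbMax W A}

variable {R W W' : Subgroup Ω} [Finite R]

theorem exists_isAbMax (hW : W ≤ R) : ∃ A, IsAbMax W A := by
  have : Finite W := finite_of_le hW
  have hfin : {A : Subgroup Ω | A ≤ W ∧ ∀ a ∈ A, ∀ b ∈ A, a * b = b * a}.Finite :=
    (finite_subgroups_le (S := W)).subset fun A hA => hA.1
  obtain ⟨A, ⟨hA, hAc⟩, hmax⟩ := Set.Finite.exists_maximalFor (fun A : Subgroup Ω => Nat.card A)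
    _ hfin
    ⟨⊥, bot_le, fun a ha b hb => by rw [Subgroup.mem_bot.mp ha, Subgroup.mem_bot.mp hb]⟩
  exact ⟨A, hA, hAc, fun B hB hBc => (le_total (Nat.card A) (Nat.card B)).elim
    (fun h => hmax ⟨hB, hBc⟩ h) id⟩

theorem jMax_le : jMax W ≤ W := sSup_le fun _ hA => hA.1

theorem le_jMax {A : Subgroup Ω} (hA : IsAbMax W A) : A ≤ jMax W := le_sSup hA

/-- The order of the abelian subgroups of largest order. -/
noncomputable def abOrd (W : Subgroup Ω) : ℕ :=
  sSup {n | ∃ A, IsAbMax W A ∧ Nat.card A = n}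

theorem abOrd_eq {A : Subgroup Ω} (hA : IsAbMax W A) : abOrd W = Nat.card A := by
  have : {n | ∃ A, IsAbMax W A ∧ Nat.card A = n} = {Nat.card A} := by
    ext n
    refine ⟨?_, fun h => ⟨A, hA, h.symm⟩⟩
    rintro ⟨B, hB, rfl⟩
    exact le_antisymm (hA.2.2 B hB.1 hB.2.1) (hB.2.2 A hA.1 hA.2.1)
  rw [abOrd, this, csSup_singleton]

theorem le_abOrd (hW : W ≤ R) {B : Subgroup Ω} (hB : B ≤ W)
    (hBc : ∀ a ∈ B, ∀ b ∈ B, a * b = b * a) : Nat.card B ≤ abOrd W := by
  obtain ⟨A, hA⟩ := exists_isAbMax hW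
  exact (hA.2.2 B hB hBc).trans (abOrd_eq hA).ge

theorem isAbMax_of_card (hW : W ≤ R) {B : Subgroup Ω} (hB : B ≤ W)
    (hBc : ∀ a ∈ B, ∀ b ∈ B, a * b = b * a) (h : abOrd W ≤ Nat.card B) : IsAbMax W B :=
  ⟨hB, hBc, fun _ hC hCc => (le_abOrd hW hC hCc).trans h⟩

theorem abOrd_mono (hW' : W' ≤ R) (h : W ≤ W') : abOrd W ≤ abOrd W' := by
  obtain ⟨A, hA⟩ := exists_isAbMax (h.trans hW')
  exact (abOrd_eq hA).le.trans (le_abOrd hW' (hA.1.trans h) hA.2.1)

theorem jMax_mono (hW' : W' ≤ R) (h : W ≤ W') (he : abOrd W = abOrd W') : jMax W ≤ jMax W' :=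
  sSup_le fun A hA => le_jMax
    (isAbMax_of_card hW' (hA.1.trans h) hA.2.1 (he.ge.trans (abOrd_eq hA).le))

theorem abOrd_jMax (hW : W ≤ R) : abOrd (jMax W) = abOrd W := by
  refine le_antisymm (abOrd_mono hW jMax_le) ?_
  obtain ⟨A, hA⟩ := exists_isAbMax hW
  rw [abOrd_eq hA]
  exact le_abOrd (jMax_le.trans hW) (le_jMax hA) hA.2.1

theorem jMax_jMax (hW : W ≤ R) : jMax (jMax W) = jMax W := by
  refine le_antisymm jMax_le (sSup_le fun A hA => le_jMax
    (isAbMax_of_card (jMax_le.trans hW) (le_jMax hA) hA.2.1 ?_))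
  rw [abOrd_jMax hW, abOrd_eq hA]

/-- Central elements lie in every abelian subgroup of largest order. -/
theorem mem_of_isAbMax (hW : W ≤ R) {A : Subgroup Ω} (hA : IsAbMax W A) {c : Ω} (hc : c ∈ W)
    (hcA : ∀ a ∈ A, c * a = a * c) : c ∈ A := by
  have : Finite W := finite_of_le hW
  set B := A ⊔ Subgroup.zpowers c with hB
  have hBW : B ≤ W := sup_le hA.1 (Subgroup.zpowers_le.mpr hc)
  have : Finite B := finite_of_le hBW
  have hBc : ∀ a ∈ B, ∀ b ∈ B, a * b = b * a := by
    have h1 : B ≤ Subgroup.centralizer (B : Set Ω) := by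
      rw [hB]
      refine sup_le (fun a ha => ?_) (Subgroup.zpowers_le.mpr ?_)
      · rw [Subgroup.mem_centralizer_iff]
        intro y hy
        refine (?_ : A ⊔ Subgroup.zpowers c ≤ Subgroup.centralizer {a}) hy |> fun h =>
          (Subgroup.mem_centralizer_singleton_iff.mp h)
        refine sup_le (fun b hb => Subgroup.mem_centralizer_singleton_iff.mpr (hA.2.1 b hb a ha))
          (Subgroup.zpowers_le.mpr (Subgroup.mem_centralizer_singleton_iff.mpr (hcA a ha)))
      · rw [Subgroup.mem_centralizer_iff]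
        intro y hy
        refine (?_ : A ⊔ Subgroup.zpowers c ≤ Subgroup.centralizer {c}) hy |> fun h =>
          (Subgroup.mem_centralizer_singleton_iff.mp h)
        refine sup_le (fun b hb => Subgroup.mem_centralizer_singleton_iff.mpr (hcA b hb).symm)
          (Subgroup.zpowers_le.mpr (Subgroup.mem_centralizer_singleton_iff.mpr rfl))
    exact fun a ha b hb => (Subgroup.mem_centralizer_iff.mp (h1 hb) a ha)
  have h2 : A = B := eq_of_le_of_card hBW le_sup_left (hA.2.2 B hBW hBc)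
  rw [h2]
  exact Subgroup.mem_sup_right (Subgroup.mem_zpowers c)

theorem mem_jMax (hW : W ≤ R) {c : Ω} (hc : c ∈ W) (hcW : ∀ a ∈ W, c * a = a * c) :
    c ∈ jMax W := by
  obtain ⟨A, hA⟩ := exists_isAbMax hW
  exact le_jMax hA (mem_of_isAbMax hW hA hc fun a ha => hcW a (hA.1 ha))

/-- The measure of `W`. -/
noncomputable def jKey (R W : Subgroup Ω) : ℕ :=
  abOrd W * (Nat.card R + 1) + Nat.card (jMax W)

theorem jKey_le (hW : W ≤ R) : jKey R W ≤ Nat.card R * (Nat.card R + 1) + Nat.card R := by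
  obtain ⟨A, hA⟩ := exists_isAbMax hW
  have h1 : abOrd W ≤ Nat.card R := (abOrd_eq hA).le.trans (Subgroup.card_le_of_le (hA.1.trans hW))
  have h2 := Subgroup.card_le_of_le ((jMax_le (W := W)).trans hW)
  exact Nat.add_le_add (Nat.mul_le_mul_right _ h1) h2

/-- Growing `W` raises the measure unless `J` is unchanged. -/
theorem jKey_lt_or_eq (hW' : W' ≤ R) (h : W ≤ W') :
    jKey R W < jKey R W' ∨ jMax W = jMax W' := by
  rcases (abOrd_mono hW' h).lt_or_eq with hlt | he
  · left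
    have h1 : (abOrd W + 1) * (Nat.card R + 1) ≤ abOrd W' * (Nat.card R + 1) :=
      Nat.mul_le_mul_right _ hlt
    have h2 : Nat.card (jMax W) ≤ Nat.card R :=
      Subgroup.card_le_of_le ((jMax_le (W := W)).trans (h.trans hW'))
    rw [add_one_mul] at h1
    unfold jKey
    omega
  · rcases (jMax_mono hW' h he).lt_or_eq with hlt | heq
    · left
      unfold jKey
      rw [he]
      exact Nat.add_lt_add_left (card_lt_of_lt (jMax_le.trans hW') hlt) _
    · exact Or.inr heq

end CfsgLib.Fusion
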