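import Mathlib
import Cfsg.Agent.Lib.Fusion.Hyperfocal
import Cfsg.Agent.Lib.Fusion.Group
import Cfsg.Agent.Lib.Transfer.Fusion
import Cfsg.Agent.Lib.Transfer.Control

/-! The hyperfocal subgroup of the system of a finite group. -/
set_option autoImplicit false

namespace CfsgLib.Fusion

open Cfsg Cfsg.FusionSystem
open scoped commutatorElement

variable {G : Type*} [Group G] [Finite G] {p : ℕ} [Fact p.Prime]

/-- An automorphism of order prime to `p` induced by `G` is induced by `O^p(G)`. -/
theorem exists_mem_pResidual_of_coprime {S P : Subgroup G} (hP : P ≤ S) {α : MulAut P}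
    (hα : α ∈ (groupFusionSystem S).autGroup P) (hc : (orderOf α).Coprime p) :
    ∃ k ∈ pResidual p G, ∀ x ∈ P, autFun α x = cj k x := by
  rw [autGroup_group hP] at hα
  obtain ⟨g, -, -, hg⟩ := mem_autInducedBy.mp hα
  obtain ⟨a, ha, b, hb, hab, ⟨j, hj⟩, hbc⟩ := CfsgLib.Transfer.exists_pPart_mul (p := p) g
  have hapj : a ^ (p ^ j) = 1 := orderOf_dvd_iff_pow_eq_one.mp hj
  -- a power of `g` prime to `p` inducing `α`
  obtain ⟨m, hm⟩ : ∃ m : ℕ, (α ^ (p ^ j)) ^ m = α :=
    exists_pow_eq_self_of_coprime (((Nat.Coprime.pow_right j hc)).symm)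
  have hcomm : Commute a b := by
    obtain ⟨i, rfl⟩ := ha
    obtain ⟨k, rfl⟩ := hb
    exact Commute.zpow_zpow_self g i k
  refine ⟨(g ^ (p ^ j)) ^ m, Subgroup.pow_mem _ ?_ _, fun x hx => ?_⟩
  · rw [← hab, hcomm.mul_pow, hapj, one_mul]
    exact Subgroup.pow_mem _ (CfsgLib.Transfer.mem_pResidual_of_coprime hbc) _
  · have hpow : ∀ n : ℕ, ∀ y ∈ P, autFun (α ^ n) y = cj (g ^ n) y := by
      intro n
      induction n with
      | zero => intro y hy; simp [autFun_one hy, cj]
      | succ n ih =>
        intro y hy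
        rw [pow_succ, pow_succ, autFun_mul _ _ hy, hg y hy, ih _ (hg y hy ▸ autFun_mem α hy),
          ← cj_mul]
    conv_lhs => rw [← hm]
    rw [← pow_mul, hpow _ x hx, pow_mul]

theorem hyp_group_le (S : Subgroup G) :
    (groupFusionSystem S).hyperfocalSubgroup p ≤ S ⊓ pResidual p G := by
  refine hyp_le fun P hP α hα hc x hx =>
    ⟨S.mul_mem (S.inv_mem (hP hx)) (hP (autFun_mem α hx)), ?_⟩
  obtain ⟨k, hk, hke⟩ := exists_mem_pResidual_of_coprime hP hα hc
  have hn := CfsgLib.Transfer.pResidual_normal (G := G) (p := p)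
  rw [hke x hx, cj_apply, ← mul_assoc, ← mul_assoc]
  exact Subgroup.mul_mem _ (by simpa using hn.conj_mem k hk x⁻¹) (Subgroup.inv_mem _ hk)

/-- The hyperfocal subgroup theorem. -/
theorem hyp_group_eq (S : Sylow p G) :
    (groupFusionSystem (S : Subgroup G)).hyperfocalSubgroup p =
      (S : Subgroup G) ⊓ pResidual p G := by
  refine le_antisymm (hyp_group_le _) ?_
  set F := groupFusionSystem (S : Subgroup G) with hFdef
  set H := F.hyperfocalSubgroup p with hH
  set K := pResidual p G with hK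
  have hKn : K.Normal := CfsgLib.Transfer.pResidual_normal
  have hF := groupFusion_isSaturated S
  have hHS : H ≤ (S : Subgroup G) := hyp_le_top
  -- `S ⊓ K` lies in the focal subgroup computed in `K`
  have hKK : pResidual p K = ⊤ := by
    refine Subgroup.map_injective K.subtype_injective ?_
    rw [← MonoidHom.range_eq_map, Subgroup.range_subtype]
    refine le_antisymm (Subgroup.map_subtype_le _) ((Subgroup.closure_le _).mpr fun g hg => ?_)
    refine ⟨⟨g, Subgroup.subset_closure hg⟩, Subgroup.subset_closure ?_, rfl⟩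
    show (orderOf (⟨g, Subgroup.subset_closure hg⟩ : K)).Coprime p
    rw [← Subgroup.orderOf_coe]
    exact hg
  let Q : Subgroup G := (S : Subgroup G) ⊓ K
  have hQK : ¬ p ∣ ((S : Subgroup G).subgroupOf K).index :=
    CfsgLib.Transfer.not_dvd_index_subgroupOf_of_normal S K
  let R : Sylow p K := (S.2.comap_subtype (K := K)).toSylow hQK
  have hfoc := CfsgLib.Transfer.inf_pResidual_le_focalSubgroup R
  rw [hKK, inf_top_eq] at hfoc
  have hstep : Q ≤ H ⊔ ⁅Q, (S : Subgroup G)⁆ := by
    intro x hx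
    suffices h : ∀ z : K, z ∈ Subgroup.focalSubgroup (R : Subgroup K) →
        (z : G) ∈ H ⊔ ⁅Q, (S : Subgroup G)⁆ from h ⟨x, hx.2⟩ (hfoc (by exact hx.1))
    intro z h1
    rw [Subgroup.focalSubgroup_def] at h1
    induction h1 using Subgroup.closure_induction with
    | mem z hz =>
      obtain ⟨hzR, a, ha, u, rfl⟩ := hz
      set y := (u : G) * (a : G)⁻¹ * (u : G)⁻¹ with hy
      have hyS : y ∈ (S : Subgroup G) := by
        have : ((⁅a, u⁆ : K) : G) ∈ (S : Subgroup G) := hzR
        have h2 := (S : Subgroup G).mul_mem ((S : Subgroup G).inv_mem ha) this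
        simpa [commutatorElement_def, hy, mul_assoc] using h2
      have hm : IsMor F (Subgroup.zpowers ((a : G)⁻¹)) (cj (u : G)) := isMor_group.mpr
        ⟨Subgroup.zpowers_le.mpr ((S : Subgroup G).inv_mem ha), by
          rintro _ ⟨m, rfl⟩
          show (u : G) * (a : G)⁻¹ ^ m * (u : G)⁻¹ ∈ (S : Subgroup G)
          rw [← conj_zpow]
          exact (S : Subgroup G).zpow_mem hyS m, _, fun _ _ => rfl⟩
      obtain ⟨s, hs, hse⟩ := exists_conj_mod_hyp S.2 hF hm
      have h3 := hse _ (Subgroup.mem_zpowers _)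
      have h4 := Subgroup.commutator_mem_commutator
        (show (a : G) ∈ Q from ⟨ha, a.2⟩) hs
      have h5 := (H ⊔ ⁅Q, (S : Subgroup G)⁆).mul_mem (Subgroup.mem_sup_right h4)
        (Subgroup.mem_sup_left h3)
      simpa [commutatorElement_def, cj, mul_assoc] using h5
    | one => exact Subgroup.one_mem _
    | mul a b _ _ iha ihb => exact Subgroup.mul_mem _ iha ihb
    | inv a _ iha => exact Subgroup.inv_mem _ iha
  -- pass to the nilpotent group `S / H`
  have hHn : (H.subgroupOf (S : Subgroup G)).Normal :=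
    ⟨fun h hh s => hyp_conj_mem s.2 hh⟩
  let π := QuotientGroup.mk' (H.subgroupOf (S : Subgroup G))
  have := S.2.to_quotient (H.subgroupOf (S : Subgroup G))
  have := this.isNilpotent
  have hQS : Q ≤ (S : Subgroup G) := inf_le_left
  have hbot : ((Q.subgroupOf (S : Subgroup G)).map π) = ⊥ := by
    refine CfsgLib.Transfer.eq_bot_of_le_commutator_top ?_
    have hsub : Q.subgroupOf (S : Subgroup G) ≤
        H.subgroupOf (S : Subgroup G) ⊔ ⁅Q.subgroupOf (S : Subgroup G), ⊤⁆ := by
      intro x hx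
      have h1 := hstep hx
      rw [← Subgroup.map_subgroupOf_eq_of_le hHS,
        show ⁅Q, (S : Subgroup G)⁆ = (⁅Q.subgroupOf (S : Subgroup G), ⊤⁆ : Subgroup ↥(S : Subgroup G)).map (S : Subgroup G).subtype by
          rw [Subgroup.map_commutator, Subgroup.map_subgroupOf_eq_of_le hQS,
            ← MonoidHom.range_eq_map, Subgroup.range_subtype],
        ← Subgroup.map_sup] at h1
      exact (Subgroup.mem_map_iff_mem (Subgroup.subtype_injective _)).mp h1
    refine (Subgroup.map_mono hsub).trans ?_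
    rw [Subgroup.map_sup, Subgroup.map_commutator, QuotientGroup.map_mk'_self, bot_sup_eq]
    exact Subgroup.commutator_mono le_rfl le_top
  intro x hx
  have : π ⟨x, hx.1⟩ ∈ (Q.subgroupOf (S : Subgroup G)).map π := Subgroup.mem_map_of_mem π hx
  rw [hbot, Subgroup.mem_bot] at this
  exact (QuotientGroup.eq_one_iff (⟨x, hx.1⟩ : ↥(S : Subgroup G))).mp this

end CfsgLib.Fusion
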