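import Mathlib
import Cfsg.Agent.Lib.Fusion.NormalLabel

/-!
# Maps fixing a subgroup of a strongly closed subgroup, and extensions to its centralizer
-/

set_option autoImplicit false
set_option linter.unusedSectionVars false

namespace CfsgLib.Fusion

open Cfsg Cfsg.FusionSystem

variable {Ω : Type*} [Group Ω] {S T : Subgroup Ω} {F : FusionSystem S} {p : ℕ}
  [hp : Fact p.Prime] [Finite S]

theorem autFun_pow_congr {A B : Subgroup Ω} (hAB : A ≤ B) {a : MulAut A} {b : MulAut B}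
    (e : ∀ x ∈ A, autFun b x = autFun a x) (n : ℕ) :
    ∀ x ∈ A, autFun (b ^ n) x = autFun (a ^ n) x := by
  induction n with
  | zero => intro x hx; rw [pow_zero, pow_zero, autFun_one hx, autFun_one (hAB hx)]
  | succ n ih =>
    intro x hx
    rw [pow_succ' b, pow_succ' a, autFun_mul _ _ hx, autFun_mul _ _ (hAB hx), ih x hx,
      e _ (autFun_mem _ hx)]

/-- An element moved by an element of `U` is fixed by a `p`-power of an automorphism fixing `U`. -/
theorem autFun_pow_card {N U : Subgroup Ω} (hUN : U ≤ N) {δ : MulAut N}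
    (h1 : ∀ u ∈ U, autFun δ u = u) {y : Ω} (hy : y ∈ N) (h2 : y⁻¹ * autFun δ y ∈ U) :
    autFun (δ ^ Nat.card U) y = y := by
  have hn : ∀ n : ℕ, autFun (δ ^ n) y = y * (y⁻¹ * autFun δ y) ^ n := by
    intro n
    induction n with
    | zero => rw [pow_zero, autFun_one hy, pow_zero, mul_one]
    | succ n ih =>
      rw [pow_succ', autFun_mul _ _ hy, ih, autFun_map_mul _ hy (N.pow_mem (hUN h2) n),
        h1 _ (U.pow_mem h2 n), pow_succ', ← mul_assoc, ← mul_assoc, mul_inv_cancel, one_mul]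
  rw [hn, orderOf_dvd_iff_pow_eq_one.mp (Subgroup.orderOf_dvd_natCard U h2), mul_one]

/-- One step up: an automorphism of `R C` fixing `R` has a `p`-power extending to `N_T(R) C`
fixing `N_T(R)`, where `C` centralizes `T`. -/
theorem exists_fixing_step (hS : IsPGroup p S) (hF : F.IsSaturated p) (hT : F.StronglyClosed T)
    {R C : Subgroup Ω} (hRT : R ≤ T)
    (hc : ∀ f, IsMor F R f → centralizerIn T (img R f) ≤ img R f)
    (hC : C ≤ centralizerIn S T) {M : Subgroup Ω} (hMdef : M = R ⊔ C) {δ : MulAut M}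
    (hδ : δ ∈ F.autGroup M)
    (hfix : ∀ r ∈ R, autFun δ r = r) :
    ∃ k : ℕ, ∃ η ∈ F.autGroup (normalizerIn T R ⊔ C), (∀ t ∈ normalizerIn T R, autFun η t = t) ∧
      ∀ y ∈ C, autFun η y = autFun (δ ^ p ^ k) y := by
  have hTS := hT.1
  have hsc := (stronglyClosed_iff.mp hT).2
  set N := normalizerIn T R with hNdef
  have hNT : N ≤ T := normalizerIn_le
  have hRN : R ≤ N := le_normalizerIn hRT
  have hCS : C ≤ S := hC.trans centralizerIn_le
  have hMS : M ≤ S := hMdef.le.trans (sup_le (hRT.trans hTS) hCS)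
  have hRM : R ≤ M := le_sup_left.trans hMdef.ge
  have hCM : C ≤ M := le_sup_right.trans hMdef.ge
  set M' := N ⊔ C with hM'def
  have hMM' : M ≤ M' := hMdef.le.trans (sup_le_sup_right hRN C)
  have hM'S : M' ≤ S := sup_le (hNT.trans hTS) hCS
  have hCT : ∀ c ∈ C, ∀ t ∈ T, cj t c = c := fun c hc t ht => by
    have h : cj c t = t := (mem_centralizerIn.mp (hC hc)).2 t ht
    rw [cj_apply, cj_fixed_iff] at h
    rw [cj_apply, cj_fixed_iff, h]
  have : Finite R := finite_of_le (hRT.trans hTS)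
  have : Finite T := finite_of_le hTS
  obtain ⟨k, hk⟩ := IsPGroup.iff_card.mp (isPGroup_of_le (hRT.trans hTS) hS)
  -- the automorphisms inducing elements of `N` on `R` and the identity on `M / R`
  have hstab : ∀ (a : MulAut M) (t : Ω), t ∈ N → (∀ r ∈ R, autFun a r = cj t r) →
      ∀ r ∈ R, autFun a r ∈ R := fun a t ht e r hr => by
    rw [e r hr]; exact (Subgroup.mem_normalizer_iff.mp (mem_normalizerIn.mp ht).2 r).mp hr
  let X : Subgroup (MulAut M) :=
    { carrier := {a | a ∈ F.autGroup M ∧ (∃ t ∈ N, ∀ r ∈ R, autFun a r = cj t r) ∧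
        ∀ y ∈ M, y⁻¹ * autFun a y ∈ R}
      one_mem' := ⟨one_mem _, ⟨1, N.one_mem, fun r hr => by rw [autFun_one (hRM hr), cj_one]⟩,
        fun y hy => by rw [autFun_one hy, inv_mul_cancel]; exact R.one_mem⟩
      mul_mem' := by
        rintro a b ⟨ha, ⟨t, ht, hat⟩, ha2⟩ ⟨hb, ⟨s, hs, hbs⟩, hb2⟩
        refine ⟨(F.autGroup M).mul_mem ha hb, ⟨t * s, N.mul_mem ht hs, fun r hr => ?_⟩,
          fun y hy => ?_⟩
        · rw [autFun_mul _ _ (hRM hr), hat _ (hstab b s hs hbs r hr), hbs r hr, cj_mul]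
        · have h := R.mul_mem (ha2 y hy) (hstab a t ht hat _ (hb2 y hy))
          rw [autFun_map_mul _ (M.inv_mem hy) (autFun_mem b hy), autFun_inv_map _ hy] at h
          rw [autFun_mul _ _ hy]
          simpa [mul_assoc] using h
      inv_mem' := by
        rintro a ⟨ha, ⟨t, ht, hat⟩, ha2⟩
        have hi : ∀ r ∈ R, autFun a⁻¹ r = cj t⁻¹ r := fun r hr => by
          have h1 : cj t⁻¹ r ∈ R := (Subgroup.mem_normalizer_iff.mp
            (Subgroup.inv_mem _ (mem_normalizerIn.mp ht).2) r).mp hr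
          conv_lhs => rw [← cj_cj_inv t r, ← hat _ h1, autFun_inv_left a (hRM h1)]
        refine ⟨(F.autGroup M).inv_mem ha, ⟨t⁻¹, N.inv_mem ht, hi⟩, fun y hy => ?_⟩
        have h := R.inv_mem (ha2 _ (autFun_mem a⁻¹ hy))
        rw [autFun_inv_right a hy] at h
        simpa using h }
  have hXF : X ≤ F.autGroup M := fun a ha => ha.1
  have hXp : IsPGroup p X := by
    rintro ⟨a, ha⟩
    obtain ⟨t, ht, hat⟩ := ha.2.1
    obtain ⟨i, hi⟩ := isPGroup_of_le (hNT.trans hTS) hS ⟨t, ht⟩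
    have hpow : ∀ n : ℕ, ∀ r ∈ R, autFun (a ^ n) r = cj (t ^ n) r := by
      intro n
      induction n with
      | zero => intro r hr; rw [pow_zero, pow_zero, autFun_one (hRM hr), cj_one]
      | succ n ih =>
        intro r hr
        rw [pow_succ a, pow_succ t, autFun_mul _ _ (hRM hr), cj_mul, hat r hr,
          ih (cj t r) ((Subgroup.mem_normalizer_iff.mp (mem_normalizerIn.mp ht).2 r).mp hr)]
    have hb := X.pow_mem ha (p ^ i)
    refine ⟨i + k, Subtype.ext ?_⟩
    show a ^ p ^ (i + k) = 1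
    rw [pow_add, pow_mul, ← hk]
    refine autFun_inj fun y hy => ?_
    rw [autFun_one hy]
    refine autFun_pow_card hRM (fun r hr => ?_) hy (hb.2.2 y hy)
    rw [hpow _ r hr, show t ^ p ^ i = 1 from congrArg Subtype.val hi, cj_one]
  have hδX : ∀ a ∈ X, δ * a * δ⁻¹ ∈ X := by
    rintro a ⟨ha, ⟨t, ht, hat⟩, ha2⟩
    have hdi : ∀ r ∈ R, autFun δ⁻¹ r = r := fun r hr => by
      conv_lhs => rw [← hfix r hr, autFun_inv_left δ (hRM hr)]
    refine ⟨(F.autGroup M).mul_mem ((F.autGroup M).mul_mem hδ ha) ((F.autGroup M).inv_mem hδ),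
      ⟨t, ht, fun r hr => ?_⟩, fun y hy => ?_⟩
    · rw [autFun_mul _ _ (hRM hr), autFun_mul _ _ (autFun_mem _ (hRM hr)), hdi r hr,
        hfix _ (hstab a t ht hat r hr), hat r hr]
    · rw [autFun_mul _ _ hy, autFun_mul _ _ (autFun_mem _ hy)]
      set z := autFun δ⁻¹ y with hzdef
      have hz : z ∈ M := autFun_mem _ hy
      have h1 : autFun a z = z * (z⁻¹ * autFun a z) := (mul_inv_cancel_left _ _).symm
      rw [h1, autFun_map_mul _ hz (hRM (ha2 z hz)), hfix _ (ha2 z hz),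
        hzdef, autFun_inv_right δ hy, inv_mul_cancel_left]
      exact ha2 z hz
  have htM : ∀ t ∈ N, t ∈ Subgroup.normalizer (M : Set Ω) := by
    intro t ht
    have key : ∀ s ∈ N, ∀ y ∈ M, cj s y ∈ M := fun s hs y hy => by
      have : M ≤ M.comap (MulAut.conj s).toMonoidHom := hMdef.le.trans <| sup_le
        (fun r hr => hRM ((Subgroup.mem_normalizer_iff.mp (mem_normalizerIn.mp hs).2 r).mp hr))
        (fun c hc => by
          show cj s c ∈ M
          rw [hCT c hc s (hNT hs)]; exact hCM hc)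
      exact this hy
    refine Subgroup.mem_normalizer_iff.mpr fun y => ⟨key t ht y, fun h => ?_⟩
    have h' := key t⁻¹ (N.inv_mem ht) _ h
    rw [show t * y * t⁻¹ = cj t y from rfl, cj_inv_cj] at h'
    exact h'
  have hctX : ∀ t ∈ N, ∃ c ∈ X, ∀ y ∈ M, autFun c y = cj t y := by
    intro t ht
    obtain ⟨c, hc', hce⟩ := exists_autInducedBy (K := S) (hTS (hNT ht)) (htM t ht)
    refine ⟨c, ⟨autInducedBy_le F hMS hc', ⟨t, ht, fun r hr => hce r (hRM hr)⟩, fun y hy => ?_⟩,
      hce⟩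
    rw [hce y hy]
    let Y : Set Ω := {y | y ∈ Subgroup.normalizer (R : Set Ω) ∧ y⁻¹ * cj t y ∈ R}
    have hMY : ∀ y ∈ M, y ∈ Y := by
      intro y hy
      rw [hMdef, ← Subgroup.closure_eq R, ← Subgroup.closure_eq C, ← Subgroup.closure_union] at hy
      induction hy using Subgroup.closure_induction with
      | mem y hy =>
        rcases hy with hy | hy
        · exact ⟨Subgroup.le_normalizer hy, R.mul_mem (R.inv_mem hy)
            ((Subgroup.mem_normalizer_iff.mp (mem_normalizerIn.mp ht).2 y).mp hy)⟩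
        · refine ⟨Subgroup.mem_normalizer_iff.mpr fun x => ⟨fun hx => ?_, fun hx => ?_⟩, ?_⟩
          · rw [show y * x * y⁻¹ = cj y x from rfl,
              (mem_centralizerIn.mp (hC hy)).2 x (hRT hx)]; exact hx
          · have h' : cj y⁻¹ (y * x * y⁻¹) = y * x * y⁻¹ :=
              (mem_centralizerIn.mp (C.inv_mem hy |> fun h => hC h)).2 _ (hRT hx)
            rw [show y * x * y⁻¹ = cj y x from rfl, cj_inv_cj] at h'
            rw [h']; exact hx
          · rw [hCT y hy t (hNT ht), inv_mul_cancel]; exact R.one_mem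
      | one => exact ⟨one_mem _, by simp [cj]⟩
      | mul a b _ _ ha hb =>
        refine ⟨mul_mem ha.1 hb.1, ?_⟩
        have h1 := (Subgroup.mem_normalizer_iff.mp (inv_mem hb.1) _).mp ha.2
        have h2 := R.mul_mem h1 hb.2
        rw [cj_map_mul]
        simpa [mul_assoc] using h2
      | inv a _ ha =>
        refine ⟨inv_mem ha.1, ?_⟩
        have h1 := R.inv_mem ((Subgroup.mem_normalizer_iff.mp ha.1 _).mp ha.2)
        rw [show cj t a⁻¹ = (cj t a)⁻¹ by simp [cj, mul_assoc]]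
        simpa [mul_assoc] using h1
    exact (hMY y hy).2
  -- position `X` inside `Aut_S` of a receptive conjugate
  obtain ⟨M₁, hM₁, hM₁n⟩ := exists_fullyNormalized F hMS
  obtain ⟨g, hg, hgi⟩ := isConj_iff.mp hM₁
  obtain ⟨e, he, heA, -⟩ := exists_transport hg hgi
  obtain ⟨hfa, hrec⟩ := isFullyAutomized_of_normalized hS hF hM₁n
  have := finite_mulAut hM₁n.1
  obtain ⟨γ, hγ, hγc⟩ := (isFullyAutomized_iff.mp hfa).2.exists_conj_le (hXp.map e.toMonoidHom) (by
    rintro _ ⟨a, ha, rfl⟩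
    exact (heA a).mp (hXF ha))
  have hgM : ∀ y ∈ M, g y ∈ M₁ := fun y hy => hgi ▸ mem_img_of_mem g hy
  have hg' : IsMor F M (autFun γ ∘ g) := hg.comp (isMor_autFun hM₁n.1 hγ) hgM
  have hg'i : img M (autFun γ ∘ g) = M₁ := by rw [← hg.img_comp, hgi, img_autFun]
  set g' := autFun γ ∘ g with hg'def
  -- the transport by `g'`
  let e' : MulAut M → MulAut M₁ := fun a => γ * e a * γ⁻¹
  have he' : ∀ a, ∀ y ∈ M, autFun (e' a) (g' y) = g' (autFun a y) := fun a y hy => by
    show autFun (γ * e a * γ⁻¹) (autFun γ (g y)) = autFun γ (g (autFun a y))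
    rw [autFun_mul _ _ (autFun_mem _ (hgM y hy)), autFun_mul _ _ (autFun_mem _ (autFun_mem _ (hgM y hy))),
      autFun_inv_left γ (hgM y hy), he a y hy]
  have he'X : ∀ a ∈ X, e' a ∈ autInducedBy S M₁ := fun a ha => hγc _ ⟨a, ha, rfl⟩
  have he'm : e' δ ∈ F.autGroup M₁ :=
    (F.autGroup M₁).mul_mem ((F.autGroup M₁).mul_mem hγ ((heA δ).mp hδ)) ((F.autGroup M₁).inv_mem hγ)
  obtain ⟨G, hG, hGe⟩ := (isReceptive_iff.mp hrec).2 M g' hg' hg'i
  have hM'n : M' ≤ nExt S M g' := by
    refine sup_le (fun t ht => ?_) (hCM.trans (le_nExt hg'))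
    obtain ⟨c, hcX, hce⟩ := hctX t ht
    obtain ⟨h, hh, -, hhe⟩ := mem_autInducedBy.mp (he'X c hcX)
    refine ⟨hTS (hNT ht), htM t ht, h, hh, fun y hy => ?_⟩
    rw [← hce y hy, ← he' c y hy]
    exact hhe _ (hg'i ▸ mem_img_of_mem g' hy)
  have hGM' := hG.restrict hM'n
  -- the extension of the transported automorphism
  obtain ⟨K, hK, hKe⟩ :=
    (isReceptive_iff.mp hrec).2 M₁ _ (isMor_autFun hM₁n.1 he'm) (img_autFun (e' δ))
  set W := img M' G with hWdef
  have hGg : ∀ y ∈ M, G y = g' y := hGe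
  have hWn : W ≤ nExt S M₁ (autFun (e' δ)) := by
    rw [hWdef, hM'def, (show IsMor F (N ⊔ C) G from hGM').img_sup]
    refine sup_le (img_le fun t ht => ?_) ((img_le fun c hc => ?_).trans
      (le_nExt (isMor_autFun hM₁n.1 he'm)))
    · obtain ⟨c, hcX, hce⟩ := hctX t ht
      obtain ⟨h, hh, -, hhe⟩ := mem_autInducedBy.mp (he'X _ (hδX c hcX))
      have hGt := hGM'.mem (Subgroup.mem_sup_left ht)
      have key : ∀ x ∈ M₁, cj (G t) x = autFun (e' c) x := by
        intro x hx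
        obtain ⟨y, hy, rfl⟩ := hg'.mem_img.mp (hg'i.symm ▸ hx)
        rw [he' c y hy, hce y hy, ← hGg y hy, ← hGg _ ?_]
        · exact (hGM'.map_conj (Subgroup.mem_sup_left ht) (hMM' hy)).symm
        · exact (Subgroup.mem_normalizer_iff.mp (htM t ht) y).mp hy
      refine ⟨hGt, ?_, h, hh, fun x hx => ?_⟩
      · have := mapsTo_normalizerIn (Q := M) (R := M ⊔ normalizerIn T R)
          (hGM'.restrict (sup_le hMM' le_sup_left)) le_sup_left
          (sup_le (le_normalizerIn hMS) fun s hs => mem_normalizerIn.mpr ⟨hTS (hNT hs), htM s hs⟩)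
          t (Subgroup.mem_sup_right ht)
        rw [img_congr hGg, hg'i] at this
        exact (mem_normalizerIn.mp this).2
      · rw [key x hx]
        obtain ⟨y, hy, rfl⟩ := hg'.mem_img.mp (hg'i.symm ▸ hx)
        rw [he' c y hy, he' δ _ (autFun_mem c hy), he' δ y hy, ← hhe _
          (hg'i ▸ mem_img_of_mem g' (autFun_mem δ hy)), he' _ _ (autFun_mem δ hy),
          autFun_mul _ _ (autFun_mem δ hy), autFun_inv_left δ hy, autFun_mul _ _ hy]
    · rw [hGg c (hCM hc)]
      exact hg'i ▸ mem_img_of_mem g' (hCM hc)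
  have hKW := hK.restrict hWn
  have hKR : ∀ r ∈ R, K (G r) = G r := fun r hr => by
    rw [hGg r (hRM hr), hKe _ (hg'i ▸ mem_img_of_mem g' (hRM hr)), he' δ r (hRM hr), hfix r hr]
  -- `K` moves `G t` inside `G t · G R`
  have hKN : ∀ t ∈ N, (G t)⁻¹ * K (G t) ∈ img R G := by
    intro t ht
    have hGR := hGM'.restrict (hRM.trans hMM')
    refine hc G hGR (mem_centralizerIn.mpr ⟨T.mul_mem (T.inv_mem
      (hsc M' G hGM' t (Subgroup.mem_sup_left ht) (hNT ht))) ?_, fun x hx => ?_⟩)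
    · exact hsc W K hKW _ (mem_img_of_mem G (Subgroup.mem_sup_left ht))
        (hsc M' G hGM' t (Subgroup.mem_sup_left ht) (hNT ht))
    · obtain ⟨r, hr, rfl⟩ := hGR.mem_img.mp hx
      have hr' : cj t r ∈ R := (Subgroup.mem_normalizer_iff.mp (mem_normalizerIn.mp ht).2 r).mp hr
      have h1 : G (cj t r) = cj (G t) (G r) :=
        hGM'.map_conj (Subgroup.mem_sup_left ht) (hMM' (hRM hr))
      have h2 : K (cj (G t) (G r)) = cj (K (G t)) (K (G r)) := hKW.map_conj
        (mem_img_of_mem G (Subgroup.mem_sup_left ht)) (mem_img_of_mem G (hMM' (hRM hr)))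
      rw [← h1, hKR _ hr', h1, hKR r hr] at h2
      rw [cj_mul, ← h2, cj_inv_cj]
  have hKmaps : ∀ w ∈ W, K w ∈ W := by
    have hle : img W K ≤ W := by
      have hWe : W = img N G ⊔ img C G := (show IsMor F (N ⊔ C) G from hGM').img_sup
      have hKW' : IsMor F (img N G ⊔ img C G) K := hWe ▸ hKW
      rw [show img W K = img (img N G ⊔ img C G) K by rw [← hWe], hKW'.img_sup]
      refine sup_le (img_le fun x hx => ?_) (img_le fun x hx => ?_)
      · obtain ⟨t, ht, rfl⟩ := (hGM'.restrict le_sup_left).mem_img.mp hx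
        have h1 : G t ∈ W := mem_img_of_mem G (Subgroup.mem_sup_left ht)
        have h2 := W.mul_mem h1 (img_mono G (hRM.trans hMM') (hKN t ht))
        rwa [mul_inv_cancel_left] at h2
      · obtain ⟨c, hc', rfl⟩ := (hGM'.restrict le_sup_right).mem_img.mp hx
        have hcM : c ∈ M := hCM hc'
        rw [hGg c hcM, hKe _ (hg'i ▸ mem_img_of_mem g' hcM), he' δ c hcM,
          ← hGg _ (autFun_mem δ hcM)]
        exact mem_img_of_mem G (hMM' (autFun_mem δ hcM))
    exact fun w hw => hle (mem_img_of_mem K hw)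
  obtain ⟨Gi, hGi, hGl, hGr, hGii⟩ := hGM'.inverse
  have hm : IsMor F M' (Gi ∘ K ∘ G) :=
    (hGM'.comp hKW fun x hx => mem_img_of_mem G hx).comp hGi fun x hx =>
      hKmaps _ (mem_img_of_mem G hx)
  obtain ⟨η, hη, hηe⟩ := exists_aut hm (hm.img_eq_self fun x hx =>
    hGii ▸ mem_img_of_mem Gi (hKmaps _ (mem_img_of_mem G hx)))
  have hηM : ∀ y ∈ M, autFun η y = autFun δ y := by
    intro y hy
    rw [hηe y (hMM' hy), Function.comp_apply, Function.comp_apply, hGg y hy,
      hKe _ (hg'i ▸ mem_img_of_mem g' hy), he' δ y hy, ← hGg _ (autFun_mem δ hy),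
      hGl _ (hMM' (autFun_mem δ hy))]
  have hRM' : R ≤ M' := hRM.trans hMM'
  refine ⟨k, η ^ p ^ k, (F.autGroup M').pow_mem hη _, fun t ht => ?_, fun y hy =>
    autFun_pow_congr hMM' hηM _ y (hCM hy)⟩
  have htM' : t ∈ M' := Subgroup.mem_sup_left ht
  rw [← hk]
  refine autFun_pow_card hRM' (fun r hr => by rw [hηM r (hRM hr), hfix r hr]) htM' ?_
  obtain ⟨r, hr, hre⟩ := (hGM'.restrict hRM').mem_img.mp (hKN t ht)
  have h1 : K (G t) = G (t * r) := by
    rw [hGM'.map_mul htM' (hRM' hr), hre, mul_inv_cancel_left]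
  rw [hηe t htM', Function.comp_apply, Function.comp_apply, h1, hGl _ (M'.mul_mem htM' (hRM' hr)),
    inv_mul_cancel_left]
  exact hr

/-- An automorphism of `R C` fixing `R` has a `p`-power extending to `T C` fixing `T`. -/
theorem exists_fixing_extension (hS : IsPGroup p S) (hF : F.IsSaturated p)
    (hT : F.StronglyClosed T) {C : Subgroup Ω} (hC : C ≤ centralizerIn S T) :
    ∀ R : Subgroup Ω, R ≤ T → (∀ f, IsMor F R f → centralizerIn T (img R f) ≤ img R f) →
      ∀ δ : MulAut ↥(R ⊔ C), δ ∈ F.autGroup (R ⊔ C) → (∀ r ∈ R, autFun δ r = r) →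
        ∃ m : ℕ, ∃ η ∈ F.autGroup (T ⊔ C), (∀ t ∈ T, autFun η t = t) ∧
          ∀ y ∈ C, autFun η y = autFun (δ ^ p ^ m) y := by
  have hTS := hT.1
  suffices h : ∀ n (R : Subgroup Ω), Nat.card T - Nat.card R = n → R ≤ T →
      (∀ f, IsMor F R f → centralizerIn T (img R f) ≤ img R f) →
      ∀ δ : MulAut ↥(R ⊔ C), δ ∈ F.autGroup (R ⊔ C) → (∀ r ∈ R, autFun δ r = r) →
        ∃ m : ℕ, ∃ η ∈ F.autGroup (T ⊔ C), (∀ t ∈ T, autFun η t = t) ∧
          ∀ y ∈ C, autFun η y = autFun (δ ^ p ^ m) y from fun R => h _ R rfl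
  intro n
  induction n using Nat.strong_induction_on with
  | _ n ih =>
  intro R hn hRT hc δ hδ hfix
  subst hn
  rcases eq_or_lt_of_le hRT with e | hlt
  · subst e
    exact ⟨0, δ, hδ, hfix, fun y _ => by rw [pow_zero, pow_one]⟩
  have hstep := exists_fixing_step hS hF hT hRT hc hC rfl hδ hfix
  have : Finite T := finite_of_le hTS
  set N := normalizerIn T R
  obtain ⟨k, η, hη, hηN, hηC⟩ := hstep
  have hRN : R < N := lt_inf_normalizer (isPGroup_of_le hTS hS) hlt
  have hcN : ∀ f, IsMor F N f → centralizerIn T (img N f) ≤ img N f := fun f hf =>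
    (centralizerIn_anti (img_mono f hRN.le)).trans
      ((hc f (hf.restrict hRN.le)).trans (img_mono f hRN.le))
  obtain ⟨m, η', hη', hη'T, hη'C⟩ := ih _ (by
    have h1 : Nat.card R < Nat.card N := card_lt_of_lt (normalizerIn_le.trans hTS) hRN
    have h2 : Nat.card N ≤ Nat.card T := Subgroup.card_le_of_le normalizerIn_le
    omega) N rfl normalizerIn_le hcN η hη hηN
  refine ⟨k + m, η', hη', hη'T, fun y hy => ?_⟩
  rw [hη'C y hy, pow_add, pow_mul]
  have hmaps : R ⊔ C ≤ N ⊔ C := sup_le_sup_right hRN.le C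
  have hagree : ∀ x ∈ R ⊔ C, autFun η x = autFun (δ ^ p ^ k) x := by
    intro x hx
    have hfix' : ∀ r ∈ R, autFun (δ ^ p ^ k) r = r := by
      intro r hr
      have : ∀ i : ℕ, autFun (δ ^ i) r = r := by
        intro i
        induction i with
        | zero => rw [pow_zero, autFun_one (Subgroup.mem_sup_left hr)]
        | succ i ih' => rw [pow_succ, autFun_mul _ _ (Subgroup.mem_sup_left hr), hfix r hr, ih']
      exact this _
    have e1 := isMor_autFun ((sup_le (normalizerIn_le.trans hTS) (hC.trans centralizerIn_le)) :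
      N ⊔ C ≤ S) hη
    have e2 := isMor_autFun ((sup_le (hRT.trans hTS) (hC.trans centralizerIn_le)) :
      R ⊔ C ≤ S) ((F.autGroup (R ⊔ C)).pow_mem hδ (p ^ k))
    let Q : Subgroup Ω :=
      { carrier := {z | z ∈ R ⊔ C ∧ autFun η z = autFun (δ ^ p ^ k) z}
        one_mem' := ⟨one_mem _, e1.map_one.trans e2.map_one.symm⟩
        mul_mem' := fun {a b} ha hb => ⟨mul_mem ha.1 hb.1, by
          rw [e1.map_mul (hmaps ha.1) (hmaps hb.1), e2.map_mul ha.1 hb.1, ha.2, hb.2]⟩
        inv_mem' := fun {a} ha => ⟨Subgroup.inv_mem _ ha.1, by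
          rw [e1.map_inv (hmaps ha.1), e2.map_inv ha.1, ha.2]⟩ }
    exact ((sup_le (fun r hr => ⟨Subgroup.mem_sup_left hr, (hηN r (hRN.le hr)).trans (hfix' r hr).symm⟩)
      (fun c hc' => ⟨Subgroup.mem_sup_right hc', hηC c hc'⟩) : R ⊔ C ≤ Q) hx).2
  exact autFun_pow_congr hmaps hagree _ y (Subgroup.mem_sup_right hy)

end CfsgLib.Fusion
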