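import Mathlib
import Cfsg.Agent.Lib.Fusion.Coprime
import Cfsg.Agent.Lib.Fusion.NormalizerSaturated
import Cfsg.Agent.S5097

/-!
# Coprime automorphisms fixing the differences of a centralizer system
-/

set_option autoImplicit false
set_option linter.unusedSectionVars false
set_option maxHeartbeats 1000000

namespace CfsgLib.Fusion

open Cfsg Cfsg.FusionSystem

variable {Ω : Type*} [Group Ω] {S : Subgroup Ω} {F : FusionSystem S} {p : ℕ}
  [hp : Fact p.Prime] [Finite S]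

/-- An automorphism of `R C_S(R)` of order prime to `p`, stabilizing `R` and the cosets of `R`,
fixes all the differences `x⁻¹ f(x)` of maps of `C_F(R)`. -/
theorem fixed_diff_of_centralizing (hS : IsPGroup p S) (hF : F.IsSaturated p) {R : Subgroup Ω}
    (hR : F.IsFullyCentralized R) {C M : Subgroup Ω} (hCdef : C = centralizerIn S R)
    (hMdef : M = R ⊔ C) {β : MulAut M} (hβ : β ∈ F.autGroup M) (hc : (orderOf β).Coprime p)
    (hβR : ∀ x ∈ R, autFun β x ∈ R) (hβC : ∀ c ∈ C, c⁻¹ * autFun β c ∈ R)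
    {P : Subgroup Ω} {f : Ω → Ω} (hP : P ≤ C) (hf : IsMor F (P ⊔ R) f)
    (hfR : ∀ x ∈ R, f x = x) : ∀ x ∈ P, autFun β (x⁻¹ * f x) = x⁻¹ * f x := by
  subst hCdef
  have hRS := hR.1
  have hCS : centralizerIn S R ≤ S := centralizerIn_le
  have hRM : R ≤ M := le_sup_left.trans hMdef.ge
  have hCM : centralizerIn S R ≤ M := le_sup_right.trans hMdef.ge
  have hMS : M ≤ S := hMdef.le.trans (sup_le hRS hCS)
  have hMp : IsPGroup p M := isPGroup_of_le hMS hS
  have : Finite (centralizerIn S R) := finite_of_le hCS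
  have hCp : IsPGroup p (centralizerIn S R) := isPGroup_of_le hCS hS
  have hb := isMor_autFun hMS hβ
  have hbR : img R (autFun β) = R := (hb.restrict hRM).img_eq_self hβR
  have hbRinv : ∀ x ∈ R, autFun β⁻¹ x ∈ R := by
    intro x hx
    obtain ⟨y, hy, rfl⟩ := (hb.restrict hRM).mem_img.mp (hbR.ge hx)
    rwa [autFun_inv_left β (hRM hy)]
  have hbC : ∀ c ∈ centralizerIn S R, autFun β c ∈ centralizerIn S R := by
    intro c hcc
    refine mem_centralizerIn.mpr ⟨hMS (autFun_mem β (hCM hcc)), fun x hx => ?_⟩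
    have h1 := hbRinv x hx
    conv_lhs => rw [← autFun_inv_right β (hRM hx)]
    rw [cj_apply, ← hb.map_conj (hCM hcc) (hRM h1)]
    rw [show c * autFun β⁻¹ x * c⁻¹ = autFun β⁻¹ x from (mem_centralizerIn.mp hcc).2 _ h1,
      autFun_inv_right β (hRM hx)]
  set Z := R ⊓ centralizerIn S R with hZdef
  have hZC : Z ≤ centralizerIn S R := inf_le_right
  have hcomm : ∀ z ∈ Z, ∀ c ∈ centralizerIn S R, c * z = z * c := fun z hz c hcc =>
    cj_fixed_iff.mp ((mem_centralizerIn.mp hcc).2 z hz.1)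
  have hbd : ∀ c ∈ centralizerIn S R, c⁻¹ * autFun β c ∈ Z := fun c hcc =>
    ⟨hβC c hcc, Subgroup.mul_mem _ (Subgroup.inv_mem _ hcc) (hbC c hcc)⟩
  -- every element of `C` is fixed modulo `Z`
  let D : Subgroup Ω :=
    { carrier := {c | c ∈ centralizerIn S R ∧ ∃ z ∈ Z, autFun β (c * z) = c * z}
      one_mem' := ⟨one_mem _, 1, one_mem _, by rw [one_mul]; exact autFun_map_one β⟩
      mul_mem' := by
        rintro a b ⟨ha, za, hza, ea⟩ ⟨hb', zb, hzb, eb⟩
        refine ⟨Subgroup.mul_mem _ ha hb', za * zb, Subgroup.mul_mem _ hza hzb, ?_⟩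
        have e : a * b * (za * zb) = a * za * (b * zb) := by
          rw [mul_assoc, ← mul_assoc b za, hcomm za hza b hb']
          simp only [mul_assoc]
        rw [e, autFun_map_mul β (hCM (Subgroup.mul_mem _ ha (hZC hza)))
          (hCM (Subgroup.mul_mem _ hb' (hZC hzb))), ea, eb]
      inv_mem' := by
        rintro a ⟨ha, za, hza, ea⟩
        refine ⟨Subgroup.inv_mem _ ha, za⁻¹, Subgroup.inv_mem _ hza, ?_⟩
        have e : a⁻¹ * za⁻¹ = (a * za)⁻¹ := by
          rw [hcomm za hza a ha, mul_inv_rev]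
        rw [e, autFun_inv_map β (hCM (Subgroup.mul_mem _ ha (hZC hza))), ea] }
  have hCD : ∀ c ∈ centralizerIn S R, c ∈ D := by
    intro c hcc
    have hpow : ∀ n : ℕ, autFun (β ^ n) c ∈ centralizerIn S R ∧
        c⁻¹ * autFun (β ^ n) c ∈ Z := by
      intro n
      induction n with
      | zero =>
        rw [pow_zero, autFun_one (hCM hcc), inv_mul_cancel]
        exact ⟨hcc, one_mem _⟩
      | succ n ih =>
        rw [pow_succ', autFun_mul _ _ (hCM hcc)]
        refine ⟨hbC _ ih.1, ?_⟩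
        have := Subgroup.mul_mem _ ih.2 (hbd _ ih.1)
        simpa [mul_assoc] using this
    have hW : ∀ n : ℕ, ∃ w w' : Ω, w ∈ centralizerIn S R ∧ (c ^ n)⁻¹ * w ∈ Z ∧
        w' = w * autFun (β ^ n) c ∧ autFun β w = c⁻¹ * w' := by
      intro n
      induction n with
      | zero => exact ⟨1, _, one_mem _, by simp, rfl, by
          rw [autFun_map_one, pow_zero, autFun_one (hCM hcc)]; simp⟩
      | succ n ih =>
        obtain ⟨w, w', hw, hwz, rfl, hbw⟩ := ih
        refine ⟨w * autFun (β ^ n) c, _, Subgroup.mul_mem _ hw (hpow n).1, ?_, rfl, ?_⟩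
        · have e : (c ^ (n + 1))⁻¹ * (w * autFun (β ^ n) c) =
              ((c ^ n)⁻¹ * w) * (c⁻¹ * autFun (β ^ n) c) := by
            have h1 := hcomm _ hwz c hcc
            have h2 : c⁻¹ * ((c ^ n)⁻¹ * w) = (c ^ n)⁻¹ * w * c⁻¹ :=
              (Commute.inv_left (show Commute c ((c ^ n)⁻¹ * w) from h1)).eq
            rw [pow_succ, mul_inv_rev, mul_assoc c⁻¹, ← mul_assoc (c ^ n)⁻¹ w, ← mul_assoc c⁻¹,
              h2, mul_assoc]
          rw [e]
          exact Subgroup.mul_mem _ hwz (hpow n).2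
        · rw [autFun_map_mul β (hCM hw) (hCM (hpow n).1), hbw, ← autFun_mul _ _ (hCM hcc),
            ← pow_succ', mul_assoc]
    obtain ⟨w, w', hw, hwz, rfl, hbw⟩ := hW (orderOf β)
    rw [pow_orderOf_eq_one, autFun_one (hCM hcc)] at hbw
    have hwc : c⁻¹ * (w * c) = w := by
      have h1 := hcomm _ hwz c hcc
      have h2 : c ^ orderOf β * c = c * c ^ orderOf β := (pow_mul_comm' c _)
      rw [inv_mul_eq_iff_eq_mul]
      calc w * c = c ^ orderOf β * ((c ^ orderOf β)⁻¹ * w * c) := by group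
        _ = c ^ orderOf β * (c * ((c ^ orderOf β)⁻¹ * w)) := by rw [← h1]
        _ = c * w := by rw [← mul_assoc, h2]; group
    rw [hwc] at hbw
    have hcN : c ^ orderOf β ∈ D :=
      ⟨Subgroup.pow_mem _ hcc _, _, hwz, by rw [mul_inv_cancel_left]; exact hbw⟩
    obtain ⟨k, hk⟩ := hMp ⟨c, hCM hcc⟩
    have hk' : c ^ p ^ k = 1 := congrArg Subtype.val hk
    have h3 := D.zpow_mem hcN (Nat.gcdA (orderOf β) (p ^ k))
    have hbz := Nat.gcd_eq_gcd_ab (orderOf β) (p ^ k)
    rw [(hc.pow_right k).gcd_eq_one] at hbz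
    have h4 : c = (c ^ orderOf β) ^ Nat.gcdA (orderOf β) (p ^ k) := by
      calc c = c ^ ((1 : ℕ) : ℤ) := by simp
        _ = _ := by
          rw [hbz, zpow_add, zpow_mul, zpow_mul, zpow_natCast, zpow_natCast, hk', one_zpow, mul_one]
    exact h4 ▸ h3
  have hfixR : ∀ a ∈ centralizerIn S R, ∀ x ∈ centralizerIn S R,
      autFun β (x⁻¹ * cj a x) = x⁻¹ * cj a x := by
    intro a ha x hx
    obtain ⟨-, za, hza, ea⟩ := hCD a ha
    obtain ⟨-, zx, hzx, ex⟩ := hCD x hx
    have e1 : cj (a * za) (x * zx) = cj a x * zx := by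
      rw [cj_map_mul, cj_mul, cj_mul]
      rw [show cj za x = x by
          rw [cj_apply, cj_fixed_iff]; exact (hcomm za hza x hx).symm,
        show cj za zx = zx by
          rw [cj_apply, cj_fixed_iff]; exact (hcomm za hza zx (hZC hzx)).symm,
        show cj a zx = zx from (mem_centralizerIn.mp ha).2 zx hzx.1]
    have e2 : (x * zx)⁻¹ * cj (a * za) (x * zx) = x⁻¹ * cj a x := by
      have hxa : x⁻¹ * cj a x ∈ centralizerIn S R := Subgroup.mul_mem _ (Subgroup.inv_mem _ hx)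
        (Subgroup.mul_mem _ (Subgroup.mul_mem _ ha hx) (Subgroup.inv_mem _ ha))
      rw [e1, mul_inv_rev, mul_assoc, ← mul_assoc x⁻¹, hcomm zx hzx _ hxa, inv_mul_cancel_left]
    have hA := hCM (Subgroup.mul_mem _ ha (hZC hza))
    have hX := hCM (Subgroup.mul_mem _ hx (hZC hzx))
    rw [← e2, cj_apply (a * za), autFun_map_mul β (M.inv_mem hX)
      (M.mul_mem (M.mul_mem hA hX) (M.inv_mem hA)), autFun_inv_map β hX,
      autFun_map_mul β (M.mul_mem hA hX) (M.inv_mem hA), autFun_map_mul β hA hX,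
      autFun_inv_map β hA, ea, ex]
  obtain ⟨CF, hCF⟩ := Cfsg.Agent.S5097.result F R hRS
  have hCFs := centralizerSystem_isSaturated hS hF hR hCF
  have hiff := fun (Q : Subgroup Ω) (g : Ω → Ω) =>
    isMor_centralizerSystem hCF (P := Q) (f := g)
  let Mp : Subgroup Ω → (Ω → Ω) → Prop := fun Q g =>
    IsMor CF Q g ∧ ∀ x ∈ Q, autFun β (x⁻¹ * g x) = x⁻¹ * g x
  let E : FusionSystem (centralizerIn S R) := ofPred (centralizerIn S R) Mp
    (fun Q g h => ⟨h.1.le, fun x hx => h.1.mem hx⟩)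
    (fun Q g h x hx y hy e => h.1.inj hx hy e)
    (fun Q g g' h e => ⟨h.1.congr e, fun x hx => e x hx ▸ h.2 x hx⟩)
    (fun Q a hQ ha => ⟨isMor_cj CF hQ ha, fun x hx => hfixR a ha x (hQ hx)⟩)
    (fun Q Q' g g' h h' hgQ => ⟨h.1.comp h'.1 hgQ, fun x hx => by
      have hx1 := hCM (h.1.le hx)
      have hx2 := hCM (h.1.mem hx)
      have hx3 := hCM (h'.1.mem (hgQ x hx))
      have e : x⁻¹ * g' (g x) = (x⁻¹ * g x) * ((g x)⁻¹ * g' (g x)) := by group
      show autFun β (x⁻¹ * g' (g x)) = x⁻¹ * g' (g x)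
      rw [e, autFun_map_mul β (M.mul_mem (M.inv_mem hx1) hx2) (M.mul_mem (M.inv_mem hx2) hx3),
        h.2 x hx, h'.2 _ (hgQ x hx)]⟩)
    (fun Q g h _ => by
      obtain ⟨gi, hgi, hgl, -, -⟩ := h.1.inverse
      refine ⟨gi, ⟨hgi, fun y hy => ?_⟩, hgl⟩
      obtain ⟨x, hx, rfl⟩ := h.1.mem_img.mp hy
      have e : (g x)⁻¹ * x = (x⁻¹ * g x)⁻¹ := by group
      rw [hgl x hx, e, autFun_inv_map β (M.mul_mem (M.inv_mem (hCM (h.1.le hx)))
        (hCM (h.1.mem hx))), h.2 x hx])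
  have hEiff : ∀ Q g, IsMor E Q g ↔ Mp Q g := fun Q g =>
    isMor_ofPred fun h x hx y hy => h.1.map_mul hx hy
  have hle : CF ≤ E := by
    refine alperin hCp hCFs fun Q hQ δ hδ => ?_
    obtain ⟨hQc, hQr⟩ : CF.IsCentric Q ∧ CF.IsRadical p Q := by
      rcases hQ with rfl | hQ
      · exact ⟨centric_self CF, radical_self hCp hCFs⟩
      · exact ⟨hQ.1, essential_radical hCp hQ⟩
    have hQC := hQc.1
    have hQS : Q ≤ S := hQC.trans hCS
    have hQM : Q ≤ M := hQC.trans hCM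
    have hdm := isMor_autFun hQC hδ
    refine (autGroup_eq_set hQC δ).mpr ((hEiff _ _).mpr ⟨hdm, ?_⟩)
    have hZQ : Z ≤ Q := fun z hz => centric_centralizer_le hQc
      (mem_centralizerIn.mpr ⟨hZC hz, fun x hx => by
        rw [cj_apply, cj_fixed_iff]; exact (hcomm z hz x (hQC hx)).symm⟩)
    obtain ⟨-, -, -, g, hg, hge, hgR⟩ := (hiff _ _).mp hdm
    have hgQ : ∀ x ∈ Q, g x ∈ Q := fun x hx => hge x hx ▸ autFun_mem δ hx
    have hgi0 : img (Q ⊔ R) g = Q ⊔ R := hg.img_eq_self fun y hy => by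
      have h1 := mem_img_of_mem g hy
      rw [hg.img_sup, img_congr (P := R) (g := id) hgR, img_id] at h1
      exact sup_le_sup_right (img_le hgQ) R h1
    obtain ⟨gi, hgi, hgl, hgr, hgii⟩ := hg.inverse
    rw [hgi0] at hgi hgr hgii
    have hgiR : ∀ x ∈ R, gi x = x := fun x hx => by
      conv_lhs => rw [← hgR x hx]
      exact hgl x (Subgroup.mem_sup_right hx)
    have hgiQ : ∀ x ∈ Q, gi x ∈ Q := by
      intro x hx
      have h1 := autFun_inv_right δ hx
      rw [← hge _ (autFun_mem δ⁻¹ hx)] at h1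
      rw [← h1, hgl _ (Subgroup.mem_sup_left (autFun_mem δ⁻¹ hx))]
      exact autFun_mem δ⁻¹ hx
    have hbi := isMor_autFun hMS ((F.autGroup M).inv_mem hβ)
    have hQRM : Q ⊔ R ≤ M := sup_le hQM hRM
    have hbQ : ∀ x ∈ Q, autFun β x ∈ Q := fun x hx => by
      have := Q.mul_mem hx (hZQ (hbd x (hQC hx)))
      rwa [mul_inv_cancel_left] at this
    have hbQi : img Q (autFun β) = Q := (hb.restrict hQM).img_eq_self hbQ
    have hbiQ : ∀ x ∈ Q, autFun β⁻¹ x ∈ Q ∧ x⁻¹ * autFun β⁻¹ x ∈ Z := by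
      intro x hx
      obtain ⟨y, hy, rfl⟩ := (hb.restrict hQM).mem_img.mp (hbQi.ge hx)
      rw [autFun_inv_left β (hQM hy)]
      refine ⟨hy, ?_⟩
      have := Z.inv_mem (hbd y (hQC hy))
      simpa [mul_inv_rev] using this
    have hbiQR : ∀ x ∈ Q ⊔ R, autFun β⁻¹ x ∈ Q ⊔ R := by
      intro x hx
      have h1 := mem_img_of_mem (autFun β⁻¹) hx
      rw [(hbi.restrict hQRM).img_sup] at h1
      exact sup_le_sup (img_le fun y hy => (hbiQ y hy).1) (img_le hbRinv) h1
    let ψ : Ω → Ω := autFun β ∘ g ∘ autFun β⁻¹ ∘ gi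
    have hgim : ∀ x ∈ Q ⊔ R, gi x ∈ Q ⊔ R := fun x hx => hgii ▸ mem_img_of_mem gi hx
    have hψ : IsMor F (Q ⊔ R) ψ :=
      ((hgi.comp (hbi.restrict hQRM) hgim).comp hg fun x hx => hbiQR _ (hgim x hx)).comp hb
        fun x hx => hQRM (hgi0.le (mem_img_of_mem g (hbiQR _ (hgim x hx))))
    have hψR : ∀ x ∈ R, ψ x = x := fun x hx => by
      show autFun β (g (autFun β⁻¹ (gi x))) = x
      rw [hgiR x hx, hgR _ (hbRinv x hx), autFun_inv_right β (hRM hx)]
    have hψQ : ∀ x ∈ Q, ψ x ∈ Q ∧ x⁻¹ * ψ x ∈ Z := by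
      intro x hx
      have hu := hgiQ x hx
      obtain ⟨h1, h2⟩ := hbiQ _ hu
      refine ⟨hbQ _ (hgQ _ h1), ?_⟩
      show x⁻¹ * autFun β (g (autFun β⁻¹ (gi x))) ∈ Z
      set z := (gi x)⁻¹ * autFun β⁻¹ (gi x) with hz
      rw [show autFun β⁻¹ (gi x) = gi x * z by rw [hz, mul_inv_cancel_left],
        hg.map_mul (Subgroup.mem_sup_left hu) (Subgroup.mem_sup_right h2.1), hgR z h2.1,
        hgr x (Subgroup.mem_sup_left hx), autFun_map_mul β (hQM hx) (hRM h2.1), ← mul_assoc]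
      exact Z.mul_mem (hbd x (hQC hx)) ⟨hβR z h2.1, hbC z (hZC h2)⟩
    have hψD : IsMor CF Q ψ := (hiff _ _).mpr
      ⟨hψ.restrict le_sup_left, hQC, fun x hx => hQC (hψQ x hx).1, ψ, hψ, fun _ _ => rfl, hψR⟩
    obtain ⟨a, ha, hae⟩ := exists_aut hψD (hψD.img_eq_self fun x hx => (hψQ x hx).1)
    let W : ℕ → Subgroup Ω := fun i => if i = 0 then ⊥ else if i = 1 then Z else Q
    have hW : ∀ γ ∈ CF.autGroup Q, ∀ i, ∀ x ∈ Q, x ∈ W i → autFun γ x ∈ W i := by
      intro γ hγ i x hx hxW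
      rcases i with _ | _ | i
      · simp only [W, ↓reduceIte, Subgroup.mem_bot] at hxW ⊢
        rw [hxW]; exact autFun_map_one γ
      · simp only [W, one_ne_zero, ↓reduceIte, zero_add] at hxW ⊢
        obtain ⟨-, -, -, k, -, hke, hkR⟩ := (hiff _ _).mp (isMor_autFun hQC hγ)
        rw [← hke x hx, hkR x hxW.1]
        exact hxW
      · simp [W, autFun_mem γ hx]
    have hK : seriesStab (CF.autGroup Q) 2 W hW ≤ Inn Q := by
      refine le_inn_of_radical hQr (fun γ hγ => hγ.1) ?_ fun γ hγ k hk => seriesStab_conj hγ hk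
      refine isPGroup_stabilizing hCp hQC 2 (fun i => ((Q ⊓ W i : Subgroup Ω) : Set Ω))
        (by simp [W]) (fun x hx => by simp [W, hx])
        fun γ hγ i hi x hx hxW => ⟨Q.mul_mem (Q.inv_mem hx) (autFun_mem γ hx),
          hγ.2 i hi x hx hxW.2⟩
    have haK : a ∈ seriesStab (CF.autGroup Q) 2 W hW := by
      refine ⟨ha, fun i hi x hx hxW => ?_⟩
      rcases i with _ | _ | i
      · simp only [W, one_ne_zero, ↓reduceIte, zero_add] at hxW ⊢
        rw [hae x hx, hψR x hxW.1]; simp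
      · simp only [W, one_ne_zero, ↓reduceIte, zero_add]
        rw [hae x hx]; exact (hψQ x hx).2
      · omega
    obtain ⟨q, hq, hqe⟩ := mem_inn.mp (hK haK)
    have hfixed : ∀ x ∈ Q, autFun β x = x → autFun β (g x) = g x := by
      intro x hx hbx
      have hu := hgQ x hx
      obtain ⟨-, zu, hzu, eu⟩ := hCD _ (hQC hu)
      obtain ⟨-, zq, hzq, eq'⟩ := hCD _ (hQC hq)
      have h1 : autFun β (g x) = cj q (g x) := by
        rw [← hqe _ hu, hae _ hu]
        show _ = autFun β (g (autFun β⁻¹ (gi (g x))))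
        have hbix : autFun β⁻¹ x = x := by
          conv_lhs => rw [← hbx]
          exact autFun_inv_left β (hQM hx)
        rw [hgl x (Subgroup.mem_sup_left hx), hbix]
      set u := g x with hudef
      have hcu := hQC hu
      have hw : zu ∈ M := hRM hzu.1
      have h2 : cj q (u * zu) = cj q u * zu := by
        rw [cj_map_mul, show cj q zu = zu from (mem_centralizerIn.mp (hQC hq)).2 zu hzu.1]
      have h3 : autFun β ((u * zu)⁻¹ * cj q (u * zu)) = (u * zu)⁻¹ * cj q (u * zu) :=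
        hfixR q (hQC hq) _ (Subgroup.mul_mem _ hcu (hZC hzu))
      have e : (u * zu)⁻¹ * cj q (u * zu) = zu * (autFun β zu)⁻¹ := by
        rw [h2, ← h1]
        have h4 : autFun β u = u * zu * (autFun β zu)⁻¹ := by
          rw [eq_mul_inv_iff_mul_eq, ← autFun_map_mul β (hCM hcu) hw, eu]
        rw [h4]
        have h5 := hcomm zu hzu u hcu
        have h6 : autFun β zu ∈ Z := ⟨hβR _ hzu.1, hbC _ (hZC hzu)⟩
        have h7 := hcomm (autFun β zu)⁻¹ (Z.inv_mem h6) zu (hZC hzu)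
        simp only [mul_assoc, mul_inv_rev, inv_mul_cancel_left]
        rw [← h7]
      rw [e] at h3
      have h8 : autFun β zu = zu := by
        refine fix_of_diff_fixed hMp hc hw ?_
        have h6 : autFun β zu ∈ Z := ⟨hβR _ hzu.1, hbC _ (hZC hzu)⟩
        have h9 : zu⁻¹ * autFun β zu = (zu * (autFun β zu)⁻¹)⁻¹ := by
          rw [mul_inv_rev, inv_inv]
          exact (hcomm _ h6 _ (hZC (Z.inv_mem hzu)))
        rw [h9, autFun_inv_map β (M.mul_mem hw (M.inv_mem (hRM h6.1))), h3]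
      have h10 := eu
      rw [autFun_map_mul β (hCM hcu) hw, h8] at h10
      exact mul_right_cancel h10
    intro x hx
    obtain ⟨-, zx, hzx, ex⟩ := hCD x (hQC hx)
    have hxz : x * zx ∈ Q := Q.mul_mem hx (hZQ hzx)
    have h1 := hfixed _ hxz ex
    have h2 : (x * zx)⁻¹ * g (x * zx) = x⁻¹ * g x := by
      rw [hg.map_mul (Subgroup.mem_sup_left hx) (Subgroup.mem_sup_right hzx.1), hgR zx hzx.1,
        mul_inv_rev, mul_assoc, ← mul_assoc x⁻¹,
        hcomm zx hzx _ (Subgroup.mul_mem _ (Subgroup.inv_mem _ (hQC hx)) (hQC (hgQ x hx))),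
        inv_mul_cancel_left]
    rw [← hge x hx, ← h2, autFun_map_mul β (M.inv_mem (hQM hxz)) (hQM (hgQ _ hxz)),
      autFun_inv_map β (hQM hxz), ex, h1]
  intro x hx
  have hm : IsMor CF P f := (hiff _ _).mpr ⟨hf.restrict le_sup_left, hP, fun y hy =>
    mem_centralizerIn.mpr ⟨hf.mem (Subgroup.mem_sup_left hy), fun r hr => by
      conv_lhs => rw [← hfR r hr]
      rw [cj_apply, ← hf.map_conj (Subgroup.mem_sup_left hy) (Subgroup.mem_sup_right hr),
        show y * r * y⁻¹ = r from (mem_centralizerIn.mp (hP hy)).2 r hr, hfR r hr]⟩,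
    f, hf, fun _ _ => rfl, hfR⟩
  exact ((hEiff _ _).mp (le_iff_isMor.mp hle P f hm)).2 x hx

/-- A coprime automorphism fixes an element fixed by another extension of its restriction. -/
theorem fixed_of_fixed_extension (hS : IsPGroup p S) (hF : F.IsSaturated p) {R : Subgroup Ω}
    (hR : F.IsFullyCentralized R) {C M : Subgroup Ω} (hCdef : C = centralizerIn S R)
    (hMdef : M = R ⊔ C) {β : MulAut M} (hβ : β ∈ F.autGroup M) (hc : (orderOf β).Coprime p)
    (hβR : ∀ x ∈ R, autFun β x ∈ R) (hβC : ∀ c ∈ C, c⁻¹ * autFun β c ∈ R) {y : Ω} (hy : y ∈ C)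
    {g : Ω → Ω} (hg : IsMor F (Subgroup.zpowers y ⊔ R) g)
    (hgR : ∀ x ∈ R, g x = autFun β x) (hgy : g y = y) : autFun β y = y := by
  have hRS := hR.1
  have hRM : R ≤ M := le_sup_left.trans hMdef.ge
  have hyM : y ∈ M := hMdef.ge (Subgroup.mem_sup_right hy)
  have hMS : M ≤ S := hMdef.le.trans (sup_le hRS (hCdef.le.trans centralizerIn_le))
  have hbi := isMor_autFun hMS ((F.autGroup M).inv_mem hβ)
  have hXM : Subgroup.zpowers y ⊔ R ≤ M := sup_le (Subgroup.zpowers_le.mpr hyM) hRM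
  have hmaps : ∀ x ∈ Subgroup.zpowers y ⊔ R, g x ∈ M := by
    have h1 : img (Subgroup.zpowers y ⊔ R) g ≤ M := by
      rw [hg.img_sup]
      refine sup_le (img_le fun x hx => ?_) (img_le fun x hx => hgR x hx ▸ hRM (hβR x hx))
      obtain ⟨n, rfl⟩ := Subgroup.mem_zpowers_iff.mp hx
      rw [hg.map_zpow (Subgroup.mem_sup_left (Subgroup.mem_zpowers y)), hgy]
      exact M.zpow_mem hyM n
    exact fun x hx => h1 (mem_img_of_mem g hx)
  have hf := hg.comp hbi hmaps
  have h1 := fixed_diff_of_centralizing hS hF hR hCdef hMdef hβ hc hβR hβC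
    (Subgroup.zpowers_le.mpr hy) hf (fun x hx => by
      rw [Function.comp_apply, hgR x hx, autFun_inv_left β (hRM hx)]) y (Subgroup.mem_zpowers y)
  rw [Function.comp_apply, hgy] at h1
  have hd : y⁻¹ * autFun β⁻¹ y ∈ M := M.mul_mem (M.inv_mem hyM) (autFun_mem _ hyM)
  have h2 : autFun β⁻¹ y = y := by
    refine fix_of_diff_fixed (isPGroup_of_le hMS hS) (by rwa [orderOf_inv]) hyM ?_
    conv_lhs => rw [← h1]
    exact autFun_inv_left β hd
  conv_lhs => rw [← h2]
  exact autFun_inv_right β hyM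

end CfsgLib.Fusion
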