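import Mathlib
import Cfsg.Agent.Lib.Fusion.CentralizerFix
import Cfsg.Agent.Lib.Fusion.NormalLabel
import Cfsg.Agent.Lib.Fusion.AlperinAbove
import Cfsg.Agent.Lib.Fusion.CentralExtension
import Cfsg.Agent.Lib.Fusion.Invariant
import Cfsg.Agent.Lib.Fusion.CentricInf
import Cfsg.Agent.Lib.Transfer.NormalPComplement

/-!
# The centralizer in `S` of a normal subsystem
-/

set_option autoImplicit false
set_option linter.unusedSectionVars false
set_option maxHeartbeats 1000000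

namespace CfsgLib.Fusion

open Cfsg Cfsg.FusionSystem

variable {Ω : Type*} [Group Ω] {S T : Subgroup Ω}

/-- The maps of `E` extend to maps of `F` fixing `Y`. -/
def FixExt (F : FusionSystem S) (E : FusionSystem T) (Y : Subgroup Ω) : Prop :=
  ∀ P f, IsMor E P f → ∃ g, IsMor F (P ⊔ Y) g ∧ (∀ x ∈ P, g x = f x) ∧ ∀ y ∈ Y, g y = y

variable {F : FusionSystem S} {E : FusionSystem T}

theorem map_mem_centralizerIn {h : Ω → Ω} {R : Subgroup Ω}
    (hh : IsMor F (R ⊔ centralizerIn S T) h) (hRT : R ≤ T) {y : Ω}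
    (hy : y ∈ centralizerIn S T) : h y ∈ centralizerIn S (img R h) := by
  refine mem_centralizerIn.mpr ⟨hh.mem (Subgroup.mem_sup_right hy), fun z hz => ?_⟩
  obtain ⟨x, hx, rfl⟩ := (hh.restrict le_sup_left).mem_img.mp hz
  rw [cj_apply, ← hh.map_conj (Subgroup.mem_sup_right hy) (Subgroup.mem_sup_left hx),
    show y * x * y⁻¹ = x from (mem_centralizerIn.mp hy).2 x (hRT hx)]

/-- The elements of `C_S(T)` fixed by the coprime extensions of the automorphisms in `E`. -/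
def cElts (F : FusionSystem S) (E : FusionSystem T) (p : ℕ) : Subgroup Ω where
  carrier := {y | y ∈ centralizerIn S T ∧
    ∀ (R R' : Subgroup Ω) (h : Ω → Ω) (β : MulAut ↥(R' ⊔ centralizerIn S R')),
      E.IsCentric R → IsMor F (R ⊔ centralizerIn S T) h → img R h = R' →
      F.IsFullyNormalized R' → β ∈ F.autGroup (R' ⊔ centralizerIn S R') →
      (orderOf β).Coprime p → IsMor E R' (autFun β) → (∀ x ∈ R', autFun β x ∈ R') →
      (∀ c ∈ centralizerIn S R', c⁻¹ * autFun β c ∈ R') → autFun β (h y) = h y}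
  one_mem' := ⟨one_mem _, fun R R' h β _ hh _ _ _ _ _ _ _ => by
    rw [hh.map_one, autFun_map_one]⟩
  mul_mem' := by
    rintro a b ⟨ha, ea⟩ ⟨hb, eb⟩
    refine ⟨Subgroup.mul_mem _ ha hb, fun R R' h β hR hh hi hn hβ hc hβE hβR hβC => ?_⟩
    have h1 := map_mem_centralizerIn hh hR.1 ha
    have h2 := map_mem_centralizerIn hh hR.1 hb
    rw [hi] at h1 h2
    rw [hh.map_mul (Subgroup.mem_sup_right ha) (Subgroup.mem_sup_right hb),
      autFun_map_mul β (Subgroup.mem_sup_right h1) (Subgroup.mem_sup_right h2),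
      ea R R' h β hR hh hi hn hβ hc hβE hβR hβC, eb R R' h β hR hh hi hn hβ hc hβE hβR hβC]
  inv_mem' := by
    rintro a ⟨ha, ea⟩
    refine ⟨Subgroup.inv_mem _ ha, fun R R' h β hR hh hi hn hβ hc hβE hβR hβC => ?_⟩
    have h1 := map_mem_centralizerIn hh hR.1 ha
    rw [hi] at h1
    rw [hh.map_inv (Subgroup.mem_sup_right ha), autFun_inv_map β (Subgroup.mem_sup_right h1),
      ea R R' h β hR hh hi hn hβ hc hβE hβR hβC]

variable {p : ℕ} [hp : Fact p.Prime] [Finite S]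

theorem cElts_le : cElts F E p ≤ centralizerIn S T := fun _ hy => hy.1

omit hp in
theorem cElts_le' : cElts F E p ≤ S := fun _ hy => (mem_centralizerIn.mp hy.1).1

/-- A subgroup fixed by extensions of all maps of `E` lies in `cElts`. -/
theorem le_cElts (hS : IsPGroup p S) (hF : F.IsSaturated p) (hinv : StrongInv E F)
    {Y : Subgroup Ω} (hY : Y ≤ centralizerIn S T) (hfix : FixExt F E Y) : Y ≤ cElts F E p := by
  intro y hy
  refine ⟨hY hy, fun R R' h β hR hh hi hn hβ hc hβE hβR hβC => ?_⟩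
  have hy' := hY hy
  obtain ⟨H, hH, hHl, hHr, hHi⟩ := hh.inverse
  have hR'X : R' ≤ img (R ⊔ centralizerIn S T) h := hi ▸ img_mono h le_sup_left
  have hH' := hH.restrict hR'X
  have hR'T : R' ≤ T := hβE.le
  obtain ⟨k, hk, hke⟩ := hinv R' R' (autFun β) H le_rfl hR'T hβE hβR hH'
  have hHR : img R' H = R := by
    refine le_antisymm (img_le fun z hz => ?_) fun x hx => ?_
    · obtain ⟨x, hx, rfl⟩ := (hh.restrict le_sup_left).mem_img.mp (hi.ge hz)
      rw [hHl x (Subgroup.mem_sup_left hx)]; exact hx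
    · have := mem_img_of_mem H (hi ▸ mem_img_of_mem h hx)
      rwa [hHl x (Subgroup.mem_sup_left hx)] at this
  rw [hHR] at hk
  obtain ⟨g, hg, hgk, hgy⟩ := hfix R k hk
  have hHmem : ∀ z ∈ R', H z ∈ R := fun z hz => hHR ▸ mem_img_of_mem H hz
  have hhy : h y ∈ img (R ⊔ centralizerIn S T) h := mem_img_of_mem h (Subgroup.mem_sup_right hy')
  set D := Subgroup.zpowers (h y) ⊔ R' with hD
  have hHD := hH.restrict (sup_le (Subgroup.zpowers_le.mpr hhy) hR'X : D ≤ _)
  have hHDi : img D H ≤ Subgroup.zpowers y ⊔ R := by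
    rw [hD, hHD.img_sup]
    refine sup_le (img_le fun z hz => ?_) (hHR.le.trans le_sup_right)
    obtain ⟨n, rfl⟩ := Subgroup.mem_zpowers_iff.mp hz
    rw [hH.map_zpow hhy, hHl y (Subgroup.mem_sup_right hy')]
    exact Subgroup.mem_sup_left (Subgroup.zpow_mem_zpowers y n)
  have hg' := hg.restrict (sup_le ((Subgroup.zpowers_le.mpr hy).trans le_sup_right) le_sup_left :
    Subgroup.zpowers y ⊔ R ≤ R ⊔ Y)
  have hgi : img (Subgroup.zpowers y ⊔ R) g ≤ R ⊔ centralizerIn S T := by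
    rw [hg'.img_sup]
    refine sup_le (img_le fun z hz => ?_) (img_le fun x hx => ?_)
    · obtain ⟨n, rfl⟩ := Subgroup.mem_zpowers_iff.mp hz
      rw [hgy _ (Y.zpow_mem hy n)]
      exact Subgroup.mem_sup_right (Subgroup.zpow_mem _ hy' n)
    · rw [hgk x hx]
      obtain ⟨z, hz, rfl⟩ := hH'.mem_img.mp (hHR.ge hx)
      rw [hke z hz]
      exact Subgroup.mem_sup_left (hHmem _ (hβR z hz))
  have hψ : IsMor F D (h ∘ g ∘ H) :=
    (hHD.comp hg' fun x hx => hHDi (mem_img_of_mem H hx)).comp hh fun x hx =>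
      hgi (mem_img_of_mem g (hHDi (mem_img_of_mem H hx)))
  have hyC' := map_mem_centralizerIn hh hR.1 hy'
  rw [hi] at hyC'
  refine fixed_of_fixed_extension hS hF (isFullyCentralized_of_normalized hS hF hn) rfl rfl hβ hc
    hβR hβC hyC' hψ (fun z hz => ?_) ?_
  · show h (g (H z)) = autFun β z
    rw [hgk _ (hHmem z hz), hke z hz, hHr _ (hR'X (hβR z hz))]
  · show h (g (H (h y))) = h y
    rw [hHl y (Subgroup.mem_sup_right hy'), hgy y hy]

theorem exists_transport_inv (hinv : StrongInv E F) {Q R : Subgroup Ω} {h : Ω → Ω}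
    (hh : IsMor F Q h) (hhi : img Q h = R) (hQT : Q ≤ T) (hRT : R ≤ T)
    {α : MulAut Q} (hα : α ∈ E.autGroup Q) :
    ∃ α' ∈ E.autGroup R, ∀ x ∈ Q, autFun α' (h x) = h (autFun α x) := by
  obtain ⟨e, he, -, -⟩ := exists_transport hh hhi
  obtain ⟨k, hk, hke⟩ := hinv Q Q (autFun α) h le_rfl hQT (isMor_autFun hQT hα)
    (fun x hx => autFun_mem α hx) hh
  rw [hhi] at hk
  refine ⟨e α, (autGroup_eq_set hRT _).mpr (hk.congr fun y hy => ?_), he α⟩
  obtain ⟨x, hx, rfl⟩ := hh.mem_img.mp (hhi.symm ▸ hy)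
  rw [hke x hx, he α x hx]

omit hp [Finite S] in
/-- Two maps agreeing on two subgroups agree on their join. -/
theorem eqOn_sup {A B : Subgroup Ω} {f g : Ω → Ω} (hf : IsMor F (A ⊔ B) f)
    (hg : IsMor F (A ⊔ B) g) (hA : ∀ x ∈ A, f x = g x) (hB : ∀ x ∈ B, f x = g x) :
    ∀ x ∈ A ⊔ B, f x = g x := by
  let Q : Subgroup Ω :=
    { carrier := {z | z ∈ A ⊔ B ∧ f z = g z}
      one_mem' := ⟨one_mem _, hf.map_one.trans hg.map_one.symm⟩
      mul_mem' := fun {a b} ha hb => ⟨Subgroup.mul_mem _ ha.1 hb.1, by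
        rw [hf.map_mul ha.1 hb.1, hg.map_mul ha.1 hb.1, ha.2, hb.2]⟩
      inv_mem' := fun {a} ha => ⟨Subgroup.inv_mem _ ha.1, by
        rw [hf.map_inv ha.1, hg.map_inv ha.1, ha.2]⟩ }
  intro x hx
  exact ((sup_le (fun a ha => ⟨Subgroup.mem_sup_left ha, hA a ha⟩)
    (fun b hb => ⟨Subgroup.mem_sup_right hb, hB b hb⟩) : A ⊔ B ≤ Q) hx).2

/-- Every map of `E` extends to a map of `F` fixing `cElts`. -/
theorem fixExt_cElts (hS : IsPGroup p S) (hF : F.IsSaturated p) (hE : E.IsNormalIn F p)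
    (hinv : StrongInv E F) : FixExt F E (cElts F E p) := by
  obtain ⟨⟨hEs, -, hsub, hT, -⟩, hext⟩ := hE
  have hTS := hT.1
  have hsc := (stronglyClosed_iff.mp hT).2
  have hSN := stronglyClosed_le_normalizer hT
  have hTp : IsPGroup p T := isPGroup_of_le hTS hS
  have : Finite T := finite_of_le hTS
  set Y := cElts F E p with hYdef
  have hYS : Y ≤ S := cElts_le'
  have hYT : ∀ t ∈ T, ∀ y ∈ Y, cj t y = y := fun t ht y hy => by
    have h : cj y t = t := (mem_centralizerIn.mp hy.1).2 t ht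
    rw [cj_apply, cj_fixed_iff] at h
    rw [cj_apply, cj_fixed_iff, h]
  let Mp : Subgroup Ω → (Ω → Ω) → Prop := fun P f =>
    IsMor E P f ∧ ∃ g, IsMor F (P ⊔ Y) g ∧ (∀ x ∈ P, g x = f x) ∧ ∀ y ∈ Y, g y = y
  let Es : FusionSystem T := ofPred T Mp (fun P f h => ⟨h.1.le, fun x hx => h.1.mem hx⟩)
    (fun P f h x hx y hy e => h.1.inj hx hy e)
    (fun P f f' ⟨hf, g, hg, hgf, hgY⟩ e =>
      ⟨hf.congr e, g, hg, fun x hx => (hgf x hx).trans (e x hx), hgY⟩)
    (fun P t hP ht => ⟨isMor_cj E hP ht, cj t,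
      isMor_cj F (sup_le (hP.trans hTS) hYS) (hTS ht), fun _ _ => rfl, hYT t ht⟩)
    (fun P R f k ⟨hf, g, hg, hgf, hgY⟩ ⟨hk, g', hg', hgk, hgY'⟩ hfR => by
      refine ⟨hf.comp hk hfR, g' ∘ g, hg.comp hg' ?_, fun x hx => ?_, fun x hx => ?_⟩
      · intro x hx
        have h1 := mem_img_of_mem g hx
        rw [hg.img_sup, img_congr (P := Y) (g := id) hgY, img_id, img_congr hgf] at h1
        exact sup_le_sup_right (img_le hfR) Y h1
      · show g' (g x) = k (f x)
        rw [hgf x hx, hgk _ (hfR x hx)]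
      · show g' (g x) = x
        rw [hgY x hx, hgY' x hx])
    (fun P f ⟨hf, g, hg, hgf, hgY⟩ _ => by
      obtain ⟨fi, hfi, hfl, -, -⟩ := hf.inverse
      obtain ⟨g', hg', hl, -, -⟩ := hg.inverse
      have hle : img P f ≤ img (P ⊔ Y) g :=
        (img_congr (fun x hx => (hgf x hx).symm)).le.trans (img_mono g le_sup_left)
      have hYg : Y ≤ img (P ⊔ Y) g := fun x hx =>
        hgY x hx ▸ mem_img_of_mem g (Subgroup.mem_sup_right hx)
      refine ⟨fi, ⟨hfi, g', hg'.restrict (sup_le hle hYg), fun y hy => ?_, fun y hy => ?_⟩, hfl⟩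
      · obtain ⟨x, hx, rfl⟩ := hf.mem_img.mp hy
        rw [hfl x hx, ← hgf x hx, hl x (Subgroup.mem_sup_left hx)]
      · conv_lhs => rw [← hgY y hy]
        exact hl y (Subgroup.mem_sup_right hy))
  have hEsiff : ∀ P f, IsMor Es P f ↔ Mp P f := fun P f =>
    isMor_ofPred fun h x hx y hy => h.1.map_mul hx hy
  suffices hAut : ∀ n (Q : Subgroup Ω), Nat.card T - Nat.card Q = n →
      (Q = T ∨ E.IsEssential p Q) → E.autGroup Q ≤ Es.autGroup Q by
    intro P f hf
    exact ((hEsiff P f).mp (le_iff_isMor.mp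
      (alperin hTp hEs fun Q hQ => hAut _ Q rfl hQ) P f hf)).2
  intro n
  induction n using Nat.strong_induction_on with
  | _ n ih =>
  intro Q hn hQ
  subst hn
  obtain ⟨hQc, hQn⟩ : E.IsCentric Q ∧ E.IsFullyNormalized Q := by
    rcases hQ with rfl | hQ
    · exact ⟨centric_self E, isFullyNormalized_self E⟩
    · exact ⟨hQ.1, hQ.2.1⟩
  have habove : ∀ P f, IsMor E P f → Nat.card Q < Nat.card P → IsMor Es P f :=
    alperin_above (Nat.card Q) hTp hEs fun P hm hP => ih _ (by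
      have h1 : Nat.card P ≤ Nat.card T :=
        Subgroup.card_le_of_le (hP.elim (fun e => e.le) essential_le)
      omega) P rfl hP
  have hQT := hQc.1
  have hQS := hQT.trans hTS
  obtain ⟨R', hQR', hR'n⟩ := exists_fullyNormalized F hQS
  obtain ⟨h, hh, hhi, hhN⟩ := exists_map_fullyNormalized hS hF hR'n hQR'
  have hQN : Q ≤ normalizerIn S Q := le_normalizerIn hQS
  have hhQ := hh.restrict hQN
  have hR'c : E.IsCentric R' := hhi ▸ centric_img_of_invariant hS hF hsub hT hinv hQc hhQ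
  have hR'T := hR'c.1
  have hR'S := hR'T.trans hTS
  have hCQ : Q ⊔ centralizerIn S T ≤ normalizerIn S Q :=
    sup_le hQN ((centralizerIn_anti hQT).trans centralizerIn_le_normalizerIn)
  set C' := centralizerIn S R' with hC'def
  have hR'M : R' ≤ R' ⊔ C' := le_sup_left
  have hC'M : C' ≤ R' ⊔ C' := le_sup_right
  have hMS : R' ⊔ C' ≤ S := sup_le hR'S centralizerIn_le
  have := finite_mulAut hMS
  have := finite_mulAut hQS
  have hhR : ∀ x ∈ Q, h x ∈ R' := fun x hx => hhi ▸ mem_img_of_mem h hx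
  let Lift : MulAut Q → MulAut ↥(R' ⊔ C') → Prop := fun α β =>
    β ∈ F.autGroup (R' ⊔ C') ∧ (∀ x ∈ Q, autFun β (h x) = h (autFun α x)) ∧
      ∀ c ∈ C', c⁻¹ * autFun β c ∈ R'
  have hLR : ∀ α β, Lift α β → ∀ r ∈ R', autFun β r ∈ R' := fun α β hl r hr => by
    obtain ⟨x, hx, rfl⟩ := hhQ.mem_img.mp (hhi.ge hr)
    rw [hl.2.1 x hx]; exact hhR _ (autFun_mem α hx)
  have hL1 : Lift 1 1 := ⟨one_mem _, fun x hx => by
      rw [autFun_one hx, autFun_one (hR'M (hhR x hx))], fun c hc => by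
      rw [autFun_one (hC'M hc), inv_mul_cancel]; exact one_mem _⟩
  have hLmul : ∀ a a' b b', Lift a b → Lift a' b' → Lift (a * a') (b * b') := by
    intro a a' b b' hl hl'
    refine ⟨Subgroup.mul_mem _ hl.1 hl'.1, fun x hx => ?_, fun c hc => ?_⟩
    · rw [autFun_mul _ _ (hR'M (hhR x hx)), hl'.2.1 x hx, hl.2.1 _ (autFun_mem a' hx),
        autFun_mul _ _ hx]
    · have hd := hl'.2.2 c hc
      have e : autFun b' c = c * (c⁻¹ * autFun b' c) := (mul_inv_cancel_left _ _).symm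
      rw [autFun_mul _ _ (hC'M hc), e, autFun_map_mul b (hC'M hc) (hR'M hd), ← mul_assoc]
      exact R'.mul_mem (hl.2.2 c hc) (hLR a b hl _ hd)
  have hLinv : ∀ a b, Lift a b → Lift a⁻¹ b⁻¹ := by
    intro a b hl
    have h1 : ∀ x ∈ Q, autFun b⁻¹ (h x) = h (autFun a⁻¹ x) := fun x hx => by
      conv_lhs => rw [← autFun_inv_right a hx, ← hl.2.1 _ (autFun_mem a⁻¹ hx)]
      exact autFun_inv_left b (hR'M (hhR _ (autFun_mem a⁻¹ hx)))
    refine ⟨Subgroup.inv_mem _ hl.1, h1, fun c hc => ?_⟩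
    have hd := hl.2.2 c hc
    obtain ⟨x, hx, hxe⟩ := hhQ.mem_img.mp (hhi.ge hd)
    have hd' : autFun b⁻¹ (c⁻¹ * autFun b c) ∈ R' := by
      rw [← hxe, h1 x hx]; exact hhR _ (autFun_mem _ hx)
    rw [autFun_map_mul b⁻¹ (Subgroup.inv_mem _ (hC'M hc)) (autFun_mem b (hC'M hc)),
      autFun_inv_map b⁻¹ (hC'M hc), autFun_inv_left b (hC'M hc)] at hd'
    have := R'.inv_mem hd'
    rwa [mul_inv_rev, inv_inv] at this
  let K : Subgroup (MulAut Q) :=
    { carrier := {α | α ∈ E.autGroup Q ∧ ∃ β, Lift α β}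
      one_mem' := ⟨one_mem _, 1, hL1⟩
      mul_mem' := fun {a a'} ha ha' => by
        obtain ⟨b, hb⟩ := ha.2
        obtain ⟨b', hb'⟩ := ha'.2
        exact ⟨Subgroup.mul_mem _ ha.1 ha'.1, _, hLmul a a' b b' hb hb'⟩
      inv_mem' := fun {a} ha => by
        obtain ⟨b, hb⟩ := ha.2
        exact ⟨Subgroup.inv_mem _ ha.1, _, hLinv a b hb⟩ }
  have hKA : K ≤ E.autGroup Q := fun a ha => ha.1
  have hKn : ∀ a ∈ E.autGroup Q, ∀ k ∈ K, a * k * a⁻¹ ∈ K := by
    intro a ha k hk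
    refine ⟨Subgroup.mul_mem _ (Subgroup.mul_mem _ ha hk.1) (Subgroup.inv_mem _ ha), ?_⟩
    obtain ⟨b, hb⟩ := hk.2
    obtain ⟨e, he, heA, -⟩ := exists_transport hhQ hhi
    have hea := (heA a).mp (autGroup_mono hsub ha)
    obtain ⟨g, hg, hge, hgC⟩ := exists_map_centralizer (isFullyAutomized_of_normalized hS hF hR'n).2
      (isMor_autFun hR'S hea) (img_autFun (e a))
    have hgM : img (R' ⊔ C') g = R' ⊔ C' := by
      have hg' : IsMor F (R' ⊔ C') g := sup_comm C' R' ▸ hg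
      refine hg'.img_eq_self fun y hy => ?_
      have h1 := mem_img_of_mem g hy
      rw [hg'.img_sup, img_congr hge, img_autFun] at h1
      exact sup_le_sup_left hgC R' h1
    obtain ⟨γ, hγ, hγe⟩ := exists_aut (sup_comm C' R' ▸ hg : IsMor F (R' ⊔ C') g) hgM
    have hγh : ∀ x ∈ Q, autFun γ (h x) = h (autFun a x) := fun x hx => by
      rw [hγe _ (hR'M (hhR x hx)), hge _ (hhR x hx), he a x hx]
    have hγhi : ∀ x ∈ Q, autFun γ⁻¹ (h x) = h (autFun a⁻¹ x) := fun x hx => by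
      conv_lhs => rw [← autFun_inv_right a hx, ← hγh _ (autFun_mem a⁻¹ hx)]
      exact autFun_inv_left γ (hR'M (hhR _ (autFun_mem a⁻¹ hx)))
    refine ⟨γ * b * γ⁻¹, Subgroup.mul_mem _ (Subgroup.mul_mem _ hγ hb.1) (Subgroup.inv_mem _ hγ),
      fun x hx => ?_, fun c hc => ?_⟩
    · rw [autFun_mul _ _ (hR'M (hhR x hx)), autFun_mul _ _ (autFun_mem γ⁻¹ (hR'M (hhR x hx))),
        hγhi x hx, hb.2.1 _ (autFun_mem a⁻¹ hx), hγh _ (autFun_mem k (autFun_mem a⁻¹ hx)),
        autFun_mul _ _ hx, autFun_mul _ _ (autFun_mem a⁻¹ hx)]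
    · have hC'i : img C' (autFun γ) = C' := ((isMor_autFun hMS hγ).restrict hC'M).img_eq_self
        fun y hy => hγe y (hC'M hy) ▸ hgC (mem_img_of_mem g hy)
      obtain ⟨c', hc', rfl⟩ := ((isMor_autFun hMS hγ).restrict hC'M).mem_img.mp (hC'i.ge hc)
      have hd := hb.2.2 c' hc'
      rw [autFun_mul _ _ (autFun_mem γ (hC'M hc')), autFun_mul _ _ (autFun_mem _ (autFun_mem γ (hC'M hc'))),
        autFun_inv_left γ (hC'M hc'), ← autFun_inv_map γ (hC'M hc'),
        ← autFun_map_mul γ (Subgroup.inv_mem _ (hC'M hc')) (autFun_mem b (hC'M hc'))]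
      obtain ⟨x, hx, hxe⟩ := hhQ.mem_img.mp (hhi.ge hd)
      rw [← hxe, hγh x hx]
      exact hhR _ (autFun_mem a hx)
  have hinner : autInducedBy T Q ≤ K := by
    intro α hα
    obtain ⟨t, ht, htn, hte⟩ := mem_autInducedBy.mp hα
    have htN : t ∈ normalizerIn S Q := mem_normalizerIn.mpr ⟨hTS ht, htn⟩
    have hht : h t ∈ T := hsc _ h hh t htN ht
    obtain ⟨-, hhtn⟩ := mem_normalizerIn.mp (hhN (mem_img_of_mem h htN))
    have hconj : ∀ c ∈ C', cj (h t) c ∈ C' ∧ c⁻¹ * cj (h t) c ∈ R' := by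
      intro c hc
      obtain ⟨hcS, hcc⟩ := mem_centralizerIn.mp hc
      have h1 : cj (h t) c ∈ C' := by
        refine mem_centralizerIn.mpr
          ⟨S.mul_mem (S.mul_mem (hTS hht) hcS) (S.inv_mem (hTS hht)), fun y hy => ?_⟩
        have hy' : cj (h t)⁻¹ y ∈ R' :=
          (Subgroup.mem_normalizer_iff.mp (Subgroup.inv_mem _ hhtn) y).mp hy
        show cj (h t * c * (h t)⁻¹) y = y
        rw [cj_mul, cj_mul, hcc _ hy', cj_cj_inv]
      refine ⟨h1, centric_centralizer_le hR'c (mem_centralizerIn.mpr ⟨?_, fun y hy => ?_⟩)⟩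
      · rw [show c⁻¹ * cj (h t) c = (c⁻¹ * h t * c⁻¹⁻¹) * (h t)⁻¹ by rw [cj_apply, inv_inv]; group]
        exact T.mul_mem ((Subgroup.mem_normalizer_iff.mp (Subgroup.inv_mem _ (hSN hcS)) (h t)).mp hht)
          (T.inv_mem hht)
      · rw [cj_mul, (mem_centralizerIn.mp h1).2 y hy,
          (mem_centralizerIn.mp (C'.inv_mem hc)).2 y hy]
    have htM : h t ∈ Subgroup.normalizer ((R' ⊔ C' : Subgroup Ω) : Set Ω) := by
      have hle : R' ⊔ C' ≤ (R' ⊔ C').comap (MulAut.conj (h t)).toMonoidHom := sup_le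
        (fun r hr => Subgroup.mem_sup_left ((Subgroup.mem_normalizer_iff.mp hhtn r).mp hr))
        (fun c hc => Subgroup.mem_sup_right (hconj c hc).1)
      have : Finite ↥(R' ⊔ C') := finite_of_le hMS
      exact Subgroup.mem_normalizer_fintype fun u hu => hle hu
    obtain ⟨β, hβ, hβe⟩ := exists_autInducedBy (K := S) (hTS hht) htM
    refine ⟨autInducedBy_le E hQT hα, β, autInducedBy_le F hMS hβ, fun x hx => ?_, fun c hc => ?_⟩
    · rw [hβe _ (hR'M (hhR x hx)), hte x hx, cj_apply (h t)]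
      exact (hh.map_conj htN (hQN hx)).symm
    · rw [hβe c (hC'M hc)]; exact (hconj c hc).2
  have hsyl := (isFullyAutomized_iff.mp (isFullyAutomized_of_normalized hTp hEs hQn).1).2
  have hsylK : IsSylIn p (autInducedBy T Q) K :=
    ⟨hinner, hsyl.2.1, fun C hC hle hCK => hsyl.2.2 C hC hle (hCK.trans hKA)⟩
  have hKEs : K ≤ Es.autGroup Q := by
    obtain ⟨P₀, hP₀⟩ := (exists_sylow_iff hinner).mpr hsylK
    have htop := CfsgLib.Transfer.sup_pResidual_eq_top P₀
    have hle : (P₀ : Subgroup K) ⊔ pResidual p K ≤ (Es.autGroup Q).subgroupOf K := by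
      refine sup_le (fun r hr => ?_) ((Subgroup.closure_le _).mpr fun r hr => ?_)
      · rw [hP₀] at hr
        exact autInducedBy_le Es hQT hr
      obtain ⟨k, hk⟩ := r
      have hkc : (orderOf k).Coprime p := by
        have : orderOf k = orderOf (⟨k, hk⟩ : K) := (Subgroup.orderOf_mk k hk).symm
        rw [this]; exact hr
      obtain ⟨hkE, b, hb⟩ := hk
      obtain ⟨a, r', hr', hor⟩ :=
        Nat.exists_eq_pow_mul_and_not_dvd (orderOf_pos b).ne' p hp.out.ne_one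
      obtain ⟨m, hm1, hm2⟩ := Nat.chineseRemainder (hkc.pow_right a) 1 0
      have hkm : k ^ m = k := (pow_eq_pow_iff_modEq.mpr hm1).trans (pow_one _)
      have hLpow : ∀ i : ℕ, Lift (k ^ i) (b ^ i) := by
        intro i
        induction i with
        | zero => rw [pow_zero, pow_zero]; exact hL1
        | succ i ih' => rw [pow_succ, pow_succ]; exact hLmul _ _ _ _ ih' hb
      have hl := hLpow m
      rw [hkm] at hl
      have hbc : (orderOf (b ^ m)).Coprime p := by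
        refine Nat.Coprime.coprime_dvd_left (orderOf_dvd_of_pow_eq_one ?_)
          ((Nat.Prime.coprime_iff_not_dvd hp.out).mpr hr').symm
        rw [← pow_mul, ← orderOf_dvd_iff_pow_eq_one, hor]
        exact Nat.mul_dvd_mul_right (Nat.modEq_zero_iff_dvd.mp hm2) r'
      obtain ⟨k', hk', hk'e⟩ := exists_transport_inv hinv hhQ hhi hQT hR'T hkE
      have hbE : IsMor E R' (autFun (b ^ m)) := (isMor_autFun hR'T hk').congr fun y hy => by
        obtain ⟨x, hx, rfl⟩ := hhQ.mem_img.mp (hhi.ge hy)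
        rw [hk'e x hx, hl.2.1 x hx]
      have hfix : ∀ y ∈ Y, autFun (b ^ m) (h y) = h y := fun y hy =>
        hy.2 Q R' h (b ^ m) hQc (hh.restrict hCQ) hhi hR'n hl.1 hbc hbE (hLR _ _ hl) hl.2.2
      have hYC : Y ≤ centralizerIn S T := cElts_le
      have hdom : Q ⊔ Y ≤ Q ⊔ centralizerIn S T := sup_le_sup_left hYC Q
      have hh1 := hh.restrict (hdom.trans hCQ)
      have hyC' : ∀ y ∈ Y, h y ∈ C' := fun y hy => by
        have := map_mem_centralizerIn (hh.restrict hCQ) hQT hy.1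
        rwa [hhi] at this
      have hm1' : ∀ x ∈ Q ⊔ Y, h x ∈ R' ⊔ C' := fun x hx => by
        have h1 := mem_img_of_mem h hx
        rw [hh1.img_sup] at h1
        exact sup_le_sup (img_le hhR) (img_le hyC') h1
      have hc1 := hh1.comp (isMor_autFun hMS hl.1) hm1'
      obtain ⟨H, hH, hHl, -, -⟩ := hh1.inverse
      have hm2' : ∀ x ∈ Q ⊔ Y, (autFun (b ^ m) ∘ h) x ∈ img (Q ⊔ Y) h := fun x hx => by
        have h1 := mem_img_of_mem (autFun (b ^ m) ∘ h) hx
        rw [hc1.img_sup] at h1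
        refine (sup_le (img_le fun z hz => ?_) (img_le fun y hy => ?_) :
          img Q (autFun (b ^ m) ∘ h) ⊔ img Y (autFun (b ^ m) ∘ h) ≤ img (Q ⊔ Y) h) h1
        · rw [Function.comp_apply, hl.2.1 z hz]
          exact mem_img_of_mem h (Subgroup.mem_sup_left (autFun_mem k hz))
        · rw [Function.comp_apply, hfix y hy]
          exact mem_img_of_mem h (Subgroup.mem_sup_right hy)
      refine (autGroup_eq_set hQT _).mpr ((hEsiff _ _).mpr ⟨isMor_autFun hQT hkE,
        H ∘ (autFun (b ^ m) ∘ h), hc1.comp hH hm2', fun x hx => ?_, fun y hy => ?_⟩)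
      · show H (autFun (b ^ m) (h x)) = autFun k x
        rw [hl.2.1 x hx, hHl _ (Subgroup.mem_sup_left (autFun_mem k hx))]
      · show H (autFun (b ^ m) (h y)) = y
        rw [hfix y hy, hHl _ (Subgroup.mem_sup_right hy)]
    intro α hα
    exact hle (htop ▸ Subgroup.mem_top (⟨α, hα⟩ : K))
  intro α hα
  rcases eq_or_lt_of_le hQT with e | hlt
  · refine hKEs ⟨hα, ?_⟩
    subst e
    obtain rfl : R' = Q := hhi.symm.trans (hhQ.img_eq_self fun x hx => hsc _ h hhQ x hx hx)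
    obtain ⟨α', hα', hα'e⟩ := exists_transport_inv hinv hhQ hhi le_rfl le_rfl hα
    obtain ⟨β, hβ, hβx, hβc⟩ := hext α' hα'
    refine ⟨β, hβ, fun x hx => ?_, fun c hc => ?_⟩
    · rw [← hα'e x hx, autFun_of_mem β (hR'M (hhR x hx)), autFun_of_mem α' (hhR x hx)]
      exact hβx ⟨h x, hhR x hx⟩
    · rw [autFun_of_mem β (hC'M hc)]
      exact (Subgroup.mem_inf.mp (hβc ⟨c, hC'M hc⟩ hc)).1
  obtain ⟨k, hk, hkc⟩ := hsylK.exists_conj_le (C := (autInducedBy T Q).map (MulAut.conj α).toMonoidHom)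
    (hsylK.2.1.map _) (by
      rintro _ ⟨c, hc, rfl⟩
      exact hKn α hα c (hinner hc))
  have hnE : k * α ∈ E.autGroup Q := Subgroup.mul_mem _ (hKA hk) hα
  have hN : normalizerIn T Q ≤ nExt T Q (autFun (k * α)) := by
    intro t ht
    obtain ⟨htT, htn⟩ := mem_normalizerIn.mp ht
    obtain ⟨c, hc, hce⟩ := exists_autInducedBy htT htn
    obtain ⟨u, hu, -, hue⟩ := mem_autInducedBy.mp (hkc _ ⟨c, hc, rfl⟩)
    refine ⟨htT, htn, u, hu, (mul_conj_aut (α := k * α) hce hue).mp ?_⟩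
    simp [mul_assoc]
  obtain ⟨g, hg, hge⟩ := (isReceptive_iff.mp (isFullyAutomized_of_normalized hTp hEs hQn).2).2 Q _
    (isMor_autFun hQT hnE) (img_autFun (k * α))
  have hgN := hg.restrict hN
  have hlt' := normalizerIn_gt hTp hlt
  have hnEs : k * α ∈ Es.autGroup Q := (autGroup_eq_set hQT _).mpr
    (((habove _ g hgN (card_lt_of_lt (normalizerIn_le.trans hTS) hlt')).restrict hlt'.le).congr hge)
  have := Subgroup.mul_mem _ (Subgroup.inv_mem _ (hKEs hk)) hnEs
  rwa [inv_mul_cancel_left] at this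

end CfsgLib.Fusion
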