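import Mathlib
import Cfsg.Agent.Lib.Fusion.NormalCentralizer
import Cfsg.Agent.S5119

/-!
# The centralizer of a normal subsystem is strongly closed
-/

set_option autoImplicit false
set_option linter.unusedSectionVars false
set_option maxHeartbeats 1000000

namespace CfsgLib.Fusion

open Cfsg Cfsg.FusionSystem

variable {Ω : Type*} [Group Ω] {S T : Subgroup Ω} {F : FusionSystem S} {E : FusionSystem T}
  {p : ℕ} [hp : Fact p.Prime] [Finite S]

theorem strongInv_of_isNormalIn (hS : IsPGroup p S) (hF : F.IsSaturated p)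
    (hE : E.IsNormalIn F p) : StrongInv E F :=
  strongInv_iff.mpr ((Cfsg.Agent.S5119.result p hS F hF E hE.1.2.2.1 hE.1.2.2.2.1).mp hE.1.2.2)

/-- A map of `F` stabilizing `T` carries elements of `cElts` into `cElts`. -/
theorem transport_mem_cElts (hS : IsPGroup p S) (hF : F.IsSaturated p) (hE : E.IsNormalIn F p)
    {y : Ω} (hy : y ∈ cElts F E p) {φ : Ω → Ω} (hφ : IsMor F (T ⊔ Subgroup.zpowers y) φ) :
    φ y ∈ cElts F E p := by
  have hinv := strongInv_of_isNormalIn hS hF hE
  obtain ⟨hTS, hsc⟩ := stronglyClosed_iff.mp hE.1.2.2.2.1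
  have hφT : img T φ = T := (hφ.restrict le_sup_left).img_eq_self fun x hx =>
    hsc _ φ hφ x (Subgroup.mem_sup_left hx) hx
  have hyz : y ∈ T ⊔ Subgroup.zpowers y := Subgroup.mem_sup_right (Subgroup.mem_zpowers y)
  have hy' : φ y ∈ centralizerIn S T := by
    refine mem_centralizerIn.mpr ⟨hφ.mem hyz, fun t ht => ?_⟩
    obtain ⟨x, hx, rfl⟩ := (hφ.restrict le_sup_left).mem_img.mp (hφT.ge ht)
    rw [cj_apply, ← hφ.map_conj hyz (Subgroup.mem_sup_left hx),
      show y * x * y⁻¹ = x from (mem_centralizerIn.mp (cElts_le hy)).2 x hx]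
  refine le_cElts hS hF hinv (Subgroup.zpowers_le.mpr hy') ?_ (Subgroup.mem_zpowers (φ y))
  obtain ⟨φi, hφi, hl, hr, hii⟩ := hφ.inverse
  have hTim : T ≤ img (T ⊔ Subgroup.zpowers y) φ := hφT.ge.trans (img_mono φ le_sup_left)
  have hyim : φ y ∈ img (T ⊔ Subgroup.zpowers y) φ := mem_img_of_mem φ hyz
  have hφiT : ∀ x ∈ T, φi x ∈ T := fun x hx => by
    obtain ⟨x', hx', rfl⟩ := (hφ.restrict le_sup_left).mem_img.mp (hφT.ge hx)
    rw [hl x' (Subgroup.mem_sup_left hx')]; exact hx'
  intro P f hf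
  have hPT : P ≤ T := hf.le
  obtain ⟨k, hk, hke⟩ := hinv P T f φi hPT le_rfl hf (fun x hx => hf.mem hx) (hφi.restrict hTim)
  obtain ⟨g, hg, hgk, hgy⟩ := fixExt_cElts hS hF hE hinv _ k hk
  have hdom : P ⊔ Subgroup.zpowers (φ y) ≤ img (T ⊔ Subgroup.zpowers y) φ :=
    sup_le (hPT.trans hTim) (Subgroup.zpowers_le.mpr hyim)
  have h1 := hφi.restrict hdom
  have hm1 : ∀ x ∈ P ⊔ Subgroup.zpowers (φ y), φi x ∈ img P φi ⊔ Subgroup.zpowers y := by
    intro x hx
    have h2 := mem_img_of_mem φi hx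
    rw [h1.img_sup] at h2
    refine sup_le_sup_left (img_le fun z hz => ?_) _ h2
    obtain ⟨n, rfl⟩ := Subgroup.mem_zpowers_iff.mp hz
    rw [hφi.map_zpow hyim, hl y hyz]
    exact Subgroup.zpow_mem_zpowers y n
  have hg' := hg.restrict
    (sup_le_sup_left (Subgroup.zpowers_le.mpr hy) _ : img P φi ⊔ Subgroup.zpowers y ≤ _)
  have hm2 : ∀ x ∈ img P φi ⊔ Subgroup.zpowers y, g x ∈ T ⊔ Subgroup.zpowers y := by
    intro x hx
    have h2 := mem_img_of_mem g hx
    rw [hg'.img_sup] at h2
    refine sup_le_sup (img_le fun z hz => ?_) (img_le fun z hz => ?_) h2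
    · rw [hgk z hz]; exact hk.mem hz
    · obtain ⟨n, rfl⟩ := Subgroup.mem_zpowers_iff.mp hz
      rw [hgy _ ((cElts F E p).zpow_mem hy n)]
      exact Subgroup.zpow_mem_zpowers y n
  refine ⟨φ ∘ (g ∘ φi), (h1.comp hg' hm1).comp hφ fun x hx => hm2 _ (hm1 x hx),
    fun x hx => ?_, fun z hz => ?_⟩
  · show φ (g (φi x)) = f x
    rw [hgk _ (mem_img_of_mem φi hx), hke x hx, hr _ (hTim (hf.mem hx))]
  · obtain ⟨n, rfl⟩ := Subgroup.mem_zpowers_iff.mp hz
    show φ (g (φi ((φ y) ^ n))) = φ y ^ n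
    rw [hφi.map_zpow hyim, hl y hyz, hgy _ ((cElts F E p).zpow_mem hy n), hφ.map_zpow hyz]

theorem cj_mem_cElts (hS : IsPGroup p S) (hF : F.IsSaturated p) (hE : E.IsNormalIn F p)
    {y : Ω} (hy : y ∈ cElts F E p) {s : Ω} (hs : s ∈ S) : cj s y ∈ cElts F E p :=
  transport_mem_cElts hS hF hE hy
    (isMor_cj F (sup_le hE.1.2.2.2.1.1 (Subgroup.zpowers_le.mpr (cElts_le' hy))) hs)

/-- A map on a subgroup of `T` extends to one carrying `cElts` onto itself. -/
theorem exists_straighten (hS : IsPGroup p S) (hF : F.IsSaturated p) (hE : E.IsNormalIn F p)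
    {V : Subgroup Ω} {h : Ω → Ω} (hV : V ≤ T) (hh : IsMor F V h) :
    ∃ g, IsMor F (V ⊔ cElts F E p) g ∧ (∀ x ∈ V, g x = h x) ∧
      img (cElts F E p) g = cElts F E p := by
  have hinv := strongInv_of_isNormalIn hS hF hE
  have hT := hE.1.2.2.2.1
  obtain ⟨hTS, hsc⟩ := stronglyClosed_iff.mp hT
  obtain ⟨a, ha, e, he, hfe⟩ := factors_of_strongInv hS hF hE.1.2.2.1 hT hinv hh hV
  obtain ⟨ge, hge, hgee, hgeY⟩ := fixExt_cElts hS hF hE hinv V e he
  have hTn : F.IsFullyNormalized T := by
    refine ⟨hTS, fun R hR => ?_⟩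
    obtain ⟨f, hf, hfi⟩ := isConj_iff.mp hR
    have e1 : img T f = T := hf.img_eq_self fun x hx => hsc T f hf x hx hx
    rw [← hfi, e1]
  obtain ⟨ga, hga, hgaa, -⟩ := exists_map_centralizer
    (isFullyAutomized_of_normalized hS hF hTn).2 (isMor_autFun hTS ha) (img_autFun a)
  have hY : ∀ y ∈ cElts F E p, ga y ∈ cElts F E p := fun y hy =>
    transport_mem_cElts hS hF hE hy (hga.restrict (sup_le le_sup_right
      ((Subgroup.zpowers_le.mpr (cElts_le hy)).trans le_sup_left)))
  have hm : ∀ x ∈ V ⊔ cElts F E p, ge x ∈ centralizerIn S T ⊔ T := by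
    intro x hx
    have h1 := mem_img_of_mem ge hx
    rw [hge.img_sup] at h1
    refine (sup_le (img_le fun z hz => ?_) (img_le fun z hz => ?_) :
      img V ge ⊔ img (cElts F E p) ge ≤ centralizerIn S T ⊔ T) h1
    · exact Subgroup.mem_sup_right (hgee z hz ▸ he.mem hz)
    · exact Subgroup.mem_sup_left ((hgeY z hz).symm ▸ cElts_le hz)
  have hg := hge.comp hga hm
  refine ⟨ga ∘ ge, hg, fun x hx => ?_, (hg.restrict le_sup_right).img_eq_self fun y hy => ?_⟩
  · show ga (ge x) = h x
    rw [hgee x hx, hgaa _ (he.mem hx), hfe x hx]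
  · show ga (ge y) ∈ _
    rw [hgeY y hy]; exact hY y hy

/-- A map fixing an `E`-centric subgroup of `T` carries `cElts` into itself. -/
theorem map_fixing_mem_cElts (hS : IsPGroup p S) (hF : F.IsSaturated p)
    (hE : E.IsNormalIn F p) : ∀ (U : Subgroup Ω), E.IsCentric U → ∀ (f : Ω → Ω) (y : Ω),
      IsMor F (U ⊔ Subgroup.zpowers y) f → (∀ u ∈ U, f u = u) → y ∈ cElts F E p →
        f y ∈ cElts F E p := by
  have hinv := strongInv_of_isNormalIn hS hF hE
  obtain ⟨⟨hEs, -, hsub, hT, -⟩, -⟩ := id hE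
  obtain ⟨hTS, hsc⟩ := stronglyClosed_iff.mp hT
  have hSN := stronglyClosed_le_normalizer hT
  have : Finite T := finite_of_le hTS
  have hTp : IsPGroup p T := isPGroup_of_le hTS hS
  suffices h : ∀ n (U : Subgroup Ω), Nat.card T - Nat.card U = n → E.IsCentric U →
      ∀ (f : Ω → Ω) (y : Ω), IsMor F (U ⊔ Subgroup.zpowers y) f → (∀ u ∈ U, f u = u) →
        y ∈ cElts F E p → f y ∈ cElts F E p from fun U => h _ U rfl
  intro n
  induction n using Nat.strong_induction_on with
  | _ n ih =>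
  intro U hn hUc f y hf hfix hy
  subst hn
  rcases eq_or_lt_of_le hUc.1 with e | hlt
  · rw [e] at hf; exact transport_mem_cElts hS hF hE hy hf
  have hUS := hUc.1.trans hTS
  set N1 := normalizerIn T U with hN1
  have hN1T : N1 ≤ T := normalizerIn_le
  have hUN1 : U ≤ N1 := le_normalizerIn hUc.1
  have hltN : U < N1 := lt_inf_normalizer hTp hlt
  have hN1S : N1 ≤ normalizerIn S U := inf_le_inf_right _ hTS
  have hN1c : E.IsCentric N1 := centric_mono hUc hUN1 hN1T
  have hdec : Nat.card T - Nat.card N1 < Nat.card T - Nat.card U := by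
    have h1 := card_lt_of_lt (hN1T.trans hTS) hltN
    have h2 : Nat.card N1 ≤ Nat.card T := Subgroup.card_le_of_le hN1T
    omega
  -- the case of a fully normalized subgroup
  have core : ∀ U' : Subgroup Ω, E.IsCentric U' → Nat.card U' = Nat.card U →
      F.IsFullyNormalized U' → ∀ (f : Ω → Ω) (y : Ω), IsMor F (U' ⊔ Subgroup.zpowers y) f →
        (∀ u ∈ U', f u = u) → y ∈ cElts F E p → f y ∈ cElts F E p := by
    intro U' hU'c hU'card hU'n f y hf hfix hy
    have hU'T := hU'c.1
    have hU'S := hU'T.trans hTS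
    have hU'lt : U' < T := lt_of_le_of_ne hU'T fun e => by
      have := card_lt_of_lt hTS hlt
      rw [e] at hU'card
      omega
    set N := normalizerIn T U' with hN
    have hNT : N ≤ T := normalizerIn_le
    have hU'N : U' ≤ N := le_normalizerIn hU'T
    have hNlt : U' < N := lt_inf_normalizer hTp hU'lt
    have hNc : E.IsCentric N := centric_mono hU'c hU'N hNT
    have hdecN : Nat.card T - Nat.card N < Nat.card T - Nat.card U := by
      have h1 := card_lt_of_lt (hNT.trans hTS) hNlt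
      have h2 : Nat.card N ≤ Nat.card T := Subgroup.card_le_of_le hNT
      omega
    have hU'fc := isFullyCentralized_of_normalized hS hF hU'n
    set C := centralizerIn S U' with hC
    have hCS : C ≤ S := centralizerIn_le
    have hYC : cElts F E p ≤ C := cElts_le.trans (centralizerIn_anti hU'T)
    have hCp : IsPGroup p C := isPGroup_of_le hCS hS
    have : Finite C := finite_of_le hCS
    obtain ⟨CF, hCF⟩ := Cfsg.Agent.S5097.result F U' hU'S
    have hCFs := centralizerSystem_isSaturated hS hF hU'fc hCF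
    have hiff := fun (Q : Subgroup Ω) (g : Ω → Ω) =>
      isMor_centralizerSystem hCF (P := Q) (f := g)
    let Mp : Subgroup Ω → (Ω → Ω) → Prop := fun Q g =>
      IsMor CF Q g ∧ ∀ x ∈ Q, x ∈ cElts F E p ↔ g x ∈ cElts F E p
    let Ep : FusionSystem C := ofPred C Mp
      (fun Q g h => ⟨h.1.le, fun x hx => h.1.mem hx⟩)
      (fun Q g h x hx y hy e => h.1.inj hx hy e)
      (fun Q g g' h e => ⟨h.1.congr e, fun x hx => e x hx ▸ h.2 x hx⟩)
      (fun Q a hQ ha => ⟨isMor_cj CF hQ ha, fun x hx => ⟨fun h => cj_mem_cElts hS hF hE h (hCS ha),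
        fun h => cj_inv_cj a x ▸ cj_mem_cElts hS hF hE h (S.inv_mem (hCS ha))⟩⟩)
      (fun Q Q' g g' h h' hgQ => ⟨h.1.comp h'.1 hgQ, fun x hx =>
        (h.2 x hx).trans (h'.2 _ (hgQ x hx))⟩)
      (fun Q g h _ => by
        obtain ⟨gi, hgi, hgl, -, -⟩ := h.1.inverse
        refine ⟨gi, ⟨hgi, fun z hz => ?_⟩, hgl⟩
        obtain ⟨x, hx, rfl⟩ := h.1.mem_img.mp hz
        rw [hgl x hx]
        exact (h.2 x hx).symm)
    have hEpiff : ∀ Q g, IsMor Ep Q g ↔ Mp Q g := fun Q g =>
      isMor_ofPred fun h x hx y hy => h.1.map_mul hx hy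
    have hle : CF ≤ Ep := by
      refine alperin hCp hCFs fun Q hQ => ?_
      obtain ⟨hQc, hQr, hQn⟩ : CF.IsCentric Q ∧ CF.IsRadical p Q ∧ CF.IsFullyNormalized Q := by
        rcases hQ with rfl | hQ
        · exact ⟨centric_self CF, radical_self hCp hCFs, isFullyNormalized_self CF⟩
        · exact ⟨hQ.1, essential_radical hCp hQ, hQ.2.1⟩
      have hQC := hQc.1
      have hQS : Q ≤ S := hQC.trans hCS
      set X := Q ⊔ U' with hX
      have hXS : X ≤ S := sup_le hQS hU'S
      have hQU : ∀ q ∈ Q, ∀ u ∈ U', cj q u = u := fun q hq =>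
        (mem_centralizerIn.mp (hQC hq)).2
      set Z := U' ⊓ C with hZ
      have hZQ : Z ≤ Q := fun z hz => centric_centralizer_le hQc
        (mem_centralizerIn.mpr ⟨hz.2, fun x hx => by
          rw [cj_apply, cj_fixed_iff]
          exact (cj_fixed_iff.mp (hQU x hx z hz.1)).symm⟩)
      -- `X` is centric in `F`
      have hXc : F.IsCentric X := by
        refine ⟨hXS, fun R hR => ?_⟩
        obtain ⟨φ, hφ, rfl⟩ := isConj_iff.mp hR
        obtain ⟨φi, hφi, hl, hr, hii⟩ := hφ.inverse
        intro c hc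
        have hU'φ : img U' φ ≤ img X φ := img_mono φ le_sup_right
        have hiU : img (img U' φ) φi = U' := by
          rw [(hφ.restrict le_sup_right).img_comp]
          exact (img_congr (g := id) fun u hu => hl u (Subgroup.mem_sup_right hu)).trans (img_id U')
        obtain ⟨k, hk, hke, hkC⟩ := exists_map_centralizer
          (isFullyAutomized_of_normalized hS hF hU'n).2 (hφi.restrict hU'φ) hiU
        have hcC : c ∈ centralizerIn S (img U' φ) := centralizerIn_anti hU'φ hc
        have hXm : ∀ x ∈ X, φ x ∈ centralizerIn S (img U' φ) ⊔ img U' φ := by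
          intro x hx
          have h1 := mem_img_of_mem φ hx
          rw [hX, hφ.img_sup] at h1
          refine sup_le_sup_right (img_le fun q hq => mem_centralizerIn.mpr
            ⟨hφ.mem (Subgroup.mem_sup_left hq), fun z hz => ?_⟩) _ h1
          obtain ⟨u, hu, rfl⟩ := (hφ.restrict le_sup_right).mem_img.mp hz
          rw [cj_apply, ← hφ.map_conj (Subgroup.mem_sup_left hq) (Subgroup.mem_sup_right hu),
            show q * u * q⁻¹ = u from hQU q hq u hu]
        have hkφ := hφ.comp hk hXm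
        have hkφU : ∀ u ∈ U', k (φ u) = u := fun u hu => by
          rw [hke _ (mem_img_of_mem φ hu), hl u (Subgroup.mem_sup_right hu)]
        have hkφC : ∀ q ∈ Q, k (φ q) ∈ C := fun q hq => mem_centralizerIn.mpr
          ⟨hkφ.mem (Subgroup.mem_sup_left hq), fun u hu => by
            conv_lhs => rw [← hkφU u hu]
            rw [cj_apply]
            show (k ∘ φ) q * (k ∘ φ) u * ((k ∘ φ) q)⁻¹ = u
            rw [← hkφ.map_conj (Subgroup.mem_sup_left hq) (Subgroup.mem_sup_right hu),
              show q * u * q⁻¹ = u from hQU q hq u hu, Function.comp_apply, hkφU u hu]⟩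
        have hD : IsMor CF Q (k ∘ φ) := (hiff _ _).mpr
          ⟨hkφ.restrict le_sup_left, hQC, hkφC, k ∘ φ, hkφ, fun _ _ => rfl, hkφU⟩
        have hkc : k c ∈ centralizerIn C (img Q (k ∘ φ)) := by
          refine mem_centralizerIn.mpr ⟨hkC (mem_img_of_mem k hcC), fun z hz => ?_⟩
          obtain ⟨q, hq, rfl⟩ := (hkφ.restrict le_sup_left).mem_img.mp hz
          show k c * k (φ q) * (k c)⁻¹ = k (φ q)
          rw [← hk.map_conj (Subgroup.mem_sup_left hcC) (hXm q (Subgroup.mem_sup_left hq)),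
            show c * φ q * c⁻¹ = φ q from
              (mem_centralizerIn.mp hc).2 _ (mem_img_of_mem φ (Subgroup.mem_sup_left hq))]
        obtain ⟨q, hq, hqe⟩ := (hkφ.restrict le_sup_left).mem_img.mp (hQc.2 _ (isConj_img hD) hkc)
        have := hk.inj (hXm q (Subgroup.mem_sup_left hq)) (Subgroup.mem_sup_left hcC) hqe
        exact this ▸ mem_img_of_mem φ (Subgroup.mem_sup_left hq)
      have := finite_mulAut hQS
      have key : ∀ δ ∈ CF.autGroup Q, (orderOf δ).Coprime p → ∀ x ∈ Q, x ∈ cElts F E p →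
          autFun δ x ∈ cElts F E p := by
        intro δ hδ hδc x hxQ hxY
        obtain ⟨-, -, -, g, hg, hge, hgU⟩ := (hiff _ _).mp (isMor_autFun hQC hδ)
        have hgQ : ∀ x ∈ Q, g x ∈ Q := fun x hx => hge x hx ▸ autFun_mem δ hx
        have hgX : img X g = X := hg.img_eq_self fun z hz => by
          have h1 := mem_img_of_mem g hz
          rw [hg.img_sup, img_congr (P := U') (g := id) hgU, img_id] at h1
          exact sup_le_sup_right (img_le hgQ) U' h1
        obtain ⟨gi, hgi, hgl, hgr, hgii⟩ := hg.inverse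
        rw [← hX, hgX] at hgi hgr hgii
        have hgiU : ∀ u ∈ U', gi u = u := fun u hu => by
          conv_lhs => rw [← hgU u hu]
          exact hgl u (Subgroup.mem_sup_right hu)
        have hgiQ : ∀ q ∈ Q, gi q ∈ Q := fun q hq => by
          have h1 := autFun_inv_right δ hq
          rw [← hge _ (autFun_mem δ⁻¹ hq)] at h1
          rw [← h1, hgl _ (Subgroup.mem_sup_left (autFun_mem δ⁻¹ hq))]
          exact autFun_mem δ⁻¹ hq
        have hNn : N ≤ nExt S X g := by
          intro t ht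
          obtain ⟨htT, htn⟩ := mem_normalizerIn.mp ht
          have hCt : ∀ s ∈ Subgroup.normalizer (U' : Set Ω), s ∈ S → ∀ c ∈ C, cj s c ∈ C := by
            intro s hs hsS c hc
            refine mem_centralizerIn.mpr
              ⟨S.mul_mem (S.mul_mem hsS (hCS hc)) (S.inv_mem hsS), fun u hu => ?_⟩
            have hu' : cj s⁻¹ u ∈ U' :=
              (Subgroup.mem_normalizer_iff.mp (Subgroup.inv_mem _ hs) u).mp hu
            show cj (s * c * s⁻¹) u = u
            rw [cj_mul, cj_mul, (mem_centralizerIn.mp hc).2 _ hu', cj_cj_inv]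
          have hmove : ∀ s ∈ N, ∀ q ∈ Q, q⁻¹ * cj s q ∈ Z := by
            intro s hs q hq
            obtain ⟨hsT, hsn⟩ := mem_normalizerIn.mp hs
            have h1 : q⁻¹ * cj s q ∈ C :=
              C.mul_mem (C.inv_mem (hQC hq)) (hCt s hsn (hTS hsT) q (hQC hq))
            have h2 : q⁻¹ * cj s q ∈ T := by
              rw [show q⁻¹ * cj s q = (q⁻¹ * s * q⁻¹⁻¹) * s⁻¹ by rw [cj_apply, inv_inv]; group]
              exact T.mul_mem ((Subgroup.mem_normalizer_iff.mp
                (Subgroup.inv_mem _ (hSN (hQS hq))) s).mp hsT) (T.inv_mem hsT)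
            exact ⟨centric_centralizer_le hU'c
              (mem_centralizerIn.mpr ⟨h2, (mem_centralizerIn.mp h1).2⟩), h1⟩
          have htQ : ∀ s ∈ N, ∀ q ∈ Q, cj s q ∈ Q := fun s hs q hq => by
            have := Q.mul_mem hq (hZQ (hmove s hs q hq))
            rwa [mul_inv_cancel_left] at this
          have htU : ∀ s ∈ N, ∀ u ∈ U', cj s u ∈ U' := fun s hs u hu =>
            (Subgroup.mem_normalizer_iff.mp (mem_normalizerIn.mp hs).2 u).mp hu
          have htX : ∀ s ∈ N, ∀ x ∈ X, cj s x ∈ X := by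
            intro s hs x hx
            have hle : X ≤ X.comap (MulAut.conj s).toMonoidHom := sup_le
              (fun q hq => Subgroup.mem_sup_left (htQ s hs q hq))
              (fun u hu => Subgroup.mem_sup_right (htU s hs u hu))
            exact hle hx
          have htXn : t ∈ Subgroup.normalizer (X : Set Ω) := by
            have : Finite X := finite_of_le hXS
            exact Subgroup.mem_normalizer_fintype fun u hu => htX t ht u hu
          have hc1 := isMor_cj F hXS (hTS htT)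
          have hc2 := isMor_cj F hXS (S.inv_mem (hTS htT))
          let ψ : Ω → Ω := g ∘ cj t ∘ gi ∘ cj t⁻¹
          have hgim : ∀ x ∈ X, gi x ∈ X := fun x hx => hgii ▸ mem_img_of_mem gi hx
          have hψ : IsMor F X ψ :=
            ((hc2.comp hgi fun x hx => htX _ (N.inv_mem ht) x hx).comp hc1
              fun x hx => hgim _ (htX _ (N.inv_mem ht) x hx)).comp hg
              fun x hx => htX t ht _ (hgim _ (htX _ (N.inv_mem ht) x hx))
          have hψU : ∀ u ∈ U', ψ u = u := fun u hu => by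
            show g (cj t (gi (cj t⁻¹ u))) = u
            rw [hgiU _ (htU _ (N.inv_mem ht) u hu), cj_cj_inv, hgU u hu]
          have hψQ : ∀ q ∈ Q, ψ q ∈ Q ∧ q⁻¹ * ψ q ∈ Z := by
            intro q hq
            have h1 := htQ _ (N.inv_mem ht) q hq
            have h2 := hgiQ _ h1
            have h3 := hmove t ht _ h2
            refine ⟨hgQ _ (htQ t ht _ h2), ?_⟩
            show q⁻¹ * g (cj t (gi (cj t⁻¹ q))) ∈ Z
            rw [show cj t (gi (cj t⁻¹ q)) = gi (cj t⁻¹ q) * ((gi (cj t⁻¹ q))⁻¹ * cj t (gi (cj t⁻¹ q)))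
                from (mul_inv_cancel_left _ _).symm,
              hg.map_mul (Subgroup.mem_sup_left h2) (Subgroup.mem_sup_right h3.1),
              hgr _ (Subgroup.mem_sup_left h1), hgU _ h3.1, ← mul_assoc]
            exact Z.mul_mem (hmove _ (N.inv_mem ht) q hq) h3
          have hψD : IsMor CF Q ψ := (hiff _ _).mpr ⟨hψ.restrict le_sup_left, hQC,
            fun x hx => hQC (hψQ x hx).1, ψ, hψ, fun _ _ => rfl, hψU⟩
          obtain ⟨a, ha, hae⟩ := exists_aut hψD (hψD.img_eq_self fun x hx => (hψQ x hx).1)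
          let W : ℕ → Subgroup Ω := fun i => if i = 0 then ⊥ else if i = 1 then Z else Q
          have hW : ∀ γ ∈ CF.autGroup Q, ∀ i, ∀ x ∈ Q, x ∈ W i → autFun γ x ∈ W i := by
            intro γ hγ i x hx hxW
            rcases i with _ | _ | i
            · simp only [W, ↓reduceIte, Subgroup.mem_bot] at hxW ⊢
              rw [hxW]; exact autFun_map_one γ
            · simp only [W, one_ne_zero, ↓reduceIte, zero_add] at hxW ⊢
              obtain ⟨-, -, -, k, -, hke, hkR⟩ := (hiff _ _).mp (isMor_autFun hQC hγ)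
              rw [← hke x hx, hkR x hxW.1]
              exact hxW
            · simp [W, autFun_mem γ hx]
          have hK : seriesStab (CF.autGroup Q) 2 W hW ≤ Inn Q := by
            refine le_inn_of_radical hQr (fun γ hγ => hγ.1) ?_
              fun γ hγ k hk => seriesStab_conj hγ hk
            refine isPGroup_stabilizing hCp hQC 2 (fun i => ((Q ⊓ W i : Subgroup Ω) : Set Ω))
              (by simp [W]) (fun x hx => by simp [W, hx])
              fun γ hγ i hi x hx hxW => ⟨Q.mul_mem (Q.inv_mem hx) (autFun_mem γ hx),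
                hγ.2 i hi x hx hxW.2⟩
          have haK : a ∈ seriesStab (CF.autGroup Q) 2 W hW := by
            refine ⟨ha, fun i hi x hx hxW => ?_⟩
            rcases i with _ | _ | i
            · simp only [W, one_ne_zero, ↓reduceIte, zero_add] at hxW ⊢
              rw [hae x hx, hψU x hxW.1]; simp
            · simp only [W, one_ne_zero, ↓reduceIte, zero_add]
              rw [hae x hx]; exact (hψQ x hx).2
            · omega
          obtain ⟨q, hq, hqe⟩ := mem_inn.mp (hK haK)
          have hψX : ∀ x ∈ X, ψ x = cj q x := eqOn_sup hψ (isMor_cj F hXS (hQS hq))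
            (fun z hz => (hae z hz).symm.trans (hqe z hz))
            (fun u hu => (hψU u hu).trans (hQU q hq u hu).symm)
          refine ⟨hTS htT, htXn, q * t, S.mul_mem (hQS hq) (hTS htT), fun x hx => ?_⟩
          have hgx : g x ∈ X := hgX ▸ mem_img_of_mem g hx
          have h1 := hψX _ (htX t ht _ hgx)
          rw [cj_mul, ← h1]
          show g (cj t x) = g (cj t (gi (cj t⁻¹ (cj t (g x)))))
          rw [cj_inv_cj, hgl x hx]
        obtain ⟨G, hG, hGe⟩ := (isReceptive_iff.mp (centric_receptive hS hF hXc)).2 X g hg hgX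
        have hG' := hG.restrict (sup_le (le_nExt hg) hNn : X ⊔ N ≤ nExt S X g)
        have hGU : ∀ u ∈ U', G u = u := fun u hu => by
          rw [hGe u (Subgroup.mem_sup_right hu), hgU u hu]
        have hGN : ∀ t ∈ N, t⁻¹ * G t ∈ U' := by
          intro t ht
          obtain ⟨htT, htn⟩ := mem_normalizerIn.mp ht
          refine centric_centralizer_le hU'c (mem_centralizerIn.mpr ⟨T.mul_mem (T.inv_mem htT)
            (hsc _ G hG' t (Subgroup.mem_sup_right ht) htT), fun u hu => ?_⟩)
          have hu' : cj t u ∈ U' := (Subgroup.mem_normalizer_iff.mp htn u).mp hu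
          have h1 : G (cj t u) = cj (G t) (G u) := hG'.map_conj (Subgroup.mem_sup_right ht)
            (Subgroup.mem_sup_left (Subgroup.mem_sup_right hu))
          rw [hGU _ hu', hGU u hu] at h1
          rw [cj_mul, ← h1, cj_inv_cj]
        have hGNm : ∀ t ∈ N, G t ∈ N := fun t ht => by
          have := N.mul_mem ht (hU'N (hGN t ht))
          rwa [mul_inv_cancel_left] at this
        have hGi : img (X ⊔ N) G = X ⊔ N := hG'.img_eq_self fun z hz => by
          have h1 := mem_img_of_mem G hz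
          rw [hG'.img_sup, img_congr hGe, hgX] at h1
          exact sup_le_sup_left (img_le hGNm) X h1
        obtain ⟨η, hη, hηe⟩ := exists_aut hG' hGi
        have hXNS : X ⊔ N ≤ S := sup_le hXS (hNT.trans hTS)
        have : Finite U' := finite_of_le hU'S
        obtain ⟨j, hj⟩ := IsPGroup.iff_card.mp (isPGroup_of_le hU'S hS)
        obtain ⟨m, hm1, hm2⟩ := Nat.chineseRemainder (hδc.pow_right j) 1 0
        obtain ⟨m', rfl⟩ := Nat.modEq_zero_iff_dvd.mp hm2
        have hηm : ∀ t ∈ N, autFun (η ^ (p ^ j * m')) t = t := by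
          intro t ht
          have htX : t ∈ X ⊔ N := Subgroup.mem_sup_right ht
          have h1 : autFun (η ^ p ^ j) t = t := by
            rw [← hj]
            refine autFun_pow_card (le_sup_of_le_left le_sup_right) (fun u hu => ?_) htX ?_
            · rw [hηe u (Subgroup.mem_sup_left (Subgroup.mem_sup_right hu)), hGU u hu]
            · rw [hηe t htX]; exact hGN t ht
          have h2 : ∀ i : ℕ, autFun ((η ^ p ^ j) ^ i) t = t := by
            intro i
            induction i with
            | zero => rw [pow_zero, autFun_one htX]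
            | succ i ihi => rw [pow_succ', autFun_mul _ _ htX, ihi, h1]
          rw [pow_mul]
          exact h2 m'
        have hηQ : ∀ q ∈ Q, autFun (η ^ (p ^ j * m')) q = autFun δ q := by
          intro q hq
          rw [autFun_pow_congr (le_sup_of_le_left le_sup_left : Q ≤ X ⊔ N) (a := δ)
            (fun z hz => by
              rw [hηe z (Subgroup.mem_sup_left (Subgroup.mem_sup_left hz)),
                hGe z (Subgroup.mem_sup_left hz), hge z hz]) _ q hq,
            (pow_eq_pow_iff_modEq.mpr hm1).trans (pow_one δ)]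
        have hmor := (isMor_autFun hXNS ((F.autGroup (X ⊔ N)).pow_mem hη (p ^ j * m'))).restrict
          (sup_le le_sup_right (Subgroup.zpowers_le.mpr
            (Subgroup.mem_sup_left (Subgroup.mem_sup_left hxQ))) : N ⊔ Subgroup.zpowers x ≤ X ⊔ N)
        exact hηQ x hxQ ▸ ih _ hdecN N rfl hNc _ x hmor hηm hxY
      obtain ⟨P₀, hP₀⟩ := (exists_sylow_iff (autInducedBy_le CF hQC)).mpr
        (isFullyAutomized_iff.mp (isFullyAutomized_of_normalized hCp hCFs hQn).1).2
      have htop := CfsgLib.Transfer.sup_pResidual_eq_top P₀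
      have hle : (P₀ : Subgroup (CF.autGroup Q)) ⊔ pResidual p (CF.autGroup Q) ≤
          (Ep.autGroup Q).subgroupOf (CF.autGroup Q) := by
        refine sup_le (fun r hr => ?_) ((Subgroup.closure_le _).mpr fun r hr => ?_)
        · rw [hP₀] at hr
          exact autInducedBy_le Ep hQC hr
        · have hrc : (orderOf (r : MulAut Q)).Coprime p := by rw [Subgroup.orderOf_coe]; exact hr
          refine (autGroup_eq_set hQC _).mpr ((hEpiff _ _).mpr ⟨isMor_autFun hQC r.2,
            fun x hx => ⟨key _ r.2 hrc x hx, fun h => ?_⟩⟩)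
          have := key _ ((CF.autGroup Q).inv_mem r.2) (by rwa [orderOf_inv]) _
            (autFun_mem _ hx) h
          exact autFun_inv_left (r : MulAut Q) hx ▸ this
      intro α hα
      exact hle (htop ▸ Subgroup.mem_top (⟨α, hα⟩ : CF.autGroup Q))
    have hyz : y ∈ U' ⊔ Subgroup.zpowers y := Subgroup.mem_sup_right (Subgroup.mem_zpowers y)
    have hf' : IsMor F (Subgroup.zpowers y ⊔ U') f := sup_comm U' (Subgroup.zpowers y) ▸ hf
    have hm : IsMor CF (Subgroup.zpowers y) f := (hiff _ _).mpr ⟨hf.restrict le_sup_right,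
      Subgroup.zpowers_le.mpr (hYC hy), fun z hz => mem_centralizerIn.mpr
        ⟨hf.mem (Subgroup.mem_sup_right hz), fun u hu => by
          conv_lhs => rw [← hfix u hu]
          rw [cj_apply, ← hf.map_conj (Subgroup.mem_sup_right hz) (Subgroup.mem_sup_left hu),
            show z * u * z⁻¹ = u from
              (mem_centralizerIn.mp (Subgroup.zpowers_le.mpr (hYC hy) hz)).2 u hu, hfix u hu]⟩,
      f, hf', fun _ _ => rfl, hfix⟩
    exact (((hEpiff _ _).mp (le_iff_isMor.mp hle _ f hm)).2 y (Subgroup.mem_zpowers y)).mp hy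
  -- move to a fully normalized conjugate
  obtain ⟨U', hUU', hU'n⟩ := exists_fullyNormalized F hUS
  obtain ⟨h, hh, hhi, -⟩ := exists_map_fullyNormalized hS hF hU'n hUU'
  have hUN : U ≤ normalizerIn S U := le_normalizerIn hUS
  have hU'c : E.IsCentric U' :=
    hhi ▸ centric_img_of_invariant hS hF hsub hT hinv hUc (hh.restrict hUN)
  have hyU : y ∈ centralizerIn S U := centralizerIn_anti hUc.1 (cElts_le hy)
  have hyz : y ∈ U ⊔ Subgroup.zpowers y := Subgroup.mem_sup_right (Subgroup.mem_zpowers y)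
  have hfy : f y ∈ centralizerIn S U := mem_centralizerIn.mpr ⟨hf.mem hyz, fun u hu => by
    conv_lhs => rw [← hfix u hu]
    rw [cj_apply, ← hf.map_conj hyz (Subgroup.mem_sup_left hu),
      show y * u * y⁻¹ = u from (mem_centralizerIn.mp hyU).2 u hu, hfix u hu]⟩
  have hfyN : f y ∈ normalizerIn S U := centralizerIn_le_normalizerIn hfy
  have hz : h (f y) ∈ cElts F E p := by
    obtain ⟨g, hg, hgh, hgY⟩ := exists_straighten hS hF hE hUc.1 (hh.restrict hUN)
    have hg' := hg.restrict (sup_le_sup_left (Subgroup.zpowers_le.mpr hy) U :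
      U ⊔ Subgroup.zpowers y ≤ U ⊔ cElts F E p)
    obtain ⟨gi, hgi, hgl, -, hgii⟩ := hg'.inverse
    have hfm : ∀ x ∈ U ⊔ Subgroup.zpowers y, f x ∈ normalizerIn S U := by
      intro x hx
      have h1 := mem_img_of_mem f hx
      rw [hf.img_sup] at h1
      refine (sup_le (img_le fun u hu => (hfix u hu).symm ▸ hUN hu) (img_le fun z hz => ?_) :
        img U f ⊔ img (Subgroup.zpowers y) f ≤ normalizerIn S U) h1
      obtain ⟨n, rfl⟩ := Subgroup.mem_zpowers_iff.mp hz
      rw [hf.map_zpow hyz]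
      exact Subgroup.zpow_mem _ hfyN n
    have hm := (hgi.comp hf fun x hx => hgii ▸ mem_img_of_mem gi hx).comp hh fun x hx =>
      hfm _ (hgii ▸ mem_img_of_mem gi hx)
    have hle : U' ⊔ Subgroup.zpowers (g y) ≤ img (U ⊔ Subgroup.zpowers y) g := by
      refine sup_le ?_ (Subgroup.zpowers_le.mpr (mem_img_of_mem g hyz))
      rw [← hhi, ← img_congr hgh]
      exact img_mono g le_sup_left
    have hcard : Nat.card U' = Nat.card U := hhi ▸ (hh.restrict hUN).card_img
    have := core U' hU'c hcard hU'n _ (g y) (hm.restrict hle) (fun u' hu' => by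
      obtain ⟨u, hu, rfl⟩ := (hh.restrict hUN).mem_img.mp (hhi.ge hu')
      show h (f (gi (h u))) = h u
      conv_lhs => rw [← hgh u hu]
      rw [hgl u (Subgroup.mem_sup_left hu), hfix u hu]) (hgY ▸ mem_img_of_mem g hy)
    simp only [Function.comp_apply] at this
    rwa [hgl y hyz] at this
  -- pull back
  have hNc : ∀ t ∈ N1, cj (f y) t = t := by
    intro t ht
    have htS := hN1S ht
    have htT : h t ∈ T := hsc _ h hh t htS (hN1T ht)
    refine hh.inj ?_ htS ?_
    · exact (normalizerIn S U).mul_mem ((normalizerIn S U).mul_mem hfyN htS)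
        ((normalizerIn S U).inv_mem hfyN)
    · rw [cj_apply, hh.map_conj hfyN htS]
      exact (mem_centralizerIn.mp (cElts_le hz)).2 _ htT
  obtain ⟨g, hg, hgh, hgY⟩ := exists_straighten hS hF hE hN1T (hh.restrict hN1S)
  obtain ⟨w, hw, hwz⟩ := (hg.restrict le_sup_right).mem_img.mp (hgY.ge hz)
  have hg' := hg.restrict (sup_le_sup_left (Subgroup.zpowers_le.mpr hw) N1 :
    N1 ⊔ Subgroup.zpowers w ≤ N1 ⊔ cElts F E p)
  have hwm : w ∈ N1 ⊔ Subgroup.zpowers w := Subgroup.mem_sup_right (Subgroup.mem_zpowers w)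
  obtain ⟨hi, hhi', hhl, -, -⟩ := hh.inverse
  have hm : ∀ x ∈ N1 ⊔ Subgroup.zpowers w, g x ∈ img (normalizerIn S U) h := by
    intro x hx
    have h1 := mem_img_of_mem g hx
    rw [hg'.img_sup] at h1
    refine (sup_le (img_le fun t ht => ?_) (img_le fun v hv => ?_) :
      img N1 g ⊔ img (Subgroup.zpowers w) g ≤ img (normalizerIn S U) h) h1
    · rw [hgh t ht]; exact mem_img_of_mem h (hN1S ht)
    · obtain ⟨n, rfl⟩ := Subgroup.mem_zpowers_iff.mp hv
      rw [hg'.map_zpow hwm, hwz]
      exact Subgroup.zpow_mem _ (mem_img_of_mem h hfyN) n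
  have := ih _ hdec N1 rfl hN1c _ w (hg'.comp hhi' hm) (fun t ht => by
    show hi (g t) = t
    rw [hgh t ht, hhl t (hN1S ht)]) hw
  rw [Function.comp_apply, hwz, hhl _ hfyN] at this
  exact this

/-- `cElts` is strongly closed. -/
theorem stronglyClosed_cElts (hS : IsPGroup p S) (hF : F.IsSaturated p)
    (hE : E.IsNormalIn F p) : F.StronglyClosed (cElts F E p) := by
  have hinv := strongInv_of_isNormalIn hS hF hE
  obtain ⟨⟨hEs, -, hsub, hT, -⟩, -⟩ := id hE
  obtain ⟨hTS, hsc⟩ := stronglyClosed_iff.mp hT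
  let Mp : Subgroup Ω → (Ω → Ω) → Prop := fun Q g =>
    IsMor F Q g ∧ ∀ x ∈ Q, x ∈ cElts F E p ↔ g x ∈ cElts F E p
  let Ep : FusionSystem S := ofPred S Mp
    (fun Q g h => ⟨h.1.le, fun x hx => h.1.mem hx⟩)
    (fun Q g h x hx y hy e => h.1.inj hx hy e)
    (fun Q g g' h e => ⟨h.1.congr e, fun x hx => e x hx ▸ h.2 x hx⟩)
    (fun Q a hQ ha => ⟨isMor_cj F hQ ha, fun x hx => ⟨fun h => cj_mem_cElts hS hF hE h ha,
      fun h => cj_inv_cj a x ▸ cj_mem_cElts hS hF hE h (S.inv_mem ha)⟩⟩)
    (fun Q Q' g g' h h' hgQ => ⟨h.1.comp h'.1 hgQ, fun x hx =>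
      (h.2 x hx).trans (h'.2 _ (hgQ x hx))⟩)
    (fun Q g h _ => by
      obtain ⟨gi, hgi, hgl, -, -⟩ := h.1.inverse
      refine ⟨gi, ⟨hgi, fun z hz => ?_⟩, hgl⟩
      obtain ⟨x, hx, rfl⟩ := h.1.mem_img.mp hz
      rw [hgl x hx]
      exact (h.2 x hx).symm)
  have hEpiff : ∀ Q g, IsMor Ep Q g ↔ Mp Q g := fun Q g =>
    isMor_ofPred fun h x hx y hy => h.1.map_mul hx hy
  have hle : F ≤ Ep := by
    refine alperin hS hF fun Q hQ => ?_
    have hQS : Q ≤ S := hQ.elim (fun e => e.le) essential_le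
    have key : ∀ α ∈ F.autGroup Q, ∀ y ∈ Q, y ∈ cElts F E p → autFun α y ∈ cElts F E p := by
      intro α hα y hyQ hy
      have hm := isMor_autFun hQS hα
      rcases hQ with rfl | hQ
      · exact transport_mem_cElts hS hF hE hy
          (hm.restrict (sup_le hTS (Subgroup.zpowers_le.mpr hyQ)))
      have hUc : E.IsCentric (Q ⊓ T) := by
        by_contra h
        exact not_radical_of_inf_not_centric hS hF hT hsub hQ.1 h (essential_radical hS hQ)
      set U := Q ⊓ T with hU
      have hUQ : U ≤ Q := inf_le_left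
      have hθU : img U (autFun α) = U := (hm.restrict hUQ).img_eq_self fun x hx =>
        ⟨autFun_mem α hx.1, hsc _ _ hm x hx.1 hx.2⟩
      obtain ⟨g, hg, hgh, hgY⟩ := exists_straighten hS hF hE hUc.1 (hm.restrict hUQ)
      have hg' := hg.restrict (sup_le_sup_left (Subgroup.zpowers_le.mpr hy) U :
        U ⊔ Subgroup.zpowers y ≤ U ⊔ cElts F E p)
      have hyz : y ∈ U ⊔ Subgroup.zpowers y := Subgroup.mem_sup_right (Subgroup.mem_zpowers y)
      obtain ⟨gi, hgi, hgl, -, hgii⟩ := hg'.inverse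
      have hle : U ⊔ Subgroup.zpowers (g y) ≤ img (U ⊔ Subgroup.zpowers y) g := by
        refine sup_le ?_ (Subgroup.zpowers_le.mpr (mem_img_of_mem g hyz))
        conv_lhs => rw [← hθU, ← img_congr hgh]
        exact img_mono g le_sup_left
      have hf := (hgi.comp hm fun x hx =>
        (sup_le hUQ (Subgroup.zpowers_le.mpr hyQ) : U ⊔ Subgroup.zpowers y ≤ Q)
          (hgii ▸ mem_img_of_mem gi hx)).restrict hle
      have := map_fixing_mem_cElts hS hF hE U hUc _ (g y) hf (fun u hu => by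
        obtain ⟨u₀, hu₀, rfl⟩ := (hm.restrict hUQ).mem_img.mp (hθU.ge hu)
        show autFun α (gi (autFun α u₀)) = autFun α u₀
        rw [← hgh u₀ hu₀, hgl u₀ (Subgroup.mem_sup_left hu₀), hgh u₀ hu₀])
        (hgY ▸ mem_img_of_mem g hy)
      rwa [Function.comp_apply, hgl y hyz] at this
    intro α hα
    refine (autGroup_eq_set hQS _).mpr ((hEpiff _ _).mpr ⟨isMor_autFun hQS hα,
      fun x hx => ⟨key α hα x hx, fun h => ?_⟩⟩)
    have := key α⁻¹ ((F.autGroup Q).inv_mem hα) _ (autFun_mem α hx) h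
    rwa [autFun_inv_left α hx] at this
  refine stronglyClosed_iff.mpr ⟨cElts_le', fun P f hf x hx hxY => ?_⟩
  exact (((hEpiff _ _).mp (le_iff_isMor.mp hle P f hf)).2 x hx).mp hxY

/-- The differences of the maps of `C_F(T)` lie in `cElts`. -/
theorem diff_mem_cElts (hS : IsPGroup p S) (hF : F.IsSaturated p) {P : Subgroup Ω}
    {f : Ω → Ω} (hP : P ≤ centralizerIn S T) (hf : IsMor F (P ⊔ T) f)
    (hfT : ∀ t ∈ T, f t = t) : ∀ x ∈ P, x⁻¹ * f x ∈ cElts F E p := by
  intro x hx
  have hxz : x ∈ P ⊔ T := Subgroup.mem_sup_left hx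
  have hfx : f x ∈ centralizerIn S T := mem_centralizerIn.mpr ⟨hf.mem hxz, fun t ht => by
    conv_lhs => rw [← hfT t ht]
    rw [cj_apply, ← hf.map_conj hxz (Subgroup.mem_sup_right ht),
      show x * t * x⁻¹ = t from (mem_centralizerIn.mp (hP hx)).2 t ht, hfT t ht]⟩
  have hd : x⁻¹ * f x ∈ centralizerIn S T := Subgroup.mul_mem _ (Subgroup.inv_mem _ (hP hx)) hfx
  refine ⟨hd, fun R R' h β hR hh hi hn hβ hc hβE hβR hβC => ?_⟩
  obtain ⟨H, hH, hHl, -, -⟩ := hh.inverse
  have hxX : x ∈ R ⊔ centralizerIn S T := Subgroup.mem_sup_right (hP hx)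
  have hfxX : f x ∈ R ⊔ centralizerIn S T := Subgroup.mem_sup_right hfx
  have hR'X : R' ≤ img (R ⊔ centralizerIn S T) h := hi ▸ img_mono h le_sup_left
  set D := Subgroup.zpowers (h x) ⊔ R' with hD
  have hHD := hH.restrict
    (sup_le (Subgroup.zpowers_le.mpr (mem_img_of_mem h hxX)) hR'X : D ≤ _)
  have hm1 : ∀ z ∈ D, H z ∈ Subgroup.zpowers x ⊔ R := by
    intro z hz
    have h1 := mem_img_of_mem H hz
    rw [hD, hHD.img_sup] at h1
    refine sup_le_sup (img_le fun v hv => ?_) (img_le fun v hv => ?_) h1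
    · obtain ⟨n, rfl⟩ := Subgroup.mem_zpowers_iff.mp hv
      rw [hH.map_zpow (mem_img_of_mem h hxX), hHl x hxX]
      exact Subgroup.zpow_mem_zpowers x n
    · obtain ⟨r, hr, rfl⟩ := (hh.restrict le_sup_left).mem_img.mp (hi.ge hv)
      rw [hHl r (Subgroup.mem_sup_left hr)]; exact hr
  have hf' := hf.restrict (sup_le_sup (Subgroup.zpowers_le.mpr hx) hR.1 :
    Subgroup.zpowers x ⊔ R ≤ P ⊔ T)
  have hm2 : ∀ z ∈ Subgroup.zpowers x ⊔ R, f z ∈ R ⊔ centralizerIn S T := by
    intro z hz
    have h1 := mem_img_of_mem f hz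
    rw [hf'.img_sup] at h1
    refine (sup_le (img_le fun v hv => ?_) (img_le fun v hv => ?_) :
      img (Subgroup.zpowers x) f ⊔ img R f ≤ R ⊔ centralizerIn S T) h1
    · obtain ⟨n, rfl⟩ := Subgroup.mem_zpowers_iff.mp hv
      rw [hf.map_zpow hxz]
      exact Subgroup.mem_sup_right (Subgroup.zpow_mem _ hfx n)
    · rw [hfT v (hR.1 hv)]; exact Subgroup.mem_sup_left hv
  have hψ := (hHD.comp hf' hm1).comp hh fun z hz => hm2 _ (hm1 z hz)
  have hxC' := map_mem_centralizerIn hh hR.1 (hP hx)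
  rw [hi] at hxC'
  have key := fixed_diff_of_centralizing hS hF (isFullyCentralized_of_normalized hS hF hn)
    rfl rfl hβ hc hβR hβC (Subgroup.zpowers_le.mpr hxC') hψ (fun r hr => by
      obtain ⟨r₀, hr₀, rfl⟩ := (hh.restrict le_sup_left).mem_img.mp (hi.ge hr)
      show h (f (H (h r₀))) = h r₀
      rw [hHl r₀ (Subgroup.mem_sup_left hr₀), hfT r₀ (hR.1 hr₀)]) (h x)
      (Subgroup.mem_zpowers _)
  simp only [Function.comp_apply] at key
  rw [hHl x hxX] at key
  rwa [hh.map_mul (Subgroup.inv_mem _ hxX) hfxX, hh.map_inv hxX]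

end CfsgLib.Fusion

namespace CfsgLib.Fusion

open Cfsg Cfsg.FusionSystem

variable {Ω : Type*} [Group Ω] {S T : Subgroup Ω} {F : FusionSystem S} {E : FusionSystem T}

theorem hom_subset_centralizerHom_iff (hsub : E.IsSubsystemOf F) (hTS : T ≤ S) {Y : Subgroup Ω}
    (hY : Y ≤ centralizerIn S T) :
    (∀ P, E.Hom P ⊆ F.centralizerHom Y P) ↔ FixExt F E Y := by
  constructor
  · intro h P f hf
    obtain ⟨φ, hφ, e⟩ := hf
    obtain ⟨-, -, -, g, hg, hge, hgY⟩ := mem_centralizerHom.mp (h P hφ)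
    exact ⟨g, hg, fun x hx => (hge x hx).trans ((toFun_of_mem φ hx).trans (e _)), hgY⟩
  · intro h P φ hφ
    have hf := isMor_of_mem hφ
    obtain ⟨g, hg, hge, hgY⟩ := h P _ hf
    have hTY : T ≤ centralizerIn S Y := fun t ht => mem_centralizerIn.mpr
      ⟨hTS ht, fun y hy => by
        have h1 : cj y t = t := (mem_centralizerIn.mp (hY hy)).2 t ht
        rw [cj_apply, cj_fixed_iff] at h1
        rw [cj_apply, cj_fixed_iff, h1]⟩
    exact mem_centralizerHom.mpr ⟨le_iff_isMor.mp hsub _ _ hf, hf.le.trans hTY,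
      fun x hx => hTY (hf.mem hx), g, hg, hge, hgY⟩

end CfsgLib.Fusion
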