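import Mathlib
import Cfsg.Agent.Lib.Fusion.CentralExtension
import Cfsg.Agent.Lib.Fusion.NormalCentralizerClosed

/-!
# Tools for automorphisms of subgroups inside an invariant subsystem
-/

set_option autoImplicit false
set_option linter.unusedSectionVars false

namespace CfsgLib.Fusion

open Cfsg Cfsg.FusionSystem

variable {Ω : Type*} [Group Ω] {S T : Subgroup Ω} {F : FusionSystem S} {E : FusionSystem T}
  {p : ℕ} [hp : Fact p.Prime]

/-- A power of `γ` of order prime to `p` with exponent `1` modulo `n`. -/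
theorem exists_pow_coprime_modEq {M : Type*} [Group M] [Finite M] (γ : M) {n : ℕ}
    (hn : n.Coprime p) : ∃ j : ℕ, (orderOf (γ ^ j)).Coprime p ∧ j ≡ 1 [MOD n] := by
  obtain ⟨a, c, hc, he⟩ := Nat.exists_eq_pow_mul_and_not_dvd (orderOf_pos γ).ne' p hp.out.ne_one
  obtain ⟨j, hj1, hj2⟩ := Nat.chineseRemainder (hn.pow_right a) 1 0
  obtain ⟨d, rfl⟩ := Nat.modEq_zero_iff_dvd.mp hj2
  refine ⟨p ^ a * d, ?_, hj1⟩
  have h1 : (orderOf (γ ^ p ^ a)).Coprime p := by
    rw [orderOf_pow_of_dvd (pow_ne_zero a hp.out.ne_zero) (he ▸ dvd_mul_right _ _), he,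
      Nat.mul_div_cancel_left _ (pow_pos hp.out.pos a)]
    exact Nat.Coprime.symm ((hp.out.coprime_iff_not_dvd).mpr hc)
  rw [pow_mul]
  exact h1.coprime_dvd_left (orderOf_pow_dvd d)

/-- An automorphism restricting to one of order prime to `p` has a power with both properties. -/
theorem exists_coprime_restrict [Finite S] {A B : Subgroup Ω} (hBS : B ≤ S) (hAB : A ≤ B)
    {α : MulAut A} (hc : (orderOf α).Coprime p) {γ : MulAut B}
    (he : ∀ x ∈ A, autFun γ x = autFun α x) :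
    ∃ j : ℕ, (orderOf (γ ^ j)).Coprime p ∧ ∀ x ∈ A, autFun (γ ^ j) x = autFun α x := by
  have := finite_mulAut hBS
  obtain ⟨j, hj, hj1⟩ := exists_pow_coprime_modEq γ hc
  refine ⟨j, hj, fun x hx => ?_⟩
  rw [autFun_pow_congr hAB he j x hx,
    show α ^ j = α from (pow_eq_pow_iff_modEq.mpr hj1).trans (pow_one α)]

/-- A fully normalized subgroup of `T` is fully normalized in `E`. -/
theorem isFullyNormalized_sub [Finite S] (hS : IsPGroup p S) (hF : F.IsSaturated p)
    (hsub : E.IsSubsystemOf F) (hT : F.StronglyClosed T) {D : Subgroup Ω}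
    (hD : F.IsFullyNormalized D) (hDT : D ≤ T) : E.IsFullyNormalized D := by
  obtain ⟨hTS, hsc⟩ := stronglyClosed_iff.mp hT
  refine ⟨hDT, fun Q hQ => ?_⟩
  obtain ⟨f, hf, rfl⟩ := isConj_iff.mp hQ
  obtain ⟨g, hg, -, hgN⟩ := exists_map_fullyNormalized hS hF hD
    (isConj_symm (isConj_img (le_iff_isMor.mp hsub _ _ hf)))
  have hle : normalizerIn T (img D f) ≤ normalizerIn S (img D f) := inf_le_inf_right _ hTS
  refine card_le_of_img_le (hg.restrict hle) (normalizerIn_le.trans hTS) (img_le fun x hx => ?_)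
  exact mem_normalizerIn.mpr ⟨hsc _ g hg x (hle hx) (normalizerIn_le hx),
    (mem_normalizerIn.mp (hgN (mem_img_of_mem g (hle hx)))).2⟩

/-- Transport of the automizers of an invariant subsystem. -/
theorem aut_transport_mem [Finite S] (hinv : StrongInv E F) (hT : F.StronglyClosed T) {U V : Subgroup Ω}
    {h : Ω → Ω} (hh : IsMor F U h) (hhi : img U h = V) (hU : U ≤ T)
    {e : MulAut U ≃* MulAut V}
    (he : ∀ α : MulAut U, ∀ x ∈ U, autFun (e α) (h x) = h (autFun α x))
    {α : MulAut U} (hα : α ∈ E.autGroup U) : e α ∈ E.autGroup V := by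
  have hV : V ≤ T := hhi ▸ img_le fun x hx => (stronglyClosed_iff.mp hT).2 U h hh x hx (hU hx)
  obtain ⟨α', hα', hα'e⟩ := exists_transport_inv hinv hh hhi hU hV hα
  rwa [autFun_inj (α := e α) (β := α') fun y hy => by
    obtain ⟨x, hx, rfl⟩ := hh.mem_img.mp (hhi.symm ▸ hy)
    rw [he α x hx, hα'e x hx]]

/-- The automizers of an invariant subsystem are normal in those of the system. -/
theorem autGroup_conj_mem [Finite S] (hinv : StrongInv E F) (hT : F.StronglyClosed T)
    {U : Subgroup Ω} (hU : U ≤ T) {θ : MulAut U} (hθ : θ ∈ F.autGroup U)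
    {α : MulAut U} (hα : α ∈ E.autGroup U) : θ * α * θ⁻¹ ∈ E.autGroup U := by
  have hm := isMor_autFun (hU.trans hT.1) hθ
  obtain ⟨e, he, -, -⟩ := exists_transport hm (img_autFun θ)
  have h1 := aut_transport_mem hinv hT hm (img_autFun θ) hU he hα
  rwa [autFun_inj (α := θ * α * θ⁻¹) (β := e α) fun x hx => by
    rw [autFun_mul _ _ hx, autFun_mul _ _ (autFun_mem _ hx), ← he α _ (autFun_mem _ hx),
      autFun_inv_right θ hx]]

/-- The part induced by `S` in the automizer in `E` of a fully normalized subgroup. -/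
theorem autInducedBy_inf_autGroup [Finite S] (hS : IsPGroup p S) (hF : F.IsSaturated p)
    (hEs : E.IsSaturated p) (hsub : E.IsSubsystemOf F) (hT : F.StronglyClosed T)
    {D : Subgroup Ω} (hD : F.IsFullyNormalized D) (hDT : D ≤ T) :
    autInducedBy S D ⊓ E.autGroup D = autInducedBy T D := by
  have : Finite T := finite_of_le hT.1
  have hTp : IsPGroup p T := isPGroup_of_le hT.1 hS
  have hle : autInducedBy T D ≤ autInducedBy S D ⊓ E.autGroup D := le_inf (fun α hα => by
    obtain ⟨t, ht, htn, hte⟩ := mem_autInducedBy.mp hα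
    exact mem_autInducedBy.mpr ⟨t, hT.1 ht, htn, hte⟩) (autInducedBy_le E hDT)
  exact (isFullyAutomized_iff.mp (isFullyAutomized_of_normalized hTp hEs
    (isFullyNormalized_sub hS hF hsub hT hD hDT)).1).2.2.2 _
      (isPGroup_of_le inf_le_left (isPGroup_autInducedBy hS)) hle inf_le_right

/-- Move a `p`-group of automorphisms under `Aut_S` of a fully normalized conjugate, together with
the normalizing elements inducing it. -/
theorem exists_placed [Finite S] (hS : IsPGroup p S) (hF : F.IsSaturated p) {W : Subgroup Ω}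
    (hW : W ≤ S) {P : Subgroup (MulAut W)} (hPF : P ≤ F.autGroup W) (hP : IsPGroup p P)
    {X : Subgroup Ω} (hX : X ≤ normalizerIn S W)
    (hXP : ∀ x ∈ X, ∃ α ∈ P, ∀ w ∈ W, autFun α w = cj x w) :
    ∃ R H, F.IsFullyNormalized R ∧ IsMor F (W ⊔ X) H ∧ img W H = R ∧
      ∀ α ∈ P, ∃ r ∈ normalizerIn S R, ∀ w ∈ W, H (autFun α w) = cj r (H w) := by
  obtain ⟨R, hR, hRn⟩ := exists_fullyNormalized F hW
  obtain ⟨h₀, hh₀, hh₀i, -⟩ := exists_map_fullyNormalized hS hF hRn hR
  have hWN : W ≤ normalizerIn S W := le_normalizerIn hW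
  have hh := hh₀.restrict hWN
  obtain ⟨e, he, heF, -⟩ := exists_transport hh hh₀i
  have := finite_mulAut hRn.1
  obtain ⟨θ, hθ, hθP⟩ :=
    (isFullyAutomized_iff.mp (isFullyAutomized_of_normalized hS hF hRn).1).2.exists_conj_le
      (hP.map e.toMonoidHom) (by rintro _ ⟨α, hα, rfl⟩; exact (heF α).mp (hPF hα))
  have hmaps : ∀ x ∈ W, h₀ x ∈ R := fun x hx => hh₀i ▸ mem_img_of_mem h₀ hx
  set h := autFun θ ∘ h₀
  have hhm : IsMor F W h := hh.comp (isMor_autFun hRn.1 hθ) hmaps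
  have hhi : img W h = R := by rw [← hh.img_comp, hh₀i, img_autFun]
  have hind : ∀ α ∈ P, ∃ r ∈ normalizerIn S R, ∀ w ∈ W, h (autFun α w) = cj r (h w) := by
    intro α hα
    obtain ⟨r, hr, hrn, hre⟩ := mem_autInducedBy.mp (hθP _ ⟨α, hα, rfl⟩)
    refine ⟨r, mem_normalizerIn.mpr ⟨hr, hrn⟩, fun w hw => ?_⟩
    show autFun θ (h₀ (autFun α w)) = cj r (autFun θ (h₀ w))
    rw [← hre _ (autFun_mem θ (hmaps w hw)), autFun_mul _ _ (autFun_mem θ (hmaps w hw)),
      autFun_inv_left θ (hmaps w hw), autFun_mul _ _ (hmaps w hw)]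
    exact congrArg (autFun θ) (he α w hw).symm
  obtain ⟨H, hH, hHe⟩ := (isReceptive_iff.mp (isFullyAutomized_of_normalized hS hF hRn).2).2
    W h hhm hhi
  have hXn : X ≤ nExt S W h := fun x hx => by
    obtain ⟨α, hα, hαe⟩ := hXP x hx
    obtain ⟨r, hr, hre⟩ := hind α hα
    exact ⟨(mem_normalizerIn.mp (hX hx)).1, (mem_normalizerIn.mp (hX hx)).2, r,
      (mem_normalizerIn.mp hr).1, fun w hw => by rw [← hαe w hw]; exact hre w hw⟩
  refine ⟨R, H, hRn, hH.restrict (sup_le (le_nExt hhm) hXn), by rw [img_congr hHe, hhi],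
    fun α hα => ?_⟩
  obtain ⟨r, hr, hre⟩ := hind α hα
  exact ⟨r, hr, fun w hw => by rw [hHe _ (autFun_mem α hw), hHe w hw, hre w hw]⟩

/-- A map extended by a map stabilizing the image gives an automorphism of the source. -/
theorem exists_aut_pullback [Finite S] {X : Subgroup Ω} {J G : Ω → Ω} {Y : Subgroup Ω}
    (hJ : IsMor F X J) (hG : IsMor F Y G) (hXY : img X J ≤ Y)
    (hst : ∀ y ∈ img X J, G y ∈ img X J) :
    ∃ γ ∈ F.autGroup X, ∀ x ∈ X, J (autFun γ x) = G (J x) := by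
  obtain ⟨Ji, hJi, hl, hr, hii⟩ := hJ.inverse
  have hm : IsMor F X (Ji ∘ (G ∘ J)) :=
    (hJ.comp hG fun x hx => hXY (mem_img_of_mem J hx)).comp hJi
      fun x hx => hst _ (mem_img_of_mem J hx)
  have hmaps : ∀ x ∈ X, (Ji ∘ (G ∘ J)) x ∈ X := fun x hx =>
    hii ▸ mem_img_of_mem Ji (hst _ (mem_img_of_mem J hx))
  obtain ⟨γ, hγ, hγe⟩ := exists_aut hm (hm.img_eq_self hmaps)
  exact ⟨γ, hγ, fun x hx => by rw [hγe x hx]; exact hr _ (hst _ (mem_img_of_mem J hx))⟩

end CfsgLib.Fusion
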