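import Mathlib
import Cfsg.Agent.Lib.Fusion.MovingTools

/-!
# Extensions of coprime automorphisms moving centralizers into a normal subsystem: the step
-/

set_option autoImplicit false
set_option linter.unusedSectionVars false
set_option maxHeartbeats 1000000

namespace CfsgLib.Fusion

open Cfsg Cfsg.FusionSystem

variable {Ω : Type*} [Group Ω] {S T : Subgroup Ω} {F : FusionSystem S} {E : FusionSystem T}
  {p : ℕ} [hp : Fact p.Prime] [Finite S]

/-- Every automorphism in `E` of `R` of order prime to `p` has an extension of order prime to `p`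
to `R C_S(R)` moving `C_S(R)` inside `T`. -/
def MovLiftable (F : FusionSystem S) (E : FusionSystem T) (p : ℕ) (R : Subgroup Ω) : Prop :=
  ∀ k ∈ E.autGroup R, (orderOf k).Coprime p →
    ∃ Γ ∈ F.autGroup (R ⊔ centralizerIn S R), (orderOf Γ).Coprime p ∧
      (∀ x ∈ R, autFun Γ x = autFun k x) ∧ ∀ c ∈ centralizerIn S R, c⁻¹ * autFun Γ c ∈ T

/-- The step: from the lifts at a larger centric subgroup `Q₁` to `Q`. -/
theorem mov_step (hS : IsPGroup p S) (hF : F.IsSaturated p) (hE : E.IsWeaklyNormalIn F p)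
    {Q Q₁ X : Subgroup Ω} (hQn : F.IsFullyNormalized Q) (hQT : Q ≤ T) (hQ₁c : E.IsCentric Q₁)
    (hQQ₁ : Q ≤ Q₁) (hQ₁X : Q₁ ≤ X) (hXN : X ≤ normalizerIn S Q)
    (hXQ₁ : X ≤ Subgroup.normalizer (Q₁ : Set Ω)) (hCX : centralizerIn S Q ≤ X)
    (hlift : ∀ R, F.IsFullyNormalized R → E.IsCentric R → Nat.card R = Nat.card Q₁ →
      MovLiftable F E p R)
    {α : MulAut Q} (hα : α ∈ E.autGroup Q) (hc : (orderOf α).Coprime p)
    (hnorm : ∀ x ∈ X, ∃ x' ∈ X, ∀ q ∈ Q, autFun α (cj x q) = cj x' (autFun α q))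
    {k : MulAut Q₁} (hk : k ∈ E.autGroup Q₁) (hkQ : ∀ q ∈ Q, autFun k q = autFun α q) :
    ∃ Γ ∈ F.autGroup X, (orderOf Γ).Coprime p ∧ (∀ q ∈ Q, autFun Γ q = autFun α q) ∧
      ∀ c ∈ centralizerIn S Q, c⁻¹ * autFun Γ c ∈ T := by
  obtain ⟨hEs, -, hinvI⟩ := hE
  have hsub := hinvI.1
  have hT := hinvI.2.1
  have hinv : StrongInv E F :=
    strongInv_iff.mpr ((Cfsg.Agent.S5119.result p hS F hF E hsub hT).mp hinvI)
  obtain ⟨hTS, hsc⟩ := stronglyClosed_iff.mp hT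
  have hQS : Q ≤ S := hQT.trans hTS
  have hQ₁T : Q₁ ≤ T := hQ₁c.1
  have hQ₁S : Q₁ ≤ S := hQ₁T.trans hTS
  have hXS : X ≤ S := hXN.trans normalizerIn_le
  have hQX : Q ≤ X := hQQ₁.trans hQ₁X
  have : Finite Q := finite_of_le hQS
  have : Finite Q₁ := finite_of_le hQ₁S
  have : Finite X := finite_of_le hXS
  have := finite_mulAut hQ₁S
  have hXNQ : ∀ x ∈ X, x ∈ Subgroup.normalizer (Q : Set Ω) := fun x hx =>
    (mem_normalizerIn.mp (hXN hx)).2
  -- stage one: make an extension of `α` to `Q₁` normalize a `p`-group containing the action of `X`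
  let Y : Subgroup (MulAut Q₁) :=
    { carrier := {η | η ∈ E.autGroup Q₁ ∧ ∀ q ∈ Q, autFun η q = q}
      one_mem' := ⟨one_mem _, fun q hq => autFun_one (hQQ₁ hq)⟩
      mul_mem' := fun {a b} ha hb => ⟨mul_mem ha.1 hb.1, fun q hq => by
        rw [autFun_mul _ _ (hQQ₁ hq), hb.2 q hq, ha.2 q hq]⟩
      inv_mem' := fun {a} ha => ⟨inv_mem ha.1, fun q hq => by
        conv_lhs => rw [← ha.2 q hq]
        exact autFun_inv_left a (hQQ₁ hq)⟩ }
  set Qx := autInducedBy X Q₁ with hQx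
  have hQxS : Qx ≤ autInducedBy S Q₁ := fun σ hσ => by
    obtain ⟨x, hx, hxn, hxe⟩ := mem_autInducedBy.mp hσ
    exact mem_autInducedBy.mpr ⟨x, hXS hx, hxn, hxe⟩
  have hQxF : Qx ≤ F.autGroup Q₁ := hQxS.trans (autInducedBy_le F hQ₁S)
  have hQxY : Qx ≤ Subgroup.normalizer (Y : Set (MulAut Q₁)) := fun σ hσ => by
    have : Finite Y := inferInstance
    refine Subgroup.mem_normalizer_fintype fun η hη => ?_
    obtain ⟨x, hx, hxn, hxe⟩ := mem_autInducedBy.mp hσ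
    refine ⟨autGroup_conj_mem hinv hT hQ₁T (hQxF hσ) hη.1, fun q hq => ?_⟩
    have hq₁ := hQQ₁ hq
    have e : autFun σ⁻¹ q = cj x⁻¹ q := by
      conv_rhs => rw [← autFun_inv_right σ hq₁, hxe _ (autFun_mem _ hq₁), cj_inv_cj]
    have hm : cj x⁻¹ q ∈ Q :=
      (Subgroup.mem_normalizer_iff.mp (hXNQ _ (X.inv_mem hx)) q).mp hq
    rw [autFun_mul _ _ hq₁, autFun_mul _ _ (autFun_mem _ hq₁), e, hη.2 _ hm,
      hxe _ (hQQ₁ hm), cj_cj_inv]
  set K₀ := Qx ⊔ Y with hK₀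
  have hYE : Y ≤ E.autGroup Q₁ := fun η h => h.1
  have hK₀F : K₀ ≤ F.autGroup Q₁ := sup_le hQxF (hYE.trans (autGroup_mono hsub))
  have hkK : ∀ g ∈ K₀, k * g * k⁻¹ ∈ K₀ := by
    suffices h : K₀ ≤ K₀.comap (MulAut.conj k).toMonoidHom from fun g hg => h hg
    refine sup_le (fun σ hσ => ?_) (fun η hη => ?_)
    · show k * σ * k⁻¹ ∈ K₀
      obtain ⟨x, hx, hxn, hxe⟩ := mem_autInducedBy.mp hσ
      obtain ⟨x', hx', hx'e⟩ := hnorm x hx
      set e := σ⁻¹ * k * σ * k⁻¹ with he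
      have heE : e ∈ E.autGroup Q₁ := by
        refine mul_mem ?_ (inv_mem hk)
        have := autGroup_conj_mem hinv hT hQ₁T ((F.autGroup Q₁).inv_mem (hQxF hσ)) hk
        rwa [inv_inv] at this
      set s := x⁻¹ * x' with hs
      have hsX : s ∈ X := X.mul_mem (X.inv_mem hx) hx'
      have heq : ∀ q ∈ Q, autFun e q = cj s q := by
        intro q hq
        have hq₁ := hQQ₁ hq
        have hk' : autFun k⁻¹ q = autFun α⁻¹ q := by
          conv_lhs => rw [← autFun_inv_right α hq, ← hkQ _ (autFun_mem _ hq)]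
          exact autFun_inv_left k (hQQ₁ (autFun_mem _ hq))
        have h1 : autFun α⁻¹ q ∈ Q := autFun_mem _ hq
        have h2 : cj x (autFun α⁻¹ q) ∈ Q := (Subgroup.mem_normalizer_iff.mp (hXNQ x hx) _).mp h1
        have h3 := autFun_mem (P := Q₁) k (hQQ₁ h2)
        rw [he, autFun_mul _ _ hq₁, autFun_mul _ _ (autFun_mem _ hq₁),
          autFun_mul _ _ (autFun_mem _ (autFun_mem _ hq₁)), hk', hxe _ (hQQ₁ h1), hkQ _ h2,
          hx'e _ h1, autFun_inv_right α hq]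
        have h4 : cj x' q ∈ Q₁ := hQQ₁ ((Subgroup.mem_normalizer_iff.mp (hXNQ x' hx') q).mp hq)
        conv_rhs => rw [hs, cj_mul, ← autFun_inv_right σ h4, hxe _ (autFun_mem _ h4), cj_inv_cj]
      obtain ⟨ξ, hξ, hξe⟩ := exists_autInducedBy (P := Q) (hXS hsX) (hXNQ s hsX)
      have hξE : ξ ∈ E.autGroup Q := (autGroup_eq_set hQT ξ).mpr
        (((isMor_autFun hQ₁T heE).restrict hQQ₁).congr fun q hq => (heq q hq).trans (hξe q hq).symm)
      have hξT : ξ ∈ autInducedBy T Q := by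
        rw [← autInducedBy_inf_autGroup hS hF hEs hsub hT hQn hQT]
        exact ⟨hξ, hξE⟩
      obtain ⟨t, ht, htn, hte⟩ := mem_autInducedBy.mp hξT
      have hts : t⁻¹ * s ∈ centralizerIn S Q :=
        mem_centralizerIn.mpr ⟨S.mul_mem (S.inv_mem (hTS ht)) (hXS hsX), fun q hq => by
          rw [cj_mul, ← hξe q hq, hte q hq, cj_inv_cj]⟩
      have htX : t ∈ X := by
        have := X.mul_mem hsX (X.inv_mem (hCX hts))
        rwa [mul_inv_rev, inv_inv, mul_inv_cancel_left] at this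
      obtain ⟨ct, hct, hcte⟩ := exists_autInducedBy (P := Q₁) htX (hXQ₁ htX)
      have hctE : ct ∈ E.autGroup Q₁ := autInducedBy_le E hQ₁T
        (mem_autInducedBy.mpr ⟨t, ht, hXQ₁ htX, hcte⟩)
      have hη : ct⁻¹ * e ∈ Y := ⟨mul_mem (inv_mem hctE) heE, fun q hq => by
        rw [autFun_mul _ _ (hQQ₁ hq), heq q hq, ← hξe q hq, hte q hq, ← hcte q (hQQ₁ hq),
          autFun_inv_left ct (hQQ₁ hq)]⟩
      have hfin : k * σ * k⁻¹ = σ * (ct * (ct⁻¹ * e)) := by rw [he]; group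
      rw [hfin]
      exact mul_mem (Subgroup.mem_sup_left hσ)
        (mul_mem (Subgroup.mem_sup_left hct) (Subgroup.mem_sup_right hη))
    · refine Subgroup.mem_sup_right ⟨mul_mem (mul_mem hk hη.1) (inv_mem hk), fun q hq => ?_⟩
      have hq₁ := hQQ₁ hq
      have hk' : autFun k⁻¹ q ∈ Q := by
        have e : autFun k⁻¹ q = autFun α⁻¹ q := by
          conv_lhs => rw [← autFun_inv_right α hq, ← hkQ _ (autFun_mem _ hq)]
          exact autFun_inv_left k (hQQ₁ (autFun_mem _ hq))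
        exact e ▸ autFun_mem _ hq
      show autFun (k * η * k⁻¹) q = q
      rw [autFun_mul _ _ hq₁, autFun_mul _ _ (autFun_mem _ hq₁), hη.2 _ hk',
        autFun_inv_right k hq₁]
  have hQxp : IsPGroup p Qx := isPGroup_of_le hQxS (isPGroup_autInducedBy hS)
  obtain ⟨P, hQxP, hPsyl⟩ := exists_isSylIn_of_isPGroup hQxp (le_sup_left : Qx ≤ K₀)
  obtain ⟨b, hb, hbP⟩ := hPsyl.exists_conj_le (hPsyl.2.1.map (MulAut.conj k).toMonoidHom)
    (by rintro _ ⟨g, hg, rfl⟩; exact hkK g (hPsyl.1 hg))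
  rw [← SetLike.mem_coe, Subgroup.coe_mul_of_left_le_normalizer_right _ _ hQxY] at hb
  obtain ⟨σ, hσ, η, hη, hbe⟩ := hb
  set k₁ := η * k with hk₁
  have hk₁P : ∀ g ∈ P, k₁ * g * k₁⁻¹ ∈ P := by
    intro g hg
    have h1 := P.mul_mem (P.mul_mem (P.inv_mem (hQxP hσ)) (hbP _ ⟨g, hg, rfl⟩)) (hQxP hσ)
    rw [← hbe] at h1
    simpa [hk₁, mul_assoc] using h1
  have hk₁n : k₁ ∈ Subgroup.normalizer (P : Set (MulAut Q₁)) :=
    Subgroup.mem_normalizer_fintype hk₁P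
  have hk₁Q : ∀ q ∈ Q, autFun k₁ q = autFun α q := fun q hq => by
    rw [hk₁, autFun_mul _ _ (hQQ₁ hq), hkQ q hq]
    exact hη.2 _ (autFun_mem α hq)
  obtain ⟨j₀, hj₀, hj₀Q⟩ := exists_coprime_restrict (p := p) hQ₁S hQQ₁ hc hk₁Q
  set k₂ := k₁ ^ j₀ with hk₂
  have hk₂n : ∀ g ∈ P, k₂ * g * k₂⁻¹ ∈ P := fun g hg =>
    (Subgroup.mem_normalizer_iff.mp (Subgroup.pow_mem _ hk₁n j₀) g).mp hg
  have hk₂E : k₂ ∈ E.autGroup Q₁ := Subgroup.pow_mem _ (mul_mem hη.1 hk) _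
  have hXN₁ : X ≤ normalizerIn S Q₁ := fun x hx => mem_normalizerIn.mpr ⟨hXS hx, hXQ₁ hx⟩
  obtain ⟨R, H, hRn, hH₀, hHi, hind⟩ := exists_placed hS hF hQ₁S (hPsyl.1.trans hK₀F) hPsyl.2.1
    hXN₁ (fun x hx => by
      obtain ⟨c, hc, hce⟩ := exists_autInducedBy (P := Q₁) hx (hXQ₁ hx)
      exact ⟨c, hQxP hc, hce⟩)
  have hH : IsMor F X H := hH₀.restrict le_sup_right
  have hHQ₁ := hH.restrict hQ₁X
  have hRS : R ≤ S := hRn.1
  have hRc : E.IsCentric R := hHi ▸ centric_img_of_invariant hS hF hsub hT hinv hQ₁c hHQ₁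
  have hRT : R ≤ T := hRc.1
  obtain ⟨e₁, he₁, -, -⟩ := exists_transport hHQ₁ hHi
  have hHR : ∀ q ∈ Q₁, H q ∈ R := fun q hq => hHi ▸ mem_img_of_mem H hq
  set k' := e₁ k₂ with hk'
  have hk'E : k' ∈ E.autGroup R := aut_transport_mem hinv hT hHQ₁ hHi hQ₁T he₁ hk₂E
  have hk'c : (orderOf k').Coprime p := by
    rw [hk', e₁.orderOf_eq]; exact hj₀
  set P' := P.map e₁.toMonoidHom with hP'
  have hk'P : ∀ π ∈ P', k' * π * k'⁻¹ ∈ P' := by
    rintro _ ⟨g, hg, rfl⟩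
    exact ⟨_, hk₂n g hg, by simp [hk']⟩
  set X' := img X H with hX'
  have hX'S : X' ≤ S := hH.img_le
  have hX'R : X' ≤ normalizerIn S R :=
    img_le fun x hx => hHi ▸ mapsTo_normalizerIn hH hQ₁X hXN₁ x hx
  have hcx : ∀ x ∈ X, ∃ π ∈ P', ∀ r ∈ R, autFun π r = cj (H x) r := by
    intro x hx
    obtain ⟨c, hc, hce⟩ := exists_autInducedBy (P := Q₁) hx (hXQ₁ hx)
    refine ⟨e₁ c, ⟨c, hQxP hc, rfl⟩, fun r hr => ?_⟩
    obtain ⟨q, hq, rfl⟩ := hHQ₁.mem_img.mp (hHi.ge hr)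
    rw [he₁ c q hq, hce q hq]
    exact hH.map_conj hx (hQ₁X hq)
  -- centralizers
  have hcent : ∀ {g : Ω → Ω}, IsMor F X g →
      img (centralizerIn S Q) g = centralizerIn S (img Q g) := fun {g} hg => by
    refine eq_of_le_of_card centralizerIn_le
      (img_le fun x hx => mapsTo_centralizerIn hg hQX hCX x hx) ?_
    rw [(hg.restrict hCX).card_img]
    exact (isFullyCentralized_of_normalized hS hF hQn).2 _ (isConj_img (hg.restrict hQX))
  have hCR : centralizerIn S R ≤ X' := by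
    refine le_trans ?_ (img_mono H hCX)
    rw [hcent hH, ← hHi]
    exact centralizerIn_anti (img_mono H hQQ₁)
  -- stage two
  set CR := centralizerIn S R with hCRdef
  set W := R ⊔ CR with hW
  obtain ⟨Γ₁, hΓ₁, hΓ₁c, hΓ₁k, hΓ₁C⟩ := hlift R hRn hRc (by rw [← hHi, hHQ₁.card_img]) k' hk'E hk'c
  have hWS : W ≤ S := sup_le hRS centralizerIn_le
  have hWX : W ≤ X' := sup_le (hHi.ge.trans (img_mono H hQ₁X)) hCR
  have : Finite W := finite_of_le hWS
  have : Finite R := finite_of_le hRS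
  have := finite_mulAut hWS
  have := finite_mulAut hRS
  have hRW : R ≤ W := le_sup_left
  have hCW : CR ≤ W := le_sup_right
  have hΓm := isMor_autFun hWS hΓ₁
  have hΓR : ∀ r ∈ R, autFun Γ₁ r ∈ R := fun r hr => by
    rw [hΓ₁k r hr]; exact autFun_mem k' hr
  have hmapsC : ∀ {τ : MulAut W}, τ ∈ F.autGroup W → (∀ r ∈ R, ∃ r' ∈ R, autFun τ r' = r) →
      ∀ c ∈ CR, autFun τ c ∈ CR := by
    intro τ hτ hsurj c hc
    refine mem_centralizerIn.mpr ⟨hWS (autFun_mem τ (hCW hc)), fun y hy => ?_⟩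
    obtain ⟨r, hr, rfl⟩ := hsurj y hy
    rw [cj_apply, ← (isMor_autFun hWS hτ).map_conj (hCW hc) (hRW hr)]
    exact congrArg (autFun τ) ((mem_centralizerIn.mp hc).2 r hr)
  have hΓsurj : ∀ r ∈ R, ∃ r' ∈ R, autFun Γ₁ r' = r := fun r hr =>
    ⟨autFun k'⁻¹ r, autFun_mem _ hr, by
      rw [hΓ₁k _ (autFun_mem _ hr), autFun_inv_right k' hr]⟩
  have hΓC : ∀ c ∈ CR, autFun Γ₁ c ∈ CR ∧ c⁻¹ * autFun Γ₁ c ∈ R := fun c hc => by
    have h1 := hmapsC hΓ₁ hΓsurj c hc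
    refine ⟨h1, centric_centralizer_le hRc (mem_centralizerIn.mpr ⟨hΓ₁C c hc, ?_⟩)⟩
    exact (mem_centralizerIn.mp (CR.mul_mem (CR.inv_mem hc) h1)).2
  let Y₀ : Subgroup (MulAut W) :=
    { carrier := {τ | τ ∈ F.autGroup W ∧ (∃ π ∈ P', ∀ r ∈ R, autFun τ r = autFun π r) ∧
        ∀ c ∈ CR, c⁻¹ * autFun τ c ∈ R}
      one_mem' := ⟨one_mem _, ⟨1, one_mem _, fun r hr => by
          rw [autFun_one (hRW hr), autFun_one hr]⟩,
        fun c hc => by rw [autFun_one (hCW hc), inv_mul_cancel]; exact one_mem _⟩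
      mul_mem' := by
        rintro a b ⟨ha, ⟨π, hπ, hae⟩, hac⟩ ⟨hb, ⟨π', hπ', hbe⟩, hbc⟩
        refine ⟨mul_mem ha hb, ⟨π * π', mul_mem hπ hπ', fun r hr => ?_⟩, fun c hc => ?_⟩
        · rw [autFun_mul _ _ (hRW hr), hbe r hr, hae _ (autFun_mem π' hr), autFun_mul _ _ hr]
        · have e : autFun b c = c * (c⁻¹ * autFun b c) := (mul_inv_cancel_left _ _).symm
          rw [autFun_mul _ _ (hCW hc), e, autFun_map_mul a (hCW hc) (hRW (hbc c hc)),
            ← mul_assoc, hae _ (hbc c hc)]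
          exact R.mul_mem (hac c hc) (autFun_mem π (hbc c hc))
      inv_mem' := by
        rintro a ⟨ha, ⟨π, hπ, hae⟩, hac⟩
        have hr' : ∀ r ∈ R, autFun a⁻¹ r = autFun π⁻¹ r := fun r hr => by
          conv_lhs => rw [← autFun_inv_right π hr, ← hae _ (autFun_mem _ hr)]
          exact autFun_inv_left a (hRW (autFun_mem _ hr))
        refine ⟨inv_mem ha, ⟨π⁻¹, inv_mem hπ, hr'⟩, fun c hc => ?_⟩
        have h1 := hmapsC (inv_mem ha) (fun r hr => ⟨autFun π r, autFun_mem _ hr, by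
          rw [hr' _ (autFun_mem _ hr), autFun_inv_left π hr]⟩) c hc
        have h2 := R.inv_mem (hac _ h1)
        rw [autFun_inv_right a (hCW hc), mul_inv_rev, inv_inv] at h2
        exact h2 }
  have hRp : IsPGroup p R := isPGroup_of_le hRS hS
  have hP'p : IsPGroup p P' := hPsyl.2.1.map _
  have hY₀p : IsPGroup p Y₀ := by
    rintro ⟨τ, hτF, ⟨π, hπ, hτe⟩, hτc⟩
    obtain ⟨i, hi⟩ := hP'p ⟨π, hπ⟩
    obtain ⟨m, hm⟩ := IsPGroup.iff_card.mp hRp
    have hπi : π ^ p ^ i = 1 := congrArg Subtype.val hi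
    set τ' := τ ^ p ^ i with hτ'
    have hfix : ∀ r ∈ R, autFun τ' r = r := fun r hr => by
      rw [hτ', autFun_pow_congr hRW hτe _ r hr, hπi, autFun_one hr]
    have hmem : τ' ∈ Y₀ := Subgroup.pow_mem _ (show τ ∈ Y₀ from ⟨hτF, ⟨π, hπ, hτe⟩, hτc⟩) _
    have hC' : ∀ n : ℕ, ∀ c ∈ CR, autFun (τ' ^ n) c = c * (c⁻¹ * autFun τ' c) ^ n := by
      intro n c hc
      induction n with
      | zero => rw [pow_zero, autFun_one (hCW hc), pow_zero, mul_one]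
      | succ n ih =>
        have hz := hmem.2.2 c hc
        rw [pow_succ', autFun_mul _ _ (hCW hc), ih,
          autFun_map_mul τ' (hCW hc) (hRW (R.pow_mem hz n)), hfix _ (R.pow_mem hz n),
          pow_succ', ← mul_assoc, ← mul_assoc, mul_inv_cancel, one_mul]
    refine ⟨i + m, Subtype.ext (autFun_inj fun w hw => ?_)⟩
    show autFun (τ ^ p ^ (i + m)) w = autFun (1 : MulAut W) w
    rw [autFun_one hw, pow_add, pow_mul, ← hτ']
    have hpow : τ' ^ p ^ m ∈ F.autGroup W := Subgroup.pow_mem _ (Subgroup.pow_mem _ hτF _) _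
    refine eqOn_sup (isMor_autFun hWS hpow) (isMor_id F hWS) (fun r hr => ?_) (fun c hc => ?_) w hw
    · rw [autFun_pow_congr hRW (a := (1 : MulAut R))
        (fun y hy => by rw [hfix y hy, autFun_one hy]) _ r hr, one_pow, autFun_one hr]
      rfl
    · have hz := hmem.2.2 c hc
      have h1 : (c⁻¹ * autFun τ' c) ^ p ^ m = 1 :=
        orderOf_dvd_iff_pow_eq_one.mp (hm ▸ R.orderOf_dvd_natCard hz)
      rw [hC' _ c hc, h1, mul_one]
      rfl
  set Qw := autInducedBy X' W with hQw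
  have hX'W : X' ≤ Subgroup.normalizer (W : Set Ω) := fun x hx => by
    have hxn := (mem_normalizerIn.mp (hX'R hx))
    refine Subgroup.mem_normalizer_fintype fun w hw => ?_
    refine (sup_le (fun r hr => ?_) (fun c hc => ?_) : W ≤ W.comap (MulAut.conj x).toMonoidHom) hw
    · exact hRW ((Subgroup.mem_normalizer_iff.mp hxn.2 r).mp hr)
    · refine hCW (mem_centralizerIn.mpr ⟨S.mul_mem (S.mul_mem hxn.1 (centralizerIn_le hc))
        (S.inv_mem hxn.1), fun y hy => ?_⟩)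
      have hy' : cj x⁻¹ y ∈ R :=
        (Subgroup.mem_normalizer_iff.mp (Subgroup.inv_mem _ hxn.2) y).mp hy
      show cj (x * c * x⁻¹) y = y
      rw [cj_mul, cj_mul, (mem_centralizerIn.mp hc).2 _ hy', cj_cj_inv]
  have hQwF : Qw ≤ F.autGroup W := fun σ hσ => by
    obtain ⟨x, hx, hxn, hxe⟩ := mem_autInducedBy.mp hσ
    exact autInducedBy_le F hWS (mem_autInducedBy.mpr ⟨x, hX'S hx, hxn, hxe⟩)
  have hQwR : ∀ σ ∈ Qw, (∃ π ∈ P', ∀ r ∈ R, autFun σ r = autFun π r) ∧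
      ∀ c ∈ CR, autFun σ c ∈ CR := by
    intro σ hσ
    obtain ⟨y, hy, -, hye⟩ := mem_autInducedBy.mp hσ
    obtain ⟨x, hx, rfl⟩ := hH.mem_img.mp hy
    obtain ⟨π, hπ, hπe⟩ := hcx x hx
    refine ⟨⟨π, hπ, fun r hr => by rw [hye r (hRW hr), hπe r hr]⟩, hmapsC (hQwF hσ) fun r hr => ?_⟩
    exact ⟨autFun π⁻¹ r, autFun_mem _ hr, by
      rw [hye _ (hRW (autFun_mem _ hr)), ← hπe _ (autFun_mem _ hr), autFun_inv_right π hr]⟩
  have hQwY : Qw ≤ Subgroup.normalizer (Y₀ : Set (MulAut W)) := fun σ hσ => by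
    refine Subgroup.mem_normalizer_fintype fun τ hτ => ?_
    obtain ⟨hτF, ⟨π, hπ, hτe⟩, hτc⟩ := hτ
    obtain ⟨⟨q, hq, hσe⟩, -⟩ := hQwR σ hσ
    obtain ⟨⟨q', hq', hσe'⟩, hσC'⟩ := hQwR σ⁻¹ (Qw.inv_mem hσ)
    refine ⟨mul_mem (mul_mem (hQwF hσ) hτF) (inv_mem (hQwF hσ)),
      ⟨q * π * q', mul_mem (mul_mem hq hπ) hq', fun r hr => ?_⟩, fun c hc => ?_⟩
    · rw [autFun_mul _ _ (hRW hr), autFun_mul _ _ (autFun_mem _ (hRW hr)), hσe' r hr,
        hτe _ (autFun_mem q' hr), hσe _ (autFun_mem π (autFun_mem q' hr)),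
        autFun_mul _ _ hr, autFun_mul _ _ (autFun_mem q' hr)]
    · have hc' := hσC' c hc
      have hz := hτc _ hc'
      have e : autFun τ (autFun σ⁻¹ c) = autFun σ⁻¹ c * ((autFun σ⁻¹ c)⁻¹ * autFun τ (autFun σ⁻¹ c)) :=
        (mul_inv_cancel_left _ _).symm
      rw [autFun_mul _ _ (hCW hc), autFun_mul _ _ (autFun_mem _ (hCW hc)), e,
        autFun_map_mul σ (hCW hc') (hRW hz), autFun_inv_right σ (hCW hc), inv_mul_cancel_left,
        hσe _ hz]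
      exact autFun_mem q hz
  have hQwp : IsPGroup p Qw := isPGroup_of_le (fun σ hσ => by
    obtain ⟨x, hx, hxn, hxe⟩ := mem_autInducedBy.mp hσ
    exact mem_autInducedBy.mpr ⟨x, hX'S hx, hxn, hxe⟩) (isPGroup_autInducedBy (S := S) hS)
  set P'' := Y₀ ⊔ Qw with hP''
  have hP''p : IsPGroup p P'' := IsPGroup.to_sup_of_normal_left' hY₀p hQwp hQwY
  have hΓP : ∀ g ∈ P'', Γ₁ * g * Γ₁⁻¹ ∈ P'' := by
    suffices h : P'' ≤ P''.comap (MulAut.conj Γ₁).toMonoidHom from fun g hg => h hg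
    have hΓi : ∀ c ∈ CR, autFun Γ₁⁻¹ c ∈ CR :=
      hmapsC (inv_mem hΓ₁) fun r hr => ⟨autFun Γ₁ r, hΓR r hr, autFun_inv_left Γ₁ (hRW hr)⟩
    have hΓiR : ∀ r ∈ R, autFun Γ₁⁻¹ r = autFun k'⁻¹ r := fun r hr => by
      conv_lhs => rw [← autFun_inv_right k' hr, ← hΓ₁k _ (autFun_mem _ hr)]
      exact autFun_inv_left Γ₁ (hRW (autFun_mem _ hr))
    refine sup_le (fun τ hτ => ?_) (fun σ hσ => ?_)
    · obtain ⟨hτF, ⟨π, hπ, hτe⟩, hτc⟩ := hτ
      refine Subgroup.mem_sup_left ⟨mul_mem (mul_mem hΓ₁ hτF) (inv_mem hΓ₁),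
        ⟨k' * π * k'⁻¹, hk'P π hπ, fun r hr => ?_⟩, fun c hc => ?_⟩
      · show autFun (Γ₁ * τ * Γ₁⁻¹) r = _
        rw [autFun_mul _ _ (hRW hr), autFun_mul _ _ (autFun_mem _ (hRW hr)), hΓiR r hr,
          hτe _ (autFun_mem _ hr), hΓ₁k _ (autFun_mem π (autFun_mem _ hr)),
          autFun_mul _ _ hr, autFun_mul _ _ (autFun_mem _ hr)]
      · show c⁻¹ * autFun (Γ₁ * τ * Γ₁⁻¹) c ∈ R
        have hc' := hΓi c hc
        have hz := hτc _ hc'
        have e : autFun τ (autFun Γ₁⁻¹ c) =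
            autFun Γ₁⁻¹ c * ((autFun Γ₁⁻¹ c)⁻¹ * autFun τ (autFun Γ₁⁻¹ c)) :=
          (mul_inv_cancel_left _ _).symm
        rw [autFun_mul _ _ (hCW hc), autFun_mul _ _ (autFun_mem _ (hCW hc)), e,
          autFun_map_mul Γ₁ (hCW hc') (hRW hz), autFun_inv_right Γ₁ (hCW hc), inv_mul_cancel_left]
        exact hΓR _ hz
    · obtain ⟨⟨q, hq, hσe⟩, hσC⟩ := hQwR σ hσ
      obtain ⟨⟨q', hq', hσe'⟩, hσC'⟩ := hQwR σ⁻¹ (Qw.inv_mem hσ)
      have hτ : σ⁻¹ * (Γ₁ * σ * Γ₁⁻¹) ∈ Y₀ := by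
        refine ⟨mul_mem (inv_mem (hQwF hσ))
          (mul_mem (mul_mem hΓ₁ (hQwF hσ)) (inv_mem hΓ₁)),
          ⟨q' * (k' * q * k'⁻¹), mul_mem hq' (hk'P q hq), fun r hr => ?_⟩, fun c hc => ?_⟩
        · have h3 := autFun_mem k'⁻¹ hr
          rw [autFun_mul _ _ (hRW hr), autFun_mul _ _ (hRW hr),
            autFun_mul _ _ (autFun_mem _ (hRW hr)), hΓiR r hr, hσe _ h3,
            hΓ₁k _ (autFun_mem q h3), hσe' _ (autFun_mem k' (autFun_mem q h3)),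
            autFun_mul _ _ hr, autFun_mul _ _ hr, autFun_mul _ _ h3]
        · -- all displacements stay in `R`
          have hcW := hCW hc
          set c₁ := autFun Γ₁⁻¹ c with hc₁
          have hc₁C : c₁ ∈ CR := hΓi c hc
          have hz₁ : c₁⁻¹ * c ∈ R := by
            have h1 := (hΓC _ hc₁C).2
            rwa [hc₁, autFun_inv_right Γ₁ hcW] at h1
          set d := autFun σ c₁ with hd
          have hdC : d ∈ CR := hσC _ hc₁C
          have hw := (hΓC d hdC).2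
          have e1 : autFun Γ₁ d = d * (d⁻¹ * autFun Γ₁ d) := (mul_inv_cancel_left _ _).symm
          rw [autFun_mul _ _ hcW, autFun_mul _ _ hcW, autFun_mul _ _ (autFun_mem _ hcW), ← hc₁,
            ← hd, e1, autFun_map_mul σ⁻¹ (hCW hdC) (hRW hw), hd,
            autFun_inv_left σ (hCW hc₁C), ← mul_assoc, hσe' _ hw]
          refine R.mul_mem ?_ (autFun_mem q' hw)
          have := R.inv_mem hz₁
          rwa [mul_inv_rev, inv_inv] at this
      have : σ * (σ⁻¹ * (Γ₁ * σ * Γ₁⁻¹)) ∈ P'' :=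
        mul_mem (Subgroup.mem_sup_right hσ) (Subgroup.mem_sup_left hτ)
      rw [mul_inv_cancel_left] at this
      exact this
  have hX'NW : X' ≤ normalizerIn S W := fun x hx => mem_normalizerIn.mpr ⟨hX'S hx, hX'W hx⟩
  obtain ⟨R₂, H₂, hR₂n, hH₂₀, hH₂i, hind₂⟩ := exists_placed hS hF hWS
    (sup_le (fun τ (hτ : τ ∈ Y₀) => hτ.1) hQwF) hP''p hX'NW (fun x hx => by
      obtain ⟨c, hc, hce⟩ := exists_autInducedBy (P := W) hx (hX'W hx)
      exact ⟨c, Subgroup.mem_sup_right hc, hce⟩)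
  have hH₂ : IsMor F X' H₂ := hH₂₀.restrict le_sup_right
  have hH₂W := hH₂.restrict hWX
  obtain ⟨e₂, he₂, he₂F, -⟩ := exists_transport hH₂W hH₂i
  set Γ₂ := e₂ Γ₁ with hΓ₂
  obtain ⟨G, hG, hGe⟩ := (isReceptive_iff.mp (isFullyAutomized_of_normalized hS hF hR₂n).2).2 R₂ _
    (isMor_autFun hR₂n.1 ((he₂F Γ₁).mp hΓ₁)) (img_autFun Γ₂)
  have hGW : ∀ w ∈ W, G (H₂ w) = H₂ (autFun Γ₁ w) := fun w hw => by
    rw [hGe _ (hH₂i ▸ mem_img_of_mem H₂ hw)]
    exact he₂ Γ₁ w hw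
  set J := H₂ ∘ H with hJdef
  have hJ : IsMor F X J := hH.comp hH₂ fun x hx => mem_img_of_mem H hx
  have hJX : img X J = img X' H₂ := by rw [hJdef, ← hH.img_comp]
  have hext : img X J ≤ nExt S R₂ (autFun Γ₂) := by
    rw [hJX]
    refine img_le fun x hx => ?_
    obtain ⟨c, hc, hce⟩ := exists_autInducedBy (P := W) hx (hX'W hx)
    obtain ⟨r, hr, hre⟩ := hind₂ _ (hΓP c (Subgroup.mem_sup_right hc))
    have hyn := mapsTo_normalizerIn hH₂ hWX hX'NW x hx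
    rw [hH₂i] at hyn
    refine ⟨hH₂.mem hx, (mem_normalizerIn.mp hyn).2, r, (mem_normalizerIn.mp hr).1, fun y hy => ?_⟩
    obtain ⟨w, hw, rfl⟩ := hH₂W.mem_img.mp (hH₂i.ge hy)
    have hxw : cj x w ∈ W := (Subgroup.mem_normalizer_iff.mp (hX'W hx) w).mp hw
    rw [show cj (H₂ x) (H₂ w) = H₂ (cj x w) from (hH₂.map_conj hx (hWX hw)).symm, hΓ₂,
      he₂ Γ₁ _ hxw, he₂ Γ₁ w hw, ← hre _ (autFun_mem Γ₁ hw)]
    refine congrArg H₂ ?_
    rw [autFun_mul _ _ (autFun_mem Γ₁ hw), autFun_inv_left Γ₁ hw, autFun_mul _ _ hw, hce w hw]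
  have hQW : ∀ q ∈ Q₁, H q ∈ W := fun q hq => hRW (hHR q hq)
  have hGJ : ∀ q ∈ Q₁, G (J q) = J (autFun k₂ q) := fun q hq => by
    show G (H₂ (H q)) = H₂ (H (autFun k₂ q))
    rw [hGW _ (hQW q hq), hΓ₁k _ (hHR q hq), hk', he₁ k₂ q hq]
  have hGQ : ∀ q ∈ Q, G (J q) = J (autFun α q) := fun q hq => by
    rw [hGJ q (hQQ₁ hq), hk₂, hj₀Q q hq]
  have hstab : ∀ y ∈ img X J, G y ∈ img X J := by
    intro y hy
    have hyE := hext hy
    obtain ⟨x, hx, rfl⟩ := hJ.mem_img.mp hy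
    obtain ⟨x', hx', hx'e⟩ := hnorm x hx
    have hd : (J x')⁻¹ * G (J x) ∈ centralizerIn S (img Q J) := by
      refine mem_centralizerIn.mpr ⟨S.mul_mem (S.inv_mem (hJ.mem hx')) (hG.mem hyE), fun z hz => ?_⟩
      obtain ⟨q, hq, rfl⟩ := (hJ.restrict hQX).mem_img.mp hz
      have hq' := autFun_mem α⁻¹ hq
      have hxq : cj x (autFun α⁻¹ q) ∈ Q := (Subgroup.mem_normalizer_iff.mp (hXNQ x hx) _).mp hq'
      have h1 := hG.map_conj hyE (hext (mem_img_of_mem J (hQX hq')))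
      rw [← hJ.map_conj hx (hQX hq'), ← cj_apply x, hGQ _ hxq, hx'e _ hq', autFun_inv_right α hq, hGQ _ hq',
        autFun_inv_right α hq] at h1
      rw [cj_mul, cj_apply (G (J x)), ← h1, cj_apply x',
        hJ.map_conj hx' (hQX hq), ← cj_apply, cj_inv_cj]
    rw [← hcent hJ] at hd
    have := Subgroup.mul_mem _ (mem_img_of_mem J hx') (img_mono J hCX hd)
    rwa [mul_inv_cancel_left] at this
  obtain ⟨γ, hγ, hγe⟩ := exists_aut_pullback hJ hG hext hstab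
  have hγm := isMor_autFun hXS hγ
  have := finite_mulAut hXS
  obtain ⟨j, hj, hj1⟩ := exists_pow_coprime_modEq (p := p) γ (Nat.Coprime.mul hΓ₁c hc)
  set γ' := γ ^ j with hγ'
  have hγH : ∀ n : ℕ, ∀ x ∈ X, H x ∈ W → H (autFun (γ ^ n) x) = autFun (Γ₁ ^ n) (H x) := by
    intro n
    induction n with
    | zero => intro x hx hxW; rw [pow_zero, pow_zero, autFun_one hx, autFun_one hxW]
    | succ n ih =>
      intro x hx hxW
      have h1 : H (autFun (γ ^ n) x) ∈ W := ih x hx hxW ▸ autFun_mem _ hxW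
      have h2 : autFun (γ ^ n) x ∈ X := autFun_mem _ hx
      rw [pow_succ', pow_succ', autFun_mul _ _ hx, autFun_mul _ _ hxW, ← ih x hx hxW]
      refine hH₂.inj (mem_img_of_mem H (autFun_mem γ h2)) (hWX (autFun_mem Γ₁ h1)) ?_
      rw [← hGW _ h1]
      exact hγe _ h2
  have hΓj : Γ₁ ^ j = Γ₁ :=
    (pow_eq_pow_iff_modEq.mpr (Nat.ModEq.of_mul_right _ hj1)).trans (pow_one _)
  have hαj : α ^ j = α :=
    (pow_eq_pow_iff_modEq.mpr (Nat.ModEq.of_mul_left _ hj1)).trans (pow_one _)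
  have hγ'H : ∀ x ∈ X, H x ∈ W → H (autFun γ' x) = autFun Γ₁ (H x) := fun x hx hxW => by
    rw [hγ', hγH j x hx hxW, hΓj]
  have hγ'Q : ∀ q ∈ Q, autFun γ' q = autFun α q := fun q hq => by
    rw [hγ', autFun_pow_congr hQX (fun z hz => hJ.inj (autFun_mem γ (hQX hz))
      (hQX (autFun_mem α hz)) (by rw [hγe _ (hQX hz), hGQ z hz])) j q hq, hαj]
  have hγ'F : γ' ∈ F.autGroup X := Subgroup.pow_mem _ hγ _
  have hγ'm := isMor_autFun hXS hγ'F
  refine ⟨γ', hγ'F, hj, hγ'Q, fun c hc => ?_⟩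
  have hcX := hCX hc
  -- the displacement on `R`
  set δ₀ := c⁻¹ * autFun γ' c with hδ₀
  have hδX : δ₀ ∈ X := X.mul_mem (X.inv_mem hcX) (autFun_mem γ' hcX)
  have he : ∀ q ∈ Q₁, cj (H (autFun γ' c)) (autFun k' (H q)) = autFun k' (cj (H c) (H q)) := by
    intro q hq
    have hcq : cj c q ∈ Q₁ := (Subgroup.mem_normalizer_iff.mp (hXQ₁ hcX) q).mp hq
    have h1 : H (autFun γ' (cj c q)) = autFun k' (H (cj c q)) := by
      rw [hγ'H _ (hQ₁X hcq) (hQW _ hcq), hΓ₁k _ (hHR _ hcq)]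
    have h2 : H (autFun γ' q) = autFun k' (H q) := by
      rw [hγ'H _ (hQ₁X hq) (hQW _ hq), hΓ₁k _ (hHR _ hq)]
    rw [show autFun γ' (cj c q) = cj (autFun γ' c) (autFun γ' q) from
        hγ'm.map_conj hcX (hQ₁X hq), cj_apply (autFun γ' c),
      hH.map_conj (autFun_mem γ' hcX) (autFun_mem γ' (hQ₁X hq)), h2, cj_apply c,
      hH.map_conj hcX (hQ₁X hq)] at h1
    exact h1
  obtain ⟨σc, hσc, hσce⟩ := hcx c hcX
  have hσcF : σc ∈ F.autGroup R := by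
    obtain ⟨r, hr, hrn, -⟩ : ∃ r ∈ S, r ∈ Subgroup.normalizer (R : Set Ω) ∧ r = H c :=
      ⟨_, (mem_normalizerIn.mp (hX'R (mem_img_of_mem H hcX))).1,
        (mem_normalizerIn.mp (hX'R (mem_img_of_mem H hcX))).2, rfl⟩
    exact autInducedBy_le F hRS (mem_autInducedBy.mpr ⟨H c,
      (mem_normalizerIn.mp (hX'R (mem_img_of_mem H hcX))).1,
      (mem_normalizerIn.mp (hX'R (mem_img_of_mem H hcX))).2, hσce⟩)
  set ξ := σc⁻¹ * k' * σc * k'⁻¹ with hξ
  have hξE : ξ ∈ E.autGroup R := by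
    have := autGroup_conj_mem hinv hT hRT (inv_mem hσcF) hk'E
    rw [inv_inv] at this
    exact mul_mem this (inv_mem hk'E)
  have hξe : ∀ r ∈ R, autFun ξ r = cj (H δ₀) r := by
    intro r hr
    have hk'r := autFun_mem k'⁻¹ hr
    obtain ⟨q, hq, hqe⟩ := hHQ₁.mem_img.mp (hHi.ge hk'r)
    have h3 := he q hq
    rw [hqe, autFun_inv_right k' hr] at h3
    have hm : cj (H c) (autFun k'⁻¹ r) ∈ R :=
      (Subgroup.mem_normalizer_iff.mp (mem_normalizerIn.mp (hX'R (mem_img_of_mem H hcX))).2 _).mp hk'r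
    have h4 : cj (H (autFun γ' c)) r ∈ R := h3 ▸ autFun_mem k' hm
    rw [hξ, autFun_mul _ _ hr, autFun_mul _ _ hk'r, autFun_mul _ _ (autFun_mem σc hk'r),
      hσce _ hk'r, ← h3, hδ₀, hH.map_mul (X.inv_mem hcX) (autFun_mem γ' hcX), hH.map_inv hcX,
      cj_mul]
    conv_rhs => rw [← autFun_inv_right σc h4, hσce _ (autFun_mem _ h4), cj_inv_cj]
  have hξT : ξ ∈ autInducedBy T R := by
    rw [← autInducedBy_inf_autGroup hS hF hEs hsub hT hRn hRT]
    exact ⟨mem_autInducedBy.mpr ⟨H δ₀, (mem_normalizerIn.mp (hX'R (mem_img_of_mem H hδX))).1,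
      (mem_normalizerIn.mp (hX'R (mem_img_of_mem H hδX))).2, hξe⟩, hξE⟩
  obtain ⟨t, ht, htn, hte⟩ := mem_autInducedBy.mp hξT
  set u := t⁻¹ * H δ₀ with hu
  have huC : u ∈ CR := mem_centralizerIn.mpr ⟨S.mul_mem (S.inv_mem (hTS ht)) (hH.mem hδX),
    fun r hr => by rw [cj_mul, ← hξe r hr, hte r hr, cj_inv_cj]⟩
  obtain ⟨u₀, hu₀, hu₀e⟩ := hH.mem_img.mp (hCR huC)
  obtain ⟨Hi, hHi', hl, hr', -⟩ := hH.inverse
  have hback : ∀ x ∈ X, H x ∈ T → x ∈ T := fun x hx hxT => by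
    have := hsc _ Hi hHi' _ (mem_img_of_mem H hx) hxT
    rwa [hl x hx] at this
  have ht₀ : δ₀ * u₀⁻¹ ∈ T := hback _ (X.mul_mem hδX (X.inv_mem hu₀)) (by
    rw [hH.map_mul hδX (X.inv_mem hu₀), hH.map_inv hu₀, hu₀e, hu, mul_inv_rev, inv_inv,
      mul_inv_cancel_left]
    exact ht)
  have hu₀γ : u₀⁻¹ * autFun γ' u₀ ∈ T := by
    refine hback _ (X.mul_mem (X.inv_mem hu₀) (autFun_mem γ' hu₀)) ?_
    rw [hH.map_mul (X.inv_mem hu₀) (autFun_mem γ' hu₀), hH.map_inv hu₀,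
      hγ'H u₀ hu₀ (hu₀e ▸ hCW huC), hu₀e]
    exact hRT (hΓC u huC).2
  -- quotient by `T`
  have hST := stronglyClosed_le_normalizer hT
  have hTX : (T.subgroupOf X).Normal :=
    Subgroup.normal_subgroupOf_of_le_normalizer (hXS.trans hST)
  set π := QuotientGroup.mk' (T.subgroupOf X) with hπ
  have hπ' : ∀ u v : X, π u = π v ↔ (u : Ω)⁻¹ * v ∈ T := fun u v =>
    QuotientGroup.eq.trans Subgroup.mem_subgroupOf
  have hdisp : ∀ u v : X, π u = π v → π (γ' u) = π (γ' v) := by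
    intro u v huv
    rw [hπ'] at huv ⊢
    have h4 := hsc X _ hγ'm _ ((u⁻¹ * v : X)).2 huv
    rw [autFun_coe γ' (u⁻¹ * v)] at h4
    simpa using h4
  let cX : X := ⟨c, hcX⟩
  let uX : X := ⟨u₀, hu₀⟩
  have hcu : π (γ' cX) = π cX * π uX := by
    rw [← map_mul, eq_comm, hπ']
    show (c * u₀)⁻¹ * ((γ' cX : X) : Ω) ∈ T
    rw [← autFun_coe γ' cX, mul_inv_rev, mul_assoc, ← hδ₀]
    have := T.mul_mem (T.mul_mem (T.one_mem) ht₀) (T.one_mem)
    have h5 := (Subgroup.mem_normalizer_iff.mp (hST (S.inv_mem (hXS hu₀))) _).mp ht₀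
    simpa [mul_assoc] using h5
  have huu : π (γ' uX) = π uX := by
    rw [eq_comm, hπ']
    show u₀⁻¹ * ((γ' uX : X) : Ω) ∈ T
    rw [← autFun_coe γ' uX]
    exact hu₀γ
  have hit : ∀ n : ℕ, π ((γ' ^ n) cX) = π cX * π uX ^ n := by
    intro n
    induction n with
    | zero => simp
    | succ n ih =>
      rw [pow_succ', MulAut.mul_apply, hdisp _ (cX * uX ^ n) (by rw [ih, map_mul, map_pow]),
        map_mul, map_mul, hcu, map_pow, map_pow, huu, pow_succ', mul_assoc]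
  have h1 := hit (orderOf γ')
  rw [pow_orderOf_eq_one, MulAut.one_apply, left_eq_mul] at h1
  obtain ⟨i, hi⟩ := (isPGroup_of_le hXS hS) uX
  have h2 : π uX = 1 := orderOf_eq_one_iff.mp (Nat.eq_one_of_dvd_coprimes (hj.pow_right i)
    (orderOf_dvd_of_pow_eq_one h1)
    (orderOf_dvd_of_pow_eq_one (by rw [← map_pow, hi, map_one])))
  have hu₀T : u₀ ∈ T := Subgroup.mem_subgroupOf.mp ((QuotientGroup.eq_one_iff uX).mp h2)
  have := T.mul_mem ht₀ hu₀T
  rwa [inv_mul_cancel_right] at this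

end CfsgLib.Fusion
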