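import Mathlib
import Cfsg.Agent.Lib.Fusion.MovingStep

/-!
# Automorphisms of order prime to `p` of a normal subsystem move centralizers into it
-/

set_option autoImplicit false
set_option linter.unusedSectionVars false
set_option maxHeartbeats 1000000

namespace CfsgLib.Fusion

open Cfsg Cfsg.FusionSystem

variable {Ω : Type*} [Group Ω] {S T : Subgroup Ω} {F : FusionSystem S} {E : FusionSystem T}
  {p : ℕ} [hp : Fact p.Prime] [Finite S]

/-- At a fully normalized centric subgroup of a normal subsystem every automorphism of order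
prime to `p` lifts. -/
theorem liftable (hS : IsPGroup p S) (hF : F.IsSaturated p) (hE : E.IsNormalIn F p)
    {Q : Subgroup Ω} (hQn : F.IsFullyNormalized Q) (hQc : E.IsCentric Q) :
    MovLiftable F E p Q := by
  have hinv := strongInv_of_isNormalIn hS hF hE
  obtain ⟨hwn, hext⟩ := id hE
  obtain ⟨hEs, -, hsub, hT, -⟩ := id hwn
  obtain ⟨hTS, hsc⟩ := stronglyClosed_iff.mp hT
  have hSN := stronglyClosed_le_normalizer hT
  have hTp : IsPGroup p T := isPGroup_of_le hTS hS
  have : Finite T := finite_of_le hTS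
  suffices h : ∀ n (R : Subgroup Ω), Nat.card T - Nat.card R = n → F.IsFullyNormalized R →
      E.IsCentric R → MovLiftable F E p R from h _ Q rfl hQn hQc
  clear hQn hQc Q
  intro n
  induction n using Nat.strong_induction_on with
  | _ n ih =>
  intro Q hn hQn hQc
  subst hn
  have hQT := hQc.1
  have hQS := hQT.trans hTS
  set C := centralizerIn S Q with hCdef
  set M := Q ⊔ C with hMdef
  have hQM : Q ≤ M := le_sup_left
  have hCM : C ≤ M := le_sup_right
  have hMS : M ≤ S := sup_le hQS centralizerIn_le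
  have := finite_mulAut hMS
  have := finite_mulAut hQS
  let Lift : MulAut Q → MulAut M → Prop := fun α β =>
    β ∈ F.autGroup M ∧ (∀ x ∈ Q, autFun β x = autFun α x) ∧ ∀ c ∈ C, c⁻¹ * autFun β c ∈ Q
  have hL1 : Lift 1 1 := ⟨one_mem _, fun x hx => by rw [autFun_one hx, autFun_one (hQM hx)],
    fun c hc => by rw [autFun_one (hCM hc), inv_mul_cancel]; exact one_mem _⟩
  have hLmul : ∀ a a' b b', Lift a b → Lift a' b' → Lift (a * a') (b * b') := by
    intro a a' b b' hl hl'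
    refine ⟨Subgroup.mul_mem _ hl.1 hl'.1, fun x hx => ?_, fun c hc => ?_⟩
    · rw [autFun_mul _ _ (hQM hx), hl'.2.1 x hx, hl.2.1 _ (autFun_mem a' hx), autFun_mul _ _ hx]
    · have hd := hl'.2.2 c hc
      have e : autFun b' c = c * (c⁻¹ * autFun b' c) := (mul_inv_cancel_left _ _).symm
      rw [autFun_mul _ _ (hCM hc), e, autFun_map_mul b (hCM hc) (hQM hd), ← mul_assoc,
        hl.2.1 _ hd]
      exact Q.mul_mem (hl.2.2 c hc) (autFun_mem a hd)
  have hLinv : ∀ a b, Lift a b → Lift a⁻¹ b⁻¹ := by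
    intro a b hl
    have h1 : ∀ x ∈ Q, autFun b⁻¹ x = autFun a⁻¹ x := fun x hx => by
      conv_lhs => rw [← autFun_inv_right a hx, ← hl.2.1 _ (autFun_mem a⁻¹ hx)]
      exact autFun_inv_left b (hQM (autFun_mem a⁻¹ hx))
    refine ⟨Subgroup.inv_mem _ hl.1, h1, fun c hc => ?_⟩
    have hd := hl.2.2 c hc
    have hd' : autFun b⁻¹ (c⁻¹ * autFun b c) ∈ Q := by
      rw [h1 _ hd]; exact autFun_mem _ hd
    rw [autFun_map_mul b⁻¹ (Subgroup.inv_mem _ (hCM hc)) (autFun_mem b (hCM hc)),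
      autFun_inv_map b⁻¹ (hCM hc), autFun_inv_left b (hCM hc)] at hd'
    have := Q.inv_mem hd'
    rwa [mul_inv_rev, inv_inv] at this
  let K : Subgroup (MulAut Q) :=
    { carrier := {α | α ∈ E.autGroup Q ∧ ∃ β, Lift α β}
      one_mem' := ⟨one_mem _, 1, hL1⟩
      mul_mem' := fun {a a'} ha ha' => by
        obtain ⟨b, hb⟩ := ha.2
        obtain ⟨b', hb'⟩ := ha'.2
        exact ⟨Subgroup.mul_mem _ ha.1 ha'.1, _, hLmul a a' b b' hb hb'⟩
      inv_mem' := fun {a} ha => by
        obtain ⟨b, hb⟩ := ha.2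
        exact ⟨Subgroup.inv_mem _ ha.1, _, hLinv a b hb⟩ }
  have hKA : K ≤ E.autGroup Q := fun a ha => ha.1
  -- it is enough that every element of order prime to `p` is in `K`
  suffices hcop : ∀ a ∈ E.autGroup Q, (orderOf a).Coprime p → a ∈ K by
    intro k hk hkc
    obtain ⟨-, b, hb⟩ := hcop k hk hkc
    have hLpow : ∀ j : ℕ, Lift (k ^ j) (b ^ j) := by
      intro j
      induction j with
      | zero => simpa only [pow_zero] using hL1
      | succ j ih =>
        rw [pow_succ, pow_succ]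
        exact hLmul _ _ _ _ ih hb
    obtain ⟨j, hj, hj1⟩ := exists_pow_coprime_modEq (p := p) b hkc
    have hkj : k ^ j = k := (pow_eq_pow_iff_modEq.mpr hj1).trans (pow_one k)
    obtain ⟨h1, h2, h3⟩ := hLpow j
    exact ⟨b ^ j, h1, hj, fun x hx => by rw [h2 x hx, hkj], fun c hc => hQT (h3 c hc)⟩
  rcases eq_or_lt_of_le hQT with e | hlt
  · intro a ha _
    refine ⟨ha, ?_⟩
    subst e
    obtain ⟨β, hβ, hβx, hβc⟩ := hext a ha
    refine ⟨β, hβ, fun x hx => ?_, fun c hc => ?_⟩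
    · rw [autFun_of_mem β (hQM hx), autFun_of_mem a hx]
      exact hβx ⟨x, hx⟩
    · rw [autFun_of_mem β (hCM hc)]
      exact (Subgroup.mem_inf.mp (hβc ⟨c, hCM hc⟩ hc)).1
  have hKn : ∀ a ∈ E.autGroup Q, ∀ k ∈ K, a * k * a⁻¹ ∈ K := by
    intro a ha k hk
    refine ⟨Subgroup.mul_mem _ (Subgroup.mul_mem _ ha hk.1) (Subgroup.inv_mem _ ha), ?_⟩
    obtain ⟨b, hb⟩ := hk.2
    obtain ⟨g, hg, hge, hgC⟩ :=
      exists_map_centralizer (isFullyAutomized_of_normalized hS hF hQn).2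
        (isMor_autFun hQS (autGroup_mono hsub ha)) (img_autFun a)
    have hg' : IsMor F M g := hMdef ▸ sup_comm C Q ▸ hg
    have hgM : img M g = M := by
      refine hg'.img_eq_self fun y hy => ?_
      have h1 := mem_img_of_mem g hy
      rw [hMdef, hg'.img_sup, img_congr hge, img_autFun] at h1
      exact sup_le_sup_left hgC Q h1
    obtain ⟨γ, hγ, hγe⟩ := exists_aut hg' hgM
    have hγh : ∀ x ∈ Q, autFun γ x = autFun a x := fun x hx => by
      rw [hγe _ (hQM hx), hge _ hx]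
    have hγhi : ∀ x ∈ Q, autFun γ⁻¹ x = autFun a⁻¹ x := fun x hx => by
      conv_lhs => rw [← autFun_inv_right a hx, ← hγh _ (autFun_mem a⁻¹ hx)]
      exact autFun_inv_left γ (hQM (autFun_mem a⁻¹ hx))
    refine ⟨γ * b * γ⁻¹, Subgroup.mul_mem _ (Subgroup.mul_mem _ hγ hb.1) (Subgroup.inv_mem _ hγ),
      fun x hx => ?_, fun c hc => ?_⟩
    · rw [autFun_mul _ _ (hQM hx), autFun_mul _ _ (autFun_mem γ⁻¹ (hQM hx)),
        hγhi x hx, hb.2.1 _ (autFun_mem a⁻¹ hx), hγh _ (autFun_mem k (autFun_mem a⁻¹ hx)),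
        autFun_mul _ _ hx, autFun_mul _ _ (autFun_mem a⁻¹ hx)]
    · have hCi : img C (autFun γ) = C := ((isMor_autFun hMS hγ).restrict hCM).img_eq_self
        fun y hy => hγe y (hCM hy) ▸ hgC (mem_img_of_mem g hy)
      obtain ⟨c', hc', rfl⟩ := ((isMor_autFun hMS hγ).restrict hCM).mem_img.mp (hCi.ge hc)
      have hd := hb.2.2 c' hc'
      rw [autFun_mul _ _ (autFun_mem γ (hCM hc')),
        autFun_mul _ _ (autFun_mem _ (autFun_mem γ (hCM hc'))),
        autFun_inv_left γ (hCM hc'), ← autFun_inv_map γ (hCM hc'),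
        ← autFun_map_mul γ (Subgroup.inv_mem _ (hCM hc')) (autFun_mem b (hCM hc')), hγh _ hd]
      exact autFun_mem a hd
  have hinner : autInducedBy T Q ≤ K := by
    intro α hα
    obtain ⟨t, ht, htn, hte⟩ := mem_autInducedBy.mp hα
    have hconj : ∀ c ∈ C, cj t c ∈ C ∧ c⁻¹ * cj t c ∈ Q := by
      intro c hc
      obtain ⟨hcS, hcc⟩ := mem_centralizerIn.mp hc
      have h1 : cj t c ∈ C := by
        refine mem_centralizerIn.mpr
          ⟨S.mul_mem (S.mul_mem (hTS ht) hcS) (S.inv_mem (hTS ht)), fun y hy => ?_⟩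
        have hy' : cj t⁻¹ y ∈ Q :=
          (Subgroup.mem_normalizer_iff.mp (Subgroup.inv_mem _ htn) y).mp hy
        show cj (t * c * t⁻¹) y = y
        rw [cj_mul, cj_mul, hcc _ hy', cj_cj_inv]
      refine ⟨h1, centric_centralizer_le hQc (mem_centralizerIn.mpr ⟨?_, fun y hy => ?_⟩)⟩
      · rw [show c⁻¹ * cj t c = (c⁻¹ * t * c⁻¹⁻¹) * t⁻¹ by rw [cj_apply, inv_inv]; group]
        exact T.mul_mem ((Subgroup.mem_normalizer_iff.mp (Subgroup.inv_mem _ (hSN hcS)) t).mp ht)
          (T.inv_mem ht)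
      · rw [cj_mul, (mem_centralizerIn.mp h1).2 y hy,
          (mem_centralizerIn.mp (C.inv_mem hc)).2 y hy]
    have htM : t ∈ Subgroup.normalizer (M : Set Ω) := by
      have hle : M ≤ M.comap (MulAut.conj t).toMonoidHom := sup_le
        (fun r hr => Subgroup.mem_sup_left ((Subgroup.mem_normalizer_iff.mp htn r).mp hr))
        (fun c hc => Subgroup.mem_sup_right (hconj c hc).1)
      have : Finite M := finite_of_le hMS
      exact Subgroup.mem_normalizer_fintype fun u hu => hle hu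
    obtain ⟨β, hβ, hβe⟩ := exists_autInducedBy (K := S) (hTS ht) htM
    refine ⟨autInducedBy_le E hQT hα, β, autInducedBy_le F hMS hβ, fun x hx => ?_, fun c hc => ?_⟩
    · rw [hβe _ (hQM hx), hte x hx]
    · rw [hβe c (hCM hc)]; exact (hconj c hc).2
  have hQnE := isFullyNormalized_sub hS hF hsub hT hQn hQT
  obtain ⟨hQa, hQr⟩ := isFullyAutomized_of_normalized hTp hEs hQnE
  have hsyl := (isFullyAutomized_iff.mp hQa).2
  set Q₁ := normalizerIn T Q with hQ₁
  have hQQ₁ : Q ≤ Q₁ := le_normalizerIn hQT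
  have hQ₁T : Q₁ ≤ T := normalizerIn_le
  have hQ₁S : Q₁ ≤ S := hQ₁T.trans hTS
  -- elements of order prime to `p` normalizing the automorphisms induced by `T`
  have hNcop : ∀ a ∈ E.autGroup Q, (orderOf a).Coprime p →
      (∀ c ∈ autInducedBy T Q, a * c * a⁻¹ ∈ autInducedBy T Q) → a ∈ K := by
    intro a ha hac han
    have hN : Q₁ ≤ nExt T Q (autFun a) := by
      intro t ht
      obtain ⟨htT, htn⟩ := mem_normalizerIn.mp ht
      obtain ⟨c, hc, hce⟩ := exists_autInducedBy htT htn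
      obtain ⟨u, hu, -, hue⟩ := mem_autInducedBy.mp (han c hc)
      exact ⟨htT, htn, u, hu, (mul_conj_aut (α := a) hce hue).mp rfl⟩
    obtain ⟨g, hg, hge⟩ := (isReceptive_iff.mp hQr).2 Q _ (isMor_autFun hQT ha) (img_autFun a)
    have hgN : IsMor E Q₁ g := hg.restrict hN
    have hgQ : ∀ x ∈ Q, g x ∈ Q := fun x hx => by rw [hge x hx]; exact autFun_mem a hx
    have hmaps : ∀ t ∈ Q₁, g t ∈ Q₁ := by
      intro t ht
      refine mem_normalizerIn.mpr ⟨hgN.mem ht, ?_⟩
      have : Finite Q := finite_of_le hQS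
      refine Subgroup.mem_normalizer_fintype fun y hy => ?_
      obtain ⟨x, hx, rfl⟩ := (isMor_autFun hQT ha).mem_img.mp ((img_autFun a).ge hy)
      have htx : t * x * t⁻¹ ∈ Q :=
        (Subgroup.mem_normalizer_iff.mp (mem_normalizerIn.mp ht).2 x).mp hx
      rw [← hge x hx, ← hgN.map_conj ht (hQQ₁ hx)]
      exact hgQ _ htx
    obtain ⟨k₀, hk₀, hk₀e⟩ := exists_aut hgN (hgN.img_eq_self hmaps)
    have hCQ₁ : Q₁ ≤ Subgroup.normalizer (C : Set Ω) := fun t ht => by
      have : Finite C := finite_of_le centralizerIn_le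
      refine Subgroup.mem_normalizer_fintype fun c hc => ?_
      obtain ⟨htT, htn⟩ := mem_normalizerIn.mp ht
      refine mem_centralizerIn.mpr ⟨S.mul_mem (S.mul_mem (hTS htT) (centralizerIn_le hc))
        (S.inv_mem (hTS htT)), fun y hy => ?_⟩
      have hy' : cj t⁻¹ y ∈ Q :=
        (Subgroup.mem_normalizer_iff.mp (Subgroup.inv_mem _ htn) y).mp hy
      show cj (t * c * t⁻¹) y = y
      rw [cj_mul, cj_mul, (mem_centralizerIn.mp hc).2 _ hy', cj_cj_inv]
    set X := Q₁ ⊔ C with hX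
    have hNS : normalizerIn S Q ≤ Subgroup.normalizer (Q₁ : Set Ω) := by
      intro x hx
      obtain ⟨hxS, hxn⟩ := mem_normalizerIn.mp hx
      have : Finite Q₁ := finite_of_le hQ₁S
      refine Subgroup.mem_normalizer_fintype fun t ht => ?_
      obtain ⟨htT, htn⟩ := mem_normalizerIn.mp ht
      exact mem_normalizerIn.mpr ⟨(Subgroup.mem_normalizer_iff.mp (hSN hxS) t).mp htT,
        Subgroup.mul_mem _ (Subgroup.mul_mem _ hxn htn) (Subgroup.inv_mem _ hxn)⟩
    have hXN : X ≤ normalizerIn S Q :=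
      sup_le (inf_le_inf_right _ hTS) centralizerIn_le_normalizerIn
    have hnorm : ∀ x ∈ X, ∃ x' ∈ X, ∀ q ∈ Q, autFun a (cj x q) = cj x' (autFun a q) := by
      intro x hx
      rw [hX, ← SetLike.mem_coe,
        Subgroup.coe_mul_of_left_le_normalizer_right _ _ hCQ₁] at hx
      obtain ⟨t, ht, c, hc, rfl⟩ := hx
      refine ⟨g t, Subgroup.mem_sup_left (hmaps t ht), fun q hq => ?_⟩
      have htq : cj t q ∈ Q := (Subgroup.mem_normalizer_iff.mp (mem_normalizerIn.mp ht).2 q).mp hq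
      rw [cj_mul, (mem_centralizerIn.mp hc).2 q hq, ← hge _ htq, ← hge q hq]
      exact hgN.map_conj ht (hQQ₁ hq)
    have hlt' : Nat.card Q < Nat.card Q₁ :=
      card_lt_of_lt hQ₁S (normalizerIn_gt hTp hlt)
    obtain ⟨Γ, hΓ, -, hΓQ, hΓC⟩ := mov_step hS hF hwn hQn hQT (centric_mono hQc hQQ₁ hQ₁T) hQQ₁
      le_sup_left hXN (hXN.trans hNS) le_sup_right
      (fun R hRn hRc hcard => ih _ (by
        have h1 : Nat.card Q₁ ≤ Nat.card T := Subgroup.card_le_of_le hQ₁T
        omega) R rfl hRn hRc) ha hac hnorm hk₀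
      (fun q hq => by rw [hk₀e q (hQQ₁ hq), hge q hq])
    have hMX : M ≤ X := sup_le (hQQ₁.trans le_sup_left) le_sup_right
    have hΓm := isMor_autFun (hXN.trans normalizerIn_le) hΓ
    have hΓC' : ∀ c ∈ C, autFun Γ c ∈ C := fun c hc => by
      have := mapsTo_centralizerIn hΓm (hQQ₁.trans le_sup_left) le_sup_right c hc
      rwa [show img Q (autFun Γ) = Q by rw [img_congr hΓQ, img_autFun]] at this
    obtain ⟨β, hβ, hβe⟩ := exists_aut (hΓm.restrict hMX) (by
      rw [hMdef, (hΓm.restrict hMX).img_sup, img_congr hΓQ, img_autFun,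
        ((hΓm.restrict hMX).restrict hCM).img_eq_self hΓC'])
    refine ⟨ha, β, hβ, fun x hx => by rw [hβe x (hQM hx), hΓQ x hx], fun c hc => ?_⟩
    rw [hβe c (hCM hc)]
    refine centric_centralizer_le hQc (mem_centralizerIn.mpr ⟨hΓC c hc, ?_⟩)
    exact (mem_centralizerIn.mp (C.mul_mem (C.inv_mem hc) (hΓC' c hc))).2
  intro a ha _
  -- Frattini
  obtain ⟨k, hk, hkc⟩ := IsSylIn.exists_conj_le (B := K)
    (C := (autInducedBy T Q).map (MulAut.conj a).toMonoidHom)
    ⟨hinner, hsyl.2.1, fun C hC hle hCK => hsyl.2.2 C hC hle (hCK.trans hKA)⟩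
    (hsyl.2.1.map _) (by
      rintro _ ⟨c, hc, rfl⟩
      exact hKn a ha c (hinner hc))
  set b := k * a with hb
  have hbE : b ∈ E.autGroup Q := Subgroup.mul_mem _ (hKA hk) ha
  have hbn : b ∈ Subgroup.normalizer (autInducedBy T Q : Set (MulAut Q)) :=
    Subgroup.mem_normalizer_fintype fun c hc => by
      have := hkc _ ⟨c, hc, rfl⟩
      simpa [hb, mul_assoc] using this
  obtain ⟨e, c, hc, he⟩ := Nat.exists_eq_pow_mul_and_not_dvd (orderOf_pos b).ne' p hp.out.ne_one
  have hce : (p ^ e).Coprime c := Nat.Coprime.pow_left _ ((hp.out.coprime_iff_not_dvd).mpr hc)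
  have h1 : b ^ p ^ e ∈ K := by
    refine hNcop _ (Subgroup.pow_mem _ hbE _) ?_ fun d hd =>
      (Subgroup.mem_normalizer_iff.mp (Subgroup.pow_mem _ hbn _) d).mp hd
    rw [orderOf_pow_of_dvd (pow_ne_zero e hp.out.ne_zero) (he ▸ dvd_mul_right _ _), he,
      Nat.mul_div_cancel_left _ (pow_pos hp.out.pos e)]
    exact Nat.Coprime.symm ((hp.out.coprime_iff_not_dvd).mpr hc)
  have h2 : b ^ c ∈ K := by
    have hp' : IsPGroup p (Subgroup.zpowers (b ^ c)) := by
      refine IsPGroup.of_card (n := e) ?_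
      have hc0 : c ≠ 0 := fun h => hc (h ▸ dvd_zero p)
      rw [Nat.card_zpowers, orderOf_pow_of_dvd hc0 (he ▸ dvd_mul_left _ _), he,
        Nat.mul_div_cancel _ (Nat.pos_of_ne_zero hc0)]
    obtain ⟨g, hg, hgc⟩ := IsSylIn.exists_conj_le hsyl hp'
      (Subgroup.zpowers_le.mpr (Subgroup.pow_mem _ hbE c))
    have := hKn g⁻¹ ((E.autGroup Q).inv_mem hg) _ (hinner (hgc _ (Subgroup.mem_zpowers _)))
    simpa [mul_assoc] using this
  have hbK : b ∈ K := by
    have := Nat.gcd_eq_gcd_ab (p ^ e) c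
    rw [hce.gcd_eq_one] at this
    have hz : b ^ ((1 : ℕ) : ℤ) ∈ K := by
      rw [this, zpow_add, zpow_mul, zpow_mul, zpow_natCast, zpow_natCast]
      exact K.mul_mem (K.zpow_mem h1 _) (K.zpow_mem h2 _)
    simpa using hz
  have := Subgroup.mul_mem _ (Subgroup.inv_mem _ hk) hbK
  rwa [hb, inv_mul_cancel_left] at this

/-- An automorphism of order prime to `p` of a fully normalized subgroup in a normal subsystem
extends, of order prime to `p`, to every overgroup of its centralizer whose action it normalizes,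
moving the centralizer into the normal subsystem. -/
theorem mov (hS : IsPGroup p S) (hF : F.IsSaturated p) (hE : E.IsNormalIn F p)
    {Q X : Subgroup Ω} (hQn : F.IsFullyNormalized Q) (hQT : Q ≤ T) (hQX : Q ≤ X)
    (hXN : X ≤ normalizerIn S Q) (hCX : centralizerIn S Q ≤ X)
    {α : MulAut Q} (hα : α ∈ E.autGroup Q) (hc : (orderOf α).Coprime p)
    (hnorm : ∀ x ∈ X, ∃ x' ∈ X, ∀ q ∈ Q, autFun α (cj x q) = cj x' (autFun α q)) :
    ∃ Γ ∈ F.autGroup X, (orderOf Γ).Coprime p ∧ (∀ q ∈ Q, autFun Γ q = autFun α q) ∧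
      ∀ c ∈ centralizerIn S Q, c⁻¹ * autFun Γ c ∈ T := by
  obtain ⟨hEs, -, hsub, hT, -⟩ := id hE.1
  obtain ⟨hTS, -⟩ := stronglyClosed_iff.mp hT
  have hSN := stronglyClosed_le_normalizer hT
  have hTp : IsPGroup p T := isPGroup_of_le hTS hS
  have : Finite T := finite_of_le hTS
  have hQS := hQT.trans hTS
  have hQnE := isFullyNormalized_sub hS hF hsub hT hQn hQT
  obtain ⟨hQa, hQr⟩ := isFullyAutomized_of_normalized hTp hEs hQnE
  set Q₁ := centralizerIn T Q ⊔ Q with hQ₁
  have hQ₁T : Q₁ ≤ T := sup_le centralizerIn_le hQT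
  have hCT : centralizerIn T Q ≤ centralizerIn S Q := inf_le_inf_right _ hTS
  obtain ⟨g, hg, hge, hgC⟩ := exists_map_centralizer hQr (isMor_autFun hQT hα) (img_autFun α)
  have hgi : img Q₁ g = Q₁ := hg.img_eq_self fun y hy => by
    have h1 := mem_img_of_mem g hy
    rw [hg.img_sup, img_congr hge, img_autFun] at h1
    exact sup_le_sup_right hgC Q h1
  obtain ⟨k, hk, hke⟩ := exists_aut hg hgi
  have hQQ₁ : Q ≤ Q₁ := le_sup_right
  have hQ₁c : E.IsCentric Q₁ := by
    refine ⟨hQ₁T, fun R hR => ?_⟩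
    obtain ⟨f, hf, rfl⟩ := isConj_iff.mp hR
    have hfC := hf.restrict (le_sup_left : centralizerIn T Q ≤ Q₁)
    have h := eq_of_le_of_card (centralizerIn_le (S := T) (P := img Q f))
      (img_le fun z hz => mapsTo_centralizerIn hf hQQ₁ le_sup_left z hz)
      (by rw [hfC.card_img]
          exact (isFullyCentralized_of_normalized hTp hEs hQnE).2 _
            (isConj_img (hf.restrict hQQ₁)))
    exact (centralizerIn_anti (img_mono f hQQ₁)).trans (h.ge.trans (img_mono f le_sup_left))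
  refine mov_step hS hF hE.1 hQn hQT hQ₁c hQQ₁ (sup_le (hCT.trans hCX) hQX) hXN ?_ hCX
    (fun R hRn hRc _ => liftable hS hF hE hRn hRc) hα hc hnorm hk
    (fun q hq => by rw [hke q (hQQ₁ hq), hge q hq])
  intro x hx
  obtain ⟨hxS, hxn⟩ := mem_normalizerIn.mp (hXN hx)
  have : Finite Q₁ := finite_of_le (hQ₁T.trans hTS)
  refine Subgroup.mem_normalizer_fintype fun z hz => ?_
  refine (sup_le (fun c hc => ?_) (fun q hq => ?_) : Q₁ ≤ Q₁.comap (MulAut.conj x).toMonoidHom) hz
  · obtain ⟨hcT, hcc⟩ := mem_centralizerIn.mp hc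
    refine Subgroup.mem_sup_left (mem_centralizerIn.mpr
      ⟨(Subgroup.mem_normalizer_iff.mp (hSN hxS) c).mp hcT, fun y hy => ?_⟩)
    have hy' : cj x⁻¹ y ∈ Q :=
      (Subgroup.mem_normalizer_iff.mp (Subgroup.inv_mem _ hxn) y).mp hy
    show cj (x * c * x⁻¹) y = y
    rw [cj_mul, cj_mul, hcc _ hy', cj_cj_inv]
  · exact Subgroup.mem_sup_right ((Subgroup.mem_normalizer_iff.mp hxn q).mp hq)

end CfsgLib.Fusion
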