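import Mathlib
import Cfsg.Agent.Lib.Fusion.Moving
import Cfsg.Agent.Lib.Fusion.HyperfocalGroup
import Cfsg.Agent.Lib.Fusion.SatTools

/-!
# The automizers of the intersection of two normal subsystems
-/

set_option autoImplicit false
set_option linter.unusedSectionVars false
set_option maxHeartbeats 1000000

namespace CfsgLib.Fusion

open Cfsg Cfsg.FusionSystem

/-- A subgroup containing a Sylow subgroup and all elements of order prime to `p` is everything. -/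
theorem le_of_sylIn_of_coprime {G : Type*} [Group G] [Finite G] {p : ℕ} [Fact p.Prime]
    {A B L : Subgroup G} (h : IsSylIn p A B) (hA : A ≤ L)
    (hc : ∀ b ∈ B, (orderOf b).Coprime p → b ∈ L) : B ≤ L := by
  obtain ⟨R, hR⟩ := (exists_sylow_iff h.1).mpr h
  have htop := CfsgLib.Transfer.sup_pResidual_eq_top R
  have hle : (R : Subgroup B) ⊔ pResidual p B ≤ L.subgroupOf B := by
    refine sup_le (fun r hr => hA ?_) ((Subgroup.closure_le _).mpr fun r hr => ?_)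
    · rw [hR] at hr
      exact hr
    · exact hc r r.2 (by rw [Subgroup.orderOf_coe]; exact hr)
  intro b hb
  exact hle (htop ▸ Subgroup.mem_top (⟨b, hb⟩ : B))

/-- A conjugation invariant generating set gives a conjugation invariant subgroup. -/
theorem closure_conj_mem {G : Type*} [Group G] {s : Set G} {θ : G}
    (h : ∀ a ∈ s, θ * a * θ⁻¹ ∈ Subgroup.closure s) {a : G} (ha : a ∈ Subgroup.closure s) :
    θ * a * θ⁻¹ ∈ Subgroup.closure s := by
  induction ha using Subgroup.closure_induction with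
  | mem a ha => exact h a ha
  | one => simp [Subgroup.one_mem]
  | mul a b _ _ ha hb =>
    rw [show θ * (a * b) * θ⁻¹ = θ * a * θ⁻¹ * (θ * b * θ⁻¹) by group]
    exact Subgroup.mul_mem _ ha hb
  | inv a _ ha =>
    rw [show θ * a⁻¹ * θ⁻¹ = (θ * a * θ⁻¹)⁻¹ by group]
    exact Subgroup.inv_mem _ ha

variable {Ω : Type*} [Group Ω] {S T₁ T₂ : Subgroup Ω}

/-- The subgroup of `N_K(D)` inducing an element of `Q` on `D`. -/
def indPre (K D : Subgroup Ω) (Q : Subgroup (MulAut D)) : Subgroup Ω where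
  carrier := {g | g ∈ normalizerIn K D ∧ ∃ σ ∈ Q, ∀ x ∈ D, autFun σ x = cj g x}
  one_mem' := ⟨Subgroup.one_mem _, 1, Q.one_mem, fun x hx => by rw [autFun_one hx, cj_one]⟩
  mul_mem' := by
    rintro g h ⟨hg, σ, hσ, ea⟩ ⟨hh, τ, hτ, eb⟩
    refine ⟨Subgroup.mul_mem _ hg hh, σ * τ, Q.mul_mem hσ hτ, fun x hx => ?_⟩
    rw [autFun_mul _ _ hx, eb x hx, ea _ (eb x hx ▸ autFun_mem τ hx), cj_mul]
  inv_mem' := by
    rintro g ⟨hg, σ, hσ, ea⟩
    refine ⟨Subgroup.inv_mem _ hg, σ⁻¹, Q.inv_mem hσ, fun x hx => ?_⟩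
    conv_rhs => rw [← autFun_inv_right σ hx, ea _ (autFun_mem _ hx), cj_inv_cj]

theorem indPre_le {K D : Subgroup Ω} {Q : Subgroup (MulAut D)} :
    indPre K D Q ≤ normalizerIn K D := fun _ h => h.1

theorem centralizer_le_indPre {K D : Subgroup Ω} {Q : Subgroup (MulAut D)} :
    centralizerIn K D ≤ indPre K D Q := fun _ hg =>
  ⟨centralizerIn_le_normalizerIn hg, 1, Q.one_mem, fun x hx => by
    rw [autFun_one hx, (mem_centralizerIn.mp hg).2 x hx]⟩

theorem le_indPre {K D : Subgroup Ω} {Q : Subgroup (MulAut D)} (hDK : D ≤ K) (hInn : Inn D ≤ Q) :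
    D ≤ indPre K D Q := fun g hg => by
  refine ⟨le_normalizerIn hDK hg, ?_⟩
  obtain ⟨σ, hσ, hσe⟩ := exists_autInducedBy (K := D) hg (Subgroup.le_normalizer hg)
  exact ⟨σ, hInn (inn_eq_autInducedBy.ge hσ), hσe⟩

variable (F : FusionSystem S) (E₁ : FusionSystem T₁) (E₂ : FusionSystem T₂) (p : ℕ)

/-- The hypotheses. -/
structure MeetHyp : Prop where
  pgroup : IsPGroup p S
  sat : F.IsSaturated p
  normal₁ : E₁.IsNormalIn F p
  normal₂ : E₂.IsNormalIn F p

/-- The subgroups centric in `T` in every position in the class. -/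
def meetH (T U : Subgroup Ω) : Prop :=
  U ≤ T ∧ ∀ Q, F.IsConj U Q → centralizerIn T Q ≤ Q

/-- The common automorphisms. -/
def meetA (U : Subgroup Ω) : Subgroup (MulAut U) := E₁.autGroup U ⊓ E₂.autGroup U

/-- The subgroup generated by the common automorphisms of order prime to `p`. -/
def meetCop (U : Subgroup Ω) : Subgroup (MulAut U) :=
  Subgroup.closure {α | α ∈ meetA E₁ E₂ U ∧ (orderOf α).Coprime p}

/-- The automizers of the intersection. -/
def meetAut (U : Subgroup Ω) : Subgroup (MulAut U) :=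
  Subgroup.closure ({α | α ∈ meetA E₁ E₂ U ∧ (orderOf α).Coprime p} ∪
    {α | ∃ g, IsMor F U g ∧ ∃ t ∈ normalizerIn (T₁ ⊓ T₂) (img U g),
      ∀ x ∈ U, g (autFun α x) = cj t (g x)})

variable {F E₁ E₂ p} [hp : Fact p.Prime] [Finite S]

theorem meetCop_le_meetAut (U : Subgroup Ω) : meetCop E₁ E₂ p U ≤ meetAut F E₁ E₂ p U :=
  Subgroup.closure_mono Set.subset_union_left

theorem meetCop_le_meetA (U : Subgroup Ω) : meetCop E₁ E₂ p U ≤ meetA E₁ E₂ U :=
  (Subgroup.closure_le _).mpr fun _ h => h.1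

namespace MeetHyp

variable (hm : MeetHyp F E₁ E₂ p)
include hm

theorem sub₁ : E₁.IsSubsystemOf F := hm.normal₁.1.2.2.1
theorem sub₂ : E₂.IsSubsystemOf F := hm.normal₂.1.2.2.1
theorem closed₁ : F.StronglyClosed T₁ := hm.normal₁.1.2.2.2.1
theorem closed₂ : F.StronglyClosed T₂ := hm.normal₂.1.2.2.2.1
theorem le_S : T₁ ⊓ T₂ ≤ S := inf_le_left.trans hm.closed₁.1

theorem closed : F.StronglyClosed (T₁ ⊓ T₂) := by
  refine stronglyClosed_iff.mpr ⟨hm.le_S, fun P f hf x hx hxT => ⟨?_, ?_⟩⟩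
  · exact (stronglyClosed_iff.mp hm.closed₁).2 P f hf x hx hxT.1
  · exact (stronglyClosed_iff.mp hm.closed₂).2 P f hf x hx hxT.2

theorem img_le_T {U : Subgroup Ω} {f : Ω → Ω} (hf : IsMor F U f) (hU : U ≤ T₁ ⊓ T₂) :
    img U f ≤ T₁ ⊓ T₂ :=
  img_le fun x hx => (stronglyClosed_iff.mp hm.closed).2 U f hf x hx (hU hx)

theorem meetH_mono {U R : Subgroup Ω} (h : meetH F (T₁ ⊓ T₂) U) (hUR : U ≤ R) (hR : R ≤ T₁ ⊓ T₂) :
    meetH F (T₁ ⊓ T₂) R := by
  refine ⟨hR, fun Q hQ => ?_⟩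
  obtain ⟨f, hf, rfl⟩ := isConj_iff.mp hQ
  exact (centralizerIn_anti (img_mono f hUR)).trans
    ((h.2 _ (isConj_img (hf.restrict hUR))).trans (img_mono f hUR))

theorem meetH_conj {U V : Subgroup Ω} (h : meetH F (T₁ ⊓ T₂) U) (hc : F.IsConj U V) :
    meetH F (T₁ ⊓ T₂) V := by
  refine ⟨?_, fun Q hQ => h.2 Q (isConj_trans hc hQ)⟩
  obtain ⟨f, hf, rfl⟩ := isConj_iff.mp hc
  exact hm.img_le_T hf h.1

theorem meetH_self : meetH F (T₁ ⊓ T₂) (T₁ ⊓ T₂) := by
  refine ⟨le_rfl, fun Q hQ => ?_⟩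
  obtain ⟨f, hf, rfl⟩ := isConj_iff.mp hQ
  rw [eq_of_le_of_card hm.le_S (hm.img_le_T hf le_rfl) hf.card_img.ge]
  exact centralizerIn_le

theorem meetA_le (U : Subgroup Ω) : meetA E₁ E₂ U ≤ F.autGroup U :=
  inf_le_left.trans (autGroup_mono hm.sub₁)

theorem meetA_transport {U V : Subgroup Ω} {h : Ω → Ω} (hh : IsMor F U h) (hhi : img U h = V)
    (hU : U ≤ T₁ ⊓ T₂) {e : MulAut U ≃* MulAut V}
    (he : ∀ α : MulAut U, ∀ x ∈ U, autFun (e α) (h x) = h (autFun α x)) {α : MulAut U}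
    (hα : α ∈ meetA E₁ E₂ U) : e α ∈ meetA E₁ E₂ V :=
  ⟨aut_transport_mem (strongInv_of_isNormalIn hm.pgroup hm.sat hm.normal₁) hm.closed₁ hh hhi
      (hU.trans inf_le_left) he hα.1,
    aut_transport_mem (strongInv_of_isNormalIn hm.pgroup hm.sat hm.normal₂) hm.closed₂ hh hhi
      (hU.trans inf_le_right) he hα.2⟩

theorem meetA_conj {U : Subgroup Ω} (hU : U ≤ T₁ ⊓ T₂) {θ : MulAut U} (hθ : θ ∈ F.autGroup U)
    {α : MulAut U} (hα : α ∈ meetA E₁ E₂ U) : θ * α * θ⁻¹ ∈ meetA E₁ E₂ U :=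
  ⟨autGroup_conj_mem (strongInv_of_isNormalIn hm.pgroup hm.sat hm.normal₁) hm.closed₁
      (hU.trans inf_le_left) hθ hα.1,
    autGroup_conj_mem (strongInv_of_isNormalIn hm.pgroup hm.sat hm.normal₂) hm.closed₂
      (hU.trans inf_le_right) hθ hα.2⟩

theorem meetCop_conj {U : Subgroup Ω} (hU : U ≤ T₁ ⊓ T₂) {θ : MulAut U} (hθ : θ ∈ F.autGroup U)
    {α : MulAut U} (hα : α ∈ meetCop E₁ E₂ p U) : θ * α * θ⁻¹ ∈ meetCop E₁ E₂ p U := by
  refine closure_conj_mem (fun a ha => Subgroup.subset_closure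
    (show θ * a * θ⁻¹ ∈ {α | α ∈ meetA E₁ E₂ U ∧ (orderOf α).Coprime p} from
      ⟨hm.meetA_conj hU hθ ha.1, ?_⟩)) hα
  rw [← MulAut.conj_apply, MulEquiv.orderOf_eq]
  exact ha.2

theorem meetAut_inner {U : Subgroup Ω} (hU : U ≤ T₁ ⊓ T₂) :
    autInducedBy (T₁ ⊓ T₂) U ≤ meetAut F E₁ E₂ p U := fun α hα => by
  obtain ⟨t, ht, htn, hte⟩ := mem_autInducedBy.mp hα
  exact Subgroup.subset_closure (Or.inr ⟨id, isMor_id F (hU.trans hm.le_S), t,
    mem_normalizerIn.mpr ⟨ht, (img_id U).symm ▸ htn⟩, hte⟩)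

theorem meetAut_le_meetA {U : Subgroup Ω} (hU : U ≤ T₁ ⊓ T₂) :
    meetAut F E₁ E₂ p U ≤ meetA E₁ E₂ U := by
  refine (Subgroup.closure_le _).mpr ?_
  rintro α (hα | ⟨g, hg, t, ht, hte⟩)
  · exact hα.1
  obtain ⟨gi, hgi, hgl, hgr, hgii⟩ := hg.inverse
  obtain ⟨e, he, -, -⟩ := exists_transport hgi hgii
  obtain ⟨htT, htn⟩ := mem_normalizerIn.mp ht
  obtain ⟨c, hc, hce⟩ := exists_autInducedBy (P := img U g) htT htn
  have hV := hm.img_le_T hg hU
  have hcA : c ∈ meetA E₁ E₂ (img U g) :=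
    ⟨autInducedBy_le E₁ (hV.trans inf_le_left) (mem_autInducedBy.mpr ⟨t, htT.1, htn, hce⟩),
      autInducedBy_le E₂ (hV.trans inf_le_right) (mem_autInducedBy.mpr ⟨t, htT.2, htn, hce⟩)⟩
  have h0 := hm.meetA_transport hgi hgii hV he hcA
  suffices h : α = e c by exact h ▸ h0
  refine autFun_inj fun x hx => ?_
  have hgx := mem_img_of_mem g hx
  have h1 := he c (g x) hgx
  rw [hgl x hx, hce _ hgx, ← hte x hx, hgl _ (autFun_mem α hx)] at h1
  exact h1.symm

theorem meetAut_transport {U V : Subgroup Ω} {h : Ω → Ω} (hh : IsMor F U h) (hhi : img U h = V)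
    (hU : U ≤ T₁ ⊓ T₂) {e : MulAut U ≃* MulAut V}
    (he : ∀ α : MulAut U, ∀ x ∈ U, autFun (e α) (h x) = h (autFun α x)) {α : MulAut U}
    (hα : α ∈ meetAut F E₁ E₂ p U) : e α ∈ meetAut F E₁ E₂ p V := by
  induction hα using Subgroup.closure_induction with
  | one => rw [map_one]; exact Subgroup.one_mem _
  | mul a b _ _ ha hb => rw [map_mul]; exact Subgroup.mul_mem _ ha hb
  | inv a _ ha => rw [map_inv]; exact Subgroup.inv_mem _ ha
  | mem α hα =>
    rcases hα with hα | ⟨g, hg, t, ht, hte⟩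
    · refine Subgroup.subset_closure (Or.inl ⟨hm.meetA_transport hh hhi hU he hα.1, ?_⟩)
      rw [e.orderOf_eq]
      exact hα.2
    · obtain ⟨hi, hhi', hl, hr, hii⟩ := hh.inverse
      rw [hhi] at hhi' hii hr
      have hgm : IsMor F V (g ∘ hi) := hhi'.comp hg fun y hy => hii ▸ mem_img_of_mem hi hy
      refine Subgroup.subset_closure (Or.inr ⟨g ∘ hi, hgm, t, ?_, fun y hy => ?_⟩)
      · rwa [← hhi'.img_comp, hii]
      · obtain ⟨x, hx, rfl⟩ := hh.mem_img.mp (hhi.ge hy)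
        simp only [Function.comp_apply, he α x hx, hl _ (autFun_mem α hx), hl x hx]
        exact hte x hx

theorem meetAut_conj {U : Subgroup Ω} (hU : U ≤ T₁ ⊓ T₂) {θ : MulAut U} (hθ : θ ∈ F.autGroup U)
    {α : MulAut U} (hα : α ∈ meetAut F E₁ E₂ p U) : θ * α * θ⁻¹ ∈ meetAut F E₁ E₂ p U := by
  have hm' := isMor_autFun (hU.trans hm.le_S) hθ
  obtain ⟨e, he, -, -⟩ := exists_transport hm' (img_autFun θ)
  have h1 := hm.meetAut_transport hm' (img_autFun θ) hU he hα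
  rwa [autFun_inj (α := θ * α * θ⁻¹) (β := e α) fun x hx => by
    rw [autFun_mul _ _ hx, autFun_mul _ _ (autFun_mem _ hx), ← he α _ (autFun_mem _ hx),
      autFun_inv_right θ hx]]

/-- The key point: the commutator of an element induced by `S` with an automorphism of order
prime to `p` is induced by `T₁ ⊓ T₂`. -/
theorem commutator_mem {D : Subgroup Ω} (hD : F.IsFullyNormalized D) (hDT : D ≤ T₁ ⊓ T₂)
    {R : Subgroup (MulAut D)} (hR : R ≤ autInducedBy S D ⊓ meetA E₁ E₂ D) {g : MulAut D}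
    (hg : g ∈ meetA E₁ E₂ D) (hgc : (orderOf g).Coprime p) (hgn : ∀ y ∈ R, g * y * g⁻¹ ∈ R)
    {σ : MulAut D} (hσ : σ ∈ R) : σ⁻¹ * (g * σ * g⁻¹) ∈ autInducedBy (T₁ ⊓ T₂) D := by
  have hS := hm.pgroup
  have hF := hm.sat
  have hDS := hDT.trans hm.le_S
  set R' := R ⊔ Inn D with hR'def
  have hR'S : R' ≤ autInducedBy S D :=
    sup_le (hR.trans inf_le_left) (inn_le_autInducedBy hDS)
  have hR'n : ∀ y ∈ R', g * y * g⁻¹ ∈ R' := by
    suffices h : R' ≤ R'.comap (MulAut.conj g).toMonoidHom from fun y hy => h hy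
    exact sup_le (fun y hy => Subgroup.mem_sup_left (hgn y hy))
      (fun y hy => Subgroup.mem_sup_right (inn_conj_mem hy))
  set X := indPre S D R' with hX
  have hXN : X ≤ normalizerIn S D := indPre_le
  obtain ⟨Γ, hΓ, -, hΓD, hΓC⟩ := mov hS hF hm.normal₂ hD (hDT.trans inf_le_right)
    (le_indPre hDS le_sup_right) hXN centralizer_le_indPre hg.2 hgc (fun x hx => by
      obtain ⟨hxN, τ, hτ, hτe⟩ := hx
      obtain ⟨s, hs, hsn, hse⟩ := mem_autInducedBy.mp (hR'S (hR'n τ hτ))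
      exact ⟨s, ⟨mem_normalizerIn.mpr ⟨hs, hsn⟩, _, hR'n τ hτ, hse⟩,
        (mul_conj_aut hτe hse).mp rfl⟩)
  have hXS : X ≤ S := hXN.trans normalizerIn_le
  have hΓm := isMor_autFun hXS hΓ
  obtain ⟨⟨hσS, hσ₁⟩, hσ₂⟩ : (σ ∈ autInducedBy S D ∧ σ ∈ E₁.autGroup D) ∧ σ ∈ E₂.autGroup D :=
    ⟨⟨(hR hσ).1, (hR hσ).2.1⟩, (hR hσ).2.2⟩
  obtain ⟨a, ha, han, hae⟩ := mem_autInducedBy.mp ((autInducedBy_inf_autGroup hS hF
    hm.normal₁.1.1 hm.sub₁ hm.closed₁ hD (hDT.trans inf_le_left)).le ⟨hσS, hσ₁⟩)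
  obtain ⟨b, hb, hbn, hbe⟩ := mem_autInducedBy.mp ((autInducedBy_inf_autGroup hS hF
    hm.normal₂.1.1 hm.sub₂ hm.closed₂ hD (hDT.trans inf_le_right)).le ⟨hσS, hσ₂⟩)
  have haS := hm.closed₁.1 ha
  have hbS := hm.closed₂.1 hb
  have haX : a ∈ X := ⟨mem_normalizerIn.mpr ⟨haS, han⟩, σ, Subgroup.mem_sup_left hσ, hae⟩
  have hbX : b ∈ X := ⟨mem_normalizerIn.mpr ⟨hbS, hbn⟩, σ, Subgroup.mem_sup_left hσ, hbe⟩
  set c := a⁻¹ * b with hcdef
  have hc : c ∈ centralizerIn S D := mem_centralizerIn.mpr ⟨S.mul_mem (S.inv_mem haS) hbS,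
    fun x hx => by rw [hcdef, cj_mul, ← hbe x hx, hae x hx, cj_inv_cj]⟩
  have hcX : c ∈ X := centralizer_le_indPre hc
  have h1 : a⁻¹ * autFun Γ a ∈ T₁ :=
    T₁.mul_mem (T₁.inv_mem ha) ((stronglyClosed_iff.mp hm.closed₁).2 X _ hΓm a haX ha)
  have h2 : a⁻¹ * autFun Γ a ∈ T₂ := by
    have hΓb : b⁻¹ * autFun Γ b ∈ T₂ :=
      T₂.mul_mem (T₂.inv_mem hb) ((stronglyClosed_iff.mp hm.closed₂).2 X _ hΓm b hbX hb)
    have hn := fun {y : Ω} (hy : y ∈ S) => stronglyClosed_le_normalizer hm.closed₂ hy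
    have e : autFun Γ a = autFun Γ b * (autFun Γ c)⁻¹ := by
      rw [← hΓm.map_inv hcX, ← hΓm.map_mul hbX (X.inv_mem hcX), hcdef, mul_inv_rev, inv_inv,
        mul_inv_cancel_left]
    rw [e, show a⁻¹ * (autFun Γ b * (autFun Γ c)⁻¹) =
      c * (b⁻¹ * autFun Γ b) * c⁻¹ * (c * (c⁻¹ * autFun Γ c)⁻¹ * c⁻¹) by rw [hcdef]; group]
    exact T₂.mul_mem ((Subgroup.mem_normalizer_iff.mp (hn (centralizerIn_le hc)) _).mp hΓb)
      ((Subgroup.mem_normalizer_iff.mp (hn (centralizerIn_le hc)) _).mp (T₂.inv_mem (hΓC c hc)))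
  have hnorm : ∀ x ∈ D, autFun (g * σ * g⁻¹) x = cj (autFun Γ a) x := fun x hx => by
    have hx' := autFun_mem g⁻¹ hx
    have hDX : D ≤ X := le_indPre hDS le_sup_right
    have hax : cj a (autFun g⁻¹ x) ∈ D := hae _ hx' ▸ autFun_mem σ hx'
    rw [autFun_mul _ _ hx, autFun_mul _ _ hx', hae _ hx', ← hΓD _ hax, cj_apply a,
      hΓm.map_conj haX (hDX hx'), hΓD _ hx', autFun_inv_right g hx, cj_apply]
  refine mem_autInducedBy.mpr ⟨a⁻¹ * autFun Γ a, ⟨h1, h2⟩, Subgroup.mul_mem _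
    (Subgroup.inv_mem _ han) (mem_normalizerIn.mp (hXN (autFun_mem Γ haX))).2, fun x hx => ?_⟩
  have hm' := autFun_mem (g * σ * g⁻¹) hx
  rw [autFun_mul _ _ hx, cj_mul, ← hnorm x hx]
  conv_rhs => rw [← autFun_inv_right σ hm', hae _ (autFun_mem _ hm'), cj_inv_cj]

/-- Elements induced by `S` in the subgroup generated by elements of order prime to `p` are induced
by `T₁ ⊓ T₂`. -/
theorem inf_meetCop_le {D : Subgroup Ω} (hD : F.IsFullyNormalized D) (hDT : D ≤ T₁ ⊓ T₂) :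
    autInducedBy S D ⊓ meetCop E₁ E₂ p D ≤ autInducedBy (T₁ ⊓ T₂) D := by
  have hS := hm.pgroup
  have hF := hm.sat
  have := finite_mulAut hD.1
  set K := meetCop E₁ E₂ p D with hK
  have hKF : K ≤ F.autGroup D := (meetCop_le_meetA D).trans (hm.meetA_le D)
  have hsyl := isSylIn_inf (isFullyAutomized_iff.mp (isFullyAutomized_of_normalized hS hF hD).1).2
    hKF (fun b hb n hn => hm.meetCop_conj hDT hb hn)
  obtain ⟨P₀, hP₀⟩ := (exists_sylow_iff inf_le_right).mpr hsyl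
  have htop : pResidual p K = ⊤ := by
    refine Subgroup.map_injective K.subtype_injective ?_
    rw [← MonoidHom.range_eq_map, Subgroup.range_subtype]
    refine le_antisymm (Subgroup.map_subtype_le _) ((Subgroup.closure_le _).mpr fun g hg => ?_)
    refine ⟨⟨g, Subgroup.subset_closure hg⟩, Subgroup.subset_closure ?_, rfl⟩
    show (orderOf (⟨g, Subgroup.subset_closure hg⟩ : K)).Coprime p
    rw [← Subgroup.orderOf_coe]
    exact hg.2
  have h := hyp_group_eq P₀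
  rw [htop, inf_top_eq] at h
  have hle : (P₀ : Subgroup K) ≤ (autInducedBy (T₁ ⊓ T₂) D).comap K.subtype := by
    rw [← h]
    refine hyp_le fun P hP α hα hαc x hx => ?_
    rw [autGroup_group hP] at hα
    obtain ⟨g, -, hgn, hge⟩ := mem_autInducedBy.mp hα
    obtain ⟨j, hj, hj1⟩ := exists_pow_coprime_modEq (p := p) g hαc
    have hpow : ∀ n : ℕ, ∀ y ∈ P, autFun (α ^ n) y = cj (g ^ n) y := by
      intro n
      induction n with
      | zero => intro y hy; rw [pow_zero, pow_zero, autFun_one hy, cj_one]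
      | succ n ih =>
        intro y hy
        rw [pow_succ, pow_succ, autFun_mul _ _ hy, hge y hy, ih _ (hge y hy ▸ autFun_mem α hy),
          ← cj_mul]
    have hαj : α ^ j = α := (pow_eq_pow_iff_modEq.mpr hj1).trans (pow_one α)
    have hgj : autFun α x = cj (g ^ j) x := by rw [← hpow j x hx, hαj]
    show ((x⁻¹ * autFun α x : K) : MulAut D) ∈ autInducedBy (T₁ ⊓ T₂) D
    rw [hgj]
    have hRle : P.map K.subtype ≤ autInducedBy S D ⊓ meetA E₁ E₂ D := by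
      rintro _ ⟨y, hy, rfl⟩
      have := hP hy
      rw [hP₀] at this
      exact ⟨(Subgroup.mem_subgroupOf.mp this).1, meetCop_le_meetA D y.2⟩
    refine hm.commutator_mem hD hDT hRle (g := ((g ^ j : K) : MulAut D))
      (meetCop_le_meetA D (g ^ j).2) (by rw [Subgroup.orderOf_coe]; exact hj) ?_
      ⟨x, hx, rfl⟩
    rintro _ ⟨y, hy, rfl⟩
    exact ⟨g ^ j * y * (g ^ j)⁻¹,
      (Subgroup.mem_normalizer_iff.mp (Subgroup.pow_mem _ hgn j) y).mp hy, rfl⟩
  rintro σ ⟨hσS, hσK⟩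
  have : (⟨σ, hσK⟩ : K) ∈ (P₀ : Subgroup K) := by
    rw [hP₀]
    exact ⟨hσS, hσK⟩
  exact hle this

/-- At a fully normalized subgroup the automizer is generated by the elements of order prime to `p`
and those induced by `T₁ ⊓ T₂`. -/
theorem meetAut_eq {D : Subgroup Ω} (hD : F.IsFullyNormalized D) (hDT : D ≤ T₁ ⊓ T₂) :
    meetAut F E₁ E₂ p D = meetCop E₁ E₂ p D ⊔ autInducedBy (T₁ ⊓ T₂) D := by
  refine le_antisymm ?_ (sup_le (meetCop_le_meetAut D) (hm.meetAut_inner hDT))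
  have hS := hm.pgroup
  have hF := hm.sat
  have hDS := hD.1
  have := finite_mulAut hDS
  have hTn := stronglyClosed_le_normalizer hm.closed
  set M := meetCop E₁ E₂ p D ⊔ autInducedBy (T₁ ⊓ T₂) D with hM
  have hconjT : ∀ {σ : MulAut D}, σ ∈ autInducedBy S D → ∀ c ∈ autInducedBy (T₁ ⊓ T₂) D,
      σ * c * σ⁻¹ ∈ autInducedBy (T₁ ⊓ T₂) D := by
    intro σ hσ c hc
    obtain ⟨s, hs, hsn, hse⟩ := mem_autInducedBy.mp hσ
    obtain ⟨t, ht, htn, hte⟩ := mem_autInducedBy.mp hc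
    refine mem_autInducedBy.mpr ⟨s * t * s⁻¹, (Subgroup.mem_normalizer_iff.mp (hTn hs) t).mp ht,
      Subgroup.mul_mem _ (Subgroup.mul_mem _ hsn htn) (Subgroup.inv_mem _ hsn), fun x hx => ?_⟩
    have hx' := autFun_mem σ⁻¹ hx
    have e : autFun σ⁻¹ x = cj s⁻¹ x := by
      conv_rhs => rw [← autFun_inv_right σ hx, hse _ hx', cj_inv_cj]
    rw [autFun_mul _ _ hx, autFun_mul _ _ hx', cj_mul, cj_mul, ← e, ← hte _ hx',
      hse _ (autFun_mem c hx')]
  -- the normalizer of `M`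
  let L : Subgroup (MulAut D) := Subgroup.normalizer (M : Set (MulAut D))
  have hsylF := (isFullyAutomized_iff.mp (isFullyAutomized_of_normalized hS hF hD).1).2
  have hsylA := isSylIn_inf hsylF (hm.meetA_le D) (fun b hb n hn => hm.meetA_conj hDT hb hn)
  have hAL : meetA E₁ E₂ D ≤ L := by
    refine le_of_sylIn_of_coprime hsylA (fun σ hσ => ?_)
      fun b hb hbc => Subgroup.le_normalizer (Subgroup.mem_sup_left
        (Subgroup.subset_closure ⟨hb, hbc⟩))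
    refine Subgroup.mem_normalizer_fintype fun y hy => ?_
    refine (sup_le (fun c hc => ?_) (fun c hc => ?_) :
      M ≤ M.comap (MulAut.conj σ).toMonoidHom) hy
    · exact Subgroup.mem_sup_left (hm.meetCop_conj hDT (hm.meetA_le D hσ.2) hc)
    · exact Subgroup.mem_sup_right (hconjT hσ.1 c hc)
  have hMn : ∀ θ ∈ F.autGroup D, ∀ y ∈ M, θ * y * θ⁻¹ ∈ M := by
    intro θ hθ
    suffices h : M ≤ M.comap (MulAut.conj θ).toMonoidHom from fun y hy => h hy
    refine sup_le (fun c hc => Subgroup.mem_sup_left (hm.meetCop_conj hDT hθ hc)) fun c hc => ?_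
    obtain ⟨k, hk, hkc⟩ := hsylA.exists_conj_le
      (C := (autInducedBy S D ⊓ meetA E₁ E₂ D).map (MulAut.conj θ).toMonoidHom) (hsylA.2.1.map _)
      (by rintro _ ⟨y, hy, rfl⟩; exact hm.meetA_conj hDT hθ hy.2)
    have hcA : c ∈ autInducedBy S D ⊓ meetA E₁ E₂ D := by
      obtain ⟨t, ht, htn, hte⟩ := mem_autInducedBy.mp hc
      exact ⟨mem_autInducedBy.mpr ⟨t, hm.le_S ht, htn, hte⟩,
        hm.meetAut_le_meetA hDT (hm.meetAut_inner hDT hc)⟩
    set φ := k * θ with hφdef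
    have hφ : φ ∈ F.autGroup D := Subgroup.mul_mem _ (hm.meetA_le D hk) hθ
    have hφc : φ * c * φ⁻¹ ∈ autInducedBy (T₁ ⊓ T₂) D := by
      have hσ := (hkc _ ⟨c, hcA, rfl⟩).1
      have hσ' : φ * c * φ⁻¹ ∈ autInducedBy S D := by simpa [hφdef, mul_assoc] using hσ
      obtain ⟨s, hs, -, hse⟩ := mem_autInducedBy.mp hσ'
      obtain ⟨t, ht, htn, hte⟩ := mem_autInducedBy.mp hc
      obtain ⟨G, hG, hGe⟩ := (isReceptive_iff.mp (isFullyAutomized_of_normalized hS hF hD).2).2 D _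
        (isMor_autFun hDS hφ) (img_autFun φ)
      have htN : t ∈ nExt S D (autFun φ) :=
        ⟨hm.le_S ht, htn, s, hs, (mul_conj_aut hte hse).mp rfl⟩
      have hDN : D ≤ nExt S D (autFun φ) := le_nExt (isMor_autFun hDS hφ)
      have hGe' : ∀ x ∈ D, cj (G t) (autFun φ x) = autFun φ (cj t x) := fun x hx => by
        rw [← hGe x hx, cj_apply t, ← hGe _ ((Subgroup.mem_normalizer_iff.mp htn x).mp hx)]
        exact (hG.map_conj htN (hDN hx)).symm
      have hGn : G t ∈ Subgroup.normalizer (D : Set Ω) := by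
        have : Finite D := finite_of_le hDS
        refine Subgroup.mem_normalizer_fintype fun y hy => ?_
        have h1 := hGe' _ (autFun_mem φ⁻¹ hy)
        rw [autFun_inv_right φ hy] at h1
        show cj (G t) y ∈ D
        rw [h1]
        exact autFun_mem φ ((Subgroup.mem_normalizer_iff.mp htn _).mp (autFun_mem φ⁻¹ hy))
      obtain ⟨σ, hσm, hσe⟩ := exists_autInducedBy (P := D)
        ((stronglyClosed_iff.mp hm.closed).2 _ G hG t htN ht) hGn
      convert hσm using 1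
      refine autFun_inj fun y hy => ?_
      have h1 := hGe' _ (autFun_mem φ⁻¹ hy)
      rw [autFun_inv_right φ hy, ← hte _ (autFun_mem φ⁻¹ hy)] at h1
      rw [hσe y hy, h1, autFun_mul _ _ hy, autFun_mul _ _ (autFun_mem φ⁻¹ hy)]
    have h1 : φ * c * φ⁻¹ ∈ M := Subgroup.mem_sup_right hφc
    have h2 := (Subgroup.mem_normalizer_iff.mp (L.inv_mem (hAL hk)) _).mp h1
    simpa [hφdef, mul_assoc] using h2
  refine (Subgroup.closure_le _).mpr ?_
  rintro α (hα | ⟨g, hg, t, ht, hte⟩)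
  · exact Subgroup.mem_sup_left (Subgroup.subset_closure hα)
  obtain ⟨h, hh, hhi, hhN⟩ := exists_map_fullyNormalized hS hF hD (isConj_symm (isConj_img hg))
  set V := img D g with hV
  have hVN : V ≤ normalizerIn S V := le_normalizerIn hg.img_le
  have hhg : IsMor F D (h ∘ g) :=
    hg.comp (hh.restrict hVN) fun x hx => mem_img_of_mem g hx
  have hhgi : img D (h ∘ g) = D := by rw [← hg.img_comp, hhi]
  obtain ⟨θ, hθ, hθe⟩ := exists_aut hhg hhgi
  obtain ⟨htT, htn⟩ := mem_normalizerIn.mp ht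
  have htS : t ∈ normalizerIn S V := mem_normalizerIn.mpr ⟨hm.le_S htT, htn⟩
  obtain ⟨-, hhtn⟩ := mem_normalizerIn.mp (hhN (mem_img_of_mem h htS))
  obtain ⟨c, hc, hce⟩ := exists_autInducedBy (P := D)
    ((stronglyClosed_iff.mp hm.closed).2 _ h hh t htS htT) hhtn
  have hrel : θ * α * θ⁻¹ = c := autFun_inj fun y hy => by
    obtain ⟨x, hx, rfl⟩ := (isMor_autFun hDS hθ).mem_img.mp ((img_autFun θ).ge hy)
    rw [autFun_mul _ _ (autFun_mem θ hx), autFun_inv_left θ hx, autFun_mul _ _ hx,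
      hθe _ (autFun_mem α hx), hθe x hx]
    show h (g (autFun α x)) = autFun c (h (g x))
    have hgx : g x ∈ V := mem_img_of_mem g hx
    rw [hte x hx, hce _ (hhi ▸ mem_img_of_mem h hgx)]
    exact hh.map_conj htS (hVN hgx)
  have := hMn θ⁻¹ (inv_mem hθ) c (Subgroup.mem_sup_right hc)
  rw [← hrel] at this
  simpa [mul_assoc] using this

/-- The automorphisms induced by `T₁ ⊓ T₂` form a Sylow subgroup at fully normalized subgroups. -/
theorem meetAut_sylow {D : Subgroup Ω} (hD : F.IsFullyNormalized D) (hDT : D ≤ T₁ ⊓ T₂) :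
    IsSylIn p (autInducedBy (T₁ ⊓ T₂) D) (meetAut F E₁ E₂ p D) := by
  have := finite_mulAut hD.1
  have hS := hm.pgroup
  have hmA := (hm.meetAut_le_meetA hDT).trans (hm.meetA_le D)
  have h := isSylIn_inf (isFullyAutomized_iff.mp
    (isFullyAutomized_of_normalized hS hm.sat hD).1).2 hmA
    (fun b hb n hn => hm.meetAut_conj hDT hb hn)
  have hT : autInducedBy (T₁ ⊓ T₂) D ≤ autInducedBy S D := fun σ hσ => by
    obtain ⟨t, ht, htn, hte⟩ := mem_autInducedBy.mp hσ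
    exact mem_autInducedBy.mpr ⟨t, hm.le_S ht, htn, hte⟩
  suffices e : autInducedBy S D ⊓ meetAut F E₁ E₂ p D = autInducedBy (T₁ ⊓ T₂) D from e ▸ h
  refine le_antisymm ?_ (le_inf hT (hm.meetAut_inner hDT))
  rintro σ ⟨hσS, hσA⟩
  have hnorm : autInducedBy (T₁ ⊓ T₂) D ≤
      Subgroup.normalizer (meetCop E₁ E₂ p D : Set (MulAut D)) := fun c hc =>
    Subgroup.mem_normalizer_fintype fun y hy =>
      hm.meetCop_conj hDT (autInducedBy_le F hD.1 (hT hc)) hy
  have hσ2 : σ ∈ ((meetCop E₁ E₂ p D ⊔ autInducedBy (T₁ ⊓ T₂) D : Subgroup (MulAut D)) :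
      Set (MulAut D)) := hm.meetAut_eq hD hDT ▸ hσA
  rw [Subgroup.coe_mul_of_right_le_normalizer_left _ _ hnorm] at hσ2
  obtain ⟨y, hy, c, hc, rfl⟩ := hσ2
  have hyS : y ∈ autInducedBy S D := by
    have := Subgroup.mul_mem _ hσS (Subgroup.inv_mem _ (hT hc))
    rwa [mul_inv_cancel_right] at this
  exact Subgroup.mul_mem _ (hm.inf_meetCop_le hD hDT ⟨hyS, hy⟩) hc

end MeetHyp

end CfsgLib.Fusion
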