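import Mathlib
import Cfsg.Agent.Lib.Fusion.FixedPointNorm
import Cfsg.Agent.Lib.Fusion.MaxAbelianJ
import Cfsg.Agent.Lib.Fusion.Alperin
import Cfsg.Agent.Lib.Fusion.MeetAut

/-!
# Control of central elements, odd `p`

A central element whose classes lie in one coset of a strongly closed subgroup `T` becomes, times
an element of `T`, central in the fusion system.
-/

set_option autoImplicit false
set_option linter.unusedSectionVars false
set_option maxHeartbeats 800000

namespace CfsgLib.Fusion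

open Cfsg Cfsg.FusionSystem
open scoped commutatorElement IsMulCommutative

/-! ### Generalities -/

theorem quadEl_conj {G V : Type*} [Group G] [CommGroup V] (ρ : G →* MulAut V) {x : G}
    (h : QuadEl ρ x) (s : G) : QuadEl ρ (s * x * s⁻¹) := by
  intro v
  have hv : ρ s (ρ s⁻¹ v) = v := by rw [← MulAut.mul_apply, ← map_mul, mul_inv_cancel, map_one]; rfl
  have e : ρ (s * x * s⁻¹) v / v = ρ s (ρ x (ρ s⁻¹ v) / ρ s⁻¹ v) := by
    rw [map_div, hv, map_mul, map_mul, MulAut.mul_apply, MulAut.mul_apply]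
  rw [e, map_mul, map_mul, MulAut.mul_apply, MulAut.mul_apply]
  have hi : ∀ w, ρ s⁻¹ (ρ s w) = w := fun w => by
    rw [← MulAut.mul_apply, ← map_mul, inv_mul_cancel, map_one]; rfl
  rw [hi, h]

open CfsgLib.PLocal in
/-- An abelian subgroup acting quadratically, at least as large as `A`. -/
theorem exists_quad_abelian {G : Type*} [Group G] [Finite G] {p : ℕ} [Fact p.Prime]
    (hG : IsPGroup p G) {V A N : Subgroup G} (hV : ∀ a ∈ V, ∀ b ∈ V, a * b = b * a) (hVN : V ≤ N)
    (hNV : N ≤ Subgroup.normalizer (V : Set G)) (hAN : A ≤ N)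
    (hAc : ∀ a ∈ A, ∀ b ∈ A, a * b = b * a)
    (hmax : ∀ B ≤ N, (∀ a ∈ B, ∀ b ∈ B, a * b = b * a) → Nat.card B ≤ Nat.card A) :
    ∃ B ≤ N, (∀ a ∈ B, ∀ b ∈ B, a * b = b * a) ∧ Nat.card A ≤ Nat.card B ∧
      (∀ b ∈ B, ∀ v ∈ V, b * (b * v * b⁻¹ * v⁻¹) * b⁻¹ = b * v * b⁻¹ * v⁻¹) ∧
      ((∀ b ∈ B, ∀ v ∈ V, b * v = v * b) → B = A) := by
  classical
  by_cases h0 : ⁅V, A⁆ = ⊥
  · refine ⟨A, hAN, hAc, le_rfl, fun b hb v hv => ?_, fun _ => rfl⟩
    have h := Subgroup.commutator_eq_bot_iff_le_centralizer.mp h0 hv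
    rw [← Subgroup.mem_centralizer_iff.mp (Subgroup.centralizer_le (Set.Subset.refl _) h) b hb |>.symm]
    group
  have hVm : IsMulCommutative V := ⟨⟨fun a b => Subtype.ext (hV a a.2 b b.2)⟩⟩
  have hAA : ⁅A, A⁆ ≤ Subgroup.centralizer (V : Set G) := by
    refine Subgroup.commutator_le.mpr fun a ha b hb => ?_
    rw [commutatorElement_eq_one_iff_mul_comm.mpr (hAc a ha b hb)]
    exact one_mem _
  have hCA : V ⊓ Subgroup.centralizer (A : Set G) ≤ A := by
    intro v hv
    have hle : A ⊔ Subgroup.zpowers v ≤ N := sup_le hAN (Subgroup.zpowers_le.mpr (hVN hv.1))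
    have hcomm : ∀ a ∈ A ⊔ Subgroup.zpowers v, ∀ b ∈ A ⊔ Subgroup.zpowers v, a * b = b * a := by
      have h1 : A ⊔ Subgroup.zpowers v ≤
          Subgroup.centralizer ((A : Set G) ∪ {v}) := by
        refine sup_le (fun a ha => Subgroup.mem_centralizer_iff.mpr ?_)
          (Subgroup.zpowers_le.mpr (Subgroup.mem_centralizer_iff.mpr ?_))
        · rintro y (hy | rfl)
          · exact hAc y hy a ha
          · exact (Subgroup.mem_centralizer_iff.mp hv.2 a ha).symm
        · rintro y (hy | rfl)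
          · exact Subgroup.mem_centralizer_iff.mp hv.2 y hy
          · rfl
      intro a ha b hb
      have h2 : A ⊔ Subgroup.zpowers v ≤ Subgroup.centralizer {a} := by
        refine sup_le (fun y hy => Subgroup.mem_centralizer_singleton_iff.mpr ?_)
          (Subgroup.zpowers_le.mpr (Subgroup.mem_centralizer_singleton_iff.mpr ?_))
        · exact Subgroup.mem_centralizer_iff.mp (h1 ha) y (Or.inl hy)
        · exact Subgroup.mem_centralizer_iff.mp (h1 ha) v (Or.inr rfl)
      exact (Subgroup.mem_centralizer_singleton_iff.mp (h2 hb)).symm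
    have he := Subgroup.eq_of_le_of_card_ge le_sup_left (hmax _ hle hcomm)
    rw [he]
    exact Subgroup.mem_sup_right (Subgroup.mem_zpowers v)
  -- the measure is largest at `A`
  have hm : ∀ X, X ≤ A → offMeasure V X ≤ offMeasure V A := by
    intro X hX
    have hXc : X ≤ Subgroup.normalizer ((V ⊓ Subgroup.centralizer (X : Set G) : Subgroup G) : Set G) := by
      intro x hx
      refine Subgroup.mem_normalizer_fintype fun w hw => ?_
      rw [show x * w * x⁻¹ = w by rw [Subgroup.mem_centralizer_iff.mp hw.2 x hx, mul_inv_cancel_right]]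
      exact hw
    have hcard := card_sup_mul_card_inf X (V ⊓ Subgroup.centralizer (X : Set G)) hXc
    have hsup : Nat.card ↥(X ⊔ (V ⊓ Subgroup.centralizer (X : Set G))) ≤ Nat.card A := by
      refine hmax _ (sup_le (hX.trans hAN) (inf_le_left.trans hVN)) fun a ha b hb => ?_
      have h1 : X ⊔ (V ⊓ Subgroup.centralizer (X : Set G)) ≤ Subgroup.centralizer
          ((X : Set G) ∪ (V ⊓ Subgroup.centralizer (X : Set G) : Subgroup G)) := by
        refine sup_le (fun x hx => Subgroup.mem_centralizer_iff.mpr ?_)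
          (fun w hw => Subgroup.mem_centralizer_iff.mpr ?_)
        · rintro y (hy | hy)
          · exact hAc y (hX hy) x (hX hx)
          · exact (Subgroup.mem_centralizer_iff.mp hy.2 x hx).symm
        · rintro y (hy | hy)
          · exact Subgroup.mem_centralizer_iff.mp hw.2 y hy
          · exact hV y hy.1 w hw.1
      have h2 : X ⊔ (V ⊓ Subgroup.centralizer (X : Set G)) ≤ Subgroup.centralizer {a} :=
        sup_le (fun y hy => Subgroup.mem_centralizer_singleton_iff.mpr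
            (Subgroup.mem_centralizer_iff.mp (h1 ha) y (Or.inl hy)))
          fun y hy => Subgroup.mem_centralizer_singleton_iff.mpr
            (Subgroup.mem_centralizer_iff.mp (h1 ha) y (Or.inr hy))
      exact (Subgroup.mem_centralizer_singleton_iff.mp (h2 hb)).symm
    have hinf : Nat.card ↥(X ⊓ (V ⊓ Subgroup.centralizer (X : Set G))) ≤
        Nat.card ↥(V ⊓ Subgroup.centralizer (A : Set G)) := Subgroup.card_le_of_le fun w hw =>
      ⟨hw.2.1, Subgroup.mem_centralizer_iff.mpr fun a ha => hAc a ha w (hX hw.1)⟩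
    calc offMeasure V X = Nat.card X * Nat.card ↥(V ⊓ Subgroup.centralizer (X : Set G)) := rfl
      _ = _ := hcard.symm
      _ ≤ _ := Nat.mul_le_mul hsup hinf
  have hAp : ∀ a ∈ A, ∃ k : ℕ, a ^ p ^ k ∈ Subgroup.centralizer (V : Set G) := fun a _ => by
    obtain ⟨k, hk⟩ := hG a
    exact ⟨k, hk ▸ one_mem _⟩
  have hAV : A ≤ Subgroup.normalizer (V : Set G) := hAN.trans hNV
  set B₀ := A ⊓ Subgroup.centralizer ((⁅V, A⁆ : Subgroup G) : Set G) with hB₀
  obtain ⟨hm₀, hC₀⟩ := replacement hVm hAV hAA hm (U := V) le_rfl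
  have hne := replacement_nontrivial hVm (hG.to_subgroup V) hAV hAA hAp hm (U := V) le_rfl h0
  rw [← hB₀] at hm₀ hC₀ hne
  set W := V ⊓ Subgroup.centralizer (B₀ : Set G) with hW
  set B := B₀ ⊔ W with hB
  have hVA : ⁅V, A⁆ ≤ V := Subgroup.commutator_le.mpr fun v hv a ha => by
    rw [show ⁅v, a⁆ = v * (a * v⁻¹ * a⁻¹) by group]
    exact V.mul_mem hv ((Subgroup.mem_normalizer_iff.mp (hAV ha) _).mp (V.inv_mem hv))
  -- the elements commute with `[V, A]`, and move `V` into it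
  let Q : Subgroup G :=
    { carrier := {b | b ∈ Subgroup.centralizer ((⁅V, A⁆ : Subgroup G) : Set G) ∧
        ∀ v ∈ V, b * v * b⁻¹ * v⁻¹ ∈ ⁅V, A⁆}
      one_mem' := ⟨one_mem _, fun v _ => by simp⟩
      mul_mem' := by
        rintro a b ⟨ha, ha'⟩ ⟨hb, hb'⟩
        refine ⟨Subgroup.mul_mem _ ha hb, fun v hv => ?_⟩
        have h1 := hb' v hv
        have h2 : a * (b * v * b⁻¹ * v⁻¹) * a⁻¹ = b * v * b⁻¹ * v⁻¹ := by
          rw [← Subgroup.mem_centralizer_iff.mp ha _ h1, mul_inv_cancel_right]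
        rw [show a * b * v * (a * b)⁻¹ * v⁻¹
          = a * (b * v * b⁻¹ * v⁻¹) * a⁻¹ * (a * v * a⁻¹ * v⁻¹) by group, h2]
        exact Subgroup.mul_mem _ h1 (ha' v hv)
      inv_mem' := by
        rintro a ⟨ha, ha'⟩
        refine ⟨Subgroup.inv_mem _ ha, fun v hv => ?_⟩
        have h1 := Subgroup.inv_mem _ (ha' v hv)
        have h2 := Subgroup.mem_centralizer_iff.mp ha _ h1
        rw [show a⁻¹ * v * a⁻¹⁻¹ * v⁻¹ = a⁻¹ * (a * v * a⁻¹ * v⁻¹)⁻¹ * a by group, mul_assoc, h2,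
          inv_mul_cancel_left]
        exact h1 }
  have hB₀Q : B₀ ≤ Q := fun b hb => ⟨hb.2, fun v hv => by
    have := Subgroup.inv_mem _ (Subgroup.commutator_mem_commutator hv hb.1)
    rwa [show (⁅v, b⁆)⁻¹ = b * v * b⁻¹ * v⁻¹ by group] at this⟩
  have hWQ : W ≤ Q := fun w hw => ⟨Subgroup.mem_centralizer_iff.mpr fun y hy => hV y (hVA hy) w hw.1,
    fun v hv => by
      rw [hV w hw.1 v hv]; simp⟩
  have hBQ : B ≤ Q := sup_le hB₀Q hWQ
  have hB₀A : B₀ ≤ A := inf_le_left
  have hBN : B ≤ N := sup_le (hB₀A.trans hAN) (inf_le_left.trans hVN)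
  have hBc : ∀ a ∈ B, ∀ b ∈ B, a * b = b * a := by
    have h1 : B ≤ Subgroup.centralizer ((B₀ : Set G) ∪ W) := by
      refine sup_le (fun x hx => Subgroup.mem_centralizer_iff.mpr ?_)
        (fun w hw => Subgroup.mem_centralizer_iff.mpr ?_)
      · rintro y (hy | hy)
        · exact hAc y (hB₀A hy) x (hB₀A hx)
        · exact (Subgroup.mem_centralizer_iff.mp hy.2 x hx).symm
      · rintro y (hy | hy)
        · exact Subgroup.mem_centralizer_iff.mp hw.2 y hy
        · exact hV y hy.1 w hw.1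
    intro a ha b hb
    have h2 : B ≤ Subgroup.centralizer {a} :=
      sup_le (fun y hy => Subgroup.mem_centralizer_singleton_iff.mpr
          (Subgroup.mem_centralizer_iff.mp (h1 ha) y (Or.inl hy)))
        fun y hy => Subgroup.mem_centralizer_singleton_iff.mpr
          (Subgroup.mem_centralizer_iff.mp (h1 ha) y (Or.inr hy))
    exact (Subgroup.mem_centralizer_singleton_iff.mp (h2 hb)).symm
  have hcard : Nat.card A ≤ Nat.card B := by
    have hn : B₀ ≤ Subgroup.normalizer (W : Set G) := by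
      intro x hx
      refine Subgroup.mem_normalizer_fintype fun w hw => ?_
      rw [show x * w * x⁻¹ = w by rw [Subgroup.mem_centralizer_iff.mp hw.2 x hx, mul_inv_cancel_right]]
      exact hw
    have h1 := card_sup_mul_card_inf B₀ W hn
    have h2 : Nat.card ↥(B₀ ⊓ W) ≤ Nat.card ↥(V ⊓ Subgroup.centralizer (A : Set G)) :=
      Subgroup.card_le_of_le fun w hw =>
        ⟨hw.2.1, Subgroup.mem_centralizer_iff.mpr fun a ha => hAc a ha w (hB₀A hw.1)⟩
    have h3 : Nat.card A * Nat.card ↥(V ⊓ Subgroup.centralizer (A : Set G))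
        = Nat.card B₀ * Nat.card W := hm₀.symm
    refine Nat.le_of_mul_le_mul_right ?_
      (Nat.card_pos (α := ↥(V ⊓ Subgroup.centralizer (A : Set G))))
    rw [h3, ← h1]
    exact Nat.mul_le_mul_left _ h2
  refine ⟨B, hBN, hBc, hcard, fun b hb v hv => ?_, fun h => absurd ?_ hne⟩
  · rw [← Subgroup.mem_centralizer_iff.mp (hBQ hb).1 _ ((hBQ hb).2 v hv), mul_inv_cancel_right]
  · rw [Subgroup.commutator_eq_bot_iff_le_centralizer]
    exact fun v hv => Subgroup.mem_centralizer_iff.mpr fun b hb => h b (Subgroup.mem_sup_left hb) v hv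

/-! ### The centre of a subgroup under automorphisms -/

variable {Ω : Type*} [Group Ω]

/-- The action on the centre. -/
def centerAct (P : Subgroup Ω) : MulAut P →* MulAut (Subgroup.center P) where
  toFun α := Subgroup.centerCongr α
  map_one' := by ext; rfl
  map_mul' _ _ := by ext; rfl

theorem centerAct_coe {P : Subgroup Ω} (α : MulAut P) (v : Subgroup.center P) :
    ((centerAct P α v : P) : Ω) = autFun α ((v : P) : Ω) := (autFun_coe α _).symm

/-! ### Morphisms and the subgroup `J` -/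

section

variable {R : Subgroup Ω} [Finite R] {D : FusionSystem R} {W J : Subgroup Ω} {f : Ω → Ω}

theorem isAbMax_img (hf : IsMor D W f) {A : Subgroup Ω} (hA : IsAbMax W A) :
    IsAbMax (img W f) (img A f) := by
  obtain ⟨g, hg, -, hgr, hgi⟩ := hf.inverse
  have hfA := hf.restrict hA.1
  refine ⟨img_mono f hA.1, fun a ha b hb => ?_, fun B hB hBc => ?_⟩
  · obtain ⟨x, hx, rfl⟩ := hfA.mem_img.mp ha
    obtain ⟨y, hy, rfl⟩ := hfA.mem_img.mp hb
    rw [← hfA.map_mul hx hy, ← hfA.map_mul hy hx, hA.2.1 x hx y hy]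
  · have hgB := hg.restrict hB
    rw [← hgB.card_img, hfA.card_img]
    refine hA.2.2 _ (hgi ▸ img_mono g hB) fun a ha b hb => ?_
    obtain ⟨x, hx, rfl⟩ := hgB.mem_img.mp ha
    obtain ⟨y, hy, rfl⟩ := hgB.mem_img.mp hb
    rw [← hgB.map_mul hx hy, ← hgB.map_mul hy hx, hBc x hx y hy]

theorem abOrd_img (hf : IsMor D W f) : abOrd (img W f) = abOrd W := by
  obtain ⟨A, hA⟩ := exists_isAbMax hf.le
  rw [abOrd_eq hA, abOrd_eq (isAbMax_img hf hA), (hf.restrict hA.1).card_img]

theorem img_jMax_le (hf : IsMor D W f) : img (jMax W) f ≤ jMax (img W f) := by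
  obtain ⟨g, hg, hgl, hgr, hgi⟩ := hf.inverse
  have hg' := hg.restrict (jMax_le (W := img W f))
  have h1 : jMax W ≤ img (jMax (img W f)) g := sSup_le fun A hA x hx => by
    rw [← hgl x (hA.1 hx)]
    exact mem_img_of_mem g (le_jMax (isAbMax_img hf hA) (mem_img_of_mem f hx))
  refine img_le fun x hx => ?_
  obtain ⟨y, hy, rfl⟩ := hg'.mem_img.mp (h1 hx)
  rw [hgr y (jMax_le hy)]
  exact hy

theorem img_jMax (hf : IsMor D W f) : img (jMax W) f = jMax (img W f) := by
  refine le_antisymm (img_jMax_le hf) fun y hy => ?_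
  obtain ⟨g, hg, -, hgr, hgi⟩ := hf.inverse
  have := img_jMax_le hg (mem_img_of_mem g hy)
  rw [hgi] at this
  exact hgr y (jMax_le hy) ▸ mem_img_of_mem f this

theorem jKey_img (hf : IsMor D W f) : jKey R (img W f) = jKey R W := by
  unfold jKey
  rw [abOrd_img hf, ← img_jMax hf, (hf.restrict jMax_le).card_img]

theorem jKey_jMax (hW : W ≤ R) : jKey R (jMax W) = jKey R W := by
  unfold jKey
  rw [abOrd_jMax hW, jMax_jMax hW]

theorem jKey_lt_normalizer (D : FusionSystem R) {p : ℕ} [Fact p.Prime] (hR : IsPGroup p R)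
    (hJ : J ≤ R) (hJJ : jMax J = J) (hne : J ≠ jMax R) :
    jKey R J < jKey R (normalizerIn R J) := by
  rcases jKey_lt_or_eq normalizerIn_le (le_normalizerIn hJ) with h | h
  · exact h
  rw [hJJ] at h
  exfalso
  rcases (normalizerIn_le : normalizerIn R J ≤ R).eq_or_lt with he | hlt
  · exact hne (h.trans (congrArg jMax he))
  obtain ⟨g, hg, hgN⟩ := SetLike.exists_of_lt (lt_inf_normalizer hR hlt)
  obtain ⟨hgR, hgn⟩ := Subgroup.mem_inf.mp hg
  have hmor := isMor_cj D (normalizerIn_le : normalizerIn R J ≤ R) hgR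
  have hi := img_jMax hmor
  rw [img_cj_of_normalizer hgn, ← h] at hi
  refine hgN (mem_normalizerIn.mpr ⟨hgR, ?_⟩)
  rw [img_cj] at hi
  exact Subgroup.mem_normalizer_iff_map_conj_eq.mpr hi

end

/-! ### The theorem -/

variable {R T : Subgroup Ω} [Finite R] {p : ℕ} [hp : Fact p.Prime] {D : FusionSystem R}

/-- A point `c * z` fixed by the automorphisms of `jMax R`. -/
theorem exists_fixed_base (hR : IsPGroup p R) (hD : D.IsSaturated p) {c : Ω} (hc : c ∈ R)
    (hcc : ∀ r ∈ R, c * r = r * c) (hfoc : ∀ P f, IsMor D P f → c ∈ P → c⁻¹ * f c ∈ T) :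
    ∃ z ∈ T, z ∈ R ∧ (∀ r ∈ R, z * r = r * z) ∧
      ∀ f, IsMor D (jMax R) f → f (c * z) = c * z := by
  classical
  let J := jMax R
  have hJR : J ≤ R := jMax_le
  have : Finite J := finite_of_le hJR
  have hinv : ∀ f, IsMor D J f → img J f = J := fun f hf => by
    refine hf.img_eq_self fun x hx => ?_
    have h1 : J ≤ J := le_rfl
    have h2 : img J f ≤ R := hf.img_le
    have hk : abOrd (img J f) = abOrd R := by rw [abOrd_img hf, abOrd_jMax le_rfl]
    have h3 := (img_jMax hf).le.trans (jMax_mono le_rfl h2 hk)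
    rw [jMax_jMax le_rfl] at h3
    exact h3 (mem_img_of_mem f hx)
  have hnorm : normalizerIn R J = R := by
    refine le_antisymm normalizerIn_le fun g hg => mem_normalizerIn.mpr ⟨hg, ?_⟩
    have := hinv _ (isMor_cj D hJR hg)
    rw [img_cj] at this
    exact Subgroup.mem_normalizer_iff_map_conj_eq.mpr this
  have hfn : D.IsFullyNormalized J := ⟨hJR, fun Q _ => by
    rw [hnorm]; exact Subgroup.card_le_of_le normalizerIn_le⟩
  have hsyl := (isFullyAutomized_iff.mp (isFullyAutomized_of_normalized hR hD hfn).1).2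
  obtain ⟨P₀, hP₀⟩ := (exists_sylow_iff (autInducedBy_le D hJR)).mpr hsyl
  have := finite_mulAut hJR
  have hcJ : c ∈ J := mem_jMax le_rfl hc hcc
  let c₀ : Subgroup.center J := ⟨⟨c, hcJ⟩, Subgroup.mem_center_iff.mpr fun g =>
    Subtype.ext (hcc g (hJR g.2)).symm⟩
  let ρ : D.autGroup J →* MulAut (Subgroup.center J) := (centerAct J).comp (D.autGroup J).subtype
  have hρ : ∀ (g : D.autGroup J) (v : Subgroup.center J),
      ((ρ g v : J) : Ω) = autFun (g : MulAut J) ((v : J) : Ω) := fun g v => centerAct_coe _ v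
  let δ : D.autGroup J → Subgroup.center J := fun g => ρ g c₀ / c₀
  have hcoc : ∀ g h, δ (g * h) = δ g * ρ g (δ h) := fun g h => by
    simp only [δ, map_mul, MulAut.mul_apply, map_div]
    exact (div_mul_div_cancel' _ _ _).symm
  have hcen : ∀ v : Subgroup.center J, (∀ r ∈ R, ((v : J) : Ω) * r = r * ((v : J) : Ω)) →
      ∀ s ∈ (P₀ : Subgroup (D.autGroup J)), ρ s v = v := by
    intro v hv s hs
    rw [hP₀, Subgroup.mem_subgroupOf] at hs
    obtain ⟨r, hr, -, hre⟩ := mem_autInducedBy.mp hs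
    refine Subtype.ext (Subtype.ext ?_)
    rw [hρ, hre _ (v : J).2, cj_apply, ← hv r hr, mul_inv_cancel_right]
  have hδS : ∀ s ∈ (P₀ : Subgroup (D.autGroup J)), δ s = 1 := fun s hs =>
    div_eq_one.mpr (hcen c₀ hcc s hs)
  obtain ⟨v, hv, hvW⟩ := exists_average ρ hcoc hδS
  have hidx : ¬ p ∣ (P₀ : Subgroup (D.autGroup J)).index := P₀.not_dvd_index
  obtain ⟨k, hk⟩ := IsPGroup.iff_card.mp ((isPGroup_of_le hJR hR).to_subgroup (Subgroup.center J))
  have hcop : (Nat.card (Subgroup.center J)).Coprime (P₀ : Subgroup (D.autGroup J)).index :=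
    hk ▸ ((hp.out.coprime_iff_not_dvd).mpr hidx).pow_left k
  obtain ⟨w, rfl⟩ := (powCoprime hcop).surjective v
  replace hv : ∀ g, δ g * ρ g w = w := fun g => (powCoprime hcop).injective (by
    show (δ g * ρ g w) ^ _ = _
    rw [mul_pow, ← map_pow]
    exact hv g)
  have hzT : ((w : J) : Ω) ∈ T := by
    let W : Subgroup (Subgroup.center J) :=
      T.comap (J.subtype.comp (Subgroup.center J).subtype)
    have hwW : powCoprime hcop w ∈ W := hvW W fun g => by
      show (((ρ g c₀ / c₀ : Subgroup.center J) : J) : Ω) ∈ T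
      rw [div_eq_mul_inv, mul_comm]
      show c⁻¹ * ((ρ g c₀ : J) : Ω) ∈ T
      rw [hρ]
      exact hfoc J _ (isMor_autFun hJR g.2) hcJ
    obtain ⟨j, hj⟩ := exists_pow_eq_self_of_coprime (x := w)
      (hcop.symm.coprime_dvd_right (orderOf_dvd_natCard w))
    have := W.pow_mem hwW j
    rwa [show powCoprime hcop w ^ j = w from hj] at this
  refine ⟨_, hzT, hJR (w : J).2, fun r hr => ?_, fun f hf => ?_⟩
  · obtain ⟨σ, hσ, hσe⟩ := exists_autInducedBy (K := R) hr
      (mem_normalizerIn.mp (hnorm.ge hr)).2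
    have hσG := autInducedBy_le D hJR hσ
    have hfix : ρ ⟨σ, hσG⟩ w = w := by
      have h1 := hv ⟨σ, hσG⟩
      rwa [hδS ⟨σ, hσG⟩ (by rw [hP₀, Subgroup.mem_subgroupOf]; exact hσ), one_mul] at h1
    have h3 := congrArg (fun x : Subgroup.center J => ((x : J) : Ω)) hfix
    simp only [hρ] at h3
    rw [hσe _ (w : J).2] at h3
    exact (mul_inv_eq_iff_eq_mul.mp h3).symm
  · obtain ⟨α, hα, hαe⟩ := exists_aut hf (hinv f hf)
    have h1 : ρ ⟨α, hα⟩ (c₀ * w) = c₀ * w := by
      rw [map_mul]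
      have h4 : ρ ⟨α, hα⟩ c₀ = c₀ * δ ⟨α, hα⟩ := (mul_div_cancel _ _).symm
      rw [h4, mul_assoc, hv]
    have h3 := congrArg (fun x : Subgroup.center J => ((x : J) : Ω)) h1
    simp only [hρ] at h3
    exact (hαe _ (c₀ * w : Subgroup.center J).1.2).symm.trans h3

/-- Fixing on `J = jMax J` all the way down. -/
theorem fixed_of_jMax (hodd : Odd p) (hR : IsPGroup p R) (hD : D.IsSaturated p) {u : Ω}
    (hu : u ∈ R) (huc : ∀ r ∈ R, u * r = r * u)
    (hbase : ∀ f, IsMor D (jMax R) f → f u = u) :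
    ∀ (n : ℕ) (J : Subgroup Ω),
      Nat.card R * (Nat.card R + 1) + Nat.card R - jKey R J = n → J ≤ R → jMax J = J → u ∈ J →
      ∀ f, IsMor D J f → f u = u := by
  classical
  intro n
  induction n using Nat.strong_induction_on with
  | _ n ih =>
  intro J hn hJR hJJ huJ f hf
  subst hn
  by_cases hJ0 : J = jMax R
  · subst hJ0; exact hbase f hf
  -- maps on larger subgroups fix `u`
  have hup : ∀ W, W ≤ R → u ∈ W → jKey R J < jKey R W → ∀ g, IsMor D W g → g u = u := by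
    intro W hW huW hlt g hg
    refine ih _ ?_ (jMax W) rfl (jMax_le.trans hW) (jMax_jMax hW)
      (mem_jMax hW huW fun a ha => huc a (hW ha)) g (hg.restrict jMax_le)
    rw [jKey_jMax hW]
    have := jKey_le (R := R) hW
    omega
  have huN : ∀ K : Subgroup Ω, u ∈ centralizerIn R K → u ∈ normalizerIn R K := fun K h =>
    centralizerIn_le_normalizerIn h
  have huCK : ∀ K : Subgroup Ω, K ≤ R → u ∈ centralizerIn R K := fun K hK =>
    mem_centralizerIn.mpr ⟨hu, fun x hx => by rw [cj_apply, huc x (hK hx), mul_inv_cancel_right]⟩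
  have hconjJ : ∀ K g, IsMor D J g → img J g = K →
      K ≤ R ∧ jMax K = K ∧ jKey R K = jKey R J ∧ K ≠ jMax R := by
    intro K g hg hgi
    subst hgi
    have hk : jKey R (img J g) = jKey R J := jKey_img hg
    refine ⟨hg.img_le, by rw [← img_jMax hg, hJJ], hk, fun he => hJ0 ?_⟩
    rw [he, jKey_jMax le_rfl] at hk
    rcases jKey_lt_or_eq le_rfl hJR with h | h
    · omega
    · exact hJJ ▸ h
  obtain ⟨J₁, hJ₁, hJ₁n⟩ := exists_fullyNormalized D hJR
  obtain ⟨a, ha, hai, -⟩ := exists_map_fullyNormalized hR hD hJ₁n hJ₁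
  obtain ⟨hJ'R, hJ'J, hJ'k, hJ'0⟩ := hconjJ _ f hf rfl
  obtain ⟨b, hb, hbi, -⟩ := exists_map_fullyNormalized hR hD hJ₁n
    (isConj_trans (isConj_symm (isConj_img hf)) hJ₁)
  have hau : a u = u := hup _ normalizerIn_le (huN J (huCK J hJR))
    (jKey_lt_normalizer D hR hJR hJJ hJ0) a ha
  have hbu : b u = u := hup _ normalizerIn_le (huN _ (huCK _ hJ'R))
    (hJ'k ▸ jKey_lt_normalizer D hR hJ'R hJ'J hJ'0) b hb
  obtain ⟨hJ₁R, hJ₁J, hJ₁k, hJ₁0⟩ := hconjJ _ a (ha.restrict (le_normalizerIn hJR)) hai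
  have huJ₁ : u ∈ J₁ := hai ▸ hau ▸ mem_img_of_mem a huJ
  suffices key : ∀ γ ∈ D.autGroup J₁, autFun γ u = u by
    have ha' := ha.restrict (le_normalizerIn hJR)
    obtain ⟨a', ha'm, ha'l, -, ha'i⟩ := ha'.inverse
    rw [hai] at ha'm ha'i
    have hmem : ∀ x ∈ J₁, a' x ∈ J := fun x hx => ha'i ▸ mem_img_of_mem a' hx
    have hbN : ∀ x ∈ J₁, (f ∘ a') x ∈ normalizerIn R (img J f) := fun x hx =>
      le_normalizerIn hJ'R (mem_img_of_mem f (hmem x hx))
    have hc := (ha'm.comp hf hmem).comp hb hbN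
    have hci : img J₁ (b ∘ f ∘ a') = J₁ := hc.img_eq_self fun x hx =>
      hbi ▸ mem_img_of_mem b (mem_img_of_mem f (hmem x hx))
    obtain ⟨γ, hγ, hγe⟩ := exists_aut hc hci
    have h1 := key γ hγ
    rw [hγe u huJ₁] at h1
    simp only [Function.comp_apply] at h1
    rw [show a' u = u from by conv_lhs => rw [← hau]; exact ha'l u huJ] at h1
    exact hb.inj (le_normalizerIn hJ'R (mem_img_of_mem f huJ)) (huN _ (huCK _ hJ'R))
      (h1.trans hbu.symm)
  -- the automorphisms of `J₁`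
  obtain ⟨hfa, hrec⟩ := isFullyAutomized_of_normalized hR hD hJ₁n
  obtain ⟨P₀, hP₀⟩ := (exists_sylow_iff (autInducedBy_le D hJ₁R)).mpr
    (isFullyAutomized_iff.mp hfa).2
  have : Finite J₁ := finite_of_le hJ₁R
  have := finite_mulAut hJ₁R
  let ρ : D.autGroup J₁ →* MulAut (Subgroup.center J₁) :=
    (centerAct J₁).comp (D.autGroup J₁).subtype
  have hρ : ∀ (g : D.autGroup J₁) (v : Subgroup.center J₁),
      ((ρ g v : J₁) : Ω) = autFun (g : MulAut J₁) ((v : J₁) : Ω) := fun g v => centerAct_coe _ v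
  let u₀ : Subgroup.center J₁ := ⟨⟨u, huJ₁⟩, Subgroup.mem_center_iff.mpr fun g =>
    Subtype.ext (huc g (hJ₁R g.2)).symm⟩
  let 𝒳 : Set (D.autGroup J₁) := {σ | σ ∈ (P₀ : Subgroup (D.autGroup J₁)) ∧ QuadEl ρ σ}
  let Y : Set Ω := {y | y ∈ normalizerIn R J₁ ∧
    ∃ σ ∈ 𝒳, ∀ x ∈ J₁, autFun (σ : MulAut J₁) x = cj y x}
  let X : Subgroup Ω := Subgroup.closure Y
  have hXN : X ≤ normalizerIn R J₁ := (Subgroup.closure_le _).mpr fun y hy => hy.1
  have hmkY : ∀ y ∈ normalizerIn R J₁, (∀ v ∈ J₁, (∀ w ∈ J₁, v * w = w * v) →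
      y * (y * v * y⁻¹ * v⁻¹) * y⁻¹ = y * v * y⁻¹ * v⁻¹) → y ∈ Y := by
    intro y hy hq
    obtain ⟨hyR, hyn⟩ := mem_normalizerIn.mp hy
    obtain ⟨σ, hσ, hσe⟩ := exists_autInducedBy (K := R) hyR hyn
    refine ⟨hy, ⟨σ, autInducedBy_le D hJ₁R hσ⟩,
      ⟨by rw [hP₀, Subgroup.mem_subgroupOf]; exact hσ, fun v => ?_⟩, hσe⟩
    refine Subtype.ext (Subtype.ext ?_)
    have hval : ∀ w : Subgroup.center J₁,
        ((ρ ⟨σ, autInducedBy_le D hJ₁R hσ⟩ w : J₁) : Ω) = y * ((w : J₁) : Ω) * y⁻¹ := fun w => by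
      rw [hρ]; exact hσe _ (w : J₁).2
    rw [hval]
    simp only [div_eq_mul_inv, Subgroup.coe_mul, InvMemClass.coe_inv, hval]
    exact hq _ (v : J₁).2 fun w hw =>
      (congrArg Subtype.val (Subgroup.mem_center_iff.mp v.2 ⟨w, hw⟩)).symm
  have hJX : J₁ ≤ X := fun y hy => Subgroup.subset_closure (hmkY y (le_normalizerIn hJ₁R hy)
    fun v _ hvc => by
      rw [show y * v = v * y from (hvc y hy).symm]
      simp)
  have hlt : jKey R J₁ < jKey R X := by
    have hXR : X ≤ R := hXN.trans normalizerIn_le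
    rcases jKey_lt_or_eq hXR hJX with h | h
    · exact h
    rw [hJ₁J] at h
    exfalso
    let N := normalizerIn R J₁
    have hNR : N ≤ R := normalizerIn_le
    obtain ⟨A, hA, hAJ⟩ : ∃ A, IsAbMax N A ∧ ¬ A ≤ J₁ := by
      by_contra hall
      push Not at hall
      have h1 := jKey_lt_normalizer D hR hJ₁R hJ₁J hJ₁0
      have hab : abOrd J₁ = abOrd N := by
        obtain ⟨A, hA⟩ := exists_isAbMax hNR
        exact le_antisymm (abOrd_mono hNR (le_normalizerIn hJ₁R))
          ((abOrd_eq hA).le.trans (le_abOrd hJ₁R (hall A hA) hA.2.1))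
      have h2 : jMax N = J₁ := le_antisymm (sSup_le hall)
        (hJ₁J.ge.trans (jMax_mono hNR (le_normalizerIn hJ₁R) hab))
      unfold jKey at h1
      rw [h2, ← hab, hJ₁J] at h1
      exact lt_irrefl _ h1
    let Z : Subgroup Ω :=
      { carrier := {v | v ∈ J₁ ∧ ∀ w ∈ J₁, v * w = w * v}
        one_mem' := ⟨one_mem _, fun w _ => by simp⟩
        mul_mem' := fun {a b} ha hb => ⟨J₁.mul_mem ha.1 hb.1, fun w hw => by
          rw [mul_assoc, hb.2 w hw, ← mul_assoc, ha.2 w hw, mul_assoc]⟩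
        inv_mem' := fun {a} ha => ⟨J₁.inv_mem ha.1, fun w hw => by
          exact (Commute.inv_left (show Commute a w from ha.2 w hw)).eq⟩ }
    have hZJ : Z ≤ J₁ := fun v hv => hv.1
    have hNZ : ∀ y ∈ N, ∀ v ∈ Z, y * v * y⁻¹ ∈ Z := by
      intro y hy v hv
      have hyn := (mem_normalizerIn.mp hy).2
      refine ⟨(Subgroup.mem_normalizer_iff.mp hyn v).mp hv.1, fun w hw => ?_⟩
      have hw' : y⁻¹ * w * y ∈ J₁ := by
        have := (Subgroup.mem_normalizer_iff.mp (Subgroup.inv_mem _ hyn) w).mp hw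
        rwa [inv_inv] at this
      calc y * v * y⁻¹ * w = y * (v * (y⁻¹ * w * y)) * y⁻¹ := by group
        _ = y * (y⁻¹ * w * y * v) * y⁻¹ := by rw [hv.2 _ hw']
        _ = _ := by group
    have hrp : IsPGroup p R := hR
    have hsub : ∀ K : Subgroup Ω, K ≤ R → (K.subgroupOf R).map R.subtype = K := fun K hK => by
      rw [Subgroup.map_subgroupOf_eq_of_le hK]
    have hcardR : ∀ K : Subgroup Ω, K ≤ R → Nat.card (K.subgroupOf R) = Nat.card K := fun K hK =>
      Nat.card_congr (Subgroup.subgroupOfEquivOfLe hK).toEquiv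
    obtain ⟨B', hB'N, hB'c, hB'card, hB'q, hB'A⟩ := exists_quad_abelian (G := R) hrp
      (V := Z.subgroupOf R) (A := A.subgroupOf R) (N := N.subgroupOf R)
      (fun a ha b hb => Subtype.ext (ha.2 (b : Ω) hb.1))
      (Subgroup.comap_mono (hZJ.trans (le_normalizerIn hJ₁R)))
      (fun y hy => Subgroup.mem_normalizer_fintype fun v hv => hNZ (y : Ω) hy (v : Ω) hv)
      (Subgroup.comap_mono hA.1)
      (fun a ha b hb => Subtype.ext (hA.2.1 (a : Ω) ha (b : Ω) hb))
      (fun B hB hBc => by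
        rw [hcardR A (hA.1.trans hNR), ← Subgroup.card_map_of_injective R.subtype_injective]
        refine hA.2.2 _ ?_ ?_
        · rintro _ ⟨x, hx, rfl⟩; exact hB hx
        · rintro _ ⟨x, hx, rfl⟩ _ ⟨y, hy, rfl⟩
          exact congrArg Subtype.val (hBc x hx y hy))
    let B := B'.map R.subtype
    have hBN : B ≤ N := by
      rintro _ ⟨x, hx, rfl⟩; exact hB'N hx
    have hBX : B ≤ X := by
      rintro _ ⟨x, hx, rfl⟩
      refine Subgroup.subset_closure (hmkY _ (hB'N hx) fun v hv hvc => ?_)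
      exact congrArg Subtype.val (hB'q x hx ⟨v, hJ₁R hv⟩ ⟨hv, hvc⟩)
    have hBc : ∀ a ∈ B, ∀ b ∈ B, a * b = b * a := by
      rintro _ ⟨x, hx, rfl⟩ _ ⟨y, hy, rfl⟩
      exact congrArg Subtype.val (hB'c x hx y hy)
    have hBmax : IsAbMax X B := isAbMax_of_card hXR hBX hBc (by
      rw [Subgroup.card_map_of_injective R.subtype_injective]
      refine ((abOrd_mono hNR hXN).trans (abOrd_eq hA).le).trans ?_
      rwa [hcardR A (hA.1.trans hNR)] at hB'card)
    have hBJ : B ≤ J₁ := (le_jMax hBmax).trans h.ge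
    have hBA : B' = A.subgroupOf R := hB'A fun b hb v hv =>
      Subtype.ext (hv.2 (b : Ω) (hBJ ⟨b, hb, rfl⟩)).symm
    refine hAJ (le_trans ?_ hBJ)
    show A ≤ B'.map R.subtype
    rw [hBA, hsub A (hA.1.trans hNR)]
  have hmain : ∀ g : D.autGroup J₁, ρ g u₀ = u₀ := by
    obtain ⟨k, hk⟩ := IsPGroup.iff_card.mp
      ((isPGroup_of_le hJ₁R hR).to_subgroup (Subgroup.center J₁))
    refine fixed_of_control ρ hodd P₀.isPGroup' P₀.not_dvd_index (𝒳 := 𝒳) (fun σ hσ => hσ.1)
      (fun s hs σ hσ => ⟨(P₀ : Subgroup (D.autGroup J₁)).mul_mem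
        ((P₀ : Subgroup (D.autGroup J₁)).mul_mem hs hσ.1)
        ((P₀ : Subgroup (D.autGroup J₁)).inv_mem hs), quadEl_conj ρ hσ.2 s⟩)
      (fun σ hσ => hσ.2) k (by rw [← hk]; exact pow_card_eq_one') (fun s hs => ?_) fun g hg => ?_
    · rw [hP₀, Subgroup.mem_subgroupOf] at hs
      obtain ⟨r, hr, -, hre⟩ := mem_autInducedBy.mp hs
      refine Subtype.ext (Subtype.ext ?_)
      rw [hρ]
      show autFun (s : MulAut J₁) u = u
      rw [hre u huJ₁, cj_apply, ← huc r hr, mul_inv_cancel_right]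
    · have hgi : (g⁻¹ : D.autGroup J₁).1 ∈ D.autGroup J₁ := (g⁻¹).2
      have hmor := isMor_autFun hJ₁R hgi
      have hXe : X ≤ nExt R J₁ (autFun (g⁻¹ : D.autGroup J₁).1) := by
        refine (Subgroup.closure_le _).mpr fun y hy => ?_
        obtain ⟨hyN, σ, hσ, hσe⟩ := hy
        obtain ⟨hyR, hyn⟩ := mem_normalizerIn.mp hyN
        have := hg σ hσ
        rw [hP₀, Subgroup.mem_subgroupOf] at this
        obtain ⟨r, hr, -, hre⟩ := mem_autInducedBy.mp this
        refine ⟨hyR, hyn, r, hr, fun x hx => ?_⟩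
        rw [← hσe x hx, ← hre _ (autFun_mem _ hx), ← autFun_mul _ _ hx, ← autFun_mul _ _ hx]
        congr 1
        simp [mul_assoc]
      obtain ⟨e, he, hee⟩ := (isReceptive_iff.mp hrec).2 J₁ _ hmor (img_autFun _)
      have hek := hup X (hXN.trans normalizerIn_le) (hJX huJ₁) (hJ₁k ▸ hlt) e (he.restrict hXe)
      rw [hee u huJ₁] at hek
      have hfix : ρ g⁻¹ u₀ = u₀ := Subtype.ext (Subtype.ext (by rw [hρ]; exact hek))
      conv_lhs => rw [← hfix]
      rw [← MulAut.mul_apply, ← map_mul, mul_inv_cancel, map_one]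
      rfl
  intro γ hγ
  have := congrArg (fun w : Subgroup.center J₁ => ((w : J₁) : Ω)) (hmain ⟨γ, hγ⟩)
  simp only [hρ] at this
  exact this

/-- **A central coset representative central in the system.** -/
theorem exists_central_rep (hodd : Odd p) (hR : IsPGroup p R) (hD : D.IsSaturated p) {c : Ω}
    (hc : c ∈ R) (hcc : ∀ r ∈ R, c * r = r * c)
    (hfoc : ∀ P f, IsMor D P f → c ∈ P → c⁻¹ * f c ∈ T) :
    ∃ z ∈ T, (∀ r ∈ R, z * r = r * z) ∧ z ∈ R ∧ ∀ P f, IsMor D P f →
      ∃ g, IsMor D (P ⊔ Subgroup.zpowers (c * z)) g ∧ (∀ x ∈ P, g x = f x) ∧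
        g (c * z) = c * z := by
  obtain ⟨z, hzT, hzR, hzc, hbase⟩ := exists_fixed_base hR hD hc hcc hfoc
  refine ⟨z, hzT, hzc, hzR, ?_⟩
  let u := c * z
  let Y := Subgroup.zpowers u
  have hu : u ∈ R := R.mul_mem hc hzR
  have huc : ∀ r ∈ R, u * r = r * u := fun r hr => by
    show c * z * r = r * (c * z)
    rw [mul_assoc, hzc r hr, ← mul_assoc, hcc r hr, mul_assoc]
  have hYR : Y ≤ R := Subgroup.zpowers_le.mpr hu
  have hYfix : ∀ {P : Subgroup Ω} {g : Ω → Ω}, IsMor D (P ⊔ Y) g → g u = u →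
      ∀ y ∈ Y, g y = y := by
    intro P g hg e y hy
    obtain ⟨i, rfl⟩ := Subgroup.mem_zpowers_iff.mp hy
    rw [hg.map_zpow (Subgroup.mem_sup_right (Subgroup.mem_zpowers u)), e]
  let Mp : Subgroup Ω → (Ω → Ω) → Prop := fun P f =>
    IsMor D P f ∧ ∃ g, IsMor D (P ⊔ Y) g ∧ (∀ x ∈ P, g x = f x) ∧ g u = u
  let D' : FusionSystem R := ofPred R Mp (fun P f h => ⟨h.1.le, fun x hx => h.1.mem hx⟩)
    (fun P f h x hx y hy e => h.1.inj hx hy e)
    (fun P f f' ⟨hf, g, hg, hgf, hgu⟩ e =>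
      ⟨hf.congr e, g, hg, fun x hx => (hgf x hx).trans (e x hx), hgu⟩)
    (fun P r hP hr => ⟨isMor_cj D hP hr, cj r, isMor_cj D (sup_le hP hYR) hr, fun _ _ => rfl,
      by rw [cj_apply, ← huc r hr, mul_inv_cancel_right]⟩)
    (fun P Q f k ⟨hf, g, hg, hgf, hgu⟩ ⟨hk, g', hg', hgk, hgu'⟩ hfQ => by
      refine ⟨hf.comp hk hfQ, g' ∘ g, hg.comp hg' ?_, fun x hx => ?_, ?_⟩
      · intro x hx
        have h1 := mem_img_of_mem g hx
        rw [hg.img_sup, img_congr (P := Y) (g := id) (hYfix hg hgu), img_id, img_congr hgf] at h1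
        exact sup_le_sup_right (img_le hfQ) Y h1
      · show g' (g x) = k (f x)
        rw [hgf x hx, hgk _ (hfQ x hx)]
      · show g' (g u) = u
        rw [hgu, hgu'])
    (fun P f ⟨hf, g, hg, hgf, hgu⟩ _ => by
      obtain ⟨fi, hfi, hfl, -, -⟩ := hf.inverse
      obtain ⟨g', hg', hl, -, -⟩ := hg.inverse
      have hle : img P f ≤ img (P ⊔ Y) g :=
        (img_congr (fun x hx => (hgf x hx).symm)).le.trans (img_mono g le_sup_left)
      have huY : u ∈ P ⊔ Y := Subgroup.mem_sup_right (Subgroup.mem_zpowers u)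
      have hYg : Y ≤ img (P ⊔ Y) g := fun x hx =>
        hYfix hg hgu x hx ▸ mem_img_of_mem g (Subgroup.mem_sup_right hx)
      refine ⟨fi, ⟨hfi, g', hg'.restrict (sup_le hle hYg), fun y hy => ?_, ?_⟩, hfl⟩
      · obtain ⟨x, hx, rfl⟩ := hf.mem_img.mp hy
        rw [hfl x hx, ← hgf x hx, hl x (Subgroup.mem_sup_left hx)]
      · conv_lhs => rw [← hgu]
        exact hl u huY)
  have hiff : ∀ P f, IsMor D' P f ↔ Mp P f := fun P f =>
    isMor_ofPred fun h x hx y hy => h.1.map_mul hx hy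
  have hle : D ≤ D' := alperin hR hD fun P hP α hα => by
    have hc' : D.IsCentric P := hP.elim (fun e => e ▸ centric_self D) (fun h => h.1)
    have hPR := hc'.1
    have huP : u ∈ P := centric_centralizer_le hc' (mem_centralizerIn.mpr
      ⟨hu, fun x hx => by rw [cj_apply, huc x (hPR hx), mul_inv_cancel_right]⟩)
    have hmor := isMor_autFun hPR hα
    have hfix := fixed_of_jMax hodd hR hD hu huc hbase _ (jMax P) rfl (jMax_le.trans hPR)
      (jMax_jMax hPR) (mem_jMax hPR huP fun a ha => huc a (hPR ha)) _ (hmor.restrict jMax_le)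
    refine (autGroup_eq_set hPR α).mpr ((hiff _ _).mpr ⟨hmor, autFun α, ?_, fun _ _ => rfl, hfix⟩)
    rwa [sup_eq_left.mpr (Subgroup.zpowers_le.mpr huP : Y ≤ P)]
  exact fun P f hf => ((hiff P f).mp (le_iff_isMor.mp hle P f hf)).2

end CfsgLib.Fusion
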