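import Mathlib
import Cfsg.Agent.Lib.Fusion.FactorSaturated
import Cfsg.Agent.Lib.Fusion.FactorExists
import Cfsg.Agent.Lib.Fusion.NormalCentralizerClosed

/-!
# Lifting a normal subsystem of a central quotient: basic notions

`W` is central in the saturated system `F` over `S`, the map `θ` identifies the quotient of `S` by
`W` with `S'`, `Fbar` is the factor system, and `Ebar` over `T'` is normal in `Fbar`.
-/

set_option autoImplicit false
set_option linter.unusedSectionVars false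

namespace CfsgLib.Fusion

open Cfsg Cfsg.FusionSystem

variable {Ω Ω' : Type*} [Group Ω] [Group Ω'] {S : Subgroup Ω} [Finite S]

/-- The hypotheses of the lifting construction. -/
structure CLift (F : FusionSystem S) (W : Subgroup Ω) (θ : S →* Ω') {S' : Subgroup Ω'}
    (Fbar : FusionSystem S') {T' : Subgroup Ω'} (Ebar : FusionSystem T') (p : ℕ) : Prop where
  hS : IsPGroup p S
  hF : F.IsSaturated p
  hW : F.IsCentral W
  hfac : F.IsFactorSystem W θ Fbar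
  hE : Ebar.IsNormalIn Fbar p

open Classical in
/-- `θ` as a function on the ambient group. -/
noncomputable def thF (θ : S →* Ω') (x : Ω) : Ω' := if h : x ∈ S then θ ⟨x, h⟩ else 1

theorem thF_of_mem (θ : S →* Ω') {x : Ω} (h : x ∈ S) : thF θ x = θ ⟨x, h⟩ := dif_pos h

theorem thF_mul (θ : S →* Ω') {x y : Ω} (hx : x ∈ S) (hy : y ∈ S) :
    thF θ (x * y) = thF θ x * thF θ y := by
  rw [thF_of_mem θ hx, thF_of_mem θ hy, thF_of_mem θ (S.mul_mem hx hy), ← map_mul]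
  rfl

theorem thF_inv (θ : S →* Ω') {x : Ω} (hx : x ∈ S) : thF θ x⁻¹ = (thF θ x)⁻¹ := by
  rw [thF_of_mem θ hx, thF_of_mem θ (S.inv_mem hx), ← map_inv]
  rfl

theorem thF_one (θ : S →* Ω') : thF θ 1 = 1 := by
  rw [thF_of_mem θ S.one_mem]
  exact map_one θ

theorem thF_cj (θ : S →* Ω') {g x : Ω} (hg : g ∈ S) (hx : x ∈ S) :
    thF θ (cj g x) = cj (thF θ g) (thF θ x) := by
  rw [cj_apply, cj_apply, thF_mul θ (S.mul_mem hg hx) (S.inv_mem hg), thF_mul θ hg hx,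
    thF_inv θ hg]

theorem mem_imageAlong_thF (θ : S →* Ω') {P : Subgroup Ω} (hP : P ≤ S) {y : Ω'} :
    y ∈ imageAlong θ P ↔ ∃ x ∈ P, thF θ x = y := by
  constructor
  · rintro ⟨x, hx, rfl⟩
    exact ⟨x, hx, thF_of_mem θ x.2⟩
  · rintro ⟨x, hx, rfl⟩
    exact ⟨⟨x, hP hx⟩, hx, (thF_of_mem θ _).symm⟩

theorem thF_mem_imageAlong (θ : S →* Ω') {P : Subgroup Ω} (hP : P ≤ S) {x : Ω} (hx : x ∈ P) :
    thF θ x ∈ imageAlong θ P :=
  (mem_imageAlong_thF θ hP).mpr ⟨x, hx, rfl⟩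

theorem imageAlong_mono (θ : S →* Ω') {P Q : Subgroup Ω} (h : P ≤ Q) :
    imageAlong θ P ≤ imageAlong θ Q :=
  Subgroup.map_mono fun _ hx => h hx

theorem mem_preimageAlong_thF (θ : S →* Ω') {P' : Subgroup Ω'} {x : Ω} :
    x ∈ preimageAlong θ P' ↔ x ∈ S ∧ thF θ x ∈ P' := by
  rw [mem_preimageAlong]
  exact ⟨fun ⟨h, h'⟩ => ⟨h, thF_of_mem θ h ▸ h'⟩, fun ⟨h, h'⟩ => ⟨h, thF_of_mem θ h ▸ h'⟩⟩

variable {F : FusionSystem S} {W : Subgroup Ω} {θ : S →* Ω'} {S' : Subgroup Ω'}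
  {Fbar : FusionSystem S'} {T' : Subgroup Ω'} {Ebar : FusionSystem T'} {p : ℕ} [hp : Fact p.Prime]

/-- The subgroup over which the lifted system lives. -/
noncomputable def liftTop (θ : S →* Ω') (T' : Subgroup Ω') : Subgroup Ω := preimageAlong θ T'

/-- `f` is a map of `F` inside the preimage of `T'` inducing a map of `Ebar`. -/
def Lifts (F : FusionSystem S) (W : Subgroup Ω) (θ : S →* Ω') (Ebar : FusionSystem T')
    (P : Subgroup Ω) (f : Ω → Ω) : Prop :=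
  W ≤ P ∧ P ≤ liftTop θ T' ∧ IsMor F P f ∧
    ∃ f', IsMor Ebar (imageAlong θ P) f' ∧ ∀ x ∈ P, f' (thF θ x) = thF θ (f x)

theorem Lifts.le_top {P : Subgroup Ω} {f : Ω → Ω} (h : Lifts F W θ Ebar P f) :
    P ≤ liftTop θ T' := h.2.1

theorem Lifts.isMor {P : Subgroup Ω} {f : Ω → Ω} (h : Lifts F W θ Ebar P f) : IsMor F P f := h.2.2.1

theorem Lifts.mem_top {P : Subgroup Ω} {f : Ω → Ω} (h : Lifts F W θ Ebar P f) {x : Ω}
    (hx : x ∈ P) : f x ∈ liftTop θ T' := by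
  obtain ⟨-, -, hf, f', hf', e⟩ := h
  refine (mem_preimageAlong_thF θ).mpr ⟨hf.mem hx, ?_⟩
  rw [← e x hx]
  exact hf'.mem (thF_mem_imageAlong θ hf.le hx)

theorem Lifts.congr {P : Subgroup Ω} {f g : Ω → Ω} (h : Lifts F W θ Ebar P f)
    (e : ∀ x ∈ P, f x = g x) : Lifts F W θ Ebar P g := by
  obtain ⟨hW, hP, hf, f', hf', hfe⟩ := h
  exact ⟨hW, hP, hf.congr e, f', hf', fun x hx => by rw [hfe x hx, e x hx]⟩

theorem Lifts.restrict {P R : Subgroup Ω} {f : Ω → Ω} (h : Lifts F W θ Ebar R f) (hPR : P ≤ R)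
    (hWP : W ≤ P) : Lifts F W θ Ebar P f := by
  obtain ⟨-, hR, hf, f', hf', hfe⟩ := h
  refine ⟨hWP, hPR.trans hR, hf.restrict hPR, f',
    hf'.restrict (imageAlong_mono θ hPR), fun x hx => hfe x (hPR hx)⟩

section

variable (H : CLift F W θ Fbar Ebar p)

include H

theorem CLift.hWS : W ≤ S := H.hW.1

theorem CLift.thF_eq_one {x : Ω} (hx : x ∈ S) : thF θ x = 1 ↔ x ∈ W := by
  rw [thF_of_mem θ hx]
  exact H.hfac.2.1 ⟨x, hx⟩

theorem CLift.thF_eq_iff {x y : Ω} (hx : x ∈ S) (hy : y ∈ S) :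
    thF θ x = thF θ y ↔ x⁻¹ * y ∈ W := by
  rw [← H.thF_eq_one (S.mul_mem (S.inv_mem hx) hy), thF_mul θ (S.inv_mem hx) hy, thF_inv θ hx,
    inv_mul_eq_one]

theorem CLift.fixW {P : Subgroup Ω} {f : Ω → Ω} (hf : IsMor F P f) {w : Ω} (hw : w ∈ W)
    (hwP : w ∈ P) : f w = w := by
  obtain ⟨g, hg, hgf, hgW⟩ := (isCentral_iff.mp H.hW).2 P f hf
  rw [← hgf w hwP, hgW w hw]

theorem CLift.wClosed : F.StronglyClosed W :=
  stronglyClosed_iff.mpr ⟨H.hWS, fun _ _ hf x hxP hxW => (H.fixW hf hxW hxP).symm ▸ hxW⟩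

theorem CLift.range_eq : θ.range = S' := H.hfac.2.2.1

theorem CLift.thF_mem {x : Ω} (hx : x ∈ S) : thF θ x ∈ S' := by
  rw [thF_of_mem θ hx, ← H.range_eq]
  exact ⟨_, rfl⟩

theorem CLift.exists_thF {y : Ω'} (hy : y ∈ S') : ∃ x ∈ S, thF θ x = y := by
  obtain ⟨x, rfl⟩ := H.range_eq.ge hy
  exact ⟨x, x.2, thF_of_mem θ x.2⟩

theorem CLift.T'_le : T' ≤ S' := H.hE.1.2.2.2.1.1

theorem CLift.finite_S' : Finite S' := by
  rw [← H.range_eq]
  exact Finite.of_surjective _ θ.rangeRestrict_surjective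

theorem CLift.isPGroup_S' : IsPGroup p S' := by
  rw [← H.range_eq]
  exact H.hS.of_surjective _ θ.rangeRestrict_surjective

theorem CLift.fbar_saturated : Fbar.IsSaturated p := H.hE.1.2.1

theorem CLift.ebar_saturated : Ebar.IsSaturated p := H.hE.1.1

theorem CLift.ebar_sub : Ebar.IsSubsystemOf Fbar := H.hE.1.2.2.1

theorem CLift.T'_closed : Fbar.StronglyClosed T' := H.hE.1.2.2.2.1

theorem CLift.strongInv : StrongInv Ebar Fbar :=
  have := H.finite_S'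
  strongInv_of_isNormalIn H.isPGroup_S' H.fbar_saturated H.hE

theorem CLift.top_le : liftTop θ T' ≤ S := preimageAlong_le _

theorem CLift.le_top_W : W ≤ liftTop θ T' :=
  le_preimageAlong H.hfac.2.1 H.hWS _

theorem CLift.isPGroup_T' : IsPGroup p T' := isPGroup_of_le H.T'_le H.isPGroup_S'

theorem CLift.finite_T' : Finite T' := have := H.finite_S'; finite_of_le H.T'_le

theorem CLift.pre_image {P : Subgroup Ω} (hW : W ≤ P) (hP : P ≤ S) :
    preimageAlong θ (imageAlong θ P) = P := by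
  rw [preimage_image H.hfac.2.1 H.hWS hP, sup_eq_left.mpr hW]

theorem CLift.image_pre {P' : Subgroup Ω'} (hP' : P' ≤ S') :
    imageAlong θ (preimageAlong θ P') = P' := by
  ext y
  rw [mem_imageAlong_thF θ (preimageAlong_le _)]
  refine ⟨fun ⟨x, hx, e⟩ => e ▸ ((mem_preimageAlong_thF θ).mp hx).2, fun hy => ?_⟩
  obtain ⟨x, hx, rfl⟩ := H.exists_thF (hP' hy)
  exact ⟨x, (mem_preimageAlong_thF θ).mpr ⟨hx, hy⟩, rfl⟩

theorem CLift.W_le_pre (P' : Subgroup Ω') : W ≤ preimageAlong θ P' :=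
  le_preimageAlong H.hfac.2.1 H.hWS P'

theorem CLift.mem_of_thF {P : Subgroup Ω} (hW : W ≤ P) (hP : P ≤ S) {x : Ω} (hx : x ∈ S)
    (h : thF θ x ∈ imageAlong θ P) : x ∈ P :=
  (H.pre_image hW hP).le ((mem_preimageAlong_thF θ).mpr ⟨hx, h⟩)

/-- A map of `F` on a subgroup containing `W` induces a map of the factor system. -/
theorem CLift.push {P : Subgroup Ω} {g : Ω → Ω} (hg : IsMor F P g) (hW : W ≤ P) :
    ∃ g', IsMor Fbar (imageAlong θ P) g' ∧ ∀ x ∈ P, g' (thF θ x) = thF θ (g x) := by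
  obtain ⟨g', hg', e⟩ := factor_push (g := g) H.hfac H.wClosed
    ((imageAlong_le_range P).trans H.range_eq.le) (by rw [H.pre_image hW hg.le]; exact hg)
  refine ⟨g', hg', fun x hx => ?_⟩
  have h1 : θ ⟨x, hg.le hx⟩ ∈ imageAlong θ P := ⟨⟨x, hg.le hx⟩, hx, rfl⟩
  rw [thF_of_mem θ (hg.le hx), thF_of_mem θ (hg.mem hx)]
  exact e ⟨x, hg.le hx⟩ (hg.mem hx) h1

/-- A map of the factor system lifts to the preimage of its source. -/
theorem CLift.lift {P' : Subgroup Ω'} {f' : Ω' → Ω'} (hf : IsMor Fbar P' f') :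
    ∃ g, IsMor F (preimageAlong θ P') g ∧
      ∀ x ∈ preimageAlong θ P', f' (thF θ x) = thF θ (g x) := by
  obtain ⟨g, hg, e⟩ := factor_lift H.hfac hf
  refine ⟨g, hg, fun x hx => ?_⟩
  obtain ⟨hxS, hx'⟩ := mem_preimageAlong.mp hx
  rw [thF_of_mem θ hxS, thF_of_mem θ (hg.mem hx)]
  exact e ⟨x, hxS⟩ (hg.mem hx) hx'

/-- The image of an image. -/
theorem CLift.img_image {P : Subgroup Ω} {g : Ω → Ω} {g' : Ω' → Ω'} (hg : IsMor F P g)
    (hg' : IsMor Fbar (imageAlong θ P) g') (e : ∀ x ∈ P, g' (thF θ x) = thF θ (g x)) :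
    img (imageAlong θ P) g' = imageAlong θ (img P g) := by
  ext y
  rw [hg'.mem_img, mem_imageAlong_thF θ hg.img_le]
  constructor
  · rintro ⟨z, hz, rfl⟩
    obtain ⟨x, hx, rfl⟩ := (mem_imageAlong_thF θ hg.le).mp hz
    exact ⟨g x, mem_img_of_mem g hx, (e x hx).symm⟩
  · rintro ⟨z, hz, rfl⟩
    obtain ⟨x, hx, rfl⟩ := hg.mem_img.mp hz
    exact ⟨thF θ x, thF_mem_imageAlong θ hg.le hx, e x hx⟩

theorem CLift.W_le_img {P : Subgroup Ω} {g : Ω → Ω} (hg : IsMor F P g) (hW : W ≤ P) :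
    W ≤ img P g := fun w hw => H.fixW hg hw (hW hw) ▸ mem_img_of_mem g (hW hw)

theorem CLift.image_le_T' {P : Subgroup Ω} (hP : P ≤ liftTop θ T') : imageAlong θ P ≤ T' := by
  intro y hy
  obtain ⟨x, hx, rfl⟩ := (mem_imageAlong_thF θ (hP.trans H.top_le)).mp hy
  exact ((mem_preimageAlong_thF θ).mp (hP hx)).2

theorem CLift.top_closed : F.StronglyClosed (liftTop θ T') := by
  refine stronglyClosed_iff.mpr ⟨H.top_le, fun P f hf x hxP hxT => ?_⟩
  obtain ⟨g, hg, hgf, -⟩ := (isCentral_iff.mp H.hW).2 P f hf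
  obtain ⟨g', hg', e⟩ := H.push hg le_sup_right
  refine (mem_preimageAlong_thF θ).mpr ⟨hf.mem hxP, ?_⟩
  have hx : x ∈ P ⊔ W := Subgroup.mem_sup_left hxP
  rw [← hgf x hxP, ← e x hx]
  exact (stronglyClosed_iff.mp H.T'_closed).2 _ g' hg' _ (thF_mem_imageAlong θ hg.le hx)
    ((mem_preimageAlong_thF θ).mp hxT).2

theorem CLift.top_normalizes {s x : Ω} (hs : s ∈ S) (hx : x ∈ liftTop θ T') :
    cj s x ∈ liftTop θ T' :=
  (stronglyClosed_iff.mp H.top_closed).2 _ (cj s) (isMor_cj F le_rfl hs) x (H.top_le hx) hx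

theorem CLift.lifts_id {P : Subgroup Ω} (hW : W ≤ P) (hP : P ≤ liftTop θ T') :
    Lifts F W θ Ebar P id :=
  ⟨hW, hP, isMor_id F (hP.trans H.top_le), id, isMor_id Ebar (H.image_le_T' hP), fun _ _ => rfl⟩

theorem CLift.lifts_cj {P : Subgroup Ω} (hW : W ≤ P) (hP : P ≤ liftTop θ T') {t : Ω}
    (ht : t ∈ liftTop θ T') : Lifts F W θ Ebar P (cj t) := by
  obtain ⟨htS, ht'⟩ := (mem_preimageAlong_thF θ).mp ht
  exact ⟨hW, hP, isMor_cj F (hP.trans H.top_le) htS, cj (thF θ t),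
    isMor_cj Ebar (H.image_le_T' hP) ht', fun x hx => (thF_cj θ htS (H.top_le (hP hx))).symm⟩

theorem CLift.lifts_comp {P R : Subgroup Ω} {f g : Ω → Ω} (hf : Lifts F W θ Ebar P f)
    (hg : Lifts F W θ Ebar R g) (h : ∀ x ∈ P, f x ∈ R) : Lifts F W θ Ebar P (g ∘ f) := by
  obtain ⟨hW, hP, hfm, f', hf', hfe⟩ := hf
  obtain ⟨-, hR, hgm, g', hg', hge⟩ := hg
  refine ⟨hW, hP, hfm.comp hgm h, g' ∘ f', hf'.comp hg' fun y hy => ?_, fun x hx => ?_⟩
  · obtain ⟨x, hx, rfl⟩ := (mem_imageAlong_thF θ hfm.le).mp hy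
    rw [hfe x hx]
    exact thF_mem_imageAlong θ hgm.le (h x hx)
  · rw [Function.comp_apply, hfe x hx, hge _ (h x hx)]
    rfl

theorem CLift.lifts_inverse {P : Subgroup Ω} {f g : Ω → Ω} (hf : Lifts F W θ Ebar P f)
    (hg : IsMor F (img P f) g) (hgl : ∀ x ∈ P, g (f x) = x) :
    Lifts F W θ Ebar (img P f) g := by
  obtain ⟨hW, hP, hfm, f', hf', hfe⟩ := id hf
  obtain ⟨k, hk, hkl, -, -⟩ := hf'.inverse
  have hi : img (imageAlong θ P) f' = imageAlong θ (img P f) :=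
    H.img_image hfm (le_iff_isMor.mp H.ebar_sub _ _ hf') hfe
  rw [hi] at hk
  refine ⟨H.W_le_img hfm hW, img_le fun x hx => hf.mem_top hx, hg, k, hk, fun y hy => ?_⟩
  obtain ⟨x, hx, rfl⟩ := hfm.mem_img.mp hy
  rw [← hfe x hx, hkl _ (thF_mem_imageAlong θ hfm.le hx), hgl x hx]

theorem CLift.lifts_of_congr_mod {P : Subgroup Ω} {f g : Ω → Ω} (hf : Lifts F W θ Ebar P f)
    (hg : IsMor F P g) (e : ∀ x ∈ P, thF θ (g x) = thF θ (f x)) : Lifts F W θ Ebar P g := by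
  obtain ⟨hW, hP, -, f', hf', hfe⟩ := hf
  exact ⟨hW, hP, hg, f', hf', fun x hx => by rw [hfe x hx, e x hx]⟩

/-- Invariance: a map of `F` transports lifting maps to lifting maps. -/
theorem CLift.lifts_transport {P Q : Subgroup Ω} {f g : Ω → Ω} (hf : Lifts F W θ Ebar P f)
    (hPQ : P ≤ Q) (hQ : Q ≤ liftTop θ T') (hfQ : ∀ x ∈ P, f x ∈ Q) (hg : IsMor F Q g) :
    ∃ k, Lifts F W θ Ebar (img P g) k ∧ ∀ x ∈ P, k (g x) = g (f x) := by
  obtain ⟨hW, hP, hfm, f', hf', hfe⟩ := id hf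
  have hWQ := hW.trans hPQ
  obtain ⟨g', hg', hge⟩ := H.push hg hWQ
  have hfQ' : ∀ y ∈ imageAlong θ P, f' y ∈ imageAlong θ Q := fun y hy => by
    obtain ⟨x, hx, rfl⟩ := (mem_imageAlong_thF θ hfm.le).mp hy
    rw [hfe x hx]
    exact thF_mem_imageAlong θ hg.le (hfQ x hx)
  obtain ⟨k', hk', hke⟩ := H.strongInv _ _ f' g' (imageAlong_mono θ hPQ)
    (H.image_le_T' hQ) hf' hfQ' hg'
  obtain ⟨gi, hgi, hgl, -, -⟩ := (hg.restrict hPQ).inverse
  have h1 : ∀ y ∈ img P g, f (gi y) ∈ Q := fun y hy => by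
    obtain ⟨x, hx, rfl⟩ := (hg.restrict hPQ).mem_img.mp hy
    rw [hgl x hx]
    exact hfQ x hx
  have h2 : ∀ y ∈ img P g, gi y ∈ P := fun y hy => by
    obtain ⟨x, hx, rfl⟩ := (hg.restrict hPQ).mem_img.mp hy
    rw [hgl x hx]
    exact hx
  have hk : IsMor F (img P g) (g ∘ (f ∘ gi)) := (hgi.comp hfm h2).comp hg h1
  have hval : ∀ x ∈ P, (g ∘ (f ∘ gi)) (g x) = g (f x) := fun x hx => by
    rw [Function.comp_apply, Function.comp_apply, hgl x hx]
  have hi : img (imageAlong θ P) g' = imageAlong θ (img P g) :=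
    H.img_image (hg.restrict hPQ) (hg'.restrict (imageAlong_mono θ hPQ))
      fun x hx => hge x (hPQ hx)
  rw [hi] at hk'
  refine ⟨g ∘ (f ∘ gi), ⟨H.W_le_img (hg.restrict hPQ) hW, img_le fun x hx =>
    (stronglyClosed_iff.mp H.top_closed).2 Q g hg x (hPQ hx) (hP hx), hk, k', hk',
    fun y hy => ?_⟩, hval⟩
  obtain ⟨x, hx, rfl⟩ := (hg.restrict hPQ).mem_img.mp hy
  rw [← hge x (hPQ hx), hke _ (thF_mem_imageAlong θ hfm.le hx), hfe x hx, hge _ (hfQ x hx),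
    hval x hx]

end

end CfsgLib.Fusion
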