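import Mathlib
import Cfsg.Agent.Lib.Fusion.CentralLiftBasic
import Cfsg.Agent.Lib.Fusion.NormalLabel
import Cfsg.Agent.Lib.Fusion.CentralExtension

/-!
# Automorphism groups attached to a central lift
-/

set_option autoImplicit false
set_option linter.unusedSectionVars false

namespace CfsgLib.Fusion

open Cfsg Cfsg.FusionSystem

variable {Ω Ω' : Type*} [Group Ω] [Group Ω'] {S : Subgroup Ω} [Finite S]
  {F : FusionSystem S} {W : Subgroup Ω} {θ : S →* Ω'} {S' : Subgroup Ω'}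
  {Fbar : FusionSystem S'} {T' : Subgroup Ω'} {Ebar : FusionSystem T'} {p : ℕ} [hp : Fact p.Prime]
  {P : Subgroup Ω}

/-- A group element whose powers `a`, `b` land in a subgroup, `a` and `b` coprime, lies there. -/
theorem mem_of_coprime_pow {M : Type*} [Group M] {C : Subgroup M} {x : M} {a b : ℕ}
    (h : Nat.Coprime a b) (ha : x ^ a ∈ C) (hb : x ^ b ∈ C) : x ∈ C := by
  have e : (1 : ℤ) = (a : ℤ) * Nat.gcdA a b + (b : ℤ) * Nat.gcdB a b := by
    rw [← Nat.gcd_eq_gcd_ab, h]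
    rfl
  rw [← zpow_one x, e, zpow_add, zpow_mul, zpow_mul, zpow_natCast, zpow_natCast]
  exact C.mul_mem (C.zpow_mem ha _) (C.zpow_mem hb _)

/-- A power fixing `a` of order prime to `p` makes the order of `b` prime to `p`. -/
theorem exists_pow_fix {G H : Type*} [Group G] [Group H] [Finite H] (a : G) (b : H)
    (ha : (orderOf a).Coprime p) : ∃ m, a ^ m = a ∧ (orderOf (b ^ m)).Coprime p := by
  obtain ⟨i, r, hr, hor⟩ :=
    Nat.exists_eq_pow_mul_and_not_dvd (orderOf_pos b).ne' p hp.out.ne_one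
  obtain ⟨m, hm1, hm2⟩ := Nat.chineseRemainder (ha.pow_right i) 1 0
  refine ⟨m, (pow_eq_pow_iff_modEq.mpr hm1).trans (pow_one _), ?_⟩
  refine Nat.Coprime.coprime_dvd_left (orderOf_dvd_of_pow_eq_one ?_)
    ((Nat.Prime.coprime_iff_not_dvd hp.out).mpr hr).symm
  rw [← pow_mul, ← orderOf_dvd_iff_pow_eq_one, hor]
  exact Nat.mul_dvd_mul_right (Nat.modEq_zero_iff_dvd.mp hm2) r

/-- The automorphisms in `F` that are trivial modulo the kernel of `θ`. -/
def kerMod (F : FusionSystem S) (θ : S →* Ω') (P : Subgroup Ω) : Subgroup (MulAut P) where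
  carrier := {α | α ∈ F.autGroup P ∧ ∀ x ∈ P, thF θ (autFun α x) = thF θ x}
  one_mem' := ⟨one_mem _, fun x hx => by rw [autFun_one hx]⟩
  mul_mem' := by
    rintro a b ⟨ha, ha'⟩ ⟨hb, hb'⟩
    refine ⟨Subgroup.mul_mem _ ha hb, fun x hx => ?_⟩
    rw [autFun_mul a b hx, ha' _ (autFun_mem b hx), hb' x hx]
  inv_mem' := by
    rintro a ⟨ha, ha'⟩
    refine ⟨Subgroup.inv_mem _ ha, fun x hx => ?_⟩
    conv_rhs => rw [← autFun_inv_right a hx, ha' _ (autFun_mem a⁻¹ hx)]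

theorem mem_kerMod {α : MulAut P} :
    α ∈ kerMod F θ P ↔ α ∈ F.autGroup P ∧ ∀ x ∈ P, thF θ (autFun α x) = thF θ x := Iff.rfl

/-- The centric family of the lift. -/
def HCl (W : Subgroup Ω) (θ : S →* Ω') (Ebar : FusionSystem T') (P : Subgroup Ω) : Prop :=
  W ≤ P ∧ P ≤ liftTop θ T' ∧ Ebar.IsCentric (imageAlong θ P)

theorem thF_normalizer [Finite P] (θ : S →* Ω') (hP : P ≤ S) {x : Ω} (hx : x ∈ S)
    (hn : x ∈ Subgroup.normalizer (P : Set Ω)) :
    thF θ x ∈ Subgroup.normalizer ((imageAlong θ P : Subgroup Ω') : Set Ω') := by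
  have : Finite ↥(imageAlong θ P) := by
    refine Finite.of_surjective (fun y : P => (⟨thF θ y, thF_mem_imageAlong θ hP y.2⟩ :
      ↥(imageAlong θ P))) fun z => ?_
    obtain ⟨y, hy, e⟩ := (mem_imageAlong_thF θ hP).mp z.2
    exact ⟨⟨y, hy⟩, Subtype.ext e⟩
  refine Subgroup.mem_normalizer_fintype fun z hz => ?_
  obtain ⟨y, hy, rfl⟩ := (mem_imageAlong_thF θ hP).mp hz
  exact (mem_imageAlong_thF θ hP).mpr
    ⟨cj x y, (Subgroup.mem_normalizer_iff.mp hn y).mp hy, thF_cj θ hx (hP hy)⟩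

section

variable (H : CLift F W θ Fbar Ebar p)

include H

/-- The automorphisms in `F` inducing automorphisms in `Ebar`. -/
def CLift.X (P : Subgroup Ω) : Subgroup (MulAut P) where
  carrier := {α | α ∈ F.autGroup P ∧
    (W ≤ P → P ≤ liftTop θ T' → Lifts F W θ Ebar P (autFun α))}
  one_mem' := ⟨one_mem _, fun hW hP =>
    (H.lifts_id hW hP).congr fun x hx => (autFun_one hx).symm⟩
  mul_mem' := by
    rintro a b ⟨ha, ha'⟩ ⟨hb, hb'⟩
    refine ⟨Subgroup.mul_mem _ ha hb, fun hW hP => ?_⟩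
    exact (H.lifts_comp (hb' hW hP) (ha' hW hP) fun x hx => autFun_mem b hx).congr
      fun x hx => (autFun_mul a b hx).symm
  inv_mem' := by
    rintro a ⟨ha, ha'⟩
    refine ⟨Subgroup.inv_mem _ ha, fun hW hP => ?_⟩
    have hPS := hP.trans H.top_le
    have h := H.lifts_inverse (ha' hW hP) (g := autFun a⁻¹)
      (by rw [img_autFun]; exact isMor_autFun hPS (Subgroup.inv_mem _ ha))
      fun x hx => autFun_inv_left a hx
    rwa [img_autFun] at h

theorem CLift.mem_X {α : MulAut P} (hW : W ≤ P) (hP : P ≤ liftTop θ T') :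
    α ∈ H.X P ↔ α ∈ F.autGroup P ∧ Lifts F W θ Ebar P (autFun α) :=
  ⟨fun h => ⟨h.1, h.2 hW hP⟩, fun h => ⟨h.1, fun _ _ => h.2⟩⟩

theorem CLift.mem_X_of_lifts {α : MulAut P} (h : Lifts F W θ Ebar P (autFun α)) : α ∈ H.X P :=
  (H.mem_X h.1 h.2.1).mpr ⟨(autGroup_eq_set h.isMor.le α).mpr h.isMor, h⟩

theorem CLift.X_le (P : Subgroup Ω) : H.X P ≤ F.autGroup P := fun _ h => h.1

theorem CLift.X_conj (hW : W ≤ P) (hP : P ≤ liftTop θ T') {a x : MulAut P}
    (ha : a ∈ F.autGroup P) (hx : x ∈ H.X P) : a * x * a⁻¹ ∈ H.X P := by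
  have hPS := hP.trans H.top_le
  obtain ⟨k, hk, hke⟩ := H.lifts_transport (hx.2 hW hP) le_rfl hP
    (fun y hy => autFun_mem x hy) (isMor_autFun hPS ha)
  rw [img_autFun] at hk
  refine H.mem_X_of_lifts (hk.congr fun y hy => ?_)
  conv_lhs => rw [← autFun_inv_right a hy]
  rw [hke _ (autFun_mem a⁻¹ hy), autFun_mul _ _ hy, autFun_mul _ _ (autFun_mem a⁻¹ hy)]

theorem CLift.kerMod_le_X (hW : W ≤ P) (hP : P ≤ liftTop θ T') : kerMod F θ P ≤ H.X P :=
  fun α hα => H.mem_X_of_lifts (H.lifts_of_congr_mod (H.lifts_id hW hP)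
    (isMor_autFun (hP.trans H.top_le) hα.1) fun x hx => hα.2 x hx)

theorem CLift.kerMod_conj (hW : W ≤ P) (hP : P ≤ S) {a k : MulAut P} (ha : a ∈ F.autGroup P)
    (hk : k ∈ kerMod F θ P) : a * k * a⁻¹ ∈ kerMod F θ P := by
  refine ⟨Subgroup.mul_mem _ (Subgroup.mul_mem _ ha hk.1) (Subgroup.inv_mem _ ha), fun x hx => ?_⟩
  obtain ⟨a', ha', hae⟩ := H.push (isMor_autFun hP ha) hW
  have hy := autFun_mem a⁻¹ hx
  rw [autFun_mul _ _ hx, autFun_mul _ _ hy, ← hae _ (autFun_mem k hy), hk.2 _ hy, hae _ hy,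
    autFun_inv_right a hx]

theorem CLift.commW {w x : Ω} (hw : w ∈ W) (hx : x ∈ S) : x * w = w * x :=
  F.center_le_centralizer (le_center H.hW hw) x hx

theorem CLift.kerMod_diff (hP : P ≤ S) {k : MulAut P} (hk : k ∈ kerMod F θ P) {x : Ω}
    (hx : x ∈ P) : x⁻¹ * autFun k x ∈ W :=
  (H.thF_eq_iff (hP hx) (hP (autFun_mem k hx))).mp (hk.2 x hx).symm

theorem CLift.kerMod_fix (hP : P ≤ S) {k : MulAut P} (hk : k ∈ kerMod F θ P) {w : Ω}
    (hw : w ∈ W) (hwP : w ∈ P) : autFun k w = w :=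
  H.fixW (isMor_autFun hP hk.1) hw hwP

theorem CLift.kerMod_comm (hW : W ≤ P) (hP : P ≤ S) {j k : MulAut P} (hj : j ∈ kerMod F θ P)
    (hk : k ∈ kerMod F θ P) : j * k = k * j := by
  refine autFun_inj fun x hx => ?_
  have h1 := H.kerMod_diff hP hj hx
  have h2 := H.kerMod_diff hP hk hx
  rw [autFun_mul _ _ hx, autFun_mul _ _ hx]
  calc autFun j (autFun k x) = autFun j (x * (x⁻¹ * autFun k x)) := by rw [mul_inv_cancel_left]
    _ = x * (x⁻¹ * autFun j x) * (x⁻¹ * autFun k x) := by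
      rw [autFun_map_mul j hx (hW h2), H.kerMod_fix hP hj h2 (hW h2), mul_inv_cancel_left]
    _ = x * (x⁻¹ * autFun k x) * (x⁻¹ * autFun j x) := by
      rw [mul_assoc, mul_assoc x (x⁻¹ * autFun k x), H.commW h2 (H.hWS h1)]
    _ = autFun k (x * (x⁻¹ * autFun j x)) := by
      rw [autFun_map_mul k hx (hW h1), H.kerMod_fix hP hk h1 (hW h1), mul_inv_cancel_left x (autFun k x)]
    _ = autFun k (autFun j x) := by rw [mul_inv_cancel_left]

theorem CLift.kerMod_isPGroup (hW : W ≤ P) (hP : P ≤ S) : IsPGroup p (kerMod F θ P) := by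
  have : Finite W := finite_of_le H.hWS
  obtain ⟨n, hn⟩ := IsPGroup.iff_card.mp (isPGroup_of_le H.hWS H.hS)
  rintro ⟨k, hk⟩
  refine ⟨n, Subtype.ext ?_⟩
  rw [SubgroupClass.coe_pow, Subgroup.coe_one]
  refine autFun_inj fun x hx => ?_
  rw [← hn, autFun_pow_card (N := P) (U := W) hW (fun w hw => H.kerMod_fix hP hk hw (hW hw)) hx
    (H.kerMod_diff hP hk hx), autFun_one hx]

theorem CLift.hcl_mono {R : Subgroup Ω} (h : HCl W θ Ebar P) (hPR : P ≤ R)
    (hR : R ≤ liftTop θ T') : HCl W θ Ebar R :=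
  ⟨h.1.trans hPR, hR, centric_mono h.2.2 (imageAlong_mono θ hPR) (H.image_le_T' hR)⟩

theorem CLift.hcl_img {g : Ω → Ω} (h : HCl W θ Ebar P) (hg : IsMor F P g) :
    HCl W θ Ebar (img P g) := by
  obtain ⟨g', hg', e⟩ := H.push hg h.1
  have := H.finite_S'
  have h1 : Ebar.IsCentric (img (imageAlong θ P) g') := centric_img_of_invariant H.isPGroup_S'
    H.fbar_saturated H.ebar_sub H.T'_closed H.strongInv h.2.2 hg'
  rw [H.img_image hg hg' e] at h1
  exact ⟨H.W_le_img hg h.1, img_le fun x hx =>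
    (stronglyClosed_iff.mp H.top_closed).2 P g hg x hx (h.2.1 hx), h1⟩

theorem CLift.hcl_top : HCl W θ Ebar (liftTop θ T') := by
  refine ⟨H.le_top_W, le_rfl, ?_⟩
  rw [liftTop, H.image_pre H.T'_le]
  have := H.finite_T'
  exact centric_self Ebar

theorem CLift.mem_of_centralizing_mod (h : HCl W θ Ebar P) {t : Ω} (ht : t ∈ liftTop θ T')
    (hc : ∀ x ∈ P, thF θ (cj t x) = thF θ x) : t ∈ P := by
  have hPS := h.2.1.trans H.top_le
  obtain ⟨htS, ht'⟩ := (mem_preimageAlong_thF θ).mp ht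
  refine H.mem_of_thF h.1 hPS htS (centric_centralizer_le h.2.2 (mem_centralizerIn.mpr
    ⟨ht', fun y hy => ?_⟩))
  obtain ⟨x, hx, rfl⟩ := (mem_imageAlong_thF θ hPS).mp hy
  rw [← thF_cj θ htS (hPS hx), hc x hx]

theorem CLift.ker_inf_autT (h : HCl W θ Ebar P) :
    kerMod F θ P ⊓ autInducedBy (liftTop θ T') P ≤ Inn P := by
  rintro α ⟨hk, ha⟩
  obtain ⟨t, ht, -, e⟩ := mem_autInducedBy.mp ha
  refine mem_inn.mpr ⟨t, H.mem_of_centralizing_mod h ht fun x hx => ?_, e⟩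
  rw [← e x hx, hk.2 x hx]

theorem CLift.autT_le_X (hW : W ≤ P) (hP : P ≤ liftTop θ T') :
    autInducedBy (liftTop θ T') P ≤ H.X P := by
  intro α hα
  obtain ⟨t, ht, -, e⟩ := mem_autInducedBy.mp hα
  exact H.mem_X_of_lifts ((H.lifts_cj hW hP ht).congr fun x hx => (e x hx).symm)

theorem CLift.inn_le_autT (hP : P ≤ liftTop θ T') :
    Inn P ≤ autInducedBy (liftTop θ T') P := by
  intro α hα
  obtain ⟨g, hg, e⟩ := mem_inn.mp hα
  exact mem_autInducedBy.mpr ⟨g, hP hg, Subgroup.le_normalizer hg, e⟩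

/-- The image of a fully normalized subgroup is fully normalized in `Ebar`. -/
theorem CLift.ebar_fullyNormalized (hW : W ≤ P) (hP : P ≤ liftTop θ T')
    (hPn : F.IsFullyNormalized P) : Ebar.IsFullyNormalized (imageAlong θ P) := by
  have hPS := hP.trans H.top_le
  have := H.finite_S'
  refine ⟨H.image_le_T' hP, fun A' hA => ?_⟩
  obtain ⟨f', hf', rfl⟩ := isConj_iff.mp hA
  obtain ⟨g, hg, hge⟩ := H.lift (le_iff_isMor.mp H.ebar_sub _ _ hf')
  rw [H.pre_image hW hPS] at hg hge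
  have hA' : img (imageAlong θ P) f' = imageAlong θ (img P g) :=
    H.img_image hg (le_iff_isMor.mp H.ebar_sub _ _ hf') hge
  set A := img P g with hAdef
  have hWA : W ≤ A := H.W_le_img hg hW
  have hAS : A ≤ S := hg.img_le
  have : Finite A := finite_of_le hAS
  obtain ⟨h, hh, hhi, hhN⟩ := exists_map_fullyNormalized H.hS H.hF hPn
    (isConj_symm (isConj_iff.mpr ⟨g, hg, rfl⟩))
  obtain ⟨h', hh', hhe⟩ := H.push hh (hWA.trans (le_normalizerIn hAS))
  have hsub : normalizerIn T' (imageAlong θ A) ≤ imageAlong θ (normalizerIn S A) := by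
    intro y hy
    obtain ⟨hyT, hyn⟩ := mem_normalizerIn.mp hy
    obtain ⟨x, hx, rfl⟩ := H.exists_thF (H.T'_le hyT)
    refine thF_mem_imageAlong θ normalizerIn_le (mem_normalizerIn.mpr ⟨hx, ?_⟩)
    refine Subgroup.mem_normalizer_fintype fun a ha => ?_
    refine H.mem_of_thF hWA hAS (S.mul_mem (S.mul_mem hx (hAS ha)) (S.inv_mem hx)) ?_
    show thF θ (cj x a) ∈ _
    rw [thF_cj θ hx (hAS ha)]
    exact (Subgroup.mem_normalizer_iff.mp hyn _).mp (thF_mem_imageAlong θ hAS ha)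
  rw [hA']
  refine card_le_of_img_le (hh'.restrict hsub) (normalizerIn_le.trans H.T'_le) (img_le fun y hy => ?_)
  refine mem_normalizerIn.mpr
    ⟨(stronglyClosed_iff.mp H.T'_closed).2 _ h' hh' y (hsub hy) (mem_normalizerIn.mp hy).1, ?_⟩
  obtain ⟨x, hx, rfl⟩ := (mem_imageAlong_thF θ normalizerIn_le).mp (hsub hy)
  rw [hhe x hx]
  have : Finite P := finite_of_le hPS
  exact thF_normalizer θ hPS (hh.mem hx) (mem_normalizerIn.mp (hhN (mem_img_of_mem h hx))).2

theorem CLift.kerMod_le_autS (hW : W ≤ P) (hP : P ≤ S) (hPn : F.IsFullyNormalized P) :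
    kerMod F θ P ≤ autInducedBy S P := by
  have := finite_mulAut hP
  exact (isFullyAutomized_iff.mp (isFullyAutomized_of_normalized H.hS H.hF hPn).1).2.le_of_normal
    (H.kerMod_isPGroup hW hP) (fun k hk => hk.1) fun a ha k hk => H.kerMod_conj hW hP ha hk

/-- An element of `X` induced by `S` is induced by `T` modulo `kerMod`. -/
theorem CLift.exists_autT_mul (h : HCl W θ Ebar P) (hPn : F.IsFullyNormalized P) {α : MulAut P}
    (hα : α ∈ H.X P) (hαS : α ∈ autInducedBy S P) :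
    ∃ c ∈ autInducedBy (liftTop θ T') P, c⁻¹ * α ∈ kerMod F θ P := by
  obtain ⟨hW, hP, hPc⟩ := h
  have hPS := hP.trans H.top_le
  have := H.finite_S'
  have := H.finite_T'
  have : Finite P := finite_of_le hPS
  have := finite_mulAut (P := imageAlong θ P) ((H.image_le_T' hP).trans H.T'_le)
  obtain ⟨s, hs, hsn, hse⟩ := mem_autInducedBy.mp hαS
  obtain ⟨-, -, hαm, f', hf', hfe⟩ := hα.2 hW hP
  obtain ⟨β, hβ, hβe⟩ := exists_autInducedBy (P := imageAlong θ P) (H.thF_mem hs)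
    (thF_normalizer θ hPS hs hsn)
  have hβE : β ∈ Ebar.autGroup (imageAlong θ P) := by
    refine (autGroup_eq_set (H.image_le_T' hP) β).mpr (hf'.congr fun y hy => ?_)
    obtain ⟨x, hx, rfl⟩ := (mem_imageAlong_thF θ hPS).mp hy
    rw [hfe x hx, hse x hx, hβe _ hy, thF_cj θ hs (hPS hx)]
  have hsyl := (isFullyAutomized_iff.mp (isFullyAutomized_of_normalized H.isPGroup_T'
    H.ebar_saturated (H.ebar_fullyNormalized hW hP hPn)).1).2
  have hB : Ebar.autGroup (imageAlong θ P) ⊓ autInducedBy S' (imageAlong θ P) =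
      autInducedBy T' (imageAlong θ P) := by
    refine hsyl.2.2 _ (isPGroup_of_le inf_le_right (isPGroup_autInducedBy H.isPGroup_S'))
      (le_inf hsyl.1 fun γ hγ => ?_) inf_le_left
    obtain ⟨t, ht, htn, hte⟩ := mem_autInducedBy.mp hγ
    exact mem_autInducedBy.mpr ⟨t, H.T'_le ht, htn, hte⟩
  obtain ⟨t', ht', htn', hte⟩ := mem_autInducedBy.mp (hB.le ⟨hβE, hβ⟩)
  obtain ⟨t, htS, rfl⟩ := H.exists_thF (H.T'_le ht')
  have htT : t ∈ liftTop θ T' := (mem_preimageAlong_thF θ).mpr ⟨htS, ht'⟩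
  have htn : t ∈ Subgroup.normalizer (P : Set Ω) := by
    refine Subgroup.mem_normalizer_fintype fun a ha => ?_
    refine H.mem_of_thF hW hPS (S.mul_mem (S.mul_mem htS (hPS ha)) (S.inv_mem htS)) ?_
    show thF θ (cj t a) ∈ _
    rw [thF_cj θ htS (hPS ha)]
    exact (Subgroup.mem_normalizer_iff.mp htn' _).mp (thF_mem_imageAlong θ hPS ha)
  obtain ⟨c, hc, hce⟩ := exists_autInducedBy htT htn
  have hcF : c ∈ F.autGroup P := H.X_le P (H.autT_le_X hW hP hc)
  refine ⟨c, hc, Subgroup.mul_mem _ (Subgroup.inv_mem _ hcF) hα.1, fun x hx => ?_⟩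
  have hci : ∀ y ∈ P, autFun c⁻¹ y = cj t⁻¹ y := fun y hy => by
    conv_rhs => rw [← autFun_inv_right c hy, hce _ (autFun_mem c⁻¹ hy), cj_inv_cj]
  have hy := autFun_mem α hx
  rw [autFun_mul _ _ hx, hci _ hy, thF_cj θ (S.inv_mem htS) (hPS hy), thF_inv θ htS,
    hse x hx, thF_cj θ hs (hPS hx), ← hβe _ (thF_mem_imageAlong θ hPS hx),
    hte _ (thF_mem_imageAlong θ hPS hx), cj_inv_cj]

end

end CfsgLib.Fusion
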