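import Mathlib
import Cfsg.Agent.Lib.Fusion.CentralLiftGroups

/-!
# Extensions of lifting automorphisms and transport between conjugate subgroups
-/

set_option autoImplicit false
set_option linter.unusedSectionVars false

namespace CfsgLib.Fusion

open Cfsg Cfsg.FusionSystem

variable {Ω Ω' : Type*} [Group Ω] [Group Ω'] {S : Subgroup Ω} [Finite S]
  {F : FusionSystem S} {W : Subgroup Ω} {θ : S →* Ω'} {S' : Subgroup Ω'}
  {Fbar : FusionSystem S'} {T' : Subgroup Ω'} {Ebar : FusionSystem T'} {p : ℕ} [hp : Fact p.Prime]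
  {P : Subgroup Ω}

/-- The elements of `N_S(P)` centralizing `P` modulo the kernel of `θ`. -/
def cMod (S : Subgroup Ω) (θ : S →* Ω') (P : Subgroup Ω) : Subgroup Ω where
  carrier := {s | s ∈ normalizerIn S P ∧ ∀ x ∈ P, thF θ (cj s x) = thF θ x}
  one_mem' := ⟨one_mem _, fun x _ => by rw [cj_one]⟩
  mul_mem' := by
    rintro a b ⟨ha, ha'⟩ ⟨hb, hb'⟩
    refine ⟨Subgroup.mul_mem _ ha hb, fun x hx => ?_⟩
    have hm : cj b x ∈ P := (Subgroup.mem_normalizer_iff.mp (mem_normalizerIn.mp hb).2 x).mp hx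
    rw [cj_mul, ha' _ hm, hb' x hx]
  inv_mem' := by
    rintro a ⟨ha, ha'⟩
    refine ⟨Subgroup.inv_mem _ ha, fun x hx => ?_⟩
    have hm : cj a⁻¹ x ∈ P :=
      (Subgroup.mem_normalizer_iff.mp (Subgroup.inv_mem _ (mem_normalizerIn.mp ha).2) x).mp hx
    conv_rhs => rw [← cj_cj_inv a x, ha' _ hm]

theorem mem_cMod {s : Ω} :
    s ∈ cMod S θ P ↔ s ∈ normalizerIn S P ∧ ∀ x ∈ P, thF θ (cj s x) = thF θ x := Iff.rfl

theorem cMod_le : cMod S θ P ≤ normalizerIn S P := fun _ h => h.1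

section

variable (H : CLift F W θ Fbar Ebar p)

include H

/-- An automorphism of order prime to `p` extending an element of `X` is in `X`. -/
theorem CLift.mem_X_of_coprime {R : Subgroup Ω} (h : HCl W θ Ebar P) (hPn : F.IsFullyNormalized P)
    (hPR : P ≤ R) (hR : R ≤ normalizerIn (liftTop θ T') P) {a : MulAut R}
    (ha : a ∈ F.autGroup R) (hc : (orderOf a).Coprime p) (haP : ∀ x ∈ P, autFun a x ∈ P)
    (hl : Lifts F W θ Ebar P (autFun a)) : a ∈ H.X R := by
  have hRT : R ≤ liftTop θ T' := hR.trans normalizerIn_le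
  have hRS := hRT.trans H.top_le
  have hPS := hPR.trans hRS
  have : Finite R := finite_of_le hRS
  have : Finite P := finite_of_le hPS
  have := finite_mulAut hPS
  have := finite_mulAut hRS
  have := H.finite_S'
  have := H.finite_T'
  have hWR : W ≤ R := h.1.trans hPR
  have hRn : ∀ u ∈ R, u ∈ Subgroup.normalizer (P : Set Ω) := fun u hu =>
    (mem_normalizerIn.mp (hR hu)).2
  obtain ⟨-, -, -, f', hf', hfe⟩ := id hl
  have ham := isMor_autFun hRS ha
  have hi : img P (autFun a) = P := (ham.restrict hPR).img_eq_self haP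
  have hi' : img (imageAlong θ P) f' = imageAlong θ P := by
    rw [H.img_image (ham.restrict hPR) (le_iff_isMor.mp H.ebar_sub _ _ hf') hfe, hi]
  obtain ⟨e₀, he₀, he₀e⟩ := (isReceptive_iff.mp (isFullyAutomized_of_normalized H.isPGroup_T'
    H.ebar_saturated (H.ebar_fullyNormalized h.1 h.2.1 hPn)).2).2 _ _ hf' hi'
  have hsub : imageAlong θ R ≤ nExt T' (imageAlong θ P) f' := by
    intro y hy
    obtain ⟨u, hu, rfl⟩ := (mem_imageAlong_thF θ hRS).mp hy
    refine mem_nExt.mpr ⟨H.image_le_T' hRT (thF_mem_imageAlong θ hRS hu),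
      thF_normalizer θ hPS (hRS hu) (hRn u hu), thF θ (autFun a u),
      H.image_le_T' hRT (thF_mem_imageAlong θ hRS (autFun_mem a hu)), fun z hz => ?_⟩
    obtain ⟨x, hx, rfl⟩ := (mem_imageAlong_thF θ hPS).mp hz
    have hux : cj u x ∈ P := (Subgroup.mem_normalizer_iff.mp (hRn u hu) x).mp hx
    rw [← thF_cj θ (hRS hu) (hPS hx), hfe _ hux, hfe x hx,
      ← thF_cj θ (hRS (autFun_mem a hu)) (hPS (haP x hx))]
    exact congrArg (thF θ) (ham.map_conj hu (hPR hx))
  have he' := he₀.restrict hsub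
  obtain ⟨e, he, hee⟩ := H.lift (le_iff_isMor.mp H.ebar_sub _ _ he')
  rw [H.pre_image hWR hRS] at he hee
  have hel : Lifts F W θ Ebar R e := ⟨hWR, hRT, he, e₀, he', hee⟩
  have heP : ∀ x ∈ P, thF θ (e x) = thF θ (autFun a x) := fun x hx => by
    rw [← hee x (hPR hx), he₀e _ (thF_mem_imageAlong θ hPS hx), hfe x hx]
  have hePm : ∀ x ∈ P, e x ∈ P := fun x hx =>
    H.mem_of_thF h.1 hPS (he.mem (hPR hx)) (by
      rw [heP x hx]; exact thF_mem_imageAlong θ hPS (haP x hx))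
  have hieP : img P e = P := (he.restrict hPR).img_eq_self hePm
  -- `e` and `a` differ by elements of `P` on `R`
  have hdiff : ∀ u ∈ R, (autFun a u)⁻¹ * e u ∈ P := by
    intro u hu
    have h1 : (autFun a u)⁻¹ * e u ∈ liftTop θ T' :=
      Subgroup.mul_mem _ (Subgroup.inv_mem _ (hRT (autFun_mem a hu))) (hel.mem_top hu)
    refine H.mem_of_centralizing_mod h h1 fun y hy => ?_
    obtain ⟨x, hx, rfl⟩ := (he.restrict hPR).mem_img.mp (hieP.ge hy)
    have hux : cj u x ∈ P := (Subgroup.mem_normalizer_iff.mp (hRn u hu) x).mp hx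
    have haS := hRS (autFun_mem a hu)
    have e1 : cj (e u) (e x) = e (cj u x) := (he.map_conj hu (hPR hx)).symm
    have e2 : cj (autFun a u) (autFun a x) = autFun a (cj u x) :=
      (ham.map_conj hu (hPR hx)).symm
    have hm : cj (e u) (e x) ∈ S :=
      S.mul_mem (S.mul_mem (he.mem hu) (he.mem (hPR hx))) (S.inv_mem (he.mem hu))
    rw [cj_mul, thF_cj θ (S.inv_mem haS) hm, e1, heP _ hux, ← e2, thF_cj θ haS (hPS (haP x hx)), thF_inv θ haS,
      cj_inv_cj, heP x hx]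
  have hieR : img R e = R := he.img_eq_self fun u hu => by
    rw [show e u = autFun a u * ((autFun a u)⁻¹ * e u) by rw [mul_inv_cancel_left]]
    exact R.mul_mem (autFun_mem a hu) (hPR (hdiff u hu))
  obtain ⟨ε, hε, hεe⟩ := exists_aut he hieR
  have hεX : ε ∈ H.X R := H.mem_X_of_lifts (hel.congr fun x hx => (hεe x hx).symm)
  set δ := ε⁻¹ * a with hδ
  have hδF : δ ∈ F.autGroup R := Subgroup.mul_mem _ (Subgroup.inv_mem _ hε) ha
  have hδm := isMor_autFun hRS hδF
  have hεP : ∀ x ∈ P, autFun ε⁻¹ x ∈ P := fun x hx => by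
    obtain ⟨y, hy, rfl⟩ := (he.restrict hPR).mem_img.mp (hieP.ge hx)
    rw [← hεe y (hPR hy), autFun_inv_left ε (hPR hy)]
    exact hy
  have hδP : ∀ x ∈ P, autFun δ x ∈ P := fun x hx => by
    rw [hδ, autFun_mul _ _ (hPR hx)]
    exact hεP _ (haP x hx)
  have hδth : ∀ x ∈ P, thF θ (autFun δ x) = thF θ x := by
    intro x hx
    obtain ⟨εi', hεi', hεie⟩ := H.push (isMor_autFun hRS (Subgroup.inv_mem _ hε)) hWR
    rw [hδ, autFun_mul _ _ (hPR hx), ← hεie _ (autFun_mem a (hPR hx)), ← heP x hx,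
      hεie _ (hPR (hePm x hx)), ← hεe x (hPR hx),
      autFun_inv_left ε (hPR hx)]
  obtain ⟨κ, hκ, hκe⟩ := exists_aut (hδm.restrict hPR) ((hδm.restrict hPR).img_eq_self hδP)
  have hκK : κ ∈ kerMod F θ P := ⟨hκ, fun x hx => by rw [hκe x hx]; exact hδth x hx⟩
  obtain ⟨i, hi₁⟩ := H.kerMod_isPGroup h.1 hPS ⟨κ, hκK⟩
  have hi₂ : κ ^ p ^ i = 1 := congrArg Subtype.val hi₁
  have hfixP : ∀ x ∈ P, autFun (δ ^ p ^ i) x = x := fun x hx => by
    rw [autFun_pow_congr hPR (fun y hy => (hκe y hy).symm) _ x hx, hi₂, autFun_one hx]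
  have hstep : ∀ n : ℕ, ∀ u ∈ R, u⁻¹ * autFun (δ ^ n) u ∈ P := by
    have hone : ∀ u ∈ R, u⁻¹ * autFun δ u ∈ P := by
      intro u hu
      have hau := autFun_mem a hu
      have h1 := hεP _ (P.inv_mem (hdiff u hu))
      rw [mul_inv_rev, inv_inv, ← hεe u hu,
        autFun_map_mul ε⁻¹ (R.inv_mem (autFun_mem ε hu)) hau,
        autFun_inv_map ε⁻¹ (autFun_mem ε hu), autFun_inv_left ε hu] at h1
      rwa [hδ, autFun_mul _ _ hu]
    intro n
    induction n with
    | zero => intro u hu; simp [autFun_one hu]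
    | succ n ih =>
      intro u hu
      rw [pow_succ, autFun_mul _ _ hu]
      have := P.mul_mem (hone u hu) (ih _ (autFun_mem δ hu))
      simpa [mul_assoc] using this
  obtain ⟨j, hj⟩ := pow_eq_one_of_stabilizes (isPGroup_of_le hPS H.hS) hPR hfixP (hstep _)
  rw [← pow_mul, ← pow_add] at hj
  -- in the quotient by `X` the classes of `a` and `δ` agree
  have hn : ((H.X R).subgroupOf (F.autGroup R)).Normal :=
    ⟨fun x hx g => H.X_conj hWR hRT g.2 hx⟩
  let q := QuotientGroup.mk' ((H.X R).subgroupOf (F.autGroup R))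
  have hqe : q ⟨ε, hε⟩ = 1 := (QuotientGroup.eq_one_iff _).mpr hεX
  have hqa : q ⟨a, ha⟩ = q ⟨δ, hδF⟩ := by
    rw [show (⟨δ, hδF⟩ : F.autGroup R) = ⟨ε, hε⟩⁻¹ * ⟨a, ha⟩ from rfl, map_mul, map_inv, hqe,
      inv_one, one_mul]
  have h1 : q ⟨a, ha⟩ = 1 := by
    refine orderOf_eq_one_iff.mp (Nat.eq_one_of_dvd_coprimes (hc.pow_right (i + j))
      (orderOf_dvd_of_pow_eq_one ?_) (orderOf_dvd_of_pow_eq_one ?_))
    · rw [← map_pow, show (⟨a, ha⟩ : F.autGroup R) ^ orderOf a = 1 from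
        Subtype.ext (pow_orderOf_eq_one a), map_one]
    · rw [hqa, ← map_pow, show (⟨δ, hδF⟩ : F.autGroup R) ^ p ^ (i + j) = 1 from
        Subtype.ext hj, map_one]
  exact (QuotientGroup.eq_one_iff (N := (H.X R).subgroupOf (F.autGroup R)) _).mp h1

/-- Transport of the attached groups along a map of `F`. -/
theorem CLift.exists_transport_groups (h : HCl W θ Ebar P) {g : Ω → Ω} (hg : IsMor F P g) :
    ∃ e : MulAut P ≃* MulAut ↥(img P g),
      (∀ α, ∀ x ∈ P, autFun (e α) (g x) = g (autFun α x)) ∧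
      (∀ α ∈ kerMod F θ P, e α ∈ kerMod F θ (img P g)) ∧
      (∀ α ∈ H.X P, e α ∈ H.X (img P g)) ∧
      ∀ α, e α ∈ Inn (img P g) → α ∈ Inn P := by
  obtain ⟨e, he, heA, -⟩ := exists_transport hg rfl
  have hPS := h.2.1.trans H.top_le
  refine ⟨e, he, fun α hα => ⟨(heA α).mp hα.1, fun y hy => ?_⟩, fun α hα => ?_, fun α hα => ?_⟩
  · obtain ⟨x, hx, rfl⟩ := hg.mem_img.mp hy
    obtain ⟨g', hg', hge⟩ := H.push hg h.1
    rw [he α x hx, ← hge _ (autFun_mem α hx), hα.2 x hx, hge x hx]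
  · obtain ⟨k, hk, hke⟩ := H.lifts_transport (hα.2 h.1 h.2.1) le_rfl h.2.1
      (fun x hx => autFun_mem α hx) hg
    refine H.mem_X_of_lifts (hk.congr fun y hy => ?_)
    obtain ⟨x, hx, rfl⟩ := hg.mem_img.mp hy
    rw [hke x hx, he α x hx]
  · obtain ⟨z, hz, hze⟩ := mem_inn.mp hα
    obtain ⟨w, hw, rfl⟩ := hg.mem_img.mp hz
    refine mem_inn.mpr ⟨w, hw, fun x hx => ?_⟩
    refine hg.inj (autFun_mem α hx) (P.mul_mem (P.mul_mem hw hx) (P.inv_mem hw)) ?_
    rw [← he α x hx, hze _ (mem_img_of_mem g hx)]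
    exact (hg.map_conj hw hx).symm

end

end CfsgLib.Fusion
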