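import Mathlib
import Cfsg.Agent.Lib.Fusion.CentralLiftExt

/-!
# The automorphisms trivial modulo the centre are central in `X` modulo inner automorphisms
-/

set_option autoImplicit false
set_option linter.unusedSectionVars false

namespace CfsgLib.Fusion

open Cfsg Cfsg.FusionSystem

variable {Ω Ω' : Type*} [Group Ω] [Group Ω'] {S : Subgroup Ω} [Finite S]
  {F : FusionSystem S} {W : Subgroup Ω} {θ : S →* Ω'} {S' : Subgroup Ω'}
  {Fbar : FusionSystem S'} {T' : Subgroup Ω'} {Ebar : FusionSystem T'} {p : ℕ} [hp : Fact p.Prime]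
  {P : Subgroup Ω}

theorem inn_normal (P : Subgroup Ω) : (Inn P).Normal := ⟨fun _ hk _ => inn_conj_mem hk⟩

theorem autFun_pow_mem {N R : Subgroup Ω} {δ : MulAut N} (hR : R ≤ N)
    (h : ∀ x ∈ R, autFun δ x ∈ R) (n : ℕ) : ∀ x ∈ R, autFun (δ ^ n) x ∈ R := by
  induction n with
  | zero => intro x hx; rw [pow_zero, autFun_one (hR hx)]; exact hx
  | succ n ih =>
    intro x hx
    rw [pow_succ', autFun_mul _ _ (hR hx)]
    exact h _ (ih x hx)

section

variable (H : CLift F W θ Fbar Ebar p)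

include H

theorem CLift.cMod_normalizes (hP : P ≤ liftTop θ T') {s : Ω} (hs : s ∈ normalizerIn S P) :
    s ∈ Subgroup.normalizer ((normalizerIn (liftTop θ T') P : Subgroup Ω) : Set Ω) := by
  obtain ⟨hsS, hsn⟩ := mem_normalizerIn.mp hs
  have : Finite ↥(normalizerIn (liftTop θ T') P) :=
    finite_of_le (normalizerIn_le.trans H.top_le)
  refine Subgroup.mem_normalizer_fintype fun t ht => ?_
  obtain ⟨htT, htn⟩ := mem_normalizerIn.mp ht
  exact mem_normalizerIn.mpr ⟨H.top_normalizes hsS htT,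
    Subgroup.mul_mem _ (Subgroup.mul_mem _ hsn htn) (Subgroup.inv_mem _ hsn)⟩

/-- Strong closure of `Aut_T(P)` in `Aut_S(P)`. -/
theorem CLift.autT_closed (hP : P ≤ liftTop θ T') (hPn : F.IsFullyNormalized P) {γ c : MulAut P}
    (hγ : γ ∈ F.autGroup P) (hc : c ∈ autInducedBy (liftTop θ T') P)
    (hS : γ * c * γ⁻¹ ∈ autInducedBy S P) : γ * c * γ⁻¹ ∈ autInducedBy (liftTop θ T') P := by
  have hPS := hP.trans H.top_le
  obtain ⟨t, ht, htn, hte⟩ := mem_autInducedBy.mp hc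
  obtain ⟨s, hs, hsn, hse⟩ := mem_autInducedBy.mp hS
  have hγm := isMor_autFun hPS hγ
  obtain ⟨g, hg, hge⟩ := (isReceptive_iff.mp (isFullyAutomized_of_normalized H.hS H.hF hPn).2).2
    P _ hγm (img_autFun γ)
  have htN : t ∈ nExt S P (autFun γ) := by
    refine mem_nExt.mpr ⟨H.top_le ht, htn, s, hs, fun x hx => ?_⟩
    rw [← hte x hx, ← hse _ (autFun_mem γ hx), autFun_mul _ _ (autFun_mem γ hx),
      autFun_mul _ _ (autFun_mem _ (autFun_mem γ hx)), autFun_inv_left γ hx]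
  have hgT : g t ∈ liftTop θ T' := (stronglyClosed_iff.mp H.top_closed).2 _ g hg t htN ht
  have hPN : P ≤ nExt S P (autFun γ) := le_nExt hγm
  have hgP : img P g = P := by rw [img_congr hge, img_autFun]
  have hgn : g t ∈ Subgroup.normalizer (P : Set Ω) := by
    have h1 := mapsTo_normalizerIn hg hPN (nExt_le _) t htN
    rw [hgP] at h1
    exact (mem_normalizerIn.mp h1).2
  refine mem_autInducedBy.mpr ⟨g t, hgT, hgn, fun y hy => ?_⟩
  obtain ⟨x, hx, rfl⟩ : ∃ x ∈ P, autFun γ x = y :=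
    ⟨_, autFun_mem γ⁻¹ hy, autFun_inv_right γ hy⟩
  have hxN := hPN hx
  rw [autFun_mul _ _ hy, autFun_mul _ _ (autFun_mem _ hy), autFun_inv_left γ hx, hte x hx,
    ← hge x hx, cj_apply (g t), ← hg.map_conj htN hxN, hge]
  · rfl
  · exact (Subgroup.mem_normalizer_iff.mp htn x).mp hx

/-- `kerMod` normalizes `Aut_T(P)`. -/
theorem CLift.kerMod_normalizes_autT (hW : W ≤ P) (hP : P ≤ liftTop θ T')
    (hPn : F.IsFullyNormalized P) {k c : MulAut P} (hk : k ∈ kerMod F θ P)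
    (hc : c ∈ autInducedBy (liftTop θ T') P) : k * c * k⁻¹ ∈ autInducedBy (liftTop θ T') P := by
  have hPS := hP.trans H.top_le
  refine H.autT_closed hP hPn hk.1 hc (Subgroup.mul_mem _ (Subgroup.mul_mem _
    (H.kerMod_le_autS hW hPS hPn hk) ?_) (Subgroup.inv_mem _ (H.kerMod_le_autS hW hPS hPn hk)))
  obtain ⟨t, ht, htn, hte⟩ := mem_autInducedBy.mp hc
  exact mem_autInducedBy.mpr ⟨t, H.top_le ht, htn, hte⟩

theorem CLift.comm_autT (h : HCl W θ Ebar P) (hPn : F.IsFullyNormalized P) {k c : MulAut P}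
    (hk : k ∈ kerMod F θ P) (hc : c ∈ autInducedBy (liftTop θ T') P) :
    k⁻¹ * (c * k * c⁻¹) ∈ Inn P := by
  have hPS := h.2.1.trans H.top_le
  have hcF : c ∈ F.autGroup P := H.X_le P (H.autT_le_X h.1 h.2.1 hc)
  refine H.ker_inf_autT h ⟨Subgroup.mul_mem _ (Subgroup.inv_mem _ hk)
    (H.kerMod_conj h.1 hPS hcF hk), ?_⟩
  have h1 := Subgroup.mul_mem _ (H.kerMod_normalizes_autT h.1 h.2.1 hPn (Subgroup.inv_mem _ hk) hc)
    (Subgroup.inv_mem _ hc)
  simpa [mul_assoc] using h1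

/-- The case `P = T`: the extension condition of normality. -/
theorem CLift.comm_top (hn : F.IsFullyNormalized (liftTop θ T'))
    {k y : MulAut ↥(liftTop θ T')} (hk : k ∈ kerMod F θ (liftTop θ T')) (hy : y ∈ H.X (liftTop θ T')) :
    k⁻¹ * (y * k * y⁻¹) ∈ Inn (liftTop θ T') := by
  have hT := H.top_le
  have hWT := H.le_top_W
  obtain ⟨s, hs, hsn, hse⟩ := mem_autInducedBy.mp (H.kerMod_le_autS hWT hT hn hk)
  obtain ⟨-, -, hym, y', hy', hye⟩ := hy.2 hWT le_rfl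
  have himg : imageAlong θ (liftTop θ T') = T' := H.image_pre H.T'_le
  rw [himg] at hy'
  have : Finite T' := H.finite_T'
  obtain ⟨α, hα, hαe⟩ : ∃ α ∈ Ebar.autGroup T', ∀ z ∈ T', autFun α z = y' z :=
    exists_aut hy' (hy'.img_eq_self fun z hz => hy'.mem hz)
  obtain ⟨β, hβ, hβx, hβc⟩ := H.hE.2 α hα
  have hM : T' ⊔ centralizerIn S' T' ≤ S' := sup_le H.T'_le centralizerIn_le
  obtain ⟨n, hn₁, hne⟩ := H.lift (isMor_autFun hM hβ)
  have hTM : liftTop θ T' ≤ preimageAlong θ (T' ⊔ centralizerIn S' T') := fun x hx => by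
    obtain ⟨h1, h2⟩ := (mem_preimageAlong_thF θ).mp hx
    exact (mem_preimageAlong_thF θ).mpr ⟨h1, Subgroup.mem_sup_left h2⟩
  have hsC : thF θ s ∈ centralizerIn S' T' := by
    refine mem_centralizerIn.mpr ⟨H.thF_mem hs, fun z hz => ?_⟩
    obtain ⟨x, hx, rfl⟩ := H.exists_thF (H.T'_le hz)
    have hxT : x ∈ liftTop θ T' := (mem_preimageAlong_thF θ).mpr ⟨hx, hz⟩
    rw [← thF_cj θ hs hx, ← hse x hxT, hk.2 x hxT]
  have hsM : s ∈ preimageAlong θ (T' ⊔ centralizerIn S' T') :=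
    (mem_preimageAlong_thF θ).mpr ⟨hs, Subgroup.mem_sup_right hsC⟩
  set v := s⁻¹ * n s with hv
  have hvT : v ∈ liftTop θ T' := by
    refine (mem_preimageAlong_thF θ).mpr ⟨S.mul_mem (S.inv_mem hs) (hn₁.mem hsM), ?_⟩
    rw [thF_mul θ (S.inv_mem hs) (hn₁.mem hsM), thF_inv θ hs, ← hne s hsM,
      autFun_of_mem β (Subgroup.mem_sup_right hsC)]
    exact (Subgroup.mem_inf.mp (hβc ⟨_, Subgroup.mem_sup_right hsC⟩ hsC)).1
  have hnT := hn₁.restrict hTM
  obtain ⟨ν, hν, hνe⟩ := exists_aut hnT (hnT.img_eq_self fun x hx =>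
    (stronglyClosed_iff.mp H.top_closed).2 _ n hnT x hx hx)
  have hk₁ : y⁻¹ * ν ∈ kerMod F θ (liftTop θ T') := by
    refine ⟨Subgroup.mul_mem _ (Subgroup.inv_mem _ hy.1) hν, fun x hx => ?_⟩
    obtain ⟨yi', hyi', hyie⟩ := H.push (isMor_autFun hT (Subgroup.inv_mem _ hy.1)) hWT
    have hz : thF θ x ∈ T' := ((mem_preimageAlong_thF θ).mp hx).2
    have h1 : thF θ (autFun ν x) = thF θ (autFun y x) := by
      rw [hνe x hx, ← hne x (hTM hx), ← hye x hx, ← hαe _ hz,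
        autFun_of_mem β (Subgroup.mem_sup_left hz), autFun_of_mem α hz]
      exact hβx ⟨_, hz⟩
    rw [autFun_mul _ _ hx, ← hyie _ (autFun_mem ν hx), h1, hyie _ (autFun_mem y hx),
      autFun_inv_left y hx]
  have hcomm := H.kerMod_comm hWT hT hk₁ hk
  have hkey : y * k * y⁻¹ = ν * k * ν⁻¹ := by
    have e1 : ν = y * (y⁻¹ * ν) := (mul_inv_cancel_left _ _).symm
    conv_rhs => rw [e1]
    rw [mul_assoc y (y⁻¹ * ν) k, hcomm]
    group
  rw [hkey, mem_inn]
  refine ⟨v, hvT, fun x hx => ?_⟩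
  have hνi : ∀ u ∈ liftTop θ T', n (autFun ν⁻¹ u) = u := fun u hu => by
    rw [← hνe _ (autFun_mem _ hu), autFun_inv_right ν hu]
  have hki : ∀ u ∈ liftTop θ T', autFun k⁻¹ u = cj s⁻¹ u := fun u hu => by
    conv_rhs => rw [← autFun_inv_right k hu, hse _ (autFun_mem k⁻¹ hu), cj_inv_cj]
  have hu := autFun_mem ν⁻¹ hx
  rw [autFun_mul _ _ hx, autFun_mul _ _ hx, autFun_mul _ _ hu,
    hki _ (autFun_mem _ (autFun_mem _ hu)), hνe _ (autFun_mem k hu), hse _ hu, cj_apply s,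
    hn₁.map_conj hsM (hTM hu), hνi x hx, hv, cj_mul]
  rfl

/-- The inductive step: an element of order prime to `p` normalizing the Sylow subgroup. -/
theorem CLift.comm_step (h : HCl W θ Ebar P) (hPn : F.IsFullyNormalized P)
    (IH : ∀ k ∈ kerMod F θ (normalizerIn (liftTop θ T') P),
      ∀ y ∈ H.X (normalizerIn (liftTop θ T') P),
        k⁻¹ * (y * k * y⁻¹) ∈ Inn (normalizerIn (liftTop θ T') P))
    {n : MulAut P} (hn : n ∈ H.X P) (hc : (orderOf n).Coprime p)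
    (hnT : ∀ c ∈ autInducedBy (liftTop θ T') P, n * c * n⁻¹ ∈ autInducedBy S P)
    {k : MulAut P} (hk : k ∈ kerMod F θ P) : k⁻¹ * (n * k * n⁻¹) ∈ Inn P := by
  obtain ⟨hW, hP, hPc⟩ := id h
  have hPS := hP.trans H.top_le
  have : Finite P := finite_of_le hPS
  have := finite_mulAut hPS
  have := H.finite_S'
  have := H.finite_T'
  set N := normalizerIn (liftTop θ T') P with hNdef
  have hPN : P ≤ N := le_normalizerIn hP
  have hNT : N ≤ liftTop θ T' := normalizerIn_le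
  have hNS : N ≤ S := hNT.trans H.top_le
  have hNcl : HCl W θ Ebar N := H.hcl_mono h hPN hNT
  obtain ⟨n', hn', hn'e⟩ := H.push (isMor_autFun hPS hn.1) hW
  -- the extension
  have hnm := isMor_autFun hPS hn.1
  obtain ⟨g, hg, hge⟩ := (isReceptive_iff.mp (isFullyAutomized_of_normalized H.hS H.hF hPn).2).2
    P _ hnm (img_autFun n)
  have hCN : cMod S θ P ≤ nExt S P (autFun n) := by
    intro s hs
    obtain ⟨hsS, hsn⟩ := mem_normalizerIn.mp hs.1
    obtain ⟨α, hα, hαe⟩ := exists_autInducedBy (K := S) hsS hsn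
    have hαK : α ∈ kerMod F θ P :=
      ⟨autInducedBy_le F hPS hα, fun x hx => by rw [hαe x hx]; exact hs.2 x hx⟩
    obtain ⟨s₁, hs₁, -, hs₁e⟩ := mem_autInducedBy.mp
      (H.kerMod_le_autS hW hPS hPn (H.kerMod_conj hW hPS hn.1 hαK))
    refine mem_nExt.mpr ⟨hsS, hsn, s₁, hs₁, fun x hx => ?_⟩
    rw [← hs₁e _ (autFun_mem n hx), autFun_mul _ _ (autFun_mem n hx),
      autFun_mul _ _ (autFun_mem _ (autFun_mem n hx)), autFun_inv_left n hx, hαe x hx]
  have hNN : N ≤ nExt S P (autFun n) := by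
    intro t ht
    obtain ⟨htT, htn⟩ := mem_normalizerIn.mp ht
    obtain ⟨c, hcT, hce⟩ := exists_autInducedBy (K := liftTop θ T') htT htn
    obtain ⟨s₁, hs₁, -, hs₁e⟩ := mem_autInducedBy.mp (hnT c hcT)
    refine mem_nExt.mpr ⟨H.top_le htT, htn, s₁, hs₁, fun x hx => ?_⟩
    rw [← hs₁e _ (autFun_mem n hx), autFun_mul _ _ (autFun_mem n hx),
      autFun_mul _ _ (autFun_mem _ (autFun_mem n hx)), autFun_inv_left n hx, hce x hx]
  have hPext : P ≤ nExt S P (autFun n) := le_nExt hnm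
  have hgP : img P g = P := by rw [img_congr hge, img_autFun]
  have hgn : ∀ u ∈ nExt S P (autFun n), g u ∈ normalizerIn S P := fun u hu => by
    have h1 := mapsTo_normalizerIn hg hPext (nExt_le _) u hu
    rwa [hgP] at h1
  set M := N ⊔ cMod S θ P with hMdef
  have hMS : M ≤ S := sup_le hNS (cMod_le.trans normalizerIn_le)
  have hMN : M ≤ nExt S P (autFun n) := sup_le hNN hCN
  have hgM := hg.restrict hMN
  have hmapN : ∀ u ∈ N, g u ∈ N := fun u hu => mem_normalizerIn.mpr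
    ⟨(stronglyClosed_iff.mp H.top_closed).2 _ g hg u (hNN hu) (hNT hu),
      (mem_normalizerIn.mp (hgn u (hNN hu))).2⟩
  have hmapC : ∀ u ∈ cMod S θ P, g u ∈ cMod S θ P := by
    intro u hu
    refine ⟨hgn u (hCN hu), fun y hy => ?_⟩
    obtain ⟨x, hx, rfl⟩ : ∃ x ∈ P, autFun n x = y := ⟨_, autFun_mem n⁻¹ hy, autFun_inv_right n hy⟩
    have hux : cj u x ∈ P := (Subgroup.mem_normalizer_iff.mp (mem_normalizerIn.mp hu.1).2 x).mp hx
    have h1 : cj (g u) (autFun n x) = autFun n (cj u x) := by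
      rw [← hge x hx, cj_apply, ← hg.map_conj (hCN hu) (hPext hx)]
      exact hge _ hux
    rw [h1, ← hn'e _ hux, hu.2 x hx, hn'e x hx]
  have himgM : img M g = M := hgM.img_eq_self fun u hu => by
    have h1 := mem_img_of_mem g hu
    rw [hMdef, hgM.img_sup] at h1
    exact sup_le_sup (img_le hmapN) (img_le hmapC) h1
  obtain ⟨ν₀, hν₀, hν₀e⟩ := exists_aut hgM himgM
  have := finite_mulAut hMS
  obtain ⟨m, hnm', hνc⟩ := exists_pow_fix (p := p) n ν₀ hc
  set ν := ν₀ ^ m with hνdef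
  have hPM : P ≤ M := hPN.trans le_sup_left
  have hνF : ν ∈ F.autGroup M := Subgroup.pow_mem _ hν₀ m
  have hνP : ∀ x ∈ P, autFun ν x = autFun n x := fun x hx => by
    rw [hνdef, autFun_pow_congr hPM (fun y hy => (hν₀e y (hPM hy)).trans (hge y hy)) m x hx, hnm']
  have hνN : ∀ u ∈ N, autFun ν u ∈ N := autFun_pow_mem le_sup_left
    (fun u hu => by rw [hν₀e u (Subgroup.mem_sup_left hu)]; exact hmapN u hu) m
  have hνC : ∀ u ∈ cMod S θ P, autFun ν u ∈ cMod S θ P := autFun_pow_mem le_sup_right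
    (fun u hu => by rw [hν₀e u (Subgroup.mem_sup_right hu)]; exact hmapC u hu) m
  have hνm := isMor_autFun hMS hνF
  obtain ⟨νN, hνNF, hνNe⟩ := exists_aut (hνm.restrict (le_sup_left : N ≤ M))
    ((hνm.restrict le_sup_left).img_eq_self hνN)
  have hνNc : (orderOf νN).Coprime p := by
    refine Nat.Coprime.coprime_dvd_left (orderOf_dvd_of_pow_eq_one (autFun_inj fun u hu => ?_)) hνc
    rw [← autFun_pow_congr (le_sup_left : N ≤ M) (fun y hy => (hνNe y hy).symm) _ u hu,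
      pow_orderOf_eq_one, autFun_one hu, autFun_one (Subgroup.mem_sup_left hu)]
  have hνNP : ∀ x ∈ P, autFun νN x = autFun n x := fun x hx => by rw [hνNe x (hPN hx), hνP x hx]
  have hνX : νN ∈ H.X N := H.mem_X_of_coprime h hPn hPN le_rfl hνNF hνNc
    (fun x hx => by rw [hνNP x hx]; exact autFun_mem n hx)
    ((hn.2 hW hP).congr fun x hx => (hνNP x hx).symm)
  have hνNi : ∀ u ∈ N, autFun ν (autFun νN⁻¹ u) = u := fun u hu => by
    rw [← hνNe _ (autFun_mem _ hu), autFun_inv_right νN hu]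
  -- the element inducing `k`
  obtain ⟨s, hsS, hsn, hse⟩ := mem_autInducedBy.mp (H.kerMod_le_autS hW hPS hPn hk)
  have hsC : s ∈ cMod S θ P :=
    ⟨mem_normalizerIn.mpr ⟨hsS, hsn⟩, fun x hx => by rw [← hse x hx]; exact hk.2 x hx⟩
  have hνsC := hνC s hsC
  set d := s⁻¹ * autFun ν s with hd
  have hdC : d ∈ cMod S θ P := Subgroup.mul_mem _ (Subgroup.inv_mem _ hsC) hνsC
  have hsN := H.cMod_normalizes hP hsC.1
  obtain ⟨σ, hσ, hσe⟩ := exists_autInducedBy (P := N) (K := S) hsS hsN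
  have hσF := autInducedBy_le F hNS hσ
  have hσi : ∀ u ∈ N, autFun σ⁻¹ u = cj s⁻¹ u := fun u hu => by
    conv_rhs => rw [← autFun_inv_right σ hu, hσe _ (autFun_mem σ⁻¹ hu), cj_inv_cj]
  have hτX : σ⁻¹ * νN * σ * νN⁻¹ ∈ H.X N := by
    have h1 := H.X_conj (hW.trans hPN) hNT (Subgroup.inv_mem _ hσF) hνX
    rw [inv_inv] at h1
    exact Subgroup.mul_mem _ h1 (Subgroup.inv_mem _ hνX)
  have hτe : ∀ u ∈ N, autFun (σ⁻¹ * νN * σ * νN⁻¹) u = cj d u := by
    intro u hu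
    have hw := autFun_mem νN⁻¹ hu
    have hsw := autFun_mem σ hw
    have hsM : s ∈ M := Subgroup.mem_sup_right hsC
    rw [autFun_mul _ _ hu, autFun_mul _ _ hw, autFun_mul _ _ hsw, hσi _ (autFun_mem νN hsw),
      hνNe _ hsw, hσe _ hw, cj_apply s, hνm.map_conj hsM (Subgroup.mem_sup_left hw),
      hνNi u hu, hd, cj_mul]
    rfl
  obtain ⟨-, -, -, d', hd', hd'e⟩ := hτX.2 (hW.trans hPN) hNT
  obtain ⟨z', hz', -, hz'e⟩ := centric_agree H.isPGroup_T' H.ebar_saturated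
    (isMor_id Ebar (H.image_le_T' hNT)) hd' (imageAlong_mono θ hPN) hPc fun y hy => by
      obtain ⟨x, hx, rfl⟩ := (mem_imageAlong_thF θ hPS).mp hy
      rw [hd'e x (hPN hx), hτe x (hPN hx), hdC.2 x hx]
      rfl
  obtain ⟨z, hz, rfl⟩ := (mem_imageAlong_thF θ hPS).mp hz'
  set w₀ := z⁻¹ * d with hw₀
  have hdn := hdC.1
  have hzn : z ∈ normalizerIn S P := le_normalizerIn hPS hz
  have hw₀n : w₀ ∈ normalizerIn S P := Subgroup.mul_mem _ (Subgroup.inv_mem _ hzn) hdn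
  have hw₀N := H.cMod_normalizes hP hw₀n
  have hw₀th : ∀ u ∈ N, thF θ (cj w₀ u) = thF θ u := by
    intro u hu
    have hcd : cj d u ∈ S := S.mul_mem (S.mul_mem (mem_normalizerIn.mp hdn).1 (hNS hu))
      (S.inv_mem (mem_normalizerIn.mp hdn).1)
    rw [hw₀, cj_mul, thF_cj θ (S.inv_mem (hPS hz)) hcd, thF_inv θ (hPS hz), ← hτe u hu,
      ← hd'e u hu, hz'e _ (thF_mem_imageAlong θ hNS hu)]
    exact cj_inv_cj _ _
  obtain ⟨κ, hκ, hκe⟩ := exists_autInducedBy (P := N) (K := S) (mem_normalizerIn.mp hw₀n).1 hw₀N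
  have hκK : κ ∈ kerMod F θ N :=
    ⟨autInducedBy_le F hNS hκ, fun u hu => by rw [hκe u hu]; exact hw₀th u hu⟩
  obtain ⟨w, hw, hwe⟩ := mem_inn.mp (IH κ hκK νN hνX)
  -- on `P`
  obtain ⟨kh, hkh, hkhe⟩ := exists_autInducedBy (P := P) (K := S) (mem_normalizerIn.mp hw₀n).1
    (mem_normalizerIn.mp hw₀n).2
  have hkhK : kh ∈ kerMod F θ P :=
    ⟨autInducedBy_le F hPS hkh, fun x hx => by rw [hkhe x hx]; exact hw₀th x (hPN hx)⟩
  have hki : ∀ x ∈ P, autFun k⁻¹ x = cj s⁻¹ x := fun x hx => by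
    conv_rhs => rw [← autFun_inv_right k hx, hse _ (autFun_mem k⁻¹ hx), cj_inv_cj]
  have hni : ∀ x ∈ P, autFun ν (autFun n⁻¹ x) = x := fun x hx => by
    rw [hνP _ (autFun_mem _ hx), autFun_inv_right n hx]
  obtain ⟨cz, hcz, hcze⟩ := exists_autInducedBy (P := P) (K := P) hz (Subgroup.le_normalizer hz)
  have hczI : cz ∈ Inn P := inn_eq_autInducedBy.ge hcz
  have hD : k⁻¹ * (n * k * n⁻¹) = cz * kh := by
    refine autFun_inj fun x hx => ?_
    have hu := autFun_mem n⁻¹ hx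
    rw [autFun_mul _ _ hx, autFun_mul _ _ hx, autFun_mul _ _ hu,
      hki _ (autFun_mem n (autFun_mem k hu)), ← hνP _ (autFun_mem k hu), hse _ hu, cj_apply s,
      hνm.map_conj (Subgroup.mem_sup_right hsC) (hPM hu), hni x hx, autFun_mul _ _ hx,
      hcze _ (autFun_mem kh hx), hkhe x hx, ← cj_mul z, hw₀, mul_inv_cancel_left, hd, cj_mul]
    rfl
  have hkh' : kh⁻¹ * (n * kh * n⁻¹) ∈ Inn P := by
    refine H.ker_inf_autT h ⟨Subgroup.mul_mem _ (Subgroup.inv_mem _ hkhK)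
      (H.kerMod_conj hW hPS hn.1 hkhK), mem_autInducedBy.mpr
      ⟨w, hNT hw, (mem_normalizerIn.mp hw).2, fun x hx => ?_⟩⟩
    have hu := autFun_mem n⁻¹ hx
    have hw₀M : w₀ ∈ M := M.mul_mem (M.inv_mem (hPM hz)) (Subgroup.mem_sup_right hdC)
    have hkhi : ∀ y ∈ P, autFun kh⁻¹ y = cj w₀⁻¹ y := fun y hy => by
      conv_rhs => rw [← autFun_inv_right kh hy, hkhe _ (autFun_mem kh⁻¹ hy), cj_inv_cj]
    have hκi : ∀ y ∈ N, autFun κ⁻¹ y = cj w₀⁻¹ y := fun y hy => by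
      conv_rhs => rw [← autFun_inv_right κ hy, hκe _ (autFun_mem κ⁻¹ hy), cj_inv_cj]
    have hu' := autFun_mem νN⁻¹ (hPN hx)
    have hL : autFun (kh⁻¹ * (n * kh * n⁻¹)) x = cj w₀⁻¹ (cj (autFun ν w₀) x) := by
      rw [autFun_mul _ _ hx, autFun_mul _ _ hx, autFun_mul _ _ hu,
        hkhi _ (autFun_mem n (autFun_mem kh hu)), ← hνP _ (autFun_mem kh hu), hkhe _ hu,
        cj_apply w₀, hνm.map_conj hw₀M (hPM hu), hni x hx]
      rfl
    have hR : autFun (κ⁻¹ * (νN * κ * νN⁻¹)) x = cj w₀⁻¹ (cj (autFun ν w₀) x) := by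
      rw [autFun_mul _ _ (hPN hx), autFun_mul _ _ (hPN hx), autFun_mul _ _ hu',
        hκi _ (autFun_mem νN (autFun_mem κ hu')), hνNe _ (autFun_mem κ hu'), hκe _ hu',
        cj_apply w₀, hνm.map_conj hw₀M (Subgroup.mem_sup_left hu'), hνNi x (hPN hx)]
      rfl
    rw [hL, ← hR]
    exact hwe x (hPN hx)
  -- in the quotient by the inner automorphisms
  haveI := inn_normal P
  let q := QuotientGroup.mk' (Inn P)
  have hq : ∀ a b : MulAut P, a⁻¹ * (b * a * b⁻¹) ∈ Inn P → Commute (q b) (q a) := by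
    intro a b hab
    have h1 : q (a⁻¹ * (b * a * b⁻¹)) = 1 := (QuotientGroup.eq_one_iff _).mpr hab
    simp only [map_mul, map_inv] at h1
    exact mul_inv_eq_iff_eq_mul.mp (inv_mul_eq_one.mp h1).symm
  have hcn : Commute (q n) (q kh) := hq kh n hkh'
  have hc1 : (q k)⁻¹ * (q n * q k * (q n)⁻¹) = q kh := by
    rw [← map_inv q n, ← map_mul, ← map_mul, ← map_inv, ← map_mul, hD, map_mul]
    rw [show q cz = 1 from (QuotientGroup.eq_one_iff _).mpr hczI, one_mul]
  have hconj : (q k)⁻¹ * q n * q k = q kh * q n := by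
    rw [← hc1]
    group
  have hm : q kh ^ orderOf n = 1 := by
    have h1 : ((q k)⁻¹ * q n * q k) ^ orderOf n = 1 := by
      have hqn : q n ^ orderOf n = 1 := by rw [← map_pow, pow_orderOf_eq_one, map_one]
      have h2 := conj_pow (i := orderOf n) (a := (q k)⁻¹) (b := q n)
      rw [inv_inv] at h2
      rw [h2, hqn]
      group
    rw [hconj, hcn.symm.mul_pow, ← map_pow q n, pow_orderOf_eq_one, map_one, mul_one] at h1
    exact h1
  obtain ⟨i, hi⟩ := H.kerMod_isPGroup hW hPS ⟨kh, hkhK⟩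
  have hi' : q kh ^ p ^ i = 1 := by
    rw [← map_pow, show kh ^ p ^ i = 1 from congrArg Subtype.val hi, map_one]
  have h1 : q kh = 1 := orderOf_eq_one_iff.mp (Nat.eq_one_of_dvd_coprimes (hc.pow_right i)
    (orderOf_dvd_of_pow_eq_one hm) (orderOf_dvd_of_pow_eq_one hi'))
  rw [hD]
  exact Subgroup.mul_mem _ hczI ((QuotientGroup.eq_one_iff _).mp h1)

/-- The automorphisms trivial modulo the centre are central in `X` modulo inner ones. -/
theorem CLift.comm_mem_inn : ∀ (P : Subgroup Ω), HCl W θ Ebar P → ∀ k ∈ kerMod F θ P,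
    ∀ y ∈ H.X P, k⁻¹ * (y * k * y⁻¹) ∈ Inn P := by
  suffices hmain : ∀ d (P : Subgroup Ω), Nat.card (liftTop θ T') - Nat.card P = d →
      HCl W θ Ebar P → ∀ k ∈ kerMod F θ P, ∀ y ∈ H.X P, k⁻¹ * (y * k * y⁻¹) ∈ Inn P from
    fun P => hmain _ P rfl
  intro d
  induction d using Nat.strong_induction_on with
  | _ d ih =>
  suffices hfull : ∀ P : Subgroup Ω, Nat.card (liftTop θ T') - Nat.card P = d → HCl W θ Ebar P →
      F.IsFullyNormalized P → ∀ k ∈ kerMod F θ P, ∀ y ∈ H.X P, k⁻¹ * (y * k * y⁻¹) ∈ Inn P by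
    intro P hd h k hk y hy
    have hPS := h.2.1.trans H.top_le
    obtain ⟨Q, hQ, hQn⟩ := exists_fullyNormalized F hPS
    obtain ⟨g, hg, rfl⟩ := isConj_iff.mp hQ
    obtain ⟨e, -, heK, heX, heI⟩ := H.exists_transport_groups h hg
    refine heI _ ?_
    have h1 := hfull _ (by rw [hg.card_img]; exact hd) (H.hcl_img h hg) hQn _ (heK k hk) _ (heX y hy)
    rw [map_mul, map_mul, map_mul, map_inv, map_inv]
    exact h1
  intro P hd h hPn k hk y hy
  subst hd
  obtain ⟨hW, hP, hPc⟩ := id h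
  have hPS := hP.trans H.top_le
  rcases eq_or_lt_of_le hP with e | hlt
  · subst e
    exact H.comm_top hPn hk hy
  have : Finite P := finite_of_le hPS
  have := finite_mulAut hPS
  have hTp : IsPGroup p (liftTop θ T') := isPGroup_of_le H.top_le H.hS
  have : Finite (liftTop θ T') := finite_of_le H.top_le
  set N := normalizerIn (liftTop θ T') P with hNdef
  have hNlt : Nat.card (liftTop θ T') - Nat.card N < Nat.card (liftTop θ T') - Nat.card P := by
    have h1 : Nat.card P < Nat.card N :=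
      card_lt_of_lt (normalizerIn_le.trans H.top_le) (normalizerIn_gt hTp hlt)
    have h2 : Nat.card N ≤ Nat.card (liftTop θ T') := Subgroup.card_le_of_le normalizerIn_le
    omega
  have IH := ih _ hNlt N rfl (H.hcl_mono h (le_normalizerIn hP) normalizerIn_le)
  haveI := inn_normal P
  let q := QuotientGroup.mk' (Inn P)
  let L := H.X P ⊓ (Subgroup.centralizer (q '' (kerMod F θ P : Set (MulAut P)))).comap q
  have hLiff : ∀ {z : MulAut P}, z ∈ L ↔
      z ∈ H.X P ∧ ∀ j ∈ kerMod F θ P, j⁻¹ * (z * j * z⁻¹) ∈ Inn P := by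
    intro z
    refine and_congr_right fun _ => ?_
    show q z ∈ Subgroup.centralizer (q '' (kerMod F θ P : Set (MulAut P))) ↔ _
    rw [Subgroup.mem_centralizer_iff]
    refine ⟨fun h2 j hj => (QuotientGroup.eq_one_iff _).mp ?_, ?_⟩
    · show q (j⁻¹ * (z * j * z⁻¹)) = 1
      simp only [map_mul, map_inv]
      rw [← h2 _ ⟨j, hj, rfl⟩]
      group
    · rintro h2 _ ⟨j, hj, rfl⟩
      have h3 : q (j⁻¹ * (z * j * z⁻¹)) = 1 := (QuotientGroup.eq_one_iff _).mpr (h2 j hj)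
      simp only [map_mul, map_inv] at h3
      exact (mul_inv_eq_iff_eq_mul.mp (inv_mul_eq_one.mp h3).symm).symm
  suffices hyL : y ∈ L from (hLiff.mp hyL).2 k hk
  set Hs := autInducedBy S P ⊓ H.X P with hHs
  have hsyl : IsSylIn p Hs (H.X P) := isSylIn_inf
    (isFullyAutomized_iff.mp (isFullyAutomized_of_normalized H.hS H.hF hPn).1).2 (H.X_le P)
    fun b hb x hx => H.X_conj hW hP hb hx
  have hKL : kerMod F θ P ≤ L := fun z hz => hLiff.mpr ⟨H.kerMod_le_X hW hP hz, fun j hj => by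
    rw [H.kerMod_comm hW hPS hz hj, mul_inv_cancel_right, inv_mul_cancel]
    exact one_mem _⟩
  have hTL : autInducedBy (liftTop θ T') P ≤ L := fun z hz =>
    hLiff.mpr ⟨H.autT_le_X hW hP hz, fun j hj => H.comm_autT h hPn hj hz⟩
  have hHL : Hs ≤ L := fun z hz => by
    obtain ⟨c, hc, hck⟩ := H.exists_autT_mul h hPn hz.2 hz.1
    have := L.mul_mem (hTL hc) (hKL hck)
    rwa [mul_inv_cancel_left] at this
  have hLX : L ≤ H.X P := inf_le_left
  have hLn : ∀ b ∈ H.X P, ∀ z ∈ L, b * z * b⁻¹ ∈ L := by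
    intro b hb z hz
    refine hLiff.mpr ⟨H.X_conj hW hP hb.1 hz.1, fun j hj => ?_⟩
    have hj' := H.kerMod_conj hW hPS (Subgroup.inv_mem _ hb.1) hj
    have h1 := inn_conj_mem (a := b) ((hLiff.mp hz).2 _ hj')
    convert h1 using 1
    group
  have hsylL : IsSylIn p Hs L :=
    ⟨hHL, hsyl.2.1, fun C hC h1 h2 => hsyl.2.2 C hC h1 (h2.trans hLX)⟩
  obtain ⟨l, hl, hlc⟩ := hsylL.exists_conj_le (C := Hs.map (MulAut.conj y).toMonoidHom)
    (hsyl.2.1.map _) (by
      rintro _ ⟨c, hc, rfl⟩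
      exact hLn y hy c (hHL hc))
  suffices hnL : l * y ∈ L by
    have := L.mul_mem (L.inv_mem hl) hnL
    rwa [inv_mul_cancel_left] at this
  have hnn : ∀ c ∈ Hs, (l * y) * c * (l * y)⁻¹ ∈ Hs := fun c hc => by
    have h1 := hlc _ ⟨c, hc, rfl⟩
    simpa [mul_assoc] using h1
  have hnX : l * y ∈ H.X P := Subgroup.mul_mem _ (hLX hl) hy
  generalize l * y = n at hnn hnX ⊢
  have hnpow : ∀ (j : ℕ), ∀ c ∈ Hs, n ^ j * c * (n ^ j)⁻¹ ∈ Hs := by
    intro j
    induction j with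
    | zero => intro c hc; simpa using hc
    | succ j ihj =>
      intro c hc
      have h1 := hnn _ (ihj c hc)
      convert h1 using 1
      rw [pow_succ']
      group
  obtain ⟨i, r, hr, hor⟩ :=
    Nat.exists_eq_pow_mul_and_not_dvd (orderOf_pos n).ne' p hp.out.ne_one
  have hrc : Nat.Coprime r p := ((Nat.Prime.coprime_iff_not_dvd hp.out).mpr hr).symm
  refine mem_of_coprime_pow (hrc.pow_right i) ?_ ?_
  · -- the `p`-part lies in the Sylow subgroup
    refine hHL ?_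
    have hz : IsPGroup p (Subgroup.zpowers (n ^ r)) := by
      obtain ⟨j, -, hj⟩ := (Nat.dvd_prime_pow hp.out).mp (orderOf_dvd_of_pow_eq_one
        (show (n ^ r) ^ p ^ i = 1 by rw [← pow_mul, mul_comm, ← hor, pow_orderOf_eq_one]))
      exact IsPGroup.of_card (n := j) (by rw [Nat.card_zpowers, hj])
    have hle : Subgroup.zpowers (n ^ r) ≤ Subgroup.normalizer (Hs : Set (MulAut P)) := by
      rw [Subgroup.zpowers_le]
      exact Subgroup.mem_normalizer_fintype fun c hc => hnpow r c hc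
    have := hsyl.2.2 _ (IsPGroup.to_sup_of_normal_left' hsyl.2.1 hz hle) le_sup_left
      (sup_le inf_le_right (Subgroup.zpowers_le.mpr (Subgroup.pow_mem _ hnX r)))
    exact this.le (Subgroup.mem_sup_right (Subgroup.mem_zpowers _))
  · -- the part of order prime to `p`
    refine hLiff.mpr ⟨Subgroup.pow_mem _ hnX _, fun j hj =>
      H.comm_step h hPn IH (Subgroup.pow_mem _ hnX _) ?_ (fun c hc => ?_) hj⟩
    · refine Nat.Coprime.coprime_dvd_left (orderOf_dvd_of_pow_eq_one ?_) hrc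
      rw [← pow_mul, ← hor, pow_orderOf_eq_one]
    · obtain ⟨t, ht, htn, hte⟩ := mem_autInducedBy.mp hc
      exact (hnpow _ c ⟨mem_autInducedBy.mpr ⟨t, H.top_le ht, htn, hte⟩,
        H.autT_le_X hW hP hc⟩).1

end

end CfsgLib.Fusion
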