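import Mathlib
import Cfsg.Agent.Lib.Fusion.CentralLiftComm

/-!
# The subgroup generated by the elements of order prime to `p` meets `kerMod` in inner maps

The transfer to the quotient of the Sylow subgroup by `Aut_T(P)` gives a homomorphism on `X` that
kills this subgroup and is injective on `kerMod` modulo inner automorphisms.
-/

set_option autoImplicit false
set_option linter.unusedSectionVars false

namespace CfsgLib.Fusion

open Cfsg Cfsg.FusionSystem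

/-- Transfer of a homomorphism constant on the classes of the group. -/
theorem transfer_of_stable {G A : Type*} [Group G] [CommGroup A] {H : Subgroup G}
    [H.FiniteIndex] (φ : H →* A)
    (hφ : ∀ (a b : H) (g : G), g * (a : G) * g⁻¹ = b → φ a = φ b) (h : H) :
    MonoidHom.transfer φ (h : G) = φ h ^ H.index := by
  classical
  let := H.fintypeQuotientOfFiniteIndex
  rw [MonoidHom.transfer_eq_prod_quotient_orbitRel_zpowers_quot,
    Subgroup.index_eq_sum_minimalPeriod H (h : G), ← Finset.prod_pow_eq_pow_sum]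
  refine Finset.prod_congr rfl fun q _ => ?_
  rw [← map_pow]
  refine (hφ _ _ q.out.out ?_)
  rw [SubgroupClass.coe_pow]
  show q.out.out * (q.out.out⁻¹ * (h : G) ^ _ * q.out.out) * q.out.out⁻¹ = _
  group

variable {Ω Ω' : Type*} [Group Ω] [Group Ω'] {S : Subgroup Ω} [Finite S]
  {F : FusionSystem S} {W : Subgroup Ω} {θ : S →* Ω'} {S' : Subgroup Ω'}
  {Fbar : FusionSystem S'} {T' : Subgroup Ω'} {Ebar : FusionSystem T'} {p : ℕ} [hp : Fact p.Prime]
  {P : Subgroup Ω}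

section

variable (H : CLift F W θ Fbar Ebar p)

include H

/-- The subgroup of `X` that the lifted system is to induce on `P`. -/
noncomputable def CLift.Y (P : Subgroup Ω) : Subgroup (MulAut P) :=
  Subgroup.closure {α | α ∈ H.X P ∧ (orderOf α).Coprime p} ⊔ autInducedBy (liftTop θ T') P

theorem CLift.Y_le_X (hW : W ≤ P) (hP : P ≤ liftTop θ T') : H.Y P ≤ H.X P :=
  sup_le ((Subgroup.closure_le _).mpr fun _ h => h.1) (H.autT_le_X hW hP)

theorem CLift.mem_Y_of_coprime {α : MulAut P} (hα : α ∈ H.X P) (hc : (orderOf α).Coprime p) :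
    α ∈ H.Y P :=
  Subgroup.mem_sup_left (Subgroup.subset_closure ⟨hα, hc⟩)

theorem CLift.inn_le_Y (hP : P ≤ liftTop θ T') : Inn P ≤ H.Y P :=
  (H.inn_le_autT hP).trans le_sup_right

/-- Every element of `X` is an element of `Y` times one of `kerMod`. -/
theorem CLift.exists_Y_mul (h : HCl W θ Ebar P) (hPn : F.IsFullyNormalized P) {γ : MulAut P}
    (hγ : γ ∈ H.X P) : ∃ y ∈ H.Y P, ∃ k ∈ kerMod F θ P, γ = y * k := by
  obtain ⟨hW, hP, hPc⟩ := id h
  have hPS := hP.trans H.top_le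
  have := finite_mulAut hPS
  have hsyl : IsSylIn p (autInducedBy S P ⊓ H.X P) (H.X P) := isSylIn_inf
    (isFullyAutomized_iff.mp (isFullyAutomized_of_normalized H.hS H.hF hPn).1).2 (H.X_le P)
    fun b hb x hx => H.X_conj hW hP hb hx
  obtain ⟨R, hR⟩ := (exists_sylow_iff hsyl.1).mpr hsyl
  have hle : (R : Subgroup (H.X P)) ⊔ pResidual p (H.X P) ≤
      (H.Y P ⊔ kerMod F θ P).subgroupOf (H.X P) := by
    refine sup_le (fun r hr => ?_) ((Subgroup.closure_le _).mpr fun r hr => ?_)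
    · rw [hR] at hr
      obtain ⟨c, hc, hck⟩ := H.exists_autT_mul h hPn r.2 hr.1
      have := Subgroup.mul_mem (H.Y P ⊔ kerMod F θ P)
        (Subgroup.mem_sup_left (Subgroup.mem_sup_right hc)) (Subgroup.mem_sup_right hck)
      rw [mul_inv_cancel_left] at this
      exact this
    · refine Subgroup.mem_sup_left (H.mem_Y_of_coprime r.2 ?_)
      show (orderOf (r : MulAut P)).Coprime p
      rw [Subgroup.orderOf_coe]
      exact hr
  have hn : H.Y P ≤ Subgroup.normalizer (kerMod F θ P : Set (MulAut P)) := fun a ha =>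
    Subgroup.mem_normalizer_fintype fun k hk =>
      H.kerMod_conj hW hPS (H.X_le P (H.Y_le_X hW hP ha)) hk
  have hmem : γ ∈ H.Y P ⊔ kerMod F θ P :=
    hle (CfsgLib.Transfer.sup_pResidual_eq_top R ▸ Subgroup.mem_top (⟨γ, hγ⟩ : H.X P))
  rw [← SetLike.mem_coe, Subgroup.coe_mul_of_left_le_normalizer_right _ _ hn] at hmem
  obtain ⟨y, hy, k, hk, e⟩ := hmem
  exact ⟨y, hy, k, hk, e.symm⟩

/-- `Y` meets `kerMod` in inner automorphisms. -/
theorem CLift.Y_inf_kerMod (h : HCl W θ Ebar P) (hPn : F.IsFullyNormalized P) :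
    H.Y P ⊓ kerMod F θ P ≤ Inn P := by
  classical
  obtain ⟨hW, hP, hPc⟩ := id h
  have hPS := hP.trans H.top_le
  have := finite_mulAut hPS
  set A := autInducedBy (liftTop θ T') P with hAdef
  set Hs := autInducedBy S P ⊓ H.X P with hHs
  have hAS : A ≤ autInducedBy S P := fun c hc => by
    obtain ⟨t, ht, htn, hte⟩ := mem_autInducedBy.mp hc
    exact mem_autInducedBy.mpr ⟨t, H.top_le ht, htn, hte⟩
  have hAH : A ≤ Hs := le_inf hAS (H.autT_le_X hW hP)
  have hKH : kerMod F θ P ≤ Hs := le_inf (H.kerMod_le_autS hW hPS hPn) (H.kerMod_le_X hW hP)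
  have hdec : ∀ a ∈ Hs, ∃ c ∈ A, ∃ k ∈ kerMod F θ P, a = c * k := fun a ha => by
    obtain ⟨c, hc, hck⟩ := H.exists_autT_mul h hPn ha.2 ha.1
    exact ⟨c, hc, _, hck, (mul_inv_cancel_left _ _).symm⟩
  have hAn : ∀ a ∈ Hs, ∀ c ∈ A, a * c * a⁻¹ ∈ A := fun a ha c hc => by
    obtain ⟨c', hc', k, hk, rfl⟩ := hdec a ha
    have := A.mul_mem (A.mul_mem hc' (H.kerMod_normalizes_autT hW hP hPn hk hc)) (A.inv_mem hc')
    convert this using 1
    group
  set X := H.X P with hX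
  let K₀ : Subgroup ↥X := Hs.subgroupOf X
  let A₀ : Subgroup ↥K₀ := (A.subgroupOf X).subgroupOf K₀
  haveI : A₀.Normal := ⟨fun c hc a => hAn _ a.2 _ hc⟩
  have hcomm : ∀ a b : ↥K₀ ⧸ A₀, a * b = b * a := by
    intro a b
    obtain ⟨a, rfl⟩ := QuotientGroup.mk'_surjective _ a
    obtain ⟨b, rfl⟩ := QuotientGroup.mk'_surjective _ b
    have hred : ∀ a : ↥K₀, ∃ k : ↥K₀, ((k : ↥X) : MulAut P) ∈ kerMod F θ P ∧
        QuotientGroup.mk' A₀ a = QuotientGroup.mk' A₀ k := by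
      intro a
      obtain ⟨c, hc, k, hk, e⟩ := hdec _ a.2
      let k₀ : ↥K₀ := ⟨⟨k, H.kerMod_le_X hW hP hk⟩, hKH hk⟩
      let c₀ : ↥K₀ := ⟨⟨c, H.autT_le_X hW hP hc⟩, hAH hc⟩
      refine ⟨k₀, hk, ?_⟩
      have e' : a = c₀ * k₀ := Subtype.ext (Subtype.ext e)
      rw [e', map_mul, show QuotientGroup.mk' A₀ c₀ = 1 from (QuotientGroup.eq_one_iff _).mpr hc,
        one_mul]
    obtain ⟨ka, hka, ea⟩ := hred a
    obtain ⟨kb, hkb, eb⟩ := hred b
    rw [ea, eb, ← map_mul, ← map_mul]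
    exact congrArg _ (Subtype.ext (Subtype.ext (H.kerMod_comm hW hPS hka hkb)))
  letI : CommGroup (↥K₀ ⧸ A₀) :=
    { (inferInstance : Group (↥K₀ ⧸ A₀)) with mul_comm := hcomm }
  let φ : ↥K₀ →* ↥K₀ ⧸ A₀ := QuotientGroup.mk' A₀
  have hφA : ∀ a : ↥K₀, φ a = 1 ↔ ((a : ↥X) : MulAut P) ∈ A := fun a => QuotientGroup.eq_one_iff a
  have hstab : ∀ (a b : ↥K₀) (g : ↥X), g * (a : ↥X) * g⁻¹ = b → φ a = φ b := by
    intro a b g hg
    obtain ⟨c, hc, k, hk, e⟩ := hdec _ a.2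
    replace e : ((a : ↥X) : MulAut P) = c * k := e
    have hgF := H.X_le P g.2
    have hi : k⁻¹ * ((g : MulAut P) * k * (g : MulAut P)⁻¹) ∈ Inn P :=
      H.comm_mem_inn P h k hk g g.2
    have hgk : (g : MulAut P) * k * (g : MulAut P)⁻¹ ∈ kerMod F θ P :=
      H.kerMod_conj hW hPS hgF hk
    have hb : (g : MulAut P) * c * (g : MulAut P)⁻¹ * ((g : MulAut P) * k * (g : MulAut P)⁻¹) =
        ((b : ↥X) : MulAut P) := by
      have h1 : (g : MulAut P) * ((a : ↥X) : MulAut P) * (g : MulAut P)⁻¹ =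
          ((b : ↥X) : MulAut P) := congrArg Subtype.val hg
      rw [← h1, e]
      group
    have hgc : (g : MulAut P) * c * (g : MulAut P)⁻¹ ∈ A := by
      refine H.autT_closed hP hPn hgF hc ?_
      rw [eq_mul_inv_of_mul_eq hb]
      exact Subgroup.mul_mem _ b.2.1
        (Subgroup.inv_mem _ (H.kerMod_le_autS hW hPS hPn hgk))
    let k₀ : ↥K₀ := ⟨⟨k, H.kerMod_le_X hW hP hk⟩, hKH hk⟩
    have hφa : φ a = φ k₀ := by
      let c₀ : ↥K₀ := ⟨⟨c, H.autT_le_X hW hP hc⟩, hAH hc⟩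
      rw [show a = c₀ * k₀ from Subtype.ext (Subtype.ext e), map_mul, (hφA c₀).mpr hc, one_mul]
    rw [hφa, eq_comm, ← mul_inv_eq_one, ← map_inv, ← map_mul, hφA]
    show ((b : ↥X) : MulAut P) * k⁻¹ ∈ A
    rw [← hb]
    have hki : k * (k⁻¹ * ((g : MulAut P) * k * (g : MulAut P)⁻¹)) * k⁻¹ ∈ Inn P :=
      inn_conj_mem hi
    rw [mul_inv_cancel_left] at hki
    have := A.mul_mem hgc (H.inn_le_autT hP hki)
    simpa [mul_assoc] using this
  let τ : ↥X →* ↥K₀ ⧸ A₀ := MonoidHom.transfer φ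
  have hsyl : IsSylIn p Hs X := isSylIn_inf
    (isFullyAutomized_iff.mp (isFullyAutomized_of_normalized H.hS H.hF hPn).1).2 (H.X_le P)
    fun b hb x hx => H.X_conj hW hP hb hx
  obtain ⟨R, hR⟩ := (exists_sylow_iff hsyl.1).mpr hsyl
  have hco : Nat.Coprime K₀.index p := by
    have h1 := R.not_dvd_index
    rw [hR] at h1
    exact ((Nat.Prime.coprime_iff_not_dvd hp.out).mpr h1).symm
  have hQp : ∀ u : ↥K₀ ⧸ A₀, ∃ i : ℕ, u ^ p ^ i = 1 := by
    intro u
    obtain ⟨x, hx⟩ : ∃ x, φ x = u := QuotientGroup.mk'_surjective A₀ u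
    obtain ⟨i, hi⟩ := (hsyl.2.1.comap_of_injective X.subtype X.subtype_injective :
      IsPGroup p ↥K₀) x
    refine ⟨i, ?_⟩
    rw [← hx, ← map_pow, show x ^ p ^ i = 1 from hi, map_one]
  have hker : H.Y P ≤ τ.ker.map X.subtype := by
    refine sup_le ((Subgroup.closure_le _).mpr fun α hα => ?_) fun c hc => ?_
    · refine ⟨⟨α, hα.1⟩, ?_, rfl⟩
      show τ ⟨α, hα.1⟩ = 1
      obtain ⟨i, hi⟩ := hQp (τ ⟨α, hα.1⟩)
      refine orderOf_eq_one_iff.mp (Nat.eq_one_of_dvd_coprimes (hα.2.pow_right i) ?_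
        (orderOf_dvd_of_pow_eq_one hi))
      have h1 : orderOf (⟨α, hα.1⟩ : X) = orderOf α := Subgroup.orderOf_mk α hα.1
      exact (orderOf_map_dvd τ _).trans h1.dvd
    · refine ⟨⟨c, H.autT_le_X hW hP hc⟩, ?_, rfl⟩
      show τ ((⟨⟨c, H.autT_le_X hW hP hc⟩, hAH hc⟩ : ↥K₀) : ↥X) = 1
      rw [transfer_of_stable φ hstab, (hφA _).mpr hc, one_pow]
  rintro k ⟨hkY, hk⟩
  obtain ⟨⟨k', hk'⟩, hkτ, e⟩ := hker hkY
  have e' : k' = k := e
  subst e'
  have h1 : τ ((⟨⟨k', hk'⟩, hKH hk⟩ : ↥K₀) : ↥X) = 1 := hkτ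
  rw [transfer_of_stable φ hstab] at h1
  obtain ⟨i, hi⟩ := hQp (φ ⟨⟨k', hk'⟩, hKH hk⟩)
  have h2 : φ ⟨⟨k', hk'⟩, hKH hk⟩ = 1 := orderOf_eq_one_iff.mp (Nat.eq_one_of_dvd_coprimes
    (hco.pow_right i) (orderOf_dvd_of_pow_eq_one h1) (orderOf_dvd_of_pow_eq_one hi))
  exact H.ker_inf_autT h ⟨hk, (hφA _).mp h2⟩

end

end CfsgLib.Fusion
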