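import Mathlib
import Cfsg.Agent.Lib.Fusion.CentralLiftTransfer

/-!
# The lifted system: generation, lifting, and transport
-/

set_option autoImplicit false
set_option linter.unusedSectionVars false

namespace CfsgLib.Fusion

open Cfsg Cfsg.FusionSystem

variable {Ω Ω' : Type*} [Group Ω] [Group Ω'] {S : Subgroup Ω} [Finite S]
  {F : FusionSystem S} {W : Subgroup Ω} {θ : S →* Ω'} {S' : Subgroup Ω'}
  {Fbar : FusionSystem S'} {T' : Subgroup Ω'} {Ebar : FusionSystem T'} {p : ℕ} [hp : Fact p.Prime]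
  {P : Subgroup Ω}

/-- A saturated system is contained in any system with the inner maps and its automorphisms of
order prime to `p` of centric subgroups. -/
theorem le_of_coprime_aut_centric {Γ : Type*} [Group Γ] {U : Subgroup Γ} [Finite U]
    (hU : IsPGroup p U) {E L : FusionSystem U} (hE : E.IsSaturated p)
    (h : ∀ Q : Subgroup Γ, E.IsCentric Q → ∀ α ∈ E.autGroup Q, (orderOf α).Coprime p →
      α ∈ L.autGroup Q) : E ≤ L := by
  refine alperin hU hE fun Q hQ => ?_
  obtain ⟨hQn, hQc⟩ : E.IsFullyNormalized Q ∧ E.IsCentric Q := by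
    rcases hQ with rfl | hQ
    exacts [⟨isFullyNormalized_self E, centric_self E⟩, ⟨hQ.2.1, hQ.1⟩]
  obtain ⟨R, hR⟩ := (exists_sylow_iff (autInducedBy_le E hQn.1)).mpr
    (isFullyAutomized_iff.mp (isFullyAutomized_of_normalized hU hE hQn).1).2
  have := finite_mulAut (P := Q) hQn.1
  have hle : (R : Subgroup (E.autGroup Q)) ⊔ pResidual p (E.autGroup Q) ≤
      (L.autGroup Q).subgroupOf (E.autGroup Q) := by
    refine sup_le (fun r hr => ?_) ((Subgroup.closure_le _).mpr fun r hr => ?_)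
    · rw [hR] at hr
      exact autInducedBy_le L hQn.1 hr
    · exact h Q hQc r r.2 (by rw [Subgroup.orderOf_coe]; exact hr)
  intro α hα
  exact hle (CfsgLib.Transfer.sup_pResidual_eq_top R ▸ Subgroup.mem_top (⟨α, hα⟩ : E.autGroup Q))

/-- The maps generated by the conjugations by `T` and the lifting automorphisms of order prime to
`p` of the centric family. -/
inductive LGen (F : FusionSystem S) (W : Subgroup Ω) (θ : S →* Ω') (Ebar : FusionSystem T')
    (p : ℕ) : Subgroup Ω → (Ω → Ω) → Prop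
  | conj {P : Subgroup Ω} {f : Ω → Ω} (t : Ω) : P ≤ liftTop θ T' → t ∈ liftTop θ T' →
      (∀ x ∈ P, f x = cj t x) → LGen F W θ Ebar p P f
  | step {P R : Subgroup Ω} {f : Ω → Ω} (α : MulAut R) : HCl W θ Ebar R →
      Lifts F W θ Ebar R (autFun α) → (orderOf α).Coprime p → P ≤ R →
      (∀ x ∈ P, f x = autFun α x) → LGen F W θ Ebar p P f
  | comp {P : Subgroup Ω} {g h f : Ω → Ω} : LGen F W θ Ebar p P g →
      LGen F W θ Ebar p (img P g) h → (∀ x ∈ P, f x = h (g x)) → LGen F W θ Ebar p P f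

section

variable (H : CLift F W θ Fbar Ebar p)

include H

theorem CLift.gen_isMor {f : Ω → Ω} (h : LGen F W θ Ebar p P f) :
    IsMor F P f ∧ P ≤ liftTop θ T' ∧ ∀ x ∈ P, f x ∈ liftTop θ T' := by
  induction h with
  | conj t hP ht e =>
    exact ⟨(isMor_cj F (hP.trans H.top_le) (H.top_le ht)).congr fun x hx => (e x hx).symm, hP,
      fun x hx => (e x hx).symm ▸ Subgroup.mul_mem _ (Subgroup.mul_mem _ ht (hP hx))
        (Subgroup.inv_mem _ ht)⟩
  | step α hR hα hc hPR e =>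
    exact ⟨(hα.isMor.restrict hPR).congr fun x hx => (e x hx).symm, hPR.trans hR.2.1,
      fun x hx => (e x hx).symm ▸ hR.2.1 (autFun_mem α (hPR hx))⟩
  | comp _ _ e ih₁ ih₂ =>
    exact ⟨(ih₁.1.comp ih₂.1 fun x hx => mem_img_of_mem _ hx).congr fun x hx => (e x hx).symm,
      ih₁.2.1, fun x hx => (e x hx).symm ▸ ih₂.2.2 _ (mem_img_of_mem _ hx)⟩

theorem CLift.gen_congr {f f' : Ω → Ω} (h : LGen F W θ Ebar p P f) (e : ∀ x ∈ P, f x = f' x) :
    LGen F W θ Ebar p P f' := by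
  cases h with
  | conj t hP ht e' => exact .conj t hP ht fun x hx => (e x hx).symm.trans (e' x hx)
  | step α hR hα hc hPR e' =>
    exact .step α hR hα hc hPR fun x hx => (e x hx).symm.trans (e' x hx)
  | comp h₁ h₂ e' => exact .comp h₁ h₂ fun x hx => (e x hx).symm.trans (e' x hx)

theorem CLift.gen_restrict {f : Ω → Ω} (h : LGen F W θ Ebar p P f) :
    ∀ P' ≤ P, LGen F W θ Ebar p P' f := by
  induction h with
  | conj t hP ht e => exact fun P' h' => .conj t (h'.trans hP) ht fun x hx => e x (h' hx)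
  | step α hR hα hc hPR e =>
    exact fun P' h' => .step α hR hα hc (h'.trans hPR) fun x hx => e x (h' hx)
  | comp _ _ e ih₁ ih₂ =>
    exact fun P' h' => .comp (ih₁ P' h') (ih₂ _ (img_mono _ h')) fun x hx => e x (h' hx)

theorem CLift.gen_comp {R : Subgroup Ω} {f g : Ω → Ω} (hf : LGen F W θ Ebar p P f)
    (hg : LGen F W θ Ebar p R g) (h : ∀ x ∈ P, f x ∈ R) : LGen F W θ Ebar p P (g ∘ f) :=
  .comp hf (H.gen_restrict hg _ (img_le h)) fun _ _ => rfl

theorem CLift.gen_id (hP : P ≤ liftTop θ T') : LGen F W θ Ebar p P id :=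
  .conj 1 hP (one_mem _) fun x _ => (cj_one x).symm

theorem CLift.gen_inverse {f : Ω → Ω} (h : LGen F W θ Ebar p P f) :
    ∀ k, IsMor F (img P f) k → (∀ x ∈ P, k (f x) = x) → LGen F W θ Ebar p (img P f) k := by
  induction h with
  | @conj P f t hP ht e =>
    intro k hk hkl
    have hle : img P f ≤ liftTop θ T' :=
      img_le fun x hx => (H.gen_isMor (.conj t hP ht e)).2.2 x hx
    refine .conj t⁻¹ hle (Subgroup.inv_mem _ ht) fun y hy => ?_
    obtain ⟨x, hx, rfl⟩ := (H.gen_isMor (.conj t hP ht e)).1.mem_img.mp hy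
    rw [hkl x hx, e x hx, cj_inv_cj]
  | @step P R f α hR hα hc hPR e =>
    intro k hk hkl
    have hRS := hR.2.1.trans H.top_le
    have hinv : Lifts F W θ Ebar R (autFun α⁻¹) :=
      ((H.X R).inv_mem (H.mem_X_of_lifts hα)).2 hR.1 hR.2.1
    have hm := (hα.isMor.restrict hPR).congr fun x hx => (e x hx).symm
    refine .step α⁻¹ hR hinv (by rwa [orderOf_inv]) (img_le fun x hx => ?_) fun y hy => ?_
    · rw [e x hx]; exact autFun_mem α (hPR hx)
    · obtain ⟨x, hx, rfl⟩ := hm.mem_img.mp hy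
      rw [hkl x hx, e x hx, autFun_inv_left α (hPR hx)]
  | @comp P g h f h₁ h₂ e ih₁ ih₂ =>
    intro k hk hkl
    have hg := (H.gen_isMor h₁).1
    have hh := (H.gen_isMor h₂).1
    obtain ⟨gi, hgi, hgl, -, -⟩ := hg.inverse
    obtain ⟨hi', hhi, hhl, -, hhii⟩ := hh.inverse
    have hi : img P f = img (img P g) h := by
      rw [hg.img_comp]
      exact img_congr e
    rw [hi]
    refine .comp (ih₂ hi' hhi hhl) (show LGen F W θ Ebar p (img (img (img P g) h) hi') gi by
      rw [hhii]; exact ih₁ gi hgi hgl) fun y hy => ?_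
    obtain ⟨z, hz, rfl⟩ := hh.mem_img.mp hy
    obtain ⟨x, hx, rfl⟩ := hg.mem_img.mp hz
    rw [hhl _ hz, hgl x hx, ← e x hx, hkl x hx]

/-- Every generated map extends over `W`. -/
theorem CLift.gen_extend {f : Ω → Ω} (h : LGen F W θ Ebar p P f) :
    ∃ g, LGen F W θ Ebar p (P ⊔ W) g ∧ Lifts F W θ Ebar (P ⊔ W) g ∧ ∀ x ∈ P, g x = f x := by
  induction h with
  | @conj P f t hP ht e =>
    exact ⟨cj t, .conj t (sup_le hP H.le_top_W) ht fun _ _ => rfl,
      H.lifts_cj le_sup_right (sup_le hP H.le_top_W) ht, fun x hx => (e x hx).symm⟩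
  | @step P R f α hR hα hc hPR e =>
    exact ⟨autFun α, .step α hR hα hc (sup_le hPR hR.1) fun _ _ => rfl,
      hα.restrict (sup_le hPR hR.1) le_sup_right, fun x hx => (e x hx).symm⟩
  | @comp P g h f h₁ h₂ e ih₁ ih₂ =>
    obtain ⟨g₁, hg₁, hl₁, he₁⟩ := ih₁
    obtain ⟨g₂, hg₂, hl₂, he₂⟩ := ih₂
    have hm : ∀ x ∈ P ⊔ W, g₁ x ∈ img P g ⊔ W := fun x hx => by
      have h1 := mem_img_of_mem g₁ hx
      rw [hl₁.isMor.img_sup, img_congr he₁] at h1
      refine sup_le_sup_left (img_le fun w hw => ?_) _ h1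
      rw [H.fixW hl₁.isMor hw (Subgroup.mem_sup_right hw)]
      exact hw
    refine ⟨g₂ ∘ g₁, H.gen_comp hg₁ hg₂ hm, H.lifts_comp hl₁ hl₂ hm, fun x hx => ?_⟩
    rw [Function.comp_apply, he₁ x hx, he₂ _ (mem_img_of_mem g hx), e x hx]

theorem CLift.gen_lifts {f : Ω → Ω} (h : LGen F W θ Ebar p P f) (hW : W ≤ P) :
    Lifts F W θ Ebar P f := by
  obtain ⟨g, -, hl, he⟩ := H.gen_extend h
  exact (hl.restrict le_sup_left hW).congr he

/-- Every map of `Ebar` lifts. -/
theorem CLift.gen_lift {P' : Subgroup Ω'} {f' : Ω' → Ω'} (hf : IsMor Ebar P' f') :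
    ∃ g, LGen F W θ Ebar p (preimageAlong θ P') g ∧
      ∀ x ∈ preimageAlong θ P', f' (thF θ x) = thF θ (g x) := by
  classical
  have := H.finite_S'
  have := H.finite_T'
  have hpre : ∀ {P' : Subgroup Ω'}, P' ≤ T' → preimageAlong θ P' ≤ liftTop θ T' := fun h x hx => by
    obtain ⟨h1, h2⟩ := (mem_preimageAlong_thF θ).mp hx
    exact (mem_preimageAlong_thF θ).mpr ⟨h1, h h2⟩
  let M : Subgroup Ω' → (Ω' → Ω') → Prop := fun P' f' => IsMor Ebar P' f' ∧
    ∃ g, LGen F W θ Ebar p (preimageAlong θ P') g ∧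
      ∀ x ∈ preimageAlong θ P', f' (thF θ x) = thF θ (g x)
  let L : FusionSystem T' := ofPred T' M (fun P f h => ⟨h.1.le, fun x hx => h.1.mem hx⟩)
    (fun P f h x hx y hy e => h.1.inj hx hy e)
    (fun P f f' ⟨hf, g, hg, hge⟩ e => ⟨hf.congr e, g, hg, fun x hx => by
      rw [← e _ ((mem_preimageAlong_thF θ).mp hx).2]; exact hge x hx⟩)
    (fun P t hP ht => by
      obtain ⟨s, hs, rfl⟩ := H.exists_thF (H.T'_le ht)
      refine ⟨isMor_cj Ebar hP ht, cj s, .conj s (hpre hP)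
        ((mem_preimageAlong_thF θ).mpr ⟨hs, ht⟩) fun _ _ => rfl, fun x hx => ?_⟩
      exact (thF_cj θ hs ((mem_preimageAlong_thF θ).mp hx).1).symm)
    (fun P Q f f' ⟨hf, g, hg, hge⟩ ⟨hf', g', hg', hge'⟩ hfQ => by
      have hm : ∀ x ∈ preimageAlong θ P, g x ∈ preimageAlong θ Q := fun x hx =>
        (mem_preimageAlong_thF θ).mpr ⟨(H.gen_isMor hg).1.mem hx, hge x hx ▸
          hfQ _ ((mem_preimageAlong_thF θ).mp hx).2⟩
      refine ⟨hf.comp hf' hfQ, g' ∘ g, H.gen_comp hg hg' hm, fun x hx => ?_⟩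
      rw [Function.comp_apply, hge x hx, hge' _ (hm x hx)]
      rfl)
    (fun P f ⟨hf, g, hg, hge⟩ _ => by
      have hgm := (H.gen_isMor hg).1
      obtain ⟨fi, hfi, hfl, -, -⟩ := hf.inverse
      obtain ⟨gi, hgi, hgl, -, -⟩ := hgm.inverse
      have hPS' : P ≤ S' := hf.le.trans H.T'_le
      have him : img (imageAlong θ (preimageAlong θ P)) f = imageAlong θ (img (preimageAlong θ P) g) :=
        H.img_image hgm (by rw [H.image_pre hPS']; exact le_iff_isMor.mp H.ebar_sub _ _ hf) hge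
      rw [H.image_pre hPS'] at him
      have hpi : preimageAlong θ (img P f) = img (preimageAlong θ P) g := by
        rw [him, H.pre_image (H.W_le_img hgm (H.W_le_pre P)) hgm.img_le]
      refine ⟨fi, ⟨hfi, gi, hpi ▸ H.gen_inverse hg gi hgi hgl, fun y hy => ?_⟩, hfl⟩
      rw [hpi] at hy
      obtain ⟨x, hx, rfl⟩ := hgm.mem_img.mp hy
      rw [← hge x hx, hfl _ ((mem_preimageAlong_thF θ).mp hx).2, hgl x hx])
  have hLiff : ∀ P f, IsMor L P f ↔ M P f := fun P f =>
    isMor_ofPred fun h x hx y hy => h.1.map_mul hx hy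
  refine ((hLiff P' f').mp (le_iff_isMor.mp (le_of_coprime_aut_centric H.isPGroup_T'
    H.ebar_saturated fun Q hQ α hα hc => ?_) P' f' hf)).2
  refine (autGroup_eq_set hQ.1 α).mpr ((hLiff _ _).mpr ⟨isMor_autFun hQ.1 hα, ?_⟩)
  set R := preimageAlong θ Q with hRdef
  have hQS' : Q ≤ S' := hQ.1.trans H.T'_le
  have hRT : R ≤ liftTop θ T' := hpre hQ.1
  have hRS := hRT.trans H.top_le
  have hWR : W ≤ R := H.W_le_pre Q
  have hαm := isMor_autFun hQ.1 hα
  obtain ⟨g, hg, hge⟩ := H.lift (le_iff_isMor.mp H.ebar_sub _ _ hαm)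
  have hgi : img R g = R := hg.img_eq_self fun x hx => (mem_preimageAlong_thF θ).mpr
    ⟨hg.mem hx, hge x hx ▸ autFun_mem α ((mem_preimageAlong_thF θ).mp hx).2⟩
  obtain ⟨ν, hν, hνe⟩ := exists_aut hg hgi
  have := finite_mulAut hRS
  obtain ⟨m, hm, hmc⟩ := exists_pow_fix (p := p) α ν hc
  have hpow : ∀ j : ℕ, ∀ x ∈ R, thF θ (autFun (ν ^ j) x) = autFun (α ^ j) (thF θ x) := by
    intro j
    induction j with
    | zero =>
      intro x hx
      rw [pow_zero, pow_zero, autFun_one hx, autFun_one ((mem_preimageAlong_thF θ).mp hx).2]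
    | succ j ih =>
      intro x hx
      rw [pow_succ', pow_succ', autFun_mul _ _ hx,
        autFun_mul _ _ ((mem_preimageAlong_thF θ).mp hx).2, ← ih x hx,
        hge _ (autFun_mem _ hx), hνe _ (autFun_mem _ hx)]
  have hRc : HCl W θ Ebar R := ⟨hWR, hRT, by rw [hRdef, H.image_pre hQS']; exact hQ⟩
  have hl : Lifts F W θ Ebar R (autFun (ν ^ m)) :=
    ⟨hWR, hRT, isMor_autFun hRS (Subgroup.pow_mem _ hν m), autFun α,
      by rw [hRdef, H.image_pre hQS']; exact hαm,
      fun x hx => by rw [hpow m x hx, hm]⟩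
  exact ⟨autFun (ν ^ m), .step _ hRc hl hmc le_rfl fun _ _ => rfl,
    fun x hx => by rw [hpow m x hx, hm]⟩

/-- Transport along an automorphism of `T`. -/
theorem CLift.gen_transport {α : MulAut ↥(liftTop θ T')} (hα : α ∈ F.autGroup (liftTop θ T'))
    {f : Ω → Ω} (h : LGen F W θ Ebar p P f) :
    ∃ k, LGen F W θ Ebar p (img P (autFun α)) k ∧
      ∀ x ∈ P, k (autFun α x) = autFun α (f x) := by
  have hαm := isMor_autFun H.top_le hα
  induction h with
  | @conj P f t hP ht e =>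
    have hm := hαm.restrict hP
    refine ⟨cj (autFun α t), .conj _ (img_le fun x hx => autFun_mem α (hP hx)) (autFun_mem α ht)
      fun _ _ => rfl, fun x hx => ?_⟩
    rw [e x hx]
    exact (hαm.map_conj ht (hP hx)).symm
  | @step P R f a hR ha hc hPR e =>
    have hm := hαm.restrict hR.2.1
    obtain ⟨E, hE, -, hEX, -⟩ := H.exists_transport_groups hR hm
    have hR' := H.hcl_img hR hm
    refine ⟨autFun (E a), .step (E a) hR' ((hEX a (H.mem_X_of_lifts ha)).2 hR'.1 hR'.2.1)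
      (by rwa [MulEquiv.orderOf_eq]) (img_mono _ hPR) fun _ _ => rfl, fun x hx => ?_⟩
    rw [hE a x (hPR hx), e x hx]
  | @comp P g h f h₁ h₂ e ih₁ ih₂ =>
    obtain ⟨k₁, hk₁, hk₁e⟩ := ih₁
    obtain ⟨k₂, hk₂, hk₂e⟩ := ih₂
    obtain ⟨hgm, hPT, hgT⟩ := H.gen_isMor h₁
    refine ⟨k₂ ∘ k₁, H.gen_comp hk₁ hk₂ fun y hy => ?_, fun x hx => ?_⟩
    · obtain ⟨x, hx, rfl⟩ := (hαm.restrict hPT).mem_img.mp hy
      rw [hk₁e x hx]
      exact mem_img_of_mem _ (mem_img_of_mem g hx)
    · rw [Function.comp_apply, hk₁e x hx, hk₂e _ (mem_img_of_mem g hx), e x hx]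

/-- Every member of the centric family has a conjugate, by a generated map and an automorphism of
`T`, that is fully normalized in `F`. -/
theorem CLift.exists_rep {A : Subgroup Ω} (h : HCl W θ Ebar A) :
    ∃ e, LGen F W θ Ebar p A e ∧ ∃ α ∈ F.autGroup (liftTop θ T'),
      F.IsFullyNormalized (img (img A e) (autFun α)) := by
  obtain ⟨hW, hA, -⟩ := h
  have hAS := hA.trans H.top_le
  have := H.finite_S'
  obtain ⟨P₀, hP₀, hP₀n⟩ := exists_fullyNormalized F hAS
  obtain ⟨g, hg, rfl⟩ := isConj_iff.mp hP₀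
  obtain ⟨g', hg', hge⟩ := H.push hg hW
  obtain ⟨a', ha', e', he', hae⟩ := factors_of_strongInv H.isPGroup_S' H.fbar_saturated H.ebar_sub
    H.T'_closed H.strongInv hg' (H.image_le_T' hA)
  obtain ⟨e, he, hee⟩ := H.gen_lift he'
  rw [H.pre_image hW hAS] at he hee
  obtain ⟨n, hn, hne⟩ := H.lift (isMor_autFun H.T'_le ha')
  have hnT : IsMor F (liftTop θ T') n := hn
  obtain ⟨α, hα, hαe⟩ := exists_aut hnT (hnT.img_eq_self fun x hx =>
    (stronglyClosed_iff.mp H.top_closed).2 _ n hnT x hx hx)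
  refine ⟨e, he, α, hα, ?_⟩
  obtain ⟨hem, -, heT⟩ := H.gen_isMor he
  have hth : ∀ x ∈ A, thF θ (autFun α (e x)) = thF θ (g x) := fun x hx => by
    rw [hαe _ (heT x hx), ← hne _ (heT x hx), ← hee x hx,
      ← hae _ (thF_mem_imageAlong θ hAS hx), hge x hx]
  have hc := hem.comp (isMor_autFun H.top_le hα) fun x hx => heT x hx
  have hWc : W ≤ img A (autFun α ∘ e) := H.W_le_img hc hW
  have hWg : W ≤ img A g := H.W_le_img hg hW
  rw [hem.img_comp]
  have heq : img A (autFun α ∘ e) = img A g := le_antisymm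
    (img_le fun x hx => H.mem_of_thF hWg hg.img_le (hc.mem hx) (by
      rw [Function.comp_apply, hth x hx]; exact thF_mem_imageAlong θ hg.img_le (mem_img_of_mem g hx)))
    (img_le fun x hx => H.mem_of_thF hWc hc.img_le (hg.mem hx) (by
      rw [← hth x hx]; exact thF_mem_imageAlong θ hc.img_le (mem_img_of_mem (autFun α ∘ e) hx)))
  rw [heq]
  exact hP₀n

/-- A generated map of normalizers onto a member with image fully normalized in `Ebar`. -/
theorem CLift.exists_gm {A : Subgroup Ω} (hWA : W ≤ A) (hA : A ≤ liftTop θ T') (hWP : W ≤ P)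
    (hP : P ≤ liftTop θ T') (hPn : Ebar.IsFullyNormalized (imageAlong θ P))
    (hc : Ebar.IsConj (imageAlong θ A) (imageAlong θ P)) :
    ∃ a, LGen F W θ Ebar p (normalizerIn (liftTop θ T') A) a ∧ img A a = P ∧
      ∀ x ∈ normalizerIn (liftTop θ T') A, a x ∈ normalizerIn (liftTop θ T') P := by
  have hAS := hA.trans H.top_le
  have hPS := hP.trans H.top_le
  have : Finite A := finite_of_le hAS
  have : Finite P := finite_of_le hPS
  have := H.finite_S'
  have := H.finite_T'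
  obtain ⟨g', hg', hgi, -⟩ :=
    exists_map_fullyNormalized H.isPGroup_T' H.ebar_saturated hPn hc
  obtain ⟨a, ha, hae⟩ := H.gen_lift hg'
  have hsub : normalizerIn (liftTop θ T') A ≤
      preimageAlong θ (normalizerIn T' (imageAlong θ A)) := fun x hx => by
    obtain ⟨hxT, hxn⟩ := mem_normalizerIn.mp hx
    obtain ⟨hxS, hx'⟩ := (mem_preimageAlong_thF θ).mp hxT
    exact (mem_preimageAlong_thF θ).mpr
      ⟨hxS, mem_normalizerIn.mpr ⟨hx', thF_normalizer θ hAS hxS hxn⟩⟩
  have ha' := H.gen_restrict ha _ hsub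
  obtain ⟨ham, -, haT⟩ := H.gen_isMor ha'
  have hAN : A ≤ normalizerIn (liftTop θ T') A := le_normalizerIn hA
  have hi : img A a = P := by
    have h1 : imageAlong θ (img A a) = imageAlong θ P := by
      rw [← hgi]
      refine (H.img_image (ham.restrict hAN) ?_ fun x hx => hae x (hsub (hAN hx))).symm
      exact le_iff_isMor.mp H.ebar_sub _ _
        (hg'.restrict (le_normalizerIn (H.image_le_T' hA)))
    rw [← H.pre_image (H.W_le_img (ham.restrict hAN) hWA) (ham.restrict hAN).img_le, h1,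
      H.pre_image hWP hPS]
  refine ⟨a, ha', hi, fun x hx => mem_normalizerIn.mpr ⟨haT x hx, ?_⟩⟩
  have h1 := mapsTo_normalizerIn ham hAN
    (fun y hy => mem_normalizerIn.mpr ⟨H.top_le (mem_normalizerIn.mp hy).1, (mem_normalizerIn.mp hy).2⟩)
    x hx
  rw [hi] at h1
  exact (mem_normalizerIn.mp h1).2

end

end CfsgLib.Fusion
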