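import Mathlib
import Cfsg.Agent.Lib.Fusion.CentralLiftGen

/-!
# Every element of `Y` extends by generated maps as far as it can
-/

set_option autoImplicit false
set_option linter.unusedSectionVars false

namespace CfsgLib.Fusion

open Cfsg Cfsg.FusionSystem

variable {Ω Ω' : Type*} [Group Ω] [Group Ω'] {S : Subgroup Ω} [Finite S]
  {F : FusionSystem S} {W : Subgroup Ω} {θ : S →* Ω'} {S' : Subgroup Ω'}
  {Fbar : FusionSystem S'} {T' : Subgroup Ω'} {Ebar : FusionSystem T'} {p : ℕ} [hp : Fact p.Prime]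
  {P : Subgroup Ω}

/-- The elements of `N_T(P)` inducing an element of `U` on `P`. -/
def preU (T : Subgroup Ω) (U : Subgroup (MulAut P)) : Subgroup Ω where
  carrier := {t | t ∈ normalizerIn T P ∧ ∃ c ∈ U, ∀ x ∈ P, autFun c x = cj t x}
  one_mem' := ⟨one_mem _, 1, one_mem _, fun x hx => by rw [autFun_one hx, cj_one]⟩
  mul_mem' := by
    rintro a b ⟨ha, c, hc, hce⟩ ⟨hb, d, hd, hde⟩
    refine ⟨Subgroup.mul_mem _ ha hb, c * d, U.mul_mem hc hd, fun x hx => ?_⟩
    rw [autFun_mul _ _ hx, hce _ (autFun_mem d hx), hde x hx, cj_mul]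
  inv_mem' := by
    rintro a ⟨ha, c, hc, hce⟩
    refine ⟨Subgroup.inv_mem _ ha, c⁻¹, U.inv_mem hc, fun x hx => ?_⟩
    conv_rhs => rw [← autFun_inv_right c hx, hce _ (autFun_mem c⁻¹ hx), cj_inv_cj]

theorem preU_le (T : Subgroup Ω) (U : Subgroup (MulAut P)) : preU T U ≤ normalizerIn T P :=
  fun _ h => h.1

theorem preU_mono (T : Subgroup Ω) {U V : Subgroup (MulAut P)} (h : U ≤ V) :
    preU T U ≤ preU T V := fun _ ⟨ht, c, hc, e⟩ => ⟨ht, c, h hc, e⟩

theorem exists_preU {T : Subgroup Ω} {U : Subgroup (MulAut P)} (hU : U ≤ autInducedBy T P)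
    {c : MulAut P} (hc : c ∈ U) : ∃ t ∈ preU T U, ∀ x ∈ P, autFun c x = cj t x := by
  obtain ⟨t, ht, htn, e⟩ := mem_autInducedBy.mp (hU hc)
  exact ⟨t, ⟨mem_normalizerIn.mpr ⟨ht, htn⟩, c, hc, e⟩, e⟩

theorem le_preU {T : Subgroup Ω} (hP : P ≤ T) {U : Subgroup (MulAut P)} (hU : Inn P ≤ U) :
    P ≤ preU T U := by
  intro x hx
  refine ⟨le_normalizerIn hP hx, ?_⟩
  obtain ⟨c, hc, hce⟩ := exists_autInducedBy (P := P) (K := P) hx (Subgroup.le_normalizer hx)
  exact ⟨c, hU (inn_eq_autInducedBy.ge hc), hce⟩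

/-- The image of a subgroup of automorphisms under conjugation. -/
noncomputable def conjSub (a : MulAut P) (U : Subgroup (MulAut P)) : Subgroup (MulAut P) :=
  U.map (MulAut.conj a).toMonoidHom

theorem mem_conjSub {a z : MulAut P} {U : Subgroup (MulAut P)} :
    z ∈ conjSub a U ↔ ∃ c ∈ U, a * c * a⁻¹ = z := Iff.rfl

theorem conj_mem_conjSub {a c : MulAut P} {U : Subgroup (MulAut P)} (hc : c ∈ U) :
    a * c * a⁻¹ ∈ conjSub a U := ⟨c, hc, rfl⟩

theorem conjSub_conjSub (a b : MulAut P) (U : Subgroup (MulAut P)) :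
    conjSub a (conjSub b U) = conjSub (a * b) U := by
  ext z
  constructor
  · rintro ⟨_, ⟨c, hc, rfl⟩, rfl⟩
    exact ⟨c, hc, by simp [mul_assoc]⟩
  · rintro ⟨c, hc, rfl⟩
    exact ⟨_, ⟨c, hc, rfl⟩, by simp [mul_assoc]⟩

theorem conjSub_one (U : Subgroup (MulAut P)) : conjSub 1 U = U := by
  ext z
  rw [mem_conjSub]
  simp

theorem conjSub_inv_cancel (a : MulAut P) (U : Subgroup (MulAut P)) :
    conjSub a⁻¹ (conjSub a U) = U := by
  rw [conjSub_conjSub, inv_mul_cancel, conjSub_one]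

theorem conjSub_mono (a : MulAut P) {U V : Subgroup (MulAut P)} (h : U ≤ V) :
    conjSub a U ≤ conjSub a V := Subgroup.map_mono h

theorem inn_le_conjSub (a : MulAut P) {U : Subgroup (MulAut P)} (hU : Inn P ≤ U) :
    Inn P ≤ conjSub a U := fun z hz => by
  refine ⟨a⁻¹ * z * a, hU ?_, by simp [mul_assoc]⟩
  have := inn_conj_mem (a := a⁻¹) hz
  rwa [inv_inv] at this

theorem card_conjSub (a : MulAut P) (U : Subgroup (MulAut P)) :
    Nat.card (conjSub a U) = Nat.card U :=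
  (Nat.card_congr (U.equivMapOfInjective _ (MulAut.conj a).injective).toEquiv).symm

theorem conjSub_eq_self_iff {a : MulAut P} {U : Subgroup (MulAut P)} :
    conjSub a U = U ↔ a ∈ Subgroup.normalizer (U : Set (MulAut P)) :=
  Subgroup.mem_normalizer_iff_map_conj_eq.symm

/-- `y` extends by a generated map to the elements inducing `U`. -/
def GGood (F : FusionSystem S) (W : Subgroup Ω) (θ : S →* Ω') (Ebar : FusionSystem T') (p : ℕ)
    (U : Subgroup (MulAut P)) (y : MulAut P) : Prop :=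
  ∃ r, LGen F W θ Ebar p (preU (liftTop θ T') U) r ∧ ∀ x ∈ P, r x = autFun y x

section

variable (H : CLift F W θ Fbar Ebar p)

include H

theorem CLift.centralizer_le (h : HCl W θ Ebar P) : centralizerIn (liftTop θ T') P ≤ P := by
  intro t ht
  obtain ⟨htT, hc⟩ := mem_centralizerIn.mp ht
  exact H.mem_of_centralizing_mod h htT fun x hx => by rw [hc x hx]

theorem CLift.preU_autInducedBy (h : HCl W θ Ebar P) {R : Subgroup Ω} (hPR : P ≤ R)
    (hR : R ≤ normalizerIn (liftTop θ T') P) :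
    preU (liftTop θ T') (autInducedBy R P) = R := by
  refine le_antisymm (fun t ht => ?_) fun r hr => ?_
  · obtain ⟨htn, c, hc, hce⟩ := ht
    obtain ⟨r, hr, -, hre⟩ := mem_autInducedBy.mp hc
    have hrT := (mem_normalizerIn.mp (hR hr)).1
    have h1 : r⁻¹ * t ∈ P := H.centralizer_le h (mem_centralizerIn.mpr
      ⟨Subgroup.mul_mem _ (Subgroup.inv_mem _ hrT) (mem_normalizerIn.mp htn).1, fun x hx => by
        rw [cj_mul, ← hce x hx, hre x hx, cj_inv_cj]⟩)
    have := R.mul_mem hr (hPR h1)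
    rwa [mul_inv_cancel_left] at this
  · obtain ⟨c, hc, hce⟩ := exists_autInducedBy (P := P) (K := R) hr (mem_normalizerIn.mp (hR hr)).2
    exact ⟨hR hr, c, hc, hce⟩

/-- The image of the inducing elements under an extension. -/
theorem CLift.img_preU (h : HCl W θ Ebar P) {U : Subgroup (MulAut P)}
    (hU : Inn P ≤ U) (hUT : U ≤ autInducedBy (liftTop θ T') P) {a : MulAut P} {r : Ω → Ω}
    (hr : IsMor F (preU (liftTop θ T') U) r)
    (hrT : ∀ u ∈ preU (liftTop θ T') U, r u ∈ liftTop θ T')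
    (hra : ∀ x ∈ P, r x = autFun a x) :
    img (preU (liftTop θ T') U) r = preU (liftTop θ T') (conjSub a U) := by
  have hP := h.2.1
  have : Finite P := finite_of_le (hP.trans H.top_le)
  have hPU := le_preU hP hU
  have hact : ∀ u ∈ preU (liftTop θ T') U, ∀ c : MulAut P, (∀ x ∈ P, autFun c x = cj u x) →
      ∀ y ∈ P, autFun (a * c * a⁻¹) y = cj (r u) y := by
    intro u hu c hce y hy
    obtain ⟨x, hx, rfl⟩ : ∃ x ∈ P, autFun a x = y := ⟨_, autFun_mem a⁻¹ hy, autFun_inv_right a hy⟩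
    rw [autFun_mul _ _ (autFun_mem a hx), autFun_mul _ _ (autFun_mem _ (autFun_mem a hx)),
      autFun_inv_left a hx, ← hra x hx, cj_apply (r u), ← hr.map_conj hu (hPU hx),
      ← hra _ (autFun_mem c hx), hce x hx]
    rfl
  refine le_antisymm (img_le fun u hu => ?_) fun v hv => ?_
  · obtain ⟨hun, c, hc, hce⟩ := id hu
    refine ⟨mem_normalizerIn.mpr ⟨hrT u hu, ?_⟩, a * c * a⁻¹, conj_mem_conjSub hc, hact u hu c hce⟩
    refine Subgroup.mem_normalizer_fintype fun y hy => ?_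
    show cj (r u) y ∈ P
    rw [← hact u hu c hce y hy]
    exact autFun_mem (a * c * a⁻¹) hy
  · obtain ⟨hvn, c', ⟨c, hc, rfl⟩, hc'e⟩ := hv
    obtain ⟨u, hu, hue⟩ := exists_preU hUT hc
    have h1 : (r u)⁻¹ * v ∈ P := H.centralizer_le h (mem_centralizerIn.mpr
      ⟨Subgroup.mul_mem _ (Subgroup.inv_mem _ (hrT u hu)) (mem_normalizerIn.mp hvn).1,
      fun y hy => by
        rw [cj_mul, ← hc'e y hy]
        show cj (r u)⁻¹ (autFun (a * c * a⁻¹) y) = y
        rw [hact u hu c hue y hy, cj_inv_cj]⟩)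
    have h2 : (r u)⁻¹ * v ∈ img (preU (liftTop θ T') U) r := by
      rw [← autFun_inv_right a h1, ← hra _ (autFun_mem a⁻¹ h1)]
      exact mem_img_of_mem r (hPU (autFun_mem a⁻¹ h1))
    have := Subgroup.mul_mem _ (mem_img_of_mem r hu) h2
    rwa [mul_inv_cancel_left] at this

theorem CLift.good_one (h : HCl W θ Ebar P) (U : Subgroup (MulAut P)) : GGood F W θ Ebar p U 1 :=
  ⟨id, H.gen_id ((preU_le _ _).trans normalizerIn_le), fun _ hx => (autFun_one hx).symm⟩

theorem CLift.good_mono {U V : Subgroup (MulAut P)} {y : MulAut P} (hUV : U ≤ V)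
    (hy : GGood F W θ Ebar p V y) : GGood F W θ Ebar p U y := by
  obtain ⟨r, hr, hre⟩ := hy
  exact ⟨r, H.gen_restrict hr _ (preU_mono _ hUV), hre⟩

theorem CLift.good_mul (h : HCl W θ Ebar P) {U : Subgroup (MulAut P)} (hU : Inn P ≤ U)
    (hUT : U ≤ autInducedBy (liftTop θ T') P) {a b : MulAut P} (ha : GGood F W θ Ebar p U a)
    (hb : GGood F W θ Ebar p (conjSub a U) b) : GGood F W θ Ebar p U (b * a) := by
  obtain ⟨r, hr, hre⟩ := ha
  obtain ⟨q, hq, hqe⟩ := hb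
  obtain ⟨hrm, -, hrT⟩ := H.gen_isMor hr
  have hi := H.img_preU h hU hUT hrm hrT hre
  refine ⟨q ∘ r, H.gen_comp hr hq fun u hu => hi ▸ mem_img_of_mem r hu, fun x hx => ?_⟩
  rw [Function.comp_apply, hre x hx, hqe _ (autFun_mem a hx), autFun_mul _ _ hx]

theorem CLift.good_inv (h : HCl W θ Ebar P) {U : Subgroup (MulAut P)} (hU : Inn P ≤ U)
    (hUT : U ≤ autInducedBy (liftTop θ T') P) {a : MulAut P} (ha : GGood F W θ Ebar p U a) :
    GGood F W θ Ebar p (conjSub a U) a⁻¹ := by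
  obtain ⟨r, hr, hre⟩ := ha
  obtain ⟨hrm, -, hrT⟩ := H.gen_isMor hr
  have hi := H.img_preU h hU hUT hrm hrT hre
  obtain ⟨k, hk, hkl, -, -⟩ := hrm.inverse
  refine ⟨k, hi ▸ H.gen_inverse hr k hk hkl, fun y hy => ?_⟩
  have hx := autFun_mem a⁻¹ hy
  conv_lhs => rw [← autFun_inv_right a hy, ← hre _ hx]
  exact hkl _ (le_preU h.2.1 hU hx)

/-- `Aut_T(P)` is a Sylow subgroup of `Y`. -/
theorem CLift.autT_sylow (h : HCl W θ Ebar P) (hPn : F.IsFullyNormalized P) :
    IsSylIn p (autInducedBy (liftTop θ T') P) (H.Y P) := by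
  obtain ⟨hW, hP, -⟩ := id h
  have hPS := hP.trans H.top_le
  have := finite_mulAut hPS
  refine ⟨le_sup_right, isPGroup_autInducedBy (isPGroup_of_le H.top_le H.hS),
    fun C hC hAC hCY => (Subgroup.eq_of_le_of_card_ge hAC ?_).symm⟩
  have hsyl : IsSylIn p (autInducedBy S P ⊓ H.X P) (H.X P) := isSylIn_inf
    (isFullyAutomized_iff.mp (isFullyAutomized_of_normalized H.hS H.hF hPn).1).2 (H.X_le P)
    fun b hb x hx => H.X_conj hW hP hb hx
  obtain ⟨b, hb, hbc⟩ := hsyl.exists_conj_le hC (hCY.trans (H.Y_le_X hW hP))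
  obtain ⟨y, hy, k, hk, rfl⟩ := H.exists_Y_mul h hPn hb
  obtain ⟨yX, hyX⟩ : ∃ k' ∈ kerMod F θ P, y * k = k' * y :=
    ⟨y * k * y⁻¹, H.kerMod_conj hW hPS (H.X_le P (H.Y_le_X hW hP hy)) hk, by group⟩
  have hle : conjSub y C ≤ autInducedBy (liftTop θ T') P := by
    rintro _ ⟨c, hc, rfl⟩
    have h1 := hbc c hc
    rw [hyX.2] at h1
    have hk' : yX ∈ autInducedBy S P ⊓ H.X P :=
      ⟨H.kerMod_le_autS hW hPS hPn hyX.1, H.kerMod_le_X hW hP hyX.1⟩
    have h2 : y * c * y⁻¹ ∈ autInducedBy S P ⊓ H.X P := by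
      have := Subgroup.mul_mem _ (Subgroup.mul_mem _ (Subgroup.inv_mem _ hk') h1) hk'
      convert this using 1
      group
    have h3 : y * c * y⁻¹ ∈ H.Y P :=
      Subgroup.mul_mem _ (Subgroup.mul_mem _ hy (hCY hc)) (Subgroup.inv_mem _ hy)
    show y * c * y⁻¹ ∈ _
    obtain ⟨d, hd, hdk⟩ := H.exists_autT_mul h hPn h2.2 h2.1
    have h4 : d⁻¹ * (y * c * y⁻¹) ∈ Inn P := H.Y_inf_kerMod h hPn
      ⟨Subgroup.mul_mem _ (Subgroup.inv_mem _ (Subgroup.mem_sup_right hd)) h3, hdk⟩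
    have := Subgroup.mul_mem _ hd (H.inn_le_autT hP h4)
    rwa [mul_inv_cancel_left] at this
  rw [← card_conjSub y C]
  exact Subgroup.card_le_of_le hle

/-- Elements normalizing a subgroup with Sylow normalizer part are good on it. -/
theorem CLift.good_normalizer (h : HCl W θ Ebar P) (hPn : F.IsFullyNormalized P)
    {U : Subgroup (MulAut P)} (hU : Inn P ≤ U) (hUT : U ≤ autInducedBy (liftTop θ T') P)
    (hsyl : IsSylIn p (autInducedBy (liftTop θ T') P ⊓ Subgroup.normalizer (U : Set (MulAut P)))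
      (H.Y P ⊓ Subgroup.normalizer (U : Set (MulAut P))))
    {n : MulAut P} (hn : n ∈ H.Y P ⊓ Subgroup.normalizer (U : Set (MulAut P))) : GGood F W θ Ebar p U n := by
  obtain ⟨hW, hP, -⟩ := id h
  have hPS := hP.trans H.top_le
  have := finite_mulAut hPS
  have : Finite P := finite_of_le hPS
  set NY := H.Y P ⊓ Subgroup.normalizer (U : Set (MulAut P)) with hNY
  have hfix : ∀ a ∈ NY, conjSub a U = U := fun a ha => conjSub_eq_self_iff.mpr ha.2
  set R := preU (liftTop θ T') U with hRdef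
  have hPR : P ≤ R := le_preU hP hU
  have hRN : R ≤ normalizerIn (liftTop θ T') P := preU_le _ _
  have hRS : R ≤ S := hRN.trans (normalizerIn_le.trans H.top_le)
  let G0 : Subgroup (MulAut P) :=
    { carrier := {a | a ∈ NY ∧ GGood F W θ Ebar p U a}
      one_mem' := ⟨one_mem _, H.good_one h U⟩
      mul_mem' := fun {a b} ha hb => ⟨NY.mul_mem ha.1 hb.1,
        H.good_mul h hU hUT hb.2 (by rw [hfix b hb.1]; exact ha.2)⟩
      inv_mem' := fun {a} ha => ⟨NY.inv_mem ha.1, by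
        have := H.good_inv h hU hUT ha.2
        rwa [hfix a ha.1] at this⟩ }
  suffices hle : NY ≤ G0 from (hle hn).2
  obtain ⟨Q, hQ⟩ := (exists_sylow_iff hsyl.1).mpr hsyl
  have hle : (Q : Subgroup NY) ⊔ pResidual p NY ≤ G0.subgroupOf NY := by
    refine sup_le (fun r hr => ⟨r.2, ?_⟩) ((Subgroup.closure_le _).mpr fun r hr => ⟨r.2, ?_⟩)
    · rw [hQ] at hr
      obtain ⟨t, ht, htn, hte⟩ := mem_autInducedBy.mp hr.1
      refine ⟨cj t, .conj t (hRN.trans normalizerIn_le) ht fun _ _ => rfl, fun x hx => ?_⟩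
      exact (hte x hx).symm
    · have hc : (orderOf (r : MulAut P)).Coprime p := by rw [Subgroup.orderOf_coe]; exact hr
      have hrX : (r : MulAut P) ∈ H.X P := H.Y_le_X hW hP r.2.1
      have hrm := isMor_autFun hPS hrX.1
      obtain ⟨g, hg, hge⟩ := (isReceptive_iff.mp
        (isFullyAutomized_of_normalized H.hS H.hF hPn).2).2 P _ hrm (img_autFun _)
      have hsub : R ≤ nExt S P (autFun (r : MulAut P)) := by
        intro u hu
        obtain ⟨hun, c, hc', hce⟩ := id hu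
        have h1 : (r : MulAut P) * c * (r : MulAut P)⁻¹ ∈ U := by
          have := conj_mem_conjSub (a := (r : MulAut P)) hc'
          rwa [hfix _ r.2] at this
        obtain ⟨v, hv, hve⟩ := exists_preU hUT h1
        refine mem_nExt.mpr ⟨hRS hu, (mem_normalizerIn.mp hun).2, v, hRS hv, fun x hx => ?_⟩
        rw [← hve _ (autFun_mem _ hx), autFun_mul _ _ (autFun_mem _ hx),
          autFun_mul _ _ (autFun_mem _ (autFun_mem _ hx)), autFun_inv_left _ hx, hce x hx]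
      have hgR := hg.restrict hsub
      have hgT : ∀ u ∈ R, g u ∈ liftTop θ T' := fun u hu =>
        (stronglyClosed_iff.mp H.top_closed).2 _ g hgR u hu (mem_normalizerIn.mp (hRN hu)).1
      have hi : img R g = R := by
        rw [hRdef, H.img_preU h hU hUT hgR hgT hge, hfix _ r.2]
      obtain ⟨ν, hν, hνe⟩ := exists_aut hgR hi
      have := finite_mulAut hRS
      obtain ⟨m, hm, hmc⟩ := exists_pow_fix (p := p) (r : MulAut P) ν hc
      have hνP : ∀ x ∈ P, autFun (ν ^ m) x = autFun (r : MulAut P) x := fun x hx => by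
        rw [autFun_pow_congr hPR (fun y hy => (hνe y (hPR hy)).trans (hge y hy)) m x hx, hm]
      have hX : ν ^ m ∈ H.X R := H.mem_X_of_coprime h hPn hPR hRN (Subgroup.pow_mem _ hν m) hmc
        (fun x hx => by rw [hνP x hx]; exact autFun_mem _ hx)
        ((hrX.2 hW hP).congr fun x hx => (hνP x hx).symm)
      have hRc := H.hcl_mono h hPR (hRN.trans normalizerIn_le)
      exact ⟨autFun (ν ^ m), .step _ hRc (hX.2 hRc.1 hRc.2.1) hmc le_rfl fun _ _ => rfl, hνP⟩
  intro a ha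
  exact hle (CfsgLib.Transfer.sup_pResidual_eq_top Q ▸ Subgroup.mem_top (⟨a, ha⟩ : NY))

/-- Every element of `Y` carrying `U` into `Aut_T(P)` is good on `U`. -/
theorem CLift.good_all (h : HCl W θ Ebar P) (hPn : F.IsFullyNormalized P) :
    ∀ (U : Subgroup (MulAut P)), Inn P ≤ U → U ≤ autInducedBy (liftTop θ T') P →
      ∀ y ∈ H.Y P, conjSub y U ≤ autInducedBy (liftTop θ T') P → GGood F W θ Ebar p U y := by
  obtain ⟨hW, hP, -⟩ := id h
  have hPS := hP.trans H.top_le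
  have := finite_mulAut hPS
  set A := autInducedBy (liftTop θ T') P with hAdef
  have hA := H.autT_sylow h hPn
  suffices hmain : ∀ d (U : Subgroup (MulAut P)), Nat.card A - Nat.card U = d → Inn P ≤ U →
      U ≤ A → ∀ y ∈ H.Y P, conjSub y U ≤ A → GGood F W θ Ebar p U y from fun U => hmain _ U rfl
  intro d
  induction d using Nat.strong_induction_on with
  | _ d ih =>
  intro U hd hIU hUA y hy hyU
  subst hd
  rcases eq_or_lt_of_le hUA with e | hlt
  · subst e
    have hyA : conjSub y A = A :=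
      Subgroup.eq_of_le_of_card_ge hyU (card_conjSub y A).ge
    refine H.good_normalizer h hPn hIU le_rfl ?_ ⟨hy, conjSub_eq_self_iff.mp hyA⟩
    rw [inf_eq_left.mpr Subgroup.le_normalizer]
    exact ⟨le_inf hA.1 Subgroup.le_normalizer, hA.2.1,
      fun C hC h1 h2 => hA.2.2 C hC h1 (h2.trans inf_le_left)⟩
  set U₁ := conjSub y U with hU₁
  set NY := H.Y P ⊓ Subgroup.normalizer (U : Set (MulAut P)) with hNY
  set NY₁ := H.Y P ⊓ Subgroup.normalizer (U₁ : Set (MulAut P)) with hNY₁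
  have hIU₁ : Inn P ≤ U₁ := inn_le_conjSub y hIU
  have hlt₁ : U₁ < A := lt_of_le_of_ne hyU fun e => hlt.ne <| Subgroup.eq_of_le_of_card_ge hUA
    (by rw [← card_conjSub y U, ← hU₁, e])
  obtain ⟨Sg, hSg, hSgs⟩ := exists_isSylIn_of_isPGroup
    (isPGroup_of_le (inf_le_left : A ⊓ Subgroup.normalizer (U : Set (MulAut P)) ≤ A) hA.2.1)
    (inf_le_inf_right _ hA.1 : _ ≤ NY)
  obtain ⟨g, hg, hgc⟩ := hA.exists_conj_le hSgs.2.1 (hSgs.1.trans inf_le_left)
  have hup : ∀ {V : Subgroup (MulAut P)}, Inn P ≤ V → V < A → ∀ a ∈ H.Y P,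
      conjSub a (A ⊓ Subgroup.normalizer (V : Set (MulAut P))) ≤ A →
      Nat.card A - Nat.card V ≤ Nat.card A - Nat.card U → GGood F W θ Ebar p V a := by
    intro V hIV hVA a ha hac hcard
    have hgt : V < A ⊓ Subgroup.normalizer (V : Set (MulAut P)) :=
      lt_inf_normalizer hA.2.1 hVA
    refine H.good_mono hgt.le (ih _ ?_ _ rfl (hIV.trans hgt.le) inf_le_left a ha hac)
    have h1 := Subgroup.card_le_of_le (inf_le_left :
      A ⊓ Subgroup.normalizer (V : Set (MulAut P)) ≤ A)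
    have h2 : Nat.card V < Nat.card ↥(A ⊓ Subgroup.normalizer (V : Set (MulAut P))) :=
      lt_of_le_of_ne (Subgroup.card_le_of_le hgt.le)
        fun e => hgt.ne (Subgroup.eq_of_le_of_card_ge hgt.le e.ge)
    omega
  have hgU : GGood F W θ Ebar p U g := hup hIU hlt g hg
    (fun z ⟨c, hc, e⟩ => e ▸ hgc c (hSg hc)) le_rfl
  have hUN : U ≤ A ⊓ Subgroup.normalizer (U : Set (MulAut P)) := le_inf hUA Subgroup.le_normalizer
  set U₀ := conjSub g U with hU₀
  have hIU₀ : Inn P ≤ U₀ := inn_le_conjSub g hIU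
  have hU₀A : U₀ ≤ A := fun z ⟨c, hc, e⟩ => e ▸ hgc c (hSg (hUN hc))
  -- the Sylow subgroup at `U₀`
  have hnorm : ∀ (a : MulAut P) (V : Subgroup (MulAut P)), ∀ z ∈
      Subgroup.normalizer (V : Set (MulAut P)),
      a * z * a⁻¹ ∈ Subgroup.normalizer (conjSub a V : Set (MulAut P)) := by
    intro a V z hz
    refine conjSub_eq_self_iff.mp ?_
    rw [conjSub_conjSub, inv_mul_cancel_right, ← conjSub_conjSub, conjSub_eq_self_iff.mpr hz]
  have hsyl₀ : IsSylIn p (A ⊓ Subgroup.normalizer (U₀ : Set (MulAut P)))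
      (H.Y P ⊓ Subgroup.normalizer (U₀ : Set (MulAut P))) := by
    refine ⟨inf_le_inf_right _ hA.1, isPGroup_of_le inf_le_left hA.2.1, fun C hC h1 h2 => ?_⟩
    refine (Subgroup.eq_of_le_of_card_ge h1 ?_).symm
    have hSg' : conjSub g Sg ≤ A ⊓ Subgroup.normalizer (U₀ : Set (MulAut P)) :=
      fun z ⟨c, hc, e⟩ => e ▸ ⟨hgc c hc, hnorm g U c (hSgs.1 hc).2⟩
    refine le_trans ?_ ((card_conjSub g Sg).ge.trans (Subgroup.card_le_of_le hSg'))
    -- pull `C` back into `NY`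
    have hC' : conjSub g⁻¹ C ≤ NY := by
      rintro _ ⟨c, hc, rfl⟩
      refine ⟨Subgroup.mul_mem _ (Subgroup.mul_mem _ (Subgroup.inv_mem _ hg) (h2 hc).1)
        (by simpa using hg), ?_⟩
      have := hnorm g⁻¹ U₀ c (h2 hc).2
      rwa [hU₀, conjSub_inv_cancel] at this
    obtain ⟨b, hb, hbc⟩ := hSgs.exists_conj_le (C := conjSub g⁻¹ C) (hC.map _) hC'
    have h3 : conjSub b (conjSub g⁻¹ C) ≤ Sg := fun z ⟨c, hc, e⟩ => e ▸ hbc c hc
    have h4 := Subgroup.card_le_of_le h3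
    rwa [card_conjSub, card_conjSub] at h4
  -- the element adjusting `U₁`
  have hSg₁ : conjSub y Sg ≤ NY₁ := fun z ⟨c, hc, e⟩ => e ▸
    ⟨Subgroup.mul_mem _ (Subgroup.mul_mem _ hy (hSgs.1 hc).1) (Subgroup.inv_mem _ hy),
      hnorm y U c (hSgs.1 hc).2⟩
  have hSg₁s : IsSylIn p (conjSub y Sg) NY₁ := by
    refine ⟨hSg₁, hSgs.2.1.map _, fun C hC h1 h2 => ?_⟩
    have h3 : conjSub y⁻¹ C = Sg := hSgs.2.2 _ (hC.map _)
      (by rw [← conjSub_inv_cancel y Sg]; exact conjSub_mono _ h1) (by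
        rintro _ ⟨c, hc, rfl⟩
        refine ⟨Subgroup.mul_mem _ (Subgroup.mul_mem _ (Subgroup.inv_mem _ hy) (h2 hc).1)
          (by simpa using hy), ?_⟩
        have := hnorm y⁻¹ U₁ c (h2 hc).2
        rwa [hU₁, conjSub_inv_cancel] at this)
    rw [← h3, conjSub_conjSub, mul_inv_cancel, conjSub_one]
  obtain ⟨l, hl, hlc⟩ := hSg₁s.exists_conj_le
    (C := A ⊓ Subgroup.normalizer (U₁ : Set (MulAut P))) (isPGroup_of_le inf_le_left hA.2.1)
    (inf_le_inf_right _ hA.1)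
  set g₁ := g * y⁻¹ * l with hg₁
  have hg₁Y : g₁ ∈ H.Y P :=
    Subgroup.mul_mem _ (Subgroup.mul_mem _ hg (Subgroup.inv_mem _ hy)) hl.1
  have hg₁c : conjSub g₁ (A ⊓ Subgroup.normalizer (U₁ : Set (MulAut P))) ≤ A := by
    rintro _ ⟨c, hc, rfl⟩
    obtain ⟨s, hs, hse⟩ := hlc c hc
    show g₁ * c * g₁⁻¹ ∈ A
    have e : g₁ * c * g₁⁻¹ = g * s * g⁻¹ := by
      have hse' : y * s * y⁻¹ = l * c * l⁻¹ := hse
      rw [hg₁, show g * s * g⁻¹ = g * y⁻¹ * (y * s * y⁻¹) * y * g⁻¹ by group, hse']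
      group
    rw [e]
    exact hgc s hs
  have hcardU₁ : Nat.card U₁ = Nat.card U := card_conjSub y U
  have hg₁U : GGood F W θ Ebar p U₁ g₁ := hup hIU₁ hlt₁ g₁ hg₁Y hg₁c (by rw [hcardU₁])
  have hg₁U₁ : conjSub g₁ U₁ = U₀ := by
    rw [hg₁, ← conjSub_conjSub, conjSub_eq_self_iff.mpr hl.2, hU₁, conjSub_conjSub,
      inv_mul_cancel_right]
  set n := g₁ * y * g⁻¹ with hn
  have hnN : n ∈ H.Y P ⊓ Subgroup.normalizer (U₀ : Set (MulAut P)) := by
    refine ⟨Subgroup.mul_mem _ (Subgroup.mul_mem _ hg₁Y hy) (Subgroup.inv_mem _ hg),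
      conjSub_eq_self_iff.mp ?_⟩
    rw [hn, hU₀, conjSub_conjSub, inv_mul_cancel_right, ← conjSub_conjSub, ← hU₁, hg₁U₁]
  have h1 : GGood F W θ Ebar p U (n * g) := H.good_mul h hIU hUA hgU (H.good_normalizer h hPn hIU₀ hU₀A hsyl₀ hnN)
  have h2 : GGood F W θ Ebar p U₀ g₁⁻¹ := by
    have := H.good_inv h hIU₁ hyU hg₁U
    rwa [hg₁U₁] at this
  have hng : conjSub (n * g) U = U₀ := by
    rw [← conjSub_conjSub, ← hU₀, conjSub_eq_self_iff.mpr hnN.2]
  have h3 := H.good_mul h hIU hUA h1 (by rw [hng]; exact h2)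
  rwa [hn, inv_mul_cancel_right, inv_mul_cancel_left] at h3

end

end CfsgLib.Fusion
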