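import Mathlib
import Cfsg.Agent.Lib.Fusion.CentralLiftGood

/-!
# A generated automorphism trivial modulo the centre is inner
-/

set_option autoImplicit false
set_option linter.unusedSectionVars false

namespace CfsgLib.Fusion

open Cfsg Cfsg.FusionSystem

variable {Ω Ω' : Type*} [Group Ω] [Group Ω'] {S : Subgroup Ω} [Finite S]
  {F : FusionSystem S} {W : Subgroup Ω} {θ : S →* Ω'} {S' : Subgroup Ω'}
  {Fbar : FusionSystem S'} {T' : Subgroup Ω'} {Ebar : FusionSystem T'} {p : ℕ} [hp : Fact p.Prime]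
  {P : Subgroup Ω}

/-- The key property of a member `A` of the centric family. -/
def InnerKer (F : FusionSystem S) (W : Subgroup Ω) (θ : S →* Ω') (Ebar : FusionSystem T') (p : ℕ)
    (A : Subgroup Ω) : Prop :=
  ∀ f, LGen F W θ Ebar p A f → (∀ x ∈ A, f x ∈ A) → (∀ x ∈ A, thF θ (f x) = thF θ x) →
    ∃ z ∈ A, ∀ x ∈ A, f x = cj z x

/-- A generated map of normalizers carrying `A` onto `P`. -/
def IsGM (F : FusionSystem S) (W : Subgroup Ω) (θ : S →* Ω') (Ebar : FusionSystem T') (p : ℕ)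
    (P A : Subgroup Ω) (a : Ω → Ω) : Prop :=
  A ≤ liftTop θ T' ∧ LGen F W θ Ebar p (normalizerIn (liftTop θ T') A) a ∧ img A a = P ∧
    ∀ x ∈ normalizerIn (liftTop θ T') A, a x ∈ normalizerIn (liftTop θ T') P

section

variable (H : CLift F W θ Fbar Ebar p)

include H

theorem CLift.conj_image_of_gen {A : Subgroup Ω} {f : Ω → Ω} (hf : LGen F W θ Ebar p A f)
    (hW : W ≤ A) : Ebar.IsConj (imageAlong θ A) (imageAlong θ (img A f)) := by
  obtain ⟨-, -, hfm, f', hf', he⟩ := H.gen_lifts hf hW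
  exact isConj_iff.mpr ⟨f', hf', H.img_image hfm (le_iff_isMor.mp H.ebar_sub _ _ hf') he⟩

theorem CLift.gm_W_le {A : Subgroup Ω} {a : Ω → Ω} (ha : IsGM F W θ Ebar p P A a) (hW : W ≤ P) :
    W ≤ A := by
  obtain ⟨hA, hag, hai, -⟩ := ha
  obtain ⟨ham, -, -⟩ := H.gen_isMor hag
  have hAN : A ≤ normalizerIn (liftTop θ T') A := le_normalizerIn hA
  intro w hw
  have hwN : w ∈ normalizerIn (liftTop θ T') A := by
    refine mem_normalizerIn.mpr ⟨H.le_top_W hw, Subgroup.centralizer_le_normalizer _ ?_⟩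
    exact Subgroup.mem_centralizer_iff.mpr fun x hx => H.commW hw (H.top_le (hA hx))
  obtain ⟨x, hx, hxe⟩ := (ham.restrict hAN).mem_img.mp (hai.ge (hW hw))
  have : x = w := ham.inj (hAN hx) hwN (by rw [hxe, H.fixW ham hw hwN])
  exact this ▸ hx

/-- A generated extension to a larger subgroup restricts into `Y`. -/
theorem CLift.edge_mem_Y (h : HCl W θ Ebar P) (hPn : F.IsFullyNormalized P)
    (IH : ∀ R, HCl W θ Ebar R → Nat.card P < Nat.card R → InnerKer F W θ Ebar p R)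
    {R : Subgroup Ω} (hPR : P < R) (hR : R ≤ normalizerIn (liftTop θ T') P) {ρ : Ω → Ω}
    (hρ : LGen F W θ Ebar p R ρ) {γ : MulAut P} (hγe : ∀ x ∈ P, ρ x = autFun γ x) :
    γ ∈ H.Y P := by
  obtain ⟨hW, hP, hPc⟩ := id h
  have hPS := hP.trans H.top_le
  have hRT : R ≤ liftTop θ T' := hR.trans normalizerIn_le
  have := finite_mulAut hPS
  have := H.finite_S'
  have := H.finite_T'
  obtain ⟨hρm, -, hρT⟩ := H.gen_isMor hρ
  have hγX : γ ∈ H.X P := H.mem_X_of_lifts
    (((H.gen_lifts hρ (hW.trans hPR.le)).restrict hPR.le hW).congr hγe)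
  obtain ⟨y, hy, k, hk, hyk⟩ := H.exists_Y_mul h hPn hγX
  set U := autInducedBy R P with hUdef
  have hIU : Inn P ≤ U := fun z hz => by
    obtain ⟨g, hg, e⟩ := mem_inn.mp hz
    exact mem_autInducedBy.mpr ⟨g, hPR.le hg, Subgroup.le_normalizer hg, e⟩
  have hUA : U ≤ autInducedBy (liftTop θ T') P := fun z hz => by
    obtain ⟨g, hg, hgn, e⟩ := mem_autInducedBy.mp hz
    exact mem_autInducedBy.mpr ⟨g, hRT hg, hgn, e⟩
  have hpre : preU (liftTop θ T') U = R := H.preU_autInducedBy h hPR.le hR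
  have hiρ := H.img_preU h hIU hUA (r := ρ) (a := γ) (by rw [hpre]; exact hρm)
    (by rw [hpre]; exact hρT) hγe
  rw [hpre] at hiρ
  have hγU : conjSub γ U ≤ autInducedBy (liftTop θ T') P := by
    rintro _ ⟨c, hc, rfl⟩
    show γ * c * γ⁻¹ ∈ _
    obtain ⟨u, hu, hue⟩ := exists_preU hUA hc
    have h1 : ρ u ∈ preU (liftTop θ T') (conjSub γ U) := hiρ ▸ mem_img_of_mem ρ (hpre.le hu)
    refine mem_autInducedBy.mpr ⟨ρ u, hρT u (hpre.le hu), (mem_normalizerIn.mp h1.1).2,
      fun z hz => ?_⟩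
    obtain ⟨x, hx, rfl⟩ : ∃ x ∈ P, autFun γ x = z := ⟨_, autFun_mem γ⁻¹ hz, autFun_inv_right γ hz⟩
    rw [autFun_mul _ _ (autFun_mem γ hx), autFun_mul _ _ (autFun_mem _ (autFun_mem γ hx)),
      autFun_inv_left γ hx, ← hγe x hx, cj_apply (ρ u),
      ← hρm.map_conj (hpre.le hu) (hPR.le hx), ← hγe _ (autFun_mem c hx), hue x hx]
    rfl
  have hle : conjSub y U ≤ conjSub γ U := by
    rintro _ ⟨c, hc, rfl⟩
    show y * c * y⁻¹ ∈ _
    have h1 : c⁻¹ * k⁻¹ * c * k ∈ Inn P := by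
      have h2 := Subgroup.inv_mem _ (H.comm_autT h hPn hk (Subgroup.inv_mem _ (hUA hc)))
      convert h2 using 1
      group
    have h3 := Subgroup.mul_mem _ (conj_mem_conjSub (a := γ) hc)
      (inn_le_conjSub γ hIU (inn_conj_mem (a := γ) h1))
    convert h3 using 1
    rw [hyk]
    group
  obtain ⟨r, hr, hre⟩ := H.good_all h hPn U hIU hUA y hy (hle.trans hγU)
  obtain ⟨hrm, -, hrT⟩ := H.gen_isMor hr
  have hir := H.img_preU h hIU hUA hrm hrT hre
  have heq : conjSub y U = conjSub γ U :=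
    Subgroup.eq_of_le_of_card_ge hle (by rw [card_conjSub, card_conjSub])
  rw [heq, ← hiρ, hpre] at hir
  rw [hpre] at hr hrm
  obtain ⟨ri, hri, hrl, hrr, hrii⟩ := hrm.inverse
  have hrig := H.gen_inverse hr ri hri hrl
  rw [hir] at hrig hrii hri
  have hδ : LGen F W θ Ebar p R (ri ∘ ρ) :=
    H.gen_comp hρ hrig fun u hu => mem_img_of_mem ρ hu
  have hδR : ∀ u ∈ R, (ri ∘ ρ) u ∈ R := fun u hu =>
    hrii ▸ mem_img_of_mem ri (mem_img_of_mem ρ hu)
  have hδP : ∀ x ∈ P, (ri ∘ ρ) x = autFun k x := fun x hx => by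
    rw [Function.comp_apply, hγe x hx, hyk, autFun_mul _ _ hx, ← hre _ (autFun_mem k hx)]
    exact hrl _ (hPR.le (autFun_mem k hx))
  obtain ⟨-, -, -, δ', hδ', hδe⟩ := H.gen_lifts hδ (hW.trans hPR.le)
  obtain ⟨z', hz', -, hz'e⟩ := centric_agree H.isPGroup_T' H.ebar_saturated
    (isMor_id Ebar (H.image_le_T' hRT)) hδ' (imageAlong_mono θ hPR.le) hPc fun q hq => by
      obtain ⟨x, hx, rfl⟩ := (mem_imageAlong_thF θ hPS).mp hq
      rw [hδe x (hPR.le hx), hδP x hx, hk.2 x hx]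
      rfl
  obtain ⟨z, hz, rfl⟩ := (mem_imageAlong_thF θ hPS).mp hz'
  have hzR := hPR.le hz
  have hRcl := H.hcl_mono h hPR.le hRT
  have hRS := hRT.trans H.top_le
  obtain ⟨w, hw, hwe⟩ := IH R hRcl (card_lt_of_lt hRS hPR) (cj z⁻¹ ∘ (ri ∘ ρ))
    (H.gen_comp hδ (.conj z⁻¹ hRT (Subgroup.inv_mem _ (hP hz)) fun _ _ => rfl) hδR)
    (fun u hu => R.mul_mem (R.mul_mem (R.inv_mem hzR) (hδR u hu)) (R.inv_mem (R.inv_mem hzR)))
    fun u hu => by
      show thF θ (cj z⁻¹ ((ri ∘ ρ) u)) = _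
      rw [thF_cj θ (S.inv_mem (hPS hz)) (hRS (hδR u hu)), thF_inv θ (hPS hz), ← hδe u hu,
        hz'e _ (thF_mem_imageAlong θ hRS hu)]
      exact cj_inv_cj _ _
  have hzw : ∀ x ∈ P, autFun k x = cj (z * w) x := fun x hx => by
    rw [cj_mul, ← hwe x (hPR.le hx), ← hδP x hx]
    exact (cj_cj_inv z _).symm
  have hzwP : z * w ∈ P := H.mem_of_centralizing_mod h (hRT (R.mul_mem hzR hw)) fun x hx => by
    rw [← hzw x hx, hk.2 x hx]
  rw [hyk]
  exact Subgroup.mul_mem _ hy (H.inn_le_Y hP (mem_inn.mpr ⟨z * w, hzwP, hzw⟩))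

theorem CLift.gen_top {A : Subgroup Ω} {f : Ω → Ω} (hf : LGen F W θ Ebar p A f) :
    A = liftTop θ T' → ∃ y ∈ H.Y (liftTop θ T'), ∀ x ∈ liftTop θ T', f x = autFun y x := by
  induction hf with
  | @conj A f t hA ht e =>
    rintro rfl
    obtain ⟨c, hc, hce⟩ := exists_autInducedBy (P := liftTop θ T') (K := liftTop θ T') ht
      (Subgroup.le_normalizer ht)
    exact ⟨c, Subgroup.mem_sup_right hc, fun x hx => (e x hx).trans (hce x hx).symm⟩
  | @step A R f α hR hα hc hAR e =>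
    intro hA
    subst hA
    obtain rfl : R = liftTop θ T' := le_antisymm hR.2.1 hAR
    exact ⟨α, H.mem_Y_of_coprime (H.mem_X_of_lifts hα) hc, e⟩
  | @comp A g h f hg hh e ih₁ ih₂ =>
    intro hA
    subst hA
    obtain ⟨y₁, hy₁, he₁⟩ := ih₁ rfl
    obtain ⟨hgm, -, hgT⟩ := H.gen_isMor hg
    have hi : img (liftTop θ T') g = liftTop θ T' := hgm.img_eq_self hgT
    obtain ⟨y₂, hy₂, he₂⟩ := ih₂ hi
    refine ⟨y₂ * y₁, Subgroup.mul_mem _ hy₂ hy₁, fun x hx => ?_⟩
    rw [e x hx, he₂ _ (hgT x hx), he₁ x hx, autFun_mul _ _ hx]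

/-- Every generated map between members of the class of `P` gives an element of `Y`. -/
theorem CLift.class_mem_Y (h : HCl W θ Ebar P) (hPn : F.IsFullyNormalized P)
    (hPT : P < liftTop θ T')
    (IH : ∀ R, HCl W θ Ebar R → Nat.card P < Nat.card R → InnerKer F W θ Ebar p R)
    {A : Subgroup Ω} {f : Ω → Ω} (hf : LGen F W θ Ebar p A f) :
    ∀ a b, IsGM F W θ Ebar p P A a → IsGM F W θ Ebar p P (img A f) b →
      ∃ y ∈ H.Y P, ∀ x ∈ A, b (f x) = autFun y (a x) := by
  obtain ⟨hW, hP, hPc⟩ := id h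
  have hPS := hP.trans H.top_le
  have hTfin : Finite (liftTop θ T') := finite_of_le H.top_le
  have hTp : IsPGroup p (liftTop θ T') := isPGroup_of_le H.top_le H.hS
  have edge : ∀ {A R₀ : Subgroup Ω} {f a b : Ω → Ω}, LGen F W θ Ebar p R₀ f →
      A < R₀ → R₀ ≤ normalizerIn (liftTop θ T') A → IsGM F W θ Ebar p P A a →
      IsGM F W θ Ebar p P (img A f) b → ∃ y ∈ H.Y P, ∀ x ∈ A, b (f x) = autFun y (a x) := by
    intro A R₀ f a b hf hAR hR₀ ha hb
    obtain ⟨hA, hag, hai, haN⟩ := ha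
    obtain ⟨hB, hbg, hbi, hbN⟩ := hb
    obtain ⟨hfm, hR₀T, hfT⟩ := H.gen_isMor hf
    obtain ⟨ham, -, -⟩ := H.gen_isMor hag
    obtain ⟨hbm, -, -⟩ := H.gen_isMor hbg
    have hfB : ∀ u ∈ R₀, f u ∈ normalizerIn (liftTop θ T') (img A f) := fun u hu => by
      refine mem_normalizerIn.mpr ⟨hfT u hu, (mem_normalizerIn.mp (mapsTo_normalizerIn hfm hAR.le
        (fun z hz => ?_) u hu)).2⟩
      exact mem_normalizerIn.mpr
        ⟨H.top_le (hR₀T hz), (mem_normalizerIn.mp (hR₀ hz)).2⟩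
    obtain ⟨ai, hai', hal, -, haii⟩ := (ham.restrict hR₀).inverse
    have hg₀ := H.gen_restrict hag _ hR₀
    have haig := H.gen_inverse hg₀ ai hai' hal
    set R := img R₀ a with hRdef
    have hPR : P ≤ R := hai ▸ img_mono a hAR.le
    have hRN : R ≤ normalizerIn (liftTop θ T') P := img_le fun u hu => haN u (hR₀ hu)
    have hlt : P < R := by
      refine lt_of_le_of_ne hPR fun e => ?_
      have h1 := card_lt_of_lt (hR₀T.trans H.top_le) hAR
      rw [← (ham.restrict (le_normalizerIn hA)).card_img, hai, e, hRdef,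
        (ham.restrict hR₀).card_img] at h1
      exact lt_irrefl _ h1
    have h1 : LGen F W θ Ebar p R (f ∘ ai) := H.gen_comp haig hf fun z hz =>
      haii ▸ mem_img_of_mem ai hz
    have h2 : LGen F W θ Ebar p R (b ∘ (f ∘ ai)) := H.gen_comp h1 hbg fun z hz =>
      hfB _ (haii ▸ mem_img_of_mem ai hz)
    obtain ⟨h2m, -, -⟩ := H.gen_isMor h2
    have hPP : ∀ q ∈ P, (b ∘ (f ∘ ai)) q ∈ P := by
      intro q hq
      obtain ⟨x, hx, rfl⟩ := (ham.restrict (le_normalizerIn hA)).mem_img.mp (hai.ge hq)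
      rw [Function.comp_apply, Function.comp_apply, hal x (hAR.le hx), ← hbi]
      exact mem_img_of_mem b (mem_img_of_mem f hx)
    obtain ⟨γ, -, hγe⟩ := exists_aut (h2m.restrict hPR) ((h2m.restrict hPR).img_eq_self hPP)
    refine ⟨γ, H.edge_mem_Y h hPn IH hlt hRN h2 (fun q hq => (hγe q hq).symm), fun x hx => ?_⟩
    rw [hγe _ (hai ▸ mem_img_of_mem a hx), Function.comp_apply, Function.comp_apply,
      hal x (hAR.le hx)]
  have hcard : ∀ {A : Subgroup Ω} {a : Ω → Ω}, IsGM F W θ Ebar p P A a → A < liftTop θ T' := by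
    intro A a ha
    obtain ⟨hA, hag, hai, -⟩ := ha
    refine lt_of_le_of_ne hA fun e => ?_
    have h1 := card_lt_of_lt H.top_le hPT
    rw [← hai, ((H.gen_isMor hag).1.restrict (le_normalizerIn hA)).card_img, e] at h1
    exact lt_irrefl _ h1
  induction hf with
  | @conj A f t hA ht e =>
    intro a b ha hb
    have hi : img A f = img A (cj t) := img_congr e
    obtain ⟨y, hy, hye⟩ := edge (.conj t normalizerIn_le ht fun _ _ => rfl)
      (normalizerIn_gt hTp (hcard ha)) le_rfl ha (hi ▸ hb)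
    exact ⟨y, hy, fun x hx => by rw [e x hx]; exact hye x hx⟩
  | @step A R f α hR hα hc hAR e =>
    intro a b ha hb
    have hi : img A f = img A (autFun α) := img_congr e
    rw [hi] at hb
    have hRS := hR.2.1.trans H.top_le
    rcases eq_or_lt_of_le hAR with rfl | hlt
    · rw [img_autFun] at hb
      obtain ⟨y₁, hy₁, hy₁e⟩ := edge (H.gen_id normalizerIn_le) (normalizerIn_gt hTp (hcard ha))
        le_rfl ha (by rw [img_id]; exact hb)
      obtain ⟨hA, hag, hai, -⟩ := ha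
      have ham := (H.gen_isMor hag).1.restrict (le_normalizerIn hA)
      obtain ⟨E, hE, -, -⟩ := exists_transport ham hai
      obtain ⟨k, hk, hke⟩ := H.lifts_transport hα le_rfl hA (fun x hx => autFun_mem α hx) ham
      rw [hai] at hk
      have hEX : E α ∈ H.X P := H.mem_X_of_lifts (hk.congr fun q hq => by
        obtain ⟨x, hx, rfl⟩ := ham.mem_img.mp (hai.ge hq)
        rw [hke x hx, hE α x hx])
      refine ⟨y₁ * E α, Subgroup.mul_mem _ hy₁ (H.mem_Y_of_coprime hEX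
        (by rwa [MulEquiv.orderOf_eq])), fun x hx => ?_⟩
      have hax : a x ∈ P := hai ▸ mem_img_of_mem a hx
      have h1 := hy₁e _ (autFun_mem α hx)
      rw [id] at h1
      rw [e x hx, h1, autFun_mul _ _ hax, hE α x hx]
    · obtain ⟨y, hy, hye⟩ := edge (R₀ := normalizerIn R A) (f := autFun α)
        (.step α hR hα hc normalizerIn_le fun _ _ => rfl)
        (by
          have : Finite R := finite_of_le hRS
          exact normalizerIn_gt (isPGroup_of_le hRS H.hS) hlt)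
        (inf_le_inf_right _ hR.2.1) ha hb
      exact ⟨y, hy, fun x hx => by rw [e x hx]; exact hye x hx⟩
  | @comp A g h' f hg hh e ih₁ ih₂ =>
    intro a b ha hb
    have hWA := H.gm_W_le ha hW
    obtain ⟨hgm, hA, hgT⟩ := H.gen_isMor hg
    have hWB : W ≤ img A g := H.W_le_img hgm hWA
    have hBT : img A g ≤ liftTop θ T' := img_le hgT
    have hconj : Ebar.IsConj (imageAlong θ A) (imageAlong θ P) := by
      have := H.conj_image_of_gen (H.gen_restrict ha.2.1 _ (le_normalizerIn ha.1)) hWA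
      rwa [ha.2.2.1] at this
    obtain ⟨c, hc, hci, hcN⟩ := H.exists_gm hWB hBT hW hP
      (H.ebar_fullyNormalized hW hP hPn)
      (isConj_trans (isConj_symm (H.conj_image_of_gen hg hWA)) hconj)
    have hcG : IsGM F W θ Ebar p P (img A g) c := ⟨hBT, hc, hci, hcN⟩
    obtain ⟨y₁, hy₁, he₁⟩ := ih₁ a c ha hcG
    have hi : img A f = img (img A g) h' := by
      rw [hgm.img_comp]
      exact img_congr e
    obtain ⟨y₂, hy₂, he₂⟩ := ih₂ c b hcG (hi ▸ hb)
    refine ⟨y₂ * y₁, Subgroup.mul_mem _ hy₂ hy₁, fun x hx => ?_⟩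
    have hax : a x ∈ P := ha.2.2.1 ▸ mem_img_of_mem a hx
    rw [e x hx, he₂ _ (mem_img_of_mem g hx), he₁ x hx, autFun_mul _ _ hax]

/-- A generated automorphism trivial modulo the centre is inner. -/
theorem CLift.inner_ker : ∀ A : Subgroup Ω, HCl W θ Ebar A → InnerKer F W θ Ebar p A := by
  suffices hmain : ∀ d (A : Subgroup Ω), Nat.card (liftTop θ T') - Nat.card A = d →
      HCl W θ Ebar A → InnerKer F W θ Ebar p A from fun A => hmain _ A rfl
  intro d
  induction d using Nat.strong_induction_on with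
  | _ d ih =>
  intro A hd h
  subst hd
  have hfinT : Finite (liftTop θ T') := finite_of_le H.top_le
  -- the fully normalized case
  have hfull : ∀ P, HCl W θ Ebar P → Nat.card P = Nat.card A → F.IsFullyNormalized P →
      InnerKer F W θ Ebar p P := by
    intro P hP hcard hPn f hf hfP hth
    obtain ⟨hW, hPT, -⟩ := id hP
    have hPS := hPT.trans H.top_le
    have := finite_mulAut hPS
    obtain ⟨hfm, -, -⟩ := H.gen_isMor hf
    obtain ⟨γ, hγ, hγe⟩ := exists_aut hfm (hfm.img_eq_self hfP)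
    have hγK : γ ∈ kerMod F θ P := ⟨hγ, fun x hx => by rw [hγe x hx]; exact hth x hx⟩
    have hγY : γ ∈ H.Y P := by
      rcases eq_or_lt_of_le hPT with e | hlt
      · subst e
        obtain ⟨y, hy, hye⟩ := H.gen_top hf rfl
        rwa [show γ = y from autFun_inj fun x hx => by rw [hγe x hx, hye x hx]]
      have hid : IsGM F W θ Ebar p P P id :=
        ⟨hPT, H.gen_id normalizerIn_le, img_id P, fun x hx => hx⟩
      obtain ⟨y, hy, hye⟩ := H.class_mem_Y hP hPn hlt (fun R hR hlt' => ih _ (by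
        have h1 := Subgroup.card_le_of_le hR.2.1
        omega) R rfl hR) hf id id hid (by rw [hfm.img_eq_self hfP]; exact hid)
      rwa [show γ = y from autFun_inj fun x hx => by rw [hγe x hx]; exact hye x hx]
    obtain ⟨z, hz, hze⟩ := mem_inn.mp (H.Y_inf_kerMod hP hPn ⟨hγY, hγK⟩)
    exact ⟨z, hz, fun x hx => by rw [← hγe x hx, hze x hx]⟩
  intro f hf hfA hth
  obtain ⟨hW, hA, -⟩ := id h
  obtain ⟨e, he, α, hα, hn⟩ := H.exists_rep h
  obtain ⟨hem, -, heT⟩ := H.gen_isMor he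
  obtain ⟨hfm, -, -⟩ := H.gen_isMor hf
  obtain ⟨ei, hei, hel, -, heii⟩ := hem.inverse
  have heig := H.gen_inverse he ei hei hel
  have hαm := isMor_autFun H.top_le hα
  have hP₁T : img A e ≤ liftTop θ T' := img_le heT
  have h1 : LGen F W θ Ebar p (img A e) (f ∘ ei) :=
    H.gen_comp heig hf fun z hz => heii ▸ mem_img_of_mem ei hz
  have h2 : LGen F W θ Ebar p (img A e) (e ∘ (f ∘ ei)) :=
    H.gen_comp h1 he fun z hz => hfA _ (heii ▸ mem_img_of_mem ei hz)
  obtain ⟨k, hk, hke⟩ := H.gen_transport hα h2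
  have hcomp := hem.comp hαm fun x hx => heT x hx
  rw [hem.img_comp] at hn
  have hi : img (img A e) (autFun α) = img A (autFun α ∘ e) := hem.img_comp _
  rw [hi] at hk
  have hP₀ : HCl W θ Ebar (img A (autFun α ∘ e)) := H.hcl_img h hcomp
  have hval : ∀ x ∈ A, k ((autFun α ∘ e) x) = (autFun α ∘ e) (f x) := fun x hx => by
    rw [Function.comp_apply, hke _ (mem_img_of_mem e hx), Function.comp_apply, Function.comp_apply,
      hel x hx]
    rfl
  obtain ⟨c', hc', hce⟩ := H.push hcomp hW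
  obtain ⟨z, hz, hze⟩ := hfull _ hP₀ hcomp.card_img hn k hk
    (fun q hq => by
      obtain ⟨x, hx, rfl⟩ := hcomp.mem_img.mp hq
      rw [hval x hx]
      exact mem_img_of_mem _ (hfA x hx))
    (fun q hq => by
      obtain ⟨x, hx, rfl⟩ := hcomp.mem_img.mp hq
      rw [hval x hx, ← hce _ (hfA x hx), hth x hx, hce x hx])
  obtain ⟨w, hw, rfl⟩ := hcomp.mem_img.mp hz
  refine ⟨w, hw, fun x hx => hcomp.inj (hfA x hx) (A.mul_mem (A.mul_mem hw hx) (A.inv_mem hw)) ?_⟩
  rw [← hval x hx, hze _ (mem_img_of_mem _ hx)]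
  exact (hcomp.map_conj hw hx).symm

end

end CfsgLib.Fusion
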