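import Mathlib
import Cfsg.Agent.Lib.Fusion.CentralLiftKey
import Cfsg.Agent.Lib.Fusion.SatMain

/-!
# The lifted system is saturated and weakly normal
-/

set_option autoImplicit false
set_option linter.unusedSectionVars false

namespace CfsgLib.Fusion

open Cfsg Cfsg.FusionSystem

variable {Ω Ω' : Type*} [Group Ω] [Group Ω'] {S : Subgroup Ω} [Finite S]
  {F : FusionSystem S} {W : Subgroup Ω} {θ : S →* Ω'} {S' : Subgroup Ω'}
  {Fbar : FusionSystem S'} {T' : Subgroup Ω'} {Ebar : FusionSystem T'} {p : ℕ} [hp : Fact p.Prime]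
  {P : Subgroup Ω}

section

variable (H : CLift F W θ Fbar Ebar p)

include H

/-- The lifted system. -/
noncomputable def CLift.sys : FusionSystem (liftTop θ T') :=
  ofPred (liftTop θ T') (LGen F W θ Ebar p)
    (fun _ _ h => (H.gen_isMor h).2)
    (fun _ _ h _ hx _ hy e => (H.gen_isMor h).1.inj hx hy e)
    (fun _ _ _ h e => H.gen_congr h e)
    (fun _ t hP ht => .conj t hP ht fun _ _ => rfl)
    (fun _ _ _ _ hf hg h => H.gen_comp hf hg h)
    (fun P f h _ => by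
      obtain ⟨g, hg, hgl, -, -⟩ := (H.gen_isMor h).1.inverse
      exact ⟨g, H.gen_inverse h g hg hgl, hgl⟩)

theorem CLift.isMor_sys {f : Ω → Ω} : IsMor H.sys P f ↔ LGen F W θ Ebar p P f :=
  isMor_ofPred fun h _ hx _ hy => (H.gen_isMor h).1.map_mul hx hy

theorem CLift.sys_sub : H.sys.IsSubsystemOf F :=
  le_iff_isMor.mpr fun _ _ hf => (H.gen_isMor (H.isMor_sys.mp hf)).1

theorem CLift.sys_saturated : H.sys.IsSaturated p := by
  have := H.finite_S'
  have := H.finite_T'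
  have hTS := H.top_le
  have : Finite (liftTop θ T') := finite_of_le hTS
  have hTp : IsPGroup p (liftTop θ T') := isPGroup_of_le hTS H.hS
  have hpre : ∀ {R' : Subgroup Ω'}, R' ≤ T' → preimageAlong θ R' ≤ liftTop θ T' := fun h x hx => by
    obtain ⟨h1, h2⟩ := (mem_preimageAlong_thF θ).mp hx
    exact (mem_preimageAlong_thF θ).mpr ⟨h1, h h2⟩
  refine saturated_of_crit hTp (ℋ := {A | HCl W θ Ebar A}) ?_ ?_ ?_ ?_
  · intro A hA Q hQ
    obtain ⟨f, hf, rfl⟩ := isConj_iff.mp hQ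
    exact H.hcl_img hA (H.gen_isMor (H.isMor_sys.mp hf)).1
  · intro A hA
    obtain ⟨hWA, hAT, hAc⟩ := id hA
    obtain ⟨Q', hQ', hQ'n⟩ := exists_fullyNormalized Ebar hAc.1
    set Q := preimageAlong θ Q' with hQdef
    have hQ'S : Q' ≤ S' := hQ'n.1.trans H.T'_le
    have hQT : Q ≤ liftTop θ T' := hpre hQ'n.1
    have hQS := hQT.trans hTS
    have hWQ : W ≤ Q := H.W_le_pre Q'
    have himQ : imageAlong θ Q = Q' := H.image_pre hQ'S
    have hQc : HCl W θ Ebar Q := ⟨hWQ, hQT, himQ ▸ centric_of_isConj hAc hQ'⟩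
    obtain ⟨a, ha, hai, -⟩ := H.exists_gm hWA hAT hWQ hQT (himQ.symm ▸ hQ'n) (himQ.symm ▸ hQ')
    have : Finite Q := finite_of_le hQS
    refine ⟨Q, isConj_iff.mpr ⟨a, H.isMor_sys.mpr (H.gen_restrict ha _ (le_normalizerIn hAT)), hai⟩,
      isFullyAutomized_iff.mpr ⟨hQT, autInducedBy_le _ hQT, isPGroup_autInducedBy hTp,
      fun C hC hAC hCE => le_antisymm (fun c hc => ?_) hAC⟩, isReceptive_iff.mpr ⟨hQT, ?_⟩⟩
    · let C' : Subgroup (MulAut Q') :=
        { carrier := {β | β ∈ Ebar.autGroup Q' ∧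
            ∃ c ∈ C, ∀ x ∈ Q, autFun β (thF θ x) = thF θ (autFun c x)}
          one_mem' := ⟨one_mem _, 1, one_mem _, fun x hx => by
            rw [autFun_one hx, autFun_one ((mem_preimageAlong_thF θ).mp hx).2]⟩
          mul_mem' := by
            rintro β γ ⟨hβ, c, hc, hce⟩ ⟨hγ, d, hd, hde⟩
            refine ⟨Subgroup.mul_mem _ hβ hγ, c * d, C.mul_mem hc hd, fun x hx => ?_⟩
            rw [autFun_mul _ _ ((mem_preimageAlong_thF θ).mp hx).2, hde x hx,
              hce _ (autFun_mem d hx), autFun_mul _ _ hx]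
          inv_mem' := by
            rintro β ⟨hβ, c, hc, hce⟩
            refine ⟨Subgroup.inv_mem _ hβ, c⁻¹, C.inv_mem hc, fun x hx => ?_⟩
            conv_lhs => rw [← autFun_inv_right c hx, ← hce _ (autFun_mem c⁻¹ hx)]
            exact autFun_inv_left β ((mem_preimageAlong_thF θ).mp (autFun_mem c⁻¹ hx)).2 }
      have hpow : ∀ (j : ℕ) (β : MulAut Q') (c : MulAut Q),
          (∀ x ∈ Q, autFun β (thF θ x) = thF θ (autFun c x)) →
          ∀ x ∈ Q, autFun (β ^ j) (thF θ x) = thF θ (autFun (c ^ j) x) := by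
        intro j β c he
        induction j with
        | zero =>
          intro x hx
          rw [pow_zero, pow_zero, autFun_one hx, autFun_one ((mem_preimageAlong_thF θ).mp hx).2]
        | succ j ih =>
          intro x hx
          rw [pow_succ', pow_succ', autFun_mul _ _ ((mem_preimageAlong_thF θ).mp hx).2, ih x hx,
            he _ (autFun_mem _ hx), autFun_mul _ _ hx]
      have hC'p : IsPGroup p C' := by
        rintro ⟨β, hβ, c, hc, hce⟩
        obtain ⟨i, hi⟩ := hC ⟨c, hc⟩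
        refine ⟨i, Subtype.ext (autFun_inj fun y hy => ?_)⟩
        obtain ⟨x, hx, rfl⟩ := H.exists_thF (hQ'S hy)
        have hxQ : x ∈ Q := (mem_preimageAlong_thF θ).mpr ⟨hx, hy⟩
        rw [SubgroupClass.coe_pow, hpow _ β c hce x hxQ,
          show c ^ p ^ i = 1 from congrArg Subtype.val hi, autFun_one hxQ]
        exact (autFun_one hy).symm
      have hnorm : ∀ t ∈ S, thF θ t ∈ Subgroup.normalizer (Q' : Set Ω') →
          t ∈ Subgroup.normalizer (Q : Set Ω) := fun t ht htn =>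
        Subgroup.mem_normalizer_fintype fun z hz => (mem_preimageAlong_thF θ).mpr
          ⟨S.mul_mem (S.mul_mem ht (hQS hz)) (S.inv_mem ht), by
            show thF θ (cj t z) ∈ Q'
            rw [thF_cj θ ht (hQS hz)]
            exact (Subgroup.mem_normalizer_iff.mp htn _).mp ((mem_preimageAlong_thF θ).mp hz).2⟩
      have hsylQ' := (isFullyAutomized_iff.mp
        (isFullyAutomized_of_normalized H.isPGroup_T' H.ebar_saturated hQ'n).1).2
      have hC'eq : C' = autInducedBy T' Q' := by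
        refine hsylQ'.2.2 C' hC'p (fun β hβ => ?_) fun β hβ => hβ.1
        obtain ⟨t', ht', htn', hte⟩ := mem_autInducedBy.mp hβ
        obtain ⟨t, ht, rfl⟩ := H.exists_thF (H.T'_le ht')
        obtain ⟨γ, hγ, hγe⟩ := exists_autInducedBy (P := Q) (K := liftTop θ T')
          ((mem_preimageAlong_thF θ).mpr ⟨ht, ht'⟩) (hnorm t ht htn')
        refine ⟨hsylQ'.1 hβ, γ, hAC hγ, fun x hx => ?_⟩
        rw [hγe x hx, hte _ ((mem_preimageAlong_thF θ).mp hx).2, thF_cj θ ht (hQS hx)]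
      have hcg := H.isMor_sys.mp (isMor_autFun hQT (hCE hc))
      obtain ⟨-, -, hcm, c', hc', hce⟩ := H.gen_lifts hcg hWQ
      rw [himQ] at hc'
      obtain ⟨β, hβ, hβe⟩ := exists_aut hc' (hc'.img_eq_self fun y hy => by
        obtain ⟨x, hx, rfl⟩ := H.exists_thF (hQ'S hy)
        have hxQ : x ∈ Q := (mem_preimageAlong_thF θ).mpr ⟨hx, hy⟩
        rw [hce x hxQ]
        exact ((mem_preimageAlong_thF θ).mp (autFun_mem c hxQ)).2)
      have hβC : β ∈ C' := ⟨hβ, c, hc, fun x hx => by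
        rw [hβe _ ((mem_preimageAlong_thF θ).mp hx).2]; exact hce x hx⟩
      obtain ⟨t', ht', htn', hte⟩ := mem_autInducedBy.mp (hC'eq ▸ hβC)
      obtain ⟨t, ht, rfl⟩ := H.exists_thF (H.T'_le ht')
      have htT : t ∈ liftTop θ T' := (mem_preimageAlong_thF θ).mpr ⟨ht, ht'⟩
      obtain ⟨γ, hγ, hγe⟩ := exists_autInducedBy (P := Q) (K := liftTop θ T') htT (hnorm t ht htn')
      have hγi : ∀ y ∈ Q, autFun γ⁻¹ y = cj t⁻¹ y := fun y hy => by
        conv_rhs => rw [← autFun_inv_right γ hy, hγe _ (autFun_mem γ⁻¹ hy), cj_inv_cj]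
      have hd : LGen F W θ Ebar p Q (autFun (γ⁻¹ * c)) :=
        H.isMor_sys.mp (isMor_autFun hQT
          (Subgroup.mul_mem _ (Subgroup.inv_mem _ (autInducedBy_le H.sys hQT hγ)) (hCE hc)))
      obtain ⟨z, hz, hze⟩ := H.inner_ker Q hQc _ hd (fun x hx => autFun_mem _ hx) fun x hx => by
        have hy := autFun_mem c hx
        rw [autFun_mul _ _ hx, hγi _ hy, thF_cj θ (S.inv_mem ht) (hQS hy), thF_inv θ ht,
          ← hce x hx, ← hβe _ ((mem_preimageAlong_thF θ).mp hx).2,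
          hte _ ((mem_preimageAlong_thF θ).mp hx).2, cj_inv_cj]
      have h1 := Subgroup.mul_mem _ hγ (H.inn_le_autT hQT (mem_inn.mpr ⟨z, hz, hze⟩))
      rwa [mul_inv_cancel_left] at h1
    · intro A f hf hfi
      have hfg := H.isMor_sys.mp hf
      obtain ⟨hfm, hA, hfT⟩ := H.gen_isMor hfg
      have hWA : W ≤ A := by
        intro w hw
        obtain ⟨x, hx, hxe⟩ := hfm.mem_img.mp (hfi.symm ▸ hWQ hw : w ∈ img A f)
        obtain ⟨g, hg, hgf, hgW⟩ := (isCentral_iff.mp H.hW).2 A f hfm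
        exact (hg.inj (Subgroup.mem_sup_left hx) (Subgroup.mem_sup_right hw)
          (by rw [hgf x hx, hxe, hgW w hw]) : x = w) ▸ hx
      have hAS := hA.trans hTS
      have : Finite A := finite_of_le hAS
      obtain ⟨-, -, -, f', hf', hfe⟩ := H.gen_lifts hfg hWA
      have hfi' : img (imageAlong θ A) f' = Q' := by
        rw [H.img_image hfm (le_iff_isMor.mp H.ebar_sub _ _ hf') hfe, hfi, himQ]
      obtain ⟨e₀, he₀, he₀e⟩ := (isReceptive_iff.mp
        (isFullyAutomized_of_normalized H.isPGroup_T' H.ebar_saturated hQ'n).2).2 _ _ hf' hfi'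
      obtain ⟨e, he, hee⟩ := H.gen_lift he₀
      set R := nExt (liftTop θ T') A f with hRdef
      have hsub : R ≤ preimageAlong θ (nExt T' (imageAlong θ A) f') := by
        intro u hu
        obtain ⟨huT, hun, h, hh, hhe⟩ := hu
        refine (mem_preimageAlong_thF θ).mpr ⟨hTS huT, mem_nExt.mpr
          ⟨((mem_preimageAlong_thF θ).mp huT).2, thF_normalizer θ hAS (hTS huT) hun, thF θ h,
            ((mem_preimageAlong_thF θ).mp hh).2, fun y hy => ?_⟩⟩
        obtain ⟨x, hx, rfl⟩ := (mem_imageAlong_thF θ hAS).mp hy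
        have hux : cj u x ∈ A := (Subgroup.mem_normalizer_iff.mp hun x).mp hx
        rw [← thF_cj θ (hTS huT) (hAS hx), hfe _ hux, hhe x hx, thF_cj θ (hTS hh) (hfm.mem hx),
          hfe x hx]
      have he' := H.gen_restrict he R hsub
      obtain ⟨hem, hRT, -⟩ := H.gen_isMor he'
      have hAR : A ≤ R := le_nExt hf
      have hth : ∀ x ∈ A, thF θ (e x) = thF θ (f x) := fun x hx => by
        rw [← hee x (hsub (hAR hx)), he₀e _ (thF_mem_imageAlong θ hAS hx), hfe x hx]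
      have heQ : ∀ x ∈ A, e x ∈ Q := fun x hx => H.mem_of_thF hWQ hQS (hem.mem (hAR hx)) (by
        rw [hth x hx]; exact thF_mem_imageAlong θ hQS (hfi ▸ mem_img_of_mem f hx))
      obtain ⟨fi, hfi₁, hfl, hfr, hfii⟩ := hfm.inverse
      have hfig := H.gen_inverse hfg fi hfi₁ hfl
      rw [hfi] at hfig hfii hfr
      have hfiA : ∀ q ∈ Q, fi q ∈ A := fun q hq => hfii ▸ mem_img_of_mem fi hq
      have hd : LGen F W θ Ebar p Q (e ∘ fi) :=
        H.gen_comp hfig (H.gen_restrict he' A hAR) hfiA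
      obtain ⟨z, hz, hze⟩ := H.inner_ker Q hQc _ hd (fun q hq => heQ _ (hfiA q hq))
        fun q hq => by rw [Function.comp_apply, hth _ (hfiA q hq), hfr q hq]
      refine ⟨cj z⁻¹ ∘ e, H.isMor_sys.mpr (H.gen_comp he'
        (.conj z⁻¹ (le_refl _) (Subgroup.inv_mem _ (hQT hz)) fun _ _ => rfl)
        fun u hu => (H.gen_isMor he').2.2 u hu), fun x hx => ?_⟩
      have h1 := hze (f x) (hfi ▸ mem_img_of_mem f hx)
      rw [Function.comp_apply, hfl x hx] at h1
      rw [Function.comp_apply, h1, cj_inv_cj]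
  · intro E hE
    refine le_iff_isMor.mpr fun A f hf => ?_
    have hgen := H.isMor_sys.mp hf
    clear hf
    induction hgen with
    | conj t hP ht e => exact (isMor_cj E hP ht).congr fun x hx => (e x hx).symm
    | @step P R f α hR hα hc hPR e =>
      obtain ⟨φ, hφ, hφe⟩ :=
        H.isMor_sys.mpr (LGen.step α hR hα hc le_rfl fun _ _ => rfl : LGen F W θ Ebar p R (autFun α))
      exact ((show IsMor E R (autFun α) from ⟨φ, hE R hR hφ, hφe⟩).restrict hPR).congr
        fun x hx => (e x hx).symm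
    | comp _ _ e ih₁ ih₂ =>
      exact (ih₁.comp ih₂ fun x hx => mem_img_of_mem _ hx).congr fun x hx => (e x hx).symm
  · intro A hA hAH
    have hAT := hA.1
    have hAS := hAT.trans hTS
    have hWA : W ≤ A := fun w hw => centric_centralizer_le hA (mem_centralizerIn.mpr
      ⟨H.le_top_W hw, fun x hx => by
        show w * x * w⁻¹ = x
        rw [← H.commW hw (hAS hx), mul_inv_cancel_right]⟩)
    have hnc : ¬ Ebar.IsCentric (imageAlong θ A) := fun h => hAH ⟨hWA, hAT, h⟩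
    obtain ⟨R', hR', hR'c⟩ : ∃ R', Ebar.IsConj (imageAlong θ A) R' ∧
        ¬ centralizerIn T' R' ≤ R' := by
      by_contra h
      exact hnc ⟨H.image_le_T' hAT, fun R hR => by_contra fun h' => h ⟨R, hR, h'⟩⟩
    obtain ⟨f', hf', rfl⟩ := isConj_iff.mp hR'
    obtain ⟨g, hg, hge⟩ := H.gen_lift hf'
    rw [H.pre_image hWA hAS] at hg hge
    obtain ⟨hgm, -, hgT⟩ := H.gen_isMor hg
    set Q := img A g with hQdef
    have hQT : Q ≤ liftTop θ T' := img_le hgT
    have hQS := hQT.trans hTS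
    have hWQ : W ≤ Q := H.W_le_img hgm hWA
    have hAQ : H.sys.IsConj A Q := isConj_iff.mpr ⟨g, H.isMor_sys.mpr hg, rfl⟩
    refine ⟨Q, hAQ, fun hle => hR'c ?_⟩
    rw [H.img_image hgm (le_iff_isMor.mp H.ebar_sub _ _ hf') hge]
    intro t' ht'
    obtain ⟨ht'T, ht'c⟩ := mem_centralizerIn.mp ht'
    obtain ⟨t, ht, rfl⟩ := H.exists_thF (H.T'_le ht'T)
    have htT : t ∈ liftTop θ T' := (mem_preimageAlong_thF θ).mpr ⟨ht, ht'T⟩
    refine thF_mem_imageAlong θ hQS ?_
    have hth : ∀ x ∈ Q, thF θ (cj t x) = thF θ x := fun x hx => by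
      rw [thF_cj θ ht (hQS hx)]
      exact ht'c _ (thF_mem_imageAlong θ hQS hx)
    have : Finite Q := finite_of_le hQS
    have htn : t ∈ Subgroup.normalizer (Q : Set Ω) := Subgroup.mem_normalizer_fintype fun x hx =>
      H.mem_of_thF hWQ hQS (S.mul_mem (S.mul_mem ht (hQS hx)) (S.inv_mem ht))
        (by show thF θ (cj t x) ∈ _; rw [hth x hx]; exact thF_mem_imageAlong θ hQS hx)
    obtain ⟨α, hα, hαe⟩ := exists_autInducedBy (P := Q) (K := liftTop θ T') htT htn
    have hαE := autInducedBy_le H.sys hQT hα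
    have hαK : α ∈ kerMod F θ Q ⊓ H.sys.autGroup Q :=
      ⟨⟨autGroup_mono H.sys_sub hαE, fun x hx => by rw [hαe x hx]; exact hth x hx⟩, hαE⟩
    have hαO : α ∈ pCoreAut H.sys p Q := le_pCoreAut inf_le_right
      (isPGroup_of_le inf_le_left (H.kerMod_isPGroup hWQ hQS))
      (fun a ha k hk => ⟨H.kerMod_conj hWQ hQS (autGroup_mono H.sys_sub ha) hk.1,
        Subgroup.mul_mem _ (Subgroup.mul_mem _ ha hk.2) (Subgroup.inv_mem _ ha)⟩) hαK
    exact mem_of_cj_inn hQT (centric_centralizer_le (centric_of_isConj hA hAQ)) htT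
      (hle ⟨hα, hαO⟩) hαe

/-- A map of `F` inside `T` is an automorphism of `T` after a generated map. -/
def CLift.Fac (_H : CLift F W θ Fbar Ebar p) (A : Subgroup Ω) (f : Ω → Ω) : Prop :=
  ∃ α ∈ F.autGroup (liftTop θ T'), ∃ e, LGen F W θ Ebar p A e ∧ ∀ x ∈ A, f x = autFun α (e x)

theorem CLift.fac_congr {A : Subgroup Ω} {f f' : Ω → Ω} (h : H.Fac A f)
    (e : ∀ x ∈ A, f x = f' x) : H.Fac A f' := by
  obtain ⟨α, hα, g, hg, hfe⟩ := h
  exact ⟨α, hα, g, hg, fun x hx => (e x hx).symm.trans (hfe x hx)⟩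

theorem CLift.fac_comp {A B : Subgroup Ω} {f g : Ω → Ω} (hf : H.Fac A f) (hg : H.Fac B g)
    (hm : ∀ x ∈ A, f x ∈ B) : H.Fac A (g ∘ f) := by
  obtain ⟨α, hα, e, he, hfe⟩ := hf
  obtain ⟨β, hβ, d, hd, hge⟩ := hg
  obtain ⟨-, hB, hdT⟩ := H.gen_isMor hd
  obtain ⟨hem, -, heT⟩ := H.gen_isMor he
  obtain ⟨k, hk, hke⟩ := H.gen_transport (Subgroup.inv_mem _ hα) hd
  have hmem : ∀ x ∈ A, e x ∈ img B (autFun α⁻¹) := fun x hx => by
    rw [← autFun_inv_left α (heT x hx), ← hfe x hx]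
    exact mem_img_of_mem _ (hm x hx)
  refine ⟨β * α, Subgroup.mul_mem _ hβ hα, k ∘ e, H.gen_comp he hk hmem, fun x hx => ?_⟩
  have h1 := hke (f x) (hm x hx)
  rw [show autFun α⁻¹ (f x) = e x by rw [hfe x hx, autFun_inv_left α (heT x hx)]] at h1
  have hy := hdT _ (hm x hx)
  rw [Function.comp_apply, Function.comp_apply, h1, hge _ (hm x hx),
    autFun_mul _ _ (autFun_mem α⁻¹ hy), autFun_inv_right α hy]

theorem CLift.fac_inverse {A : Subgroup Ω} {f g : Ω → Ω} (hfm : IsMor F A f) (hf : H.Fac A f)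
    (hg : IsMor F (img A f) g) (hgl : ∀ x ∈ A, g (f x) = x) : H.Fac (img A f) g := by
  obtain ⟨α, hα, e, he, hfe⟩ := hf
  obtain ⟨hem, hA, heT⟩ := H.gen_isMor he
  obtain ⟨ei, hei, hel, -, heii⟩ := hem.inverse
  obtain ⟨k, hk, hke⟩ := H.gen_transport hα (H.gen_inverse he ei hei hel)
  rw [show img (img A e) (autFun α) = img A f by
    rw [hem.img_comp]; exact (img_congr hfe).symm] at hk
  refine ⟨α⁻¹, Subgroup.inv_mem _ hα, k, hk, fun y hy => ?_⟩
  obtain ⟨x, hx, rfl⟩ := hfm.mem_img.mp hy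
  rw [hgl x hx]
  conv_rhs => rw [hfe x hx, hke _ (mem_img_of_mem e hx), hel x hx, autFun_inv_left α (hA hx)]

theorem CLift.fac_all {A : Subgroup Ω} {f : Ω → Ω} (hf : IsMor F A f) (hW : W ≤ A)
    (hA : A ≤ liftTop θ T') : H.Fac A f := by
  have := H.finite_S'
  have hTS := H.top_le
  have : Finite (liftTop θ T') := finite_of_le hTS
  have hTp : IsPGroup p (liftTop θ T') := isPGroup_of_le hTS H.hS
  have hsc := (stronglyClosed_iff.mp H.top_closed).2
  suffices hmain : ∀ d (A : Subgroup Ω) f, Nat.card (liftTop θ T') - Nat.card A = d →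
      IsMor F A f → W ≤ A → A ≤ liftTop θ T' → H.Fac A f from hmain _ A f rfl hf hW hA
  clear hf hW hA A f
  intro d
  induction d using Nat.strong_induction_on with
  | _ d ih =>
  intro A f hd hf hW hA
  subst hd
  rcases eq_or_lt_of_le hA with rfl | hlt
  · obtain ⟨α, hα, hαe⟩ := exists_aut hf (hf.img_eq_self fun x hx => hsc _ f hf x hx hx)
    exact ⟨α, hα, id, H.gen_id le_rfl, fun x hx => (hαe x hx).symm⟩
  have hAS := hA.trans hTS
  obtain ⟨f', hf', hfe⟩ := H.push hf hW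
  obtain ⟨a', ha', e', he', hae⟩ := factors_of_strongInv H.isPGroup_S' H.fbar_saturated H.ebar_sub
    H.T'_closed H.strongInv hf' (H.image_le_T' hA)
  obtain ⟨e, he, hee⟩ := H.gen_lift he'
  rw [H.pre_image hW hAS] at he hee
  obtain ⟨n, hn, hne⟩ := H.lift (isMor_autFun H.T'_le ha')
  have hnT : IsMor F (liftTop θ T') n := hn
  obtain ⟨α, hα, hαe⟩ := exists_aut hnT (hnT.img_eq_self fun x hx => hsc _ n hnT x hx hx)
  obtain ⟨hem, -, heT⟩ := H.gen_isMor he
  have hth : ∀ x ∈ A, thF θ (autFun α (e x)) = thF θ (f x) := fun x hx => by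
    rw [hαe _ (heT x hx), ← hne _ (heT x hx), ← hee x hx,
      ← hae _ (thF_mem_imageAlong θ hAS hx), hfe x hx]
  have hc : IsMor F A (autFun α ∘ e) := hem.comp (isMor_autFun hTS hα) fun x hx => heT x hx
  have hi : ∀ x ∈ A, f x ∈ img A (autFun α ∘ e) := fun x hx =>
    H.mem_of_thF (H.W_le_img hc hW) hc.img_le (hf.mem hx) (by
      rw [← hth x hx]; exact thF_mem_imageAlong θ hc.img_le (mem_img_of_mem (autFun α ∘ e) hx))
  obtain ⟨ci, hci, hcl, hcr, hcii⟩ := hc.inverse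
  have hk : IsMor F A (ci ∘ f) := hf.comp hci hi
  have hkA : ∀ x ∈ A, (ci ∘ f) x ∈ A := fun x hx => hcii ▸ mem_img_of_mem ci (hi x hx)
  have hkth : ∀ x ∈ A, thF θ ((ci ∘ f) x) = thF θ x := fun x hx => by
    obtain ⟨ci', hci', hcie⟩ := H.push hci (H.W_le_img hc hW)
    have hm := mem_img_of_mem (autFun α ∘ e) hx
    have h2 : thF θ (f x) = thF θ ((autFun α ∘ e) x) := (hth x hx).symm
    rw [Function.comp_apply, ← hcie _ (hi x hx), h2, hcie _ hm, hcl x hx]
  suffices hkfac : H.Fac A (ci ∘ f) by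
    refine H.fac_congr (H.fac_comp hkfac ⟨α, hα, e, he, fun x _ => rfl⟩ hkA) fun x hx => ?_
    exact hcr _ (hi x hx)
  -- a map trivial modulo the centre
  obtain ⟨P₀, hP₀, hP₀n⟩ := exists_fullyNormalized F hAS
  obtain ⟨g, hg, hgi, -⟩ := exists_map_fullyNormalized H.hS H.hF hP₀n hP₀
  set N := normalizerIn (liftTop θ T') A with hNdef
  have hNn : N ≤ normalizerIn S A := inf_le_inf_right _ hTS
  have hgN := hg.restrict hNn
  have hAN : A ≤ N := le_normalizerIn hA
  have hgA := hgN.restrict hAN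
  have hgfac : H.Fac A g := by
    obtain ⟨β, hβ, d, hd, hde⟩ := ih _ (by
      have h1 : Nat.card A < Nat.card N :=
        card_lt_of_lt (normalizerIn_le.trans hTS) (normalizerIn_gt hTp hlt)
      have h2 : Nat.card N ≤ Nat.card (liftTop θ T') := Subgroup.card_le_of_le normalizerIn_le
      omega) N g rfl hgN (hW.trans hAN) normalizerIn_le
    exact ⟨β, hβ, d, H.gen_restrict hd A hAN, fun x hx => hde x (hAN hx)⟩
  have hP₀S := hP₀n.1
  have hP₀T : P₀ ≤ liftTop θ T' := hgi ▸ img_le fun x hx => hsc _ g hgA x hx (hA hx)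
  have hWP₀ : W ≤ P₀ := hgi ▸ H.W_le_img hgA hW
  obtain ⟨gi, hgi₁, hgl, hgr, hgii⟩ := hgA.inverse
  rw [hgi] at hgi₁ hgii
  have hgiA : ∀ q ∈ P₀, gi q ∈ A := fun q hq => hgii ▸ mem_img_of_mem gi hq
  have hk₀ : IsMor F P₀ (g ∘ ((ci ∘ f) ∘ gi)) :=
    (hgi₁.comp hk hgiA).comp hgA fun q hq => hkA _ (hgiA q hq)
  obtain ⟨κ, hκ, hκe⟩ := exists_aut hk₀ (hk₀.img_eq_self fun q hq =>
    hgi ▸ mem_img_of_mem g (hkA _ (hgiA q hq)))
  obtain ⟨g', hg', hge⟩ := H.push hgA hW
  have hκK : κ ∈ kerMod F θ P₀ := ⟨hκ, fun q hq => by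
    rw [hκe q hq]
    show thF θ (g ((ci ∘ f) (gi q))) = _
    rw [← hge _ (hkA _ (hgiA q hq))]
    show g' (thF θ ((ci ∘ f) (gi q))) = _
    rw [hkth _ (hgiA q hq), hge _ (hgiA q hq), hgr q (hgi.ge hq)]⟩
  obtain ⟨s, hs, hsn, hse⟩ := mem_autInducedBy.mp (H.kerMod_le_autS hWP₀ hP₀S hP₀n hκK)
  have hcsT := isMor_cj F hTS hs
  obtain ⟨σ, hσ, hσe⟩ := exists_aut hcsT (hcsT.img_eq_self fun x hx => hsc _ _ hcsT x hx hx)
  have hsfac : H.Fac P₀ (cj s) := ⟨σ, hσ, id, H.gen_id hP₀T, fun x hx => (hσe x (hP₀T hx)).symm⟩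
  have hgifac : H.Fac P₀ gi := hgi ▸ H.fac_inverse hgA hgfac (hgi.symm ▸ hgi₁) hgl
  have h1 : H.Fac A (cj s ∘ g) :=
    H.fac_comp hgfac hsfac fun x hx => hgi ▸ mem_img_of_mem g hx
  have hm : ∀ x ∈ A, (cj s ∘ g) x ∈ P₀ := fun x hx =>
    (Subgroup.mem_normalizer_iff.mp hsn _).mp (hgi ▸ mem_img_of_mem g hx)
  refine H.fac_congr (H.fac_comp h1 hgifac hm) fun x hx => ?_
  have hgx : g x ∈ P₀ := hgi ▸ mem_img_of_mem g hx
  rw [Function.comp_apply, Function.comp_apply, ← hse _ hgx, hκe _ hgx, Function.comp_apply,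
    Function.comp_apply, hgl x hx, hgl _ (hkA x hx)]

theorem CLift.sys_weaklyNormal : H.sys.IsWeaklyNormalIn F p := by
  have hTS := H.top_le
  have : Finite (liftTop θ T') := finite_of_le hTS
  refine ⟨H.sys_saturated, H.hF, H.sys_sub, H.top_closed, fun P hPT φ hφ α hα => ?_,
    fun P hP φ hφ => ?_⟩
  · obtain ⟨k, hk, hke⟩ := H.gen_transport hα (H.isMor_sys.mp (isMor_of_mem hφ))
    have hαT : ∀ z : liftTop θ T', ((liftTop θ T').subtype.comp α.toMonoidHom) z = autFun α z :=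
      fun z => (autFun_coe α z).symm
    rw [← map_subgroupOf_eq_img hαT hPT] at hk
    obtain ⟨χ, hχ, hχk⟩ := H.isMor_sys.mpr hk
    refine ⟨χ, hχ, fun x hφx hαx => ?_⟩
    have := hke x x.2
    rw [toFun_coe φ, autFun_of_mem α (hPT x.2), autFun_of_mem α hφx] at this
    rw [hχk]
    exact this
  · obtain ⟨g, hg, hgf, -⟩ := (isCentral_iff.mp H.hW).2 P _ (isMor_of_mem hφ)
    obtain ⟨α, hα, e, he, hge⟩ := H.fac_all hg le_sup_right (sup_le hP H.le_top_W)
    obtain ⟨φ₀, hφ₀, hφ₀e⟩ := H.isMor_sys.mpr (H.gen_restrict he P le_sup_left)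
    refine ⟨α, hα, φ₀, hφ₀, fun x hx => ?_⟩
    rw [← toFun_coe φ x, ← hgf x x.2, hge x (Subgroup.mem_sup_left x.2), ← autFun_of_mem α hx]
    exact congrArg (autFun α) (hφ₀e x).symm

end

end CfsgLib.Fusion
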