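import Cfsg.Agent.Lib.Fusion.Criteria
import Cfsg.Agent.Lib.Fusion.Normal
import Cfsg.Agent.Lib.Fusion.Invariant

/-!
# Conjugates of normal subgroups of an invariant subsystem
-/

set_option autoImplicit false

namespace CfsgLib.Fusion

open Cfsg Cfsg.FusionSystem

variable {Ω : Type*} [Group Ω] {S T : Subgroup Ω} {F : FusionSystem S} {E : FusionSystem T}

/-- Maps of an invariant subsystem transported by `Aut_F(T)`. -/
theorem IsMor.transport (hE : E.IsInvariantIn F) {α : MulAut T} (hα : α ∈ F.autGroup T)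
    {P : Subgroup Ω} {f : Ω → Ω} (hf : IsMor E P f) :
    ∃ k, IsMor E (img P (autFun α)) k ∧ ∀ x ∈ P, k (autFun α x) = autFun α (f x) := by
  obtain ⟨-, -, hinv, -⟩ := hE
  obtain ⟨φ, hφ, hφf⟩ := id hf
  have hPT := hf.le
  obtain ⟨χ, hχ, hχe⟩ := hinv P hPT φ hφ α hα
  have himg : (P.subgroupOf T).map (T.subtype.comp α.toMonoidHom) = img P (autFun α) :=
    map_subgroupOf_eq_img (f := autFun α) (fun x => (autFun_coe α x).symm) hPT
  refine ⟨toFun χ, himg ▸ isMor_of_mem hχ, fun x hx => ?_⟩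
  have hm : autFun α x ∈ (P.subgroupOf T).map (T.subtype.comp α.toMonoidHom) :=
    himg.ge (mem_img_of_mem _ hx)
  rw [toFun_of_mem χ hm]
  have hm' : ((α ⟨x, hPT hx⟩ : T) : Ω) ∈
      (P.subgroupOf T).map (T.subtype.comp α.toMonoidHom) := by
    rwa [← autFun_of_mem α (hPT hx)]
  have h2 := hχe ⟨x, hx⟩ ((E.le_of_mem hφ).2 _) hm'
  refine Eq.trans (congrArg χ (Subtype.ext (autFun_of_mem α (hPT hx)))) (h2.trans ?_)
  rw [← autFun_of_mem α ((E.le_of_mem hφ).2 _), hφf]

variable [Finite S] {p : ℕ} [Fact p.Prime]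

omit [Fact p.Prime] in
/-- `Aut_F(T)` permutes the subgroups normal in an invariant subsystem. -/
theorem isNormal_img_autFun (hE : E.IsInvariantIn F) {α : MulAut T} (hα : α ∈ F.autGroup T)
    {N : Subgroup Ω} (hN : E.IsNormal N) : E.IsNormal (img N (autFun α)) := by
  have hTS : T ≤ S := hE.2.1.1
  have : Finite T := finite_of_le hTS
  obtain ⟨hNT, hext⟩ := isNormal_iff.mp hN
  have hm := isMor_autFun hTS hα
  have hN'T : img N (autFun α) ≤ T := img_le fun x hx => autFun_mem α (hNT hx)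
  refine isNormal_iff.mpr ⟨hN'T, fun P f hf => ?_⟩
  have hPT := hf.le
  obtain ⟨f', hf', hf'e⟩ := hf.transport hE (inv_mem hα)
  obtain ⟨g, hg, hgf, hgN⟩ := hext _ f' hf'
  obtain ⟨g', hg', hg'e⟩ := hg.transport hE hα
  refine ⟨g', hg'.restrict (sup_le (fun x hx => ?_) (img_mono _ le_sup_right)), fun x hx => ?_, ?_⟩
  · have := mem_img_of_mem (autFun α) (Subgroup.mem_sup_left (T := N)
      (mem_img_of_mem (autFun α⁻¹) hx))
    rwa [autFun_inv_right α (hPT hx)] at this
  · have h1 := hg'e _ (Subgroup.mem_sup_left (mem_img_of_mem (autFun α⁻¹) hx))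
    rw [autFun_inv_right α (hPT hx), hgf _ (mem_img_of_mem _ hx), hf'e x hx,
      autFun_inv_right α (hf.mem hx)] at h1
    exact h1
  · refine (hg'.restrict (img_mono _ le_sup_right)).img_eq_self fun y hy => ?_
    obtain ⟨x, hx, rfl⟩ := (hm.restrict hNT).mem_img.mp hy
    rw [hg'e x (Subgroup.mem_sup_right hx)]
    exact mem_img_of_mem _ (hgN ▸ mem_img_of_mem g hx)

/-- The `F`-closure of a subgroup normal in a weakly normal subsystem is normal in `F`. -/
theorem isNormal_closure_images (hS : IsPGroup p S) (hE : E.IsWeaklyNormalIn F p)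
    {R : Subgroup Ω} (hR : E.IsNormal R) :
    F.IsNormal (Subgroup.closure {x : Ω | ∃ φ ∈ F.Hom R, ∃ r : R, x = φ r}) := by
  obtain ⟨-, hF, hinv⟩ := hE
  obtain ⟨hsub, hTc, -, hfrat⟩ := id hinv
  have hTS : T ≤ S := hTc.1
  have : Finite T := finite_of_le hTS
  have hRT : R ≤ T := hR.1
  set U := Subgroup.closure {x : Ω | ∃ φ ∈ F.Hom R, ∃ r : R, x = φ r} with hU
  -- a map of `F` out of a subgroup of `T` factors through `E` and `Aut_F(T)`
  have hfac : ∀ P f, IsMor F P f → P ≤ T →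
      ∃ α ∈ F.autGroup T, ∃ e, IsMor E P e ∧ ∀ x ∈ P, f x = autFun α (e x) := fun P f hf hP => by
    obtain ⟨φ, hφ, hφf⟩ := hf
    obtain ⟨α, hα, φ₀, hφ₀, he⟩ := hfrat P hP φ hφ
    refine ⟨α, hα, toFun φ₀, isMor_of_mem hφ₀, fun x hx => ?_⟩
    rw [toFun_of_mem φ₀ hx, autFun_of_mem α ((E.le_of_mem hφ₀).2 _), ← hφf ⟨x, hx⟩]
    exact he ⟨x, hx⟩ _
  set s : Set (Subgroup Ω) := {N | ∃ α ∈ F.autGroup T, N = img R (autFun α)} with hs
  have hsub' : ∀ N ∈ s, N ≤ U := by
    rintro N ⟨α, hα, rfl⟩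
    obtain ⟨φ, hφ, hφe⟩ := (isMor_autFun hTS hα).restrict hRT
    exact img_le fun r hr => Subgroup.subset_closure ⟨φ, hφ, ⟨r, hr⟩, (hφe ⟨r, hr⟩).symm⟩
  have hUs : U = sSup s := by
    refine le_antisymm ((Subgroup.closure_le _).mpr ?_) (sSup_le hsub')
    rintro _ ⟨φ, hφ, r, rfl⟩
    obtain ⟨α, hα, e, he, hee⟩ := hfac R _ (isMor_of_mem hφ) hRT
    refine le_sSup (s := s) ⟨α, hα, rfl⟩ ?_
    rw [← toFun_coe φ r, hee r r.2]
    exact mem_img_of_mem _ ((stronglyClosed_iff.mp (isNormal_stronglyClosed hR)).2 R e he r r.2 r.2)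
  have hUn : E.IsNormal U := by
    rw [hUs]
    refine sSup_mem_of_sup_closed (isNormal_bot E) (fun _ _ => isNormal_sup)
      ((finite_subgroups_le (S := T)).subset fun N hN => ?_) fun N hN => ?_
    · obtain ⟨α, -, rfl⟩ := hN
      exact img_le fun x hx => autFun_mem α (hRT hx)
    · obtain ⟨α, hα, rfl⟩ := hN
      exact isNormal_img_autFun hinv hα hR
  have hUT : U ≤ T := hUn.1
  have hUinv : ∀ α ∈ F.autGroup T, ∀ x ∈ U, autFun α x ∈ U := by
    intro α hα x hx
    have hm := isMor_autFun hTS hα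
    have h1 : img U (autFun α) ≤ U := by
      refine img_le fun y hy => ?_
      induction hy using Subgroup.closure_induction with
      | mem y hy =>
        obtain ⟨φ, hφ, r, rfl⟩ := hy
        have hmem : ∀ z ∈ R, toFun φ z ∈ T := fun z hz =>
          (stronglyClosed_iff.mp hTc).2 R _ (isMor_of_mem hφ) z hz (hRT hz)
        obtain ⟨ψ, hψ, hψe⟩ := (isMor_of_mem hφ).comp hm hmem
        refine Subgroup.subset_closure ⟨ψ, hψ, r, ?_⟩
        rw [hψe r, Function.comp_apply, toFun_coe]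
      | one => rw [hm.map_one]; exact U.one_mem
      | mul a b ha hb iha ihb =>
        rw [hm.map_mul (hUT ha) (hUT hb)]; exact U.mul_mem iha ihb
      | inv a ha iha => rw [hm.map_inv (hUT ha)]; exact U.inv_mem iha
    exact h1 (mem_img_of_mem _ hx)
  -- strongly closed subgroups of `E` invariant under `Aut_F(T)` are strongly closed in `F`
  have hclosed : ∀ Q, E.StronglyClosed Q →
      (∀ α ∈ F.autGroup T, ∀ x ∈ Q, autFun α x ∈ Q) → F.StronglyClosed Q := by
    intro Q hQ hQi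
    obtain ⟨hQT, hQc⟩ := stronglyClosed_iff.mp hQ
    refine stronglyClosed_iff.mpr ⟨hQT.trans hTS, fun P f hf x hxP hxQ => ?_⟩
    obtain ⟨α, hα, e, he, hee⟩ := hfac _ f (hf.restrict (inf_le_left : P ⊓ T ≤ P)) inf_le_right
    rw [hee x ⟨hxP, hQT hxQ⟩]
    exact hQi α hα _ (hQc _ e he x ⟨hxP, hQT hxQ⟩ hxQ)
  have : Finite U := finite_of_le hUT
  have := (isPGroup_of_le (hUT.trans hTS) hS).isNilpotent
  obtain ⟨n, hn⟩ := (Subgroup.isNilpotent_iff_lowerCentralSeries U).mp this
  refine isNormal_of_chain hS hF n (fun i => U.lowerCentralSeries (n - i)) (by simpa using hn)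
    (by simp) (fun i _ => ?_) fun i hi => ?_
  · have hle : U.lowerCentralSeries (n - i) ≤ U :=
      U.lowerCentralSeries_antitone (Nat.zero_le _)
    have hchar : ((U.lowerCentralSeries (n - i)).subgroupOf U).Characteristic := by
      rw [← Subgroup.top_subtype_lowerCentralSeries, Subgroup.subgroupOf,
        Subgroup.comap_map_eq_self_of_injective U.subtype_injective]
      infer_instance
    refine hclosed _ (isNormal_stronglyClosed (isNormal_of_characteristic hUn hle hchar))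
      fun α hα x hx => ?_
    have hm := (isMor_autFun hTS hα).restrict hUT
    obtain ⟨β, -, hβ⟩ := exists_aut hm (hm.img_eq_self (hUinv α hα))
    have h1 : β ⟨x, hle hx⟩ ∈ (U.lowerCentralSeries (n - i)).subgroupOf U :=
      (Subgroup.characteristic_iff_map_eq.mp hchar β).le ⟨⟨x, hle hx⟩, hx, rfl⟩
    rw [← hβ x (hle hx), autFun_of_mem β (hle hx)]
    exact h1
  · beta_reduce
    rw [show n - i = (n - (i + 1)) + 1 by omega, Subgroup.lowerCentralSeries_succ,
      Subgroup.commutator_comm]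

end CfsgLib.Fusion
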