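import Mathlib
import Cfsg.Agent.Lib.Fusion.BisetGroupHom
import Cfsg.Agent.Lib.Fusion.Hyperfocal
import Cfsg.Agent.Lib.Fusion.Invariant
import Cfsg.Agent.Lib.Fusion.AutFrattini

/-!
# Subsystems of `p`-power index
-/

set_option autoImplicit false
set_option linter.unusedSectionVars false

namespace CfsgLib.Fusion

open Cfsg Cfsg.FusionSystem

universe u

variable {Ω : Type u} [Group Ω] {p : ℕ} [hp : Fact p.Prime]

/-- Every map of `F` inside `T` is conjugation by an element of `S` after a map of `E`. -/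
def InnerFac {S T : Subgroup Ω} (E : FusionSystem T) (F : FusionSystem S) : Prop :=
  ∀ P f, IsMor F P f → P ≤ T → (∀ x ∈ P, f x ∈ T) →
    ∃ s ∈ S, ∃ e, IsMor E P e ∧ ∀ x ∈ P, f x = cj s (e x)

theorem mem_autGroup_of_pPower {S T : Subgroup Ω} {F : FusionSystem S} {E : FusionSystem T}
    (hE : E.HasPPowerIndexIn F p) {P : Subgroup Ω} (hP : P ≤ T) {α : MulAut P}
    (hα : α ∈ F.autGroup P) (hc : (orderOf α).Coprime p) : α ∈ E.autGroup P := by
  refine hE.2.2 P hP ⟨⟨α, hα⟩, Subgroup.subset_closure ?_, rfl⟩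
  show (orderOf (⟨α, hα⟩ : ↥(F.autGroup P))).Coprime p
  rwa [Subgroup.orderOf_mk]

theorem pPower_unique {S T : Subgroup Ω} [Finite S] (hS : IsPGroup p S) {F : FusionSystem S}
    (hTS : T ≤ S) {E E' : FusionSystem T} (hE : E.IsSaturated p) (hEi : E.HasPPowerIndexIn F p)
    (hE' : E'.IsSaturated p) (hEi' : E'.HasPPowerIndexIn F p) : E' = E := by
  have : Finite T := finite_of_le hTS
  have hTp : IsPGroup p T := isPGroup_of_le hTS hS
  exact fusion_le_antisymm
    (le_of_coprime_aut hTp hE' fun P hP a ha hc =>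
      mem_autGroup_of_pPower hEi hP (autGroup_mono hEi'.1 ha) hc)
    (le_of_coprime_aut hTp hE fun P hP a ha hc =>
      mem_autGroup_of_pPower hEi' hP (autGroup_mono hEi.1 ha) hc)

/-- The step of index `p`. -/
theorem exists_pPower_step {S : Subgroup Ω} [Finite S] (hS : IsPGroup p S) {F : FusionSystem S}
    (hF : F.IsSaturated p) {T : Subgroup Ω} (hTS : T ≤ S) (hT : F.hyperfocalSubgroup p ≤ T)
    (hTn : (T.subgroupOf S).Normal) (hidx : (T.subgroupOf S).index = p) :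
    ∃ E : FusionSystem T, E.IsSaturated p ∧ E.HasPPowerIndexIn F p ∧ InnerFac E F := by
  classical
  haveI := hTn
  have hcard : Nat.card (S ⧸ T.subgroupOf S) = p := hidx
  let eA : (S ⧸ T.subgroupOf S) ≃* Multiplicative (ZMod p) :=
    mulEquivOfPrimeCardEq hcard (by simp)
  let χ : S →* Multiplicative (ZMod p) := eA.toMonoidHom.comp (QuotientGroup.mk' _)
  have hχ : ∀ a : S, χ a = 1 ↔ (a : Ω) ∈ T := fun a => by
    show eA (QuotientGroup.mk' _ a) = 1 ↔ _
    rw [eA.map_eq_one_iff]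
    exact (QuotientGroup.eq_one_iff a).trans Subgroup.mem_subgroupOf
  have hχs : Function.Surjective χ := eA.surjective.comp (QuotientGroup.mk'_surjective _)
  have hA : ∀ a : Multiplicative (ZMod p), a ^ p = 1 := fun a => by
    have h : Nat.card (Multiplicative (ZMod p)) = p := by simp
    conv_lhs => arg 2; rw [← h]
    exact pow_card_eq_one'
  have hTnS : ∀ s ∈ S, ∀ t ∈ T, cj s t ∈ T := fun s hs t ht =>
    Subgroup.mem_subgroupOf.mp (hTn.conj_mem ⟨t, hTS ht⟩ (Subgroup.mem_subgroupOf.mpr ht) ⟨s, hs⟩)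
  have hfoc : F.focalSubgroup ≤ T := by
    rw [focal_eq hS hF]
    refine sup_le hT (Subgroup.commutator_le.mpr fun a ha b hb => ?_)
    refine (hχ ⟨_, S.mul_mem (S.mul_mem (S.mul_mem ha hb) (S.inv_mem ha)) (S.inv_mem hb)⟩).mp ?_
    show χ (⟨a, ha⟩ * ⟨b, hb⟩ * (⟨a, ha⟩ : S)⁻¹ * (⟨b, hb⟩ : S)⁻¹) = 1
    simp only [map_mul, map_inv]
    rw [mul_comm (χ ⟨a, ha⟩) (χ ⟨b, hb⟩), mul_inv_cancel_right, mul_inv_cancel]
  have hsc : F.StronglyClosed T := by
    refine stronglyClosed_iff.mpr ⟨hTS, fun P f hf x hx hxT => ?_⟩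
    have h1 := T.mul_mem hxT (hfoc (le_focal hf hx))
    rwa [mul_inv_cancel_left] at h1
  have hscl := (stronglyClosed_iff.mp hsc).2
  have hχstab : ∀ P f, IsMor F P f → ∀ a a' : S, (a : Ω) ∈ P → (a' : Ω) = f a → χ a' = χ a := by
    intro P f hf a a' ha ha'
    rw [eq_comm, ← inv_mul_eq_one, ← map_inv, ← map_mul, hχ]
    show (a : Ω)⁻¹ * (a' : Ω) ∈ T
    rw [ha']
    exact hfoc (le_focal hf ha)
  obtain ⟨B⟩ := exists_charBiset hS hF
  obtain ⟨D⟩ := exists_transferData B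
  let ι := leftHom B
  let τ := D.gtau χ
  have hτι : ∀ s : S, τ (ι s) = (χ s ^ B.k)⁻¹ := fun s => by
    refine D.transfer_of_congr χ fun P f hf n hn h => ?_
    exact hχstab P f hf (s ^ n) ⟨_, h⟩ (by rw [Subgroup.coe_zpow]; exact hn) (by rw [Subgroup.coe_zpow])
  have hkco : Nat.Coprime B.k p := ((Nat.Prime.coprime_iff_not_dvd hp.out).mpr B.not_dvd).symm
  have hτι1 : ∀ s : S, τ (ι s) = 1 ↔ (s : Ω) ∈ T := fun s => by
    rw [hτι, inv_eq_one, ← hχ]
    refine ⟨fun h => ?_, fun h => by rw [h, one_pow]⟩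
    exact orderOf_eq_one_iff.mp (Nat.eq_one_of_dvd_coprimes hkco
      (orderOf_dvd_of_pow_eq_one h) (orderOf_dvd_of_pow_eq_one (hA _)))
  -- adjusting by powers of one element
  have hadj : ∀ z : S, χ z ≠ 1 → ∀ a : Multiplicative (ZMod p), ∃ j : ℕ, τ (ι (z ^ j)) = a := by
    intro z hz a
    have hne : τ (ι z) ≠ 1 := fun h => hz ((hχ z).mpr ((hτι1 z).mp h))
    obtain ⟨j, hj⟩ := (mem_powers_iff_mem_zpowers).mpr
      (mem_zpowers_of_prime_card (p := p) (g := τ (ι z)) (g' := a) (by simp) hne)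
    exact ⟨j, by rw [map_pow, map_pow]; exact hj⟩
  have hτsurj : ∀ a : Multiplicative (ZMod p), ∃ s : S, τ (ι s) = a := by
    intro a
    obtain ⟨s₁, hs₁⟩ := hχs (Multiplicative.ofAdd (1 : ZMod p))
    have hne : χ s₁ ≠ 1 := by
      rw [hs₁]
      intro h
      exact one_ne_zero (Multiplicative.ofAdd.injective h : (1 : ZMod p) = 0)
    obtain ⟨j, hj⟩ := hadj s₁ hne a
    exact ⟨_, hj⟩
  let Real (P : Subgroup Ω) (f : Ω → Ω) (g : bisetGroup B) : Prop :=
    ∀ a a' : S, (a : Ω) ∈ P → (a' : Ω) = f a → g * ι a = ι a' * g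
  have hRmono : ∀ {P P' : Subgroup Ω} {f f' : Ω → Ω} {g}, Real P f g → P' ≤ P →
      (∀ x ∈ P', f x = f' x) → Real P' f' g := fun h hP e a a' ha ha' =>
    h a a' (hP ha) (ha'.trans (e _ ha).symm)
  have hRcj : ∀ (P : Subgroup Ω) (s : S), Real P (cj s) (ι s) := fun P s a a' _ ha' => by
    rw [show a' = s * a * s⁻¹ from Subtype.ext ha', ← map_mul, ← map_mul, inv_mul_cancel_right]
  have hRcomp : ∀ {P R : Subgroup Ω} {f f' : Ω → Ω} {g g'}, IsMor F P f → Real P f g →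
      Real R f' g' → (∀ x ∈ P, f x ∈ R) → Real P (f' ∘ f) (g' * g) := by
    intro P R f f' g g' hf hg hg' hfR a a' ha ha'
    let b : S := ⟨f a, hf.mem ha⟩
    rw [mul_assoc, hg a b ha rfl, ← mul_assoc, hg' b a' (hfR _ ha) ha', mul_assoc]
  let M : Subgroup Ω → (Ω → Ω) → Prop := fun P f =>
    P ≤ T ∧ (∀ x ∈ P, f x ∈ T) ∧ IsMor F P f ∧ ∃ g, τ g = 1 ∧ Real P f g
  let E : FusionSystem T := ofPred T M (fun P f h => ⟨h.1, h.2.1⟩)
    (fun P f h x hx y hy e => h.2.2.1.inj hx hy e)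
    (fun P f f' ⟨hP, hfT, hf, g, hg1, hg⟩ e => ⟨hP, fun x hx => e x hx ▸ hfT x hx, hf.congr e, g,
      hg1, hRmono hg le_rfl e⟩)
    (fun P t hP ht => ⟨hP, fun x hx => hTnS t (hTS ht) x (hP hx),
      isMor_cj F (hP.trans hTS) (hTS ht), ι ⟨t, hTS ht⟩, (hτι1 _).mpr ht, hRcj P ⟨t, hTS ht⟩⟩)
    (fun P R f f' ⟨hP, hfT, hf, g, hg1, hg⟩ ⟨hR, hfT', hf', g', hg1', hg'⟩ hfR =>
      ⟨hP, fun x hx => hfT' _ (hfR x hx), hf.comp hf' hfR, g' * g,
        by rw [map_mul, hg1, hg1', one_mul], hRcomp hf hg hg' hfR⟩)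
    (fun P f ⟨hP, hfT, hf, g, hg1, hg⟩ _ => by
      obtain ⟨fi, hfi, hfl, hfr, hfii⟩ := hf.inverse
      refine ⟨fi, ⟨img_le hfT, fun y hy => hP (hfii ▸ mem_img_of_mem fi hy), hfi, g⁻¹,
        by rw [map_inv, hg1, inv_one], fun a a' ha ha' => ?_⟩, hfl⟩
      have hm : (a' : Ω) ∈ P := ha' ▸ hfii ▸ mem_img_of_mem fi ha
      have h := hg a' a hm (by rw [ha', hfr _ ha])
      rw [eq_mul_inv_iff_mul_eq, mul_assoc, ← h, inv_mul_cancel_left])
  have hE : ∀ P f, IsMor E P f ↔ M P f := fun P f =>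
    isMor_ofPred fun h x hx y hy => h.2.2.1.map_mul hx hy
  have hsub : E.IsSubsystemOf F := le_iff_isMor.mpr fun P f h => ((hE P f).mp h).2.2.1
  have hpp : E.HasPPowerIndexIn F p := by
    refine ⟨hsub, hT, fun P hP => ?_⟩
    rw [pResidual, MonoidHom.map_closure, Subgroup.closure_le]
    rintro _ ⟨α, hα, rfl⟩
    have hc : (orderOf α).Coprime p := hα
    have hPS := hP.trans hTS
    have haF := isMor_autFun hPS α.2
    obtain ⟨g, hg⟩ := exists_realizer B haF
    have hpow : ∀ n : ℕ, Real P (autFun ((α : MulAut P) ^ n)) (g ^ n) := by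
      intro n
      induction n with
      | zero =>
        intro a a' ha ha'
        rw [pow_zero, one_mul, mul_one]
        rw [pow_zero, autFun_one ha] at ha'
        rw [Subtype.ext ha']
      | succ n ih =>
        rw [pow_succ g]
        refine hRmono (hRcomp haF hg ih fun x hx => autFun_mem _ hx) le_rfl fun x hx => ?_
        rw [pow_succ, autFun_mul _ _ hx]
        rfl
    obtain ⟨i, hi1, hi2⟩ := Nat.chineseRemainder hc 1 0
    have hαi : (α : MulAut P) ^ i = (α : MulAut P) := by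
      rw [← Subgroup.orderOf_coe] at hi1
      exact (pow_eq_pow_iff_modEq.mpr hi1).trans (pow_one _)
    obtain ⟨c, hc'⟩ := (Nat.modEq_zero_iff_dvd).mp hi2
    refine (autGroup_eq_set hP _).mpr ((hE _ _).mpr ⟨hP, fun x hx => hP (autFun_mem _ hx), haF,
      g ^ i, by rw [map_pow, hc', pow_mul, hA, one_pow], by
        have := hpow i
        rw [hαi] at this
        exact this⟩)
  have hfac : InnerFac E F := by
    intro P f hf hP hfT
    obtain ⟨g, hg⟩ := exists_realizer B hf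
    obtain ⟨s, hs⟩ := hτsurj (τ g)
    refine ⟨s, s.2, cj (s : Ω)⁻¹ ∘ f, (hE _ _).mpr ⟨hP,
      fun x hx => hTnS _ (S.inv_mem s.2) _ (hfT x hx),
      (hf.comp (isMor_cj F le_rfl (S.inv_mem s.2)) fun x hx => hf.mem hx), ι s⁻¹ * g,
      by rw [map_mul, map_inv, map_inv, hs, inv_mul_cancel],
      hRcomp hf hg (hRcj S s⁻¹) fun x hx => hf.mem hx⟩, fun x hx => (cj_cj_inv _ _).symm⟩
  refine ⟨E, ?_, hpp, hfac⟩
  intro P hP
  obtain ⟨Q₀, hQ₀, hQ₀n⟩ := exists_fullyNormalized F (hP.trans hTS)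
  obtain ⟨f, hf, rfl⟩ := isConj_iff.mp hQ₀
  obtain ⟨s, hs, e, he, hfe⟩ := hfac P f hf hP fun x hx => hscl P f hf x hx (hP hx)
  have heF := ((hE _ _).mp he).2.2.1
  set Q := img P e with hQdef
  have hQn : F.IsFullyNormalized Q := by
    obtain ⟨a, ha, hae⟩ := exists_autInducedBy (K := S) (P := S) (S.inv_mem hs)
      (Subgroup.le_normalizer (S.inv_mem hs))
    have h1 := isFullyNormalized_aut hQ₀n (autInducedBy_le F le_rfl ha)
    rw [hf.img_comp] at h1
    have h2 : img P (autFun a ∘ f) = img P e := img_congr fun x hx => by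
      rw [Function.comp_apply, hae _ (hf.mem hx), hfe x hx, cj_inv_cj]
    rwa [h2] at h1
  have hQT : Q ≤ T := img_le fun x hx => he.mem hx
  have hQS := hQT.trans hTS
  obtain ⟨hfa, hrec⟩ := isFullyAutomized_of_normalized hS hF hQn
  have := finite_mulAut hQS
  refine ⟨Q, isConj_img he, ?_⟩
  by_cases hz : ∃ z : S, (z : Ω) ∈ centralizerIn S Q ∧ χ z ≠ 1
  · obtain ⟨z, hzC, hz⟩ := hz
    have hall : ∀ R f, R ≤ T → IsMor F R f → (∀ x ∈ R, f x ∈ Q) → ∀ g, Real R f g →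
        ∃ j : ℕ, τ (ι (z ^ j) * g) = 1 ∧ Real R (cj ((z : Ω) ^ j) ∘ f) (ι (z ^ j) * g) ∧
          ∀ x ∈ R, cj ((z : Ω) ^ j) (f x) = f x := by
      intro R f hR hf hfQ g hg
      obtain ⟨j, hj⟩ := hadj z hz (τ g)⁻¹
      refine ⟨j, by rw [map_mul, hj, inv_mul_cancel], ?_, fun x hx => ?_⟩
      · have h1 := hRcomp hf hg (hRcj S (z ^ j)) fun x hx => hf.mem hx
        rwa [Subgroup.coe_pow] at h1
      · exact (mem_centralizerIn.mp ((centralizerIn S Q).pow_mem hzC j)).2 _ (hfQ x hx)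
    have heq : E.autGroup Q = F.autGroup Q := by
      refine le_antisymm (autGroup_mono hsub) fun α hα => ?_
      have haF := isMor_autFun hQS hα
      obtain ⟨g, hg⟩ := exists_realizer B haF
      obtain ⟨j, hj1, hj2, hj3⟩ := hall Q _ hQT haF (fun x hx => autFun_mem α hx) g hg
      exact (autGroup_eq_set hQT α).mpr ((hE _ _).mpr ⟨hQT, fun x hx => hQT (autFun_mem α hx),
        haF, _, hj1, hRmono hj2 le_rfl hj3⟩)
    have haut : autInducedBy S Q = autInducedBy T Q := by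
      refine le_antisymm (fun a ha => ?_) fun a ha => ?_
      · obtain ⟨x, hx, hxn, hxe⟩ := mem_autInducedBy.mp ha
        obtain ⟨j, hj⟩ := hadj z hz (τ (ι ⟨x, hx⟩))⁻¹
        have hzj := mem_centralizerIn.mp ((centralizerIn S Q).pow_mem hzC j)
        refine mem_autInducedBy.mpr ⟨x * (z : Ω) ^ j, ?_, Subgroup.mul_mem _ hxn
          (mem_normalizerIn.mp (centralizerIn_le_normalizerIn ((centralizerIn S Q).pow_mem hzC j))).2,
          fun y hy => ?_⟩
        · have h1 := (hτι1 (⟨x, hx⟩ * z ^ j)).mp (by rw [map_mul, map_mul, hj, mul_inv_cancel])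
          simpa using h1
        · rw [hxe y hy, cj_mul, hzj.2 y hy]
      · obtain ⟨x, hx, hxn, hxe⟩ := mem_autInducedBy.mp ha
        exact mem_autInducedBy.mpr ⟨x, hTS hx, hxn, hxe⟩
    refine ⟨isFullyAutomized_iff.mpr ⟨hQT, ?_⟩, isReceptive_iff.mpr ⟨hQT, fun R f hf hfi => ?_⟩⟩
    · rw [← haut, heq]
      exact (isFullyAutomized_iff.mp hfa).2
    · obtain ⟨hR, hfT, hfF, -⟩ := (hE _ _).mp hf
      obtain ⟨k, hk, hke⟩ := (isReceptive_iff.mp hrec).2 R f hfF hfi
      have hle : nExt T R f ≤ nExt S R f := fun x ⟨hx, hxn, h, hh, hhe⟩ =>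
        ⟨hTS hx, hxn, h, hTS hh, hhe⟩
      have hNT : nExt T R f ≤ T := fun x hx => hx.1
      have hkN := hk.restrict hle
      obtain ⟨g, hg⟩ := exists_realizer B hkN
      obtain ⟨j, hj⟩ := hadj z hz (τ g)⁻¹
      have hzjS : ((z ^ j : S) : Ω) ∈ S := (z ^ j).2
      refine ⟨cj ((z ^ j : S) : Ω) ∘ k, (hE _ _).mpr ⟨hNT, fun x hx =>
          hTnS _ hzjS _ (hscl _ k hkN x hx (hNT hx)),
          hkN.comp (isMor_cj F le_rfl hzjS) fun x hx => hkN.mem hx, ι (z ^ j) * g,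
          by rw [map_mul, hj, inv_mul_cancel],
          hRcomp hkN hg (hRcj S (z ^ j)) fun x hx => hkN.mem hx⟩, fun x hx => ?_⟩
      rw [Function.comp_apply, hke x hx, Subgroup.coe_pow]
      exact (mem_centralizerIn.mp ((centralizerIn S Q).pow_mem hzC j)).2 _
        (hfi ▸ mem_img_of_mem f hx)
  · push Not at hz
    have huniq : ∀ R f g g', R ≤ T → F.IsConj R Q → IsMor F R f → Real R f g → Real R f g' →
        τ g = τ g' := by
      intro R f g g' hR hRQ hf hg hg'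
      by_contra hne
      have hc : ∀ a : S, (a : Ω) ∈ R → g'⁻¹ * g * ι a = ι a * (g'⁻¹ * g) := fun a ha => by
        let a' : S := ⟨f a, hf.mem ha⟩
        rw [mul_assoc, hg a a' ha rfl, ← mul_assoc, ← mul_assoc]
        congr 1
        rw [inv_mul_eq_iff_eq_mul, ← mul_assoc, hg' a a' ha rfl, mul_inv_cancel_right]
      have hne' : τ (g'⁻¹ * g) ≠ 1 := by
        rw [map_mul, map_inv, Ne, inv_mul_eq_one]
        exact fun h => hne h.symm
      obtain ⟨f₀, hf₀, w, hw, hw1⟩ :=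
        D.exists_escape χ hS hA hsc (fun a ha => (hχ a).mpr ha) hR hc hne'
      obtain ⟨h, hh, hhi, -⟩ := exists_map_fullyNormalized hS hF hQn
        (isConj_trans (isConj_symm (isConj_img hf₀)) hRQ)
      have hwN := centralizerIn_le_normalizerIn hw
      have h1 : h w ∈ centralizerIn S Q := by
        have := mapsTo_centralizerIn hh (le_normalizerIn hf₀.img_le) centralizerIn_le_normalizerIn _ hw
        rwa [hhi] at this
      have h2 := hz ⟨h w, hh.mem hwN⟩ h1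
      rw [hχstab _ h hh w ⟨h w, hh.mem hwN⟩ hwN rfl] at h2
      exact hw1 h2
    refine ⟨isFullyAutomized_iff.mpr ⟨hQT, ?_⟩, isReceptive_iff.mpr ⟨hQT, fun R f hf hfi => ?_⟩⟩
    · have hn : ∀ b ∈ F.autGroup Q, ∀ a ∈ E.autGroup Q, b * a * b⁻¹ ∈ E.autGroup Q := by
        intro b hb a ha
        obtain ⟨-, -, haF, g, hg1, hg⟩ := (hE _ _).mp (isMor_autFun hQT ha)
        obtain ⟨gb, hgb⟩ := exists_realizer B (isMor_autFun hQS hb)
        have hgbi : Real Q (autFun b⁻¹) gb⁻¹ := by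
          intro x x' hx hx'
          have hm : (x' : Ω) ∈ Q := hx' ▸ autFun_mem _ hx
          have h := hgb x' x hm (by rw [hx', autFun_inv_right b hx])
          rw [eq_mul_inv_iff_mul_eq, mul_assoc, ← h, inv_mul_cancel_left]
        have hbiF := isMor_autFun hQS ((F.autGroup Q).inv_mem hb)
        have h1 := hRcomp hbiF hgbi hg fun x hx => autFun_mem _ hx
        have h1F := hbiF.comp haF fun x hx => autFun_mem _ hx
        have h2 := hRcomp h1F h1 hgb fun x hx => autFun_mem _ (autFun_mem _ hx)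
        refine (autGroup_eq_set hQT _).mpr ((hE _ _).mpr ⟨hQT, fun x hx => hQT (autFun_mem _ hx),
          isMor_autFun hQS ((F.autGroup Q).mul_mem ((F.autGroup Q).mul_mem hb
            (autGroup_mono hsub ha)) ((F.autGroup Q).inv_mem hb)), _, ?_,
          hRmono h2 le_rfl fun x hx => ?_⟩)
        · rw [map_mul, map_mul, hg1, one_mul, map_inv, mul_inv_cancel]
        · rw [Function.comp_apply, Function.comp_apply, autFun_mul _ _ hx,
            autFun_mul _ _ (autFun_mem _ hx)]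
      have hinf : autInducedBy S Q ⊓ E.autGroup Q = autInducedBy T Q := by
        refine le_antisymm (fun a ha => ?_) (le_inf (fun a ha => ?_) (autInducedBy_le E hQT))
        · obtain ⟨ha1, ha2⟩ := Subgroup.mem_inf.mp ha
          obtain ⟨x, hx, hxn, hxe⟩ := mem_autInducedBy.mp ha1
          obtain ⟨-, -, haF, g, hg1, hg⟩ := (hE _ _).mp (isMor_autFun hQT ha2)
          have h := huniq Q (autFun a) g (ι ⟨x, hx⟩) hQT (isConj_refl F hQS) haF hg
            (hRmono (hRcj Q ⟨x, hx⟩) le_rfl fun y hy => (hxe y hy).symm)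
          exact mem_autInducedBy.mpr ⟨x, (hτι1 ⟨x, hx⟩).mp (h.symm.trans hg1), hxn, hxe⟩
        · obtain ⟨x, hx, hxn, hxe⟩ := mem_autInducedBy.mp ha
          exact mem_autInducedBy.mpr ⟨x, hTS hx, hxn, hxe⟩
      rw [← hinf]
      exact isSylIn_inf (isFullyAutomized_iff.mp hfa).2 (autGroup_mono hsub) hn
    · obtain ⟨hR, hfT, hfF, g₀, hg₀1, hg₀⟩ := (hE _ _).mp hf
      obtain ⟨k, hk, hke⟩ := (isReceptive_iff.mp hrec).2 R f hfF hfi
      have hle : nExt T R f ≤ nExt S R f := fun x ⟨hx, hxn, h, hh, hhe⟩ =>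
        ⟨hTS hx, hxn, h, hTS hh, hhe⟩
      have hNT : nExt T R f ≤ T := fun x hx => hx.1
      have hkN := hk.restrict hle
      obtain ⟨g, hg⟩ := exists_realizer B hkN
      have h1 := huniq R f g g₀ hR (hfi ▸ isConj_img hfF) hfF
        (hRmono hg (le_nExt hf) hke) hg₀
      exact ⟨k, (hE _ _).mpr ⟨hNT, fun x hx => hscl _ k hkN x hx (hNT hx), hkN, g,
        h1.trans hg₀1, hg⟩, hke⟩

/-- Subsystems of `p`-power index exist. -/
theorem exists_pPowerIndex : ∀ {S : Subgroup Ω} [Finite S], IsPGroup p S →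
    ∀ {F : FusionSystem S}, F.IsSaturated p → ∀ {T : Subgroup Ω}, T ≤ S →
      F.hyperfocalSubgroup p ≤ T → ∃ E : FusionSystem T, E.IsSaturated p ∧
        E.HasPPowerIndexIn F p ∧ ((∀ s ∈ S, ∀ t ∈ T, cj s t ∈ T) → InnerFac E F) := by
  suffices h : ∀ n, ∀ {S : Subgroup Ω} [Finite S], Nat.card S = n → IsPGroup p S →
      ∀ {F : FusionSystem S}, F.IsSaturated p → ∀ {T : Subgroup Ω}, T ≤ S →
        F.hyperfocalSubgroup p ≤ T → ∃ E : FusionSystem T, E.IsSaturated p ∧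
          E.HasPPowerIndexIn F p ∧ ((∀ s ∈ S, ∀ t ∈ T, cj s t ∈ T) → InnerFac E F) from
    fun {S} _ hS {F} hF {T} hTS hT => h _ rfl hS hF hTS hT
  intro n
  induction n using Nat.strong_induction_on with
  | _ n ih =>
  intro S _ hn hS F hF T hTS hT
  subst hn
  rcases eq_or_lt_of_le hTS with rfl | hlt
  · refine ⟨F, hF, ⟨fun P => le_rfl, hT, fun P _ => Subgroup.map_subtype_le _⟩, fun _ P f hf hP _ =>
      ⟨1, one_mem _, f, hf, fun x _ => (cj_one _).symm⟩⟩
  obtain ⟨M, hM⟩ := Set.Finite.exists_maximal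
    (s := {M : Subgroup Ω | T ≤ M ∧ M < S})
    ((finite_subgroups_le (S := S)).subset fun M h => h.2.le) ⟨T, le_rfl, hlt⟩
  obtain ⟨hTM, hMlt⟩ := hM.1
  have hMS := hMlt.le
  have hMnorm : ∀ s ∈ S, s ∈ Subgroup.normalizer (M : Set Ω) := by
    have h1 := lt_inf_normalizer hS hMlt
    rcases eq_or_lt_of_le (inf_le_left : S ⊓ Subgroup.normalizer (M : Set Ω) ≤ S) with e | hlt'
    · exact fun s hs => (Subgroup.mem_inf.mp (e.ge hs)).2
    · exact absurd (hM.2 ⟨hTM.trans h1.le, hlt'⟩ h1.le) h1.not_ge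
  have hMn : (M.subgroupOf S).Normal := ⟨fun m hm s => Subgroup.mem_subgroupOf.mpr
    ((Subgroup.mem_normalizer_iff.mp (hMnorm s s.2) (m : Ω)).mp (Subgroup.mem_subgroupOf.mp hm))⟩
  have hidx : (M.subgroupOf S).index = p := by
    haveI := hMn
    have hne : M.subgroupOf S ≠ ⊤ := fun e =>
      hMlt.not_ge (Subgroup.subgroupOf_eq_top.mp e)
    have hQ : IsPGroup p (S ⧸ M.subgroupOf S) := hS.to_quotient _
    have : Nontrivial (S ⧸ M.subgroupOf S) := QuotientGroup.nontrivial_iff.mpr hne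
    obtain ⟨k, hk0, hk⟩ := hQ.nontrivial_iff_card.mp this
    obtain ⟨x, hx⟩ := exists_prime_orderOf_dvd_card' (G := S ⧸ M.subgroupOf S) p
      (hk ▸ dvd_pow_self p hk0.ne')
    let K := (Subgroup.zpowers x).comap (QuotientGroup.mk' (M.subgroupOf S))
    have hMK : M.subgroupOf S ≤ K := fun y hy => by
      show QuotientGroup.mk' (M.subgroupOf S) y ∈ Subgroup.zpowers x
      rw [show QuotientGroup.mk' (M.subgroupOf S) y = 1 from (QuotientGroup.eq_one_iff y).mpr hy]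
      exact one_mem _
    have hMle : M ≤ K.map S.subtype := fun y hy =>
      ⟨⟨y, hMS hy⟩, hMK (Subgroup.mem_subgroupOf.mpr hy), rfl⟩
    have hKS : K.map S.subtype = S := by
      by_contra hne'
      have hlt' : K.map S.subtype < S := lt_of_le_of_ne (Subgroup.map_subtype_le K) hne'
      obtain ⟨y, rfl⟩ := QuotientGroup.mk'_surjective _ x
      have hy : (y : Ω) ∈ M := hM.2 ⟨hTM.trans hMle, hlt'⟩ hMle
        ⟨y, Subgroup.mem_zpowers _, rfl⟩
      rw [show QuotientGroup.mk' (M.subgroupOf S) y = 1 from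
        (QuotientGroup.eq_one_iff y).mpr (Subgroup.mem_subgroupOf.mpr hy), orderOf_one] at hx
      exact hp.out.ne_one hx.symm
    have htop : Subgroup.zpowers x = ⊤ := eq_top_iff.mpr fun z _ => by
      obtain ⟨y, rfl⟩ := QuotientGroup.mk'_surjective _ z
      obtain ⟨y', hy', e⟩ := hKS.ge y.2
      exact (Subtype.ext e : y' = y) ▸ hy'
    rw [Subgroup.index_eq_card, ← Subgroup.card_top, ← htop, Nat.card_zpowers, hx]
  obtain ⟨E₁, hE₁, hE₁i, hfac₁⟩ := exists_pPower_step hS hF hMS (hT.trans hTM) hMn hidx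
  have : Finite M := finite_of_le hMS
  have hhyp : E₁.hyperfocalSubgroup p ≤ T :=
    (hyp_le fun P hP α hα hc x hx =>
      hyp_gen (hP.trans hMS) (autGroup_mono hE₁i.1 hα) hc hx).trans hT
  obtain ⟨E₂, hE₂, hE₂i, hfac₂⟩ := ih _ (card_lt_of_lt le_rfl hMlt) (S := M) rfl
    (isPGroup_of_le hMS hS) hE₁ hTM hhyp
  refine ⟨E₂, hE₂, ⟨fun P => (hE₂i.1 P).trans (hE₁i.1 P), hT, fun P hP => ?_⟩,
    fun hn P f hf hP hfT => ?_⟩
  · rw [pResidual, MonoidHom.map_closure, Subgroup.closure_le]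
    rintro _ ⟨α, hα, rfl⟩
    have hc : (orderOf (α : MulAut P)).Coprime p := by rw [Subgroup.orderOf_coe]; exact hα
    exact mem_autGroup_of_pPower hE₂i hP
      (mem_autGroup_of_pPower hE₁i (hP.trans hTM) α.2 hc) hc
  · obtain ⟨s, hs, e, he, hfe⟩ := hfac₁ P f hf (hP.trans hTM) fun x hx => hTM (hfT x hx)
    have heT : ∀ x ∈ P, e x ∈ T := fun x hx => by
      have := hn s⁻¹ (S.inv_mem hs) _ (hfT x hx)
      rwa [hfe x hx, cj_inv_cj] at this
    obtain ⟨s', hs', e', he', hee⟩ := hfac₂ (fun m hm => hn m (hMS hm)) P e he hP heT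
    exact ⟨s * s', S.mul_mem hs (hMS hs'), e', he', fun x hx => by rw [hfe x hx, hee x hx, cj_mul]⟩

end CfsgLib.Fusion
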