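import Mathlib
import Cfsg.Agent.Lib.Fusion.NormalCentralizerClosed
import Cfsg.Agent.Lib.Fusion.PPowerIndex

/-!
# The centralizer system of a normal subsystem
-/

set_option autoImplicit false
set_option linter.unusedSectionVars false
set_option maxHeartbeats 1000000

namespace CfsgLib.Fusion

open Cfsg Cfsg.FusionSystem

variable {Ω : Type*} [Group Ω] {S T : Subgroup Ω} {F : FusionSystem S} {E : FusionSystem T}
  {p : ℕ} [hp : Fact p.Prime] [Finite S]

/-- Maps between subgroups centralizing a strongly closed `T` extend stabilizing `T`. -/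
theorem exists_ext_stabilizing (hS : IsPGroup p S) (hF : F.IsSaturated p)
    (hT : F.StronglyClosed T) {P : Subgroup Ω} {f : Ω → Ω} (hP : P ≤ centralizerIn S T)
    (hf : IsMor F P f) (hfC : ∀ x ∈ P, f x ∈ centralizerIn S T) :
    ∃ g, IsMor F (P ⊔ T) g ∧ (∀ x ∈ P, g x = f x) ∧ img T g = T := by
  obtain ⟨hTS, hsc⟩ := stronglyClosed_iff.mp hT
  have : Finite T := finite_of_le hTS
  obtain ⟨P', hPP', hP'n⟩ := exists_fullyNormalized F hf.le
  have hTc : ∀ {R : Subgroup Ω}, R ≤ centralizerIn S T → T ≤ centralizerIn S R := fun {R} hR t ht =>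
    mem_centralizerIn.mpr ⟨hTS ht, fun y hy => by
      have h1 : cj y t = t := (mem_centralizerIn.mp (hR hy)).2 t ht
      rw [cj_apply, cj_fixed_iff] at h1
      rw [cj_apply, cj_fixed_iff, h1]⟩
  have hmap : ∀ {X : Subgroup Ω} {g : Ω → Ω}, IsMor F X g → T ≤ X → img T g = T :=
    fun hg hle => (hg.restrict hle).img_eq_self fun x hx => hsc _ _ hg x (hle hx) hx
  set Q := img P f with hQdef
  have hQC : Q ≤ centralizerIn S T := img_le hfC
  obtain ⟨h, hh, hhi, hhN⟩ := exists_map_fullyNormalized hS hF hP'n hPP'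
  obtain ⟨k, hk, hki, -⟩ := exists_map_fullyNormalized hS hF hP'n
    (isConj_trans (isConj_symm (isConj_img hf)) hPP')
  have hPN : P ≤ normalizerIn S P := le_normalizerIn hf.le
  have hQN : Q ≤ normalizerIn S Q := le_normalizerIn hf.img_le
  have hTP : T ≤ normalizerIn S P := (hTc hP).trans centralizerIn_le_normalizerIn
  have hTQ : T ≤ normalizerIn S Q := (hTc hQC).trans centralizerIn_le_normalizerIn
  obtain ⟨hi, hhi', hhl, -, hhii⟩ := (hh.restrict hPN).inverse
  rw [hhi] at hhi' hhii
  have hm1 : ∀ x ∈ P', hi x ∈ P := fun x hx => hhii ▸ mem_img_of_mem hi hx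
  have hθ : IsMor F P' (k ∘ f ∘ hi) := (hhi'.comp hf hm1).comp (hk.restrict hQN)
    fun x hx => mem_img_of_mem f (hm1 x hx)
  have hθi : img P' (k ∘ f ∘ hi) = P' := hθ.img_eq_self fun x hx =>
    hki ▸ mem_img_of_mem k (mem_img_of_mem f (hm1 x hx))
  obtain ⟨G, hG, hGθ, -⟩ := exists_map_centralizer
    (isFullyAutomized_of_normalized hS hF hP'n).2 hθ hθi
  have hP'T : T ≤ centralizerIn S P' := by
    intro t ht
    obtain ⟨s, hs, rfl⟩ := (hh.restrict hTP).mem_img.mp ((hmap hh hTP).ge ht)
    refine mem_centralizerIn.mpr ⟨hh.mem (hTP hs), fun y hy => ?_⟩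
    obtain ⟨x, hx, rfl⟩ := (hh.restrict hPN).mem_img.mp (hhi.ge hy)
    rw [cj_apply, ← hh.map_conj (hTP hs) (hPN hx),
      show s * x * s⁻¹ = x from (mem_centralizerIn.mp (hTc hP hs)).2 x hx]
  obtain ⟨kI, hkI, hkl, -, -⟩ := (hk.restrict (sup_le hQN hTQ : Q ⊔ T ≤ _)).inverse
  have hhX := hh.restrict (sup_le hPN hTP : P ⊔ T ≤ _)
  have hhm : ∀ x ∈ P ⊔ T, h x ∈ centralizerIn S P' ⊔ P' := by
    intro x hx
    have h1 := mem_img_of_mem h hx
    rw [hhX.img_sup, hhi, hmap hh hTP] at h1
    exact (sup_le le_sup_right (hP'T.trans le_sup_left) :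
      P' ⊔ T ≤ centralizerIn S P' ⊔ P') h1
  have hc := hhX.comp hG hhm
  have hGhP : ∀ x ∈ P, G (h x) = k (f x) := fun x hx => by
    rw [hGθ _ (hhi ▸ mem_img_of_mem h hx)]
    show k (f (hi (h x))) = k (f x)
    rw [hhl x hx]
  have himg : img (P ⊔ T) (G ∘ h) ≤ img (Q ⊔ T) k := by
    rw [hc.img_sup, (hk.restrict (sup_le hQN hTQ)).img_sup]
    refine sup_le_sup ?_ ?_
    · refine img_le fun x hx => ?_
      show G (h x) ∈ _
      rw [hGhP x hx]
      exact mem_img_of_mem k (mem_img_of_mem f hx)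
    · rw [hmap hc le_sup_right, hmap hk hTQ]
  refine ⟨kI ∘ (G ∘ h), hc.comp hkI fun x hx => himg (mem_img_of_mem _ hx), fun x hx => ?_, ?_⟩
  · show kI (G (h x)) = f x
    rw [hGhP x hx, hkl _ (Subgroup.mem_sup_left (mem_img_of_mem f hx))]
  · exact hmap (hc.comp hkI fun x hx => himg (mem_img_of_mem _ hx)) le_sup_right

/-- A normal subsystem over `C_S(E)` centralizing `T`. -/
theorem exists_centralizer_normal (hS : IsPGroup p S) (hF : F.IsSaturated p)
    (hE : E.IsNormalIn F p) :
    ∃ D : FusionSystem (cElts F E p), D.IsNormalIn F p ∧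
      ∀ P : Subgroup Ω, D.Hom P ⊆ F.centralizerHom T P := by
  have hinv := strongInv_of_isNormalIn hS hF hE
  have hT := hE.1.2.2.2.1
  obtain ⟨hTS, hsc⟩ := stronglyClosed_iff.mp hT
  have : Finite T := finite_of_le hTS
  set Y := cElts F E p with hYdef
  set C := centralizerIn S T with hCdef
  have hYC : Y ≤ C := cElts_le
  have hCS : C ≤ S := centralizerIn_le
  have hYS : Y ≤ S := hYC.trans hCS
  have : Finite C := finite_of_le hCS
  have : Finite Y := finite_of_le hYS
  have hCp : IsPGroup p C := isPGroup_of_le hCS hS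
  have hYsc := stronglyClosed_cElts hS hF hE
  obtain ⟨-, hYcl⟩ := stronglyClosed_iff.mp hYsc
  have hTn : F.IsFullyNormalized T := by
    refine ⟨hTS, fun R hR => ?_⟩
    obtain ⟨f, hf, hfi⟩ := isConj_iff.mp hR
    have e1 : img T f = T := hf.img_eq_self fun x hx => hsc T f hf x hx hx
    rw [← hfi, e1]
  obtain ⟨CF, hCF⟩ := Cfsg.Agent.S5097.result F T hTS
  have hCFs := centralizerSystem_isSaturated hS hF (isFullyCentralized_of_normalized hS hF hTn) hCF
  have hiff := fun (Q : Subgroup Ω) (g : Ω → Ω) =>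
    isMor_centralizerSystem hCF (P := Q) (f := g)
  have hhyp : CF.hyperfocalSubgroup p ≤ Y := hyp_le fun P hP α hα _ x hx => by
    obtain ⟨-, -, -, g, hg, hge, hgT⟩ := (hiff _ _).mp (isMor_autFun hP hα)
    have h := diff_mem_cElts (E := E) (p := p) hS hF hP hg hgT x hx
    rwa [hge x hx] at h
  have hYn : ∀ c ∈ C, ∀ y ∈ Y, cj c y ∈ Y := fun c hc y hy =>
    cj_mem_cElts hS hF hE hy (hCS hc)
  obtain ⟨D, hDs, hDi, hfac⟩ := exists_pPowerIndex hCp hCFs hYC hhyp
  have hfac := hfac hYn
  have hDF : D.IsSubsystemOf F := le_iff_isMor.mpr fun P f hf =>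
    ((hiff _ _).mp (le_iff_isMor.mp hDi.1 P f hf)).1
  have hext := fun (P : Subgroup Ω) (f : Ω → Ω) (hP : P ≤ C) (hf : IsMor F P f)
    (hfC : ∀ x ∈ P, f x ∈ C) => exists_ext_stabilizing hS hF hT hP hf hfC
  have hYp : IsPGroup p Y := isPGroup_of_le hYS hS
  -- symmetries
  have hsym : ∀ θ ∈ F.autGroup Y, ∀ P f, IsMor D P f →
      ∃ k, IsMor D (img P (autFun θ)) k ∧ ∀ x ∈ P, k (autFun θ x) = autFun θ (f x) := by
    intro θ hθ
    have hθm := isMor_autFun hYS hθ
    have hθi := isMor_autFun hYS ((F.autGroup Y).inv_mem hθ)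
    let Mp : Subgroup Ω → (Ω → Ω) → Prop := fun P f => IsMor D P f ∧
      ∃ k, IsMor D (img P (autFun θ)) k ∧ ∀ x ∈ P, k (autFun θ x) = autFun θ (f x)
    let Dt : FusionSystem Y := ofPred Y Mp
      (fun P f h => ⟨h.1.le, fun x hx => h.1.mem hx⟩)
      (fun P f h x hx y hy e => h.1.inj hx hy e)
      (fun P f g ⟨hf, k, hk, hke⟩ e =>
        ⟨hf.congr e, k, hk, fun x hx => (hke x hx).trans (by rw [e x hx])⟩)
      (fun P a hP ha => ⟨isMor_cj D hP ha, cj (autFun θ a),
        isMor_cj D (img_le fun x hx => autFun_mem θ (hP hx)) (autFun_mem θ ha), fun x hx => by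
          rw [cj_apply, cj_apply]
          exact (hθm.map_conj ha (hP hx)).symm⟩)
      (fun P R f g ⟨hf, k, hk, hke⟩ ⟨hg, l, hl, hle⟩ hfR => ⟨hf.comp hg hfR, l ∘ k,
        hk.comp hl fun z hz => by
          obtain ⟨x, hx, rfl⟩ := (hθm.restrict hf.le).mem_img.mp hz
          rw [hke x hx]
          exact mem_img_of_mem _ (hfR x hx),
        fun x hx => by rw [Function.comp_apply, hke x hx, hle _ (hfR x hx)]; rfl⟩)
      (fun P f ⟨hf, k, hk, hke⟩ _ => by
        obtain ⟨fi, hfi, hfl, -, -⟩ := hf.inverse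
        obtain ⟨ki, hki, hkl, -, -⟩ := hk.inverse
        have e : img (img P f) (autFun θ) = img (img P (autFun θ)) k := by
          rw [(le_iff_isMor.mp hDF _ _ hf).img_comp, (hθm.restrict hf.le).img_comp]
          exact img_congr fun x hx => (hke x hx).symm
        refine ⟨fi, ⟨hfi, ki, e ▸ hki, fun z hz => ?_⟩, hfl⟩
        obtain ⟨x, hx, rfl⟩ := hf.mem_img.mp hz
        rw [hfl x hx, ← hke x hx, hkl _ (mem_img_of_mem _ hx)])
    have hDtiff : ∀ P f, IsMor Dt P f ↔ Mp P f := fun P f =>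
      isMor_ofPred fun h x hx y hy => h.1.map_mul hx hy
    have hle : D ≤ Dt := by
      refine le_of_coprime_aut hYp hDs fun P hP α hα hc => ?_
      refine (autGroup_eq_set hP _).mpr ((hDtiff _ _).mpr ⟨isMor_autFun hP hα, ?_⟩)
      have hαD := isMor_autFun hP hα
      obtain ⟨-, -, -, g, hg, hge, hgT⟩ := (hiff _ _).mp (le_iff_isMor.mp hDi.1 _ _ hαD)
      obtain ⟨G, hG, hGθ, hGT⟩ := hext Y (autFun θ) hYC hθm fun x hx => hYC (autFun_mem θ hx)
      set P' := img P (autFun θ) with hP'
      have hP'Y : P' ≤ Y := img_le fun x hx => autFun_mem θ (hP hx)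
      obtain ⟨e, he, heF, -⟩ := exists_transport (hθm.restrict hP) rfl
      have hG' := hG.restrict (sup_le_sup_right hP T)
      obtain ⟨Gi, hGi, hGl, -, hGii⟩ := hG'.inverse
      have hP'T : P' ⊔ T ≤ img (P ⊔ T) G := by
        rw [hG'.img_sup, hGT, img_congr (P := P) fun x hx => hGθ x (hP hx)]
      have hgm : ∀ x ∈ P ⊔ T, g x ∈ P ⊔ T := by
        intro x hx
        have h1 := mem_img_of_mem g hx
        rw [hg.img_sup, img_congr hge, img_congr (P := T) (g := id) hgT, img_id, img_autFun] at h1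
        exact h1
      have hψ := (((hGi.restrict hP'T).comp hg fun x hx =>
        hGii ▸ mem_img_of_mem Gi (hP'T hx)).comp hG' fun x hx =>
          hgm _ (hGii ▸ mem_img_of_mem Gi (hP'T hx)))
      have hθP : ∀ x ∈ P, autFun θ x ∈ P' := fun x hx => mem_img_of_mem _ hx
      have hψe : ∀ x ∈ P, (G ∘ (g ∘ Gi)) (autFun θ x) = autFun θ (autFun α x) := fun x hx => by
        show G (g (Gi (autFun θ x))) = _
        rw [← hGθ x (hP hx), hGl x (Subgroup.mem_sup_left hx), hge x hx,
          hGθ _ (hP (autFun_mem α hx))]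
      have heq : ∀ y ∈ P', (G ∘ (g ∘ Gi)) y = autFun (e α) y := fun y hy => by
        obtain ⟨x, hx, rfl⟩ := (hθm.restrict hP).mem_img.mp hy
        rw [hψe x hx, he α x hx]
      have hαCF : e α ∈ CF.autGroup P' := by
        refine (autGroup_eq_set (hP'Y.trans hYC) _).mpr ((hiff _ _).mpr
          ⟨(hψ.restrict le_sup_left).congr heq, hP'Y.trans hYC,
            fun y hy => hYC (hP'Y (autFun_mem _ hy)), G ∘ (g ∘ Gi), hψ, heq, fun t ht => ?_⟩)
        obtain ⟨s, hs, rfl⟩ := (hG.restrict le_sup_right).mem_img.mp (hGT.ge ht)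
        show G (g (Gi (G s))) = G s
        rw [hGl s (Subgroup.mem_sup_right hs), hgT s hs]
      have hαD' := mem_autGroup_of_pPower hDi hP'Y hαCF
        (by rw [MulEquiv.orderOf_eq]; exact hc)
      exact ⟨autFun (e α), isMor_autFun hP'Y hαD', fun x hx => he α x hx⟩
    intro P f hf
    exact ((hDtiff _ _).mp (le_iff_isMor.mp hle _ _ hf)).2
  -- the Frattini factorization
  have hfr : ∀ P f, P ≤ Y → IsMor F P f →
      ∃ θ ∈ F.autGroup Y, ∃ d, IsMor D P d ∧ ∀ x ∈ P, f x = autFun θ (d x) := by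
    intro P f hP hf
    have hfY : ∀ x ∈ P, f x ∈ Y := fun x hx => hYcl P f hf x hx (hP hx)
    obtain ⟨g, hg, hge, hgT⟩ := hext P f (hP.trans hYC) hf fun x hx => hYC (hfY x hx)
    obtain ⟨a, ha, hae⟩ := exists_aut (hg.restrict le_sup_right) hgT
    obtain ⟨A, hA, hAa, -⟩ := exists_map_centralizer (isFullyAutomized_of_normalized hS hF hTn).2
      (isMor_autFun hTS ha) (img_autFun a)
    have hAC : img (C ⊔ T) A = C ⊔ T := hA.img_eq_self fun x hx => by
      have h1 := mem_img_of_mem A hx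
      rw [hA.img_sup, img_congr hAa, img_autFun] at h1
      refine sup_le_sup_right ?_ T h1
      refine img_le fun c hc => mem_centralizerIn.mpr ⟨hA.mem (Subgroup.mem_sup_left hc),
        fun t ht => ?_⟩
      obtain ⟨s, hs, rfl⟩ := (hA.restrict le_sup_right).mem_img.mp
        (((img_congr hAa).trans (img_autFun a)).ge ht)
      rw [cj_apply, ← hA.map_conj (Subgroup.mem_sup_left hc) (Subgroup.mem_sup_right hs),
        show c * s * c⁻¹ = s from (mem_centralizerIn.mp hc).2 s hs]
    obtain ⟨Ai, hAi, hAl, hAr, hAii⟩ := hA.inverse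
    rw [hAC] at hAi hAr hAii
    have hm : ∀ x ∈ P ⊔ T, g x ∈ C ⊔ T := by
      intro x hx
      have h1 := mem_img_of_mem g hx
      rw [hg.img_sup, hgT, img_congr hge] at h1
      exact sup_le_sup_right (img_le fun z hz => hYC (hfY z hz)) T h1
    have hc := hg.comp hAi hm
    have hcT : ∀ t ∈ T, (Ai ∘ g) t = t := fun t ht => by
      show Ai (g t) = t
      rw [← hae t ht, ← hAa t ht, hAl t (Subgroup.mem_sup_right ht)]
    have hcY : ∀ x ∈ P, (Ai ∘ g) x ∈ Y := fun x hx =>
      hYcl _ _ hc x (Subgroup.mem_sup_left hx) (hP hx)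
    have hcD : IsMor CF P (Ai ∘ g) := (hiff _ _).mpr ⟨hc.restrict le_sup_left, hP.trans hYC,
      fun x hx => hYC (hcY x hx), Ai ∘ g, hc, fun _ _ => rfl, hcT⟩
    obtain ⟨s, hs, d, hd, hde⟩ := hfac P _ hcD hP hcY
    have hAs : IsMor F Y (A ∘ cj s) := (isMor_cj F hYS (hCS hs)).comp
      (hA.restrict le_sup_left) fun y hy => hYC (hYn s hs y hy)
    obtain ⟨θ, hθ, hθe⟩ := exists_aut hAs (hAs.img_eq_self fun y hy => hYcl Y _ hAs y hy hy)
    refine ⟨θ, hθ, d, hd, fun x hx => ?_⟩
    rw [hθe _ (hd.mem hx), Function.comp_apply, ← hde x hx, Function.comp_apply,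
      hAr _ (hm x (Subgroup.mem_sup_left hx)), hge x hx]
  have hDinv : StrongInv D F := by
    intro P Q f g hPQ hQY hf hfQ hg
    obtain ⟨θ, hθ, d, hd, hde⟩ := hfr Q g hQY hg
    obtain ⟨di, hdi, hdl, -, -⟩ := (hd.restrict hPQ).inverse
    have hk' : IsMor D (img P d) (d ∘ f ∘ di) :=
      (hdi.comp hf fun x hx => by
        obtain ⟨y, hy, rfl⟩ := (hd.restrict hPQ).mem_img.mp hx
        rw [hdl y hy]; exact hy).comp hd fun x hx => by
        obtain ⟨y, hy, rfl⟩ := (hd.restrict hPQ).mem_img.mp hx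
        rw [Function.comp_apply, hdl y hy]; exact hfQ y hy
    obtain ⟨k, hk, hke⟩ := hsym θ hθ _ _ hk'
    have hi : img (img P d) (autFun θ) = img P g := by
      rw [(hd.restrict hPQ).img_comp]
      exact img_congr fun x hx => (hde x (hPQ hx)).symm
    refine ⟨k, hi ▸ hk, fun x hx => ?_⟩
    rw [hde x (hPQ hx), hke _ (mem_img_of_mem d hx), hde _ (hfQ x hx)]
    show autFun θ (d (f (di (d x)))) = _
    rw [hdl x hx]
  refine ⟨D, ⟨⟨hDs, hF, (Cfsg.Agent.S5119.result p hS F hF D hDF hYsc).mpr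
    (strongInv_iff.mp hDinv)⟩, ?_⟩, fun P φ hφ => ?_⟩
  swap
  · obtain ⟨h1, h2, h3, g, hg, hge, hgT⟩ :=
      (hiff _ _).mp (le_iff_isMor.mp hDi.1 _ _ (isMor_of_mem hφ))
    exact mem_centralizerHom.mpr ⟨h1, h2, h3, g, hg, hge, hgT⟩
  -- the extension condition
  set C' := centralizerIn S Y with hC'def
  set M := Y ⊔ C' with hMdef
  have hMS : M ≤ S := sup_le hYS centralizerIn_le
  have hTC' : T ≤ C' := fun t ht => mem_centralizerIn.mpr ⟨hTS ht, fun y hy => by
    have h1 : cj y t = t := (mem_centralizerIn.mp (hYC hy)).2 t ht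
    rw [cj_apply, cj_fixed_iff] at h1
    rw [cj_apply, cj_fixed_iff, h1]⟩
  set Z := Y ⊓ Subgroup.centralizer (Y : Set Ω) with hZdef
  have hZmem : ∀ z, z ∈ Z ↔ z ∈ Y ∧ z ∈ C' := fun z => ⟨fun h => ⟨h.1, ⟨hYS h.1, h.2⟩⟩,
    fun h => ⟨h.1, h.2.2⟩⟩
  have := finite_mulAut hMS
  let K : Subgroup (MulAut Y) :=
    { carrier := {α | ∃ β ∈ F.autGroup M, (∀ y ∈ Y, autFun β y = autFun α y) ∧
        ∀ c ∈ C', c⁻¹ * autFun β c ∈ Z}
      one_mem' := ⟨1, one_mem _, fun y hy => by
          rw [autFun_one hy, autFun_one (Subgroup.mem_sup_left hy)], fun c hc => by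
          rw [autFun_one (Subgroup.mem_sup_right hc), inv_mul_cancel]; exact one_mem _⟩
      mul_mem' := by
        rintro a a' ⟨b, hb, hbY, hbC⟩ ⟨b', hb', hbY', hbC'⟩
        refine ⟨b * b', Subgroup.mul_mem _ hb hb', fun y hy => ?_, fun c hc => ?_⟩
        · rw [autFun_mul _ _ (Subgroup.mem_sup_left hy), hbY' y hy,
            hbY _ (autFun_mem a' hy), autFun_mul _ _ hy]
        · have hcM : c ∈ M := Subgroup.mem_sup_right hc
          obtain ⟨hdY, hdC⟩ := (hZmem _).mp (hbC' c hc)
          have hdM : c⁻¹ * autFun b' c ∈ M := Subgroup.mem_sup_left hdY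
          have e : autFun b' c = c * (c⁻¹ * autFun b' c) := (mul_inv_cancel_left _ _).symm
          rw [autFun_mul _ _ hcM, e, autFun_map_mul b hcM hdM, ← mul_assoc]
          refine Z.mul_mem (hbC c hc) ?_
          have h1 := Z.mul_mem (hbC' c hc) (hbC _ hdC)
          rwa [mul_inv_cancel_left] at h1
      inv_mem' := by
        rintro a ⟨b, hb, hbY, hbC⟩
        have h1 : ∀ y ∈ Y, autFun b⁻¹ y = autFun a⁻¹ y := fun y hy => by
          conv_lhs => rw [← autFun_inv_right a hy, ← hbY _ (autFun_mem a⁻¹ hy)]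
          exact autFun_inv_left b (Subgroup.mem_sup_left (autFun_mem a⁻¹ hy))
        refine ⟨b⁻¹, Subgroup.inv_mem _ hb, h1, fun c hc => ?_⟩
        have hcM : c ∈ M := Subgroup.mem_sup_right hc
        have hZi : ∀ z ∈ Z, autFun b⁻¹ z ∈ Z := fun z hz => by
          obtain ⟨hzY, hzC⟩ := (hZmem z).mp hz
          refine ⟨h1 z hzY ▸ autFun_mem _ hzY, fun y hy => ?_⟩
          have hy' := autFun_mem a hy
          have h2 := congrArg (autFun b⁻¹) (hz.2 _ hy')
          rw [autFun_map_mul b⁻¹ (Subgroup.mem_sup_left hy') (Subgroup.mem_sup_left hzY),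
            autFun_map_mul b⁻¹ (Subgroup.mem_sup_left hzY) (Subgroup.mem_sup_left hy'),
            h1 _ hy', autFun_inv_left a hy] at h2
          exact h2
        have hd := hZi _ (hbC c hc)
        rw [autFun_map_mul b⁻¹ (M.inv_mem hcM) (autFun_mem b hcM),
          autFun_inv_map b⁻¹ hcM, autFun_inv_left b hcM] at hd
        have := Z.inv_mem hd
        rwa [mul_inv_rev, inv_inv] at this }
  have hKD : D.autGroup Y ≤ K := by
    obtain ⟨P₀, hP₀⟩ := (exists_sylow_iff (autInducedBy_le D le_rfl)).mpr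
      (isFullyAutomized_iff.mp
        (isFullyAutomized_of_normalized hYp hDs (isFullyNormalized_self D)).1).2
    have := finite_mulAut (le_refl Y)
    have htop := CfsgLib.Transfer.sup_pResidual_eq_top P₀
    have hle : (P₀ : Subgroup (D.autGroup Y)) ⊔ pResidual p (D.autGroup Y) ≤
        K.subgroupOf (D.autGroup Y) := by
      refine sup_le (fun r hr => ?_) ((Subgroup.closure_le _).mpr fun r hr => ?_)
      · rw [hP₀] at hr
        obtain ⟨y, hy, hyn, hye⟩ := mem_autInducedBy.mp hr
        have hyM : y ∈ M := Subgroup.mem_sup_left hy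
        obtain ⟨b, hb, hbe⟩ := exists_autInducedBy (K := S) (P := M) (hYS hy)
          (Subgroup.le_normalizer hyM)
        refine ⟨b, autInducedBy_le F hMS hb, fun z hz => by
          rw [hbe z (Subgroup.mem_sup_left hz), ← hye z hz], fun c hc => ?_⟩
        have h1 : cj c y = y := (mem_centralizerIn.mp hc).2 y hy
        rw [cj_apply, cj_fixed_iff] at h1
        rw [hbe c (Subgroup.mem_sup_right hc),
          show cj y c = c by rw [cj_apply, cj_fixed_iff, h1], inv_mul_cancel]
        exact one_mem _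
      obtain ⟨α, hα⟩ := r
      have hαc : (orderOf α).Coprime p := by
        have : orderOf α = orderOf (⟨α, hα⟩ : D.autGroup Y) := (Subgroup.orderOf_mk α hα).symm
        rw [this]; exact hr
      obtain ⟨-, -, -, g, hg, hge, hgT⟩ :=
        (hiff _ _).mp (le_iff_isMor.mp hDi.1 _ _ (isMor_autFun le_rfl hα))
      set X := Y ⊔ T with hXdef
      have hgi : img X g = X := by
        rw [hXdef, hg.img_sup, img_congr hge, img_congr (P := T) (g := id) hgT, img_id, img_autFun]
      have hXn : F.IsFullyNormalized X := by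
        refine ⟨sup_le hYS hTS, fun R hR => ?_⟩
        obtain ⟨f, hf, hfi⟩ := isConj_iff.mp hR
        have e1 : img (Y ⊔ T) f = Y ⊔ T := by
          rw [hf.img_sup,
            (hf.restrict le_sup_left).img_eq_self fun x hx =>
              hYcl _ f hf x (Subgroup.mem_sup_left hx) hx,
            (hf.restrict le_sup_right).img_eq_self fun x hx =>
              hsc _ f hf x (Subgroup.mem_sup_right hx) hx]
        rw [← hfi, hXdef, e1]
      obtain ⟨G, hG, hGe⟩ :=
        (isReceptive_iff.mp (isFullyAutomized_of_normalized hS hF hXn).2).2 X g hg hgi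
      have hC'n : C' ≤ nExt S X g := by
        intro s hs
        obtain ⟨hsS, hsY⟩ := mem_centralizerIn.mp hs
        have hXm : ∀ x ∈ X, cj s x ∈ X := by
          have : X ≤ X.comap (MulAut.conj s).toMonoidHom := sup_le
            (fun y hy => Subgroup.mem_sup_left (show cj s y ∈ Y from (hsY y hy).symm ▸ hy))
            (fun t ht => Subgroup.mem_sup_right
              ((Subgroup.mem_normalizer_iff.mp (stronglyClosed_le_normalizer hT hsS) t).mp ht))
          exact fun x hx => this hx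
        have : Finite X := finite_of_le hXn.1
        refine ⟨hsS, Subgroup.mem_normalizer_fintype fun u hu => hXm u hu, s, hsS, fun x hx => ?_⟩
        have hcs := isMor_cj F (P := X) hXn.1 hsS
        refine eqOn_sup (hcs.comp hg hXm) (hg.comp hcs fun z hz => hgi ▸ mem_img_of_mem g hz)
          (fun y hy => ?_) (fun t ht => ?_) x hx
        · show g (cj s y) = cj s (g y)
          rw [hsY y hy, hge y hy, hsY _ (autFun_mem α hy)]
        · show g (cj s t) = cj s (g t)
          rw [hgT t ht]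
          exact hgT _ ((Subgroup.mem_normalizer_iff.mp
            (stronglyClosed_le_normalizer hT hsS) t).mp ht)
      have hG' := hG.restrict (sup_le (le_sup_left.trans (le_nExt hg)) hC'n : M ≤ nExt S X g)
      have hGY : ∀ y ∈ Y, G y = autFun α y := fun y hy => by
        rw [hGe y (Subgroup.mem_sup_left hy), hge y hy]
      have hGC' : ∀ c ∈ C', G c ∈ C' := fun c hc => mem_centralizerIn.mpr
        ⟨hG'.mem (Subgroup.mem_sup_right hc), fun y hy => by
          have hy' := autFun_mem α⁻¹ hy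
          conv_lhs => rw [← autFun_inv_right α hy, ← hGY _ hy']
          rw [cj_apply, ← hG'.map_conj (Subgroup.mem_sup_right hc) (Subgroup.mem_sup_left hy'),
            show c * autFun α⁻¹ y * c⁻¹ = autFun α⁻¹ y from (mem_centralizerIn.mp hc).2 _ hy',
            hGY _ hy', autFun_inv_right α hy]⟩
      have hGM : img M G = M := hG'.img_eq_self fun z hz => by
        have h1 := mem_img_of_mem G hz
        rw [hG'.img_sup, img_congr hGY, img_autFun] at h1
        exact sup_le_sup_left (img_le hGC') Y h1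
      obtain ⟨b, hb, hbe⟩ := exists_aut hG' hGM
      obtain ⟨a, r', hr', hor⟩ :=
        Nat.exists_eq_pow_mul_and_not_dvd (orderOf_pos b).ne' p hp.out.ne_one
      obtain ⟨m, hm1, hm2⟩ := Nat.chineseRemainder (hαc.pow_right a) 1 0
      have hbY : ∀ y ∈ Y, autFun (b ^ m) y = autFun α y := fun y hy => by
        rw [autFun_pow_congr (le_sup_left : Y ≤ M) (a := α)
          (fun z hz => by rw [hbe z (Subgroup.mem_sup_left hz), hGY z hz]) m y hy,
          (pow_eq_pow_iff_modEq.mpr hm1).trans (pow_one α)]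
      set β := b ^ m with hβdef
      have hβ : β ∈ F.autGroup M := (F.autGroup M).pow_mem hb m
      have hβc : (orderOf β).Coprime p := by
        refine Nat.Coprime.coprime_dvd_left (orderOf_dvd_of_pow_eq_one ?_)
          ((Nat.Prime.coprime_iff_not_dvd hp.out).mpr hr').symm
        rw [hβdef, ← pow_mul, ← orderOf_dvd_iff_pow_eq_one, hor]
        exact Nat.mul_dvd_mul_right (Nat.modEq_zero_iff_dvd.mp hm2) r'
      have hβT : ∀ t ∈ T, autFun β t = t := by
        intro t ht
        have htM : t ∈ M := Subgroup.mem_sup_right (hTC' ht)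
        have h1 : autFun b t = t := by
          rw [hbe t htM, hGe t (Subgroup.mem_sup_right ht), hgT t ht]
        have h2 : ∀ i : ℕ, autFun (b ^ i) t = t := by
          intro i
          induction i with
          | zero => rw [pow_zero, autFun_one htM]
          | succ i ihi => rw [pow_succ', autFun_mul _ _ htM, ihi, h1]
        exact h2 m
      have hbm := isMor_autFun hMS hβ
      have hβC' : ∀ c ∈ C', autFun β c ∈ C' := fun c hc => mem_centralizerIn.mpr
        ⟨hMS (autFun_mem β (Subgroup.mem_sup_right hc)), fun y hy => by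
          have hy' := autFun_mem α⁻¹ hy
          conv_lhs => rw [← autFun_inv_right α hy, ← hbY _ hy']
          rw [cj_apply, ← hbm.map_conj (Subgroup.mem_sup_right hc) (Subgroup.mem_sup_left hy'),
            show c * autFun α⁻¹ y * c⁻¹ = autFun α⁻¹ y from (mem_centralizerIn.mp hc).2 _ hy',
            hbY _ hy', autFun_inv_right α hy]⟩
      set R := Y ⊔ centralizerIn C Y with hRdef
      have hRC : R ≤ C := sup_le hYC centralizerIn_le
      have hRM : R ≤ M := sup_le_sup_left (inf_le_inf_right _ hCS) Y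
      have hβR : ∀ x ∈ R, autFun β x ∈ R := by
        intro x hx
        have h1 := mem_img_of_mem (autFun β) hx
        rw [hRdef, (hbm.restrict hRM).img_sup] at h1
        refine sup_le_sup (img_le fun y hy => (hbY y hy).symm ▸ autFun_mem α hy)
          (img_le fun c hc => ?_) h1
        obtain ⟨hcC, hcY⟩ := mem_centralizerIn.mp hc
        have hcC' : c ∈ C' := mem_centralizerIn.mpr ⟨hCS hcC, hcY⟩
        refine mem_centralizerIn.mpr ⟨mem_centralizerIn.mpr
          ⟨hMS (autFun_mem β (Subgroup.mem_sup_right hcC')), fun t ht => ?_⟩,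
          (mem_centralizerIn.mp (hβC' c hcC')).2⟩
        conv_lhs => rw [← hβT t ht]
        rw [cj_apply, ← hbm.map_conj (Subgroup.mem_sup_right hcC') (Subgroup.mem_sup_right (hTC' ht)),
          show c * t * c⁻¹ = t from (mem_centralizerIn.mp hcC).2 t ht, hβT t ht]
      obtain ⟨ρ, hρ, hρe⟩ := exists_aut (hbm.restrict hRM) ((hbm.restrict hRM).img_eq_self hβR)
      have hρc : (orderOf ρ).Coprime p := by
        refine Nat.Coprime.coprime_dvd_left (orderOf_dvd_of_pow_eq_one ?_) hβc
        refine autFun_inj fun z hz => ?_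
        rw [← autFun_pow_congr hRM (fun w hw => (hρe w hw).symm) _ z hz, pow_orderOf_eq_one,
          autFun_one hz, autFun_one (hRM hz)]
      have hρCF : ρ ∈ CF.autGroup R := (autGroup_eq_set hRC _).mpr ((hiff _ _).mpr
        ⟨isMor_autFun (hRC.trans hCS) hρ, hRC, fun x hx => hRC (autFun_mem ρ hx), autFun β,
          hbm.restrict (sup_le hRM (hTC'.trans le_sup_right)), fun x hx => (hρe x hx).symm, hβT⟩)
      refine ⟨β, hβ, hbY, fun c hc => ?_⟩
      have hcM : c ∈ M := Subgroup.mem_sup_right hc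
      set d := c⁻¹ * autFun β c with hd
      have hdC' : d ∈ C' := C'.mul_mem (C'.inv_mem hc) (hβC' c hc)
      have hdM : d ∈ M := Subgroup.mem_sup_right hdC'
      have hdC : d ∈ C := by
        refine mem_centralizerIn.mpr ⟨hMS hdM, fun t ht => ?_⟩
        have ht' : cj c t ∈ T := (Subgroup.mem_normalizer_iff.mp
          (stronglyClosed_le_normalizer hT (centralizerIn_le hc)) t).mp ht
        have h1 : cj (autFun β c) t = cj c t := by
          conv_lhs => rw [← hβT t ht]
          rw [cj_apply, ← hbm.map_conj hcM (Subgroup.mem_sup_right (hTC' ht)),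
            show c * t * c⁻¹ = cj c t from rfl, hβT _ ht']
        rw [hd, cj_mul, h1, cj_inv_cj]
      have hdR : d ∈ R := Subgroup.mem_sup_right
        (mem_centralizerIn.mpr ⟨hdC, (mem_centralizerIn.mp hdC').2⟩)
      have hpowd : ∀ n : ℕ, d⁻¹ * autFun (β ^ n) d ∈ Z := by
        intro n
        have hn : ∀ x ∈ R, autFun (β ^ n) x = autFun (ρ ^ n) x :=
          autFun_pow_congr hRM (fun w hw => (hρe w hw).symm) n
        rw [hn d hdR]
        refine (hZmem _).mpr ⟨hhyp (hyp_gen hRC ((CF.autGroup R).pow_mem hρCF n)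
          (Nat.Coprime.coprime_dvd_left (orderOf_pow_dvd n) hρc) hdR), ?_⟩
        have hmC : ∀ i : ℕ, autFun (β ^ i) d ∈ C' := by
          intro i
          induction i with
          | zero => rw [pow_zero, autFun_one hdM]; exact hdC'
          | succ i ihi => rw [pow_succ', autFun_mul _ _ hdM]; exact hβC' _ ihi
        exact C'.mul_mem (C'.inv_mem hdC') (hn d hdR ▸ hmC n)
      have hzd : ∀ z ∈ Z, z * d = d * z := fun z hz => by
        have := (mem_centralizerIn.mp hdC').2 z hz.1
        rw [cj_apply, cj_fixed_iff] at this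
        exact this.symm
      have hpow : ∀ n : ℕ, ∃ z ∈ Z, autFun (β ^ n) c = c * d ^ n * z := by
        intro n
        induction n with
        | zero => exact ⟨1, one_mem _, by simp [autFun_one hcM]⟩
        | succ n ih =>
          obtain ⟨z, hz, e⟩ := ih
          refine ⟨z * (d⁻¹ * autFun (β ^ n) d), Z.mul_mem hz (hpowd n), ?_⟩
          rw [pow_succ β, autFun_mul _ _ hcM,
            show autFun β c = c * d by rw [hd, mul_inv_cancel_left],
            autFun_map_mul _ hcM hdM, e, pow_succ]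
          simp only [mul_assoc]
          rw [← mul_assoc d z, ← hzd z hz, mul_assoc z, mul_inv_cancel_left]
      obtain ⟨z, hz, e⟩ := hpow (orderOf β)
      rw [pow_orderOf_eq_one, autFun_one hcM, mul_assoc] at e
      have h1 : d ^ orderOf β ∈ Z := by
        have h2 : d ^ orderOf β = z⁻¹ := eq_inv_of_mul_eq_one_left (left_eq_mul.mp e)
        exact h2 ▸ Z.inv_mem hz
      obtain ⟨k, hk⟩ := hS ⟨d, hMS hdM⟩
      have hk' : d ^ p ^ k = 1 := congrArg Subtype.val hk
      have h3 := Z.zpow_mem h1 (Nat.gcdA (orderOf β) (p ^ k))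
      have h4 : d = (d ^ orderOf β) ^ Nat.gcdA (orderOf β) (p ^ k) := by
        have hbz := Nat.gcd_eq_gcd_ab (orderOf β) (p ^ k)
        rw [(hβc.pow_right k).gcd_eq_one] at hbz
        calc d = d ^ ((1 : ℕ) : ℤ) := by simp
          _ = _ := by
            rw [hbz, zpow_add, zpow_mul, zpow_mul, zpow_natCast, zpow_natCast, hk', one_zpow,
              mul_one]
      exact h4 ▸ h3
    intro α hα
    exact hle (htop ▸ Subgroup.mem_top (⟨α, hα⟩ : D.autGroup Y))
  intro α hα
  obtain ⟨β, hβ, hβY, hβC⟩ := hKD hα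
  refine ⟨β, hβ, fun x => ?_, fun c hc => ?_⟩
  · rw [← autFun_coe, ← autFun_coe]
    exact hβY x x.2
  · rw [← autFun_coe]
    exact hβC c hc

end CfsgLib.Fusion
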