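import Mathlib
import Cfsg.Agent.Lib.Fusion.PPrimeResidual
import Cfsg.Agent.Lib.Fusion.CentralExtension

/-!
# The `p'`-residual of a weakly normal subsystem is normal
-/

set_option autoImplicit false
set_option linter.unusedSectionVars false

namespace CfsgLib.Fusion

open Cfsg Cfsg.FusionSystem

variable {Ω : Type*} [Group Ω] {S T : Subgroup Ω} {F : FusionSystem S} {E : FusionSystem T}
  {p : ℕ} [hp : Fact p.Prime] [Finite S]

/-- `f` extends to `P C_S(T)` moving the centralizer inside its cosets of `T`. -/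
def GoodExt (F : FusionSystem S) (T P : Subgroup Ω) (f : Ω → Ω) : Prop :=
  ∃ g, IsMor F (P ⊔ centralizerIn S T) g ∧ (∀ x ∈ P, g x = f x) ∧
    ∀ c ∈ centralizerIn S T, c⁻¹ * g c ∈ T

theorem GoodExt.restrict {P R : Subgroup Ω} {f f' : Ω → Ω} (h : GoodExt F T R f) (hPR : P ≤ R)
    (e : ∀ x ∈ P, f x = f' x) : GoodExt F T P f' := by
  obtain ⟨g, hg, hgf, hgc⟩ := h
  exact ⟨g, hg.restrict (sup_le_sup_right hPR _), fun x hx => (hgf x (hPR hx)).trans (e x hx), hgc⟩

theorem GoodExt.comp (hT : F.StronglyClosed T) {P : Subgroup Ω} {f h f' : Ω → Ω} (hPT : P ≤ T)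
    (hcen : centralizerIn T (img P f) ≤ img P f) (hf : GoodExt F T P f)
    (hh : GoodExt F T (img P f) h) (e : ∀ x ∈ P, f' x = h (f x)) : GoodExt F T P f' := by
  obtain ⟨g, hg, hgf, hgc⟩ := hf
  obtain ⟨k, hk, hkh, hkc⟩ := hh
  have hsc := (stronglyClosed_iff.mp hT).2
  set C := centralizerIn S T
  have hmaps : img (P ⊔ C) g ≤ img P f ⊔ C := by
    rw [hg.img_sup, img_congr hgf]
    refine sup_le le_sup_left (img_le fun c hc => ?_)
    have hu : c⁻¹ * g c ∈ img P f := by
      refine hcen (mem_centralizerIn.mpr ⟨hgc c hc, fun y hy => ?_⟩)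
      rw [← img_congr hgf] at hy
      obtain ⟨x, hx, rfl⟩ := (hg.restrict le_sup_left).mem_img.mp hy
      have h2 : cj c x = x := (mem_centralizerIn.mp hc).2 x (hPT hx)
      have h1 := hg.map_conj (Subgroup.mem_sup_right hc) (Subgroup.mem_sup_left hx)
      rw [show c * x * c⁻¹ = x from h2] at h1
      have hgx : g x ∈ T := hsc _ g hg x (Subgroup.mem_sup_left hx) (hPT hx)
      rw [cj_mul, cj_apply (g c), ← h1, (mem_centralizerIn.mp (C.inv_mem hc)).2 _ hgx]
    have := Subgroup.mul_mem _ (Subgroup.mem_sup_right (S := img P f) hc) (Subgroup.mem_sup_left (T := C) hu)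
    rwa [mul_inv_cancel_left] at this
  refine ⟨k ∘ g, hg.comp hk fun x hx => hmaps (mem_img_of_mem g hx), fun x hx => ?_, fun c hc => ?_⟩
  · show k (g x) = f' x
    rw [hgf x hx, hkh _ (mem_img_of_mem f hx), e x hx]
  · show c⁻¹ * k (g c) ∈ T
    have hgcm : c⁻¹ * g c ∈ img P f ⊔ C := Subgroup.mul_mem _
      (Subgroup.mem_sup_right (C.inv_mem hc)) (hmaps (mem_img_of_mem g (Subgroup.mem_sup_right hc)))
    have h1 : k (g c) = k c * k (c⁻¹ * g c) := by
      rw [← hk.map_mul (Subgroup.mem_sup_right hc) hgcm, mul_inv_cancel_left]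
    rw [h1, ← mul_assoc]
    exact T.mul_mem (hkc c hc) (hsc _ k hk _ hgcm (hgc c hc))

theorem goodExt_id (hT : F.StronglyClosed T) {P : Subgroup Ω} (hPT : P ≤ T) :
    GoodExt F T P id :=
  ⟨id, isMor_id F (sup_le (hPT.trans hT.1) centralizerIn_le), fun _ _ => rfl,
    fun c _ => by rw [id, inv_mul_cancel]; exact T.one_mem⟩

/-- Symmetries of `E` from automorphisms of `T` in `F`. -/
theorem sym_of_invariant (hTS : T ≤ S) (hinv : StrongInv E F) {θ : MulAut T}
    (hθ : θ ∈ F.autGroup T) : Sym E θ := by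
  intro P f hf
  have : Finite T := finite_of_le hTS
  obtain ⟨k, hk, hke⟩ := hinv P T f (autFun θ) hf.le le_rfl hf (fun x hx => hf.mem hx)
    (isMor_autFun hTS hθ)
  refine hk.congr fun y hy => ?_
  obtain ⟨x, hx, rfl⟩ := (mem_img_autFun hf.le).mp hy
  rw [hke x hx, Function.comp_apply, Function.comp_apply, autFun_inv_left θ (hf.le hx)]

/-- A `p`-element of an `E`-automizer of an `E`-centric subgroup is good. -/
theorem goodExt_pElement (hS : IsPGroup p S) (hF : F.IsSaturated p) (hEs : E.IsSaturated p)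
    (hsub : E.IsSubsystemOf F) (hT : F.StronglyClosed T) (hinv : StrongInv E F)
    {R : Subgroup Ω} (hR : E.IsCentric R) {α : MulAut R} (hα : α ∈ E.autGroup R) {k : ℕ}
    (hk : α ^ p ^ k = 1) : GoodExt F T R (autFun α) := by
  have hTS := hT.1
  have hsc := (stronglyClosed_iff.mp hT).2
  have hTp : IsPGroup p T := isPGroup_of_le hTS hS
  have : Finite T := finite_of_le hTS
  have hSN := stronglyClosed_le_normalizer hT
  have hRT := hR.1
  obtain ⟨R', hR', hR'n⟩ := exists_fullyNormalized F (hRT.trans hTS)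
  obtain ⟨h, hh, hhi, -⟩ := exists_map_fullyNormalized hS hF hR'n hR'
  have hRN : R ≤ normalizerIn S R := le_normalizerIn (hRT.trans hTS)
  have hR'c : E.IsCentric R' :=
    hhi ▸ centric_img_of_invariant hS hF hsub hT hinv hR (hh.restrict hRN)
  have hR'T := hR'c.1
  -- `R'` is fully normalized in `E`
  have hR'En : E.IsFullyNormalized R' := by
    refine ⟨hR'T, fun Q hQ => ?_⟩
    obtain ⟨f, hf, rfl⟩ := isConj_iff.mp hQ
    obtain ⟨g, hg, hgi, hgN⟩ := exists_map_fullyNormalized hS hF hR'n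
      (isConj_symm (isConj_img (le_iff_isMor.mp hsub _ _ hf)))
    have hle : normalizerIn T (img R' f) ≤ normalizerIn S (img R' f) := inf_le_inf_right _ hTS
    refine card_le_of_img_le (hg.restrict hle) (normalizerIn_le.trans hTS) (img_le fun x hx => ?_)
    exact mem_normalizerIn.mpr ⟨hsc _ g hg x (hle hx) (normalizerIn_le hx),
      (mem_normalizerIn.mp (hgN (mem_img_of_mem g (hle hx)))).2⟩
  -- transport
  obtain ⟨k', hk', hke⟩ := hinv R R (autFun α) h le_rfl hRT (isMor_autFun hRT hα)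
    (fun x hx => autFun_mem α hx) (hh.restrict hRN)
  rw [hhi] at hk'
  obtain ⟨α', hα', hα'e⟩ := exists_aut hk' (hk'.img_eq_self fun y hy => by
    obtain ⟨x, hx, rfl⟩ := (hh.restrict hRN).mem_img.mp (hhi.symm ▸ hy)
    rw [hke x hx]
    exact hhi ▸ mem_img_of_mem h (autFun_mem α hx))
  have hα'h : ∀ x ∈ R, autFun α' (h x) = h (autFun α x) := fun x hx =>
    (hα'e _ (hhi ▸ mem_img_of_mem h hx)).trans (hke x hx)
  have hn : ∀ n : ℕ, ∀ x ∈ R, autFun (α' ^ n) (h x) = h (autFun (α ^ n) x) := by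
    intro n
    induction n with
    | zero =>
      intro x hx
      rw [pow_zero, pow_zero, autFun_one (hhi ▸ mem_img_of_mem h hx), autFun_one hx]
    | succ n ih =>
      intro x hx
      rw [pow_succ' α', pow_succ' α, autFun_mul _ _ (hhi ▸ mem_img_of_mem h hx), ih x hx,
        autFun_mul _ _ hx, hα'h _ (autFun_mem _ hx)]
  have hα'k : α' ^ p ^ k = 1 := autFun_inj fun y hy => by
    obtain ⟨x, hx, rfl⟩ := (hh.restrict hRN).mem_img.mp (hhi.symm ▸ hy)
    rw [hn _ x hx, hk, autFun_one hx, autFun_one hy]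
  -- conjugate into `Aut_T`
  have := finite_mulAut (hR'T.trans hTS)
  have hsyl := (isFullyAutomized_iff.mp (isFullyAutomized_of_normalized hTp hEs hR'En).1).2
  obtain ⟨γ, hγ, hγc⟩ := hsyl.exists_conj_le (C := Subgroup.zpowers α') (fun ⟨c, hc⟩ => by
      obtain ⟨z, rfl⟩ := Subgroup.mem_zpowers_iff.mp hc
      refine ⟨k, Subtype.ext ?_⟩
      show (α' ^ z) ^ p ^ k = 1
      rw [← zpow_natCast, ← zpow_mul, mul_comm, zpow_mul, zpow_natCast, hα'k, one_zpow])
    (by rwa [Subgroup.zpowers_le])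
  obtain ⟨t, ht, htn, hte⟩ := mem_autInducedBy.mp (hγc _ (Subgroup.mem_zpowers α'))
  have hR'S : R' ≤ S := hR'T.trans hTS
  have hγF := autGroup_mono hsub hγ
  obtain ⟨g, hg, hgγ, hgC⟩ := exists_map_centralizer (isFullyAutomized_of_normalized hS hF hR'n).2
    (isMor_autFun hR'S hγF) (img_autFun γ)
  set C' := centralizerIn S R'
  set M := C' ⊔ R' with hMdef
  have hMS : M ≤ S := sup_le centralizerIn_le hR'S
  have hgM : ∀ y ∈ M, g y ∈ M := by
    have : img M g ≤ M := by
      rw [hg.img_sup]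
      exact sup_le (hgC.trans le_sup_left) ((img_congr hgγ).trans (img_autFun γ) |>.le.trans le_sup_right)
    exact fun y hy => this (mem_img_of_mem g hy)
  have hgMi : img M g = M := hg.img_eq_self hgM
  obtain ⟨gi, hgi, hgl, hgr, hgii⟩ := hg.inverse
  rw [hgMi] at hgi hgr hgii
  have hC'u : ∀ c ∈ C', cj t c ∈ C' ∧ c⁻¹ * cj t c ∈ R' := by
    intro c hc
    obtain ⟨hcS, hcc⟩ := mem_centralizerIn.mp hc
    have h1 : cj t c ∈ C' := by
      refine mem_centralizerIn.mpr
        ⟨S.mul_mem (S.mul_mem (hTS ht) hcS) (S.inv_mem (hTS ht)), fun y hy => ?_⟩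
      have hy' : cj t⁻¹ y ∈ R' :=
        (Subgroup.mem_normalizer_iff.mp (Subgroup.inv_mem _ htn) y).mp hy
      show cj (t * c * t⁻¹) y = y
      rw [cj_mul, cj_mul, hcc _ hy', cj_cj_inv]
    refine ⟨h1, centric_centralizer_le hR'c (mem_centralizerIn.mpr ⟨?_, fun y hy => ?_⟩)⟩
    · rw [show c⁻¹ * cj t c = (c⁻¹ * t * c⁻¹⁻¹) * t⁻¹ by rw [cj_apply, inv_inv]; group]
      exact T.mul_mem ((Subgroup.mem_normalizer_iff.mp (Subgroup.inv_mem _ (hSN hcS)) t).mp ht)
        (T.inv_mem ht)
    · rw [cj_mul, (mem_centralizerIn.mp h1).2 y hy, (mem_centralizerIn.mp (C'.inv_mem hc)).2 y hy]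
  have htM : ∀ y ∈ M, cj t y ∈ M := by
    have : M ≤ M.comap (MulAut.conj t).toMonoidHom := sup_le
      (fun c hc => Subgroup.mem_sup_left (hC'u c hc).1)
      (fun r hr => Subgroup.mem_sup_right ((Subgroup.mem_normalizer_iff.mp htn r).mp hr))
    exact fun y hy => this hy
  -- the extension on `R'`
  set a := gi ∘ cj t ∘ g with hadef
  have ha : IsMor F M a :=
    (hg.comp (isMor_cj F hMS (hTS ht)) hgM).comp hgi fun y hy => htM _ (hgM y hy)
  have haR : ∀ y ∈ R', a y = autFun α' y := by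
    intro y hy
    have hy' := autFun_mem γ hy
    show gi (cj t (g y)) = _
    rw [hgγ y hy, ← hte _ hy', autFun_mul _ _ hy', autFun_inv_left γ hy, autFun_mul _ _ hy,
      ← hgγ _ (autFun_mem α' hy), hgl _ (Subgroup.mem_sup_right (autFun_mem α' hy))]
  have haC : ∀ c ∈ C', c⁻¹ * a c ∈ R' := by
    intro c hc
    have hgc : g c ∈ C' := hgC (mem_img_of_mem g hc)
    obtain ⟨-, hu⟩ := hC'u _ hgc
    obtain ⟨r, hr, hre⟩ : ∃ r ∈ R', g r = (g c)⁻¹ * cj t (g c) :=
      ⟨autFun γ⁻¹ _, autFun_mem _ hu, by rw [hgγ _ (autFun_mem _ hu), autFun_inv_right γ hu]⟩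
    have h1 : cj t (g c) = g (c * r) := by
      rw [hg.map_mul (Subgroup.mem_sup_left hc) (Subgroup.mem_sup_right hr), hre, mul_inv_cancel_left]
    show c⁻¹ * gi (cj t (g c)) ∈ R'
    rw [h1, hgl _ (Subgroup.mul_mem _ (Subgroup.mem_sup_left hc) (Subgroup.mem_sup_right hr)),
      inv_mul_cancel_left]
    exact hr
  -- back to `R`
  set C := centralizerIn S T
  have hCR : C ≤ centralizerIn S R := centralizerIn_anti hRT
  have hCN : R ⊔ C ≤ normalizerIn S R := sup_le hRN (hCR.trans centralizerIn_le_normalizerIn)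
  have hhM : IsMor F (R ⊔ C) h := hh.restrict hCN
  have hhC : ∀ c ∈ C, h c ∈ C' := fun c hc =>
    by
      have := mapsTo_centralizerIn hh hRN centralizerIn_le_normalizerIn c (hCR hc)
      rwa [hhi] at this
  have hR'img : R' ≤ img (R ⊔ C) h := hhi ▸ img_mono h le_sup_left
  have hhmaps : ∀ x ∈ R ⊔ C, h x ∈ M := by
    have : img (R ⊔ C) h ≤ M := by
      rw [hhM.img_sup, hhi]
      exact sup_le le_sup_right (img_le fun c hc => Subgroup.mem_sup_left (hhC c hc))
    exact fun x hx => this (mem_img_of_mem h hx)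
  have hamaps : ∀ x ∈ R ⊔ C, a (h x) ∈ img (R ⊔ C) h := by
    have hm := hhM.comp ha hhmaps
    have : img (R ⊔ C) (a ∘ h) ≤ img (R ⊔ C) h := by
      rw [hm.img_sup]
      refine sup_le (img_le fun r hr => hR'img ?_) (img_le fun c hc => ?_)
      · have hr' : h r ∈ R' := hhi ▸ mem_img_of_mem h hr
        show a (h r) ∈ R'
        rw [haR _ hr']
        exact autFun_mem α' hr'
      · show a (h c) ∈ _
        have := Subgroup.mul_mem _ (mem_img_of_mem h (Subgroup.mem_sup_right (S := R) hc))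
          (hR'img (haC _ (hhC c hc)))
        rwa [mul_inv_cancel_left] at this
    exact fun x hx => this (mem_img_of_mem (a ∘ h) hx)
  obtain ⟨hi, hhi', hhl, -, -⟩ := hhM.inverse
  refine ⟨hi ∘ a ∘ h, (hhM.comp ha hhmaps).comp hhi' hamaps, fun x hx => ?_, fun c hc => ?_⟩
  · have hx' : h x ∈ R' := hhi ▸ mem_img_of_mem h hx
    show hi (a (h x)) = autFun α x
    rw [haR _ hx', hα'h x hx, hhl _ (Subgroup.mem_sup_left (autFun_mem α hx))]
  · obtain ⟨r, hr, hre⟩ := (hh.restrict hRN).mem_img.mp (hhi.symm ▸ haC _ (hhC c hc))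
    have h1 : a (h c) = h (c * r) := by
      rw [hhM.map_mul (Subgroup.mem_sup_right hc) (Subgroup.mem_sup_left hr), hre, mul_inv_cancel_left]
    show c⁻¹ * hi (a (h c)) ∈ T
    rw [h1, hhl _ (Subgroup.mul_mem _ (Subgroup.mem_sup_right hc) (Subgroup.mem_sup_left hr)),
      inv_mul_cancel_left]
    exact hRT hr

theorem goodExt_opGen (hS : IsPGroup p S) (hF : F.IsSaturated p) (hEs : E.IsSaturated p)
    (hsub : E.IsSubsystemOf F) (hT : F.StronglyClosed T) (hinv : StrongInv E F)
    {P : Subgroup Ω} {f : Ω → Ω} (h : OpGen E p P f) (hP : E.IsCentric P) : GoodExt F T P f := by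
  induction h with
  | step α k hR hα hk hPR e =>
    exact (goodExt_pElement hS hF hEs hsub hT hinv hR hα hk).restrict hPR fun x hx => (e x hx).symm
  | @comp P g h f h₁ h₂ e ih₁ ih₂ =>
    have : Finite T := finite_of_le hT.1
    have hc := centric_of_isConj hP (isConj_img h₁.isMor)
    exact (ih₁ hP).comp hT hP.1 (centric_centralizer_le hc) (ih₂ hc) e

/-- An automorphism of `T` that is good on a centric subgroup is good. -/
theorem goodExt_of_restrict (hS : IsPGroup p S) (hF : F.IsSaturated p) (hEs : E.IsSaturated p)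
    (hsub : E.IsSubsystemOf F) (hT : F.StronglyClosed T) (hinv : StrongInv E F)
    {R : Subgroup Ω} (hR : E.IsCentric R) {β : MulAut T} (hβ : β ∈ F.autGroup T)
    (hg : GoodExt F T R (autFun β)) : ∃ m : ℕ, GoodExt F T T (autFun (β ^ p ^ m)) := by
  have hTS := hT.1
  have hsc := (stronglyClosed_iff.mp hT).2
  have : Finite T := finite_of_le hTS
  have hRT := hR.1
  set C := centralizerIn S T with hCdef
  have hCS : C ≤ S := centralizerIn_le
  have hTC : ∀ x ∈ T ⊔ C, x ∈ Subgroup.normalizer (T : Set Ω) := fun x hx =>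
    stronglyClosed_le_normalizer hT (sup_le hTS hCS hx)
  have hTn : F.IsFullyNormalized T := by
    refine ⟨hTS, fun Q hQ => ?_⟩
    obtain ⟨f, hf, rfl⟩ := isConj_iff.mp hQ
    rw [hf.img_eq_self fun x hx => hsc T f hf x hx hx]
  obtain ⟨b, hb, hbT, hbC⟩ := exists_map_centralizer (isFullyAutomized_of_normalized hS hF hTn).2
    (isMor_autFun hTS hβ) (img_autFun β)
  have hb' : IsMor F (T ⊔ C) b := by rw [sup_comm]; exact hb
  have hbmaps : ∀ x ∈ T ⊔ C, b x ∈ T ⊔ C := by
    have : img (T ⊔ C) b ≤ T ⊔ C := by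
      rw [hb'.img_sup, img_congr hbT, img_autFun]
      exact sup_le le_sup_left (hbC.trans le_sup_right)
    exact fun x hx => this (mem_img_of_mem b hx)
  obtain ⟨β₁, hβ₁, hβ₁e⟩ := exists_aut hb' (hb'.img_eq_self hbmaps)
  have hβ₁T : ∀ x ∈ T, autFun β₁ x = autFun β x := fun x hx =>
    (hβ₁e x (Subgroup.mem_sup_left hx)).trans (hbT x hx)
  obtain ⟨g, hg', hgR, hgC⟩ := hg
  have hRC : R ⊔ C ≤ T ⊔ C := sup_le_sup_right hRT C
  -- `g` is trivial modulo `T` on `R C`
  have hmod : ∀ w ∈ R ⊔ C, w⁻¹ * g w ∈ T := by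
    have hQ : R ⊔ C ≤
        ({ carrier := {w | w ∈ R ⊔ C ∧ w⁻¹ * g w ∈ T}
           one_mem' := ⟨one_mem _, by rw [hg'.map_one, inv_one, one_mul]; exact T.one_mem⟩
           mul_mem' := fun {a c} ha hc => ⟨mul_mem ha.1 hc.1, by
             have h1 := (Subgroup.mem_normalizer_iff.mp
               (Subgroup.inv_mem _ (hTC c (hRC hc.1))) _).mp ha.2
             rw [hg'.map_mul ha.1 hc.1]
             simpa [mul_assoc] using T.mul_mem h1 hc.2⟩
           inv_mem' := fun {a} ha => ⟨Subgroup.inv_mem _ ha.1, by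
             have h1 := (Subgroup.mem_normalizer_iff.mp (hTC a (hRC ha.1)) _).mp (T.inv_mem ha.2)
             rw [hg'.map_inv ha.1]
             simpa [mul_assoc] using h1⟩ } : Subgroup Ω) := sup_le
      (fun r hr => ⟨Subgroup.mem_sup_left hr, T.mul_mem (T.inv_mem (hRT hr))
        (hgR r hr ▸ autFun_mem β (hRT hr))⟩)
      (fun c hc => ⟨Subgroup.mem_sup_right hc, hgC c hc⟩)
    exact fun w hw => (hQ hw).2
  have hβR : centralizerIn T (img R (autFun β)) ≤ img R (autFun β) :=
    centric_centralizer_le (centric_img_of_invariant hS hF hsub hT hinv hR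
      ((isMor_autFun hTS hβ).restrict hRT))
  have hgimg : ∀ x ∈ R ⊔ C, g x ∈ img R (autFun β) ⊔ C := by
    have : img (R ⊔ C) g ≤ img R (autFun β) ⊔ C := by
      rw [hg'.img_sup, img_congr hgR]
      refine sup_le le_sup_left (img_le fun c hc => ?_)
      have hu : c⁻¹ * g c ∈ img R (autFun β) := by
        refine hβR (mem_centralizerIn.mpr ⟨hgC c hc, fun y hy => ?_⟩)
        rw [← img_congr hgR] at hy
        obtain ⟨x, hx, rfl⟩ := (hg'.restrict le_sup_left).mem_img.mp hy
        have h2 : cj c x = x := (mem_centralizerIn.mp hc).2 x (hRT hx)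
        have h1 := hg'.map_conj (Subgroup.mem_sup_right hc) (Subgroup.mem_sup_left hx)
        rw [show c * x * c⁻¹ = x from h2] at h1
        have hgx : g x ∈ T := hsc _ g hg' x (Subgroup.mem_sup_left hx) (hRT hx)
        rw [cj_mul, cj_apply (g c), ← h1, (mem_centralizerIn.mp (C.inv_mem hc)).2 _ hgx]
      have := Subgroup.mul_mem _ (Subgroup.mem_sup_right (S := img R (autFun β)) hc)
        (Subgroup.mem_sup_left (T := C) hu)
      rwa [mul_inv_cancel_left] at this
    exact fun x hx => this (mem_img_of_mem g hx)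
  have hTCS : T ⊔ C ≤ S := sup_le hTS hCS
  have hb₁ := isMor_autFun hTCS hβ₁
  have hb₁i := isMor_autFun hTCS ((F.autGroup _).inv_mem hβ₁)
  have hbR : img (R ⊔ C) (autFun β₁) = img R (autFun β) ⊔ C := by
    rw [(hb₁.restrict hRC).img_sup, img_congr fun x hx => hβ₁T x (hRT hx)]
    congr 1
    refine (hb₁.restrict le_sup_right).img_eq_self fun c hc => ?_
    rw [hβ₁e c (Subgroup.mem_sup_right hc)]
    exact hbC (mem_img_of_mem b hc)
  have hmaps : ∀ x ∈ R ⊔ C, autFun β₁⁻¹ (g x) ∈ R ⊔ C := by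
    intro x hx
    have h1 := hgimg x hx
    rw [← hbR] at h1
    obtain ⟨y, hy, hye⟩ := (hb₁.restrict hRC).mem_img.mp h1
    rw [← hye, autFun_inv_left β₁ (hRC hy)]
    exact hy
  have hdm : IsMor F (R ⊔ C) (autFun β₁⁻¹ ∘ g) :=
    hg'.comp (hb₁i.restrict (sup_le_sup_right (img_le fun r hr => autFun_mem β (hRT hr)) C)) hgimg
  obtain ⟨δ, hδ, hδe⟩ := exists_aut hdm (hdm.img_eq_self hmaps)
  have hδR : ∀ r ∈ R, autFun δ r = r := by
    intro r hr
    rw [hδe r (Subgroup.mem_sup_left hr), Function.comp_apply, hgR r hr, ← hβ₁T r (hRT hr),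
      autFun_inv_left β₁ (Subgroup.mem_sup_left (hRT hr))]
  obtain ⟨m, η, hη, hηT, hηC⟩ := exists_fixing_extension hS hF hT (C := C) le_rfl R hRT
    (fun f hf => centric_centralizer_le (centric_img_of_invariant hS hF hsub hT hinv hR hf))
    δ hδ hδR
  refine ⟨m, ?_⟩
  have hpowmod : ∀ n : ℕ, ∀ c ∈ R ⊔ C, c⁻¹ * autFun (β₁ ^ n) (autFun (δ ^ n) c) ∈ T := by
    intro n
    induction n with
    | zero =>
      intro c hc
      rw [pow_zero, pow_zero, autFun_one hc, autFun_one (hRC hc), inv_mul_cancel]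
      exact T.one_mem
    | succ n ih =>
      intro c hc
      have hd := autFun_mem δ hc
      have h0 : autFun (δ ^ (n + 1)) c = autFun (δ ^ n) (autFun δ c) := by
        rw [pow_succ, autFun_mul _ _ hc]
      have hdn : autFun (δ ^ n) (autFun δ c) ∈ R ⊔ C := autFun_mem _ hd
      rw [pow_succ' β₁, h0, autFun_mul _ _ (hRC hdn)]
      -- `β₁^n (δ^n (δ c)) = δ c · u`
      set w := autFun (β₁ ^ n) (autFun (δ ^ n) (autFun δ c)) with hw
      have hu : (autFun δ c)⁻¹ * w ∈ T := ih _ hd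
      have hwTC : w ∈ T ⊔ C := autFun_mem _ (hRC hdn)
      have h1 : autFun β₁ w = g c * autFun β₁ ((autFun δ c)⁻¹ * w) := by
        rw [autFun_map_mul β₁ (Subgroup.inv_mem _ (hRC hd)) hwTC, autFun_inv_map _ (hRC hd),
          hδe c hc, Function.comp_apply, autFun_inv_right β₁
            (sup_le_sup_right (img_le fun r hr => autFun_mem β (hRT hr)) C (hgimg c hc)),
          mul_inv_cancel_left]
      rw [h1, ← mul_assoc]
      refine T.mul_mem (hmod c hc) ?_
      rw [hβ₁T _ hu]
      exact autFun_mem β hu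
  refine ⟨autFun (β₁ ^ p ^ m) ∘ autFun η, ?_, fun x hx => ?_, fun c hc => ?_⟩
  · exact (isMor_autFun hTCS hη).comp (isMor_autFun hTCS ((F.autGroup _).pow_mem hβ₁ _))
      fun x hx => autFun_mem η hx
  · show autFun (β₁ ^ p ^ m) (autFun η x) = _
    rw [hηT x hx]
    exact autFun_pow_congr le_sup_left hβ₁T _ x hx
  · show c⁻¹ * autFun (β₁ ^ p ^ m) (autFun η c) ∈ T
    rw [hηC c hc]
    exact hpowmod _ c (Subgroup.mem_sup_right hc)

/-- The `p'`-residual of a weakly normal subsystem is normal. -/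
theorem residual_normal (hS : IsPGroup p S) (hF : F.IsSaturated p) (hE : E.IsWeaklyNormalIn F p)
    {D : FusionSystem T} (hD : E.IsPPrimeResidual p D) : D.IsNormalIn F p := by
  obtain ⟨hEs, -, hinvI⟩ := hE
  have hsub := hinvI.1
  have hT := hinvI.2.1
  have hTS := hT.1
  have : Finite T := finite_of_le hTS
  have hTp : IsPGroup p T := isPGroup_of_le hTS hS
  have hinv : StrongInv E F :=
    strongInv_iff.mpr ((Cfsg.Agent.S5119.result p hS F hF E hsub hT).mp hinvI)
  have hDeq := eq_residual hTp hEs hD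
  subst hDeq
  have hDsub := residual_sub hTp hEs
  have hsym : ∀ θ ∈ F.autGroup T, Sym (residual hTp hEs) θ := by
    intro θ hθ P f hf
    have hθ₁ := sym_of_invariant hTS hinv hθ
    have hθ₂ := sym_of_invariant hTS hinv ((F.autGroup T).inv_mem hθ)
    rw [isMor_residual] at hf ⊢
    induction hf with
    | @step P R g f hR hg ht hPR e =>
      obtain ⟨β, hβ, g₀, hg₀, e₀⟩ := ht
      obtain ⟨β', hβ', hβ'e⟩ := aut0_map_sym hθ₁ hθ₂ ((QuotientGroup.eq_one_iff β).mp hβ)
      refine .step (g := autFun θ ∘ g ∘ autFun θ⁻¹) (centric_of_sym hθ₂ hR) (hθ₁ R g hg)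
        ⟨β', (QuotientGroup.eq_one_iff β').mpr hβ', _, hg₀.map_sym hθ₁ hθ₂, fun y hy => ?_⟩
        (img_mono _ hPR) fun y hy => ?_
      · obtain ⟨x, hx, rfl⟩ := (mem_img_autFun hR.1).mp hy
        have hg0 := hg₀.isMor.mem hx
        simp only [Function.comp_apply]
        rw [autFun_inv_left θ (hR.1 hx), hβ'e, autFun_mul _ _ (autFun_mem θ hg0),
          autFun_mul _ _ (autFun_mem _ (autFun_mem θ hg0)), autFun_inv_left θ hg0, e₀ x hx]
      · simp only [Function.comp_apply]
        rw [e _ ((img_autFun_cancel (hPR.trans hR.1) θ).le (mem_img_of_mem _ hy))]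
    | @comp P g h f h₁ h₂ e ih₁ ih₂ =>
      have hg := Label.Gen.isMor _ h₁
      have hPS := hg.le
      have hi : img (img P (autFun θ)) (autFun θ ∘ g ∘ autFun θ⁻¹) = img (img P g) (autFun θ) := by
        refine le_antisymm (img_le fun y hy => ?_) (img_le fun z hz => ?_)
        · exact mem_img_of_mem _ (mem_img_of_mem g
            ((img_autFun_cancel hPS θ).le (mem_img_of_mem _ hy)))
        · obtain ⟨x, hx, rfl⟩ := hg.mem_img.mp hz
          have := mem_img_of_mem (autFun θ ∘ g ∘ autFun θ⁻¹) (mem_img_of_mem (autFun θ) hx)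
          simpa [autFun_inv_left θ (hPS hx)] using this
      refine .comp ih₁ (hi.symm ▸ ih₂) fun y hy => ?_
      have hy' := (img_autFun_cancel hPS θ).le (mem_img_of_mem _ hy)
      simp only [Function.comp_apply]
      rw [autFun_inv_left θ (hg.mem hy'), e _ hy']
  refine ⟨⟨hD.1, hF, fun P => (hDsub P).trans (hsub P), hT, ?_, ?_⟩, ?_⟩
  · intro P hPT φ hφ α hα
    have h1 := hsym α hα P (toFun φ) (isMor_of_mem hφ)
    rw [← map_subgroupOf_eq_img (ψ := T.subtype.comp α.toMonoidHom) (f := autFun α)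
      (fun x => (autFun_coe α x).symm) hPT] at h1
    obtain ⟨χ, hχ, hχe⟩ := h1
    refine ⟨χ, hχ, fun x hφx hαx => ?_⟩
    rw [hχe]
    simp only [Function.comp_apply]
    rw [← autFun_coe α ⟨x, hPT x.2⟩, ← autFun_coe α ⟨φ x, hφx⟩, autFun_inv_left α (hPT x.2),
      toFun_coe]
  · intro P hPT φ hφ
    obtain ⟨α, hα, e, he, hfe⟩ := factors_of_strongInv hS hF hsub hT hinv (isMor_of_mem hφ) hPT
    obtain ⟨β, hβ, d, ⟨φ₀, hφ₀, hd⟩, hed⟩ := residual_fac hTp hEs P e he
    refine ⟨α * β, (F.autGroup T).mul_mem hα (autGroup_mono hsub hβ), φ₀, hφ₀, fun x hx => ?_⟩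
    rw [← toFun_coe φ x, hfe x x.2, ← autFun_coe (α * β) ⟨φ₀ x, hx⟩, autFun_mul _ _ hx,
      hed x x.2, hd x]
  · -- the extension condition
    intro α hα
    have hαE := autGroup_mono hDsub hα
    let W : Subgroup ↥(E.autGroup T) :=
      { carrier := {β | GoodExt F T T (autFun (β : MulAut T))}
        one_mem' := (goodExt_id hT le_rfl).restrict le_rfl fun x hx => (autFun_one hx).symm
        mul_mem' := fun {a b} ha hb => by
          refine GoodExt.comp hT le_rfl ?_ hb (by rw [img_autFun]; exact ha)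
            fun x hx => autFun_mul (a : MulAut T) (b : MulAut T) hx
          rw [img_autFun]; exact centralizerIn_le
        inv_mem' := fun {a} ha => by
          have hpow : ∀ n : ℕ, GoodExt F T T (autFun ((a ^ n : ↥(E.autGroup T)) : MulAut T)) := by
            intro n
            induction n with
            | zero => exact (goodExt_id hT le_rfl).restrict le_rfl fun x hx => (autFun_one hx).symm
            | succ n ih =>
              refine GoodExt.comp hT le_rfl ?_ ha (by rw [img_autFun]; exact ih) fun x hx => ?_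
              · rw [img_autFun]; exact centralizerIn_le
              · rw [pow_succ]; exact autFun_mul _ _ hx
          have := finite_mulAut (S := T) le_rfl
          obtain ⟨n, hn⟩ := Submonoid.mem_powers_iff _ _ |>.mp
            ((mem_powers_iff_mem_zpowers).mpr (Subgroup.inv_mem _ (Subgroup.mem_zpowers a)))
          show GoodExt F T T (autFun ((a⁻¹ : ↥(E.autGroup T)) : MulAut T))
          rw [← hn]
          exact hpow n }
    have hmem : ∀ β ∈ aut0 E p, β ∈ W := by
      intro β hβ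
      induction hβ using Subgroup.closure_induction with
      | mem b hb =>
        obtain ⟨R, hR, hRb⟩ := hb
        obtain ⟨m, hm⟩ := goodExt_of_restrict hS hF hEs hsub hT hinv hR (autGroup_mono hsub b.2)
          (goodExt_opGen hS hF hEs hsub hT hinv hRb hR)
        have hm' : b ^ p ^ m ∈ W := hm
        have := finite_mulAut (S := T) le_rfl
        obtain ⟨j, r, hr, hor⟩ := Nat.exists_eq_pow_mul_and_not_dvd (orderOf_pos b).ne' p
          hp.out.ne_one
        have hbr : b ^ r ∈ W := by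
          have hk : ((b ^ r : ↥(E.autGroup T)) : MulAut T) ^ p ^ j = 1 := by
            rw [← Subgroup.coe_pow, ← pow_mul, mul_comm, ← hor, pow_orderOf_eq_one, Subgroup.coe_one]
          exact goodExt_pElement hS hF hEs hsub hT hinv (centric_self E) (b ^ r).2 hk
        have hco : Nat.Coprime (p ^ m) r :=
          Nat.Coprime.pow_left m ((Nat.Prime.coprime_iff_not_dvd hp.out).mpr hr)
        have hbez : b = (b ^ p ^ m) ^ (Nat.gcdA (p ^ m) r) * (b ^ r) ^ (Nat.gcdB (p ^ m) r) := by
          rw [← zpow_natCast, ← zpow_natCast, ← zpow_mul, ← zpow_mul, ← zpow_add,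
            ← Nat.gcd_eq_gcd_ab, hco.gcd_eq_one, Nat.cast_one, zpow_one]
        rw [hbez]
        exact W.mul_mem (W.zpow_mem hm' _) (W.zpow_mem hbr _)
      | one => exact W.one_mem
      | mul b c _ _ hb hc => exact W.mul_mem hb hc
      | inv b _ hb => exact W.inv_mem hb
    obtain ⟨g, hg, hgT, hgC⟩ := hmem ⟨α, hαE⟩ ((autGroup_residual hTp hEs).mp hα)
    set C := centralizerIn S T
    have hsc := (stronglyClosed_iff.mp hT).2
    have hmaps : img (T ⊔ C) g ≤ T ⊔ C := by
      rw [hg.img_sup, img_congr hgT, img_autFun]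
      refine sup_le le_sup_left (img_le fun c hc => ?_)
      have := Subgroup.mul_mem _ (Subgroup.mem_sup_right (S := T) hc)
        (Subgroup.mem_sup_left (T := C) (hgC c hc))
      rwa [mul_inv_cancel_left] at this
    obtain ⟨β, hβ, hβe⟩ := exists_aut hg (hg.img_eq_self fun x hx => hmaps (mem_img_of_mem g hx))
    refine ⟨β, hβ, fun x => ?_, fun c hc => ?_⟩
    · rw [← autFun_coe β, ← autFun_coe α]
      show autFun β (x : Ω) = autFun α x
      rw [hβe _ (Subgroup.mem_sup_left x.2)]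
      exact hgT x x.2
    · rw [← autFun_coe β, hβe _ c.2]
      refine ⟨hgC c hc, Subgroup.mem_centralizer_iff.mpr fun y hy => ?_⟩
      obtain ⟨x, hx, rfl⟩ : ∃ x ∈ T, g x = y :=
        ⟨autFun α⁻¹ y, autFun_mem _ hy, by
          rw [hgT _ (autFun_mem _ hy)]; exact autFun_inv_right α hy⟩
      have h1 := hg.map_conj c.2 (Subgroup.mem_sup_left hx)
      have h2 : cj (c : Ω) x = x := (mem_centralizerIn.mp hc).2 x hx
      rw [show (c : Ω) * x * (c : Ω)⁻¹ = x from h2] at h1
      have h3 : cj (c : Ω)⁻¹ (g x) = g x := (mem_centralizerIn.mp (C.inv_mem hc)).2 _ hy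
      have h4 : cj ((c : Ω)⁻¹ * g c) (g x) = g x := by rw [cj_mul, cj_apply (g c), ← h1, h3]
      rw [cj_apply, cj_fixed_iff] at h4
      exact h4.symm

end CfsgLib.Fusion
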