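import Mathlib
import Cfsg.Agent.Lib.Fusion.CentralLiftSystem
import Cfsg.Agent.Lib.Fusion.Subnormal
import Cfsg.Agent.Lib.Fusion.InvariantNormal
import Cfsg.Agent.Lib.Fusion.Control
import Cfsg.Agent.Lib.Fusion.NormalCentralizerSystem
import Cfsg.Agent.Lib.Fusion.ResidualNormal
import Cfsg.Agent.Lib.Fusion.PPrimeResidual
import Cfsg.Agent.S5120
import Cfsg.Agent.S5290

/-!
# A saturated system is constrained exactly when it has no component
-/

set_option autoImplicit false
set_option linter.unusedSectionVars false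

namespace CfsgLib.Fusion

open Cfsg Cfsg.FusionSystem

universe u

variable {Ω : Type u} [Group Ω] {S : Subgroup Ω} [Finite S] {F : FusionSystem S}
  {p : ℕ} [hp : Fact p.Prime]

/-- The inner system of a normal subgroup is a normal subsystem. -/
theorem inner_isNormalIn (hS : IsPGroup p S) (hF : F.IsSaturated p) {Q : Subgroup Ω}
    (hQ : F.IsNormal Q) : (innerFusionSystem Q).IsNormalIn F p := by
  refine ⟨(Cfsg.Agent.S5290.result p hS F hF Q hQ.1).mp hQ, fun α hα => ?_⟩
  obtain ⟨-, g, hg, hge⟩ := isMor_inner.mp (isMor_autFun le_rfl hα)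
  set C := centralizerIn S Q with hC
  have hn : g ∈ Subgroup.normalizer ((Q ⊔ C : Subgroup Ω) : Set Ω) :=
    Subgroup.le_normalizer (Subgroup.mem_sup_left hg)
  obtain ⟨β, hβ, hβe⟩ := exists_autInducedBy (P := Q ⊔ C) (K := S) (hQ.1 hg) hn
  refine ⟨β, autInducedBy_le F (sup_le hQ.1 centralizerIn_le) hβ, fun x => ?_, fun c hc => ?_⟩
  · rw [← autFun_coe α x, hge x x.2, ← autFun_coe β]
    exact hβe x (Subgroup.mem_sup_left x.2)
  · have h1 := hβe c c.2
    rw [autFun_coe] at h1
    have hgc : cj g (c : Ω) = c := by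
      have h2 : cj (c : Ω) g = g := (mem_centralizerIn.mp hc).2 g hg
      rw [cj_apply, cj_fixed_iff] at h2 ⊢
      exact h2.symm
    rw [h1, hgc, inv_mul_cancel]
    exact one_mem _

/-- An automorphism of order prime to `p` moving `P` inside cosets of central elements is trivial. -/
theorem eq_one_of_coprime_central (hS : IsPGroup p S) {W : Subgroup Ω} (hW : F.IsCentral W)
    {P : Subgroup Ω} (hP : P ≤ S) {α : MulAut P} (hα : α ∈ F.autGroup P)
    (hc : (orderOf α).Coprime p) (h : ∀ x ∈ P, x⁻¹ * autFun α x ∈ W) : α = 1 := by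
  refine autFun_inj fun x hx => ?_
  rw [autFun_one hx]
  set z := x⁻¹ * autFun α x with hz
  have hzP : z ∈ P := P.mul_mem (P.inv_mem hx) (autFun_mem α hx)
  have hfix : autFun α z = z := by
    obtain ⟨g, -, hgf, hgW⟩ := (isCentral_iff.mp hW).2 P _ (isMor_autFun hP hα)
    rw [← hgf z hzP, hgW z (h x hx)]
  have hn : ∀ n : ℕ, autFun (α ^ n) x = x * z ^ n := by
    intro n
    induction n with
    | zero => rw [pow_zero, autFun_one hx, pow_zero, mul_one]
    | succ n ih =>
      have hpow : ∀ m : ℕ, autFun α (z ^ m) = z ^ m := fun m => by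
        rw [(isMor_autFun hP hα).map_pow hzP m, hfix]
      rw [pow_succ', autFun_mul _ _ hx, ih, autFun_map_mul α hx (P.pow_mem hzP n), hpow,
        show autFun α x = x * z by rw [hz, mul_inv_cancel_left], pow_succ', mul_assoc]
  have h1 := hn (orderOf α)
  rw [pow_orderOf_eq_one, autFun_one hx, eq_comm, mul_eq_left] at h1
  obtain ⟨k, hk⟩ := hS ⟨z, hP hzP⟩
  have h2 : z = 1 := orderOf_eq_one_iff.mp (Nat.eq_one_of_dvd_coprimes (hc.pow_right k)
    (orderOf_dvd_of_pow_eq_one h1) (orderOf_dvd_of_pow_eq_one (congrArg Subtype.val hk)))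
  rw [show autFun α x = x * z by rw [hz, mul_inv_cancel_left], h2, mul_one]

/-- A subgroup normal and centric in a weakly normal subsystem keeps its support in the core. -/
theorem le_core_of_constrained (hS : IsPGroup p S) {T : Subgroup Ω} {E : FusionSystem T}
    (hE : E.IsWeaklyNormalIn F p) (hc : E.IsConstrained p) :
    ∃ R ≤ F.core, R ≤ T ∧ centralizerIn T R ≤ R := by
  obtain ⟨-, R, hR, hRc⟩ := hc
  have hT := hE.2.2.2.1.1
  refine ⟨R, le_trans (fun r hr => ?_) (le_core (isNormal_closure_images hS hE hR)), hR.1,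
    centric_centralizer_le hRc⟩
  obtain ⟨φ, hφ, hφe⟩ := isMor_id F (hR.1.trans hT)
  exact Subgroup.subset_closure ⟨φ, hφ, ⟨r, hr⟩, (hφe ⟨r, hr⟩).symm⟩

/-- A nonconstrained system without smaller nonconstrained normal subsystems is quasisimple. -/
theorem quasisimple_of_minimal (hS : IsPGroup p S) (hF : F.IsSaturated p)
    (hnc : ¬ F.IsConstrained p)
    (hmin : ∀ (U : Subgroup Ω) (D : FusionSystem U), D.IsNormalIn F p → ¬ D.IsConstrained p →
      U = S ∧ ∀ P f, IsMor F P f → IsMor D P f) :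
    F.Quasisimple p := by
  set Q := F.core with hQdef
  have hQn : F.IsNormal Q := isNormal_core F
  have hQS : Q ≤ S := hQn.1
  have : Finite Q := finite_of_le hQS
  have hQsc := isNormal_stronglyClosed hQn
  have hQncen : ¬ centralizerIn S Q ≤ Q := by
    intro h
    refine hnc ⟨hF, Q, hQn, hQS, fun R hR => ?_⟩
    obtain ⟨f, hf, rfl⟩ := isConj_iff.mp hR
    rw [hf.img_eq_self fun x hx => (stronglyClosed_iff.mp hQsc).2 Q f hf x hx hx]
    exact h
  -- the centralizer of the core
  have hQcen : F.IsCentral Q := by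
    have hIn := inner_isNormalIn hS hF hQn
    obtain ⟨D, hD, hDc⟩ := exists_centralizer_normal hS hF hIn
    have hle : centralizerIn S Q ≤ cElts F (innerFusionSystem Q) p := by
      refine le_cElts hS hF (strongInv_of_isNormalIn hS hF hIn) le_rfl fun P f hf => ?_
      obtain ⟨hP, g, hg, hge⟩ := isMor_inner.mp hf
      refine ⟨cj g, isMor_cj F (sup_le (hP.trans hQS) centralizerIn_le) (hQS hg),
        fun x hx => (hge x hx).symm, fun c hc => ?_⟩
      have h2 : cj c g = g := (mem_centralizerIn.mp hc).2 g hg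
      rw [cj_apply, cj_fixed_iff] at h2 ⊢
      exact h2.symm
    have heq := le_antisymm (cElts_le (F := F) (E := innerFusionSystem Q) (p := p)) hle
    have hDnc : ¬ D.IsConstrained p := fun hc => by
      obtain ⟨R, hRQ, -, hR⟩ := le_core_of_constrained hS hD.1 hc
      refine hQncen fun y hy => hRQ (hR (mem_centralizerIn.mpr ⟨hle hy, fun r hr => ?_⟩))
      exact (mem_centralizerIn.mp hy).2 r (hRQ hr)
    obtain ⟨-, hall⟩ := hmin _ D hD hDnc
    refine isCentral_iff.mpr ⟨hQS, fun P f hf => ?_⟩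
    obtain ⟨φ, hφ, hφe⟩ := hall P f hf
    obtain ⟨g, hg, hgf, hgQ⟩ := (mem_centralizerHom.mp (hDc P hφ)).2.2.2
    exact ⟨g, hg, fun x hx => by rw [hgf x hx, toFun_of_mem φ hx]; exact hφe ⟨x, hx⟩, hgQ⟩
  have hcenter : F.center = Q :=
    le_antisymm (le_core (isNormal_of_isCentral (isCentral_center F))) (le_center hQcen)
  have hQneS : ¬ S ≤ Q := fun h => hQncen (centralizerIn_le.trans h)
  have hcomm : ∀ w ∈ Q, ∀ x ∈ S, x * w = w * x := fun w hw x hx =>
    F.center_le_centralizer (hcenter.ge hw) x hx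
  have hnocon : ∀ {T : Subgroup Ω} (E : FusionSystem T), E.IsWeaklyNormalIn F p → ¬ T ≤ Q →
      ¬ E.IsConstrained p := by
    intro T E hE hT hc
    obtain ⟨R, hRQ, hRT, hR⟩ := le_core_of_constrained hS hE hc
    refine hT fun t ht => hRQ (hR (mem_centralizerIn.mpr ⟨ht, fun r hr => ?_⟩))
    rw [cj_apply, cj_fixed_iff]
    exact hcomm r (hRQ hr) t (hE.2.2.2.1.1 ht)
  -- the hyperfocal subgroup
  have hhyp : F.hyperfocalSubgroup p = S := by
    set H := F.hyperfocalSubgroup p with hH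
    have hHS : H ≤ S := hyp_le_top
    obtain ⟨E, hEs, hEi, -⟩ := exists_pPowerIndex hS hF hHS le_rfl
    have hEn : E.IsNormalIn F p := Cfsg.Agent.S5120.result p hS F hF H hHS
      ⟨fun h hh s => Subgroup.mem_subgroupOf.mpr (hyp_conj_mem s.2 (Subgroup.mem_subgroupOf.mp hh))⟩
      le_rfl E hEs hEi
    by_cases hHQ : H ≤ Q
    · exfalso
      have hle : F ≤ innerFusionSystem S := le_of_coprime_aut hS hF fun P hP α hα hc => by
        rw [eq_one_of_coprime_central hS hQcen hP hα hc fun x hx => hHQ (hyp_gen hP hα hc hx)]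
        exact one_mem _
      refine hQneS (le_core ?_)
      refine isNormal_iff.mpr ⟨le_rfl, fun P f hf => ?_⟩
      obtain ⟨hP, g, hg, hge⟩ := isMor_inner.mp (le_iff_isMor.mp hle P f hf)
      refine ⟨cj g, isMor_cj F (sup_le hP le_rfl) hg, fun x hx => (hge x hx).symm, ?_⟩
      exact img_cj_of_normalizer (Subgroup.le_normalizer hg)
    · exact (hmin H E hEn (hnocon E hEn.1 hHQ)).1
  refine ⟨hF, hhyp, fun E hE => ?_⟩
  -- the quotient by the centre
  set θ := QuotientGroup.mk' (F.center.subgroupOf S) with hθ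
  have hker : ∀ s : S, θ s = 1 ↔ (s : Ω) ∈ F.center := fun s =>
    (QuotientGroup.eq_one_iff s).trans Subgroup.mem_subgroupOf
  have hcen : F.IsCentral F.center := isCentral_center F
  have hCsc := isNormal_stronglyClosed (isNormal_of_isCentral hcen)
  have hEsat : E.IsSaturated p := factor_isSaturated hS hF hCsc hE
  refine ⟨hEsat, fun htop => hQneS fun x hx => ?_, fun T' Ebar hEbar => ?_⟩
  · rw [← hcenter]
    exact (hker ⟨x, hx⟩).mp (Subgroup.mem_bot.mp (htop.le (Subgroup.mem_top (θ ⟨x, hx⟩))))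
  rcases eq_or_ne T' ⊥ with hT' | hT'
  · exact Or.inl hT'
  have H : CLift F F.center θ E Ebar p := ⟨hS, hF, hcen, hE, hEbar⟩
  have hTS := H.top_le
  have : Finite (liftTop θ T') := finite_of_le hTS
  have hTQ : ¬ liftTop θ T' ≤ Q := fun h => hT' <| by
    rw [eq_bot_iff]
    intro y hy
    obtain ⟨x, hx, rfl⟩ := H.exists_thF (H.T'_le hy)
    rw [Subgroup.mem_bot, H.thF_eq_one hx, hcenter]
    exact h ((mem_preimageAlong_thF θ).mpr ⟨hx, hy⟩)
  have hres := residual_isPPrimeResidual (isPGroup_of_le hTS hS) H.sys_saturated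
  have hD := residual_normal hS hF H.sys_weaklyNormal hres
  obtain ⟨hTeq, hall⟩ := hmin _ _ hD (hnocon _ hD.1 hTQ)
  have hT'top : T' = ⊤ := eq_top_iff.mpr fun y _ => by
    obtain ⟨x, hx, rfl⟩ := H.exists_thF (Subgroup.mem_top y)
    exact ((mem_preimageAlong_thF θ).mp (hTeq.ge hx)).2
  refine Or.inr ⟨hT'top, fun P' => hom_eq_iff.mpr fun f' =>
    ⟨le_iff_isMor.mp H.ebar_sub P' f', fun hf => ?_⟩⟩
  obtain ⟨g, hg, hge⟩ := H.lift hf
  have hgs : IsMor H.sys (preimageAlong θ P') g :=
    le_iff_isMor.mp (residual_sub _ H.sys_saturated) _ _ (hall _ g hg)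
  obtain ⟨-, -, -, f'', hf'', hfe⟩ := H.gen_lifts (H.isMor_sys.mp hgs) (H.W_le_pre P')
  have hP' : P' ≤ (⊤ : Subgroup (↥S ⧸ F.center.subgroupOf S)) := le_top
  rw [H.image_pre hP'] at hf''
  refine hf''.congr fun y hy => ?_
  obtain ⟨x, hx, rfl⟩ := H.exists_thF (hP' hy)
  have hxp : x ∈ preimageAlong θ P' := (mem_preimageAlong_thF θ).mpr ⟨hx, hy⟩
  rw [hfe x hxp, ← hge x hxp]

/-- A saturated system that is not constrained has a component. -/
theorem exists_component_of_not_constrained : ∀ {S : Subgroup Ω} [Finite S], IsPGroup p S →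
    ∀ {F : FusionSystem S}, F.IsSaturated p → ¬ F.IsConstrained p →
      ∃ (T : Subgroup Ω) (C : FusionSystem T), C.IsComponentIn F p := by
  suffices h : ∀ n m, ∀ {S : Subgroup Ω} [Finite S], Nat.card S = n → IsPGroup p S →
      ∀ {F : FusionSystem S}, sysSize F = m → F.IsSaturated p → ¬ F.IsConstrained p →
      ∃ (T : Subgroup Ω) (C : FusionSystem T), C.IsComponentIn F p from
    fun {S} _ hS {F} hF hnc => h _ _ rfl hS rfl hF hnc
  intro n
  induction n using Nat.strong_induction_on with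
  | _ n ihn =>
  intro m
  induction m using Nat.strong_induction_on with
  | _ m ihm =>
  intro S _ hn hS F hm hF hnc
  by_contra hno
  refine hno ⟨S, F, .refl F p, quasisimple_of_minimal hS hF hnc fun U D hD hDnc => ?_⟩
  have hUS : U ≤ S := hD.1.2.2.2.1.1
  by_contra hbad
  rcases eq_or_lt_of_le hUS with rfl | hlt
  · have hne : ¬ F ≤ D := fun h => hbad ⟨rfl, le_iff_isMor.mp h⟩
    obtain ⟨T, C, hC, hq⟩ := ihm _ (hm ▸ sysSize_lt hS hF hD.1.2.2.1 hne) hn hS rfl hD.1.1 hDnc
    exact hno ⟨T, C, hC.step hD, hq⟩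
  · have : Finite U := finite_of_le hUS
    obtain ⟨T, C, hC, hq⟩ := ihn _ (hn ▸ card_lt_of_lt le_rfl hlt) _ rfl (isPGroup_of_le hUS hS)
      rfl hD.1.1 hDnc
    exact hno ⟨T, C, hC.step hD, hq⟩

/-- A quasisimple system is not constrained. -/
theorem quasisimple_not_constrained (hS : IsPGroup p S) (hq : F.Quasisimple p) :
    ¬ F.IsConstrained p := by
  obtain ⟨hF, hhyp, hsimple⟩ := hq
  rintro ⟨-, R, hR, hRc⟩
  set θ := QuotientGroup.mk' (F.center.subgroupOf S) with hθ
  have hker : ∀ s : S, θ s = 1 ↔ (s : Ω) ∈ F.center := fun s =>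
    (QuotientGroup.eq_one_iff s).trans Subgroup.mem_subgroupOf
  have hrange : θ.range = ⊤ := MonoidHom.range_eq_top.mpr (QuotientGroup.mk'_surjective _)
  have hcen : F.IsCentral F.center := isCentral_center F
  have hCsc := isNormal_stronglyClosed (isNormal_of_isCentral hcen)
  obtain ⟨E, hE⟩ := exists_factorSystem hCsc hker hrange
  obtain ⟨hEs, hne, hnor⟩ := hsimple E hE
  have : Finite ↥(⊤ : Subgroup (↥S ⧸ F.center.subgroupOf S)) :=
    Finite.of_equiv _ (Subgroup.topEquiv.symm.toEquiv)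
  have hpT : IsPGroup p ↥(⊤ : Subgroup (↥S ⧸ F.center.subgroupOf S)) :=
    (hS.to_quotient _).of_equiv Subgroup.topEquiv.symm
  have H : CLift F F.center θ E
      (innerFusionSystem (⊥ : Subgroup (↥S ⧸ F.center.subgroupOf S))) p :=
    ⟨hS, hF, hcen, hE, inner_isNormalIn hpT hEs (isNormal_bot E)⟩
  have hZS : F.center ≤ S := hcen.1
  set R₁ := imageAlong θ R with hR₁
  have hR₁n : E.IsNormal R₁ := by
    refine isNormal_iff.mpr ⟨le_top, fun P' f' hf => ?_⟩
    obtain ⟨g, hg, hge⟩ := H.lift hf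
    obtain ⟨g₂, hg₂, hg₂e, hg₂R⟩ := (isNormal_iff.mp hR).2 _ g hg
    have hW : F.center ≤ preimageAlong θ P' ⊔ R := (H.W_le_pre P').trans le_sup_left
    obtain ⟨f₂, hf₂, hf₂e⟩ := H.push hg₂ hW
    have h1 : P' ≤ imageAlong θ (preimageAlong θ P' ⊔ R) :=
      (H.image_pre le_top).ge.trans (imageAlong_mono θ le_sup_left)
    have h2 : R₁ ≤ imageAlong θ (preimageAlong θ P' ⊔ R) := imageAlong_mono θ le_sup_right
    refine ⟨f₂, hf₂.restrict (sup_le h1 h2), fun y hy => ?_, ?_⟩
    · obtain ⟨x, hx, rfl⟩ := H.exists_thF (Subgroup.mem_top y)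
      have hxp : x ∈ preimageAlong θ P' := (mem_preimageAlong_thF θ).mpr ⟨hx, hy⟩
      rw [hf₂e x (Subgroup.mem_sup_left hxp), hge x hxp, hg₂e x hxp]
    · have h3 := hf₂.restrict h2
      have : Finite ↥(⊤ : Subgroup (↥S ⧸ F.center.subgroupOf S)) := inferInstance
      refine h3.img_eq_self fun y hy => ?_
      obtain ⟨x, hx, rfl⟩ := (mem_imageAlong_thF θ hR.1).mp hy
      rw [hf₂e x (Subgroup.mem_sup_right hx)]
      exact thF_mem_imageAlong θ hR.1 (hg₂R ▸ mem_img_of_mem g₂ hx)
  rcases hnor R₁ _ (inner_isNormalIn hpT hEs hR₁n) with hbot | ⟨htop, hall⟩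
  · have hRZ : R ≤ F.center := fun x hx => (H.thF_eq_one (hR.1 hx)).mp
      (Subgroup.mem_bot.mp (hbot.le (thF_mem_imageAlong θ hR.1 hx)))
    refine hne ((Subgroup.eq_bot_iff_forall _).mpr fun y _ => ?_)
    obtain ⟨x, hx, rfl⟩ := H.exists_thF (Subgroup.mem_top y)
    refine (H.thF_eq_one hx).mpr (hRZ (centric_centralizer_le hRc (mem_centralizerIn.mpr
      ⟨hx, fun r hr => ?_⟩)))
    rw [cj_apply, cj_fixed_iff]
    exact H.commW (hRZ hr) hx
  · have hS1 : F.hyperfocalSubgroup p ≤ ⊥ := hyp_le fun P hP α hα hc x hx => by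
      obtain ⟨g, hg, hgf, hgW⟩ := (isCentral_iff.mp hcen).2 P _ (isMor_autFun hP hα)
      obtain ⟨g', hg', hge⟩ := H.push hg le_sup_right
      obtain ⟨-, t, -, hte⟩ := isMor_inner.mp ((hom_eq_iff.mp (hall _) g').mpr hg')
      have hth : ∀ n : ℕ, ∀ y ∈ P, thF θ (autFun (α ^ n) y) = cj (t ^ n) (thF θ y) := by
        intro n
        induction n with
        | zero => intro y hy; rw [pow_zero, pow_zero, autFun_one hy, cj_one]
        | succ n ih =>
          intro y hy
          have hy' := autFun_mem (α ^ n) hy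
          rw [pow_succ', pow_succ', autFun_mul _ _ hy, cj_mul, ← ih y hy,
            ← hte _ (thF_mem_imageAlong θ hg.le (Subgroup.mem_sup_left hy')),
            hge _ (Subgroup.mem_sup_left hy'), hgf _ hy']
      obtain ⟨k, hk⟩ := hpT ⟨t, Subgroup.mem_top t⟩
      have hk' : t ^ p ^ k = 1 := congrArg Subtype.val hk
      obtain ⟨m, hm1, hm2⟩ := Nat.chineseRemainder (hc.pow_right k) 1 0
      have hαm : α ^ m = α := (pow_eq_pow_iff_modEq.mpr hm1).trans (pow_one _)
      have htm : t ^ m = 1 := orderOf_dvd_iff_pow_eq_one.mp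
        ((orderOf_dvd_of_pow_eq_one hk').trans (Nat.modEq_zero_iff_dvd.mp hm2))
      have hα1 : α = 1 := eq_one_of_coprime_central hS hcen hP hα hc fun y hy => by
        refine (H.thF_eq_iff (hP hy) (hP (autFun_mem α hy))).mp ?_
        have := hth m y hy
        rw [hαm, htm, cj_one] at this
        exact this.symm
      rw [hα1, autFun_one hx, inv_mul_cancel]
      exact one_mem _
    refine hne ((Subgroup.eq_bot_iff_forall _).mpr fun y _ => ?_)
    obtain ⟨x, hx, rfl⟩ := H.exists_thF (Subgroup.mem_top y)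
    have hx1 : x = 1 := Subgroup.mem_bot.mp (hS1 (hhyp.ge hx))
    rw [hx1, thF_one]

/-- Constrained systems are those without components. -/
theorem constrained_iff_no_component (hS : IsPGroup p S) (hF : F.IsSaturated p) :
    F.IsConstrained p ↔ ¬ ∃ (T : Subgroup Ω) (C : FusionSystem T), C.IsComponentIn F p := by
  refine ⟨?_, fun h => by_contra fun hnc => h (exists_component_of_not_constrained hS hF hnc)⟩
  rintro hc ⟨T, C, hsub, hq⟩
  have hTS := subnormal_le hsub
  have : Finite T := finite_of_le hTS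
  exact quasisimple_not_constrained (isPGroup_of_le hTS hS) hq
    (subnormal_constrained hsub hp inferInstance hS hc)

end CfsgLib.Fusion
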