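import Mathlib
import Cfsg.Agent.Lib.Fusion.NormalCentralizerClosed

/-!
# Controlling a normal subsystem by lifts of its automorphisms
-/

set_option autoImplicit false
set_option linter.unusedSectionVars false
set_option maxHeartbeats 1000000

namespace CfsgLib.Fusion

open Cfsg Cfsg.FusionSystem

variable {Ω : Type*} [Group Ω] {S T : Subgroup Ω} {F : FusionSystem S} {E : FusionSystem T}
  {p : ℕ} [hp : Fact p.Prime] [Finite S]

/-- A normal subsystem lies in `Es` as soon as its liftable automorphisms of order prime to `p` do. -/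
theorem le_of_lifts (hS : IsPGroup p S) (hF : F.IsSaturated p) (hE : E.IsNormalIn F p)
    (Es : FusionSystem T)
    (hlift : ∀ Q : Subgroup Ω, (Q = T ∨ E.IsEssential p Q) → E.IsCentric Q →
      E.IsFullyNormalized Q →
      ∀ (R' : Subgroup Ω) (h : Ω → Ω), F.IsFullyNormalized R' →
        IsMor F (normalizerIn S Q) h → img Q h = R' →
        ∀ k ∈ E.autGroup Q, (orderOf k).Coprime p →
          ∀ b ∈ F.autGroup (R' ⊔ centralizerIn S R'),
            (∀ x ∈ Q, autFun b (h x) = h (autFun k x)) →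
            (∀ c ∈ centralizerIn S R', c⁻¹ * autFun b c ∈ R') → k ∈ Es.autGroup Q) :
    E ≤ Es := by
  have hinv := strongInv_of_isNormalIn hS hF hE
  obtain ⟨⟨hEs, -, hsub, hT, -⟩, hext⟩ := hE
  have hTS := hT.1
  have hsc := (stronglyClosed_iff.mp hT).2
  have hSN := stronglyClosed_le_normalizer hT
  have hTp : IsPGroup p T := isPGroup_of_le hTS hS
  have : Finite T := finite_of_le hTS
  suffices hAut : ∀ n (Q : Subgroup Ω), Nat.card T - Nat.card Q = n →
      (Q = T ∨ E.IsEssential p Q) → E.autGroup Q ≤ Es.autGroup Q from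
    alperin hTp hEs fun Q hQ => hAut _ Q rfl hQ
  intro n
  induction n using Nat.strong_induction_on with
  | _ n ih =>
  intro Q hn hQ
  subst hn
  obtain ⟨hQc, hQn⟩ : E.IsCentric Q ∧ E.IsFullyNormalized Q := by
    rcases hQ with rfl | hQ
    · exact ⟨centric_self E, isFullyNormalized_self E⟩
    · exact ⟨hQ.1, hQ.2.1⟩
  have habove : ∀ P f, IsMor E P f → Nat.card Q < Nat.card P → IsMor Es P f :=
    alperin_above (Nat.card Q) hTp hEs fun P hm hP => ih _ (by
      have h1 : Nat.card P ≤ Nat.card T :=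
        Subgroup.card_le_of_le (hP.elim (fun e => e.le) essential_le)
      omega) P rfl hP
  have hQT := hQc.1
  have hQS := hQT.trans hTS
  obtain ⟨R', hQR', hR'n⟩ := exists_fullyNormalized F hQS
  obtain ⟨h, hh, hhi, hhN⟩ := exists_map_fullyNormalized hS hF hR'n hQR'
  have hQN : Q ≤ normalizerIn S Q := le_normalizerIn hQS
  have hhQ := hh.restrict hQN
  have hR'c : E.IsCentric R' := hhi ▸ centric_img_of_invariant hS hF hsub hT hinv hQc hhQ
  have hR'T := hR'c.1
  have hR'S := hR'T.trans hTS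
  have hCQ : Q ⊔ centralizerIn S T ≤ normalizerIn S Q :=
    sup_le hQN ((centralizerIn_anti hQT).trans centralizerIn_le_normalizerIn)
  set C' := centralizerIn S R' with hC'def
  have hR'M : R' ≤ R' ⊔ C' := le_sup_left
  have hC'M : C' ≤ R' ⊔ C' := le_sup_right
  have hMS : R' ⊔ C' ≤ S := sup_le hR'S centralizerIn_le
  have := finite_mulAut hMS
  have := finite_mulAut hQS
  have hhR : ∀ x ∈ Q, h x ∈ R' := fun x hx => hhi ▸ mem_img_of_mem h hx
  let Lift : MulAut Q → MulAut ↥(R' ⊔ C') → Prop := fun α β =>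
    β ∈ F.autGroup (R' ⊔ C') ∧ (∀ x ∈ Q, autFun β (h x) = h (autFun α x)) ∧
      ∀ c ∈ C', c⁻¹ * autFun β c ∈ R'
  have hLR : ∀ α β, Lift α β → ∀ r ∈ R', autFun β r ∈ R' := fun α β hl r hr => by
    obtain ⟨x, hx, rfl⟩ := hhQ.mem_img.mp (hhi.ge hr)
    rw [hl.2.1 x hx]; exact hhR _ (autFun_mem α hx)
  have hL1 : Lift 1 1 := ⟨one_mem _, fun x hx => by
      rw [autFun_one hx, autFun_one (hR'M (hhR x hx))], fun c hc => by
      rw [autFun_one (hC'M hc), inv_mul_cancel]; exact one_mem _⟩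
  have hLmul : ∀ a a' b b', Lift a b → Lift a' b' → Lift (a * a') (b * b') := by
    intro a a' b b' hl hl'
    refine ⟨Subgroup.mul_mem _ hl.1 hl'.1, fun x hx => ?_, fun c hc => ?_⟩
    · rw [autFun_mul _ _ (hR'M (hhR x hx)), hl'.2.1 x hx, hl.2.1 _ (autFun_mem a' hx),
        autFun_mul _ _ hx]
    · have hd := hl'.2.2 c hc
      have e : autFun b' c = c * (c⁻¹ * autFun b' c) := (mul_inv_cancel_left _ _).symm
      rw [autFun_mul _ _ (hC'M hc), e, autFun_map_mul b (hC'M hc) (hR'M hd), ← mul_assoc]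
      exact R'.mul_mem (hl.2.2 c hc) (hLR a b hl _ hd)
  have hLinv : ∀ a b, Lift a b → Lift a⁻¹ b⁻¹ := by
    intro a b hl
    have h1 : ∀ x ∈ Q, autFun b⁻¹ (h x) = h (autFun a⁻¹ x) := fun x hx => by
      conv_lhs => rw [← autFun_inv_right a hx, ← hl.2.1 _ (autFun_mem a⁻¹ hx)]
      exact autFun_inv_left b (hR'M (hhR _ (autFun_mem a⁻¹ hx)))
    refine ⟨Subgroup.inv_mem _ hl.1, h1, fun c hc => ?_⟩
    have hd := hl.2.2 c hc
    obtain ⟨x, hx, hxe⟩ := hhQ.mem_img.mp (hhi.ge hd)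
    have hd' : autFun b⁻¹ (c⁻¹ * autFun b c) ∈ R' := by
      rw [← hxe, h1 x hx]; exact hhR _ (autFun_mem _ hx)
    rw [autFun_map_mul b⁻¹ (Subgroup.inv_mem _ (hC'M hc)) (autFun_mem b (hC'M hc)),
      autFun_inv_map b⁻¹ (hC'M hc), autFun_inv_left b (hC'M hc)] at hd'
    have := R'.inv_mem hd'
    rwa [mul_inv_rev, inv_inv] at this
  let K : Subgroup (MulAut Q) :=
    { carrier := {α | α ∈ E.autGroup Q ∧ ∃ β, Lift α β}
      one_mem' := ⟨one_mem _, 1, hL1⟩
      mul_mem' := fun {a a'} ha ha' => by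
        obtain ⟨b, hb⟩ := ha.2
        obtain ⟨b', hb'⟩ := ha'.2
        exact ⟨Subgroup.mul_mem _ ha.1 ha'.1, _, hLmul a a' b b' hb hb'⟩
      inv_mem' := fun {a} ha => by
        obtain ⟨b, hb⟩ := ha.2
        exact ⟨Subgroup.inv_mem _ ha.1, _, hLinv a b hb⟩ }
  have hKA : K ≤ E.autGroup Q := fun a ha => ha.1
  have hKn : ∀ a ∈ E.autGroup Q, ∀ k ∈ K, a * k * a⁻¹ ∈ K := by
    intro a ha k hk
    refine ⟨Subgroup.mul_mem _ (Subgroup.mul_mem _ ha hk.1) (Subgroup.inv_mem _ ha), ?_⟩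
    obtain ⟨b, hb⟩ := hk.2
    obtain ⟨e, he, heA, -⟩ := exists_transport hhQ hhi
    have hea := (heA a).mp (autGroup_mono hsub ha)
    obtain ⟨g, hg, hge, hgC⟩ := exists_map_centralizer (isFullyAutomized_of_normalized hS hF hR'n).2
      (isMor_autFun hR'S hea) (img_autFun (e a))
    have hgM : img (R' ⊔ C') g = R' ⊔ C' := by
      have hg' : IsMor F (R' ⊔ C') g := sup_comm C' R' ▸ hg
      refine hg'.img_eq_self fun y hy => ?_
      have h1 := mem_img_of_mem g hy
      rw [hg'.img_sup, img_congr hge, img_autFun] at h1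
      exact sup_le_sup_left hgC R' h1
    obtain ⟨γ, hγ, hγe⟩ := exists_aut (sup_comm C' R' ▸ hg : IsMor F (R' ⊔ C') g) hgM
    have hγh : ∀ x ∈ Q, autFun γ (h x) = h (autFun a x) := fun x hx => by
      rw [hγe _ (hR'M (hhR x hx)), hge _ (hhR x hx), he a x hx]
    have hγhi : ∀ x ∈ Q, autFun γ⁻¹ (h x) = h (autFun a⁻¹ x) := fun x hx => by
      conv_lhs => rw [← autFun_inv_right a hx, ← hγh _ (autFun_mem a⁻¹ hx)]
      exact autFun_inv_left γ (hR'M (hhR _ (autFun_mem a⁻¹ hx)))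
    refine ⟨γ * b * γ⁻¹, Subgroup.mul_mem _ (Subgroup.mul_mem _ hγ hb.1) (Subgroup.inv_mem _ hγ),
      fun x hx => ?_, fun c hc => ?_⟩
    · rw [autFun_mul _ _ (hR'M (hhR x hx)), autFun_mul _ _ (autFun_mem γ⁻¹ (hR'M (hhR x hx))),
        hγhi x hx, hb.2.1 _ (autFun_mem a⁻¹ hx), hγh _ (autFun_mem k (autFun_mem a⁻¹ hx)),
        autFun_mul _ _ hx, autFun_mul _ _ (autFun_mem a⁻¹ hx)]
    · have hC'i : img C' (autFun γ) = C' := ((isMor_autFun hMS hγ).restrict hC'M).img_eq_self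
        fun y hy => hγe y (hC'M hy) ▸ hgC (mem_img_of_mem g hy)
      obtain ⟨c', hc', rfl⟩ := ((isMor_autFun hMS hγ).restrict hC'M).mem_img.mp (hC'i.ge hc)
      have hd := hb.2.2 c' hc'
      rw [autFun_mul _ _ (autFun_mem γ (hC'M hc')), autFun_mul _ _ (autFun_mem _ (autFun_mem γ (hC'M hc'))),
        autFun_inv_left γ (hC'M hc'), ← autFun_inv_map γ (hC'M hc'),
        ← autFun_map_mul γ (Subgroup.inv_mem _ (hC'M hc')) (autFun_mem b (hC'M hc'))]
      obtain ⟨x, hx, hxe⟩ := hhQ.mem_img.mp (hhi.ge hd)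
      rw [← hxe, hγh x hx]
      exact hhR _ (autFun_mem a hx)
  have hinner : autInducedBy T Q ≤ K := by
    intro α hα
    obtain ⟨t, ht, htn, hte⟩ := mem_autInducedBy.mp hα
    have htN : t ∈ normalizerIn S Q := mem_normalizerIn.mpr ⟨hTS ht, htn⟩
    have hht : h t ∈ T := hsc _ h hh t htN ht
    obtain ⟨-, hhtn⟩ := mem_normalizerIn.mp (hhN (mem_img_of_mem h htN))
    have hconj : ∀ c ∈ C', cj (h t) c ∈ C' ∧ c⁻¹ * cj (h t) c ∈ R' := by
      intro c hc
      obtain ⟨hcS, hcc⟩ := mem_centralizerIn.mp hc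
      have h1 : cj (h t) c ∈ C' := by
        refine mem_centralizerIn.mpr
          ⟨S.mul_mem (S.mul_mem (hTS hht) hcS) (S.inv_mem (hTS hht)), fun y hy => ?_⟩
        have hy' : cj (h t)⁻¹ y ∈ R' :=
          (Subgroup.mem_normalizer_iff.mp (Subgroup.inv_mem _ hhtn) y).mp hy
        show cj (h t * c * (h t)⁻¹) y = y
        rw [cj_mul, cj_mul, hcc _ hy', cj_cj_inv]
      refine ⟨h1, centric_centralizer_le hR'c (mem_centralizerIn.mpr ⟨?_, fun y hy => ?_⟩)⟩
      · rw [show c⁻¹ * cj (h t) c = (c⁻¹ * h t * c⁻¹⁻¹) * (h t)⁻¹ by rw [cj_apply, inv_inv]; group]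
        exact T.mul_mem ((Subgroup.mem_normalizer_iff.mp (Subgroup.inv_mem _ (hSN hcS)) (h t)).mp hht)
          (T.inv_mem hht)
      · rw [cj_mul, (mem_centralizerIn.mp h1).2 y hy,
          (mem_centralizerIn.mp (C'.inv_mem hc)).2 y hy]
    have htM : h t ∈ Subgroup.normalizer ((R' ⊔ C' : Subgroup Ω) : Set Ω) := by
      have hle : R' ⊔ C' ≤ (R' ⊔ C').comap (MulAut.conj (h t)).toMonoidHom := sup_le
        (fun r hr => Subgroup.mem_sup_left ((Subgroup.mem_normalizer_iff.mp hhtn r).mp hr))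
        (fun c hc => Subgroup.mem_sup_right (hconj c hc).1)
      have : Finite ↥(R' ⊔ C') := finite_of_le hMS
      exact Subgroup.mem_normalizer_fintype fun u hu => hle hu
    obtain ⟨β, hβ, hβe⟩ := exists_autInducedBy (K := S) (hTS hht) htM
    refine ⟨autInducedBy_le E hQT hα, β, autInducedBy_le F hMS hβ, fun x hx => ?_, fun c hc => ?_⟩
    · rw [hβe _ (hR'M (hhR x hx)), hte x hx, cj_apply (h t)]
      exact (hh.map_conj htN (hQN hx)).symm
    · rw [hβe c (hC'M hc)]; exact (hconj c hc).2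
  have hsyl := (isFullyAutomized_iff.mp (isFullyAutomized_of_normalized hTp hEs hQn).1).2
  have hsylK : IsSylIn p (autInducedBy T Q) K :=
    ⟨hinner, hsyl.2.1, fun C hC hle hCK => hsyl.2.2 C hC hle (hCK.trans hKA)⟩
  have hKEs : K ≤ Es.autGroup Q := by
    obtain ⟨P₀, hP₀⟩ := (exists_sylow_iff hinner).mpr hsylK
    have htop := CfsgLib.Transfer.sup_pResidual_eq_top P₀
    have hle : (P₀ : Subgroup K) ⊔ pResidual p K ≤ (Es.autGroup Q).subgroupOf K := by
      refine sup_le (fun r hr => ?_) ((Subgroup.closure_le _).mpr fun r hr => ?_)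
      · rw [hP₀] at hr
        exact autInducedBy_le Es hQT hr
      obtain ⟨k, hk⟩ := r
      have hkc : (orderOf k).Coprime p := by
        have : orderOf k = orderOf (⟨k, hk⟩ : K) := (Subgroup.orderOf_mk k hk).symm
        rw [this]; exact hr
      obtain ⟨hkE, b, hb⟩ := hk
      exact hlift Q hQ hQc hQn R' h hR'n hh hhi k hkE hkc b hb.1 hb.2.1 hb.2.2
    intro α hα
    exact hle (htop ▸ Subgroup.mem_top (⟨α, hα⟩ : K))
  intro α hα
  rcases eq_or_lt_of_le hQT with e | hlt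
  · refine hKEs ⟨hα, ?_⟩
    subst e
    obtain rfl : R' = Q := hhi.symm.trans (hhQ.img_eq_self fun x hx => hsc _ h hhQ x hx hx)
    obtain ⟨α', hα', hα'e⟩ := exists_transport_inv hinv hhQ hhi le_rfl le_rfl hα
    obtain ⟨β, hβ, hβx, hβc⟩ := hext α' hα'
    refine ⟨β, hβ, fun x hx => ?_, fun c hc => ?_⟩
    · rw [← hα'e x hx, autFun_of_mem β (hR'M (hhR x hx)), autFun_of_mem α' (hhR x hx)]
      exact hβx ⟨h x, hhR x hx⟩
    · rw [autFun_of_mem β (hC'M hc)]
      exact (Subgroup.mem_inf.mp (hβc ⟨c, hC'M hc⟩ hc)).1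
  obtain ⟨k, hk, hkc⟩ := hsylK.exists_conj_le (C := (autInducedBy T Q).map (MulAut.conj α).toMonoidHom)
    (hsylK.2.1.map _) (by
      rintro _ ⟨c, hc, rfl⟩
      exact hKn α hα c (hinner hc))
  have hnE : k * α ∈ E.autGroup Q := Subgroup.mul_mem _ (hKA hk) hα
  have hN : normalizerIn T Q ≤ nExt T Q (autFun (k * α)) := by
    intro t ht
    obtain ⟨htT, htn⟩ := mem_normalizerIn.mp ht
    obtain ⟨c, hc, hce⟩ := exists_autInducedBy htT htn
    obtain ⟨u, hu, -, hue⟩ := mem_autInducedBy.mp (hkc _ ⟨c, hc, rfl⟩)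
    refine ⟨htT, htn, u, hu, (mul_conj_aut (α := k * α) hce hue).mp ?_⟩
    simp [mul_assoc]
  obtain ⟨g, hg, hge⟩ := (isReceptive_iff.mp (isFullyAutomized_of_normalized hTp hEs hQn).2).2 Q _
    (isMor_autFun hQT hnE) (img_autFun (k * α))
  have hgN := hg.restrict hN
  have hlt' := normalizerIn_gt hTp hlt
  have hnEs : k * α ∈ Es.autGroup Q := (autGroup_eq_set hQT _).mpr
    (((habove _ g hgN (card_lt_of_lt (normalizerIn_le.trans hTS) hlt')).restrict hlt'.le).congr hge)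
  have := Subgroup.mul_mem _ (Subgroup.inv_mem _ (hKEs hk)) hnEs
  rwa [inv_mul_cancel_left] at this

end CfsgLib.Fusion
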