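import Mathlib
import Cfsg.Agent.Lib.Fusion.NormalLifts
import Cfsg.Agent.Lib.Fusion.Components
import Cfsg.Agent.S5097

/-!
# Components centralize the core
-/

set_option autoImplicit false
set_option linter.unusedSectionVars false

namespace CfsgLib.Fusion

open Cfsg Cfsg.FusionSystem

universe u

variable {Ω : Type u} [Group Ω] {S : Subgroup Ω} [Finite S] {F : FusionSystem S}
  {p : ℕ} [hp : Fact p.Prime]

theorem exists_coprime_ppow' {M : Type*} [Group M] [Finite M] (δ : M) :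
    ∃ a : ℕ, (orderOf (δ ^ p ^ a)).Coprime p := by
  obtain ⟨a, c, hc', hn'⟩ := Nat.exists_eq_pow_mul_and_not_dvd (orderOf_pos δ).ne' p hp.out.ne_one
  refine ⟨a, ?_⟩
  rw [orderOf_pow_of_dvd (pow_ne_zero a hp.out.ne_zero) (hn' ▸ dvd_mul_right _ _), hn',
    Nat.mul_div_cancel_left _ (pow_pos hp.out.pos a)]
  exact (Nat.Coprime.symm ((hp.out.coprime_iff_not_dvd).mpr hc'))

theorem mem_of_pow_coprime_exp {M : Type*} [Group M] {C : Subgroup M} {x : M} {a b : ℕ}
    (h : Nat.Coprime a b) (ha : x ^ a ∈ C) (hb : x ^ b ∈ C) : x ∈ C := by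
  have e : (1 : ℤ) = (a : ℤ) * Nat.gcdA a b + (b : ℤ) * Nat.gcdB a b := by
    rw [← Nat.gcd_eq_gcd_ab, h]
    rfl
  rw [← zpow_one x, e, zpow_add, zpow_mul, zpow_mul, zpow_natCast, zpow_natCast]
  exact C.mul_mem (C.zpow_mem ha _) (C.zpow_mem hb _)

/-- The centralizer system of a normal subgroup is a normal subsystem. -/
theorem centralizerSystem_isNormalIn (hS : IsPGroup p S) (hF : F.IsSaturated p) {Q : Subgroup Ω}
    (hQ : F.IsNormal Q) {D : FusionSystem (centralizerIn S Q)} (hD : F.IsCentralizerSystem Q D) :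
    D.IsNormalIn F p := by
  obtain ⟨hQS, hQext⟩ := isNormal_iff.mp hQ
  obtain ⟨-, hQsc⟩ := stronglyClosed_iff.mp (isNormal_stronglyClosed hQ)
  have hKS : (centralizerIn S Q) ≤ S := centralizerIn_le
  have : Finite (centralizerIn S Q) := finite_of_le hKS
  have hQn : F.IsFullyNormalized Q := by
    refine ⟨hQS, fun R hR => ?_⟩
    obtain ⟨f, hf, hfi⟩ := isConj_iff.mp hR
    rw [← hfi, hf.img_eq_self fun x hx => hQsc Q f hf x hx hx]
  have hDs := centralizerSystem_isSaturated hS hF (isFullyCentralized_of_normalized hS hF hQn) hD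
  have hDF : D.IsSubsystemOf F :=
    le_iff_isMor.mpr fun P f hf => ((isMor_centralizerSystem hD).mp hf).1
  -- maps stabilizing `Q` preserve centralizing `Q`
  have hcent : ∀ {X : Subgroup Ω} {g : Ω → Ω}, IsMor F (X ⊔ Q) g → img Q g = Q →
      ∀ x ∈ X, x ∈ (centralizerIn S Q) → g x ∈ (centralizerIn S Q) := by
    intro X g hg hgQ x hx hxK
    refine mem_centralizerIn.mpr ⟨hg.mem (Subgroup.mem_sup_left hx), fun y hy => ?_⟩
    obtain ⟨q, hq, rfl⟩ := (hg.restrict le_sup_right).mem_img.mp (hgQ.ge hy)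
    rw [cj_apply, ← hg.map_conj (Subgroup.mem_sup_left hx) (Subgroup.mem_sup_right hq)]
    exact congrArg g ((mem_centralizerIn.mp hxK).2 q hq)
  have hKsc : F.StronglyClosed (centralizerIn S Q) := stronglyClosed_iff.mpr ⟨hKS, fun P f hf x hxP hxK => by
    obtain ⟨g, hg, hgf, hgQ⟩ := hQext P f hf
    exact hgf x hxP ▸ hcent hg hgQ x hxP hxK⟩
  have hinv : StrongInv D F := by
    intro P Q' f g hPQ hQK hf hfQ hg
    obtain ⟨-, hPK, -, f₁, hf₁, hf₁f, hf₁Q⟩ := (isMor_centralizerSystem hD).mp hf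
    obtain ⟨g₁, hg₁, hg₁g, hg₁Q⟩ := hQext Q' g hg
    have hgP := hg₁.restrict (sup_le_sup_right hPQ Q)
    obtain ⟨g₂, hg₂, hg₂l, -, hg₂i⟩ := hgP.inverse
    have hsrc : img P g ⊔ Q = img (P ⊔ Q) g₁ := by
      rw [hgP.img_sup, hg₁Q, img_congr fun x hx => hg₁g x (hPQ hx)]
    have hfm : ∀ x ∈ P ⊔ Q, f₁ x ∈ Q' ⊔ Q := fun x hx => by
      have h1 := mem_img_of_mem f₁ hx
      rw [hf₁.img_sup, img_congr hf₁f, img_congr (P := Q) (g := id) hf₁Q, img_id] at h1
      exact sup_le_sup_right (img_le hfQ) Q h1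
    have hc := (hg₂.comp hf₁ fun x hx => hg₂i ▸ mem_img_of_mem g₂ hx).comp hg₁ fun x hx =>
      hfm _ (hg₂i ▸ mem_img_of_mem g₂ hx)
    rw [← hsrc] at hc
    have hval : ∀ x ∈ P, (g₁ ∘ (f₁ ∘ g₂)) (g x) = g (f x) := fun x hx => by
      show g₁ (f₁ (g₂ (g x))) = _
      conv_lhs => rw [← hg₁g x (hPQ hx), hg₂l x (Subgroup.mem_sup_left hx), hf₁f x hx]
      exact hg₁g _ (hfQ x hx)
    have hgK : ∀ x ∈ Q', g x ∈ (centralizerIn S Q) := fun x hx =>
      hg₁g x hx ▸ hcent hg₁ hg₁Q x hx (hQK hx)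
    refine ⟨g₁ ∘ (f₁ ∘ g₂), (isMor_centralizerSystem hD).mpr ⟨hc.restrict le_sup_left,
      img_le fun x hx => hgK x (hPQ hx), fun y hy => ?_, _, hc, fun _ _ => rfl, fun y hy => ?_⟩,
      hval⟩
    · obtain ⟨x, hx, rfl⟩ := (hg.restrict hPQ).mem_img.mp hy
      rw [hval x hx]
      exact hgK _ (hfQ x hx)
    · obtain ⟨q, hq, rfl⟩ := (hg₁.restrict le_sup_right).mem_img.mp (hg₁Q.ge hy)
      show g₁ (f₁ (g₂ (g₁ q))) = g₁ q
      rw [hg₂l q (Subgroup.mem_sup_right hq), hf₁Q q hq]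
  refine ⟨⟨hDs, hF, (Cfsg.Agent.S5119.result p hS F hF D hDF hKsc).mpr (strongInv_iff.mp hinv)⟩,
    fun α hα => ?_⟩
  -- the extension condition
  have hQC' : Q ≤ (centralizerIn S (centralizerIn S Q)) := fun q hq => mem_centralizerIn.mpr ⟨hQS hq, fun c hc => by
    have h1 := (mem_centralizerIn.mp hc).2 q hq
    rw [cj_apply, cj_fixed_iff] at h1 ⊢
    exact h1.symm⟩
  obtain ⟨-, -, -, g, hg, hge, hgQ⟩ :=
    (isMor_centralizerSystem hD).mp (isMor_autFun le_rfl hα)
  set X := (centralizerIn S Q) ⊔ Q with hXdef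
  have hXS : X ≤ S := sup_le hKS hQS
  have : Finite X := finite_of_le hXS
  have hgi : img X g = X := by
    rw [hXdef, hg.img_sup, img_congr hge, img_congr (P := Q) (g := id) hgQ, img_id, img_autFun]
  have hXn : F.IsFullyNormalized X := by
    refine ⟨hXS, fun R hR => ?_⟩
    obtain ⟨f, hf, hfi⟩ := isConj_iff.mp hR
    have e1 : img ((centralizerIn S Q) ⊔ Q) f = (centralizerIn S Q) ⊔ Q := by
      rw [hf.img_sup,
        (hf.restrict le_sup_left).img_eq_self fun x hx =>
          (stronglyClosed_iff.mp hKsc).2 _ f hf x (Subgroup.mem_sup_left hx) hx,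
        (hf.restrict le_sup_right).img_eq_self fun x hx =>
          hQsc _ f hf x (Subgroup.mem_sup_right hx) hx]
    rw [← hfi, hXdef, e1]
  obtain ⟨G, hG, hGe⟩ :=
    (isReceptive_iff.mp (isFullyAutomized_of_normalized hS hF hXn).2).2 X g hg hgi
  have hSQ := stronglyClosed_le_normalizer (isNormal_stronglyClosed hQ)
  have hC'n : (centralizerIn S (centralizerIn S Q)) ≤ nExt S X g := by
    intro s hs
    obtain ⟨hsS, hsK⟩ := mem_centralizerIn.mp hs
    have hXm : ∀ x ∈ X, cj s x ∈ X := by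
      have : X ≤ X.comap (MulAut.conj s).toMonoidHom := sup_le
        (fun y hy => Subgroup.mem_sup_left (show cj s y ∈ (centralizerIn S Q) from (hsK y hy).symm ▸ hy))
        (fun q hq => Subgroup.mem_sup_right ((Subgroup.mem_normalizer_iff.mp (hSQ hsS) q).mp hq))
      exact fun x hx => this hx
    refine ⟨hsS, Subgroup.mem_normalizer_fintype fun u hu => hXm u hu, s, hsS, fun x hx => ?_⟩
    have hcs := isMor_cj F (P := X) hXS hsS
    refine eqOn_sup (hcs.comp hg hXm) (hg.comp hcs fun z hz => hgi ▸ mem_img_of_mem g hz)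
      (fun y hy => ?_) (fun q hq => ?_) x hx
    · show g (cj s y) = cj s (g y)
      rw [hsK y hy, hge y hy, hsK _ (autFun_mem α hy)]
    · show g (cj s q) = cj s (g q)
      rw [hgQ q hq]
      exact hgQ _ ((Subgroup.mem_normalizer_iff.mp (hSQ hsS) q).mp hq)
  have hG' : IsMor F ((centralizerIn S Q) ⊔ (centralizerIn S (centralizerIn S Q))) G :=
    hG.restrict (sup_le (le_sup_left.trans (le_nExt hg)) hC'n)
  have hGK : ∀ y ∈ (centralizerIn S Q), G y = autFun α y := fun y hy => by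
    rw [hGe y (Subgroup.mem_sup_left hy), hge y hy]
  have hGQ : ∀ q ∈ Q, G q = q := fun q hq => by
    rw [hGe q (Subgroup.mem_sup_right hq), hgQ q hq]
  have hGC' : ∀ c ∈ (centralizerIn S (centralizerIn S Q)), G c ∈ (centralizerIn S (centralizerIn S Q)) := fun c hc => mem_centralizerIn.mpr
    ⟨hG'.mem (Subgroup.mem_sup_right hc), fun y hy => by
      have hy' := autFun_mem α⁻¹ hy
      conv_lhs => rw [← autFun_inv_right α hy, ← hGK _ hy']
      rw [cj_apply, ← hG'.map_conj (Subgroup.mem_sup_right hc) (Subgroup.mem_sup_left hy'),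
        show c * autFun α⁻¹ y * c⁻¹ = autFun α⁻¹ y from (mem_centralizerIn.mp hc).2 _ hy',
        hGK _ hy', autFun_inv_right α hy]⟩
  have hGM : img ((centralizerIn S Q) ⊔ (centralizerIn S (centralizerIn S Q))) G = (centralizerIn S Q) ⊔ (centralizerIn S (centralizerIn S Q)) := by
    have : Finite ↥((centralizerIn S Q) ⊔ (centralizerIn S (centralizerIn S Q))) := finite_of_le hG'.le
    refine hG'.img_eq_self fun z hz => ?_
    have h1 := mem_img_of_mem G hz
    rw [hG'.img_sup, img_congr hGK, img_autFun] at h1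
    exact sup_le_sup_left (img_le hGC') (centralizerIn S Q) h1
  obtain ⟨β, hβ, hβe⟩ := exists_aut hG' hGM
  refine ⟨β, hβ, fun x => ?_, fun c hc => ?_⟩
  · rw [← autFun_coe β, ← autFun_coe α]
    exact (hβe _ (Subgroup.mem_sup_left x.2)).trans (hGK x x.2)
  · rw [← autFun_coe β c, hβe c c.2]
    have hd : (c : Ω)⁻¹ * G c ∈ (centralizerIn S (centralizerIn S Q)) := (centralizerIn S (centralizerIn S Q)).mul_mem ((centralizerIn S (centralizerIn S Q)).inv_mem hc) (hGC' c hc)
    refine Subgroup.mem_inf.mpr ⟨mem_centralizerIn.mpr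
      ⟨(mem_centralizerIn.mp hd).1, fun q hq => ?_⟩, hd.2⟩
    have hm : cj (c : Ω) q ∈ Q :=
      (Subgroup.mem_normalizer_iff.mp (hSQ (centralizerIn_le hc)) q).mp hq
    have h1 : G (c * q * (c : Ω)⁻¹) = c * q * (c : Ω)⁻¹ := hGQ _ hm
    rw [hG'.map_conj (Subgroup.mem_sup_right hc) (Subgroup.mem_sup_right (hQC' hq)),
      hGQ q hq] at h1
    rw [cj_mul]
    show cj (c : Ω)⁻¹ (G c * q * (G c)⁻¹) = q
    rw [h1]
    exact cj_inv_cj _ q

/-- A normal subgroup meets a strongly closed saturated subsystem in a normal subgroup. -/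
theorem isNormal_inf_of_normal (hS : IsPGroup p S) {T : Subgroup Ω} {N : FusionSystem T}
    (hN : N.IsSaturated p) (hsub : N.IsSubsystemOf F) (hT : F.StronglyClosed T)
    {Q : Subgroup Ω} (hQ : F.IsNormal Q) : N.IsNormal (Q ⊓ T) := by
  have hTS := hT.1
  have : Finite T := finite_of_le hTS
  obtain ⟨n, Qs, hQs0, hQsn, -, hQsc, hQcomm⟩ := exists_chain_of_isNormal hS hQ
  refine isNormal_of_chain (isPGroup_of_le hTS hS) hN n (fun i => Qs i ⊓ T) ?_ (by rw [hQsn])
    (fun i _ => ?_) fun i hi => ?_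
  · rw [hQs0, bot_inf_eq]
  · exact stronglyClosed_iff.mpr ⟨inf_le_right, fun P f hf x hxP hx =>
      ⟨(stronglyClosed_iff.mp (hQsc i)).2 P f (le_iff_isMor.mp hsub P f hf) x hxP hx.1,
        hf.mem hxP⟩⟩
  · refine Subgroup.commutator_le.mpr fun a ha b hb =>
      ⟨hQcomm i hi (Subgroup.commutator_mem_commutator ha.1 hb.1), ?_⟩
    exact T.mul_mem (T.mul_mem (T.mul_mem ha.2 hb.2) (T.inv_mem ha.2)) (T.inv_mem hb.2)

/-- A subgroup normal in a quasisimple system is central. -/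
theorem quasisimple_normal_le_center (hS : IsPGroup p S) (hq : F.Quasisimple p) {R : Subgroup Ω}
    (hR : F.IsNormal R) : R ≤ F.center := by
  obtain ⟨hF, hhyp, hsimple⟩ := hq
  set θ := QuotientGroup.mk' (F.center.subgroupOf S) with hθ
  have hker : ∀ s : S, θ s = 1 ↔ (s : Ω) ∈ F.center := fun s =>
    (QuotientGroup.eq_one_iff s).trans Subgroup.mem_subgroupOf
  have hrange : θ.range = ⊤ := MonoidHom.range_eq_top.mpr (QuotientGroup.mk'_surjective _)
  have hcen : F.IsCentral F.center := isCentral_center F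
  have hCsc := isNormal_stronglyClosed (isNormal_of_isCentral hcen)
  obtain ⟨E, hE⟩ := exists_factorSystem hCsc hker hrange
  obtain ⟨hEs, hne, hnor⟩ := hsimple E hE
  have : Finite ↥(⊤ : Subgroup (↥S ⧸ F.center.subgroupOf S)) :=
    Finite.of_equiv _ (Subgroup.topEquiv.symm.toEquiv)
  have hpT : IsPGroup p ↥(⊤ : Subgroup (↥S ⧸ F.center.subgroupOf S)) :=
    (hS.to_quotient _).of_equiv Subgroup.topEquiv.symm
  have H : CLift F F.center θ E
      (innerFusionSystem (⊥ : Subgroup (↥S ⧸ F.center.subgroupOf S))) p :=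
    ⟨hS, hF, hcen, hE, inner_isNormalIn hpT hEs (isNormal_bot E)⟩
  set R₁ := imageAlong θ R with hR₁
  have hR₁n : E.IsNormal R₁ := by
    refine isNormal_iff.mpr ⟨le_top, fun P' f' hf => ?_⟩
    obtain ⟨g, hg, hge⟩ := H.lift hf
    obtain ⟨g₂, hg₂, hg₂e, hg₂R⟩ := (isNormal_iff.mp hR).2 _ g hg
    have hW : F.center ≤ preimageAlong θ P' ⊔ R := (H.W_le_pre P').trans le_sup_left
    obtain ⟨f₂, hf₂, hf₂e⟩ := H.push hg₂ hW
    have h1 : P' ≤ imageAlong θ (preimageAlong θ P' ⊔ R) :=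
      (H.image_pre le_top).ge.trans (imageAlong_mono θ le_sup_left)
    have h2 : R₁ ≤ imageAlong θ (preimageAlong θ P' ⊔ R) := imageAlong_mono θ le_sup_right
    refine ⟨f₂, hf₂.restrict (sup_le h1 h2), fun y hy => ?_, ?_⟩
    · obtain ⟨x, hx, rfl⟩ := H.exists_thF (Subgroup.mem_top y)
      have hxp : x ∈ preimageAlong θ P' := (mem_preimageAlong_thF θ).mpr ⟨hx, hy⟩
      rw [hf₂e x (Subgroup.mem_sup_left hxp), hge x hxp, hg₂e x hxp]
    · have h3 := hf₂.restrict h2
      refine h3.img_eq_self fun y hy => ?_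
      obtain ⟨x, hx, rfl⟩ := (mem_imageAlong_thF θ hR.1).mp hy
      rw [hf₂e x (Subgroup.mem_sup_right hx)]
      exact thF_mem_imageAlong θ hR.1 (hg₂R ▸ mem_img_of_mem g₂ hx)
  rcases hnor R₁ _ (inner_isNormalIn hpT hEs hR₁n) with hbot | ⟨htop, hall⟩
  · exact fun x hx => (H.thF_eq_one (hR.1 hx)).mp
      (Subgroup.mem_bot.mp (hbot.le (thF_mem_imageAlong θ hR.1 hx)))
  · -- the quotient would be constrained
    exfalso
    have hEc : E.IsConstrained p := by
      refine ⟨hEs, R₁, hR₁n, hR₁n.1, fun U hU => ?_⟩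
      obtain ⟨f, hf, rfl⟩ := isConj_iff.mp hU
      rw [hf.img_eq_self fun x hx =>
        (stronglyClosed_iff.mp (isNormal_stronglyClosed hR₁n)).2 _ f hf x hx hx]
      exact centralizerIn_le.trans htop.ge
    -- a simple system over a nontrivial group with inner maps only
    have hS1 : F.hyperfocalSubgroup p ≤ F.center := hyp_le fun P hP α hα hc x hx => by
      obtain ⟨g, hg, hgf, hgW⟩ := (isCentral_iff.mp hcen).2 P _ (isMor_autFun hP hα)
      obtain ⟨g', hg', hge⟩ := H.push hg le_sup_right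
      obtain ⟨-, t, -, hte⟩ := isMor_inner.mp ((hom_eq_iff.mp (hall _) g').mpr hg')
      have hth : ∀ n : ℕ, ∀ y ∈ P, thF θ (autFun (α ^ n) y) = cj (t ^ n) (thF θ y) := by
        intro n
        induction n with
        | zero => intro y hy; rw [pow_zero, pow_zero, autFun_one hy, cj_one]
        | succ n ih =>
          intro y hy
          have hy' := autFun_mem (α ^ n) hy
          rw [pow_succ', pow_succ', autFun_mul _ _ hy, cj_mul, ← ih y hy,
            ← hte _ (thF_mem_imageAlong θ hg.le (Subgroup.mem_sup_left hy')),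
            hge _ (Subgroup.mem_sup_left hy'), hgf _ hy']
      obtain ⟨k, hk⟩ := hpT ⟨t, Subgroup.mem_top t⟩
      have hk' : t ^ p ^ k = 1 := congrArg Subtype.val hk
      obtain ⟨m, hm1, hm2⟩ := Nat.chineseRemainder (hc.pow_right k) 1 0
      have hαm : α ^ m = α := (pow_eq_pow_iff_modEq.mpr hm1).trans (pow_one _)
      have htm : t ^ m = 1 := orderOf_dvd_iff_pow_eq_one.mp
        ((orderOf_dvd_of_pow_eq_one hk').trans (Nat.modEq_zero_iff_dvd.mp hm2))
      refine (H.thF_eq_iff (hP hx) (hP (autFun_mem α hx))).mp ?_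
      have := hth m x hx
      rw [hαm, htm, cj_one] at this
      exact this.symm
    refine hne ((Subgroup.eq_bot_iff_forall _).mpr fun y _ => ?_)
    obtain ⟨x, hx, rfl⟩ := H.exists_thF (Subgroup.mem_top y)
    exact (H.thF_eq_one hx).mpr (hS1 (hhyp.ge hx))

set_option maxHeartbeats 1000000 in
/-- Maps of a normal subsystem extend to a normal subgroup moving it inside the subsystem. -/
theorem exists_ext_moving_in (hS : IsPGroup p S) (hF : F.IsSaturated p) {T : Subgroup Ω}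
    {N : FusionSystem T} (hN : N.IsNormalIn F p) {Q : Subgroup Ω} (hQ : F.IsNormal Q)
    {P : Subgroup Ω} {f : Ω → Ω} (hf : IsMor N P f) :
    ∃ g, IsMor F (P ⊔ Q) g ∧ (∀ x ∈ P, g x = f x) ∧ ∀ q ∈ Q, q⁻¹ * g q ∈ Q ⊓ T := by
  have hinv := strongInv_of_isNormalIn hS hF hN
  obtain ⟨hNs, -, hsub, hT, -⟩ := hN.1
  obtain ⟨hTS, hTsc⟩ := stronglyClosed_iff.mp hT
  obtain ⟨hQS, hQext⟩ := isNormal_iff.mp hQ
  obtain ⟨-, hQsc⟩ := stronglyClosed_iff.mp (isNormal_stronglyClosed hQ)
  have hST := stronglyClosed_le_normalizer hT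
  have hSQ := stronglyClosed_le_normalizer (isNormal_stronglyClosed hQ)
  have hTp : IsPGroup p T := isPGroup_of_le hTS hS
  have : Finite T := finite_of_le hTS
  have : Finite Q := finite_of_le hQS
  set R := Q ⊓ T with hRdef
  have hRn : N.IsNormal R := isNormal_inf_of_normal hS hNs hsub hT hQ
  let Mp : Subgroup Ω → (Ω → Ω) → Prop := fun P f =>
    IsMor N P f ∧ ∃ g, IsMor F (P ⊔ Q) g ∧ (∀ x ∈ P, g x = f x) ∧ ∀ q ∈ Q, q⁻¹ * g q ∈ R
  have hmemQ : ∀ {g : Ω → Ω}, (∀ q ∈ Q, q⁻¹ * g q ∈ R) → ∀ q ∈ Q, g q ∈ Q := fun {g} h q hq => by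
    have := Q.mul_mem hq (h q hq).1
    rwa [mul_inv_cancel_left] at this
  let Es : FusionSystem T := ofPred T Mp (fun P f h => ⟨h.1.le, fun x hx => h.1.mem hx⟩)
    (fun P f h x hx y hy e => h.1.inj hx hy e)
    (fun P f f' ⟨hf, g, hg, hgf, hgQ⟩ e =>
      ⟨hf.congr e, g, hg, fun x hx => (hgf x hx).trans (e x hx), hgQ⟩)
    (fun P t hP ht => by
      refine ⟨isMor_cj N hP ht, cj t, isMor_cj F (sup_le (hP.trans hTS) hQS) (hTS ht),
        fun _ _ => rfl, fun q hq => ⟨Q.mul_mem (Q.inv_mem hq)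
          ((Subgroup.mem_normalizer_iff.mp (hSQ (hTS ht)) q).mp hq), ?_⟩⟩
      rw [show q⁻¹ * cj t q = (q⁻¹ * t * q⁻¹⁻¹) * t⁻¹ by rw [cj_apply, inv_inv]; group]
      exact T.mul_mem ((Subgroup.mem_normalizer_iff.mp (hST (S.inv_mem (hQS hq))) t).mp ht)
        (T.inv_mem ht))
    (fun P P' f k ⟨hf, g, hg, hgf, hgQ⟩ ⟨hk, g', hg', hgk, hgQ'⟩ hfR => by
      refine ⟨hf.comp hk hfR, g' ∘ g, hg.comp hg' ?_, fun x hx => ?_, fun q hq => ?_⟩
      · intro x hx
        have h1 := mem_img_of_mem g hx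
        rw [hg.img_sup, img_congr hgf] at h1
        exact sup_le_sup (img_le hfR) (img_le (hmemQ hgQ)) h1
      · show g' (g x) = k (f x)
        rw [hgf x hx, hgk _ (hfR x hx)]
      · show q⁻¹ * g' (g q) ∈ R
        have := R.mul_mem (hgQ q hq) (hgQ' _ (hmemQ hgQ q hq))
        simpa [mul_assoc] using this)
    (fun P f ⟨hf, g, hg, hgf, hgQ⟩ _ => by
      obtain ⟨fi, hfi, hfl, -, -⟩ := hf.inverse
      obtain ⟨g', hg', hl, -, -⟩ := hg.inverse
      have hQi : img Q g = Q :=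
        (hg.restrict le_sup_right).img_eq_self (hmemQ hgQ)
      have hle : img P f ⊔ Q ≤ img (P ⊔ Q) g := by rw [hg.img_sup, img_congr hgf, hQi]
      refine ⟨fi, ⟨hfi, g', hg'.restrict hle, fun y hy => ?_, fun y hy => ?_⟩, hfl⟩
      · obtain ⟨x, hx, rfl⟩ := hf.mem_img.mp hy
        rw [hfl x hx, ← hgf x hx, hl x (Subgroup.mem_sup_left hx)]
      · obtain ⟨q, hq, rfl⟩ := (hg.restrict le_sup_right).mem_img.mp (hQi.ge hy)
        rw [hl q (Subgroup.mem_sup_right hq)]
        have := R.inv_mem (hgQ q hq)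
        rwa [mul_inv_rev, inv_inv] at this)
  have hEsiff : ∀ P f, IsMor Es P f ↔ Mp P f := fun P f =>
    isMor_ofPred fun h x hx y hy => h.1.map_mul hx hy
  suffices hle : N ≤ Es from ((hEsiff P f).mp (le_iff_isMor.mp hle P f hf)).2
  refine le_of_lifts hS hF hN Es fun P₀ hP₀ hPc hPn R' h hR'n hh hhi k hk hkc b hb hbh hbC => ?_
  have hPT := hPc.1
  have hPS := hPT.trans hTS
  have : Finite (MulAut P₀) := finite_mulAut hPS
  have hRP : R ≤ P₀ := by
    rcases hP₀ with rfl | he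
    · exact inf_le_right
    · exact le_of_normal_of_radical hTp hRn hPc (essential_radical hTp he)
  have hPN : P₀ ≤ normalizerIn S P₀ := le_normalizerIn hPS
  have hQN : Q ≤ normalizerIn S P₀ := fun q hq => by
    refine mem_normalizerIn.mpr ⟨hQS hq, ?_⟩
    have : Finite P₀ := finite_of_le hPS
    refine Subgroup.mem_normalizer_fintype fun x hx => ?_
    show q * x * q⁻¹ ∈ P₀
    have hd : q * x * q⁻¹ * x⁻¹ ∈ R := by
      refine ⟨?_, T.mul_mem ((Subgroup.mem_normalizer_iff.mp (hST (hQS hq)) x).mp (hPT hx))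
        (T.inv_mem (hPT hx))⟩
      rw [show q * x * q⁻¹ * x⁻¹ = q * (x * q⁻¹ * x⁻¹) by group]
      exact Q.mul_mem hq ((Subgroup.mem_normalizer_iff.mp (hSQ (hPS hx)) _).mp (Q.inv_mem hq))
    have := P₀.mul_mem (hRP hd) hx
    rwa [inv_mul_cancel_right] at this
  have hhP := hh.restrict hPN
  have hhQ : img Q h = Q :=
    (hh.restrict hQN).img_eq_self fun x hx => hQsc _ h hh x (hQN hx) hx
  have hR'S : R' ≤ S := hR'n.1
  have hhR : ∀ x ∈ P₀, h x ∈ R' := fun x hx => hhi ▸ mem_img_of_mem h hx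
  have hR'T : R' ≤ T := hhi ▸ img_le fun x hx => hTsc _ h hh x (hPN hx) (hPT hx)
  have hMS : R' ⊔ (centralizerIn S R') ≤ S := sup_le hR'S centralizerIn_le
  obtain ⟨g₀, hg₀, hg₀b, hg₀Q⟩ := hQext _ _ (isMor_autFun hMS hb)
  set W := R' ⊔ (centralizerIn S R') ⊔ Q with hW
  have hgW : img W g₀ = W := by rw [hW, hg₀.img_sup, hg₀Q, img_congr hg₀b, img_autFun]
  obtain ⟨β₀, hβ₀, hβ₀e⟩ := exists_aut hg₀ hgW
  have hWS : W ≤ S := hg₀.le
  have : Finite W := finite_of_le hWS
  have := finite_mulAut hWS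
  obtain ⟨a, ha⟩ := exists_coprime_ppow' (p := p) β₀
  set β := β₀ ^ p ^ a with hβdef
  have hMW : R' ⊔ (centralizerIn S R') ≤ W := le_sup_left
  have hQW : Q ≤ W := le_sup_right
  have hβ : β ∈ F.autGroup W := Subgroup.pow_mem _ hβ₀ _
  have hβm := isMor_autFun hWS hβ
  -- `β` follows `k ^ p ^ a` and `b ^ p ^ a`
  have hβP : ∀ x ∈ P₀, autFun β (h x) = h (autFun (k ^ p ^ a) x) := by
    have key : ∀ n : ℕ, ∀ x ∈ P₀, autFun (β₀ ^ n) (h x) = h (autFun (k ^ n) x) := by
      intro n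
      induction n with
      | zero =>
        intro x hx
        rw [pow_zero, pow_zero, autFun_one hx, autFun_one (hMW (Subgroup.mem_sup_left (hhR x hx)))]
      | succ n ih =>
        intro x hx
        rw [pow_succ', pow_succ', autFun_mul _ _ (hMW (Subgroup.mem_sup_left (hhR x hx))),
          autFun_mul _ _ hx, ih x hx,
          hβ₀e _ (hMW (Subgroup.mem_sup_left (hhR _ (autFun_mem _ hx)))),
          hg₀b _ (Subgroup.mem_sup_left (hhR _ (autFun_mem _ hx))), hbh _ (autFun_mem _ hx)]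
    exact key _
  have hbR : ∀ r ∈ R', autFun b r ∈ R' := fun r hr => by
    obtain ⟨x, hx, rfl⟩ := hhP.mem_img.mp (hhi.ge hr)
    rw [hbh x hx]
    exact hhR _ (autFun_mem k hx)
  have hβC : ∀ c ∈ (centralizerIn S R'), c⁻¹ * autFun β c ∈ R' := by
    intro c hc
    have hbpow : ∀ n : ℕ, c⁻¹ * autFun (b ^ n) c ∈ R' := by
      intro n
      induction n with
      | zero => rw [pow_zero, autFun_one (Subgroup.mem_sup_right hc), inv_mul_cancel]
                exact one_mem _
      | succ n ih =>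
        have e : autFun (b ^ n) c = c * (c⁻¹ * autFun (b ^ n) c) := (mul_inv_cancel_left _ _).symm
        rw [pow_succ', autFun_mul _ _ (Subgroup.mem_sup_right hc), e,
          autFun_map_mul b (Subgroup.mem_sup_right hc) (Subgroup.mem_sup_left ih), ← mul_assoc]
        exact R'.mul_mem (hbC c hc) (hbR _ ih)
    rw [hβdef, autFun_pow_congr hMW (fun y hy => (hβ₀e y (hMW hy)).trans (hg₀b y hy)) _ c
      (Subgroup.mem_sup_right hc)]
    exact hbpow _
  have hβQ : ∀ q ∈ Q, autFun β q ∈ Q :=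
    autFun_pow_mem hQW (fun q hq => by
      rw [hβ₀e q (hQW hq)]
      exact hg₀Q ▸ mem_img_of_mem g₀ hq) _
  have hk' : k ^ p ^ a ∈ N.autGroup P₀ := Subgroup.pow_mem _ hk _
  obtain ⟨e, he, heF, -⟩ := exists_transport hhP hhi
  set A := N.autGroup P₀ with hA
  -- displacements of `β` act as elements of `A`
  let B : Subgroup (MulAut P₀) :=
    { carrier := {γ | γ ∈ A ∧ ∃ d ∈ Q, ∀ x ∈ P₀, h (autFun γ x) = cj d (h x)}
      one_mem' := ⟨one_mem _, 1, one_mem _, fun x hx => by rw [autFun_one hx, cj_one]⟩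
      mul_mem' := by
        rintro γ γ' ⟨hγ, d, hd, hde⟩ ⟨hγ', d', hd', hde'⟩
        refine ⟨Subgroup.mul_mem _ hγ hγ', d * d', Q.mul_mem hd hd', fun x hx => ?_⟩
        rw [autFun_mul _ _ hx, hde _ (autFun_mem γ' hx), hde' x hx, cj_mul]
      inv_mem' := by
        rintro γ ⟨hγ, d, hd, hde⟩
        refine ⟨Subgroup.inv_mem _ hγ, d⁻¹, Q.inv_mem hd, fun x hx => ?_⟩
        conv_rhs => rw [← autFun_inv_right γ hx, hde _ (autFun_mem γ⁻¹ hx), cj_inv_cj] }
  have hBA : B ≤ A := fun γ hγ => hγ.1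
  have hBp : IsPGroup p B := by
    rintro ⟨γ, hγA, d, hd, hde⟩
    obtain ⟨i, hi⟩ := (isPGroup_of_le hQS hS) ⟨d, hd⟩
    have key : ∀ n : ℕ, ∀ x ∈ P₀, h (autFun (γ ^ n) x) = cj (d ^ n) (h x) := by
      intro n
      induction n with
      | zero => intro x hx; rw [pow_zero, pow_zero, autFun_one hx, cj_one]
      | succ n ih =>
        intro x hx
        rw [pow_succ', pow_succ', autFun_mul _ _ hx, hde _ (autFun_mem _ hx), ih x hx, cj_mul]
    refine ⟨i, Subtype.ext (autFun_inj fun x hx => hhP.inj (autFun_mem _ hx) (autFun_mem _ hx) ?_)⟩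
    rw [show ((⟨γ, hγA, d, hd, hde⟩ : B) ^ p ^ i : B).1 = γ ^ p ^ i from rfl, key _ x hx,
      show d ^ p ^ i = 1 from congrArg Subtype.val hi, cj_one]
    rw [show ((1 : B) : MulAut P₀) = 1 from rfl, autFun_one hx]
  have hBn : (B.subgroupOf A).Normal := by
    refine ⟨fun γ hγ σ => ?_⟩
    obtain ⟨hγA, d, hd, hde₀⟩ := hγ
    have hde : ∀ x ∈ P₀, h (autFun (γ : MulAut P₀) x) = cj d (h x) := hde₀
    refine ⟨Subgroup.mul_mem _ (Subgroup.mul_mem _ σ.2 hγA) (Subgroup.inv_mem _ σ.2), ?_⟩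
    have hσF : e σ ∈ F.autGroup R' := (heF σ).mp (autGroup_mono hsub σ.2)
    obtain ⟨g, hg, hge, hgQ⟩ := hQext _ _ (isMor_autFun hR'S hσF)
    refine ⟨g d, hgQ ▸ mem_img_of_mem g hd, fun x hx => ?_⟩
    have hy := autFun_mem (σ : MulAut P₀)⁻¹ hx
    have hdy : cj d (h (autFun (σ : MulAut P₀)⁻¹ x)) ∈ R' := by
      rw [← hde _ hy]; exact hhR _ (autFun_mem _ hy)
    show h (autFun ((σ : MulAut P₀) * (γ : MulAut P₀) * (σ : MulAut P₀)⁻¹) x) = _
    rw [autFun_mul _ _ hx, autFun_mul _ _ hy, ← he _ _ (autFun_mem _ hy), hde _ hy, ← hge _ hdy,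
      cj_apply, hg.map_conj (Subgroup.mem_sup_right hd) (Subgroup.mem_sup_left (hhR _ hy)),
      hge _ (hhR _ hy), he _ _ hy, autFun_inv_right _ hx]
    rfl
  have : Finite A := inferInstance
  obtain ⟨T₀, hT₀⟩ := (exists_sylow_iff (autInducedBy_le N hPT)).mpr
    (isFullyAutomized_iff.mp (isFullyAutomized_of_normalized hTp hNs hPn).1).2
  have hBT : ∀ γ ∈ B, γ ∈ autInducedBy T P₀ := fun γ hγ => by
    have h1 : B.subgroupOf A ≤ (T₀ : Subgroup A) := (CfsgLib.Base.le_pCore (hN := hBn)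
      (hBp.comap_of_injective A.subtype A.subtype_injective)).trans
      (CfsgLib.Base.pCore_le_sylow T₀)
    have h2 := h1 (show (⟨γ, hBA hγ⟩ : A) ∈ B.subgroupOf A from hγ)
    rw [hT₀] at h2
    exact h2
  -- `β` moves `Q` inside `T`
  have hmove : ∀ y ∈ Q, y⁻¹ * autFun β y ∈ T := by
    intro y hy
    set d := y⁻¹ * autFun β y with hd
    have hdQ : d ∈ Q := Q.mul_mem (Q.inv_mem hy) (hβQ y hy)
    -- an element of `A` inducing conjugation by `y`
    obtain ⟨y₁, hy₁, rfl⟩ := (hh.restrict hQN).mem_img.mp (hhQ.ge hy)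
    have hy₁n := hQN hy₁
    obtain ⟨c, hc, hce⟩ := exists_autInducedBy (hQS hy₁) (mem_normalizerIn.mp hy₁n).2
    set k₁ := k ^ p ^ a with hk₁
    have hci : ∀ z ∈ P₀, autFun c⁻¹ z = cj y₁⁻¹ z := fun z hz => by
      conv_rhs => rw [← autFun_inv_right c hz, hce _ (autFun_mem c⁻¹ hz), cj_inv_cj]
    have hconj : c⁻¹ * k₁ * c ∈ A := by
      obtain ⟨k', hk'', hk'e⟩ := hinv P₀ P₀ (autFun k₁) (cj y₁⁻¹) le_rfl hPT
        (isMor_autFun hPT hk') (fun x hx => autFun_mem _ hx) (isMor_cj F hPS (S.inv_mem (hQS hy₁)))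
      rw [img_cj_of_normalizer (Subgroup.inv_mem _ (mem_normalizerIn.mp hy₁n).2)] at hk''
      refine (autGroup_eq_set hPT _).mpr (hk''.congr fun x hx => ?_)
      have hz := autFun_mem c hx
      have hxz : cj y₁⁻¹ (autFun c x) = x := by rw [← hci _ hz, autFun_inv_left c hx]
      rw [autFun_mul _ _ hx, autFun_mul _ _ hz, hci _ (autFun_mem k₁ hz), ← hk'e _ hz, hxz]
    set γ := c⁻¹ * k₁ * c * k₁⁻¹ with hγ
    have hγA : γ ∈ A := Subgroup.mul_mem _ hconj (Subgroup.inv_mem _ hk')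
    have hγd : ∀ x ∈ P₀, h (autFun γ x) = cj d (h x) := fun x hx => by
      have h1 := autFun_mem k₁⁻¹ hx
      have h2 := autFun_mem c h1
      have h3 := autFun_mem k₁ h2
      have e1 : h (autFun c (autFun k₁⁻¹ x)) = h y₁ * h (autFun k₁⁻¹ x) * (h y₁)⁻¹ := by
        rw [hce _ h1, cj_apply, hh.map_conj hy₁n (hPN h1)]
      have e2 : ∀ z ∈ P₀, h (autFun c⁻¹ z) = cj (h y₁)⁻¹ (h z) := fun z hz => by
        rw [hci z hz, cj_apply, hh.map_conj (Subgroup.inv_mem _ hy₁n) (hPN hz), hh.map_inv hy₁n]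
        rfl
      rw [hγ, autFun_mul _ _ hx, autFun_mul _ _ h1, autFun_mul _ _ h2, e2 _ h3, ← hβP _ h2, e1,
        hβm.map_conj (hQW hy) (hMW (Subgroup.mem_sup_left (hhR _ h1))),
        hβP _ h1, autFun_inv_right k₁ hx, hd, cj_mul]
      rfl
    obtain ⟨t, ht, htn, hte⟩ := mem_autInducedBy.mp (hBT γ ⟨hγA, d, hdQ, hγd⟩)
    have htN : t ∈ normalizerIn S P₀ := mem_normalizerIn.mpr ⟨hTS ht, htn⟩
    have htT : h t ∈ T := hTsc _ h hh t htN ht
    set c₁ := (h t)⁻¹ * d with hc₁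
    have hc₁C : c₁ ∈ (centralizerIn S R') := by
      refine mem_centralizerIn.mpr ⟨S.mul_mem (S.inv_mem (hTS htT)) (hQS hdQ), fun r hr => ?_⟩
      obtain ⟨x, hx, rfl⟩ := hhP.mem_img.mp (hhi.ge hr)
      rw [hc₁, cj_mul, ← hγd x hx, hte x hx, cj_apply, cj_apply, hh.map_conj htN (hPN hx)]
      group
    have hd' : d = h t * c₁ := (mul_inv_cancel_left _ _).symm
    have htW : h t ∈ W := by
      rw [show h t = d * c₁⁻¹ by rw [hd', mul_inv_cancel_right]]
      exact W.mul_mem (hQW hdQ) (W.inv_mem (hMW (Subgroup.mem_sup_right hc₁C)))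
    have hfin : d⁻¹ * autFun β d ∈ T := by
      have h4 : autFun β (h t) ∈ T := hTsc W _ hβm _ htW htT
      have h5 := (Subgroup.mem_normalizer_iff.mp
        (hST (S.inv_mem (centralizerIn_le hc₁C))) _).mp (T.mul_mem (T.inv_mem htT) h4)
      have h6 := T.mul_mem h5 (hR'T (hβC c₁ hc₁C))
      rw [hd', autFun_map_mul β htW (hMW (Subgroup.mem_sup_right hc₁C))]
      simpa [mul_assoc] using h6
    -- `β` has order prime to `p` and fixes `d` modulo `T`
    have hTW : (T.subgroupOf W).Normal :=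
      Subgroup.normal_subgroupOf_of_le_normalizer (hWS.trans hST)
    set π := QuotientGroup.mk' (T.subgroupOf W) with hπ
    have hπ' : ∀ u v : W, π u = π v ↔ (u : Ω)⁻¹ * v ∈ T := fun u v =>
      QuotientGroup.eq.trans Subgroup.mem_subgroupOf
    have hdisp : ∀ u v : W, π u = π v → π (β u) = π (β v) := by
      intro u v huv
      rw [hπ'] at huv ⊢
      have h4 := hTsc W _ hβm _ ((u⁻¹ * v : W)).2 huv
      rw [autFun_coe β (u⁻¹ * v)] at h4
      simpa using h4
    let yW : W := ⟨h y₁, hQW hy⟩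
    let dW : W := ⟨d, hQW hdQ⟩
    have hyd : π (β yW) = π yW * π dW := by
      rw [← map_mul]
      congr 1
      refine Subtype.ext ?_
      show ((β yW : W) : Ω) = h y₁ * d
      rw [← autFun_coe β yW, hd, mul_inv_cancel_left]
    have hdd : π (β dW) = π dW := by
      rw [eq_comm, hπ', ← autFun_coe β dW]
      exact hfin
    have hit : ∀ n : ℕ, π ((β ^ n) yW) = π yW * π dW ^ n := by
      intro n
      induction n with
      | zero => simp
      | succ n ih =>
        rw [pow_succ', MulAut.mul_apply, hdisp _ (yW * dW ^ n) (by rw [ih, map_mul, map_pow]),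
          map_mul, map_mul, hyd, map_pow, map_pow, hdd, pow_succ', mul_assoc]
    have h1 := hit (orderOf β)
    rw [pow_orderOf_eq_one, MulAut.one_apply, left_eq_mul] at h1
    obtain ⟨i, hi⟩ := (isPGroup_of_le hWS hS) dW
    have h2 : π dW = 1 := orderOf_eq_one_iff.mp (Nat.eq_one_of_dvd_coprimes (ha.pow_right i)
      (orderOf_dvd_of_pow_eq_one h1)
      (orderOf_dvd_of_pow_eq_one (by rw [← map_pow, hi, map_one])))
    exact Subgroup.mem_subgroupOf.mp ((QuotientGroup.eq_one_iff dW).mp h2)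
  -- pull back to `P₀`
  obtain ⟨H, hH, hHl, -, -⟩ := (hh.restrict (sup_le hPN hQN : P₀ ⊔ Q ≤ _)).inverse
  have hh' := hh.restrict (sup_le hPN hQN : P₀ ⊔ Q ≤ _)
  have hm1 : ∀ x ∈ P₀ ⊔ Q, h x ∈ W := fun x hx => by
    have h1 := mem_img_of_mem h hx
    rw [hh'.img_sup, hhQ, hhi] at h1
    exact sup_le (le_sup_left.trans hMW) hQW h1
  have hc1 := hh'.comp hβm hm1
  have hm2 : ∀ x ∈ P₀ ⊔ Q, (autFun β ∘ h) x ∈ img (P₀ ⊔ Q) h := fun x hx => by
    have h1 := mem_img_of_mem (autFun β ∘ h) hx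
    rw [hc1.img_sup] at h1
    refine (sup_le (img_le fun z hz => ?_) (img_le fun q hq => ?_) :
      img P₀ (autFun β ∘ h) ⊔ img Q (autFun β ∘ h) ≤ img (P₀ ⊔ Q) h) h1
    · rw [Function.comp_apply, hβP z hz]
      exact mem_img_of_mem h (Subgroup.mem_sup_left (autFun_mem _ hz))
    · exact img_mono h le_sup_right (hhQ.ge (hβQ _ (hhQ ▸ mem_img_of_mem h hq)))
  have hG := hc1.comp hH hm2
  have hHQ : img Q H = Q := by
    conv_lhs => rw [← hhQ]
    rw [(hh'.restrict le_sup_right).img_comp,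
      img_congr (f := H ∘ h) (g := id) fun x hx => hHl x (Subgroup.mem_sup_right hx), img_id]
  have hkEs : k ^ p ^ a ∈ Es.autGroup P₀ := (autGroup_eq_set hPT _).mpr ((hEsiff _ _).mpr
    ⟨isMor_autFun hPT hk', H ∘ (autFun β ∘ h), hG, fun x hx => by
      show H (autFun β (h x)) = _
      rw [hβP x hx, hHl _ (Subgroup.mem_sup_left (autFun_mem _ hx))], fun q hq => by
      show q⁻¹ * H (autFun β (h q)) ∈ R
      have hq' : h q ∈ Q := hhQ ▸ mem_img_of_mem h hq
      have hQle : Q ≤ img (P₀ ⊔ Q) h := hhQ.ge.trans (img_mono h le_sup_right)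
      have hd : (h q)⁻¹ * autFun β (h q) ∈ R :=
        ⟨Q.mul_mem (Q.inv_mem hq') (hβQ _ hq'), hmove _ hq'⟩
      have e : H (autFun β (h q)) = q * H ((h q)⁻¹ * autFun β (h q)) := by
        have := hH.map_mul (hQle hq') (hQle hd.1)
        rwa [mul_inv_cancel_left, hHl q (Subgroup.mem_sup_right hq)] at this
      rw [e, inv_mul_cancel_left]
      exact ⟨hHQ ▸ mem_img_of_mem H hd.1, hTsc _ H hH _ (hQle hd.1) hd.2⟩⟩)
  refine mem_of_pow_coprime_exp (a := p ^ a) (b := orderOf k) ?_ hkEs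
    (by rw [pow_orderOf_eq_one]; exact one_mem _)
  exact (hkc.pow_right a).symm

/-- Components centralize normal subgroups. -/
theorem component_fixExt {T : Subgroup Ω} {C : FusionSystem T} (hC : C.IsSubnormalIn F p) :
    Fact p.Prime → Finite S → IsPGroup p S → C.Quasisimple p → F.IsSaturated p →
      ∀ Q : Subgroup Ω, F.IsNormal Q → T ≤ centralizerIn S Q ∧ FixExt F C Q := by
  induction hC with
  | refl F p =>
    intro hp _ hS hq _ Q hQ
    refine ⟨fun t ht => mem_centralizerIn.mpr ⟨ht, fun q hq' => ?_⟩, fun P f hf => ?_⟩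
    · rw [cj_apply, cj_fixed_iff]
      exact F.center_le_centralizer (quasisimple_normal_le_center hS hq hQ hq') t ht
    obtain ⟨g, hg, hgf, hgZ⟩ := (isCentral_iff.mp (isCentral_center F)).2 P f hf
    have hQZ := quasisimple_normal_le_center hS hq hQ
    exact ⟨g, hg.restrict (sup_le_sup_left hQZ P), hgf, fun q hq' => hgZ q (hQZ hq')⟩
  | @step U S' E D F' p hED hD ih =>
    intro hp _ hS hq hF Q hQ
    obtain ⟨hDs, -, hsub, hUsc, -⟩ := hD.1
    have hUS : U ≤ S' := hUsc.1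
    have : Finite U := finite_of_le hUS
    have hUp := isPGroup_of_le hUS hS
    have hQS := hQ.1
    have : Finite Q := finite_of_le hQS
    set R := Q ⊓ U with hR
    have hfixR : FixExt D E R :=
      (ih hp inferInstance hUp hq hDs R (isNormal_inf_of_normal hS hDs hsub hUsc hQ)).2
    have hTU : T ≤ U := subnormal_le hED
    have hTS : T ≤ S' := hTU.trans hUS
    have : Finite T := finite_of_le hTS
    have hTp := isPGroup_of_le hTS hS
    have hEs : E.IsSaturated p := hq.1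
    have hEF : ∀ P f, IsMor E P f → IsMor F' P f := fun P f hf =>
      le_iff_isMor.mp hsub P f (le_iff_isMor.mp (subnormal_saturated hED hDs).2 P f hf)
    -- automorphisms of order prime to `p` extend fixing `Q`
    have hcop : ∀ P, P ≤ T → ∀ α ∈ E.autGroup P, (orderOf α).Coprime p →
        ∃ m : ℕ, (p ^ m).Coprime (orderOf α) ∧
          ∃ g, IsMor F' (P ⊔ Q) g ∧ (∀ x ∈ P, g x = autFun (α ^ p ^ m) x) ∧ ∀ q ∈ Q, g q = q := by
      intro P hP α hα hc
      obtain ⟨g, hg, hgα, hgR⟩ := hfixR P _ (isMor_autFun hP hα)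
      obtain ⟨G, hG, hGg, hGQ⟩ := exists_ext_moving_in hS hF hD hQ hg
      set W := P ⊔ R ⊔ Q with hW
      have hPW : P ≤ W := le_sup_left.trans le_sup_left
      have hQW : Q ≤ W := le_sup_right
      have hRW : R ≤ W := inf_le_left.trans hQW
      have hGP : ∀ x ∈ P, G x = autFun α x := fun x hx =>
        (hGg x (Subgroup.mem_sup_left hx)).trans (hgα x hx)
      have hGR : ∀ x ∈ R, G x = x := fun x hx =>
        (hGg x (Subgroup.mem_sup_right hx)).trans (hgR x hx)
      have hGQm : ∀ q ∈ Q, G q ∈ Q := fun q hq => by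
        have := Q.mul_mem hq (Subgroup.mem_inf.mp (hGQ q hq)).1
        rwa [mul_inv_cancel_left] at this
      have hGW : img W G = W := by
        rw [hW, hG.img_sup, (hG.restrict le_sup_right).img_eq_self hGQm,
          (hG.restrict le_sup_left).img_sup, img_congr hGP, img_autFun,
          img_congr (g := id) hGR, img_id]
      obtain ⟨β₀, hβ₀, hβ₀e⟩ := exists_aut hG hGW
      have hWS : W ≤ S' := hG.le
      have : Finite W := finite_of_le hWS
      have := finite_mulAut hWS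
      obtain ⟨a, ha⟩ := exists_coprime_ppow' (p := p) β₀
      refine ⟨a, (hc.pow_right a).symm, autFun (β₀ ^ p ^ a), ?_, fun x hx => ?_, fun q hq => ?_⟩
      · exact (isMor_autFun hWS (Subgroup.pow_mem _ hβ₀ _)).restrict
          (sup_le hPW hQW)
      · exact autFun_pow_congr hPW (fun y hy => (hβ₀e y (hPW hy)).trans (hGP y hy)) _ x hx
      · have hfixR' : ∀ x ∈ R, autFun (β₀ ^ p ^ a) x = x := fun x hx => by
          rw [autFun_pow_congr hRW (a := (1 : MulAut R))
            (fun y hy => by rw [hβ₀e y (hRW hy), hGR y hy, autFun_one hy]) _ x hx, one_pow,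
            autFun_one hx]
        refine fix_of_diff_fixed (isPGroup_of_le hWS hS) ha (hQW hq) (hfixR' _ ?_)
        have hall : ∀ n : ℕ, ∀ q ∈ Q, q⁻¹ * autFun (β₀ ^ n) q ∈ R ∧ autFun (β₀ ^ n) q ∈ Q := by
          intro n
          induction n with
          | zero =>
            intro q hq
            rw [pow_zero, autFun_one (hQW hq), inv_mul_cancel]
            exact ⟨one_mem _, hq⟩
          | succ n ihn =>
            intro q hq
            obtain ⟨h1, h2⟩ := ihn q hq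
            rw [pow_succ', autFun_mul _ _ (hQW hq), hβ₀e _ (hQW h2)]
            refine ⟨?_, hGQm _ h2⟩
            have := R.mul_mem h1 (hGQ _ h2)
            simpa [mul_assoc] using this
        exact (hall _ q hq).1
    -- `T` centralizes `Q`
    have hSQ := stronglyClosed_le_normalizer (isNormal_stronglyClosed hQ)
    have hTQ : T ≤ centralizerIn S' Q := by
      intro t ht
      have hle : E.hyperfocalSubgroup p ≤ centralizerIn S' Q := hyp_le fun P hP α hα hc x hx => by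
        obtain ⟨m, hm, g, hg, hgα, hgQ⟩ := hcop P hP α hα hc
        let K : Subgroup (MulAut P) :=
          { carrier := {σ | ∀ y ∈ P, y⁻¹ * autFun σ y ∈ centralizerIn S' Q}
            one_mem' := fun y hy => by rw [autFun_one hy, inv_mul_cancel]; exact one_mem _
            mul_mem' := fun {σ τ} hσ hτ y hy => by
              rw [autFun_mul _ _ hy]
              have := Subgroup.mul_mem _ (hτ y hy) (hσ _ (autFun_mem τ hy))
              simpa [mul_assoc] using this
            inv_mem' := fun {σ} hσ y hy => by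
              have := Subgroup.inv_mem _ (hσ _ (autFun_mem σ⁻¹ hy))
              rw [autFun_inv_right σ hy, mul_inv_rev, inv_inv] at this
              exact this }
        suffices h : α ∈ K from h x hx
        refine mem_of_pow_coprime_exp hm (C := K) ?_ (by rw [pow_orderOf_eq_one]; exact one_mem _)
        intro y hy
        have hyS := hTS (hP hy)
        refine mem_centralizerIn.mpr ⟨S'.mul_mem (S'.inv_mem hyS)
          (hTS (hP (autFun_mem _ hy))), fun q hq => ?_⟩
        have hm' : cj y q ∈ Q := (Subgroup.mem_normalizer_iff.mp (hSQ hyS) q).mp hq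
        have h1 : g (y * q * y⁻¹) = y * q * y⁻¹ := hgQ _ hm'
        rw [hg.map_conj (Subgroup.mem_sup_left hy) (Subgroup.mem_sup_right hq), hgQ q hq,
          hgα y hy] at h1
        rw [cj_mul]
        show cj y⁻¹ (autFun (α ^ p ^ m) y * q * (autFun (α ^ p ^ m) y)⁻¹) = q
        rw [h1]
        exact cj_inv_cj y q
      exact hle (hq.2.1.ge ht)
    -- all maps extend fixing `Q`
    have hfixT : ∀ t ∈ T, ∀ q ∈ Q, cj t q = q := fun t ht => (mem_centralizerIn.mp (hTQ ht)).2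
    let Mp : Subgroup Ω → (Ω → Ω) → Prop := fun P f =>
      IsMor E P f ∧ ∃ g, IsMor F' (P ⊔ Q) g ∧ (∀ x ∈ P, g x = f x) ∧ ∀ y ∈ Q, g y = y
    let Es : FusionSystem T := ofPred T Mp (fun P f h => ⟨h.1.le, fun x hx => h.1.mem hx⟩)
      (fun P f h x hx y hy e => h.1.inj hx hy e)
      (fun P f f' ⟨hf, g, hg, hgf, hgY⟩ e =>
        ⟨hf.congr e, g, hg, fun x hx => (hgf x hx).trans (e x hx), hgY⟩)
      (fun P t hP ht => ⟨isMor_cj E hP ht, cj t,
        isMor_cj F' (sup_le (hP.trans hTS) hQS) (hTS ht), fun _ _ => rfl, hfixT t ht⟩)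
      (fun P P' f k ⟨hf, g, hg, hgf, hgY⟩ ⟨hk, g', hg', hgk, hgY'⟩ hfR => by
        refine ⟨hf.comp hk hfR, g' ∘ g, hg.comp hg' ?_, fun x hx => ?_, fun x hx => ?_⟩
        · intro x hx
          have h1 := mem_img_of_mem g hx
          rw [hg.img_sup, img_congr (P := Q) (g := id) hgY, img_id, img_congr hgf] at h1
          exact sup_le_sup_right (img_le hfR) Q h1
        · show g' (g x) = k (f x)
          rw [hgf x hx, hgk _ (hfR x hx)]
        · show g' (g x) = x
          rw [hgY x hx, hgY' x hx])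
      (fun P f ⟨hf, g, hg, hgf, hgY⟩ _ => by
        obtain ⟨fi, hfi, hfl, -, -⟩ := hf.inverse
        obtain ⟨g', hg', hl, -, -⟩ := hg.inverse
        have hle : img P f ≤ img (P ⊔ Q) g :=
          (img_congr (fun x hx => (hgf x hx).symm)).le.trans (img_mono g le_sup_left)
        have hYg : Q ≤ img (P ⊔ Q) g := fun x hx =>
          hgY x hx ▸ mem_img_of_mem g (Subgroup.mem_sup_right hx)
        refine ⟨fi, ⟨hfi, g', hg'.restrict (sup_le hle hYg), fun y hy => ?_, fun y hy => ?_⟩, hfl⟩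
        · obtain ⟨x, hx, rfl⟩ := hf.mem_img.mp hy
          rw [hfl x hx, ← hgf x hx, hl x (Subgroup.mem_sup_left hx)]
        · conv_lhs => rw [← hgY y hy]
          exact hl y (Subgroup.mem_sup_right hy))
    have hEsiff : ∀ P f, IsMor Es P f ↔ Mp P f := fun P f =>
      isMor_ofPred fun h x hx y hy => h.1.map_mul hx hy
    have hle : E ≤ Es := le_of_coprime_aut hTp hEs fun P hP α hα hc => by
      obtain ⟨m, hm, g, hg, hgα, hgQ⟩ := hcop P hP α hα hc
      refine mem_of_pow_coprime_exp hm ((autGroup_eq_set hP _).mpr ((hEsiff _ _).mpr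
        ⟨isMor_autFun hP (Subgroup.pow_mem _ hα _), g, hg, hgα, hgQ⟩))
        (by rw [pow_orderOf_eq_one]; exact one_mem _)
    exact ⟨hTQ, fun P f hf => ((hEsiff P f).mp (le_iff_isMor.mp hle P f hf)).2⟩

/-- A component is a subsystem of the centralizer system of the core. -/
theorem component_le_centralizerSystem (hS : IsPGroup p S) (hF : F.IsSaturated p) {Q : Subgroup Ω}
    (hQ : F.IsNormal Q) {D : FusionSystem (centralizerIn S Q)} (hD : F.IsCentralizerSystem Q D)
    {T : Subgroup Ω} {C : FusionSystem T} (hC : C.IsComponentIn F p) : C.IsSubsystemOf D := by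
  obtain ⟨hTQ, hfix⟩ := component_fixExt hC.1 hp inferInstance hS hC.2 hF Q hQ
  have hCF := (subnormal_saturated hC.1 hF).2
  refine le_iff_isMor.mpr fun P f hf => (isMor_centralizerSystem hD).mpr
    ⟨le_iff_isMor.mp hCF P f hf, hf.le.trans hTQ, fun x hx => hTQ (hf.mem hx), hfix P f hf⟩

end CfsgLib.Fusion
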