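import Mathlib
import Cfsg.Agent.Lib.Fusion.MeetAut

/-!
# Restriction and extension of the automorphisms of an intersection of normal subsystems
-/

set_option autoImplicit false
set_option linter.unusedSectionVars false
set_option maxHeartbeats 1000000

namespace CfsgLib.Fusion

open Cfsg Cfsg.FusionSystem

variable {Ω : Type*} [Group Ω] {S T₁ T₂ : Subgroup Ω} {F : FusionSystem S} {E₁ : FusionSystem T₁}
  {E₂ : FusionSystem T₂} {p : ℕ} [hp : Fact p.Prime] [Finite S]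

/-- In a saturated subsystem, an automorphism normalizing the action of `Y` extends to `Y`. -/
theorem exists_coprime_extension {T' : Subgroup Ω} {E : FusionSystem T'} (hS : IsPGroup p S)
    (hF : F.IsSaturated p) (hE : E.IsNormalIn F p) {D Y : Subgroup Ω} (hD : F.IsFullyNormalized D)
    (hDY : D ≤ Y) (hYT : Y ≤ normalizerIn T' D) {b : MulAut D} (hb : b ∈ E.autGroup D)
    (hbc : (orderOf b).Coprime p)
    (hact : ∀ y ∈ Y, ∃ t ∈ T', ∀ x ∈ D, autFun b (cj y x) = cj t (autFun b x))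
    (hmem : ∀ y ∈ Y, ∀ z, ∀ g, IsMor F Y g → g y = z → z ∈ Subgroup.normalizer (D : Set Ω) →
      (∀ x ∈ D, cj z (autFun b x) = autFun b (cj y x)) → z ∈ Y) :
    ∃ γ ∈ E.autGroup Y, (orderOf γ).Coprime p ∧ ∀ x ∈ D, autFun γ x = autFun b x := by
  obtain ⟨hEs, -, hsub, hT, -⟩ := hE.1
  have hTS := hT.1
  have hTp : IsPGroup p T' := isPGroup_of_le hTS hS
  have : Finite T' := finite_of_le hTS
  have hDT : D ≤ T' := hDY.trans (hYT.trans normalizerIn_le)
  obtain ⟨G, hG, hGe⟩ := (isReceptive_iff.mp (isFullyAutomized_of_normalized hTp hEs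
    (isFullyNormalized_sub hS hF hsub hT hD hDT)).2).2 D _ (isMor_autFun hDT hb) (img_autFun b)
  have hYn : Y ≤ nExt T' D (autFun b) := fun y hy =>
    ⟨(mem_normalizerIn.mp (hYT hy)).1, (mem_normalizerIn.mp (hYT hy)).2, hact y hy⟩
  have hGY := hG.restrict hYn
  have hmaps : ∀ y ∈ Y, G y ∈ Y := by
    intro y hy
    have hyn := (mem_normalizerIn.mp (hYT hy)).2
    have hGe' : ∀ x ∈ D, cj (G y) (autFun b x) = autFun b (cj y x) := fun x hx => by
      rw [← hGe x hx, cj_apply y, ← hGe _ ((Subgroup.mem_normalizer_iff.mp hyn x).mp hx)]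
      exact (hGY.map_conj hy (hDY hx)).symm
    refine hmem y hy _ G (le_iff_isMor.mp hsub _ _ hGY) rfl ?_ hGe'
    have : Finite D := finite_of_le (hDT.trans hTS)
    refine Subgroup.mem_normalizer_fintype fun z hz => ?_
    show cj (G y) z ∈ D
    rw [← autFun_inv_right b hz, hGe' _ (autFun_mem _ hz)]
    exact autFun_mem b ((Subgroup.mem_normalizer_iff.mp hyn _).mp (autFun_mem _ hz))
  obtain ⟨γ, hγ, hγe⟩ := exists_aut hGY (hGY.img_eq_self hmaps)
  obtain ⟨j, hj, hje⟩ := exists_coprime_restrict (p := p)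
    ((hYT.trans normalizerIn_le).trans hTS) hDY hbc
    (γ := γ) (fun x hx => by rw [hγe x (hDY hx), hGe x hx])
  exact ⟨γ ^ j, Subgroup.pow_mem _ hγ j, hj, hje⟩

namespace MeetHyp

variable (hm : MeetHyp F E₁ E₂ p)
include hm

theorem meetAut_transport_symm {U V : Subgroup Ω} {h : Ω → Ω} (hh : IsMor F U h)
    (hhi : img U h = V) (hU : U ≤ T₁ ⊓ T₂) {α : MulAut U} {β : MulAut V}
    (hαβ : ∀ x ∈ U, autFun β (h x) = h (autFun α x)) :
    α ∈ meetAut F E₁ E₂ p U ↔ β ∈ meetAut F E₁ E₂ p V := by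
  obtain ⟨e, he, -, -⟩ := exists_transport hh hhi
  have hβ : β = e α := autFun_inj fun y hy => by
    obtain ⟨x, hx, rfl⟩ := hh.mem_img.mp (hhi.ge hy)
    rw [hαβ x hx, he α x hx]
  refine ⟨fun hα => hβ ▸ hm.meetAut_transport hh hhi hU he hα, fun hβm => ?_⟩
  obtain ⟨hi, hhi', hl, -, hii⟩ := hh.inverse
  rw [hhi] at hhi' hii
  obtain ⟨e', he', -, -⟩ := exists_transport hhi' hii
  have h1 := hm.meetAut_transport hhi' hii (hhi ▸ hm.img_le_T hh hU) he' hβm
  rwa [autFun_inj (α := α) (β := e' β) fun x hx => by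
    have h2 := he' β (h x) (hhi ▸ mem_img_of_mem h hx)
    rw [hl x hx, hαβ x hx, hl _ (autFun_mem α hx)] at h2
    exact h2.symm]

theorem inf_meetAut {D : Subgroup Ω} (hD : F.IsFullyNormalized D) (hDT : D ≤ T₁ ⊓ T₂) :
    autInducedBy S D ⊓ meetAut F E₁ E₂ p D ≤ autInducedBy (T₁ ⊓ T₂) D :=
  ((hm.meetAut_sylow hD hDT).2.2 _ (isPGroup_of_le inf_le_left (isPGroup_autInducedBy hm.pgroup))
    (le_inf (fun σ hσ => by
      obtain ⟨t, ht, htn, hte⟩ := mem_autInducedBy.mp hσ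
      exact mem_autInducedBy.mpr ⟨t, hm.le_S ht, htn, hte⟩) (hm.meetAut_inner hDT))
    inf_le_right).le

/-- The automizers restrict to stabilized subgroups. -/
theorem meetAut_restrict {N U : Subgroup Ω} (hN : N ≤ T₁ ⊓ T₂) (hUN : U ≤ N) {δ : MulAut N}
    (hδ : δ ∈ meetAut F E₁ E₂ p N) (hmaps : ∀ x ∈ U, autFun δ x ∈ U) {γ : MulAut U}
    (hγ : ∀ x ∈ U, autFun γ x = autFun δ x) : γ ∈ meetAut F E₁ E₂ p U := by
  have hS := hm.pgroup
  have hF := hm.sat
  have hNS := hN.trans hm.le_S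
  obtain ⟨R, hR, hRn⟩ := exists_fullyNormalized F hNS
  obtain ⟨h₀, hh₀, hh₀i⟩ := isConj_iff.mp hR
  obtain ⟨ha, hr⟩ := isFullyAutomized_of_normalized hS hF hRn
  obtain ⟨β, hβ, had⟩ := exists_adapted hS hr ha (hh₀i ▸ img_mono h₀ hUN : img U h₀ ≤ R)
  set C := img (img U h₀) (autFun β) with hC
  set h := autFun β ∘ h₀ with hhdef
  have hh₀m : ∀ x ∈ N, h₀ x ∈ R := fun x hx => hh₀i ▸ mem_img_of_mem h₀ hx
  have hh : IsMor F N h := hh₀.comp (isMor_autFun hRn.1 hβ) hh₀m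
  have hhi : img N h = R := by rw [hhdef, ← hh₀.img_comp, hh₀i, img_autFun]
  have hhU : img U h = C := by rw [hhdef, ← (hh₀.restrict hUN).img_comp]
  have hRT : R ≤ T₁ ⊓ T₂ := hhi ▸ hm.img_le_T hh hN
  have hCT : C ≤ T₁ ⊓ T₂ := had.le.trans hRT
  have := finite_mulAut hRn.1
  have : Finite C := finite_of_le (hCT.trans hm.le_S)
  obtain ⟨e, he, -, -⟩ := exists_transport hh hhi
  have hδ' := hm.meetAut_transport hh hhi hN he hδ
  have hstab : e δ ∈ stabIn R C := mem_stabIn_of_maps had.le fun y hy => by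
    obtain ⟨x, hx, rfl⟩ := (hh.restrict hUN).mem_img.mp (hhU.ge hy)
    rw [he δ x (hUN hx), ← hhU]
    exact mem_img_of_mem h (hmaps x hx)
  set K := meetAut F E₁ E₂ p R ⊓ stabIn R C with hK
  have hKF : K ≤ F.autGroup R ⊓ stabIn R C :=
    inf_le_inf_right _ ((hm.meetAut_le_meetA hRT).trans (hm.meetA_le R))
  have hsyl := isSylIn_inf had.syl hKF (fun b hb n hn =>
    ⟨hm.meetAut_conj hRT hb.1 hn.1,
      Subgroup.mul_mem _ (Subgroup.mul_mem _ hb.2 hn.2) (Subgroup.inv_mem _ hb.2)⟩)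
  let L : Subgroup (MulAut R) :=
    ((meetAut F E₁ E₂ p C).comap (resC had.le)).map (stabIn R C).subtype
  have hKL : K ≤ L := by
    refine le_of_sylIn_of_coprime hsyl (fun σ hσ => ?_) fun b hb hbc => ?_
    · refine ⟨⟨σ, hσ.1.2⟩, ?_, rfl⟩
      obtain ⟨t, ht, htn, hte⟩ := mem_autInducedBy.mp (hm.inf_meetAut hRn hRT ⟨hσ.1.1, hσ.2.1⟩)
      refine hm.meetAut_inner hCT (mem_autInducedBy.mpr
        ⟨t, ht, normalizer_of_mem_stabIn had.le htn hσ.1.2 hte, fun x hx => ?_⟩)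
      rw [autFun_resC had.le _ hx]
      exact hte x (had.le hx)
    · refine ⟨⟨b, hb.2⟩, Subgroup.subset_closure (Or.inl ⟨?_, ?_⟩), rfl⟩
      · obtain ⟨hb₁, hb₂⟩ := hm.meetAut_le_meetA hRT hb.1
        constructor
        · exact (autGroup_eq_set (hCT.trans inf_le_left) _).mpr
            (((isMor_autFun (hRT.trans inf_le_left) hb₁).restrict had.le).congr fun x hx =>
              (autFun_resC had.le ⟨b, hb.2⟩ hx).symm)
        · exact (autGroup_eq_set (hCT.trans inf_le_right) _).mpr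
            (((isMor_autFun (hRT.trans inf_le_right) hb₂).restrict had.le).congr fun x hx =>
              (autFun_resC had.le ⟨b, hb.2⟩ hx).symm)
      · refine Nat.Coprime.coprime_dvd_left (orderOf_map_dvd (resC had.le) _) ?_
        rw [← Subgroup.orderOf_coe]
        exact hbc
  obtain ⟨⟨d, hd⟩, hdC, hde⟩ := hKL (⟨hδ', hstab⟩ : e δ ∈ K)
  obtain rfl : d = e δ := hde
  refine (hm.meetAut_transport_symm (hh.restrict hUN) hhU (hUN.trans hN)
    (β := resC had.le ⟨e δ, hd⟩) fun x hx => ?_).mpr hdC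
  rw [autFun_resC had.le _ (hhU ▸ mem_img_of_mem h hx), he δ x (hUN hx), hγ x hx]

/-- An automorphism normalizing a group of automorphisms induced by `T₁ ⊓ T₂` extends to its
preimage. -/
theorem meetAut_extend {D : Subgroup Ω} (hD : F.IsFullyNormalized D)
    (hH : meetH F (T₁ ⊓ T₂) D) {Q : Subgroup (MulAut D)} (hInn : Inn D ≤ Q)
    (hQ : Q ≤ autInducedBy (T₁ ⊓ T₂) D) {α : MulAut D} (hα : α ∈ meetAut F E₁ E₂ p D)
    (hαQ : ∀ q ∈ Q, α * q * α⁻¹ ∈ Q) :
    ∃ γ ∈ meetAut F E₁ E₂ p (indPre (T₁ ⊓ T₂) D Q), ∀ x ∈ D, autFun γ x = autFun α x := by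
  have hS := hm.pgroup
  have hF := hm.sat
  have hDT := hH.1
  have hDS := hDT.trans hm.le_S
  have hsc := (stronglyClosed_iff.mp hm.closed).2
  have := finite_mulAut hDS
  have : Finite D := finite_of_le hDS
  set Y := indPre (T₁ ⊓ T₂) D Q with hYdef
  have hDY : D ≤ Y := le_indPre hDT hInn
  have hYN : Y ≤ normalizerIn (T₁ ⊓ T₂) D := indPre_le
  have hYT : Y ≤ T₁ ⊓ T₂ := hYN.trans normalizerIn_le
  have hYS : Y ≤ S := hYT.trans hm.le_S
  have := finite_mulAut hYS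
  have : Finite Y := finite_of_le hYS
  have hCD : centralizerIn (T₁ ⊓ T₂) D ≤ D := hH.2 D (isConj_refl F hDS)
  let L : Subgroup (MulAut D) :=
    { carrier := {a | ∃ γ ∈ meetAut F E₁ E₂ p Y, ∀ x ∈ D, autFun γ x = autFun a x}
      one_mem' := ⟨1, one_mem _, fun x hx => by rw [autFun_one (hDY hx), autFun_one hx]⟩
      mul_mem' := by
        rintro a b ⟨γ, hγ, hγe⟩ ⟨γ', hγ', hγe'⟩
        exact ⟨γ * γ', mul_mem hγ hγ', fun x hx => by
          rw [autFun_mul _ _ (hDY hx), hγe' x hx, hγe _ (autFun_mem b hx), autFun_mul _ _ hx]⟩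
      inv_mem' := by
        rintro a ⟨γ, hγ, hγe⟩
        refine ⟨γ⁻¹, inv_mem hγ, fun x hx => ?_⟩
        conv_lhs => rw [← autFun_inv_right a hx, ← hγe _ (autFun_mem _ hx)]
        exact autFun_inv_left γ (hDY (autFun_mem _ hx)) }
  set N := meetAut F E₁ E₂ p D ⊓ Subgroup.normalizer (Q : Set (MulAut D)) with hN
  have hαN : α ∈ N := ⟨hα, Subgroup.mem_normalizer_fintype hαQ⟩
  suffices h : N ≤ L from h hαN
  have hsyl := hm.meetAut_sylow hD hDT
  obtain ⟨P₀, -, hP₀⟩ := exists_isSylIn_of_isPGroup (B := N) (A := ⊥) (IsPGroup.of_bot (p := p))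
    bot_le
  refine le_of_sylIn_of_coprime hP₀ (fun π hπ => ?_) fun b hb hbc => ?_
  · -- the `p`-elements
    have hQP : Q ≤ P₀ := hP₀.le_of_normal (isPGroup_of_le hQ hsyl.2.1)
      (le_inf (hQ.trans hsyl.1) Subgroup.le_normalizer)
      fun a ha q hq => (Subgroup.mem_normalizer_iff.mp ha.2 q).mp hq
    obtain ⟨b, hb, hbP⟩ := hsyl.exists_conj_le hP₀.2.1 (hP₀.1.trans inf_le_left)
    have hbF : b ∈ F.autGroup D := hm.meetA_le D (hm.meetAut_le_meetA hDT hb)
    obtain ⟨G, hG, hGe⟩ := (isReceptive_iff.mp (isFullyAutomized_of_normalized hS hF hD).2).2 D _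
      (isMor_autFun hDS hbF) (img_autFun b)
    have hYn : Y ≤ nExt S D (autFun b) := fun y hy => by
      obtain ⟨hyN, σ, hσ, hσe⟩ := hy
      obtain ⟨t, ht, -, hte⟩ := mem_autInducedBy.mp (hbP σ (hQP hσ))
      exact ⟨hm.le_S (mem_normalizerIn.mp hyN).1, (mem_normalizerIn.mp hyN).2, t, hm.le_S ht,
        (mul_conj_aut hσe hte).mp rfl⟩
    have hGY := hG.restrict hYn
    have hGi : ∀ y ∈ Y, ∀ x ∈ D, cj (G y) (autFun b x) = autFun b (cj y x) := fun y hy x hx => by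
      rw [← hGe x hx, cj_apply y,
        ← hGe _ ((Subgroup.mem_normalizer_iff.mp (mem_normalizerIn.mp (hYN hy)).2 x).mp hx)]
      exact (hGY.map_conj hy (hDY hx)).symm
    obtain ⟨t, ht, htn, hte⟩ := mem_autInducedBy.mp (hbP π hπ)
    have hbπ : ∀ x ∈ D, cj t (autFun b x) = autFun b (autFun π x) := fun x hx => by
      rw [← hte _ (autFun_mem b hx), autFun_mul _ _ (autFun_mem b hx), autFun_inv_left b hx,
        autFun_mul _ _ hx]
    have hGYT : img Y G ≤ T₁ ⊓ T₂ := hm.img_le_T hGY hYT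
    have hDG : D ≤ img Y G := fun x hx => by
      rw [← autFun_inv_right b hx, ← hGe _ (autFun_mem b⁻¹ hx)]
      exact mem_img_of_mem G (hDY (autFun_mem _ hx))
    have : Finite ↥(img Y G) := finite_of_le hGY.img_le
    have htV : t ∈ Subgroup.normalizer (img Y G : Set Ω) := by
      refine Subgroup.mem_normalizer_fintype fun z hz => ?_
      obtain ⟨y, hy, rfl⟩ := hGY.mem_img.mp hz
      obtain ⟨hyN, σ, hσ, hσe⟩ := id hy
      have hσ' : π * σ * π⁻¹ ∈ Q :=
        (Subgroup.mem_normalizer_iff.mp (hP₀.1 hπ).2 σ).mp hσ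
      obtain ⟨y', hy', hy'n, hy'e⟩ := mem_autInducedBy.mp (hQ hσ')
      have hy'Y : y' ∈ Y := ⟨mem_normalizerIn.mpr ⟨hy', hy'n⟩, _, hσ', hy'e⟩
      have hd : (G y')⁻¹ * cj t (G y) ∈ centralizerIn (T₁ ⊓ T₂) D := by
        refine mem_centralizerIn.mpr ⟨mul_mem (inv_mem (hGYT (mem_img_of_mem G hy'Y)))
          (mul_mem (mul_mem ht (hGYT (mem_img_of_mem G hy))) (inv_mem ht)), fun x hx => ?_⟩
        obtain ⟨w, hw, rfl⟩ : ∃ w ∈ D, autFun b (autFun π w) = x :=
          ⟨autFun π⁻¹ (autFun b⁻¹ x), autFun_mem _ (autFun_mem _ hx), by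
            rw [autFun_inv_right π (autFun_mem _ hx), autFun_inv_right b hx]⟩
        have hσw : cj y w ∈ D :=
          (Subgroup.mem_normalizer_iff.mp (mem_normalizerIn.mp hyN).2 w).mp hw
        rw [cj_mul, show cj (cj t (G y)) (autFun b (autFun π w)) =
          cj t (cj (G y) (cj t⁻¹ (autFun b (autFun π w)))) by rw [← cj_mul, ← cj_mul, cj_apply t (G y)],
          ← hbπ w hw, cj_inv_cj, hGi y hy w hw, hbπ _ hσw, hbπ w hw]
        have h2 : autFun π (cj y w) = cj y' (autFun π w) := by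
          rw [← hy'e _ (autFun_mem π hw), autFun_mul _ _ (autFun_mem π hw),
            autFun_inv_left π hw, autFun_mul _ _ hw, hσe w hw]
        rw [h2, ← hGi y' hy'Y _ (autFun_mem π hw), cj_inv_cj]
      have := Subgroup.mul_mem _ (mem_img_of_mem G hy'Y) (hDG (hCD hd))
      rwa [mul_inv_cancel_left] at this
    obtain ⟨γ, -, hγe⟩ := exists_aut_pullback hGY (isMor_cj F hGY.img_le (hm.le_S ht)) le_rfl
      (fun z hz => (Subgroup.mem_normalizer_iff.mp htV z).mp hz)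
    refine ⟨γ, Subgroup.subset_closure (Or.inr ⟨G, hGY, t, mem_normalizerIn.mpr ⟨ht, htV⟩, hγe⟩),
      fun x hx => hGY.inj (autFun_mem γ (hDY hx)) (hDY (autFun_mem π hx)) ?_⟩
    rw [hγe x (hDY hx), hGe x hx, hGe _ (autFun_mem π hx)]
    exact hbπ x hx
  · -- the elements of order prime to `p`
    obtain ⟨hbA, hbn⟩ := hb
    obtain ⟨hb₁, hb₂⟩ := hm.meetAut_le_meetA hDT hbA
    have hact : ∀ y ∈ Y, ∃ t ∈ T₁ ⊓ T₂, ∀ x ∈ D, autFun b (cj y x) = cj t (autFun b x) := by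
      intro y hy
      obtain ⟨hyN, σ, hσ, hσe⟩ := hy
      obtain ⟨t, ht, -, hte⟩ := mem_autInducedBy.mp (hQ ((Subgroup.mem_normalizer_iff.mp hbn σ).mp hσ))
      exact ⟨t, ht, (mul_conj_aut hσe hte).mp rfl⟩
    have hmem : ∀ y ∈ Y, ∀ z, ∀ g, IsMor F Y g → g y = z →
        z ∈ Subgroup.normalizer (D : Set Ω) →
        (∀ x ∈ D, cj z (autFun b x) = autFun b (cj y x)) → z ∈ Y := by
      rintro y hy _ g hg rfl hzn hze
      obtain ⟨-, σ, hσ, hσe⟩ := id hy
      refine ⟨mem_normalizerIn.mpr ⟨hsc Y g hg y hy (hYT hy), hzn⟩, b * σ * b⁻¹,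
        (Subgroup.mem_normalizer_iff.mp hbn σ).mp hσ, fun x hx => ?_⟩
      have hx' := autFun_mem b⁻¹ hx
      have := hze _ hx'
      rw [autFun_inv_right b hx, ← hσe _ hx'] at this
      rw [this, autFun_mul _ _ hx, autFun_mul _ _ hx']
    have hYN₁ : Y ≤ normalizerIn T₁ D := hYN.trans (inf_le_inf_right _ inf_le_left)
    have hYN₂ : Y ≤ normalizerIn T₂ D := hYN.trans (inf_le_inf_right _ inf_le_right)
    obtain ⟨e₁, he₁, he₁c, he₁D⟩ := exists_coprime_extension hS hF hm.normal₁ hD hDY hYN₁ hb₁ hbc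
      (fun y hy => (hact y hy).imp fun t h => ⟨h.1.1, h.2⟩) hmem
    obtain ⟨e₂, he₂, he₂c, he₂D⟩ := exists_coprime_extension hS hF hm.normal₂ hD hDY hYN₂ hb₂ hbc
      (fun y hy => (hact y hy).imp fun t h => ⟨h.1.2, h.2⟩) hmem
    refine ⟨e₁, Subgroup.subset_closure (Or.inl ⟨⟨he₁, ?_⟩, he₁c⟩), he₁D⟩
    -- `e₁` and `e₂` differ by an element of `p`-power order
    set κ := e₂⁻¹ * e₁ with hκ
    have he₁F := autGroup_mono hm.sub₁ he₁
    have he₂F := autGroup_mono hm.sub₂ he₂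
    have hκF : κ ∈ F.autGroup Y := mul_mem (inv_mem he₂F) he₁F
    have hκD : ∀ x ∈ D, autFun κ x = x := fun x hx => by
      rw [hκ, autFun_mul _ _ (hDY hx), he₁D x hx, ← he₂D x hx, autFun_inv_left e₂ (hDY hx)]
    have hκz : ∀ y ∈ Y, y⁻¹ * autFun κ y ∈ D := fun y hy => by
      refine hCD (mem_centralizerIn.mpr ⟨mul_mem (inv_mem (hYT hy)) (hYT (autFun_mem κ hy)),
        fun x hx => ?_⟩)
      have hyx : cj y x ∈ D :=
        (Subgroup.mem_normalizer_iff.mp (mem_normalizerIn.mp (hYN hy)).2 x).mp hx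
      have := (isMor_autFun hYS hκF).map_conj hy (hDY hx)
      rw [← cj_apply, ← cj_apply, hκD x hx, hκD _ hyx] at this
      rw [cj_mul, ← this, cj_inv_cj]
    have hiter : ∀ n : ℕ, ∀ y ∈ Y, autFun (κ ^ n) y = y * (y⁻¹ * autFun κ y) ^ n := by
      intro n
      induction n with
      | zero => intro y hy; rw [pow_zero, autFun_one hy, pow_zero, mul_one]
      | succ n ih =>
        intro y hy
        have hz := hκz y hy
        rw [pow_succ', autFun_mul _ _ hy, ih y hy,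
          autFun_map_mul κ hy (hDY (D.pow_mem hz n)), hκD _ (D.pow_mem hz n), pow_succ',
          ← mul_assoc, ← mul_assoc, mul_inv_cancel, one_mul]
    obtain ⟨m, hm'⟩ := IsPGroup.iff_card.mp (isPGroup_of_le hDS hS)
    have hκp : κ ^ p ^ m = 1 := autFun_inj fun y hy => by
      rw [hiter _ y hy, autFun_one hy,
        orderOf_dvd_iff_pow_eq_one.mp (hm' ▸ D.orderOf_dvd_natCard (hκz y hy)), mul_one]
    -- read off in the quotient by the automorphisms in `E₂`
    set N₂ := (E₂.autGroup Y).subgroupOf (F.autGroup Y) with hN₂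
    have : N₂.Normal := ⟨fun n hn a => autGroup_conj_mem
      (strongInv_of_isNormalIn hS hF hm.normal₂) hm.closed₂ (hYT.trans inf_le_right) a.2 hn⟩
    set π := QuotientGroup.mk' N₂ with hπ
    let a₁ : F.autGroup Y := ⟨e₁, he₁F⟩
    let k : F.autGroup Y := ⟨κ, hκF⟩
    have hπe : π a₁ = π k := by
      have h2 : π ⟨e₂, he₂F⟩ = 1 := (QuotientGroup.eq_one_iff _).mpr he₂
      rw [show a₁ = ⟨e₂, he₂F⟩ * k from Subtype.ext (by simp [a₁, k, hκ]), map_mul, h2, one_mul]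
    have h1 : orderOf (π a₁) ∣ orderOf e₁ := by
      rw [show orderOf e₁ = orderOf a₁ from (Subgroup.orderOf_coe a₁)]
      exact orderOf_map_dvd π a₁
    have h3 : orderOf (π a₁) ∣ p ^ m := by
      rw [hπe]
      exact orderOf_dvd_of_pow_eq_one (by
        rw [← map_pow, show k ^ p ^ m = 1 from Subtype.ext hκp, map_one])
    have h4 : π a₁ = 1 := orderOf_eq_one_iff.mp
      (Nat.eq_one_of_dvd_coprimes (he₁c.pow_right m) h1 h3)
    exact (QuotientGroup.eq_one_iff a₁).mp h4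

end MeetHyp

end CfsgLib.Fusion
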