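import Mathlib
import Cfsg.Agent.Lib.Fusion.MeetExtend
import Cfsg.Agent.Lib.Fusion.Invariant
import Cfsg.Agent.S5119

/-!
# The system generated by the common automizers of two normal subsystems
-/

set_option autoImplicit false
set_option linter.unusedSectionVars false
set_option maxHeartbeats 1000000

namespace CfsgLib.Fusion

open Cfsg Cfsg.FusionSystem

variable {Ω : Type*} [Group Ω] {S T₁ T₂ : Subgroup Ω}

/-- Composites of restrictions of the common automorphisms. -/
inductive MeetGen (F : FusionSystem S) (E₁ : FusionSystem T₁) (E₂ : FusionSystem T₂) (p : ℕ) :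
    Subgroup Ω → (Ω → Ω) → Prop
  | step {U R : Subgroup Ω} {f : Ω → Ω} {α : MulAut R} : meetH F (T₁ ⊓ T₂) R →
      α ∈ meetAut F E₁ E₂ p R → U ≤ R → (∀ x ∈ U, f x = autFun α x) → MeetGen F E₁ E₂ p U f
  | comp {U : Subgroup Ω} {f g k : Ω → Ω} : MeetGen F E₁ E₂ p U f →
      MeetGen F E₁ E₂ p (img U f) g → (∀ x ∈ U, k x = g (f x)) → MeetGen F E₁ E₂ p U k

variable {F : FusionSystem S} {E₁ : FusionSystem T₁} {E₂ : FusionSystem T₂} {p : ℕ}
  [hp : Fact p.Prime] [Finite S]

theorem MeetGen.congr {U : Subgroup Ω} {f f' : Ω → Ω} (h : MeetGen F E₁ E₂ p U f)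
    (e : ∀ x ∈ U, f x = f' x) : MeetGen F E₁ E₂ p U f' := by
  cases h with
  | step h1 h2 h3 h4 => exact .step h1 h2 h3 fun x hx => (e x hx).symm.trans (h4 x hx)
  | comp h1 h2 h3 => exact .comp h1 h2 fun x hx => (e x hx).symm.trans (h3 x hx)

theorem MeetGen.restrict {U : Subgroup Ω} {f : Ω → Ω} (h : MeetGen F E₁ E₂ p U f) :
    ∀ U' ≤ U, MeetGen F E₁ E₂ p U' f := by
  induction h with
  | step h1 h2 h3 h4 => exact fun U' hU => .step h1 h2 (hU.trans h3) fun x hx => h4 x (hU hx)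
  | @comp U f g k _ _ e ih1 ih2 =>
    exact fun U' hU => .comp (ih1 U' hU) (ih2 _ (img_mono f hU)) fun x hx => e x (hU hx)

namespace MeetHyp

variable (hm : MeetHyp F E₁ E₂ p)
include hm

theorem meetGen_isMor {U : Subgroup Ω} {f : Ω → Ω} (h : MeetGen F E₁ E₂ p U f) :
    IsMor F U f ∧ IsMor E₁ U f ∧ IsMor E₂ U f ∧ U ≤ T₁ ⊓ T₂ := by
  induction h with
  | step h1 h2 h3 h4 =>
    obtain ⟨ha₁, ha₂⟩ := hm.meetAut_le_meetA h1.1 h2
    refine ⟨((isMor_autFun (h1.1.trans hm.le_S) (autGroup_mono hm.sub₁ ha₁)).restrict h3).congr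
        fun x hx => (h4 x hx).symm, ?_, ?_, h3.trans h1.1⟩
    · exact ((isMor_autFun (h1.1.trans inf_le_left) ha₁).restrict h3).congr
        fun x hx => (h4 x hx).symm
    · exact ((isMor_autFun (h1.1.trans inf_le_right) ha₂).restrict h3).congr
        fun x hx => (h4 x hx).symm
  | @comp U f g k _ _ e ih1 ih2 =>
    exact ⟨(ih1.1.comp ih2.1 fun x hx => mem_img_of_mem f hx).congr fun x hx => (e x hx).symm,
      (ih1.2.1.comp ih2.2.1 fun x hx => mem_img_of_mem f hx).congr fun x hx => (e x hx).symm,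
      (ih1.2.2.1.comp ih2.2.2.1 fun x hx => mem_img_of_mem f hx).congr fun x hx => (e x hx).symm,
      ih1.2.2.2⟩

theorem meetGen_inverse {U : Subgroup Ω} {f : Ω → Ω} (h : MeetGen F E₁ E₂ p U f) :
    ∃ g, MeetGen F E₁ E₂ p (img U f) g ∧ ∀ x ∈ U, g (f x) = x := by
  induction h with
  | @step U R f α h1 h2 h3 h4 =>
    refine ⟨autFun α⁻¹, .step h1 (inv_mem h2) ?_ fun _ _ => rfl, fun x hx => ?_⟩
    · exact img_le fun x hx => h4 x hx ▸ autFun_mem α (h3 hx)
    · rw [h4 x hx, autFun_inv_left α (h3 hx)]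
  | @comp U f g k h1 h2 e ih1 ih2 =>
    obtain ⟨g1, hg1, e1⟩ := ih1
    obtain ⟨g2, hg2, e2⟩ := ih2
    have hf := (hm.meetGen_isMor h1).1
    have hgf := (hm.meetGen_isMor h2).1
    have hi : img (img U f) g = img U k := by
      rw [hf.img_comp, img_congr e]; rfl
    have hi2 : img (img U k) g2 = img U f := by
      rw [← hi, hgf.img_comp]
      exact (img_congr (g := id) fun x hx => e2 x hx).trans (img_id _)
    rw [hi] at hg2
    rw [← hi2] at hg1
    refine ⟨g1 ∘ g2, .comp hg2 hg1 fun _ _ => rfl, fun x hx => ?_⟩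
    rw [Function.comp_apply, e x hx, e2 _ (mem_img_of_mem f hx), e1 x hx]

/-- The system of the generated maps exists. -/
theorem exists_meetSys :
    ∃ W : FusionSystem (T₁ ⊓ T₂), ∀ U f, IsMor W U f ↔ MeetGen F E₁ E₂ p U f := by
  refine ⟨ofPred (T₁ ⊓ T₂) (MeetGen F E₁ E₂ p)
    (fun U f h => ⟨(hm.meetGen_isMor h).2.2.2,
      fun x hx => ⟨(hm.meetGen_isMor h).2.1.mem hx, (hm.meetGen_isMor h).2.2.1.mem hx⟩⟩)
    (fun U f h x hx y hy e => (hm.meetGen_isMor h).1.inj hx hy e)
    (fun _ _ _ h e => h.congr e) ?_ ?_ (fun U f h _ => hm.meetGen_inverse h),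
    fun U f => ?_⟩
  · intro U a hU ha
    obtain ⟨c, hc, hce⟩ := exists_autInducedBy (P := T₁ ⊓ T₂) ha (Subgroup.le_normalizer ha)
    exact .step hm.meetH_self (hm.meetAut_inner le_rfl hc) hU fun x hx => (hce x (hU hx)).symm
  · exact fun U R f g hf hg hfR => .comp hf (hg.restrict _ (img_le hfR)) fun _ _ => rfl
  · rw [isMor_ofPred fun h x hx y hy => (hm.meetGen_isMor h).1.map_mul hx hy]

/-- The generated system. -/
noncomputable def sys : FusionSystem (T₁ ⊓ T₂) := Classical.choose hm.exists_meetSys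

theorem isMor_sys {U : Subgroup Ω} {f : Ω → Ω} :
    IsMor hm.sys U f ↔ MeetGen F E₁ E₂ p U f :=
  Classical.choose_spec hm.exists_meetSys U f

theorem sys_le : hm.sys.IsSubsystemOf F :=
  le_iff_isMor.mpr fun _ _ h => (hm.meetGen_isMor (hm.isMor_sys.mp h)).1

theorem sys_le₁ : hm.sys.IsSubsystemOf E₁ :=
  le_iff_isMor.mpr fun _ _ h => (hm.meetGen_isMor (hm.isMor_sys.mp h)).2.1

theorem sys_le₂ : hm.sys.IsSubsystemOf E₂ :=
  le_iff_isMor.mpr fun _ _ h => (hm.meetGen_isMor (hm.isMor_sys.mp h)).2.2.1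

theorem meetAut_le_sys {R : Subgroup Ω} (hR : meetH F (T₁ ⊓ T₂) R) :
    meetAut F E₁ E₂ p R ≤ hm.sys.autGroup R := fun α hα =>
  (autGroup_eq_set hR.1 α).mpr (hm.isMor_sys.mpr (.step hR hα le_rfl fun _ _ => rfl))

theorem sys_transport {θ : MulAut ↥(T₁ ⊓ T₂)} (hθ : θ ∈ F.autGroup (T₁ ⊓ T₂)) {U : Subgroup Ω}
    {f : Ω → Ω} (h : MeetGen F E₁ E₂ p U f) :
    ∃ k, MeetGen F E₁ E₂ p (img U (autFun θ)) k ∧
      ∀ x ∈ U, k (autFun θ x) = autFun θ (f x) := by
  have hθm := isMor_autFun hm.le_S hθ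
  induction h with
  | @step U R f α h1 h2 h3 h4 =>
    have hθR := hθm.restrict h1.1
    obtain ⟨e, he, -, -⟩ := exists_transport hθR rfl
    refine ⟨autFun (e α), .step (hm.meetH_conj h1 (isConj_img hθR))
      (hm.meetAut_transport hθR rfl h1.1 he h2) (img_mono _ h3) fun _ _ => rfl, fun x hx => ?_⟩
    rw [he α x (h3 hx), h4 x hx]
  | @comp U f g k h1 h2 e ih1 ih2 =>
    obtain ⟨k1, hk1, e1⟩ := ih1
    obtain ⟨k2, hk2, e2⟩ := ih2
    have hUT := (hm.meetGen_isMor h1).2.2.2
    have hi : img (img U f) (autFun θ) = img (img U (autFun θ)) k1 := by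
      rw [(hm.meetGen_isMor h1).1.img_comp, (hθm.restrict hUT).img_comp]
      exact img_congr fun x hx => (e1 x hx).symm
    refine ⟨k2 ∘ k1, .comp hk1 (hi ▸ hk2) fun _ _ => rfl, fun x hx => ?_⟩
    rw [Function.comp_apply, e1 x hx, e2 _ (mem_img_of_mem f hx), e x hx]

/-- The Frattini factorization. -/
theorem sys_factors {P : Subgroup Ω} {f : Ω → Ω} (hf : IsMor F P f) (hPT : P ≤ T₁ ⊓ T₂) :
    Factors hm.sys F P f := by
  have hS := hm.pgroup
  have hF := hm.sat
  set T := T₁ ⊓ T₂ with hTdef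
  have hTS := hm.le_S
  have hsc := (stronglyClosed_iff.mp hm.closed).2
  have : Finite T := finite_of_le hTS
  have hTp : IsPGroup p T := isPGroup_of_le hTS hS
  have hcongr : ∀ P f g, Factors hm.sys F P f → (∀ x ∈ P, f x = g x) → Factors hm.sys F P g := by
    rintro P f g ⟨α, hα, e, he, hfe⟩ h
    exact ⟨α, hα, e, he, fun x hx => (h x hx).symm.trans (hfe x hx)⟩
  have htr : ∀ (γ : MulAut T), γ ∈ F.autGroup T → ∀ P e, IsMor hm.sys P e →
      ∃ e', IsMor hm.sys (img P (autFun γ)) e' ∧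
        ∀ x ∈ P, e' (autFun γ x) = autFun γ (e x) := fun γ hγ P e he => by
    obtain ⟨k, hk, hke⟩ := hm.sys_transport hγ (hm.isMor_sys.mp he)
    exact ⟨k, hm.isMor_sys.mpr hk, hke⟩
  have hcomp : ∀ P R f g, Factors hm.sys F P f → Factors hm.sys F R g →
      (∀ x ∈ P, f x ∈ R) → Factors hm.sys F P (g ∘ f) := by
    rintro P R f g ⟨α, hα, e, he, hfe⟩ ⟨α', hα', e', he', hge⟩ hfR
    obtain ⟨e'', he'', hee⟩ := htr α⁻¹ (Subgroup.inv_mem _ hα) R e' he'
    have hmap : ∀ x ∈ P, e x ∈ img R (autFun α⁻¹) := fun x hx => by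
      have := mem_img_of_mem (autFun α⁻¹) (hfR x hx)
      rwa [hfe x hx, autFun_inv_left α (he.mem hx)] at this
    refine ⟨α' * α, Subgroup.mul_mem _ hα' hα, e'' ∘ e, he.comp he'' hmap, fun x hx => ?_⟩
    show g (f x) = autFun (α' * α) (e'' (e x))
    rw [hge _ (hfR x hx), autFun_mul _ _ (he''.mem (hmap x hx))]
    congr 1
    have h1 := hee _ (hfR x hx)
    rw [hfe x hx, autFun_inv_left α (he.mem hx)] at h1
    rw [h1, autFun_inv_right α (he'.mem (hfe x hx ▸ hfR x hx)), hfe x hx]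
  have hinverse : ∀ P f, Factors hm.sys F P f → P ≤ T →
      ∃ g, Factors hm.sys F (img P f) g ∧ ∀ x ∈ P, g (f x) = x := by
    rintro P f ⟨α, hα, e, he, hfe⟩ hP
    obtain ⟨ei, hei, hl, -, -⟩ := he.inverse
    obtain ⟨e', he', hee⟩ := htr α hα _ ei hei
    have hi : img P f = img (img P e) (autFun α) := by
      rw [he.img_comp]
      exact img_congr hfe
    refine ⟨autFun α⁻¹ ∘ e', hi ▸ ⟨α⁻¹, Subgroup.inv_mem _ hα, e', he', fun _ _ => rfl⟩,
      fun x hx => ?_⟩
    show autFun α⁻¹ (e' (f x)) = x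
    rw [hfe x hx, hee _ (mem_img_of_mem e hx), hl x hx, autFun_inv_left α (hP hx)]
  induction hd : Nat.card T - Nat.card P using Nat.strong_induction_on generalizing P f with
  | _ d ih =>
    subst hd
    rcases eq_or_lt_of_le hPT with rfl | hlt
    · obtain ⟨α, hα, e⟩ := exists_aut hf (hf.img_eq_self fun x hx => hsc _ f hf x hx hx)
      exact ⟨α, hα, id, isMor_id _ le_rfl, fun x hx => (e x hx).symm⟩
    obtain ⟨R, hR, hRn⟩ := exists_fullyNormalized F hf.le
    have hRT : R ≤ T := by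
      obtain ⟨g, hg, rfl⟩ := isConj_iff.mp hR
      exact img_le fun x hx => hsc P g hg x hx (hPT hx)
    have hcard := isConj_card hR
    have hbig : ∀ {M : Subgroup Ω}, M ≤ T → Nat.card R < Nat.card M →
        Nat.card T - Nat.card M < Nat.card T - Nat.card P := fun {M} hM h => by
      have := Subgroup.card_le_of_le hM
      omega
    have key : ∀ P₁, F.IsConj P₁ R → P₁ ≤ T →
        ∃ θ, IsMor F P₁ θ ∧ img P₁ θ = R ∧ Factors hm.sys F P₁ θ := by
      intro P₁ hP₁ hP₁T
      obtain ⟨θ, hθ, hθi, -⟩ := exists_map_fullyNormalized hS hF hRn hP₁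
      have hc : Nat.card P₁ = Nat.card R := (isConj_card hP₁).symm
      have hlt' : P₁ < T := lt_of_le_of_ne hP₁T fun e => by
        have h1 : Nat.card P < Nat.card T := card_lt_of_lt hTS hlt
        have h2 : Nat.card P₁ = Nat.card T := congrArg (fun K : Subgroup Ω => Nat.card K) e
        omega
      have hN : P₁ < normalizerIn T P₁ := normalizerIn_gt hTp hlt'
      obtain ⟨α, hα, e, he, hfe⟩ := ih _ (hbig normalizerIn_le
          (hc ▸ card_lt_of_lt (normalizerIn_le.trans hTS) hN))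
        (hθ.restrict (inf_le_inf_right _ hTS : normalizerIn T P₁ ≤ normalizerIn S P₁))
        normalizerIn_le rfl
      exact ⟨θ, hθ.restrict (le_normalizerIn (hP₁T.trans hTS)), hθi,
        α, hα, e, he.restrict hN.le, fun x hx => hfe x (hN.le hx)⟩
    obtain ⟨θ, hθ, hθi, hθD⟩ := key P hR hPT
    have hfT : img P f ≤ T := hm.img_le_T hf hPT
    obtain ⟨θ', hθ', hθi', hθD'⟩ := key _ (isConj_trans (isConj_symm (isConj_img hf)) hR) hfT
    obtain ⟨θi, hθi₁, hθl, -, hθii⟩ := hθ.inverse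
    rw [hθi] at hθi₁ hθii
    have hmapsR : ∀ x ∈ R, θi x ∈ P := fun x hx => hθii ▸ mem_img_of_mem θi hx
    have hγ : IsMor F R (θ' ∘ f ∘ θi) :=
      (hθi₁.comp hf hmapsR).comp hθ' fun x hx => mem_img_of_mem f (hmapsR x hx)
    obtain ⟨γ, hγA, hγe⟩ := exists_aut hγ (hγ.img_eq_self fun x hx =>
      hθi' ▸ mem_img_of_mem θ' (mem_img_of_mem f (hmapsR x hx)))
    have hRS := hRn.1
    obtain ⟨hfa, hrec⟩ := isFullyAutomized_of_normalized hS hF hRn
    have := finite_mulAut hRS
    have hext : ∀ δ ∈ F.autGroup R, ∀ M : Subgroup Ω, R < M → M ≤ T →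
        M ≤ nExt S R (autFun δ) → Factors hm.sys F R (autFun δ) := by
      intro δ hδ M hRM hMT hle
      obtain ⟨k, hk, hke⟩ :=
        (isReceptive_iff.mp hrec).2 R _ (isMor_autFun hRS hδ) (img_autFun δ)
      obtain ⟨β, hβ, e, he, hke'⟩ := ih _ (hbig hMT (card_lt_of_lt (hMT.trans hTS) hRM))
        (hk.restrict hle) hMT rfl
      exact ⟨β, hβ, e, he.restrict hRM.le,
        fun x hx => (hke x hx).symm.trans (hke' x (hRM.le hx))⟩
    have hγD : Factors hm.sys F R (autFun γ) := by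
      by_cases hH : meetH F T R
      · have hC := hm.meetAut_sylow hRn hRT
        obtain ⟨a, ha, haC⟩ := hC.exists_conj_le
          (C := (autInducedBy T R).map (MulAut.conj γ).toMonoidHom) (hC.2.1.map _) (by
            rintro _ ⟨c, hc, rfl⟩
            exact hm.meetAut_conj hRT hγA (hC.1 hc))
        have haF : a ∈ F.autGroup R := hm.meetA_le R (hm.meetAut_le_meetA hRT ha)
        have hδ : a * γ ∈ F.autGroup R := Subgroup.mul_mem _ haF hγA
        have hRlt : R < T := lt_of_le_of_ne hRT fun e => by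
          have h1 : Nat.card P < Nat.card T := card_lt_of_lt hTS hlt
          have h2 : Nat.card R = Nat.card T := congrArg (fun K : Subgroup Ω => Nat.card K) e
          omega
        have hδD := hext _ hδ (normalizerIn T R) (normalizerIn_gt hTp hRlt) normalizerIn_le (by
          intro t ht
          obtain ⟨htT, htn⟩ := mem_normalizerIn.mp ht
          obtain ⟨c, hc, hce⟩ := exists_autInducedBy (P := R) htT htn
          obtain ⟨h, hh, -, hhe⟩ := mem_autInducedBy.mp (haC _ ⟨c, hc, rfl⟩)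
          refine ⟨hTS htT, htn, h, hTS hh, (mul_conj_aut (α := a * γ) hce hhe).mp ?_⟩
          simp [mul_assoc])
        have haD : Factors hm.sys F R (autFun a⁻¹) :=
          ⟨1, Subgroup.one_mem _, _,
            isMor_autFun hRT (hm.meetAut_le_sys hH (Subgroup.inv_mem _ ha)),
            fun x hx => (autFun_one (hRT (autFun_mem _ hx))).symm⟩
        exact hcongr _ _ _ (hcomp _ _ _ _ hδD haD fun x hx => autFun_mem _ hx) fun x hx => by
          rw [Function.comp_apply, ← autFun_mul _ _ hx, inv_mul_cancel_left]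
      · -- some conjugate does not contain its centralizer
        have hne : ¬ centralizerIn T R ≤ R := by
          intro hle
          refine hH ⟨hRT, fun Q hQ => ?_⟩
          obtain ⟨u, hu, hui, huN⟩ := exists_map_fullyNormalized hS hF hRn (isConj_symm hQ)
          have hQS := (isConj_le hQ).2
          intro c hc
          obtain ⟨hcT, hcc⟩ := mem_centralizerIn.mp hc
          have hcS : c ∈ centralizerIn S Q := mem_centralizerIn.mpr ⟨hTS hcT, hcc⟩
          have hcN := centralizerIn_le_normalizerIn hcS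
          have hucR : u c ∈ centralizerIn T R := by
            refine mem_centralizerIn.mpr ⟨hsc _ u hu c hcN hcT, ?_⟩
            have := mapsTo_centralizerIn hu (le_normalizerIn hQS) centralizerIn_le_normalizerIn c hcS
            rw [hui] at this
            exact (mem_centralizerIn.mp this).2
          have h2 : u c ∈ img Q u := hui.ge (hle hucR)
          exact (hu.mem_img_iff (le_normalizerIn hQS) hcN).mp h2
        refine hext γ hγA (centralizerIn T R ⊔ R) ?_ (sup_le centralizerIn_le hRT) ?_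
        · exact lt_of_le_of_ne le_sup_right fun e => hne (le_sup_left.trans e.ge)
        · exact sup_le ((inf_le_inf_right _ hTS).trans (centralizerIn_le_nExt _))
            (le_nExt (isMor_autFun hRS hγA))
    obtain ⟨χ, hχ, hχl⟩ := hinverse _ θ' hθD' hfT
    rw [hθi'] at hχ
    have h1 := hcomp _ _ _ _ (hcomp _ _ _ _ hθD hγD fun x hx => hθi ▸ mem_img_of_mem θ hx)
      hχ fun x hx => autFun_mem γ (hθi ▸ mem_img_of_mem θ hx)
    refine hcongr _ _ _ h1 fun x hx => ?_
    simp only [Function.comp_apply]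
    rw [hγe _ (hθi ▸ mem_img_of_mem θ hx)]
    simp only [Function.comp_apply]
    rw [hθl x hx]
    exact hχl _ (mem_img_of_mem f hx)

theorem sys_invariant : hm.sys.IsInvariantIn F := by
  refine ⟨hm.sys_le, hm.closed, fun P hPT φ hφ α hα => ?_, fun P hP φ hφ => ?_⟩
  · obtain ⟨k, hk, hke⟩ := hm.sys_transport hα (hm.isMor_sys.mp (isMor_of_mem hφ))
    have hαT : ∀ z : ↥(T₁ ⊓ T₂), ((T₁ ⊓ T₂).subtype.comp α.toMonoidHom) z = autFun α z :=
      fun z => (autFun_coe α z).symm
    have hk' := hm.isMor_sys.mpr hk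
    rw [← map_subgroupOf_eq_img hαT hPT] at hk'
    obtain ⟨χ, hχ, hχk⟩ := hk'
    refine ⟨χ, hχ, fun x hφx hαx => ?_⟩
    have := hke x x.2
    rw [toFun_coe φ, autFun_of_mem α (hPT x.2), autFun_of_mem α hφx] at this
    rw [hχk]
    exact this
  · obtain ⟨α, hα, e, ⟨φ₀, hφ₀, he⟩, hfe⟩ := hm.sys_factors (isMor_of_mem hφ) hP
    refine ⟨α, hα, φ₀, hφ₀, fun x hx => ?_⟩
    rw [← toFun_coe φ x, hfe x x.2, ← autFun_of_mem α hx]
    exact congrArg (autFun α) (he x).symm

theorem sys_strongInv : StrongInv hm.sys F :=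
  strongInv_iff.mpr ((Cfsg.Agent.S5119.result p hm.pgroup F hm.sat hm.sys hm.sys_le hm.closed).mp
    hm.sys_invariant)

end MeetHyp

end CfsgLib.Fusion
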