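import Mathlib
import Cfsg.Agent.Lib.Fusion.MeetSystem

/-!
# Extension of the common automorphisms between groups of induced automorphisms
-/

set_option autoImplicit false
set_option linter.unusedSectionVars false
set_option maxHeartbeats 1000000

namespace CfsgLib.Fusion

open Cfsg Cfsg.FusionSystem

variable {Ω : Type*} [Group Ω] {S T₁ T₂ : Subgroup Ω} {F : FusionSystem S} {E₁ : FusionSystem T₁}
  {E₂ : FusionSystem T₂} {p : ℕ} [hp : Fact p.Prime] [Finite S]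

theorem indPre_mono {K D : Subgroup Ω} {Q Q' : Subgroup (MulAut D)} (h : Q ≤ Q') :
    indPre K D Q ≤ indPre K D Q' := fun _ hg => ⟨hg.1, hg.2.imp fun _ hσ => ⟨h hσ.1, hσ.2⟩⟩

namespace MeetHyp

variable (hm : MeetHyp F E₁ E₂ p)
include hm

/-- A common automorphism carrying one group of induced automorphisms into another extends
in the generated system. -/
theorem exists_ext_sys {D : Subgroup Ω} (hD : F.IsFullyNormalized D)
    (hH : meetH F (T₁ ⊓ T₂) D) {Q : Subgroup (MulAut D)} (hInn : Inn D ≤ Q)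
    (hQ : Q ≤ autInducedBy (T₁ ⊓ T₂) D) {θ : MulAut D} (hθ : θ ∈ meetAut F E₁ E₂ p D)
    (hθQ : ∀ q ∈ Q, θ * q * θ⁻¹ ∈ autInducedBy (T₁ ⊓ T₂) D) :
    ∃ g, IsMor hm.sys (indPre (T₁ ⊓ T₂) D Q) g ∧ ∀ x ∈ D, g x = autFun θ x := by
  have hS := hm.pgroup
  set T := T₁ ⊓ T₂ with hTdef
  have hTS : T ≤ S := hm.le_S
  have hDT : D ≤ T := hH.1
  have hCD : centralizerIn T D ≤ D := hH.2 D (isConj_refl F hD.1)
  have := finite_mulAut hD.1
  have : Finite T := finite_of_le hTS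
  have : Finite D := finite_of_le hD.1
  have hTp : IsPGroup p T := isPGroup_of_le hTS hS
  set G := meetAut F E₁ E₂ p D with hG
  obtain ⟨P₀, hP₀⟩ := (exists_sylow_iff (hm.meetAut_inner hDT)).mpr (hm.meetAut_sylow hD hDT)
  -- the groups of automorphisms attached to subgroups of the Sylow subgroup
  let Q' : Subgroup G → Subgroup (MulAut D) := fun K => K.map G.subtype ⊔ Inn D
  let Y : Subgroup G → Subgroup Ω := fun K => indPre T D (Q' K)
  have hQ'T : ∀ K, K ≤ (P₀ : Subgroup G) → Q' K ≤ autInducedBy T D := fun K hK =>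
    sup_le (by rintro _ ⟨k, hk, rfl⟩; have := hK hk; rw [hP₀] at this; exact this)
      (inn_eq_autInducedBy.le.trans fun σ hσ => by
        obtain ⟨t, ht, htn, hte⟩ := mem_autInducedBy.mp hσ
        exact mem_autInducedBy.mpr ⟨t, hDT ht, htn, hte⟩)
  have hDY : ∀ K, D ≤ Y K := fun K => le_indPre hDT le_sup_right
  have hYT : ∀ K, Y K ≤ T := fun K => indPre_le.trans normalizerIn_le
  -- how an extension acts
  have hact : ∀ {K : Subgroup G} {g : G} {w : Ω → Ω}, IsMor hm.sys (Y K) w →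
      (∀ x ∈ D, w x = autFun (g : MulAut D) x) →
      ∀ y ∈ Y K, ∃ σ ∈ Q' K, w y ∈ normalizerIn T D ∧
        ∀ x ∈ D, autFun ((g : MulAut D) * σ * (g : MulAut D)⁻¹) x = cj (w y) x := by
    intro K g w hw hwe y hy
    obtain ⟨hyN, σ, hσ, hσe⟩ := id hy
    have hcong : ∀ x ∈ D, autFun ((g : MulAut D) * σ * (g : MulAut D)⁻¹) x = cj (w y) x := by
      intro x hx
      have hx' := autFun_mem (g : MulAut D)⁻¹ hx
      have hyx : y * autFun (g : MulAut D)⁻¹ x * y⁻¹ ∈ D :=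
        (by rw [← cj_apply, ← hσe _ hx']; exact autFun_mem σ hx')
      rw [autFun_mul _ _ hx, autFun_mul _ _ hx', hσe _ hx', cj_apply y,
        ← hwe _ hyx, hw.map_conj hy (hDY K hx'), hwe _ hx',
        autFun_inv_right _ hx, cj_apply]
    refine ⟨σ, hσ, mem_normalizerIn.mpr ⟨hw.mem hy, ?_⟩, hcong⟩
    refine Subgroup.mem_normalizer_fintype fun x hx => ?_
    show cj (w y) x ∈ D
    rw [← hcong x hx]
    exact autFun_mem _ hx
  have hQ'conj : ∀ {K K' : Subgroup G} {g : G}, (∀ k ∈ K, g * k * g⁻¹ ∈ K') →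
      ∀ σ ∈ Q' K, (g : MulAut D) * σ * (g : MulAut D)⁻¹ ∈ Q' K' := by
    intro K K' g h
    suffices hle : Q' K ≤ (Q' K').comap (MulAut.conj (g : MulAut D)).toMonoidHom from
      fun σ hσ => hle hσ
    refine sup_le ?_ fun σ hσ => Subgroup.mem_sup_right (inn_conj_mem hσ)
    rintro _ ⟨k, hk, rfl⟩
    exact Subgroup.mem_sup_left ⟨g * k * g⁻¹, h k hk, rfl⟩
  let M : Subgroup G → (G → G) → Prop := fun K f =>
    IsMor (groupFusionSystem (P₀ : Subgroup G)) K f ∧ ∃ g : G, (∀ k ∈ K, f k = cj g k) ∧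
      ∃ w, IsMor hm.sys (Y K) w ∧ ∀ x ∈ D, w x = autFun (g : MulAut D) x
  have hM : ∃ E : FusionSystem (P₀ : Subgroup G), ∀ K f, IsMor E K f ↔ M K f := by
    refine ⟨ofPred (P₀ : Subgroup G) M (fun K f h => ⟨h.1.le, fun k hk => h.1.mem hk⟩)
      (fun K f h x hx y hy e => h.1.inj hx hy e) ?_ ?_ ?_ ?_, fun K f => ?_⟩
    · rintro K f f' ⟨h1, g, hg, w, hw⟩ e
      exact ⟨h1.congr e, g, fun k hk => (e k hk).symm.trans (hg k hk), w, hw⟩
    · intro K a hK ha
      have ha' := ha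
      rw [hP₀] at ha'
      obtain ⟨t, ht, htn, hte⟩ := mem_autInducedBy.mp (Subgroup.mem_subgroupOf.mp ha')
      exact ⟨isMor_cj _ hK ha, a, fun k _ => rfl, cj t, isMor_cj _ (hYT K) ht,
        fun x hx => (hte x hx).symm⟩
    · rintro K K' f f' ⟨h1, g, hg, w, hw, hwe⟩ ⟨h1', g', hg', w', hw', hwe'⟩ hff'
      have hgK : ∀ k ∈ K, g * k * g⁻¹ ∈ K' := fun k hk => by
        rw [← cj_apply, ← hg k hk]; exact hff' k hk
      have hwY : ∀ y ∈ Y K, w y ∈ Y K' := fun y hy => by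
        obtain ⟨σ, hσ, hn, hc⟩ := hact hw hwe y hy
        exact ⟨hn, _, hQ'conj hgK σ hσ, hc⟩
      refine ⟨h1.comp h1' hff', g' * g, fun k hk => ?_, w' ∘ w, hw.comp hw' hwY, fun x hx => ?_⟩
      · rw [Function.comp_apply, hg' _ (hff' k hk), hg k hk, cj_mul]
      · rw [Function.comp_apply, hwe x hx, hwe' _ (autFun_mem _ hx), Subgroup.coe_mul,
          autFun_mul _ _ hx]
    · rintro K f ⟨h1, g, hg, w, hw, hwe⟩ -
      obtain ⟨fi, hfi, hfl, -, -⟩ := h1.inverse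
      obtain ⟨wi, hwi, hwl, -, -⟩ := hw.inverse
      refine ⟨fi, ⟨hfi, g⁻¹, fun k' hk' => ?_, wi, hwi.restrict ?_, fun x hx => ?_⟩, hfl⟩
      · obtain ⟨k, hk, rfl⟩ := h1.mem_img.mp hk'
        rw [hfl k hk, hg k hk, cj_inv_cj]
      · -- the image is everything
        intro z hz
        obtain ⟨hzN, τ, hτ, hτe⟩ := hz
        have hτ' := hQ'conj (K' := K) (g := g⁻¹) (fun k' hk' => by
          obtain ⟨k, hk, rfl⟩ := h1.mem_img.mp hk'
          rw [hg k hk, ← cj_apply, cj_inv_cj]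
          exact hk) τ hτ
        obtain ⟨y, hy, hyn, hye⟩ := mem_autInducedBy.mp (hQ'T K h1.le hτ')
        have hyY : y ∈ Y K := ⟨mem_normalizerIn.mpr ⟨hy, hyn⟩, _, hτ', hye⟩
        obtain ⟨σ, -, hwyN, -⟩ := hact hw hwe y hyY
        have hd : (w y)⁻¹ * z ∈ centralizerIn T D := by
          refine mem_centralizerIn.mpr ⟨T.mul_mem (T.inv_mem (mem_normalizerIn.mp hwyN).1)
            (mem_normalizerIn.mp hzN).1, fun x hx => ?_⟩
          have hx' := autFun_mem (g : MulAut D)⁻¹ hx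
          have h2 : cj (w y) x = autFun τ x := by
            have hyx : cj y (autFun (g : MulAut D)⁻¹ x) ∈ D := hye _ hx' ▸ autFun_mem _ hx'
            conv_lhs => rw [← autFun_inv_right (g : MulAut D) hx, ← hwe _ hx', cj_apply,
              ← hw.map_conj hyY (hDY K hx'), ← cj_apply, hwe _ hyx, ← hye _ hx']
            rw [Subgroup.coe_inv, inv_inv, autFun_mul _ _ hx', autFun_mul _ _ (autFun_mem _ hx'),
              autFun_inv_right (g : MulAut D) hx,
              autFun_inv_right (g : MulAut D) (autFun_mem τ hx)]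
          rw [cj_mul, ← hτe x hx, ← h2, cj_inv_cj]
        obtain ⟨e, he, hee⟩ : ∃ e ∈ D, (w y)⁻¹ * z = w e :=
          ⟨autFun (g : MulAut D)⁻¹ ((w y)⁻¹ * z), autFun_mem _ (hCD hd), by
            rw [hwe _ (autFun_mem _ (hCD hd)), autFun_inv_right _ (hCD hd)]⟩
        refine hw.mem_img.mpr ⟨y * e, (Y K).mul_mem hyY (hDY K he), ?_⟩
        rw [hw.map_mul hyY (hDY K he), ← hee, mul_inv_cancel_left]
      · have hx' := autFun_mem (g : MulAut D)⁻¹ hx
        rw [Subgroup.coe_inv]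
        conv_lhs => rw [← autFun_inv_right (g : MulAut D) hx, ← hwe _ hx']
        exact hwl _ (hDY K hx')
    · rw [isMor_ofPred fun h x hx y hy => h.1.map_mul hx hy]
  obtain ⟨E, hE⟩ := hM
  have hle : groupFusionSystem (P₀ : Subgroup G) ≤ E := by
    refine alperin P₀.2 (groupFusion_isSaturated P₀) fun K hK α hα => ?_
    have hKP : K ≤ (P₀ : Subgroup G) := hK.elim (fun e => e.le) essential_le
    refine (autGroup_eq_set hKP α).mpr ((hE K _).mpr ⟨isMor_autFun hKP hα, ?_⟩)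
    rw [autGroup_group hKP] at hα
    obtain ⟨g, -, hgn, hge⟩ := mem_autInducedBy.mp hα
    obtain ⟨γ, hγ, hγe⟩ := hm.meetAut_extend hD hH (le_sup_right : Inn D ≤ Q' K) (hQ'T K hKP) g.2
      (fun σ hσ => hQ'conj (fun k hk => (Subgroup.mem_normalizer_iff.mp hgn k).mp hk) σ hσ)
    exact ⟨g, hge, autFun γ, isMor_autFun (hYT K)
      (hm.meetAut_le_sys (hm.meetH_mono hH (hDY K) (hYT K)) hγ), hγe⟩
  -- apply it to `Q`
  set K := Q.subgroupOf G with hKdef
  have hKP : K ≤ (P₀ : Subgroup G) := fun k hk => by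
    rw [hP₀]
    exact hQ hk
  set θ' : G := ⟨θ, hθ⟩ with hθ'
  have hmor : IsMor (groupFusionSystem (P₀ : Subgroup G)) K (cj θ') := isMor_group.mpr
    ⟨hKP, fun k hk => by rw [hP₀]; exact hθQ k hk, θ', fun _ _ => rfl⟩
  obtain ⟨-, g, hg, w, hw, hwe⟩ := (hE K _).mp (le_iff_isMor.mp hle K _ hmor)
  have hz : ∀ k ∈ K, cj (g⁻¹ * θ') k = k := fun k hk => by
    rw [cj_mul, hg k hk, cj_inv_cj]
  have hQG : Q ≤ G := hQ.trans (hm.meetAut_inner hDT)
  have hzQ : ∀ q ∈ Q, ((g⁻¹ * θ' : G) : MulAut D) * q * ((g⁻¹ * θ' : G) : MulAut D)⁻¹ ∈ Q := by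
    intro q hq
    have := congrArg Subtype.val (hz ⟨q, hQG hq⟩ hq)
    rw [show ((g⁻¹ * θ' : G) : MulAut D) * q * ((g⁻¹ * θ' : G) : MulAut D)⁻¹ = q from this]
    exact hq
  obtain ⟨γ, hγ, hγe⟩ := hm.meetAut_extend hD hH hInn hQ (g⁻¹ * θ' : G).2 hzQ
  have hYQ : indPre T D Q ≤ Y K := indPre_mono
    ((Subgroup.map_subgroupOf_eq_of_le hQG).ge.trans le_sup_left)
  have hYQT : indPre T D Q ≤ T := indPre_le.trans normalizerIn_le
  refine ⟨w ∘ autFun γ, (isMor_autFun hYQT (hm.meetAut_le_sys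
    (hm.meetH_mono hH (le_indPre hDT hInn) hYQT) hγ)).comp hw
      fun y hy => hYQ (autFun_mem γ hy), fun x hx => ?_⟩
  rw [Function.comp_apply, hγe x hx, hwe _ (autFun_mem _ hx), ← autFun_mul _ _ hx,
    Subgroup.coe_mul, Subgroup.coe_inv, mul_inv_cancel_left]

end MeetHyp

end CfsgLib.Fusion
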