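import Mathlib
import Cfsg.Agent.Lib.Fusion.Moving
import Cfsg.Agent.Lib.Fusion.MeetExtGroup
import Cfsg.Agent.Lib.Fusion.ComponentCentral

/-!
# Coprime maps of a normal subsystem fixing the meet with a strongly closed subgroup

A coprime automorphism in a normal subsystem over `V` fixing `V ⊓ U` extends fixing `U`.
-/

set_option autoImplicit false
set_option linter.unusedSectionVars false
set_option maxHeartbeats 1000000

namespace CfsgLib.Fusion

open Cfsg Cfsg.FusionSystem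

variable {Ω : Type*} [Group Ω] {S V : Subgroup Ω} {F : FusionSystem S} {E : FusionSystem V}
  {p : ℕ} [hp : Fact p.Prime] [Finite S]

/-- The automorphisms trivial modulo `W` acting on `W` as elements of `M` form a subgroup. -/
def modAut (F : FusionSystem S) (W Q M : Subgroup Ω) (hWQ : W ≤ Q)
    (hn : ∀ s ∈ M, ∀ w ∈ W, cj s w ∈ W) : Subgroup (MulAut Q) where
  carrier := {κ | κ ∈ F.autGroup Q ∧ (∀ q ∈ Q, q⁻¹ * autFun κ q ∈ W) ∧
    ∃ s ∈ M, ∀ w ∈ W, autFun κ w = cj s w}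
  one_mem' := ⟨one_mem _, fun q hq => by rw [autFun_one hq, inv_mul_cancel]; exact one_mem _,
    1, M.one_mem, fun w hw => by rw [autFun_one (hWQ hw), cj_one]⟩
  mul_mem' := by
    rintro κ τ ⟨hκ, hκd, s, hs, hκs⟩ ⟨hτ, hτd, t, ht, hτt⟩
    refine ⟨Subgroup.mul_mem _ hκ hτ, fun q hq => ?_, s * t, M.mul_mem hs ht, fun w hw => ?_⟩
    · rw [autFun_mul _ _ hq]
      have h := W.mul_mem (hτd q hq) (hκd _ (autFun_mem τ hq))
      simpa [mul_assoc] using h
    · rw [autFun_mul _ _ (hWQ hw), hτt w hw, hκs _ (hn t ht w hw), cj_mul]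
  inv_mem' := by
    rintro κ ⟨hκ, hκd, s, hs, hκs⟩
    refine ⟨Subgroup.inv_mem _ hκ, fun q hq => ?_, s⁻¹, M.inv_mem hs, fun w hw => ?_⟩
    · have h := W.inv_mem (hκd _ (autFun_mem κ⁻¹ hq))
      rwa [autFun_inv_right κ hq, mul_inv_rev, inv_inv] at h
    · have hw' := hn _ (M.inv_mem hs) w hw
      conv_lhs => rw [← cj_cj_inv s w, ← hκs _ hw']
      exact autFun_inv_left κ (hWQ hw')

theorem isPGroup_modAut (hS : IsPGroup p S) {W Q M : Subgroup Ω} (hQS : Q ≤ S) (hMS : M ≤ S)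
    (hWQ : W ≤ Q) (hn : ∀ s ∈ M, ∀ w ∈ W, cj s w ∈ W) : IsPGroup p (modAut F W Q M hWQ hn) := by
  rintro ⟨κ, hκ⟩
  obtain ⟨a, ha⟩ := (IsPGroup.iff_card).mp hS
  have hpow : ∀ n, (κ ^ n) ∈ modAut F W Q M hWQ hn := fun n => Subgroup.pow_mem _ hκ n
  obtain ⟨-, -, s, hs, hκs⟩ := hκ
  have hsn : ∀ n : ℕ, ∀ w ∈ W, autFun (κ ^ n) w = cj (s ^ n) w := by
    intro n
    induction n with
    | zero => intro w hw; rw [pow_zero, pow_zero, autFun_one (hWQ hw), cj_one]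
    | succ n ih =>
      intro w hw
      rw [pow_succ', pow_succ', autFun_mul _ _ (hWQ hw), ih w hw,
        hκs _ (hn _ (M.pow_mem hs n) w hw), cj_mul]
  have hsp : s ^ p ^ a = 1 := by
    have h := pow_card_eq_one' (G := S) (x := ⟨s, hMS hs⟩)
    rw [ha] at h
    exact congrArg Subtype.val h
  set κ₁ := κ ^ p ^ a with hκ₁
  have hfix : ∀ w ∈ W, autFun κ₁ w = w := fun w hw => by rw [hsn _ w hw, hsp, cj_one]
  have hd := (hpow (p ^ a)).2.1
  refine ⟨a + a, Subtype.ext (autFun_inj fun q hq => ?_)⟩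
  have he : ∀ m : ℕ, autFun (κ₁ ^ m) q = q * (q⁻¹ * autFun κ₁ q) ^ m := by
    intro m
    induction m with
    | zero => rw [pow_zero, autFun_one hq, pow_zero, mul_one]
    | succ m ih =>
      rw [pow_succ', autFun_mul _ _ hq, ih, autFun_map_mul κ₁ hq
        (hWQ (W.pow_mem (hd q hq) m)), hfix _ (W.pow_mem (hd q hq) m),
        pow_succ' (q⁻¹ * autFun κ₁ q), ← mul_assoc, mul_inv_cancel_left]
  have h1 : (q⁻¹ * autFun κ₁ q) ^ p ^ a = 1 := by
    have h := pow_card_eq_one' (G := S) (x := ⟨_, hQS (hWQ (hd q hq))⟩)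
    rw [ha] at h
    exact congrArg Subtype.val h
  rw [SubgroupClass.coe_pow, pow_add, pow_mul, ← hκ₁, he, h1, mul_one]
  exact (autFun_one hq).symm

/-- A coprime automorphism in a normal subsystem over `V` fixing `V ⊓ U` extends to one fixing
`U`, for `U` strongly closed. -/
theorem fix_extend (hS : IsPGroup p S) (hF : F.IsSaturated p) (hE : E.IsNormalIn F p)
    {U : Subgroup Ω} (hU : F.StronglyClosed U) {Q : Subgroup Ω} (hQV : Q ≤ V)
    (hWQ : V ⊓ U ≤ Q) {β : MulAut Q} (hβ : β ∈ E.autGroup Q) (hc : (orderOf β).Coprime p)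
    (hfix : ∀ w ∈ V ⊓ U, autFun β w = w) :
    ∃ g, IsMor F (Q ⊔ U) g ∧ (∀ q ∈ Q, g q = autFun β q) ∧ ∀ u ∈ U, g u = u := by
  have hinv := strongInv_of_isNormalIn hS hF hE
  obtain ⟨hEs, -, hsub, hV, -⟩ := id hE.1
  obtain ⟨hVS, hVsc⟩ := stronglyClosed_iff.mp hV
  obtain ⟨hUS, hUsc⟩ := stronglyClosed_iff.mp hU
  have hSV := stronglyClosed_le_normalizer hV
  have hSU := stronglyClosed_le_normalizer hU
  have hQS := hQV.trans hVS
  have := finite_mulAut hQS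
  set W := V ⊓ U with hW
  have hn : ∀ s ∈ S, ∀ w ∈ W, cj s w ∈ W := fun s hs w hw =>
    ⟨(Subgroup.mem_normalizer_iff.mp (hSV hs) w).mp hw.1,
      (Subgroup.mem_normalizer_iff.mp (hSU hs) w).mp hw.2⟩
  have hcomm : ∀ u ∈ U, ∀ q ∈ Q, q⁻¹ * cj u q ∈ W := fun u hu q hq =>
    ⟨V.mul_mem (V.inv_mem (hQV hq)) ((Subgroup.mem_normalizer_iff.mp (hSV (hUS hu)) q).mp (hQV hq)),
      by
        rw [cj_apply, show q⁻¹ * (u * q * u⁻¹) = q⁻¹ * u * q * u⁻¹ by group]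
        refine U.mul_mem ?_ (U.inv_mem hu)
        simpa [cj] using
          (Subgroup.mem_normalizer_iff.mp (hSU (S.inv_mem (hQS hq))) u).mp hu⟩
  have hUQ : ∀ u ∈ U, ∀ q ∈ Q, cj u q ∈ Q := fun u hu q hq => by
    have h := Q.mul_mem hq (hWQ (hcomm u hu q hq))
    rwa [mul_inv_cancel_left] at h
  have : Finite Q := finite_of_le hQS
  have hUN : U ≤ normalizerIn S Q := fun u hu => mem_normalizerIn.mpr
    ⟨hUS hu, Subgroup.mem_normalizer_fintype fun q hq => hUQ u hu q hq⟩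
  set K := modAut F W Q S hWQ hn with hK
  have hKp : IsPGroup p K := isPGroup_modAut hS hQS le_rfl hWQ hn
  have hUK : ∀ u ∈ U, ∃ κ ∈ K, ∀ q ∈ Q, autFun κ q = cj u q := by
    intro u hu
    obtain ⟨σ, hσ, hσe⟩ := exists_autInducedBy (P := Q) (K := S) (hUS hu)
      (mem_normalizerIn.mp (hUN hu)).2
    exact ⟨σ, ⟨autInducedBy_le F hQS hσ, fun q hq => hσe q hq ▸ hcomm u hu q hq, u, hUS hu,
      fun w hw => hσe w (hWQ hw)⟩, hσe⟩
  have hβF : β ∈ F.autGroup Q := autGroup_mono hsub hβ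
  have hKβ : ∀ κ ∈ K, β * κ * β⁻¹ ∈ K := by
    rintro κ ⟨hκ, hκd, s, hs, hκs⟩
    refine ⟨Subgroup.mul_mem _ (Subgroup.mul_mem _ hβF hκ) (Subgroup.inv_mem _ hβF),
      fun q hq => ?_, s, hs, fun w hw => ?_⟩
    · have hq' := autFun_mem β⁻¹ hq
      rw [autFun_mul _ _ hq, autFun_mul _ _ hq']
      nth_rw 1 [← autFun_inv_right β hq]
      rw [← autFun_inv_map β hq',
        ← autFun_map_mul β (Q.inv_mem hq') (autFun_mem κ hq'), hfix _ (hκd _ hq')]
      exact hκd _ hq'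
    · have hi : autFun β⁻¹ w = w := by
        conv_lhs => rw [← hfix w hw]
        exact autFun_inv_left β (hWQ hw)
      rw [autFun_mul _ _ (hWQ hw), hi, autFun_mul _ _ (hWQ hw), hκs w hw, hfix _ (hn s hs w hw)]
  obtain ⟨R, H, hRn, hH, hHi, hind⟩ := exists_placed hS hF hQS (P := K) (fun κ hκ => hκ.1) hKp
    (X := U) hUN hUK
  have hRS := hRn.1
  have : Finite R := finite_of_le hRS
  have hHQ := hH.restrict (le_sup_left : Q ≤ Q ⊔ U)
  have hHU := hH.restrict (le_sup_right : U ≤ Q ⊔ U)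
  obtain ⟨e, he, -, -⟩ := exists_transport hHQ hHi
  have hRV : R ≤ V := hHi ▸ img_le fun q hq => hVsc Q H hHQ q hq (hQV hq)
  set α := e β with hαdef
  have hα : α ∈ E.autGroup R := aut_transport_mem hinv hV hHQ hHi hQV he hβ
  have hαc : (orderOf α).Coprime p := by rwa [hαdef, MulEquiv.orderOf_eq]
  have hHmem : ∀ q ∈ Q, H q ∈ R := fun q hq => hHi ▸ mem_img_of_mem H hq
  set KR := K.map e.toMonoidHom ⊔ Inn R with hKR
  have hKRS : KR ≤ autInducedBy S R := by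
    refine sup_le ?_ (inn_eq_autInducedBy.le.trans fun σ hσ => ?_)
    · rintro _ ⟨κ, hκ, rfl⟩
      obtain ⟨r, hr, hre⟩ := hind κ hκ
      refine mem_autInducedBy.mpr ⟨r, (mem_normalizerIn.mp hr).1, (mem_normalizerIn.mp hr).2,
        fun y hy => ?_⟩
      obtain ⟨q, hq, rfl⟩ := hHQ.mem_img.mp (hHi.ge hy)
      exact (he κ q hq).trans (hre q hq)
    · obtain ⟨t, ht, htn, hte⟩ := mem_autInducedBy.mp hσ
      exact mem_autInducedBy.mpr ⟨t, hRS ht, htn, hte⟩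
  have hαKR : ∀ σ ∈ KR, α * σ * α⁻¹ ∈ KR := by
    have hle : KR ≤ KR.comap (MulAut.conj α).toMonoidHom := by
      refine sup_le ?_ ?_
      · rintro _ ⟨κ, hκ, rfl⟩
        refine Subgroup.mem_sup_left ⟨β * κ * β⁻¹, hKβ κ hκ, ?_⟩
        simp [hαdef]
      · intro σ hσ
        refine Subgroup.mem_sup_right ?_
        obtain ⟨r, rfl⟩ := hσ
        exact ⟨α r, by ext z; simp [MulAut.conj_apply]⟩
    exact fun σ hσ => hle hσ
  set X := indPre S R KR with hXdef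
  have hXN : X ≤ normalizerIn S R := indPre_le
  have hRX : R ≤ X := le_indPre hRS le_sup_right
  have hnorm : ∀ x ∈ X, ∃ x' ∈ X, ∀ q ∈ R, autFun α (cj x q) = cj x' (autFun α q) := by
    intro x hx
    obtain ⟨-, σ, hσ, hσe⟩ := id hx
    have hσ' := hαKR σ hσ
    obtain ⟨x', hx', hxn, hxe⟩ := mem_autInducedBy.mp (hKRS hσ')
    refine ⟨x', ⟨mem_normalizerIn.mpr ⟨hx', hxn⟩, _, hσ', hxe⟩, fun q hq => ?_⟩
    rw [← hσe q hq, ← hxe _ (autFun_mem α hq), autFun_mul _ _ (autFun_mem α hq),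
      autFun_inv_left α hq, autFun_mul _ _ hq]
  obtain ⟨Γ, hΓ, hΓc, hΓR, hΓC⟩ := mov hS hF hE hRn hRV hRX hXN centralizer_le_indPre hα hαc hnorm
  have hXS : X ≤ S := hXN.trans normalizerIn_le
  have : Finite X := finite_of_le hXS
  have hXp : IsPGroup p X := isPGroup_of_le hXS hS
  have hΓm := isMor_autFun hXS hΓ
  have : Finite U := finite_of_le hUS
  have hHUi : img U H = U := hHU.img_eq_self fun u hu => hUsc U H hHU u hu hu
  have hUκ : ∀ u ∈ U, ∃ κ ∈ K, ∀ y ∈ R, autFun (e κ) y = cj (H u) y := by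
    intro u hu
    obtain ⟨κ, hκ, hκe⟩ := hUK u hu
    refine ⟨κ, hκ, fun y hy => ?_⟩
    obtain ⟨q, hq, rfl⟩ := hHQ.mem_img.mp (hHi.ge hy)
    rw [he κ q hq, hκe q hq, cj_apply,
      hH.map_conj (Subgroup.mem_sup_right hu) (Subgroup.mem_sup_left hq), cj_apply]
  have hUX : U ≤ X := fun y hy => by
    obtain ⟨u, hu, rfl⟩ := hHU.mem_img.mp (hHUi.ge hy)
    obtain ⟨κ, hκ, hκe⟩ := hUκ u hu
    exact ⟨mem_normalizerIn.mpr ⟨hUS hy, Subgroup.mem_normalizer_fintype fun z hz =>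
      (hκe z hz ▸ autFun_mem _ hz : cj (H u) z ∈ R)⟩, _,
      Subgroup.mem_sup_left ⟨κ, hκ, rfl⟩, hκe⟩
  have hWR : W ≤ R := fun w hw => by
    have hWQU : W ≤ Q ⊔ U := hWQ.trans le_sup_left
    have : Finite W := finite_of_le (hWQ.trans hQS)
    have hWi : img W H = W := (hH.restrict hWQU).img_eq_self fun z hz =>
      ⟨hVsc _ H hH z (hWQU hz) hz.1, hUsc _ H hH z (hWQU hz) hz.2⟩
    exact hHi ▸ img_mono H hWQ (hWi.ge hw)
  have hΓW : ∀ w ∈ W, autFun Γ w = w := fun w hw => by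
    rw [hΓR w (hWR hw)]
    obtain ⟨q, hq, rfl⟩ := hHQ.mem_img.mp (hHi.ge (hWR hw))
    rw [hαdef, he β q hq]
    refine congrArg H (hfix q ⟨?_, ?_⟩)
    · exact hQV hq
    · obtain ⟨u, hu, hue⟩ := hHU.mem_img.mp (hHUi.ge hw.2)
      rwa [hH.inj (Subgroup.mem_sup_left hq) (Subgroup.mem_sup_right hu) hue.symm]
  have hVn : (V.subgroupOf S).Normal := Subgroup.normal_subgroupOf_of_le_normalizer hSV
  have hΓU : ∀ u ∈ U, autFun Γ u = u := by
    intro y hy
    have hΓy : autFun Γ y ∈ U := hUsc X _ hΓm y (hUX hy) hy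
    obtain ⟨-, σ, hσ, hσe⟩ := id (hUX hy)
    obtain ⟨-, σ', -, hσ'e⟩ := id (hUX hΓy)
    have hσ'eq : σ' = α * σ * α⁻¹ := autFun_inj fun z hz => by
      have hz' := autFun_mem α⁻¹ hz
      rw [hσ'e z hz, autFun_mul _ _ hz, autFun_mul _ _ hz', hσe _ hz']
      have hm := hσe _ hz' ▸ autFun_mem σ hz'
      rw [← hΓR _ hm, cj_apply y, hΓm.map_conj (hUX hy) (hRX hz'), hΓR _ hz',
        autFun_inv_right α hz, cj_apply]
    have hσF : σ ∈ F.autGroup R := autInducedBy_le F hRS (hKRS hσ)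
    have hδE : σ⁻¹ * σ' ∈ E.autGroup R := by
      have h1 := autGroup_conj_mem hinv hV hRV (Subgroup.inv_mem _ hσF) hα
      rw [inv_inv] at h1
      have h2 := Subgroup.mul_mem _ h1 (Subgroup.inv_mem _ hα)
      rwa [hσ'eq, show σ⁻¹ * (α * σ * α⁻¹) = σ⁻¹ * α * σ * α⁻¹ by simp [mul_assoc]]
    set δ := y⁻¹ * autFun Γ y with hδdef
    have hδU : δ ∈ U := U.mul_mem (U.inv_mem hy) hΓy
    have hδact : ∀ z ∈ R, autFun (σ⁻¹ * σ') z = cj δ z := fun z hz => by
      have hm := hσ'e z hz ▸ autFun_mem σ' hz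
      rw [autFun_mul _ _ hz, hσ'e z hz, hδdef, cj_mul]
      have hm' : cj y⁻¹ (cj (autFun Γ y) z) ∈ R :=
        (Subgroup.mem_normalizer_iff.mp (Subgroup.inv_mem _ (mem_normalizerIn.mp
          (hXN (hUX hy))).2) _).mp hm
      conv_lhs => rw [← cj_cj_inv y (cj (autFun Γ y) z), ← hσe _ hm']
      exact autFun_inv_left σ hm'
    have hδS : σ⁻¹ * σ' ∈ autInducedBy S R := mem_autInducedBy.mpr
      ⟨δ, hUS hδU, Subgroup.mem_normalizer_fintype fun z hz =>
        (hδact z hz ▸ autFun_mem _ hz : cj δ z ∈ R), hδact⟩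
    obtain ⟨v, hv, hvn, hve⟩ := mem_autInducedBy.mp
      ((autInducedBy_inf_autGroup hS hF hEs hsub hV hRn hRV).le ⟨hδS, hδE⟩)
    set c := v⁻¹ * δ with hcdef
    have hcC : c ∈ centralizerIn S R := mem_centralizerIn.mpr
      ⟨S.mul_mem (S.inv_mem (hVS hv)) (hUS hδU), fun z hz => by
        rw [hcdef, cj_mul, ← hδact z hz, hve z hz, cj_inv_cj]⟩
    let π := QuotientGroup.mk' (V.subgroupOf S)
    have hπ : ∀ a b : S, π a = π b ↔ (a : Ω)⁻¹ * b ∈ V := fun a b =>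
      QuotientGroup.eq.trans Subgroup.mem_subgroupOf
    have hcX : c ∈ X := centralizer_le_indPre hcC
    have hπv : π ⟨v, hVS hv⟩ = 1 := (QuotientGroup.eq_one_iff _).mpr (Subgroup.mem_subgroupOf.mpr hv)
    set yS : S := ⟨y, hUS hy⟩
    set cS : S := ⟨c, (mem_centralizerIn.mp hcC).1⟩
    have hΓV : ∀ a ∈ X, a ∈ V → autFun Γ a ∈ V := fun a ha haV => hVsc X _ hΓm a ha haV
    have hit : ∀ n : ℕ, π ⟨autFun (Γ ^ n) y, hXS (autFun_mem _ (hUX hy))⟩ = π yS * π cS ^ n := by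
      intro n
      induction n with
      | zero =>
        rw [pow_zero (π cS), mul_one]
        congr 1
        exact Subtype.ext (by rw [pow_zero]; exact autFun_one (hUX hy))
      | succ n ih =>
        rw [← map_pow, ← map_mul, hπ] at ih
        set a := autFun (Γ ^ n) y with ha
        have haX : a ∈ X := autFun_mem _ (hUX hy)
        change a⁻¹ * (y * c ^ n) ∈ V at ih
        have hcn : c ^ n ∈ X := X.pow_mem hcX n
        have h1 := hΓV _ (X.mul_mem (X.inv_mem haX) (X.mul_mem (hUX hy) hcn)) ih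
        rw [autFun_map_mul Γ (X.inv_mem haX) (X.mul_mem (hUX hy) hcn), autFun_inv_map Γ haX,
          autFun_map_mul Γ (hUX hy) hcn, hΓm.map_pow hcX] at h1
        have hΓc : π ⟨autFun Γ c, hXS (autFun_mem _ hcX)⟩ = π cS :=
          ((hπ _ _).mpr (hΓC c hcC)).symm
        have hΓy' : π ⟨autFun Γ y, hUS hΓy⟩ = π yS * π cS := by
          have e : (⟨autFun Γ y, hUS hΓy⟩ : S) = yS * ⟨v, hVS hv⟩ * cS :=
            Subtype.ext (by simp [yS, cS, hcdef, hδdef, mul_assoc])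
          rw [e, map_mul, map_mul, hπv, mul_one]
        have h2 := (hπ ⟨autFun Γ a, hXS (autFun_mem _ haX)⟩
          (⟨autFun Γ y, hUS hΓy⟩ * ⟨autFun Γ c, hXS (autFun_mem _ hcX)⟩ ^ n)).mpr h1
        rw [map_mul, map_pow, hΓc, hΓy', mul_assoc, ← pow_succ'] at h2
        rw [← h2]
        congr 1
        exact Subtype.ext (by
          show autFun (Γ ^ (n + 1)) y = autFun Γ a
          rw [pow_succ', autFun_mul _ _ (hUX hy)])
    have h1 := hit (orderOf Γ)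
    have e : (⟨autFun (Γ ^ orderOf Γ) y, hXS (autFun_mem _ (hUX hy))⟩ : S) = yS :=
      Subtype.ext (by simp only [pow_orderOf_eq_one]; exact autFun_one (hUX hy))
    rw [e, left_eq_mul] at h1
    obtain ⟨k, hk⟩ := hS cS
    have h2 : π cS ^ p ^ k = 1 := by rw [← map_pow, hk, map_one]
    have h3 : π cS = 1 := orderOf_eq_one_iff.mp (Nat.eq_one_of_dvd_coprimes
      (hΓc.pow_right k) (orderOf_dvd_of_pow_eq_one h1) (orderOf_dvd_of_pow_eq_one h2))
    have hcV : c ∈ V := Subgroup.mem_subgroupOf.mp ((QuotientGroup.eq_one_iff cS).mp h3)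
    have hδV : δ ∈ V := by
      have h := V.mul_mem hv hcV
      rwa [hcdef, mul_inv_cancel_left] at h
    exact fix_of_diff_fixed hXp hΓc (hUX hy) (hΓW δ ⟨hδV, hδU⟩)
  have himg : img (Q ⊔ U) H = R ⊔ U := by rw [hH.img_sup, hHi, hHUi]
  have hle : R ⊔ U ≤ X := sup_le hRX hUX
  have hst : ∀ y ∈ img (Q ⊔ U) H, autFun Γ y ∈ img (Q ⊔ U) H := by
    rw [himg]
    intro y hy
    have h := mem_img_of_mem (autFun Γ) hy
    rw [(hΓm.restrict hle).img_sup, img_congr (P := R) hΓR, img_autFun,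
      img_congr (P := U) (g := id) hΓU, img_id] at h
    exact h
  obtain ⟨γ, hγ, hγe⟩ := exists_aut_pullback hH hΓm (himg.le.trans hle) hst
  refine ⟨autFun γ, isMor_autFun hH.le hγ, fun q hq => ?_, fun u hu => ?_⟩
  · have hqs : q ∈ Q ⊔ U := Subgroup.mem_sup_left hq
    refine hH.inj (autFun_mem γ hqs) (Subgroup.mem_sup_left (autFun_mem β hq)) ?_
    rw [hγe q hqs, hΓR _ (hHmem q hq), hαdef, he β q hq]
  · have hus : u ∈ Q ⊔ U := Subgroup.mem_sup_right hu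
    refine hH.inj (autFun_mem γ hus) hus ?_
    rw [hγe u hus]
    exact hΓU _ (hHUi ▸ mem_img_of_mem H hu)

end CfsgLib.Fusion
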