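import Mathlib
import Cfsg.Agent.Lib.Fusion.FixExtend

/-!
# Maps between subgroups of a product of commuting strongly closed subgroups

A map on `P` extends to the projection of `P ⊓ (T₁ ⊔ T₂)` to `T₁`.
-/

set_option autoImplicit false
set_option linter.unusedSectionVars false
set_option maxHeartbeats 1000000

namespace CfsgLib.Fusion

open Cfsg Cfsg.FusionSystem

variable {Ω : Type*} [Group Ω]

/-- The projection to `T₁` of `X` along `T₂`. -/
def cproj (T₁ T₂ X : Subgroup Ω) : Subgroup Ω := T₁ ⊓ (X ⊔ T₂)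

theorem mem_sup_of_le_normalizer {A B : Subgroup Ω} (hB : B ≤ Subgroup.normalizer (A : Set Ω))
    {x : Ω} (hx : x ∈ A ⊔ B) : ∃ a ∈ A, ∃ b ∈ B, a * b = x := by
  rw [← SetLike.mem_coe, Subgroup.coe_mul_of_right_le_normalizer_left A B hB] at hx
  exact Set.mem_mul.mp hx

theorem mem_sup_of_normalized {A B : Subgroup Ω} (hA : A ≤ Subgroup.normalizer (B : Set Ω))
    {x : Ω} (hx : x ∈ A ⊔ B) : ∃ a ∈ A, ∃ b ∈ B, a * b = x := by
  rw [← SetLike.mem_coe, Subgroup.coe_mul_of_left_le_normalizer_right A B hA] at hx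
  exact Set.mem_mul.mp hx

variable {T₁ T₂ : Subgroup Ω}

theorem comm_of_commutator_bot (hc : ⁅T₁, T₂⁆ = ⊥) {a b : Ω} (ha : a ∈ T₁) (hb : b ∈ T₂) :
    a * b = b * a := by
  exact (Subgroup.mem_centralizer_iff.mp
    (Subgroup.commutator_eq_bot_iff_le_centralizer.mp hc ha) b hb).symm

theorem le_normalizer_of_comm (hc : ⁅T₁, T₂⁆ = ⊥) : T₁ ⊔ T₂ ≤ Subgroup.normalizer (T₂ : Set Ω) :=
  sup_le (fun a ha => Subgroup.mem_normalizer_iff.mpr fun b => by
    constructor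
    · intro hb
      rwa [comm_of_commutator_bot hc ha hb, mul_inv_cancel_right]
    · intro hb
      have h := comm_of_commutator_bot hc (T₁.inv_mem ha) hb
      rw [show a⁻¹ * (a * b * a⁻¹) = b * a⁻¹ by group] at h
      rwa [← mul_right_cancel h] at hb) Subgroup.le_normalizer

theorem mem_cproj (hc : ⁅T₁, T₂⁆ = ⊥) {X : Subgroup Ω} (hX : X ≤ T₁ ⊔ T₂) {a : Ω} :
    a ∈ cproj T₁ T₂ X ↔ a ∈ T₁ ∧ ∃ b ∈ T₂, a * b ∈ X := by
  constructor
  · rintro ⟨ha, hax⟩
    obtain ⟨x, hx, c, hc', rfl⟩ :=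
      mem_sup_of_normalized (hX.trans (le_normalizer_of_comm hc)) hax
    exact ⟨ha, c⁻¹, T₂.inv_mem hc', by rwa [mul_inv_cancel_right]⟩
  · rintro ⟨ha, b, hb, hab⟩
    refine ⟨ha, ?_⟩
    have h := Subgroup.mul_mem _ (Subgroup.mem_sup_left (T := T₂) hab)
      (Subgroup.mem_sup_right (S := X) (T₂.inv_mem hb))
    rwa [mul_inv_cancel_right] at h

theorem cproj_mono {X Y : Subgroup Ω} (h : X ≤ Y) : cproj T₁ T₂ X ≤ cproj T₁ T₂ Y :=
  inf_le_inf_left _ (sup_le_sup_right h _)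

variable {S : Subgroup Ω} [Finite S] {F : FusionSystem S} {p : ℕ} [hp : Fact p.Prime]

/-- `f` extends to the projection of its source. -/
def HatExt (F : FusionSystem S) (T₁ T₂ P : Subgroup Ω) (f : Ω → Ω) : Prop :=
  ∃ g, IsMor F (P ⊔ cproj T₁ T₂ (P ⊓ (T₁ ⊔ T₂))) g ∧ ∀ x ∈ P, g x = f x

theorem HatExt.restrict {P R : Subgroup Ω} {f f' : Ω → Ω} (h : HatExt F T₁ T₂ R f) (hPR : P ≤ R)
    (e : ∀ x ∈ P, f x = f' x) : HatExt F T₁ T₂ P f' := by
  obtain ⟨g, hg, hgf⟩ := h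
  exact ⟨g, hg.restrict (sup_le_sup hPR (cproj_mono (inf_le_inf_right _ hPR))),
    fun x hx => (hgf x (hPR hx)).trans (e x hx)⟩

theorem hat_maps (h₁ : F.StronglyClosed T₁) (h₂ : F.StronglyClosed T₂) (hc : ⁅T₁, T₂⁆ = ⊥)
    {P R : Subgroup Ω} {g : Ω → Ω}
    (hg : IsMor F (P ⊔ cproj T₁ T₂ (P ⊓ (T₁ ⊔ T₂))) g) (hPR : ∀ x ∈ P, g x ∈ R) :
    img (P ⊔ cproj T₁ T₂ (P ⊓ (T₁ ⊔ T₂))) g ≤ R ⊔ cproj T₁ T₂ (R ⊓ (T₁ ⊔ T₂)) := by
  rw [hg.img_sup]
  refine sup_le ((img_le hPR).trans le_sup_left) (img_le fun a ha => Subgroup.mem_sup_right ?_)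
  obtain ⟨haT, b, hb, hab⟩ := (mem_cproj hc inf_le_right).mp ha
  have haD : a ∈ P ⊔ cproj T₁ T₂ (P ⊓ (T₁ ⊔ T₂)) := Subgroup.mem_sup_right ha
  have hbD : b ∈ P ⊔ cproj T₁ T₂ (P ⊓ (T₁ ⊔ T₂)) := by
    have h := Subgroup.mul_mem _ (Subgroup.inv_mem _ haD) (Subgroup.mem_sup_left hab.1)
    rwa [inv_mul_cancel_left] at h
  have h1 := (stronglyClosed_iff.mp h₁).2 _ g hg a haD haT
  have h2 := (stronglyClosed_iff.mp h₂).2 _ g hg b hbD hb
  refine (mem_cproj hc inf_le_right).mpr ⟨h1, g b, h2, ?_,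
    Subgroup.mul_mem _ (Subgroup.mem_sup_left h1) (Subgroup.mem_sup_right h2)⟩
  rw [← hg.map_mul haD hbD]
  exact hPR _ hab.1

theorem HatExt.comp (h₁ : F.StronglyClosed T₁) (h₂ : F.StronglyClosed T₂) (hc : ⁅T₁, T₂⁆ = ⊥)
    {P R : Subgroup Ω} {f k h : Ω → Ω} (hf : HatExt F T₁ T₂ P f) (hk : HatExt F T₁ T₂ R k)
    (hfR : ∀ x ∈ P, f x ∈ R) (e : ∀ x ∈ P, h x = k (f x)) : HatExt F T₁ T₂ P h := by
  obtain ⟨g, hg, hgf⟩ := hf
  obtain ⟨l, hl, hlk⟩ := hk
  refine ⟨l ∘ g, hg.comp hl fun x hx => hat_maps h₁ h₂ hc hg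
    (fun y hy => (hgf y hy).symm ▸ hfR y hy) (mem_img_of_mem g hx), fun x hx => ?_⟩
  show l (g x) = h x
  rw [hgf x hx, hlk _ (hfR x hx), e x hx]

/-- Every map extends to the projection of its source. -/
theorem exists_hat_ext (hS : IsPGroup p S) (hF : F.IsSaturated p) (h₁ : F.StronglyClosed T₁)
    (h₂ : F.StronglyClosed T₂) (hc : ⁅T₁, T₂⁆ = ⊥) {P : Subgroup Ω} {f : Ω → Ω}
    (hf : IsMor F P f) : HatExt F T₁ T₂ P f := by
  obtain ⟨hT₁S, hsc₁⟩ := stronglyClosed_iff.mp h₁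
  obtain ⟨hT₂S, hsc₂⟩ := stronglyClosed_iff.mp h₂
  have hSN₁ := stronglyClosed_le_normalizer h₁
  have hSN₂ := stronglyClosed_le_normalizer h₂
  suffices main : ∀ n P f, IsMor F P f → Nat.card S - Nat.card P = n → HatExt F T₁ T₂ P f from
    main _ P f hf rfl
  clear! P f
  intro n
  induction n using Nat.strong_induction_on with
  | _ n ih =>
  have hbig : ∀ Q g, IsMor F Q g → n > Nat.card S - Nat.card Q → HatExt F T₁ T₂ Q g :=
    fun Q g hg h => ih _ h Q g hg rfl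
  -- automorphisms of fully normalized subgroups
  have haut : ∀ R, F.IsFullyNormalized R → Nat.card S - Nat.card R = n →
      ∀ θ ∈ F.autGroup R, HatExt F T₁ T₂ R (autFun θ) := by
    intro R hRn hcard θ hθ
    have hRS := hRn.1
    have : Finite R := finite_of_le hRS
    have := finite_mulAut hRS
    set B := R ⊓ (T₁ ⊔ T₂) with hB
    set A := cproj T₁ T₂ B with hA
    have hθm := isMor_autFun hRS hθ
    by_cases hAR : A ≤ R
    · exact ⟨autFun θ, hθm.restrict (sup_le le_rfl hAR), fun _ _ => rfl⟩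
    set W := R ⊓ T₁ with hW
    have hn : ∀ s ∈ R, ∀ w ∈ W, cj s w ∈ W := fun s hs w hw =>
      ⟨R.mul_mem (R.mul_mem hs hw.1) (R.inv_mem hs),
        (Subgroup.mem_normalizer_iff.mp (hSN₁ (hRS hs)) w).mp hw.2⟩
    set K := modAut F W R R inf_le_left hn with hK
    have hKp : IsPGroup p K := isPGroup_modAut hS hRS hRS inf_le_left hn
    have hθW : ∀ {φ : MulAut R}, φ ∈ F.autGroup R → ∀ w ∈ W, autFun φ w ∈ W := fun {φ} hφ w hw =>
      ⟨autFun_mem φ hw.1, hsc₁ R _ (isMor_autFun hRS hφ) w hw.1 hw.2⟩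
    have hKn : ∀ φ ∈ F.autGroup R, ∀ κ ∈ K, φ * κ * φ⁻¹ ∈ K := by
      rintro φ hφ κ ⟨hκ, hκd, s, hs, hκs⟩
      refine ⟨Subgroup.mul_mem _ (Subgroup.mul_mem _ hφ hκ) (Subgroup.inv_mem _ hφ),
        fun q hq => ?_, autFun φ s, autFun_mem φ hs, fun w hw => ?_⟩
      · have hq' := autFun_mem φ⁻¹ hq
        rw [autFun_mul _ _ hq, autFun_mul _ _ hq']
        nth_rw 1 [← autFun_inv_right φ hq]
        rw [← autFun_inv_map φ hq', ← autFun_map_mul φ (R.inv_mem hq') (autFun_mem κ hq')]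
        exact hθW hφ _ (hκd _ hq')
      · have hw' := hθW (Subgroup.inv_mem _ hφ) w hw
        have hwR : autFun φ⁻¹ w ∈ R := hw'.1
        rw [autFun_mul _ _ hw.1, autFun_mul _ _ hwR, hκs _ hw', cj_apply, cj_apply,
          (isMor_autFun hRS hφ).map_conj hs hwR, autFun_inv_right φ hw.1]
    have hKS : K ≤ autInducedBy S R := by
      obtain ⟨φ, hφ, hφK⟩ :=
        (isFullyAutomized_iff.mp (isFullyAutomized_of_normalized hS hF hRn).1).2.exists_conj_le
          hKp fun κ hκ => hκ.1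
      intro κ hκ
      have h := hφK _ (hKn φ⁻¹ (Subgroup.inv_mem _ hφ) κ hκ)
      simpa [mul_assoc] using h
    have hRA : R ≤ Subgroup.normalizer (A : Set Ω) := by
      intro r hr
      have hrS := hRS hr
      have hAS : A ≤ S := inf_le_left.trans hT₁S
      have : Finite A := finite_of_le hAS
      refine Subgroup.mem_normalizer_fintype fun a ha => ?_
      obtain ⟨haT, b, hb, hab⟩ := (mem_cproj hc inf_le_right).mp ha
      show cj r a ∈ A
      have h1 : cj r a ∈ T₁ := (Subgroup.mem_normalizer_iff.mp (hSN₁ hrS) a).mp haT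
      have h2 : cj r b ∈ T₂ := (Subgroup.mem_normalizer_iff.mp (hSN₂ hrS) b).mp hb
      refine (mem_cproj hc inf_le_right).mpr ⟨h1, cj r b, h2, ?_,
        Subgroup.mul_mem _ (Subgroup.mem_sup_left h1) (Subgroup.mem_sup_right h2)⟩
      rw [← cj_map_mul]
      exact R.mul_mem (R.mul_mem hr hab.1) (R.inv_mem hr)
    set N := R ⊔ (A ⊓ Subgroup.normalizer (R : Set Ω)) with hN
    have hlt : R < N := by
      refine lt_of_le_of_ne le_sup_left fun he => ?_
      set M := R ⊔ A with hM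
      have hMS : M ≤ S := sup_le hRS (inf_le_left.trans hT₁S)
      have : Finite M := finite_of_le hMS
      have hlt' : R < M := lt_of_le_of_ne le_sup_left fun h => hAR (h ▸ le_sup_right)
      have hMp : IsPGroup p M := isPGroup_of_le hMS hS
      obtain ⟨x, hx, hxR⟩ := SetLike.exists_of_lt (lt_inf_normalizer hMp hlt')
      obtain ⟨r, hr, a, ha, rfl⟩ := mem_sup_of_normalized hRA hx.1
      refine hxR (R.mul_mem hr (he.ge (Subgroup.mem_sup_right ⟨ha, ?_⟩)))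
      have h := Subgroup.mul_mem _ (Subgroup.inv_mem _
        (Subgroup.le_normalizer hr : r ∈ Subgroup.normalizer (R : Set Ω))) hx.2
      rwa [inv_mul_cancel_left] at h
    have hact : ∀ a ∈ A ⊓ Subgroup.normalizer (R : Set Ω), ∃ κ ∈ K,
        ∀ y ∈ R, autFun κ y = cj a y := by
      intro a ha
      obtain ⟨haT, b, hb, hab⟩ := (mem_cproj hc inf_le_right).mp ha.1
      have haS := hT₁S haT
      obtain ⟨σ, hσ, hσe⟩ := exists_autInducedBy (P := R) (K := S) haS ha.2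
      refine ⟨σ, ⟨autInducedBy_le F hRS hσ, fun y hy => ?_, a * b, hab.1, fun w hw => ?_⟩, hσe⟩
      · rw [hσe y hy]
        refine ⟨R.mul_mem (R.inv_mem hy) ((Subgroup.mem_normalizer_iff.mp ha.2 y).mp hy), ?_⟩
        rw [cj_apply, show y⁻¹ * (a * y * a⁻¹) = y⁻¹ * a * y * a⁻¹ by group]
        refine T₁.mul_mem ?_ (T₁.inv_mem haT)
        simpa [mul_assoc] using
          (Subgroup.mem_normalizer_iff.mp (hSN₁ (S.inv_mem (hRS hy))) a).mp haT
      · rw [hσe w hw.1, cj_mul, cj_apply b, ← comm_of_commutator_bot hc hw.2 hb,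
          mul_inv_cancel_right]
    have hNS : N ≤ S := sup_le hRS (inf_le_left.trans (inf_le_left.trans hT₁S))
    obtain ⟨G, hG, hGθ⟩ := (isReceptive_iff.mp (isFullyAutomized_of_normalized hS hF hRn).2).2
      R _ hθm (img_autFun θ)
    have hNn : N ≤ nExt S R (autFun θ) := sup_le (le_nExt hθm) fun a ha => by
      obtain ⟨κ, hκ, hκe⟩ := hact a ha
      obtain ⟨s, hs, -, hse⟩ := mem_autInducedBy.mp (hKS (hKn θ hθ κ hκ))
      refine ⟨hT₁S ha.1.1, ha.2, s, hs, fun y hy => ?_⟩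
      rw [← hκe y hy, ← hse _ (autFun_mem θ hy), autFun_mul _ _ (autFun_mem θ hy),
        autFun_inv_left θ hy, autFun_mul _ _ hy]
    have hGN := hG.restrict hNn
    exact (hbig N G hGN (by
      have := card_lt_of_lt hNS hlt
      have : Finite N := finite_of_le hNS
      have h3 : Nat.card N ≤ Nat.card S := Subgroup.card_le_of_le hNS
      omega)).restrict le_sup_left hGθ
  intro P f hf hcard
  have hPS := hf.le
  have : Finite P := finite_of_le hPS
  obtain ⟨R, hPR, hRn⟩ := exists_fullyNormalized F hPS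
  by_cases hPtop : S ≤ P
  · have e : P = S := le_antisymm hPS hPtop
    subst e
    exact ⟨f, hf.restrict (sup_le le_rfl (inf_le_left.trans hT₁S)), fun _ _ => rfl⟩
  set P' := img P f with hP'
  have hP'S : P' ≤ S := hf.img_le
  have hP'R : F.IsConj P' R := isConj_trans (isConj_symm (isConj_img hf)) hPR
  have hstep : ∀ Q, F.IsConj Q R → Nat.card Q = Nat.card P →
      ∃ h, IsMor F (normalizerIn S Q) h ∧ img Q h = R ∧ Nat.card S - Nat.card (normalizerIn S Q) < n := by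
    intro Q hQR hQc
    obtain ⟨h, hh, hhi, -⟩ := exists_map_fullyNormalized hS hF hRn hQR
    refine ⟨h, hh, hhi, ?_⟩
    have hQS := (isConj_le hQR).1
    have : Finite ↥(normalizerIn S Q) := finite_of_le normalizerIn_le
    have hQlt : Q < S := lt_of_le_of_ne hQS fun he => hPtop (eq_of_le_of_card le_rfl hPS
      (by rw [← he, hQc]) ▸ le_rfl)
    have h1 := card_lt_of_lt normalizerIn_le (lt_inf_normalizer hS hQlt)
    have h2 : Nat.card (normalizerIn S Q) ≤ Nat.card S := Subgroup.card_le_of_le normalizerIn_le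
    omega
  obtain ⟨h, hh, hhi, hhn⟩ := hstep P hPR rfl
  obtain ⟨k, hk, hki, hkn⟩ := hstep P' hP'R hf.card_img
  have hPN : P ≤ normalizerIn S P := le_normalizerIn hPS
  have hP'N : P' ≤ normalizerIn S P' := le_normalizerIn hP'S
  have hcardR : Nat.card S - Nat.card R = n := by
    rw [← hhi, (hh.restrict hPN).card_img]; exact hcard
  obtain ⟨k', hk', hkl, hkr, hk'i⟩ := hk.inverse
  have hRk : R ≤ img (normalizerIn S P') k := hki ▸ img_mono k hP'N
  obtain ⟨h', hh', hhl, -, -⟩ := (hh.restrict hPN).inverse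
  rw [hhi] at hh'
  have hk'R : IsMor F R k' := hk'.restrict hRk
  have hmid : ∀ z ∈ R, f (h' z) ∈ normalizerIn S P' := fun z hz => by
    obtain ⟨x, hx, rfl⟩ := (hh.restrict hPN).mem_img.mp (hhi.ge hz)
    rw [hhl x hx]
    exact hP'N (mem_img_of_mem f hx)
  have hθm : IsMor F R (k ∘ (f ∘ h')) := (hh'.comp hf fun z hz => by
    obtain ⟨x, hx, rfl⟩ := (hh.restrict hPN).mem_img.mp (hhi.ge hz)
    rw [hhl x hx]; exact hx).comp hk hmid
  obtain ⟨θ, hθ, hθe⟩ := exists_aut hθm (by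
    have : Finite R := finite_of_le hRn.1
    refine hθm.img_eq_self fun z hz => ?_
    obtain ⟨x, hx, rfl⟩ := (hh.restrict hPN).mem_img.mp (hhi.ge hz)
    exact hki ▸ mem_img_of_mem k (show f (h' (h x)) ∈ P' from
      (hhl x hx).symm ▸ mem_img_of_mem f hx))
  have e1 : HatExt F T₁ T₂ P h :=
    (hbig _ h hh hhn).restrict hPN fun _ _ => rfl
  have e2 := haut R hRn hcardR θ hθ
  have e3 : HatExt F T₁ T₂ R k' := by
    refine (hbig _ k' hk' ?_).restrict hRk fun _ _ => rfl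
    rw [hk.card_img]
    exact hkn
  have e12 : HatExt F T₁ T₂ P (autFun θ ∘ h) := e1.comp h₁ h₂ hc e2
    (fun x hx => hhi ▸ mem_img_of_mem h hx) fun _ _ => rfl
  refine e12.comp h₁ h₂ hc e3 (fun x hx => autFun_mem θ (hhi ▸ mem_img_of_mem h hx)) fun x hx => ?_
  show f x = k' (autFun θ (h x))
  rw [hθe _ (hhi ▸ mem_img_of_mem h hx)]
  show f x = k' (k (f (h' (h x))))
  rw [hhl x hx, hkl _ (hP'N (mem_img_of_mem f hx))]

end CfsgLib.Fusion
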