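import Mathlib
import Cfsg.Agent.Lib.Fusion.Saturation
import Cfsg.Prelude.Def_FusionComponents

/-!
# Direct products of saturated systems are saturated
-/

set_option autoImplicit false
set_option linter.unusedSectionVars false

namespace CfsgLib.Fusion

open Cfsg Cfsg.FusionSystem

variable {Ω₁ Ω₂ : Type*} [Group Ω₁] [Group Ω₂] {S₁ : Subgroup Ω₁} {S₂ : Subgroup Ω₂}
  {F₁ : FusionSystem S₁} {F₂ : FusionSystem S₂} {E : FusionSystem (S₁.prod S₂)}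

/-- The maps of a product system. -/
theorem isMor_product (hE : IsProductSystem F₁ F₂ E) {P : Subgroup (Ω₁ × Ω₂)}
    {f : Ω₁ × Ω₂ → Ω₁ × Ω₂} :
    IsMor E P f ↔ P ≤ S₁.prod S₂ ∧ ∃ f₁ f₂, IsMor F₁ (P.map (MonoidHom.fst Ω₁ Ω₂)) f₁ ∧
      IsMor F₂ (P.map (MonoidHom.snd Ω₁ Ω₂)) f₂ ∧ ∀ x ∈ P, f x = (f₁ x.1, f₂ x.2) := by
  constructor
  · rintro ⟨φ, hφ, e⟩
    obtain ⟨hP, φ₁, hφ₁, φ₂, hφ₂, h⟩ := (hE P φ).mp hφ
    refine ⟨hP, toFun φ₁, toFun φ₂, isMor_of_mem hφ₁, isMor_of_mem hφ₂, fun x hx => ?_⟩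
    have k₁ : x.1 ∈ P.map (MonoidHom.fst Ω₁ Ω₂) := ⟨x, hx, rfl⟩
    have k₂ : x.2 ∈ P.map (MonoidHom.snd Ω₁ Ω₂) := ⟨x, hx, rfl⟩
    rw [← e ⟨x, hx⟩, h ⟨x, hx⟩ k₁ k₂, toFun_of_mem φ₁ k₁, toFun_of_mem φ₂ k₂]
  · rintro ⟨hP, f₁, f₂, hf₁, hf₂, h⟩
    obtain ⟨φ₁, hφ₁, e₁⟩ := id hf₁
    obtain ⟨φ₂, hφ₂, e₂⟩ := id hf₂
    let φ : P →* Ω₁ × Ω₂ := MonoidHom.mk' (fun x => f x) fun a b => by
      rw [h _ (a * b).2, h _ a.2, h _ b.2]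
      exact Prod.ext (hf₁.map_mul ⟨a, a.2, rfl⟩ ⟨b, b.2, rfl⟩)
        (hf₂.map_mul ⟨a, a.2, rfl⟩ ⟨b, b.2, rfl⟩)
    exact ⟨φ, (hE P φ).mpr ⟨hP, φ₁, hφ₁, φ₂, hφ₂, fun x k₁ k₂ => by
      rw [e₁, e₂]; exact h x x.2⟩, fun _ => rfl⟩

variable [Finite S₁] [Finite S₂] {p : ℕ} [hp : Fact p.Prime]

theorem product_isSaturated (hS₁ : IsPGroup p S₁) (hS₂ : IsPGroup p S₂) (hF₁ : F₁.IsSaturated p)
    (hF₂ : F₂.IsSaturated p) (hE : IsProductSystem F₁ F₂ E) : E.IsSaturated p := by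
  classical
  have : Finite ↥(S₁.prod S₂) := Finite.of_equiv _ (Subgroup.prodEquiv S₁ S₂).toEquiv.symm
  have hSp : IsPGroup p ↥(S₁.prod S₂) := by
    rintro ⟨⟨a, b⟩, ha, hb⟩
    obtain ⟨i, hi⟩ := hS₁ ⟨a, ha⟩
    obtain ⟨j, hj⟩ := hS₂ ⟨b, hb⟩
    have hi' : a ^ p ^ i = 1 := congrArg Subtype.val hi
    have hj' : b ^ p ^ j = 1 := congrArg Subtype.val hj
    refine ⟨i + j, Subtype.ext (Prod.ext ?_ ?_)⟩
    · show a ^ p ^ (i + j) = 1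
      rw [pow_add, pow_mul, hi', one_pow]
    · show b ^ p ^ (i + j) = 1
      rw [add_comm, pow_add, pow_mul, hj', one_pow]
  intro P hP
  set P₁ := P.map (MonoidHom.fst Ω₁ Ω₂) with hP₁
  set P₂ := P.map (MonoidHom.snd Ω₁ Ω₂) with hP₂
  have hP₁S : P₁ ≤ S₁ := by rintro _ ⟨x, hx, rfl⟩; exact (hP hx).1
  have hP₂S : P₂ ≤ S₂ := by rintro _ ⟨x, hx, rfl⟩; exact (hP hx).2
  obtain ⟨R₁, hPR₁, hR₁⟩ := exists_fullyNormalized F₁ hP₁S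
  obtain ⟨R₂, hPR₂, hR₂⟩ := exists_fullyNormalized F₂ hP₂S
  obtain ⟨g₁, hg₁, hg₁i⟩ := isConj_iff.mp hPR₁
  obtain ⟨g₂, hg₂, hg₂i⟩ := isConj_iff.mp hPR₂
  let g : Ω₁ × Ω₂ → Ω₁ × Ω₂ := fun x => (g₁ x.1, g₂ x.2)
  have hg : IsMor E P g := (isMor_product hE).mpr ⟨hP, g₁, g₂, hg₁, hg₂, fun _ _ => rfl⟩
  set Q₀ := img P g with hQ₀
  have hproj : ∀ {X : Subgroup (Ω₁ × Ω₂)} {h : Ω₁ × Ω₂ → Ω₁ × Ω₂} {h₁ : Ω₁ → Ω₁}
      {h₂ : Ω₂ → Ω₂}, (∀ x ∈ X, h x = (h₁ x.1, h₂ x.2)) →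
      (img X h).map (MonoidHom.fst Ω₁ Ω₂) = img (X.map (MonoidHom.fst Ω₁ Ω₂)) h₁ ∧
      (img X h).map (MonoidHom.snd Ω₁ Ω₂) = img (X.map (MonoidHom.snd Ω₁ Ω₂)) h₂ := by
    intro X h h₁ h₂ e
    constructor <;>
    · rw [img, img, MonoidHom.map_closure, Subgroup.coe_map, Set.image_image, Set.image_image]
      exact congrArg _ (Set.image_congr fun x hx => by rw [e x hx]; rfl)
  have hQ₀1 : Q₀.map (MonoidHom.fst Ω₁ Ω₂) = R₁ :=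
    ((hproj (fun _ _ => rfl)).1).trans hg₁i
  have hQ₀2 : Q₀.map (MonoidHom.snd Ω₁ Ω₂) = R₂ :=
    ((hproj (fun _ _ => rfl)).2).trans hg₂i
  have hQ₀S : Q₀ ≤ S₁.prod S₂ := hg.img_le
  have := finite_mulAut (S := S₁.prod S₂) hQ₀S
  have := finite_mulAut hR₁.1
  have := finite_mulAut hR₂.1
  obtain ⟨A⟩ : Nonempty (Sylow p ↥(E.autGroup Q₀)) := inferInstance
  -- the components of `A`
  let Comp₁ : Subgroup (MulAut R₁) :=
    { carrier := {β | β ∈ F₁.autGroup R₁ ∧ ∃ α : ↥(E.autGroup Q₀), α ∈ (A : Subgroup ↥(E.autGroup Q₀)) ∧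
        ∀ x ∈ Q₀, autFun β x.1 = (autFun (α : MulAut Q₀) x).1}
      one_mem' := ⟨one_mem _, 1, one_mem _, fun x hx => by
        rw [Subgroup.coe_one, autFun_one hx, autFun_one (hQ₀1 ▸ ⟨x, hx, rfl⟩)]⟩
      mul_mem' := by
        rintro b b' ⟨hb, a, ha, e⟩ ⟨hb', a', ha', e'⟩
        refine ⟨Subgroup.mul_mem _ hb hb', a * a', mul_mem ha ha', fun x hx => ?_⟩
        rw [Subgroup.coe_mul, autFun_mul _ _ hx, autFun_mul _ _ (hQ₀1 ▸ ⟨x, hx, rfl⟩), e' x hx,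
          e _ (autFun_mem _ hx)]
      inv_mem' := by
        rintro b ⟨hb, a, ha, e⟩
        refine ⟨Subgroup.inv_mem _ hb, a⁻¹, inv_mem ha, fun x hx => ?_⟩
        have h1 := e _ (autFun_mem (a : MulAut Q₀)⁻¹ hx)
        rw [autFun_inv_right _ hx] at h1
        rw [Subgroup.coe_inv, ← h1, autFun_inv_left b (hQ₀1 ▸ ⟨_, autFun_mem _ hx, rfl⟩)] }
  let Comp₂ : Subgroup (MulAut R₂) :=
    { carrier := {β | β ∈ F₂.autGroup R₂ ∧ ∃ α : ↥(E.autGroup Q₀), α ∈ (A : Subgroup ↥(E.autGroup Q₀)) ∧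
        ∀ x ∈ Q₀, autFun β x.2 = (autFun (α : MulAut Q₀) x).2}
      one_mem' := ⟨one_mem _, 1, one_mem _, fun x hx => by
        rw [Subgroup.coe_one, autFun_one hx, autFun_one (hQ₀2 ▸ ⟨x, hx, rfl⟩)]⟩
      mul_mem' := by
        rintro b b' ⟨hb, a, ha, e⟩ ⟨hb', a', ha', e'⟩
        refine ⟨Subgroup.mul_mem _ hb hb', a * a', mul_mem ha ha', fun x hx => ?_⟩
        rw [Subgroup.coe_mul, autFun_mul _ _ hx, autFun_mul _ _ (hQ₀2 ▸ ⟨x, hx, rfl⟩), e' x hx,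
          e _ (autFun_mem _ hx)]
      inv_mem' := by
        rintro b ⟨hb, a, ha, e⟩
        refine ⟨Subgroup.inv_mem _ hb, a⁻¹, inv_mem ha, fun x hx => ?_⟩
        have h1 := e _ (autFun_mem (a : MulAut Q₀)⁻¹ hx)
        rw [autFun_inv_right _ hx] at h1
        rw [Subgroup.coe_inv, ← h1, autFun_inv_left b (hQ₀2 ▸ ⟨_, autFun_mem _ hx, rfl⟩)] }
  have hC₁ : IsPGroup p Comp₁ := by
    rintro ⟨b, hb, a, ha, e⟩
    obtain ⟨k, hk⟩ := A.2 ⟨a, ha⟩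
    have hk' : ((a : MulAut Q₀)) ^ p ^ k = 1 := by
      have := congrArg (fun z : ↥(A : Subgroup ↥(E.autGroup Q₀)) => ((z : ↥(E.autGroup Q₀)) : MulAut Q₀)) hk
      simpa using this
    refine ⟨k, Subtype.ext ?_⟩
    show b ^ p ^ k = 1
    refine autFun_inj fun y hy => ?_
    obtain ⟨x, hx, rfl⟩ := hQ₀1.ge hy
    change x.1 ∈ R₁ at hy
    have hn : ∀ n : ℕ, autFun (b ^ n) x.1 = (autFun ((a : MulAut Q₀) ^ n) x).1 := by
      intro n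
      induction n with
      | zero => rw [pow_zero, pow_zero, autFun_one hx, autFun_one hy]; 
      | succ n ih =>
        rw [pow_succ', pow_succ', autFun_mul _ _ hy, autFun_mul _ _ hx, ← e _ (autFun_mem _ hx)]
        exact congrArg (autFun b) ih
    show autFun (b ^ p ^ k) x.1 = autFun 1 x.1
    rw [hn, hk', autFun_one hx, autFun_one hy]
  have hC₂ : IsPGroup p Comp₂ := by
    rintro ⟨b, hb, a, ha, e⟩
    obtain ⟨k, hk⟩ := A.2 ⟨a, ha⟩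
    have hk' : ((a : MulAut Q₀)) ^ p ^ k = 1 := by
      have := congrArg (fun z : ↥(A : Subgroup ↥(E.autGroup Q₀)) => ((z : ↥(E.autGroup Q₀)) : MulAut Q₀)) hk
      simpa using this
    refine ⟨k, Subtype.ext ?_⟩
    show b ^ p ^ k = 1
    refine autFun_inj fun y hy => ?_
    obtain ⟨x, hx, rfl⟩ := hQ₀2.ge hy
    change x.2 ∈ R₂ at hy
    have hn : ∀ n : ℕ, autFun (b ^ n) x.2 = (autFun ((a : MulAut Q₀) ^ n) x).2 := by
      intro n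
      induction n with
      | zero => rw [pow_zero, pow_zero, autFun_one hx, autFun_one hy]; 
      | succ n ih =>
        rw [pow_succ', pow_succ', autFun_mul _ _ hy, autFun_mul _ _ hx, ← e _ (autFun_mem _ hx)]
        exact congrArg (autFun b) ih
    show autFun (b ^ p ^ k) x.2 = autFun 1 x.2
    rw [hn, hk', autFun_one hx, autFun_one hy]
  obtain ⟨hfa₁, hrec₁⟩ := isFullyAutomized_of_normalized hS₁ hF₁ hR₁
  obtain ⟨hfa₂, hrec₂⟩ := isFullyAutomized_of_normalized hS₂ hF₂ hR₂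
  obtain ⟨b₁, hb₁, hb₁C⟩ :=
    (isFullyAutomized_iff.mp hfa₁).2.exists_conj_le hC₁ fun b hb => hb.1
  obtain ⟨b₂, hb₂, hb₂C⟩ :=
    (isFullyAutomized_iff.mp hfa₂).2.exists_conj_le hC₂ fun b hb => hb.1
  let h : Ω₁ × Ω₂ → Ω₁ × Ω₂ := fun x => (autFun b₁ x.1, autFun b₂ x.2)
  have hh : IsMor E Q₀ h := (isMor_product hE).mpr ⟨hQ₀S, autFun b₁, autFun b₂,
    hQ₀1.symm ▸ isMor_autFun hR₁.1 hb₁, hQ₀2.symm ▸ isMor_autFun hR₂.1 hb₂, fun _ _ => rfl⟩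
  set Q := img Q₀ h with hQdef
  have hQ1 : Q.map (MonoidHom.fst Ω₁ Ω₂) = R₁ := by
    rw [(hproj (X := Q₀) (h := h) fun _ _ => rfl).1, hQ₀1, img_autFun]
  have hQ2 : Q.map (MonoidHom.snd Ω₁ Ω₂) = R₂ := by
    rw [(hproj (X := Q₀) (h := h) fun _ _ => rfl).2, hQ₀2, img_autFun]
  have hQS : Q ≤ S₁.prod S₂ := hh.img_le
  refine ⟨Q, isConj_trans (isConj_img hg) (isConj_img hh), ?_, ?_⟩
  · obtain ⟨e, he, heA, -⟩ := exists_transport (Q := Q) hh rfl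
    refine isFullyAutomized_iff.mpr ⟨hQS, ?_⟩
    have hA : IsSylIn p ((A : Subgroup ↥(E.autGroup Q₀)).map (E.autGroup Q₀).subtype)
        (E.autGroup Q₀) := by
      refine (exists_sylow_iff (Subgroup.map_subtype_le _)).mp ⟨A, ?_⟩
      rw [Subgroup.subgroupOf, Subgroup.comap_map_eq_self_of_injective
        (E.autGroup Q₀).subtype_injective]
    refine ⟨autInducedBy_le E hQS, isPGroup_autInducedBy hSp, fun C hC hle hCA => ?_⟩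
    have hsub : ((A : Subgroup ↥(E.autGroup Q₀)).map (E.autGroup Q₀).subtype).map e.toMonoidHom ≤
        autInducedBy (S₁.prod S₂) Q := by
      rintro _ ⟨_, ⟨α, hα, rfl⟩, rfl⟩
      have hαm := (isMor_product hE).mp (isMor_autFun hQ₀S α.2)
      obtain ⟨-, f₁, f₂, hf₁, hf₂, hf⟩ := hαm
      rw [hQ₀1] at hf₁
      rw [hQ₀2] at hf₂
      obtain ⟨β₁, hβ₁, hβ₁e⟩ := exists_aut hf₁ (hf₁.img_eq_self fun y hy => by
        obtain ⟨x, hx, rfl⟩ := hQ₀1.ge hy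
        exact hQ₀1.le ⟨_, autFun_mem (α : MulAut Q₀) hx, show (autFun _ x).1 = f₁ x.1 by rw [hf x hx]⟩)
      obtain ⟨β₂, hβ₂, hβ₂e⟩ := exists_aut hf₂ (hf₂.img_eq_self fun y hy => by
        obtain ⟨x, hx, rfl⟩ := hQ₀2.ge hy
        exact hQ₀2.le ⟨_, autFun_mem (α : MulAut Q₀) hx, show (autFun _ x).2 = f₂ x.2 by rw [hf x hx]⟩)
      have h1 : β₁ ∈ Comp₁ := ⟨hβ₁, α, hα, fun x hx => by
        rw [hβ₁e x.1 (hQ₀1.le ⟨x, hx, rfl⟩), hf x hx]⟩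
      have h2 : β₂ ∈ Comp₂ := ⟨hβ₂, α, hα, fun x hx => by
        rw [hβ₂e x.2 (hQ₀2.le ⟨x, hx, rfl⟩), hf x hx]⟩
      obtain ⟨s₁, hs₁, -, hse₁⟩ := mem_autInducedBy.mp (hb₁C β₁ h1)
      obtain ⟨s₂, hs₂, -, hse₂⟩ := mem_autInducedBy.mp (hb₂C β₂ h2)
      have hval : ∀ y ∈ Q, autFun (e (α : MulAut Q₀)) y = cj (s₁, s₂) y := by
        intro y hy
        obtain ⟨x, hx, rfl⟩ := hh.mem_img.mp hy
        have hx1 : x.1 ∈ R₁ := hQ₀1.le ⟨x, hx, rfl⟩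
        have hx2 : x.2 ∈ R₂ := hQ₀2.le ⟨x, hx, rfl⟩
        rw [he _ x hx, hf x hx]
        refine Prod.ext ?_ ?_
        · show autFun b₁ (f₁ x.1) = cj s₁ (autFun b₁ x.1)
          rw [← hse₁ _ (autFun_mem b₁ hx1), autFun_mul _ _ (autFun_mem b₁ hx1),
            autFun_inv_left b₁ hx1, autFun_mul _ _ hx1, hβ₁e _ hx1]
        · show autFun b₂ (f₂ x.2) = cj s₂ (autFun b₂ x.2)
          rw [← hse₂ _ (autFun_mem b₂ hx2), autFun_mul _ _ (autFun_mem b₂ hx2),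
            autFun_inv_left b₂ hx2, autFun_mul _ _ hx2, hβ₂e _ hx2]
      exact Subgroup.subset_closure ⟨(s₁, s₂), ⟨hs₁, hs₂⟩, fun y =>
        (autFun_coe _ y).symm.trans (hval y y.2)⟩
    have hCe : C.comap e.toMonoidHom ≤ E.autGroup Q₀ := fun α hα => (heA α).mpr (hCA hα)
    have hCA' := hA.2.2 (C.comap e.toMonoidHom) (hC.comap_of_injective _ e.injective)
      (Subgroup.map_le_iff_le_comap.mp (hsub.trans hle)) hCe
    refine le_antisymm ?_ hle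
    intro c hc
    obtain ⟨c₀, rfl⟩ := e.surjective c
    exact hsub ⟨c₀, hCA'.le hc, rfl⟩
  · refine isReceptive_iff.mpr ⟨hQS, fun X f hf hfi => ?_⟩
    obtain ⟨hXS, f₁, f₂, hf₁, hf₂, hfe⟩ := (isMor_product hE).mp hf
    have hi := hproj hfe
    rw [hfi, hQ1, hQ2] at hi
    obtain ⟨k₁, hk₁, hk₁e⟩ := (isReceptive_iff.mp hrec₁).2 _ f₁ hf₁ hi.1.symm
    obtain ⟨k₂, hk₂, hk₂e⟩ := (isReceptive_iff.mp hrec₂).2 _ f₂ hf₂ hi.2.symm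
    have hN1 : (nExt (S₁.prod S₂) X f).map (MonoidHom.fst Ω₁ Ω₂) ≤
        nExt S₁ (X.map (MonoidHom.fst Ω₁ Ω₂)) f₁ := by
      rintro _ ⟨a, ⟨haS, han, s, hs, hse⟩, rfl⟩
      refine ⟨haS.1, Subgroup.mem_normalizer_iff.mpr fun y => ⟨?_, ?_⟩, s.1, hs.1, ?_⟩
      · rintro ⟨x, hx, rfl⟩
        exact ⟨a * x * a⁻¹, (Subgroup.mem_normalizer_iff.mp han x).mp hx, rfl⟩
      · rintro ⟨x, hx, hxe⟩
        refine ⟨a⁻¹ * x * a⁻¹⁻¹, (Subgroup.mem_normalizer_iff.mp (inv_mem han) x).mp hx, ?_⟩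
        simp only [map_mul, map_inv, hxe]
        simp [mul_assoc]
      · rintro _ ⟨x, hx, rfl⟩
        have h1 := hse x hx
        rw [hfe x hx, hfe (cj a x) ((Subgroup.mem_normalizer_iff.mp han x).mp hx)] at h1
        exact congrArg Prod.fst h1
    have hN2 : (nExt (S₁.prod S₂) X f).map (MonoidHom.snd Ω₁ Ω₂) ≤
        nExt S₂ (X.map (MonoidHom.snd Ω₁ Ω₂)) f₂ := by
      rintro _ ⟨a, ⟨haS, han, s, hs, hse⟩, rfl⟩
      refine ⟨haS.2, Subgroup.mem_normalizer_iff.mpr fun y => ⟨?_, ?_⟩, s.2, hs.2, ?_⟩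
      · rintro ⟨x, hx, rfl⟩
        exact ⟨a * x * a⁻¹, (Subgroup.mem_normalizer_iff.mp han x).mp hx, rfl⟩
      · rintro ⟨x, hx, hxe⟩
        refine ⟨a⁻¹ * x * a⁻¹⁻¹, (Subgroup.mem_normalizer_iff.mp (inv_mem han) x).mp hx, ?_⟩
        simp only [map_mul, map_inv, hxe]
        simp [mul_assoc]
      · rintro _ ⟨x, hx, rfl⟩
        have h1 := hse x hx
        rw [hfe x hx, hfe (cj a x) ((Subgroup.mem_normalizer_iff.mp han x).mp hx)] at h1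
        exact congrArg Prod.snd h1
    refine ⟨fun x => (k₁ x.1, k₂ x.2), (isMor_product hE).mpr
      ⟨fun a ha => ha.1, k₁, k₂, hk₁.restrict hN1, hk₂.restrict hN2, fun _ _ => rfl⟩,
      fun x hx => ?_⟩
    show (k₁ x.1, k₂ x.2) = f x
    rw [hfe x hx, hk₁e x.1 ⟨x, hx, rfl⟩, hk₂e x.2 ⟨x, hx, rfl⟩]

end CfsgLib.Fusion
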