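import Mathlib
import Cfsg.Agent.Lib.Fusion.CommutingExtend
import Cfsg.Agent.Lib.Fusion.ProductSaturated
import Cfsg.Agent.Lib.Fusion.FactorSaturated
import Cfsg.Agent.Lib.Fusion.FactorExists
import Cfsg.Agent.Lib.Fusion.Criteria
import Cfsg.Agent.S5136

/-!
# Central products: the maps
-/

set_option autoImplicit false
set_option linter.unusedSectionVars false
set_option maxHeartbeats 1000000

namespace CfsgLib.Fusion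

open Cfsg Cfsg.FusionSystem

variable {Ω : Type*} [Group Ω] {T₁ T₂ T : Subgroup Ω} {E₁ : FusionSystem T₁} {E₂ : FusionSystem T₂}
  {D : FusionSystem T}

/-- The data of a central product: the multiplication and its properties. -/
structure CPData (E₁ : FusionSystem T₁) (E₂ : FusionSystem T₂) (D : FusionSystem T) : Prop where
  comm : ⁅T₁, T₂⁆ = ⊥
  top : T = T₁ ⊔ T₂
  fix₁ : ∀ P f, IsMor E₁ P f → ∀ x ∈ P, x ∈ T₁ ⊓ T₂ → f x = x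
  fix₂ : ∀ P f, IsMor E₂ P f → ∀ x ∈ P, x ∈ T₁ ⊓ T₂ → f x = x
  mor : ∀ P f, IsMor D P f ↔ P ≤ T₁ ⊔ T₂ ∧ ∃ f₁ f₂, IsMor E₁ (cproj T₁ T₂ P) f₁ ∧
    IsMor E₂ (cproj T₂ T₁ P) f₂ ∧
    ∀ a ∈ T₁, ∀ b ∈ T₂, a * b ∈ P → f (a * b) = f₁ a * f₂ b

theorem commutator_symm_bot (hc : ⁅T₁, T₂⁆ = ⊥) : ⁅T₂, T₁⁆ = ⊥ := by
  rwa [Subgroup.commutator_comm]

theorem mem_cproj_snd (hc : ⁅T₁, T₂⁆ = ⊥) {X : Subgroup Ω} (hX : X ≤ T₁ ⊔ T₂) {b : Ω} :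
    b ∈ cproj T₂ T₁ X ↔ b ∈ T₂ ∧ ∃ a ∈ T₁, a * b ∈ X := by
  rw [mem_cproj (commutator_symm_bot hc) (hX.trans (sup_comm T₁ T₂).le)]
  constructor
  · rintro ⟨hb, a, ha, hab⟩
    exact ⟨hb, a, ha, by rwa [comm_of_commutator_bot hc ha hb]⟩
  · rintro ⟨hb, a, ha, hab⟩
    exact ⟨hb, a, ha, by rwa [← comm_of_commutator_bot hc ha hb]⟩

/-- The multiplication map. -/
theorem comm_of_mul_hom {θ : ↥(T₁.prod T₂) →* Ω}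
    (h₁ : ∀ (x : Ω) (hx : ((x, 1) : Ω × Ω) ∈ T₁.prod T₂), θ ⟨(x, 1), hx⟩ = x)
    (h₂ : ∀ (y : Ω) (hy : ((1, y) : Ω × Ω) ∈ T₁.prod T₂), θ ⟨(1, y), hy⟩ = y)
    {a b : Ω} (ha : a ∈ T₁) (hb : b ∈ T₂) :
    a * b = b * a ∧ θ ⟨(a, b), ha, hb⟩ = a * b := by
  have ha' : ((a, 1) : Ω × Ω) ∈ T₁.prod T₂ := ⟨ha, T₂.one_mem⟩
  have hb' : ((1, b) : Ω × Ω) ∈ T₁.prod T₂ := ⟨T₁.one_mem, hb⟩
  have e1 : (⟨(a, b), ha, hb⟩ : ↥(T₁.prod T₂)) = ⟨(a, 1), ha'⟩ * ⟨(1, b), hb'⟩ :=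
    Subtype.ext (by simp)
  have e2 : (⟨(a, b), ha, hb⟩ : ↥(T₁.prod T₂)) = ⟨(1, b), hb'⟩ * ⟨(a, 1), ha'⟩ :=
    Subtype.ext (by simp)
  have k1 := congrArg θ e1
  have k2 := congrArg θ e2
  rw [map_mul, h₁, h₂] at k1 k2
  exact ⟨k1.symm.trans k2, k1⟩

variable [Finite T₁] [Finite T₂]

theorem mor_of_factor {D₀ : FusionSystem (T₁.prod T₂)} (hD₀ : IsProductSystem E₁ E₂ D₀)
    {Z : Subgroup (Ω × Ω)} {θ : ↥(T₁.prod T₂) →* Ω}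
    (h₁ : ∀ (x : Ω) (hx : ((x, 1) : Ω × Ω) ∈ T₁.prod T₂), θ ⟨(x, 1), hx⟩ = x)
    (h₂ : ∀ (y : Ω) (hy : ((1, y) : Ω × Ω) ∈ T₁.prod T₂), θ ⟨(1, y), hy⟩ = y)
    (hfac : D₀.IsFactorSystem Z θ D) (hZ : D₀.StronglyClosed Z) (hc : ⁅T₁, T₂⁆ = ⊥)
    (htop : T = T₁ ⊔ T₂) (P : Subgroup Ω) (f : Ω → Ω) :
    IsMor D P f ↔ P ≤ T₁ ⊔ T₂ ∧ ∃ f₁ f₂, IsMor E₁ (cproj T₁ T₂ P) f₁ ∧
      IsMor E₂ (cproj T₂ T₁ P) f₂ ∧
      ∀ a ∈ T₁, ∀ b ∈ T₂, a * b ∈ P → f (a * b) = f₁ a * f₂ b := by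
  have : Finite ↥(T₁.prod T₂) := Finite.of_equiv _ (Subgroup.prodEquiv T₁ T₂).toEquiv.symm
  have hθ : ∀ {x : Ω × Ω} (hx : x ∈ T₁.prod T₂), θ ⟨x, hx⟩ = x.1 * x.2 := fun {x} hx =>
    (comm_of_mul_hom h₁ h₂ hx.1 hx.2).2
  have hpre : ∀ {P : Subgroup Ω} {a b : Ω}, (a, b) ∈ preimageAlong θ P ↔
      a ∈ T₁ ∧ b ∈ T₂ ∧ a * b ∈ P := fun {P a b} =>
    mem_preimageAlong.trans ⟨fun ⟨h, h'⟩ => ⟨h.1, h.2, hθ h ▸ h'⟩,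
      fun ⟨ha, hb, h⟩ => ⟨⟨ha, hb⟩, (hθ (x := (a, b)) ⟨ha, hb⟩).symm ▸ h⟩⟩
  have hfst : ∀ {P : Subgroup Ω}, P ≤ T₁ ⊔ T₂ →
      (preimageAlong θ P).map (MonoidHom.fst Ω Ω) = cproj T₁ T₂ P := by
    intro P hP
    ext a
    rw [mem_cproj hc hP]
    constructor
    · rintro ⟨⟨a', b⟩, hx, rfl⟩
      obtain ⟨ha, hb, hab⟩ := hpre.mp hx
      exact ⟨ha, b, hb, hab⟩
    · rintro ⟨ha, b, hb, hab⟩
      exact ⟨(a, b), hpre.mpr ⟨ha, hb, hab⟩, rfl⟩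
  have hsnd : ∀ {P : Subgroup Ω}, P ≤ T₁ ⊔ T₂ →
      (preimageAlong θ P).map (MonoidHom.snd Ω Ω) = cproj T₂ T₁ P := by
    intro P hP
    ext b
    rw [mem_cproj_snd hc hP]
    constructor
    · rintro ⟨⟨a, b'⟩, hx, rfl⟩
      obtain ⟨ha, hb, hab⟩ := hpre.mp hx
      exact ⟨hb, a, ha, hab⟩
    · rintro ⟨hb, a, ha, hab⟩
      exact ⟨(a, b), hpre.mpr ⟨ha, hb, hab⟩, rfl⟩
  constructor
  · intro hf
    have hP : P ≤ T₁ ⊔ T₂ := hf.le.trans htop.le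
    obtain ⟨g, hg, hge⟩ := factor_lift hfac hf
    obtain ⟨-, f₁, f₂, hf₁, hf₂, he⟩ := (isMor_product hD₀).mp hg
    rw [hfst hP] at hf₁
    rw [hsnd hP] at hf₂
    refine ⟨hP, f₁, f₂, hf₁, hf₂, fun a ha b hb hab => ?_⟩
    have hab' : (a, b) ∈ preimageAlong θ P := hpre.mpr ⟨ha, hb, hab⟩
    have hm : ((a, b) : Ω × Ω) ∈ T₁.prod T₂ := Subgroup.mem_prod.mpr ⟨ha, hb⟩
    have h := hge ⟨(a, b), hm⟩ (hg.mem hab') ((hθ hm).symm ▸ hab)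
    simp only [hθ] at h
    rw [he _ hab'] at h
    exact h
  · rintro ⟨hP, f₁, f₂, hf₁, hf₂, he⟩
    have hg : IsMor D₀ (preimageAlong θ P) (fun x => (f₁ x.1, f₂ x.2)) :=
      (isMor_product hD₀).mpr ⟨preimageAlong_le _, f₁, f₂, by rwa [hfst hP], by rwa [hsnd hP],
        fun _ _ => rfl⟩
    obtain ⟨f', hf', hfe⟩ := factor_push hfac hZ (hP.trans htop.ge) hg
    refine hf'.congr fun x hx => ?_
    obtain ⟨a, ha, b, hb, rfl⟩ := mem_sup_of_normalized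
      (le_sup_left.trans (le_normalizer_of_comm hc) : T₁ ≤ _) (hP hx)
    have hab' : (a, b) ∈ preimageAlong θ P := hpre.mpr ⟨ha, hb, hx⟩
    have hm : ((a, b) : Ω × Ω) ∈ T₁.prod T₂ := Subgroup.mem_prod.mpr ⟨ha, hb⟩
    have h := hfe ⟨(a, b), hm⟩ (hg.mem hab') ((hθ hm).symm ▸ hx)
    simp only [hθ] at h
    rw [he a ha b hb hx]
    exact h

variable {p : ℕ} [hp : Fact p.Prime]

/-- A central product is determined by its factors. -/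
theorem cpData_of_isCentralProductOf (h : IsCentralProductOf E₁ E₂ D) : CPData E₁ E₂ D := by
  obtain ⟨D₀, hD₀, Z, θ, hZ, -, -, h₁, h₂, hfac⟩ := h
  have : Finite ↥(T₁.prod T₂) := Finite.of_equiv _ (Subgroup.prodEquiv T₁ T₂).toEquiv.symm
  have hθ : ∀ {x : Ω × Ω} (hx : x ∈ T₁.prod T₂), θ ⟨x, hx⟩ = x.1 * x.2 := fun {x} hx =>
    (comm_of_mul_hom h₁ h₂ hx.1 hx.2).2
  have hc : ⁅T₁, T₂⁆ = ⊥ := Subgroup.commutator_eq_bot_iff_le_centralizer.mpr fun a ha =>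
    Subgroup.mem_centralizer_iff.mpr fun b hb => ((comm_of_mul_hom h₁ h₂ ha hb).1).symm
  have htop : T = T₁ ⊔ T₂ := by
    rw [← hfac.2.2.1]
    refine le_antisymm ?_ (sup_le (fun a ha => ⟨⟨(a, 1), ha, T₂.one_mem⟩, h₁ a _⟩)
      fun b hb => ⟨⟨(1, b), T₁.one_mem, hb⟩, h₂ b _⟩)
    rintro _ ⟨⟨x, hx⟩, rfl⟩
    rw [hθ hx]
    exact Subgroup.mul_mem _ (Subgroup.mem_sup_left hx.1) (Subgroup.mem_sup_right hx.2)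
  have hfix : ∀ P f, IsMor D₀ P f → ∀ x ∈ P, x ∈ Z → f x = x := fun P f hf x hxP hxZ => by
    obtain ⟨g, -, hgf, hgZ⟩ := (isCentral_iff.mp (isCentral_center D₀)).2 P f hf
    rw [← hgf x hxP, hgZ x (hZ hxZ)]
  have hZsc : D₀.StronglyClosed Z := stronglyClosed_iff.mpr
    ⟨hfac.1, fun P f hf x hxP hxZ => (hfix P f hf x hxP hxZ).symm ▸ hxZ⟩
  have hker : ∀ {x : Ω}, x ∈ T₁ ⊓ T₂ → ((x, x⁻¹) : Ω × Ω) ∈ Z := fun {x} hx =>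
    (hfac.2.1 ⟨(x, x⁻¹), Subgroup.mem_prod.mpr ⟨hx.1, T₂.inv_mem hx.2⟩⟩).mp
      ((hθ _).trans (mul_inv_cancel x))
  refine ⟨hc, htop, fun P f hf x hxP hx => ?_, fun P f hf x hxP hx => ?_,
    mor_of_factor hD₀ h₁ h₂ hfac hZsc hc htop⟩
  · have hP : P.prod (Subgroup.zpowers x⁻¹) ≤ T₁.prod T₂ := fun y hy =>
      ⟨hf.le hy.1, Subgroup.zpowers_le.mpr (T₂.inv_mem hx.2) hy.2⟩
    have hm : IsMor D₀ (P.prod (Subgroup.zpowers x⁻¹)) fun y => (f y.1, y.2) :=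
      (isMor_product hD₀).mpr ⟨hP, f, id, hf.restrict (by rintro _ ⟨y, hy, rfl⟩; exact hy.1),
        isMor_id E₂ (by rintro _ ⟨y, hy, rfl⟩; exact (hP hy).2), fun _ _ => rfl⟩
    exact congrArg Prod.fst (hfix _ _ hm (x, x⁻¹) ⟨hxP, Subgroup.mem_zpowers _⟩ (hker hx))
  · have hP : (Subgroup.zpowers x⁻¹).prod P ≤ T₁.prod T₂ := fun y hy =>
      ⟨Subgroup.zpowers_le.mpr (T₁.inv_mem hx.1) hy.1, hf.le hy.2⟩
    have hm : IsMor D₀ ((Subgroup.zpowers x⁻¹).prod P) fun y => (y.1, f y.2) :=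
      (isMor_product hD₀).mpr ⟨hP, id, f, isMor_id E₁ (by rintro _ ⟨y, hy, rfl⟩; exact (hP hy).1),
        hf.restrict (by rintro _ ⟨y, hy, rfl⟩; exact hy.2), fun _ _ => rfl⟩
    have hk := hker (x := x⁻¹) ⟨T₁.inv_mem hx.1, T₂.inv_mem hx.2⟩
    rw [inv_inv] at hk
    exact congrArg Prod.snd (hfix _ _ hm (x⁻¹, x) ⟨Subgroup.mem_zpowers _, hxP⟩ hk)

/-- The central product of commuting saturated systems with the meet central in both. -/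
theorem exists_centralProduct (hp₁ : IsPGroup p T₁) (hp₂ : IsPGroup p T₂)
    (hs₁ : E₁.IsSaturated p) (hs₂ : E₂.IsSaturated p) (hc : ⁅T₁, T₂⁆ = ⊥)
    (hz₁ : T₁ ⊓ T₂ ≤ E₁.center) (hz₂ : T₁ ⊓ T₂ ≤ E₂.center) :
    ∃ D : FusionSystem (T₁ ⊔ T₂), IsCentralProductOf E₁ E₂ D ∧ D.IsSaturated p := by
  obtain ⟨D₀, hD₀⟩ := Cfsg.Agent.S5136.result p hp₁ hp₂ E₁ E₂
  have : Finite ↥(T₁.prod T₂) := Finite.of_equiv _ (Subgroup.prodEquiv T₁ T₂).toEquiv.symm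
  have hp₀ : IsPGroup p ↥(T₁.prod T₂) := by
    rintro ⟨⟨a, b⟩, ha, hb⟩
    obtain ⟨i, hi⟩ := hp₁ ⟨a, ha⟩
    obtain ⟨j, hj⟩ := hp₂ ⟨b, hb⟩
    have hi' : a ^ p ^ i = 1 := congrArg Subtype.val hi
    have hj' : b ^ p ^ j = 1 := congrArg Subtype.val hj
    refine ⟨i + j, Subtype.ext (Prod.ext ?_ ?_)⟩
    · show a ^ p ^ (i + j) = 1
      rw [pow_add, pow_mul, hi', one_pow]
    · show b ^ p ^ (i + j) = 1
      rw [add_comm, pow_add, pow_mul, hj', one_pow]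
  let θ : ↥(T₁.prod T₂) →* Ω := MonoidHom.mk' (fun x => x.1.1 * x.1.2) fun x y => by
    show x.1.1 * y.1.1 * (x.1.2 * y.1.2) = x.1.1 * x.1.2 * (y.1.1 * y.1.2)
    rw [mul_assoc, ← mul_assoc y.1.1, comm_of_commutator_bot hc y.2.1 x.2.2]
    simp [mul_assoc]
  let Z : Subgroup (Ω × Ω) := θ.ker.map (T₁.prod T₂).subtype
  have hker : ∀ s : ↥(T₁.prod T₂), θ s = 1 ↔ (s : Ω × Ω) ∈ Z := fun s =>
    ⟨fun h => ⟨s, h, rfl⟩, fun ⟨t, ht, e⟩ => (Subtype.ext e : t = s) ▸ ht⟩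
  have hs₀ := product_isSaturated hp₁ hp₂ hs₁ hs₂ hD₀
  have hZ0 : ∀ {x : Ω × Ω}, x ∈ Z → x.1 ∈ T₁ ⊓ T₂ ∧ x.2 ∈ T₁ ⊓ T₂ := by
    rintro _ ⟨⟨⟨a, b⟩, ha, hb⟩, hab, rfl⟩
    have e : a * b = 1 := hab
    refine ⟨⟨ha, ?_⟩, ⟨?_, hb⟩⟩
    · show a ∈ T₂; rw [eq_inv_of_mul_eq_one_left e]; exact T₂.inv_mem hb
    · show b ∈ T₁; rw [eq_inv_of_mul_eq_one_right e]; exact T₁.inv_mem ha
  have hZc : D₀.IsCentral Z := by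
    refine (isCentral_iff_fixed hp₀ hs₀).mpr ⟨Subgroup.map_subtype_le _, fun P f hf x hxP hxZ => ?_⟩
    obtain ⟨-, f₁, f₂, hf₁, hf₂, he⟩ := (isMor_product hD₀).mp hf
    obtain ⟨hx₁, hx₂⟩ := hZ0 hxZ
    obtain ⟨g₁, -, hg₁, hg₁Z⟩ := (isCentral_iff.mp (isCentral_center E₁)).2 _ f₁ hf₁
    obtain ⟨g₂, -, hg₂, hg₂Z⟩ := (isCentral_iff.mp (isCentral_center E₂)).2 _ f₂ hf₂
    rw [he x hxP, ← hg₁ x.1 ⟨x, hxP, rfl⟩, ← hg₂ x.2 ⟨x, hxP, rfl⟩, hg₁Z _ (hz₁ hx₁),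
      hg₂Z _ (hz₂ hx₂)]
  have hZsc : D₀.StronglyClosed Z := isNormal_stronglyClosed (isNormal_of_isCentral hZc)
  have hrange : θ.range = T₁ ⊔ T₂ := by
    refine le_antisymm ?_ (sup_le (fun a ha => ⟨⟨(a, 1), ha, T₂.one_mem⟩, mul_one a⟩)
      fun b hb => ⟨⟨(1, b), T₁.one_mem, hb⟩, one_mul b⟩)
    rintro _ ⟨⟨x, hx⟩, rfl⟩
    exact Subgroup.mul_mem _ (Subgroup.mem_sup_left hx.1) (Subgroup.mem_sup_right hx.2)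
  obtain ⟨D, hD⟩ := exists_factorSystem hZsc hker hrange
  refine ⟨D, ⟨D₀, hD₀, Z, θ, le_center hZc, ?_, ?_, fun x _ => mul_one x, fun y _ => one_mul y, hD⟩,
    factor_isSaturated hp₀ hs₀ hZsc hD⟩
  · refine (Subgroup.eq_bot_iff_forall _).mpr ?_
    rintro _ ⟨⟨⟨⟨a, b⟩, ha, hb⟩, hab, rfl⟩, -, hb'⟩
    have hb1 : b = 1 := hb'
    have e : a * b = 1 := hab
    rw [hb1, mul_one] at e
    exact Prod.ext e hb1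
  · refine (Subgroup.eq_bot_iff_forall _).mpr ?_
    rintro _ ⟨⟨⟨⟨a, b⟩, ha, hb⟩, hab, rfl⟩, ha', -⟩
    have ha1 : a = 1 := ha'
    have e : a * b = 1 := hab
    rw [ha1, one_mul] at e
    exact Prod.ext ha1 e

end CfsgLib.Fusion
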