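import Mathlib
import Cfsg.Agent.Lib.Fusion.MeetExtGroup
import Cfsg.Agent.Lib.Fusion.SatMain

/-!
# Saturation of the generated system
-/

set_option autoImplicit false
set_option linter.unusedSectionVars false
set_option maxHeartbeats 1000000

namespace CfsgLib.Fusion

open Cfsg Cfsg.FusionSystem

variable {Ω : Type*} [Group Ω] {S T₁ T₂ : Subgroup Ω} {F : FusionSystem S} {E₁ : FusionSystem T₁}
  {E₂ : FusionSystem T₂} {p : ℕ} [hp : Fact p.Prime] [Finite S]

/-- A member of the class with normalizer of maximal order is a full image of every member. -/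
theorem full_of_joined {T : Subgroup Ω} [Finite T] {W : FusionSystem T} {A D : Subgroup Ω}
    (hD : W.IsFullyNormalized D) (hAD : W.IsConj A D) (h : Joined W A D) : Full W A D := by
  obtain ⟨D', ⟨a, ha, haD⟩, ⟨b, hb, hbD⟩⟩ := h
  have hAT := (isConj_le hAD).1
  have hDc : W.IsConj D D' := isConj_iff.mpr ⟨b, hb.restrict (le_normalizerIn hD.1), hbD⟩
  have hsub : img (normalizerIn T D) b ≤ normalizerIn T D' :=
    img_le fun x hx => hbD ▸ mapsTo_normalizerIn hb (le_normalizerIn hD.1) le_rfl x hx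
  have heq : img (normalizerIn T D) b = normalizerIn T D' :=
    eq_of_le_of_card normalizerIn_le hsub (by rw [hb.card_img]; exact hD.2 D' hDc)
  obtain ⟨bi, hbi, hbl, -, -⟩ := hb.inverse
  refine ⟨bi ∘ a, ha.comp hbi fun x hx => ?_, ?_⟩
  · rw [heq]
    exact haD ▸ mapsTo_normalizerIn ha (le_normalizerIn hAT) le_rfl x hx
  · rw [← (ha.restrict (le_normalizerIn hAT)).img_comp, haD, ← hbD,
      (hb.restrict (le_normalizerIn hD.1)).img_comp]
    exact (img_congr (g := id) fun x hx => hbl x (le_normalizerIn hD.1 hx)).trans (img_id _)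

namespace MeetHyp

variable (hm : MeetHyp F E₁ E₂ p)
include hm

/-- A generated map defined on the whole of `T₁ ⊓ T₂` is a common automorphism. -/
theorem meetGen_top {U : Subgroup Ω} {f : Ω → Ω} (h : MeetGen F E₁ E₂ p U f) :
    U = T₁ ⊓ T₂ → ∃ γ ∈ meetAut F E₁ E₂ p (T₁ ⊓ T₂), ∀ x ∈ T₁ ⊓ T₂, f x = autFun γ x := by
  induction h with
  | @step U R f α h1 h2 h3 h4 =>
    intro e
    subst e
    obtain rfl : R = T₁ ⊓ T₂ := le_antisymm h1.1 h3
    exact ⟨α, h2, h4⟩
  | @comp U f g k h1 h2 e ih1 ih2 =>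
    intro hU
    subst hU
    obtain ⟨γ₁, hγ₁, he₁⟩ := ih1 rfl
    obtain ⟨γ₂, hγ₂, he₂⟩ := ih2 (by rw [img_congr he₁, img_autFun])
    exact ⟨γ₂ * γ₁, mul_mem hγ₂ hγ₁, fun x hx => by
      rw [e x hx, he₁ x hx, he₂ _ (autFun_mem γ₁ hx), autFun_mul _ _ hx]⟩

theorem meetH_of_sys_isConj {U V : Subgroup Ω} (hU : meetH F (T₁ ⊓ T₂) U)
    (h : hm.sys.IsConj U V) : meetH F (T₁ ⊓ T₂) V := by
  obtain ⟨f, hf, rfl⟩ := isConj_iff.mp h
  exact hm.meetH_conj hU (isConj_img (le_iff_isMor.mp hm.sys_le _ _ hf))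

/-- A fully normalized subgroup is fully normalized in the generated system. -/
theorem sys_isFullyNormalized {D : Subgroup Ω} (hD : F.IsFullyNormalized D)
    (hDT : D ≤ T₁ ⊓ T₂) : hm.sys.IsFullyNormalized D :=
  isFullyNormalized_sub hm.pgroup hm.sat hm.sys_le hm.closed hD hDT

/-- Subgroups outside the centric family have a conjugate not containing its centralizer. -/
theorem exists_not_le {X : Subgroup Ω} (hXT : X ≤ T₁ ⊓ T₂) (hX : ¬ meetH F (T₁ ⊓ T₂) X) :
    ∃ Y, hm.sys.IsConj X Y ∧ ¬ centralizerIn (T₁ ⊓ T₂) Y ≤ Y := by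
  obtain ⟨Q, hQ, hQn⟩ : ∃ Q, F.IsConj X Q ∧ ¬ centralizerIn (T₁ ⊓ T₂) Q ≤ Q := by
    by_contra h
    exact hX ⟨hXT, fun Q hQ => by_contra fun h' => h ⟨Q, hQ, h'⟩⟩
  obtain ⟨f, hf, rfl⟩ := isConj_iff.mp hQ
  obtain ⟨α, hα, e, he, hfe⟩ := hm.sys_factors hf hXT
  refine ⟨img X e, isConj_img he, fun hle => hQn ?_⟩
  have hαm := isMor_autFun hm.le_S hα
  have hi : img X f = img (img X e) (autFun α) := by
    rw [he.img_comp]
    exact img_congr hfe
  intro c hc
  obtain ⟨hcT, hcc⟩ := mem_centralizerIn.mp hc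
  have hc' : autFun α⁻¹ c ∈ centralizerIn (T₁ ⊓ T₂) (img X e) := by
    refine mem_centralizerIn.mpr ⟨autFun_mem _ hcT, fun y hy => ?_⟩
    have hyT := he.img_le hy
    have h1 : autFun α y ∈ img X f := hi ▸ mem_img_of_mem _ hy
    have h2 := hcc _ h1
    have h3 := (isMor_autFun hm.le_S (inv_mem hα)).map_conj hcT (autFun_mem α hyT)
    rw [cj_apply] at h2
    rw [h2, autFun_inv_left α hyT] at h3
    exact h3.symm
  rw [hi, ← autFun_inv_right α hcT]
  exact mem_img_of_mem _ (hle hc')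

section Level

variable {n : ℕ}

/-- Generated maps join their ends. -/
theorem sys_joined (habove : AboveSat hm.sys p n) {U : Subgroup Ω} {f : Ω → Ω}
    (h : MeetGen F E₁ E₂ p U f) :
    Nat.card U = n → U < T₁ ⊓ T₂ → Joined hm.sys U (img U f) := by
  have : Finite ↥(T₁ ⊓ T₂) := finite_of_le hm.le_S
  have hTp : IsPGroup p ↥(T₁ ⊓ T₂) := isPGroup_of_le hm.le_S hm.pgroup
  induction h with
  | @step U R f α h1 h2 h3 h4 =>
    intro hn hU
    rw [img_congr h4]
    rcases eq_or_lt_of_le h3 with e | hUR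
    · subst e
      rw [img_autFun]
      exact ⟨U, ⟨id, isMor_id _ normalizerIn_le, img_id U⟩, ⟨id, isMor_id _ normalizerIn_le, img_id U⟩⟩
    have hmor := isMor_autFun h1.1 (hm.meetAut_le_sys h1 h2)
    have : Finite R := finite_of_le h1.1
    exact joined_of_step hTp n habove _ U (R ⊓ Subgroup.normalizer (U : Set Ω)) _ hn
      (hmor.restrict inf_le_left) (lt_inf_normalizer (isPGroup_of_le h1.1 hTp) hUR)
      (fun x hx => mem_normalizerIn.mpr ⟨h1.1 hx.1, hx.2⟩) rfl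
  | @comp U f g k h1 h2 e ih1 ih2 =>
    intro hn hU
    have hf := hm.isMor_sys.mpr h1
    have hlt : img U f < T₁ ⊓ T₂ := lt_of_isConj hU (isConj_img hf)
    have hi : img U k = img (img U f) g := by rw [hf.img_comp, img_congr e]; rfl
    rw [hi]
    have hcard : Nat.card (img U f) = n := by rw [hf.card_img, hn]
    exact joined_trans hTp habove hcard hlt (ih1 hn hU) (ih2 hcard hlt) hU.le
      (hm.isMor_sys.mpr h2).img_le

theorem exists_full_sys (habove : AboveSat hm.sys p n) {A D : Subgroup Ω}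
    (hD : hm.sys.IsFullyNormalized D) (hn : Nat.card D = n) (hDlt : D < T₁ ⊓ T₂)
    (hAD : hm.sys.IsConj A D) : Full hm.sys A D := by
  have : Finite ↥(T₁ ⊓ T₂) := finite_of_le hm.le_S
  obtain ⟨f, hf, hfi⟩ := isConj_iff.mp hAD
  exact full_of_joined hD hAD (hfi ▸ hm.sys_joined habove (hm.isMor_sys.mp hf)
    ((isConj_card hAD).symm.trans hn) (lt_of_isConj hDlt (isConj_symm hAD)))

/-- An automorphism extending properly is a common automorphism. -/
theorem loop_mem (habove : AboveSat hm.sys p n)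
    (hA : ∀ R, meetH F (T₁ ⊓ T₂) R → n < Nat.card R →
      hm.sys.autGroup R ≤ meetAut F E₁ E₂ p R)
    {D : Subgroup Ω} (hD : hm.sys.IsFullyNormalized D) (hH : meetH F (T₁ ⊓ T₂) D)
    (hn : Nat.card D = n) :
    ∀ (d : ℕ) (R : Subgroup Ω) (θ : Ω → Ω), D < R → R ≤ normalizerIn (T₁ ⊓ T₂) D →
      IsMor hm.sys R θ → img D θ = D → Nat.card ↥(T₁ ⊓ T₂) - Nat.card R = d →
      ∀ γ : MulAut D, (∀ x ∈ D, autFun γ x = θ x) → γ ∈ meetAut F E₁ E₂ p D := by
  have : Finite ↥(T₁ ⊓ T₂) := finite_of_le hm.le_S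
  have hTp : IsPGroup p ↥(T₁ ⊓ T₂) := isPGroup_of_le hm.le_S hm.pgroup
  intro d
  induction d using Nat.strong_induction_on with
  | _ d ih =>
  intro R θ hDR hRN hθ hθD hd γ hγ
  subst hd
  have hDT := hH.1
  have hRT : R ≤ T₁ ⊓ T₂ := hθ.le
  have hRH : meetH F (T₁ ⊓ T₂) R := hm.meetH_mono hH hDR.le hRT
  have hRn : n < Nat.card R := hn ▸ card_lt_of_lt hRT hDR
  have hmaps : img R θ ≤ normalizerIn (T₁ ⊓ T₂) D :=
    img_le fun x hx => hθD ▸ mapsTo_normalizerIn hθ hDR.le hRN x hx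
  rcases eq_or_lt_of_le hRN with hR | hR
  · have hRi : img R θ = R :=
      eq_of_le_of_card hRT (hR ▸ hmaps : img R θ ≤ R) hθ.card_img.ge
    obtain ⟨γR, hγR, hγRe⟩ := exists_aut hθ hRi
    refine hm.meetAut_restrict hRT hDR.le (hA R hRH hRn hγR) (fun x hx => ?_)
      fun x hx => by rw [hγ x hx, hγRe x (hDR.le hx)]
    rw [hγRe x (hDR.le hx), ← hγ x hx]
    exact autFun_mem γ hx
  obtain ⟨R', C, δA, δB, kA, kB, had, hδA, hδA', hδB, hδB', hkA, hkAC, hkAR, hkB, hkBC, hkBe⟩ :=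
    exists_replacement hTp (hn ▸ habove) hθ hDR
  rw [hθD] at hkB hkBC
  set SA := normalizerIn (T₁ ⊓ T₂) D ⊓ normalizerIn (T₁ ⊓ T₂) R with hSA
  set SB := normalizerIn (T₁ ⊓ T₂) D ⊓ normalizerIn (T₁ ⊓ T₂) (img R θ) with hSB
  have hRSA : R < SA := lt_normalizerIn_inf hTp hDT hDR.le hR
  have hDY : D ≤ img R θ := hθD ▸ img_mono θ hDR.le
  have hY : img R θ < normalizerIn (T₁ ⊓ T₂) D := by
    refine lt_of_le_of_ne hmaps fun e => ?_
    have h1 := hθ.card_img
    rw [e] at h1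
    have := card_lt_of_lt normalizerIn_le hR
    omega
  have hYSB : img R θ < SB := lt_normalizerIn_inf hTp hDT hDY hY
  have hSAT : SA ≤ T₁ ⊓ T₂ := inf_le_left.trans normalizerIn_le
  have hSBT : SB ≤ T₁ ⊓ T₂ := inf_le_left.trans normalizerIn_le
  have hcA : Nat.card R < Nat.card SA := card_lt_of_lt hSAT hRSA
  have hcB : Nat.card R < Nat.card SB := hθ.card_img ▸ card_lt_of_lt hSBT hYSB
  have hdec : ∀ {M : Subgroup Ω}, M ≤ T₁ ⊓ T₂ → Nat.card R < Nat.card M →
      Nat.card ↥(T₁ ⊓ T₂) - Nat.card M < Nat.card ↥(T₁ ⊓ T₂) - Nat.card R := fun hM h => by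
    have := Subgroup.card_le_of_le hM
    omega
  have hDSA : D ≤ SA := hDR.le.trans hRSA.le
  have hDSB : D ≤ SB := hDY.trans hYSB.le
  have hCconj : hm.sys.IsConj C D := isConj_symm (hkAC ▸ isConj_img (hkA.restrict hDSA))
  obtain ⟨c, hc, hcD⟩ := hm.exists_full_sys habove hD hn
    (lt_of_lt_of_le (hDR.trans hR) normalizerIn_le) hCconj
  have hCT : C ≤ T₁ ⊓ T₂ := (isConj_le hCconj).1
  have hCN : C ≤ normalizerIn (T₁ ⊓ T₂) C := le_normalizerIn hCT
  -- the two outer parts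
  have hside : ∀ {M : Subgroup Ω} {k : Ω → Ω}, D ≤ M → M ≤ normalizerIn (T₁ ⊓ T₂) D →
      Nat.card R < Nat.card M → IsMor hm.sys M k → img D k = C →
      ∃ γ' ∈ meetAut F E₁ E₂ p D, ∀ x ∈ D, autFun γ' x = c (k x) := by
    intro M k hDM hMN hRM hk hkC
    have hkN : ∀ x ∈ M, k x ∈ normalizerIn (T₁ ⊓ T₂) C := fun x hx =>
      hkC ▸ mapsTo_normalizerIn hk hDM hMN x hx
    have hcomp := hk.comp hc hkN
    have hi : img D (c ∘ k) = D := by rw [← (hk.restrict hDM).img_comp, hkC, hcD]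
    obtain ⟨γ', -, hγ'e⟩ := exists_aut (hcomp.restrict hDM) hi
    refine ⟨γ', ?_, hγ'e⟩
    refine ih _ (hdec (hMN.trans normalizerIn_le) hRM) M _ ?_ hMN hcomp hi rfl γ' hγ'e
    exact lt_of_le_of_ne hDM fun e => by rw [← e] at hRM; omega
  obtain ⟨γA, hγA, hγAe⟩ := hside hDSA inf_le_left hcA hkA hkAC
  obtain ⟨γB, hγB, hγBe⟩ := hside hDSB inf_le_left hcB hkB hkBC
  -- the middle part
  have hCR' : C ≤ R' := had.le
  have hR'T : R' ≤ T₁ ⊓ T₂ := had.receptive.1
  have hCH : meetH F (T₁ ⊓ T₂) C := hm.meetH_of_sys_isConj hH (isConj_symm hCconj)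
  have hR'n : n < Nat.card R' := by
    rw [← hkAR, (hkA.restrict hRSA.le).card_img]
    exact hRn
  set δ := δB * δA⁻¹ with hδdef
  have hδ : δ ∈ meetAut F E₁ E₂ p R' :=
    hA R' (hm.meetH_mono hCH hCR' hR'T) hR'n (mul_mem hδB (inv_mem hδA))
  have hδs : δ ∈ stabIn R' C := Subgroup.mul_mem _ hδB' (Subgroup.inv_mem _ hδA')
  set μ := resC hCR' ⟨δ, hδs⟩ with hμ
  have hμm : μ ∈ meetAut F E₁ E₂ p C := hm.meetAut_restrict hR'T hCR' hδ
    (fun x hx => stabIn_maps hCR' hδs hx) fun x hx => autFun_resC hCR' ⟨δ, hδs⟩ hx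
  have hcC : IsMor F C c := le_iff_isMor.mp hm.sys_le _ _ (hc.restrict hCN)
  obtain ⟨e, he, -, -⟩ := exists_transport hcC hcD
  have hν := hm.meetAut_transport hcC hcD hCT he hμm
  suffices h : γ = γB⁻¹ * (e μ * γA) by
    rw [h]; exact mul_mem (inv_mem hγB) (mul_mem hν hγA)
  rw [eq_inv_mul_iff_mul_eq]
  refine autFun_inj fun x hx => ?_
  have hθx : θ x ∈ D := hθD ▸ mem_img_of_mem θ hx
  have hkx : kA x ∈ C := hkAC ▸ mem_img_of_mem kA hx
  rw [autFun_mul _ _ hx, hγ x hx, hγBe _ hθx, hkBe x hx, autFun_mul _ _ hx, hγAe x hx,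
    he μ _ hkx, hμ, autFun_resC hCR' ⟨δ, hδs⟩ hkx]

/-- Every loop through full maps is a common automorphism. -/
theorem loop_gen (habove : AboveSat hm.sys p n)
    (hA : ∀ R, meetH F (T₁ ⊓ T₂) R → n < Nat.card R →
      hm.sys.autGroup R ≤ meetAut F E₁ E₂ p R)
    {D : Subgroup Ω} (hD : hm.sys.IsFullyNormalized D) (hH : meetH F (T₁ ⊓ T₂) D)
    (hn : Nat.card D = n) (hDlt : D < T₁ ⊓ T₂) {U : Subgroup Ω} {f : Ω → Ω}
    (h : MeetGen F E₁ E₂ p U f) :
    ∀ a b, IsMor hm.sys (normalizerIn (T₁ ⊓ T₂) U) a → img U a = D →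
      IsMor hm.sys (normalizerIn (T₁ ⊓ T₂) (img U f)) b → img (img U f) b = D →
      ∀ γ : MulAut D, (∀ x ∈ U, autFun γ (a x) = b (f x)) → γ ∈ meetAut F E₁ E₂ p D := by
  have : Finite ↥(T₁ ⊓ T₂) := finite_of_le hm.le_S
  have hTp : IsPGroup p ↥(T₁ ⊓ T₂) := isPGroup_of_le hm.le_S hm.pgroup
  induction h with
  | @step U R f α h1 h2 h3 h4 =>
    intro a b ha haD hb hbD γ hγ
    have hUT : U ≤ T₁ ⊓ T₂ := h3.trans h1.1
    have hUN : U ≤ normalizerIn (T₁ ⊓ T₂) U := le_normalizerIn hUT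
    obtain ⟨ai, hai, hal, -, -⟩ := ha.inverse
    have hmN : ∀ x ∈ normalizerIn (T₁ ⊓ T₂) U, a x ∈ normalizerIn (T₁ ⊓ T₂) D :=
      fun x hx => haD ▸ mapsTo_normalizerIn ha hUN le_rfl x hx
    have hUlt : U < T₁ ⊓ T₂ :=
      lt_of_isConj hDlt (isConj_symm (haD ▸ isConj_img (ha.restrict hUN)))
    have haiD : img D ai = U := by
      rw [← haD, (ha.restrict hUN).img_comp]
      exact (img_congr (g := id) fun x hx => hal x (hUN hx)).trans (img_id _)
    have hstep : ∀ {M : Subgroup Ω} {θ : Ω → Ω}, U < M → M ≤ normalizerIn (T₁ ⊓ T₂) U →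
        IsMor hm.sys M θ → (∀ x ∈ U, θ x = autFun γ (a x)) → γ ∈ meetAut F E₁ E₂ p D := by
      intro M θ hUM hMN hθ hθe
      have hsrc : img M a ≤ normalizerIn (T₁ ⊓ T₂) D := img_le fun x hx => hmN x (hMN hx)
      have hθ' : IsMor hm.sys (img M a) (θ ∘ ai) :=
        (hai.restrict (img_mono a hMN)).comp hθ fun y hy => by
          obtain ⟨x, hx, rfl⟩ := (ha.restrict hMN).mem_img.mp hy
          rw [hal x (hMN hx)]
          exact hx
      have hcong : ∀ y ∈ D, (θ ∘ ai) y = autFun γ y := fun y hy => by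
        obtain ⟨x, hx, rfl⟩ := (ha.restrict hUN).mem_img.mp (haD.ge hy)
        rw [Function.comp_apply, hal x (hUN hx), hθe x hx]
      refine hm.loop_mem habove hA hD hH hn _ (img M a) (θ ∘ ai) ?_ hsrc hθ' ?_ rfl γ
        fun y hy => (hcong y hy).symm
      · refine lt_of_le_of_ne (haD ▸ img_mono a hUM.le) fun e => ?_
        have h5 := ha.le_of_img_le hMN hUN (by rw [haD]; exact e.ge)
        exact hUM.ne (le_antisymm hUM.le h5)
      · rw [img_congr hcong, img_autFun]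
    rcases eq_or_lt_of_le h3 with e | hUR
    · subst e
      have hi : img U f = U := by rw [img_congr h4, img_autFun]
      rw [hi] at hb hbD
      -- split as a change of full map and a transported automorphism
      obtain ⟨ε, hε, -, -⟩ := exists_transport (le_iff_isMor.mp hm.sys_le _ _ (ha.restrict hUN)) haD
      have hν := hm.meetAut_transport (le_iff_isMor.mp hm.sys_le _ _ (ha.restrict hUN)) haD
        hUT hε h2
      suffices hρ : γ * (ε α)⁻¹ ∈ meetAut F E₁ E₂ p D by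
        have := mul_mem hρ hν
        rwa [inv_mul_cancel_right] at this
      have haiN : ∀ x ∈ U, a x ∈ D := fun x hx => haD ▸ mem_img_of_mem a hx
      have hcong : ∀ x ∈ U, autFun (γ * (ε α)⁻¹) (a x) = b x := by
        intro x hx
        have hx' := autFun_mem α⁻¹ hx
        have h6 : autFun (ε α)⁻¹ (a x) = a (autFun α⁻¹ x) := by
          rw [← map_inv, hε α⁻¹ x hx]
        rw [autFun_mul _ _ (haiN x hx), h6, hγ _ hx', h4 _ hx', autFun_inv_right α hx]
      obtain ⟨hb', -⟩ : IsMor hm.sys (normalizerIn (T₁ ⊓ T₂) U) b ∧ True := ⟨hb, trivial⟩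
      have hNlt := normalizerIn_gt hTp hUlt
      have hθ' : IsMor hm.sys (img (normalizerIn (T₁ ⊓ T₂) U) a) (b ∘ ai) :=
        hai.comp hb' fun y hy => by
          obtain ⟨x, hx, rfl⟩ := ha.mem_img.mp hy
          rw [hal x hx]
          exact hx
      have hc' : ∀ y ∈ D, (b ∘ ai) y = autFun (γ * (ε α)⁻¹) y := fun y hy => by
        obtain ⟨x, hx, rfl⟩ := (ha.restrict hUN).mem_img.mp (haD.ge hy)
        rw [Function.comp_apply, hal x (hUN hx), hcong x hx]
      refine hm.loop_mem habove hA hD hH hn _ _ (b ∘ ai) ?_ (img_le hmN) hθ' ?_ rfl _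
        fun y hy => (hc' y hy).symm
      · refine lt_of_le_of_ne (haD ▸ img_mono a hUN) fun e => ?_
        have h5 := ha.le_of_img_le le_rfl hUN (by rw [haD]; exact e.ge)
        exact hNlt.ne (le_antisymm hUN h5)
      · rw [img_congr hc', img_autFun]
    · have : Finite R := finite_of_le h1.1
      set M := R ⊓ Subgroup.normalizer (U : Set Ω) with hM
      have hUM : U < M := lt_inf_normalizer (isPGroup_of_le h1.1 hTp) hUR
      have hMN : M ≤ normalizerIn (T₁ ⊓ T₂) U :=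
        fun x hx => mem_normalizerIn.mpr ⟨h1.1 hx.1, hx.2⟩
      have hα := (isMor_autFun h1.1 (hm.meetAut_le_sys h1 h2)).restrict
        (inf_le_left : M ≤ R)
      refine hstep hUM hMN (θ := b ∘ autFun α) (hα.comp hb fun x hx => ?_) fun x hx => ?_
      · have := mapsTo_normalizerIn hα hUM.le hMN x hx
        rwa [img_congr h4]
      · rw [Function.comp_apply, hγ x hx, h4 x hx]
  | @comp U f g k h1 h2 e ih1 ih2 =>
    intro a b ha haD hb hbD γ hγ
    have hf := hm.isMor_sys.mpr h1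
    have hg := hm.isMor_sys.mpr h2
    have hUN : U ≤ normalizerIn (T₁ ⊓ T₂) U := le_normalizerIn hf.le
    have hconjU : hm.sys.IsConj U D := haD ▸ isConj_img (ha.restrict hUN)
    have hconjV : hm.sys.IsConj (img U f) D := isConj_trans (isConj_symm (isConj_img hf)) hconjU
    obtain ⟨d, hd, hdD⟩ := hm.exists_full_sys habove hD hn hDlt hconjV
    have hVN : img U f ≤ normalizerIn (T₁ ⊓ T₂) (img U f) := le_normalizerIn hf.img_le
    obtain ⟨ai, hai, hal, -, -⟩ := (ha.restrict hUN).inverse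
    rw [haD] at hai
    have haiU : ∀ y ∈ D, ai y ∈ U := fun y hy => by
      obtain ⟨x, hx, rfl⟩ := (ha.restrict hUN).mem_img.mp (haD.ge hy)
      rw [hal x hx]; exact hx
    have hm1 : IsMor hm.sys D (d ∘ f ∘ ai) :=
      (hai.comp hf haiU).comp (hd.restrict hVN) fun y hy => mem_img_of_mem f (haiU y hy)
    obtain ⟨γ₁, -, hγ₁⟩ := exists_aut hm1 (hm1.img_eq_self fun y hy =>
      hdD ▸ mem_img_of_mem d (mem_img_of_mem f (haiU y hy)))
    have hγ₁' : ∀ x ∈ U, autFun γ₁ (a x) = d (f x) := fun x hx => by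
      rw [hγ₁ _ (haD ▸ mem_img_of_mem a hx), Function.comp_apply, Function.comp_apply, hal x hx]
    have hi : img (img U f) g = img U k := by rw [hf.img_comp, img_congr e]; rfl
    rw [← hi] at hb hbD
    have h3 := ih1 a d ha haD hd hdD γ₁ hγ₁'
    have h4 : γ * γ₁⁻¹ ∈ meetAut F E₁ E₂ p D := by
      refine ih2 d b hd hdD hb hbD _ fun y hy => ?_
      obtain ⟨x, hx, rfl⟩ := hf.mem_img.mp hy
      have hax : a x ∈ D := haD ▸ mem_img_of_mem a hx
      rw [← hγ₁' x hx, autFun_mul _ _ (autFun_mem γ₁ hax), autFun_inv_left γ₁ hax, hγ x hx,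
        e x hx]
    have := mul_mem h4 h3
    rwa [inv_mul_cancel_right] at this

/-- The automizers of fully normalized members of the family at one level. -/
theorem sys_autGroup_le_of_level (habove : AboveSat hm.sys p n)
    (hA : ∀ R, meetH F (T₁ ⊓ T₂) R → n < Nat.card R →
      hm.sys.autGroup R ≤ meetAut F E₁ E₂ p R)
    {D : Subgroup Ω} (hD : hm.sys.IsFullyNormalized D) (hH : meetH F (T₁ ⊓ T₂) D)
    (hn : Nat.card D = n) (hDlt : D < T₁ ⊓ T₂) :
    hm.sys.autGroup D ≤ meetAut F E₁ E₂ p D := fun γ hγ => by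
  have hf := isMor_autFun hH.1 hγ
  refine hm.loop_gen habove hA hD hH hn hDlt (hm.isMor_sys.mp hf) id id
    (isMor_id _ normalizerIn_le) (img_id _) ?_ ?_ γ fun _ _ => rfl
  · exact isMor_id _ normalizerIn_le
  · rw [img_id, img_autFun]

end Level

/-- Automized and receptive at a fully normalized member of the family. -/
theorem sys_good {D : Subgroup Ω} (hD : F.IsFullyNormalized D) (hH : meetH F (T₁ ⊓ T₂) D)
    (hle : hm.sys.autGroup D ≤ meetAut F E₁ E₂ p D)
    (hfull : ∀ P, hm.sys.IsConj P D → Full hm.sys P D) :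
    hm.sys.IsFullyAutomized p D ∧ hm.sys.IsReceptive D := by
  have heq : hm.sys.autGroup D = meetAut F E₁ E₂ p D := le_antisymm hle (hm.meetAut_le_sys hH)
  refine ⟨isFullyAutomized_iff.mpr ⟨hH.1, heq ▸ hm.meetAut_sylow hD hH.1⟩,
    isReceptive_iff.mpr ⟨hH.1, fun P f hf hfi => ?_⟩⟩
  have : Finite ↥(T₁ ⊓ T₂) := finite_of_le hm.le_S
  obtain ⟨a, ha, haD⟩ := hfull P (hfi ▸ isConj_img hf)
  have hPN : P ≤ normalizerIn (T₁ ⊓ T₂) P := le_normalizerIn hf.le
  obtain ⟨ai, hai, hal, -, -⟩ := (ha.restrict hPN).inverse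
  rw [haD] at hai
  have haiP : ∀ y ∈ D, ai y ∈ P := fun y hy => by
    obtain ⟨x, hx, rfl⟩ := (ha.restrict hPN).mem_img.mp (haD.ge hy)
    rw [hal x hx]; exact hx
  have hθm : IsMor hm.sys D (f ∘ ai) := hai.comp hf haiP
  obtain ⟨θ, hθ, hθe⟩ := exists_aut hθm (hθm.img_eq_self fun y hy =>
    hfi ▸ mem_img_of_mem f (haiP y hy))
  have hθa : ∀ x ∈ P, autFun θ (a x) = f x := fun x hx => by
    rw [hθe _ (haD ▸ mem_img_of_mem a hx), Function.comp_apply, hal x hx]
  set N := nExt (T₁ ⊓ T₂) P f with hN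
  have hNN : N ≤ normalizerIn (T₁ ⊓ T₂) P := nExt_le f
  set R := img N a with hR
  have hRN : R ≤ normalizerIn (T₁ ⊓ T₂) D :=
    img_le fun x hx => haD ▸ mapsTo_normalizerIn ha hPN le_rfl x (hNN hx)
  have hDR : D ≤ R := haD ▸ img_mono a (le_nExt hf)
  set Q := autInducedBy R D with hQ
  have hInn : Inn D ≤ Q := inn_le_autInducedBy hDR
  have hQT : Q ≤ autInducedBy (T₁ ⊓ T₂) D := fun σ hσ => by
    obtain ⟨t, ht, htn, hte⟩ := mem_autInducedBy.mp hσ
    exact mem_autInducedBy.mpr ⟨t, (mem_normalizerIn.mp (hRN ht)).1, htn, hte⟩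
  have : Finite D := finite_of_le hD.1
  have hθQ : ∀ q ∈ Q, θ * q * θ⁻¹ ∈ autInducedBy (T₁ ⊓ T₂) D := by
    intro q hq
    obtain ⟨r, hr, -, hre⟩ := mem_autInducedBy.mp hq
    obtain ⟨x, hx, rfl⟩ := (ha.restrict hNN).mem_img.mp hr
    obtain ⟨-, hxn, h, hh, hhe⟩ := id hx
    have key : ∀ y ∈ D, autFun (θ * q * θ⁻¹) y = cj h y := by
      intro y hy
      obtain ⟨w, hw, rfl⟩ : ∃ w ∈ P, f w = y := hf.mem_img.mp (hfi.ge hy)
      have haw : a w ∈ D := haD ▸ mem_img_of_mem a hw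
      have hwN : cj x w ∈ P := (Subgroup.mem_normalizer_iff.mp hxn w).mp hw
      rw [← hθa w hw, autFun_mul _ _ (autFun_mem θ haw), autFun_inv_left θ haw,
        autFun_mul _ _ haw, hre _ haw, cj_apply (a x),
        ← ha.map_conj (hNN hx) (hPN hw), hθa w hw, ← hhe w hw]
      exact hθa _ hwN
    refine mem_autInducedBy.mpr ⟨h, hh, Subgroup.mem_normalizer_fintype fun y hy => ?_, key⟩
    show cj h y ∈ D
    rw [← key y hy]
    exact autFun_mem _ hy
  obtain ⟨g, hg, hge⟩ := hm.exists_ext_sys hD hH hInn hQT (hle hθ) hθQ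
  have hRY : R ≤ indPre (T₁ ⊓ T₂) D Q := fun r hr => by
    obtain ⟨σ, hσ, hσe⟩ := exists_autInducedBy (P := D) hr (mem_normalizerIn.mp (hRN hr)).2
    exact ⟨hRN hr, σ, hσ, hσe⟩
  refine ⟨g ∘ a, (ha.restrict hNN).comp hg fun x hx => hRY (mem_img_of_mem a hx), fun x hx => ?_⟩
  rw [Function.comp_apply, hge _ (haD ▸ mem_img_of_mem a hx), hθa x hx]

/-- Automized and receptive subgroups are carried to such by `Aut_F(T₁ ⊓ T₂)`. -/
theorem sys_good_transport {α : MulAut ↥(T₁ ⊓ T₂)} (hα : α ∈ F.autGroup (T₁ ⊓ T₂))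
    {D : Subgroup Ω} (h : hm.sys.IsFullyAutomized p D ∧ hm.sys.IsReceptive D) :
    hm.sys.IsFullyAutomized p (img D (autFun α)) ∧ hm.sys.IsReceptive (img D (autFun α)) := by
  have : Finite ↥(T₁ ⊓ T₂) := finite_of_le hm.le_S
  obtain ⟨hDT, hsyl⟩ := isFullyAutomized_iff.mp h.1
  obtain ⟨-, hrec⟩ := isReceptive_iff.mp h.2
  have hαm := isMor_autFun hm.le_S hα
  have hαim := isMor_autFun hm.le_S (inv_mem hα)
  have hmD := hαm.restrict hDT
  set D' := img D (autFun α) with hD'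
  have hD'T : D' ≤ T₁ ⊓ T₂ := img_le fun x hx => autFun_mem α (hDT hx)
  have hback : img D' (autFun α⁻¹) = D := by
    rw [hD', hmD.img_comp]
    exact (img_congr (g := id) fun x hx => autFun_inv_left α (hDT hx)).trans (img_id _)
  obtain ⟨e, he, -, -⟩ := exists_transport hmD rfl
  have heW : ∀ {σ}, σ ∈ hm.sys.autGroup D → e σ ∈ hm.sys.autGroup D' := fun hσ =>
    aut_transport_mem hm.sys_strongInv hm.closed hmD rfl hDT he hσ
  have heW' : ∀ {σ}, e σ ∈ hm.sys.autGroup D' → σ ∈ hm.sys.autGroup D := by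
    intro σ hσ
    have hm' := hαim.restrict hD'T
    obtain ⟨e', he', -, -⟩ := exists_transport hm' hback
    have h2 := aut_transport_mem hm.sys_strongInv hm.closed hm' hback hD'T he' hσ
    rwa [autFun_inj (α := σ) (β := e' (e σ)) fun x hx => by
      have h3 := he' (e σ) (autFun α x) (mem_img_of_mem _ hx)
      rw [he σ x hx, autFun_inv_left α (hDT hx),
        autFun_inv_left α (hDT (autFun_mem σ hx))] at h3
      exact h3.symm]
  have heT : ∀ {σ}, σ ∈ autInducedBy (T₁ ⊓ T₂) D → e σ ∈ autInducedBy (T₁ ⊓ T₂) D' := by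
    intro σ hσ
    obtain ⟨t, ht, htn, hte⟩ := mem_autInducedBy.mp hσ
    have hee : ∀ y ∈ D', autFun (e σ) y = cj (autFun α t) y := by
      intro y hy
      obtain ⟨x, hx, rfl⟩ := hmD.mem_img.mp hy
      rw [he σ x hx, hte x hx]
      exact hαm.map_conj ht (hDT hx)
    refine mem_autInducedBy.mpr ⟨autFun α t, autFun_mem α ht, ?_, hee⟩
    have : Finite D' := finite_of_le (hD'T.trans hm.le_S)
    refine Subgroup.mem_normalizer_fintype fun y hy => ?_
    show cj _ y ∈ D'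
    rw [← hee y hy]
    exact autFun_mem _ hy
  refine ⟨isFullyAutomized_iff.mpr ⟨hD'T, ?_⟩, isReceptive_iff.mpr ⟨hD'T, fun P f hf hfi => ?_⟩⟩
  · refine ⟨autInducedBy_le _ hD'T,
      isPGroup_autInducedBy (isPGroup_of_le hm.le_S hm.pgroup), fun C hC hle hCW => ?_⟩
    have h1 : C.comap e.toMonoidHom = autInducedBy (T₁ ⊓ T₂) D :=
      hsyl.2.2 _ (hC.comap_of_injective _ e.injective) (fun σ hσ => hle (heT hσ))
        fun σ hσ => heW' (hCW hσ)
    refine le_antisymm (fun c hc => ?_) hle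
    have h2 : e.symm c ∈ C.comap e.toMonoidHom := by
      show e (e.symm c) ∈ C
      rwa [e.apply_symm_apply]
    rw [h1] at h2
    simpa using heT h2
  · obtain ⟨f', hf', hfe'⟩ := hm.sys_transport (inv_mem hα) (hm.isMor_sys.mp hf)
    set P' := img P (autFun α⁻¹) with hP'
    have hPT := hf.le
    have hf'W := hm.isMor_sys.mpr hf'
    have hf'i : img P' f' = D := by
      rw [hP', (hαim.restrict hPT).img_comp, ← hback, ← hfi, hf.img_comp]
      exact img_congr fun x hx => hfe' x hx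
    obtain ⟨g, hg, hge⟩ := hrec P' f' hf'W hf'i
    obtain ⟨g', hg', hge'⟩ := hm.sys_transport hα (hm.isMor_sys.mp hg)
    refine ⟨g', (hm.isMor_sys.mpr hg').restrict ?_, fun x hx => ?_⟩
    · intro z hz
      obtain ⟨hzT, hzn, h, hh, hhe⟩ := hz
      rw [← autFun_inv_right α hzT]
      refine mem_img_of_mem _ ⟨autFun_mem _ hzT, ?_, autFun α⁻¹ h, autFun_mem _ hh, ?_⟩
      · have : Finite P' := finite_of_le (hαim.restrict hPT).img_le
        refine Subgroup.mem_normalizer_fintype fun w hw => ?_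
        obtain ⟨x, hx, rfl⟩ := (hαim.restrict hPT).mem_img.mp hw
        rw [← hαim.map_conj hzT (hPT hx)]
        exact mem_img_of_mem _ ((Subgroup.mem_normalizer_iff.mp hzn x).mp hx)
      · intro w hw
        obtain ⟨x, hx, rfl⟩ := (hαim.restrict hPT).mem_img.mp hw
        have hzx : cj z x ∈ P := (Subgroup.mem_normalizer_iff.mp hzn x).mp hx
        rw [cj_apply (autFun α⁻¹ z), ← hαim.map_conj hzT (hPT hx), ← cj_apply, hfe' _ hzx,
          hhe x hx, hfe' x hx, cj_apply h, hαim.map_conj hh (hf.mem hx), cj_apply]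
    · have hx' : autFun α⁻¹ x ∈ P' := mem_img_of_mem _ hx
      have := hge' _ (le_nExt hf'W hx')
      rw [autFun_inv_right α (hPT hx), hge _ hx', hfe' x hx, autFun_inv_right α (hf.mem hx)] at this
      exact this

/-- The generated system is saturated, and its automizers on the family are the common ones. -/
theorem sys_level (X : Subgroup Ω) (hX : X ≤ T₁ ⊓ T₂) :
    (meetH F (T₁ ⊓ T₂) X → hm.sys.autGroup X ≤ meetAut F E₁ E₂ p X) ∧
      ∃ Y, hm.sys.IsConj X Y ∧ hm.sys.IsFullyAutomized p Y ∧ hm.sys.IsReceptive Y := by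
  have hS := hm.pgroup
  have hF := hm.sat
  have : Finite ↥(T₁ ⊓ T₂) := finite_of_le hm.le_S
  have hTp : IsPGroup p ↥(T₁ ⊓ T₂) := isPGroup_of_le hm.le_S hS
  induction hd : Nat.card ↥(T₁ ⊓ T₂) - Nat.card X using Nat.strong_induction_on generalizing X with
  | _ d ih =>
  subst hd
  have hih : ∀ Z : Subgroup Ω, Z ≤ T₁ ⊓ T₂ → Nat.card X < Nat.card Z →
      (meetH F (T₁ ⊓ T₂) Z → hm.sys.autGroup Z ≤ meetAut F E₁ E₂ p Z) ∧
        ∃ Y, hm.sys.IsConj Z Y ∧ hm.sys.IsFullyAutomized p Y ∧ hm.sys.IsReceptive Y :=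
    fun Z hZ hlt => ih _ (by have := Subgroup.card_le_of_le hZ; omega) Z hZ rfl
  have habove : AboveSat hm.sys p (Nat.card X) := fun Z hZ hlt => (hih Z hZ hlt).2
  rcases eq_or_lt_of_le hX with e | hlt
  · subst e
    have hH := hm.meetH_self
    have hle : hm.sys.autGroup (T₁ ⊓ T₂) ≤ meetAut F E₁ E₂ p (T₁ ⊓ T₂) := fun γ hγ => by
      obtain ⟨γ', hγ', he⟩ := hm.meetGen_top (hm.isMor_sys.mp (isMor_autFun le_rfl hγ)) rfl
      rwa [autFun_inj he]
    have hsc := (stronglyClosed_iff.mp hm.closed).2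
    have hn : F.IsFullyNormalized (T₁ ⊓ T₂) := by
      refine ⟨hm.le_S, fun Q hQ => ?_⟩
      obtain ⟨f, hf, rfl⟩ := isConj_iff.mp hQ
      rw [eq_of_le_of_card hm.le_S (img_le fun x hx => hsc _ f hf x hx hx) hf.card_img.ge]
    obtain ⟨h1, h2⟩ := hm.sys_good hn hH hle fun P hP => by
      obtain rfl : P = T₁ ⊓ T₂ :=
        eq_of_le_of_card le_rfl (isConj_le hP).1 (isConj_card hP).le
      exact ⟨id, isMor_id _ normalizerIn_le, img_id _⟩
    exact ⟨fun _ => hle, _, isConj_refl _ le_rfl, h1, h2⟩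
  by_cases hXH : meetH F (T₁ ⊓ T₂) X
  swap
  · refine ⟨fun h => absurd h hXH, ?_⟩
    refine automized_receptive_of_crit hTp hlt ⟨habove, chain_of_gen
      (ℋ := {U | meetH F (T₁ ⊓ T₂) U}) (fun P hP Q hQ => hm.meetH_of_sys_isConj hP hQ) ?_
      hXH hlt⟩ (OFam.bot hm.sys p) ?_
    · intro E hE
      refine le_iff_isMor.mpr fun U f hf => ?_
      have hg := hm.isMor_sys.mp hf
      clear hf
      induction hg with
      | @step U R f α h1 h2 h3 h4 =>
        obtain ⟨φ, hφ, hφe⟩ := isMor_autFun h1.1 (hm.meetAut_le_sys h1 h2)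
        exact ((isMor_of_mem' (hE R h1 hφ) hφe).restrict h3).congr fun x hx => (h4 x hx).symm
      | @comp U f g k _ _ e ih1 ih2 =>
        exact (ih1.comp ih2 fun x hx => mem_img_of_mem f hx).congr fun x hx => (e x hx).symm
    · obtain ⟨Y, hY, hYn⟩ := hm.exists_not_le hX hXH
      refine ⟨Y, hY, fun hle => hYn fun g hg => hle ⟨centralizerIn_le_normalizerIn hg, 1,
        Subgroup.one_mem _, fun x hx => ?_⟩⟩
      rw [autFun_one hx, (mem_centralizerIn.mp hg).2 x hx]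
  obtain ⟨D, hD, hDn⟩ := exists_fullyNormalized F (hX.trans hm.le_S)
  have hDH : meetH F (T₁ ⊓ T₂) D := hm.meetH_conj hXH hD
  have hDW := hm.sys_isFullyNormalized hDn hDH.1
  have hcard : Nat.card D = Nat.card X := isConj_card hD
  have hDlt : D < T₁ ⊓ T₂ := lt_of_le_of_ne hDH.1 fun e => by
    have h1 : Nat.card D = Nat.card ↥(T₁ ⊓ T₂) := congrArg (fun K : Subgroup Ω => Nat.card K) e
    have h2 := card_lt_of_lt hm.le_S hlt
    omega
  have hDle : hm.sys.autGroup D ≤ meetAut F E₁ E₂ p D :=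
    hm.sys_autGroup_le_of_level habove
      (fun R hR hlt => (hih R hR.1 hlt).1 hR) hDW hDH hcard hDlt
  obtain ⟨g, hg, hgi⟩ := isConj_iff.mp hD
  refine ⟨fun _ σ hσ => ?_, ?_⟩
  · obtain ⟨e, he, -, -⟩ := exists_transport hg hgi
    exact (hm.meetAut_transport_symm hg hgi hX (fun x hx => he σ x hx)).mpr
      (hDle (aut_transport_mem hm.sys_strongInv hm.closed hg hgi hX he hσ))
  · obtain ⟨α, hα, w, hw, hgw⟩ := hm.sys_factors hg hX
    have hgood := hm.sys_good hDn hDH hDle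
      fun P hP => hm.exists_full_sys habove hDW hcard hDlt hP
    refine ⟨img X w, isConj_img hw, ?_⟩
    have hback : img X w = img D (autFun α⁻¹) := by
      rw [← hgi, hg.img_comp]
      refine img_congr fun x hx => ?_
      rw [Function.comp_apply, hgw x hx, autFun_inv_left α (hw.mem hx)]
    rw [hback]
    exact hm.sys_good_transport (inv_mem hα) hgood

theorem sys_saturated : hm.sys.IsSaturated p := fun X hX => (hm.sys_level X hX).2

theorem sys_weaklyNormal : hm.sys.IsWeaklyNormalIn F p :=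
  ⟨hm.sys_saturated, hm.sat, hm.sys_invariant⟩

end MeetHyp

end CfsgLib.Fusion
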