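import Mathlib
import Cfsg.Agent.Lib.Fusion.ComponentCentral
import Cfsg.Agent.Lib.Fusion.PSolvableModel
import Cfsg.Agent.Lib.Fusion.PPowerIndex
import Cfsg.Agent.Lib.Fusion.ResidualNormal

/-!
# Terminating residual series and `p`-solvable models
-/

set_option autoImplicit false
set_option linter.unusedSectionVars false

namespace CfsgLib.Fusion

open Cfsg Cfsg.FusionSystem

universe u

variable {Ω : Type u} [Group Ω] {S : Subgroup Ω} [Finite S] {F : FusionSystem S}
  {p : ℕ} [hp : Fact p.Prime]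

theorem hyperfocal_le_of_sub {T : Subgroup Ω} {E : FusionSystem T} (hTS : T ≤ S)
    (hsub : E.IsSubsystemOf F) : E.hyperfocalSubgroup p ≤ F.hyperfocalSubgroup p :=
  hyp_le fun _ hP _ hα hc _ hx => hyp_gen (hP.trans hTS) (autGroup_mono hsub hα) hc hx

theorem centric_of_normal_centralizer_le {Q : Subgroup Ω} (hQ : F.IsNormal Q)
    (h : centralizerIn S Q ≤ Q) : F.IsCentric Q := by
  refine ⟨hQ.1, fun R hR => ?_⟩
  obtain ⟨f, hf, rfl⟩ := isConj_iff.mp hR
  rwa [hf.img_eq_self fun x hx =>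
    (stronglyClosed_iff.mp (isNormal_stronglyClosed hQ)).2 Q f hf x hx hx]

theorem isWeaklyNormalIn_self (hS : IsPGroup p S) (hF : F.IsSaturated p) :
    F.IsWeaklyNormalIn F p := by
  refine ⟨hF, hF, (Cfsg.Agent.S5119.result p hS F hF F (fun _ => le_rfl)
    (stronglyClosed_iff.mpr ⟨le_rfl, fun P f hf x hx _ => hf.mem hx⟩)).mpr (strongInv_iff.mp ?_)⟩
  intro P Q f g hPQ hQS hf hfQ hg
  obtain ⟨gi, hgi, hl, -, hi⟩ := (hg.restrict hPQ).inverse
  refine ⟨g ∘ (f ∘ gi), (hgi.comp hf fun x hx => hi ▸ mem_img_of_mem gi hx).comp hg fun y hy => ?_,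
    fun x hx => ?_⟩
  · exact hfQ _ (hi ▸ mem_img_of_mem gi hy)
  · show g (f (gi (g x))) = g (f x)
    rw [hl x hx]

/-- Automizers in a system realized by a `p`-solvable group are `p`-solvable. -/
theorem autGroup_isPSolvable {G : Type*} [Group G] [Finite G] {ι : S →* G}
    (hr : F.IsRealizedBy ι) (hG : IsPSolvable p G) {P : Subgroup Ω} (hP : P ≤ S) :
    IsPSolvable p ↥(F.autGroup P) := by
  have := finite_mulAut hP
  let Γ : Subgroup (G × ↥(F.autGroup P)) :=
    { carrier := {x | ∀ a : P, ι ⟨((x.2 : MulAut P) a : P), hP ((x.2 : MulAut P) a).2⟩ =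
        x.1 * ι ⟨a, hP a.2⟩ * x.1⁻¹}
      one_mem' := fun a => by simp
      mul_mem' := by
        intro x y hx hy a
        show ι ⟨(((x.2 : MulAut P) ((y.2 : MulAut P) a) : P) : Ω), _⟩ = _
        rw [hx, hy, Prod.fst_mul]
        group
      inv_mem' := by
        intro x hx a
        have h1 := hx ((x.2 : MulAut P)⁻¹ a)
        simp only [MulAut.apply_inv_self] at h1
        rw [h1]
        simp [mul_assoc] }
  have hinj : Function.Injective ((MonoidHom.fst G ↥(F.autGroup P)).comp Γ.subtype) := by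
    rintro ⟨⟨g, α⟩, hx⟩ ⟨⟨g', α'⟩, hy⟩ e
    obtain rfl : g = g' := e
    refine Subtype.ext (Prod.ext rfl (Subtype.ext (MulEquiv.ext fun a => Subtype.ext ?_)))
    exact congrArg (fun s : S => (s : Ω)) (hr.1 ((hx a).trans (hy a).symm))
  have hsurj : Function.Surjective ((MonoidHom.snd G ↥(F.autGroup P)).comp Γ.subtype) := by
    rintro ⟨α, hα⟩
    obtain ⟨g, hg⟩ := exists_induces hr (isMor_autFun hP hα)
    exact ⟨⟨(g, ⟨α, hα⟩), fun a =>
      hg ⟨a, hP a.2⟩ ⟨(α a : P), hP (α a).2⟩ a.2 (autFun_coe α a).symm⟩, rfl⟩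
  exact CfsgLib.PLocal.isPSolvable_of_surjective _ hsurj
    (CfsgLib.PLocal.isPSolvable_of_injective _ hinj hG)

/-- A system is constrained if the `p`-residual is constrained. -/
theorem constrained_of_hyperfocal_constrained (hS : IsPGroup p S) (hF : F.IsSaturated p)
    {D : FusionSystem (F.hyperfocalSubgroup p)} (hD : D.IsNormalIn F p)
    (hc : D.IsConstrained p) : F.IsConstrained p := by
  by_contra hnc
  obtain ⟨T, C, hC, hq⟩ := exists_component_of_not_constrained hS hF hnc
  have hTS := subnormal_le hC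
  have : Finite T := finite_of_le hTS
  obtain ⟨R, hRQ, -, hR⟩ := le_core_of_constrained hS hD.1 hc
  obtain ⟨hTQ, hfix⟩ := component_fixExt hC hp inferInstance hS hq hF F.core (isNormal_core F)
  have hTH : T ≤ F.hyperfocalSubgroup p :=
    hq.2.1.ge.trans (hyperfocal_le_of_sub hTS (subnormal_saturated hC hF).2)
  have hTcore : T ≤ F.core := fun t ht => hRQ (hR (mem_centralizerIn.mpr
    ⟨hTH ht, fun r hr => (mem_centralizerIn.mp (hTQ ht)).2 r (hRQ hr)⟩))
  have htriv : C.hyperfocalSubgroup p ≤ ⊥ := hyp_le fun P hP α hα _ x hx => by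
    obtain ⟨g, -, hgf, hgQ⟩ := hfix P _ (isMor_autFun hP hα)
    rw [Subgroup.mem_bot, ← hgf x hx, hgQ x (hTcore (hP hx)), inv_mul_cancel]
  have hTbot : T ≤ ⊥ := hq.2.1.ge.trans htriv
  exact quasisimple_not_constrained (isPGroup_of_le hTS hS) hq ⟨hq.1, ⊥, isNormal_bot C,
    centric_of_normal_centralizer_le (isNormal_bot C) (centralizerIn_le.trans hTbot)⟩

theorem constrained_of_bot (hF : F.IsSaturated p) (hbot : S = ⊥) : F.IsConstrained p :=
  ⟨hF, ⊥, isNormal_bot F,
    centric_of_normal_centralizer_le (isNormal_bot F) (centralizerIn_le.trans hbot.le)⟩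

/-- A constrained system whose `p'`-residual has `p`-residual with `p`-solvable realizations has
`p`-solvable automizer of its core. -/
theorem aut_core_isPSolvable (hS : IsPGroup p S) (hF : F.IsSaturated p) {E : FusionSystem S}
    (hE : F.IsPPrimeResidual p E) {D : FusionSystem (E.hyperfocalSubgroup p)}
    (hD : E.IsPResidual p D)
    (hDaut : ∀ P, P ≤ E.hyperfocalSubgroup p → IsPSolvable p ↥(D.autGroup P)) :
    IsPSolvable p ↥(F.autGroup F.core) := by
  set Q := F.core with hQdef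
  have hQn : F.IsNormal Q := isNormal_core F
  have hQS : Q ≤ S := hQn.1
  have : Finite Q := finite_of_le hQS
  have := finite_mulAut hQS
  have hEN := residual_normal hS hF (isWeaklyNormalIn_self hS hF) hE
  have hinv := strongInv_of_isNormalIn hS hF hEN
  have hsub : E.IsSubsystemOf F := hE.2.1.1
  have hQsc := (stronglyClosed_iff.mp (isNormal_stronglyClosed hQn)).2
  set A := E.autGroup Q with hA
  have hAX : A ≤ F.autGroup Q := autGroup_mono hsub
  -- `A` is normal of index prime to `p`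
  have hAn : (A.subgroupOf (F.autGroup Q)).Normal := by
    refine ⟨fun a ha x => Subgroup.mem_subgroupOf.mpr ?_⟩
    have hx := isMor_autFun hQS x.2
    obtain ⟨k, hk, hke⟩ := hinv Q Q (autFun (a : MulAut Q)) (autFun (x : MulAut Q)) le_rfl hQS
      (isMor_autFun hQS ha) (fun y hy => autFun_mem _ hy) hx
    rw [img_autFun] at hk
    refine (autGroup_eq_set hQS _).mpr (hk.congr fun y hy => ?_)
    have hy' := autFun_mem (x : MulAut Q)⁻¹ hy
    conv_lhs => rw [← autFun_inv_right (x : MulAut Q) hy, hke _ hy']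
    rw [Subgroup.coe_mul, Subgroup.coe_mul, Subgroup.coe_inv, autFun_mul _ _ hy,
      autFun_mul _ _ hy']
  have hquot : IsPSolvable p (↥(F.autGroup Q) ⧸ A.subgroupOf (F.autGroup Q)) := by
    refine CfsgLib.PLocal.isPSolvable_of_coprime ((Nat.Prime.coprime_iff_not_dvd hp.out).mpr
      fun hdvd => ?_).symm
    obtain ⟨y, hy⟩ := exists_prime_orderOf_dvd_card' p hdvd
    obtain ⟨x, rfl⟩ := QuotientGroup.mk'_surjective (A.subgroupOf (F.autGroup Q)) y
    obtain ⟨a, c, hc, hn⟩ := Nat.exists_eq_pow_mul_and_not_dvd (orderOf_pos x).ne' p hp.out.ne_one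
    have hxc : (x ^ c) ^ p ^ a = 1 := by rw [← pow_mul, mul_comm, ← hn, pow_orderOf_eq_one]
    obtain ⟨i, -, hi⟩ := (Nat.dvd_prime_pow hp.out).mp (orderOf_dvd_of_pow_eq_one hxc)
    have hmem : ((x ^ c : ↥(F.autGroup Q)) : MulAut Q) ∈ A :=
      hE.2.1.2 Q hQS ⟨x ^ c, Subgroup.subset_closure ⟨i, hi⟩, rfl⟩
    have h1 : QuotientGroup.mk' (A.subgroupOf (F.autGroup Q)) x ^ c = 1 := by
      rw [← map_pow]
      exact (QuotientGroup.eq_one_iff _).mpr (Subgroup.mem_subgroupOf.mpr hmem)
    exact hc (hy ▸ orderOf_dvd_of_pow_eq_one h1)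
  refine CfsgLib.PLocal.isPSolvable_of_normal (A.subgroupOf (F.autGroup Q))
    ((CfsgLib.PLocal.isPSolvable_congr (Subgroup.subgroupOfEquivOfLe hAX)).mpr ?_) hquot
  -- `A` is `p`-solvable
  have hHS : (E.hyperfocalSubgroup p) ≤ S := hyp_le_top
  set Q' := Q ⊓ (E.hyperfocalSubgroup p) with hQ'
  have hQ'S : Q' ≤ S := inf_le_left.trans hQS
  have : Finite Q' := finite_of_le hQ'S
  have := finite_mulAut hQ'S
  have hHsc := (stronglyClosed_iff.mp (hyp_stronglyClosed hS hE.1)).2
  have hres : ∀ α : A, ∀ x ∈ Q', autFun (α : MulAut Q) x ∈ Q' := fun α x hx =>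
    ⟨autFun_mem _ hx.1, hHsc _ _ (isMor_autFun hQS α.2) x hx.1 hx.2⟩
  have hresaut : ∀ α : A, ∃ β ∈ E.autGroup Q', ∀ x ∈ Q', autFun β x = autFun (α : MulAut Q) x :=
    fun α => exists_aut ((isMor_autFun hQS α.2).restrict inf_le_left)
      (((isMor_autFun hQS α.2).restrict inf_le_left).img_eq_self (hres α))
  choose r hrA hre using hresaut
  let ρ : A →* MulAut Q' := MonoidHom.mk' r fun α β => autFun_inj fun x hx => by
    rw [hre _ x hx, Subgroup.coe_mul, autFun_mul _ _ hx.1, autFun_mul _ _ hx, hre _ x hx,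
      hre _ _ (hres β x hx)]
  set K : Subgroup A := pResidual p A with hK
  have : K.Normal := CfsgLib.Transfer.pResidual_normal
  have hKimg : ∀ k ∈ K, r k ∈ D.autGroup Q' := by
    intro k hk
    induction hk using Subgroup.closure_induction with
    | mem k hk =>
      refine hD.2.2.2 Q' inf_le_right ⟨⟨r k, hrA k⟩, Subgroup.subset_closure ?_, rfl⟩
      show (orderOf (⟨r k, hrA k⟩ : E.autGroup Q')).Coprime p
      rw [Subgroup.orderOf_mk]
      exact Nat.Coprime.coprime_dvd_left (orderOf_map_dvd ρ k) hk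
    | one => show ρ 1 ∈ D.autGroup Q'; rw [map_one]; exact one_mem _
    | mul a b _ _ ha hb =>
      show ρ (a * b) ∈ D.autGroup Q'; rw [map_mul]; exact Subgroup.mul_mem _ ha hb
    | inv a _ ha => show ρ a⁻¹ ∈ D.autGroup Q'; rw [map_inv]; exact Subgroup.inv_mem _ ha
  have hKsol : IsPSolvable p K := by
    let ρK : K →* ↥(D.autGroup Q') := (ρ.comp K.subtype).codRestrict _ fun k => hKimg k k.2
    refine CfsgLib.PLocal.isPSolvable_of_normal ρK.ker
      (CfsgLib.PLocal.isPSolvable_of_isPGroup ?_)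
      ((CfsgLib.PLocal.isPSolvable_congr (QuotientGroup.quotientKerEquivRange ρK)).mpr
        (CfsgLib.PLocal.isPSolvable_subgroup (hDaut Q' inf_le_right) _))
    -- the kernel is a `p`-group
    have hker : IsPGroup p ((ρK.ker.map K.subtype).map A.subtype) := by
      refine isPGroup_of_coprime_trivial fun β hβ hc => autFun_inj fun x hx => ?_
      obtain ⟨_, ⟨k, hk, rfl⟩, rfl⟩ := hβ
      have hfix : ∀ y ∈ Q', autFun ((k : A) : MulAut Q) y = y := fun y hy => by
        have h1 : r (k : A) = 1 := congrArg Subtype.val hk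
        rw [← hre (k : A) y hy, h1, autFun_one hy]
      rw [autFun_one hx]
      exact fix_of_diff_fixed (isPGroup_of_le hQS hS) hc hx (hfix _
        ⟨Q.mul_mem (Q.inv_mem hx) (autFun_mem _ hx), hyp_gen hQS (k : A).2 hc hx⟩)
    have h := (hker.comap_of_injective A.subtype A.subtype_injective).comap_of_injective
      K.subtype K.subtype_injective
    rwa [Subgroup.comap_map_eq_self_of_injective A.subtype_injective,
      Subgroup.comap_map_eq_self_of_injective K.subtype_injective] at h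
  refine CfsgLib.PLocal.isPSolvable_of_normal K hKsol (CfsgLib.PLocal.isPSolvable_of_isPGroup ?_)
  intro y
  obtain ⟨x, rfl⟩ := QuotientGroup.mk'_surjective K y
  obtain ⟨a, ha⟩ := exists_coprime_ppow' (p := p) x
  refine ⟨a, ?_⟩
  rw [← map_pow]
  exact (QuotientGroup.eq_one_iff _).mpr (Subgroup.subset_closure ha)

/-- In a system realized by a `p`-solvable group the `p'`-residual has proper hyperfocal
subgroup. -/
theorem hyperfocal_residual_lt {G : Type*} [Group G] [Finite G] {ι : S →* G}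
    (hS : IsPGroup p S) (hF : F.IsSaturated p) (hr : F.IsRealizedBy ι) (T : Sylow p G)
    (hT : (T : Subgroup G) = ι.range) (hG : IsPSolvable p G) (hne : S ≠ ⊥) :
    (residual hS hF).hyperfocalSubgroup p < S := by
  set H : Subgroup G := Subgroup.closure {g : G | ∃ k : ℕ, orderOf g = p ^ k} with hH
  have hrange : ι.range ≤ H := fun g hg => by
    obtain ⟨k, hk⟩ := IsPGroup.iff_orderOf.mp T.2 ⟨g, hT.ge hg⟩
    exact Subgroup.subset_closure ⟨k, by rwa [Subgroup.orderOf_mk] at hk⟩
  let ι' : S →* H := ι.codRestrict H fun s => hrange ⟨s, rfl⟩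
  let Mp : Subgroup Ω → (Ω → Ω) → Prop := fun P f => IsMor F P f ∧ ∃ g ∈ H, Induces ι P f g
  let F' : FusionSystem S := ofPred S Mp (fun P f h => ⟨h.1.le, fun x hx => h.1.mem hx⟩)
    (fun P f h x hx y hy e => h.1.inj hx hy e)
    (fun P f f' ⟨hf, g, hg, hgi⟩ e =>
      ⟨hf.congr e, g, hg, fun a b ha hb => hgi a b ha (hb.trans (e _ ha).symm)⟩)
    (fun P s hP hs => ⟨isMor_cj F hP hs, ι ⟨s, hs⟩, hrange ⟨_, rfl⟩, fun a b _ hb => by
      rw [show b = ⟨s, hs⟩ * a * ⟨s, hs⟩⁻¹ from Subtype.ext hb, map_mul, map_mul, map_inv]⟩)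
    (fun P R f k ⟨hf, g, hg, hgi⟩ ⟨hk, g', hg', hgi'⟩ hfR =>
      ⟨hf.comp hk hfR, g' * g, H.mul_mem hg' hg, fun a b ha hb => by
        have h1 := hgi a ⟨f a, hf.mem ha⟩ ha rfl
        have h2 := hgi' ⟨f a, hf.mem ha⟩ b (hfR _ ha) hb
        rw [h2, h1]
        group⟩)
    (fun P f ⟨hf, g, hg, hgi⟩ _ => by
      obtain ⟨fi, hfi, hfl, hfr, hfii⟩ := hf.inverse
      refine ⟨fi, ⟨hfi, g⁻¹, H.inv_mem hg, fun a b ha hb => ?_⟩, hfl⟩
      have hbP : (b : Ω) ∈ P := hb ▸ hfii ▸ mem_img_of_mem fi ha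
      rw [hgi b a hbP (by rw [hb, hfr _ ha])]
      group)
  have hiff : ∀ P f, IsMor F' P f ↔ Mp P f := fun P f =>
    isMor_ofPred fun h x hx y hy => h.1.map_mul hx hy
  have hsub : F'.IsSubsystemOf F := le_iff_isMor.mpr fun P f hf => ((hiff P f).mp hf).1
  have hr' : F'.IsRealizedBy ι' := by
    refine ⟨fun a b e => hr.1 (congrArg Subtype.val e), fun P hP φ hφ => ⟨fun hm => ?_, ?_⟩⟩
    · obtain ⟨-, g, hg, hgi⟩ := (hiff _ _).mp (isMor_of_mem hm)
      exact ⟨⟨g, hg⟩, fun x => Subtype.ext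
        (hgi ⟨x, hP x.2⟩ ⟨φ x, hφ x⟩ x.2 (toFun_coe φ x).symm)⟩
    · rintro ⟨g, hg⟩
      have hg' : ∀ x : P, ι ⟨φ x, hφ x⟩ = (g : G) * ι ⟨x, hP x.2⟩ * (g : G)⁻¹ := fun x =>
        congrArg Subtype.val (hg x)
      refine mem_hom_iff.mpr ((hiff _ _).mpr
        ⟨isMor_of_mem ((hr.2 P hP φ hφ).mpr ⟨g, hg'⟩), g, g.2, fun a b ha hb => ?_⟩)
      rw [show b = ⟨φ ⟨a, ha⟩, hφ _⟩ from Subtype.ext (hb.trans (toFun_of_mem φ ha))]
      exact hg' ⟨a, ha⟩
  have hTH : (T : Subgroup G) ≤ H := hT.le.trans hrange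
  have hsyl : ((T.subtype hTH : Sylow p H) : Subgroup H) = ι'.range := by
    ext x
    rw [Sylow.coe_subtype, Subgroup.mem_subgroupOf, hT]
    exact ⟨fun ⟨s, hs⟩ => ⟨s, Subtype.ext hs⟩, fun ⟨s, hs⟩ => ⟨s, congrArg Subtype.val hs⟩⟩
  have hF's : F'.IsSaturated p := realized_isSaturated hr' (T.subtype hTH) hsyl
  have hidx : F'.HasPrimeToPIndexIn F p := by
    refine ⟨hsub, fun P hP => Subgroup.map_le_iff_le_comap.mpr ((Subgroup.closure_le _).mpr ?_)⟩
    rintro ⟨α, hα⟩ ⟨k, hk⟩
    rw [Subgroup.orderOf_mk] at hk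
    obtain ⟨g, hg⟩ := exists_induces hr (isMor_autFun hP hα)
    obtain ⟨a, c, hc, hn⟩ := Nat.exists_eq_pow_mul_and_not_dvd (orderOf_pos g).ne' p hp.out.ne_one
    have hgc : g ^ c ∈ H := by
      have h1 : (g ^ c) ^ p ^ a = 1 := by rw [← pow_mul, mul_comm, ← hn, pow_orderOf_eq_one]
      obtain ⟨i, -, hi⟩ := (Nat.dvd_prime_pow hp.out).mp (orderOf_dvd_of_pow_eq_one h1)
      exact Subgroup.subset_closure ⟨i, hi⟩
    have hpow : ∀ n : ℕ, Induces ι P (autFun (α ^ n)) (g ^ n) := by
      intro n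
      induction n with
      | zero =>
        intro a b ha hb
        rw [pow_zero, autFun_one ha] at hb
        rw [show b = a from Subtype.ext hb]
        simp
      | succ n ih =>
        intro a b ha hb
        have hm := autFun_mem (α ^ n) ha
        rw [pow_succ', autFun_mul _ _ ha] at hb
        rw [hg ⟨_, hP hm⟩ b hm hb, ih a ⟨_, hP hm⟩ ha rfl, pow_succ']
        group
    show α ∈ F'.autGroup P
    refine mem_of_pow_coprime_exp (a := c) (b := p ^ k) ?_ ?_ ?_
    · exact ((hp.out.coprime_iff_not_dvd.mpr hc).symm).pow_right k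
    · exact (autGroup_eq_set hP _).mpr ((hiff _ _).mpr
        ⟨isMor_autFun hP (Subgroup.pow_mem _ hα _), g ^ c, hgc, hpow c⟩)
    · rw [← hk, pow_orderOf_eq_one]
      exact one_mem _
  have hle := hyperfocal_le_of_sub (p := p) le_rfl (residual_le hS hF hF's hidx)
  refine lt_of_le_of_lt hle (lt_of_le_of_ne hyp_le_top fun heq => ?_)
  -- a proper normal subgroup of `p`-power index
  obtain ⟨n, K, h0, hn', hmono, hKn, hstep⟩ := CfsgLib.PLocal.isPSolvable_subgroup hG H
  have hnt : Nontrivial H := by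
    obtain ⟨x, hx, hx1⟩ := (Subgroup.bot_or_exists_ne_one S).resolve_left hne
    exact ⟨⟨ι' ⟨x, hx⟩, 1, fun e => hx1 (congrArg Subtype.val
      (hr'.1 (e.trans (map_one ι').symm) : (⟨x, hx⟩ : S) = 1))⟩⟩
  classical
  obtain ⟨i, hi⟩ : ∃ i : Fin n, K i.castSucc ≠ ⊤ ∧ K i.succ = ⊤ := by
    by_contra hcon
    push Not at hcon
    have : ∀ i : Fin (n + 1), K i ≠ ⊤ := fun i => by
      induction i using Fin.induction with
      | zero => rw [h0]; exact bot_ne_top
      | succ i ih => exact hcon i ih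
    exact this _ hn'
  set M := K i.castSucc with hM
  have hMn : M.Normal := hKn _
  have hindex : ∃ m : ℕ, M.index = p ^ m := by
    have hs := hstep i
    rw [hi.2, Subgroup.relIndex_top_right] at hs
    refine hs.resolve_right fun hc => hi.1 (eq_top_iff.mpr ?_)
    -- a subgroup of index prime to `p` contains every `p`-element
    have hall : ∀ x : H, ∀ k : ℕ, orderOf (x : G) = p ^ k → x ∈ M := fun x k hk => by
      have h1 : orderOf (QuotientGroup.mk' M x) ∣ p ^ k := by
        rw [← hk, Subgroup.orderOf_coe]; exact orderOf_map_dvd _ _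
      have h2 : orderOf (QuotientGroup.mk' M x) ∣ M.index := by
        rw [Subgroup.index_eq_card]; exact orderOf_dvd_natCard _
      exact (QuotientGroup.eq_one_iff x).mp (orderOf_eq_one_iff.mp
        (Nat.eq_one_of_dvd_coprimes (hc.pow_right k) h2 h1))
    intro x _
    have hle' : H ≤ M.map H.subtype := (Subgroup.closure_le _).mpr
      (fun g hg => ⟨⟨g, Subgroup.subset_closure hg⟩,
        hg.elim fun k hk => hall ⟨g, Subgroup.subset_closure hg⟩ k hk, rfl⟩)
    have hxH : (x : G) ∈ M.map H.subtype := hle' x.2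
    obtain ⟨y, hy, e⟩ := hxH
    rwa [show y = x from Subtype.ext e] at hy
  obtain ⟨m, hm⟩ := hindex
  have hhypM : F'.hyperfocalSubgroup p ≤ (M.comap ι').map S.subtype := by
    refine hyp_le fun P hP α hα hc x hx => ?_
    let L : Subgroup (MulAut P) :=
      { carrier := {σ | ∀ y ∈ P, y⁻¹ * autFun σ y ∈ (M.comap ι').map S.subtype}
        one_mem' := fun y hy => by rw [autFun_one hy, inv_mul_cancel]; exact one_mem _
        mul_mem' := fun {σ τ} hσ hτ y hy => by
          rw [autFun_mul _ _ hy]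
          have := Subgroup.mul_mem _ (hτ y hy) (hσ _ (autFun_mem τ hy))
          simpa [mul_assoc] using this
        inv_mem' := fun {σ} hσ y hy => by
          have := Subgroup.inv_mem _ (hσ _ (autFun_mem σ⁻¹ hy))
          rw [autFun_inv_right σ hy, mul_inv_rev, inv_inv] at this
          exact this }
    suffices hα' : α ∈ L from hα' x hx
    refine mem_of_pow_coprime_exp (a := p ^ m) (b := orderOf α) (hc.pow_right m).symm ?_
      (by rw [pow_orderOf_eq_one]; exact one_mem _)
    intro y hy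
    obtain ⟨g, hg⟩ := exists_induces hr' (isMor_autFun hP hα)
    have hpow : ∀ j : ℕ, ι' ⟨autFun (α ^ j) y, hP (autFun_mem _ hy)⟩ =
        g ^ j * ι' ⟨y, hP hy⟩ * (g ^ j)⁻¹ := by
      intro j
      induction j with
      | zero => simp [autFun_one hy]
      | succ j ih =>
        have hm' := autFun_mem (α ^ j) hy
        rw [hg ⟨_, hP hm'⟩ ⟨autFun (α ^ (j + 1)) y, hP (autFun_mem _ hy)⟩ hm'
          (by show autFun (α ^ (j + 1)) y = _; rw [pow_succ', autFun_mul _ _ hy]), ih, pow_succ']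
        group
    have hgM : g ^ p ^ m ∈ M := by
      rw [← hm]
      exact M.pow_index_mem g
    refine ⟨(⟨y, hP hy⟩ : S)⁻¹ * ⟨autFun (α ^ p ^ m) y, hP (autFun_mem _ hy)⟩, ?_, rfl⟩
    show ι' _ ∈ M
    rw [map_mul, map_inv, hpow, show (ι' ⟨y, hP hy⟩)⁻¹ * (g ^ p ^ m * ι' ⟨y, hP hy⟩ *
      (g ^ p ^ m)⁻¹) = ((ι' ⟨y, hP hy⟩)⁻¹ * g ^ p ^ m * ι' ⟨y, hP hy⟩) * (g ^ p ^ m)⁻¹ by group]
    refine M.mul_mem ?_ (M.inv_mem hgM)
    have := hMn.conj_mem _ hgM (ι' ⟨y, hP hy⟩)⁻¹
    rwa [inv_inv] at this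
  have hrM : ((T.subtype hTH : Sylow p H) : Subgroup H) ≤ M := by
    rw [hsyl]
    rintro _ ⟨s, rfl⟩
    obtain ⟨s', hs', e⟩ := hhypM (heq.ge s.2)
    rwa [show s = s' from Subtype.ext e.symm]
  rcases Nat.eq_zero_or_pos m with rfl | hm0
  · exact hi.1 (Subgroup.index_eq_one.mp (by simpa using hm))
  · exact (T.subtype hTH).not_dvd_index ((hm ▸ dvd_pow_self p hm0.ne').trans
      (Subgroup.index_dvd_of_le hrM))

/-- A constrained system with `p`-solvable automizer of the core has a terminating residual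
series. -/
theorem hasTerminatingResidualSeries_of_pSolvable : ∀ {S : Subgroup Ω} [Finite S], IsPGroup p S →
    ∀ {F : FusionSystem S}, F.IsConstrained p → IsPSolvable p ↥(F.autGroup F.core) →
      F.HasTerminatingResidualSeries p := by
  suffices h : ∀ n, ∀ {S : Subgroup Ω} [Finite S], Nat.card S = n → IsPGroup p S →
      ∀ {F : FusionSystem S}, F.IsConstrained p → IsPSolvable p ↥(F.autGroup F.core) →
        F.HasTerminatingResidualSeries p from fun {S} _ hS {F} => h _ rfl hS
  intro n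
  induction n using Nat.strong_induction_on with
  | _ n ih =>
  intro S _ hn hS F hc hsol
  rcases eq_or_ne S ⊥ with hbot | hne
  · exact .trivial F p hbot
  have hF := hc.1
  obtain ⟨G, _, _, ι, hG, hr, T, hT⟩ := (pSolvable_realizable_iff hS F).mpr ⟨hc, hsol⟩
  have hE := residual_isPPrimeResidual hS hF
  set E := residual hS hF with hEdef
  have hEs := hE.1
  have hlt := hyperfocal_residual_lt hS hF hr T hT hG hne
  set H := E.hyperfocalSubgroup p with hH
  have hHS : H ≤ S := hyp_le_top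
  have : Finite H := finite_of_le hHS
  obtain ⟨D, hDs, hDi, -⟩ := exists_pPowerIndex hS hEs hHS le_rfl
  have hDn : D.IsNormalIn E p := Cfsg.Agent.S5120.result p hS E hEs H hHS
    ⟨fun h hh s => Subgroup.mem_subgroupOf.mpr (hyp_conj_mem s.2 (Subgroup.mem_subgroupOf.mp hh))⟩
    le_rfl D hDs hDi
  have hEn := residual_normal hS hF (isWeaklyNormalIn_self hS hF) hE
  have hDF : D.IsSubnormalIn F p := ((IsSubnormalIn.refl D p).step hDn).step hEn
  refine .step F E p D hE ⟨hDs, hDi⟩ (ih _ (hn ▸ card_lt_of_lt le_rfl hlt) rfl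
    (isPGroup_of_le hHS hS) (subnormal_constrained hDF hp inferInstance hS hc) ?_)
  have hQ : D.core ≤ S := (isNormal_core D).1.trans hHS
  have := finite_mulAut hQ
  exact CfsgLib.PLocal.isPSolvable_of_le (autGroup_mono (subnormal_saturated hDF hF).2)
    (autGroup_isPSolvable hr hG hQ)

/-- A terminating residual series gives a constrained system with `p`-solvable models. -/
theorem pSolvable_of_hasTerminatingResidualSeries {F : FusionSystem S}
    (h : F.HasTerminatingResidualSeries p) :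
    Fact p.Prime → Finite S → IsPGroup p S → F.IsSaturated p →
      F.IsConstrained p ∧ IsPSolvable p ↥(F.autGroup F.core) := by
  induction h with
  | @trivial S F p hbot =>
    intro hp _ hS hF
    have := finite_mulAut (P := F.core) (isNormal_core F).1
    refine ⟨constrained_of_bot hF hbot, CfsgLib.PLocal.isPSolvable_of_coprime ?_⟩
    have hQ : F.core = ⊥ := le_bot_iff.mp ((isNormal_core F).1.trans hbot.le)
    have : Subsingleton ↥(F.autGroup F.core) := by
      refine ⟨fun a b => Subtype.ext (autFun_inj fun x hx => ?_)⟩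
      rw [Subgroup.mem_bot.mp (hQ.le (autFun_mem (a : MulAut F.core) hx)),
        Subgroup.mem_bot.mp (hQ.le (autFun_mem (b : MulAut F.core) hx))]
    rw [Nat.card_of_subsingleton (1 : ↥(F.autGroup F.core))]; exact Nat.coprime_one_left p
  | @step S F E p D hE hD _ ih =>
    intro hp _ hS hF
    have hHS : E.hyperfocalSubgroup p ≤ S := hyp_le_top
    have : Finite ↥(E.hyperfocalSubgroup p) := finite_of_le hHS
    have hDp := isPGroup_of_le hHS hS
    obtain ⟨hDc, hDsol⟩ := ih hp inferInstance hDp hD.1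
    have hEs := hE.1
    have hDn : D.IsNormalIn E p := Cfsg.Agent.S5120.result p hS E hEs _ hHS
      ⟨fun h hh s => Subgroup.mem_subgroupOf.mpr
        (hyp_conj_mem s.2 (Subgroup.mem_subgroupOf.mp hh))⟩ le_rfl D hD.1 hD.2
    have hEc := constrained_of_hyperfocal_constrained hS hEs hDn hDc
    have hEn := residual_normal hS hF (isWeaklyNormalIn_self hS hF) hE
    obtain ⟨R, hRQ, -, hR⟩ := le_core_of_constrained hS hEn.1 hEc
    refine ⟨⟨hF, F.core, isNormal_core F, centric_of_normal_centralizer_le (isNormal_core F)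
      ((centralizerIn_anti hRQ).trans (hR.trans hRQ))⟩,
      aut_core_isPSolvable hS hF hE hD fun P hP => ?_⟩
    obtain ⟨G, _, _, ι, hG, hr, -⟩ := (pSolvable_realizable_iff hDp D).mpr ⟨hDc, hDsol⟩
    exact autGroup_isPSolvable hr hG hP

end CfsgLib.Fusion
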