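import Mathlib
import Cfsg.Agent.Lib.Fusion.MeetSaturated
import Cfsg.Agent.Lib.Fusion.ResidualNormal
import Cfsg.Agent.Lib.Fusion.ResidualSolvable
import Cfsg.Agent.Lib.Fusion.NormalLabel

/-!
# The intersection of two normal subsystems
-/

set_option autoImplicit false
set_option linter.unusedSectionVars false
set_option maxHeartbeats 1000000

namespace CfsgLib.Fusion

open Cfsg Cfsg.FusionSystem

variable {Ω : Type*} [Group Ω] {S T : Subgroup Ω} {F : FusionSystem S} {E : FusionSystem T}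
  {p : ℕ} [hp : Fact p.Prime] [Finite S]

/-- Invariance passes to an intermediate saturated subsystem. -/
theorem weaklyNormal_of_le {T' : Subgroup Ω} {F' : FusionSystem T'} (hS : IsPGroup p S)
    (hE : E.IsWeaklyNormalIn F p) (hF' : F'.IsSaturated p) (hF'F : F'.IsSubsystemOf F)
    (hTT' : T ≤ T') (hEF' : E.IsSubsystemOf F') : E.IsWeaklyNormalIn F' p := by
  obtain ⟨hEs, hF, hinvI⟩ := hE
  have hinv : StrongInv E F :=
    strongInv_iff.mpr ((Cfsg.Agent.S5119.result p hS F hF E hinvI.1 hinvI.2.1).mp hinvI)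
  have hT'S : T' ≤ S := (le_iff_isMor.mp hF'F T' id (isMor_id F' le_rfl)).le
  have : Finite T' := finite_of_le hT'S
  have hT : F'.StronglyClosed T := stronglyClosed_iff.mpr ⟨hTT',
    fun P f hf x hx hxT => (stronglyClosed_iff.mp hinvI.2.1).2 P f (le_iff_isMor.mp hF'F P f hf)
      x hx hxT⟩
  exact ⟨hEs, hF', (Cfsg.Agent.S5119.result p (isPGroup_of_le hT'S hS) F' hF' E hEF' hT).mpr
    (strongInv_iff.mp fun P Q f g hPQ hQT hf hfQ hg =>
      hinv P Q f g hPQ hQT hf hfQ (le_iff_isMor.mp hF'F Q g hg))⟩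

/-- The extension condition in terms of `GoodExt`. -/
theorem isNormalIn_of_goodExt (hE : E.IsWeaklyNormalIn F p)
    (h : ∀ α ∈ E.autGroup T, GoodExt F T T (autFun α)) : E.IsNormalIn F p := by
  refine ⟨hE, fun α hα => ?_⟩
  obtain ⟨g, hg, hgT, hgC⟩ := h α hα
  set C := centralizerIn S T
  have hmaps : img (T ⊔ C) g ≤ T ⊔ C := by
    rw [hg.img_sup, img_congr hgT, img_autFun]
    refine sup_le le_sup_left (img_le fun c hc => ?_)
    have := Subgroup.mul_mem _ (Subgroup.mem_sup_right (S := T) hc)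
      (Subgroup.mem_sup_left (T := C) (hgC c hc))
    rwa [mul_inv_cancel_left] at this
  obtain ⟨β, hβ, hβe⟩ := exists_aut hg (hg.img_eq_self fun x hx => hmaps (mem_img_of_mem g hx))
  refine ⟨β, hβ, fun x => ?_, fun c hc => ?_⟩
  · rw [← autFun_coe β, ← autFun_coe α]
    show autFun β (x : Ω) = autFun α x
    rw [hβe _ (Subgroup.mem_sup_left x.2)]
    exact hgT x x.2
  · rw [← autFun_coe β, hβe _ c.2]
    refine ⟨hgC c hc, Subgroup.mem_centralizer_iff.mpr fun y hy => ?_⟩
    obtain ⟨x, hx, rfl⟩ : ∃ x ∈ T, g x = y :=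
      ⟨autFun α⁻¹ y, autFun_mem _ hy, by
        rw [hgT _ (autFun_mem _ hy)]; exact autFun_inv_right α hy⟩
    have h1 := hg.map_conj c.2 (Subgroup.mem_sup_left hx)
    have h2 : cj (c : Ω) x = x := (mem_centralizerIn.mp hc).2 x hx
    rw [show (c : Ω) * x * (c : Ω)⁻¹ = x from h2] at h1
    have h3 : cj (c : Ω)⁻¹ (g x) = g x := (mem_centralizerIn.mp (C.inv_mem hc)).2 _ hy
    have h4 : cj ((c : Ω)⁻¹ * g c) (g x) = g x := by rw [cj_mul, cj_apply (g c), ← h1, h3]
    rw [cj_apply, cj_fixed_iff] at h4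
    exact h4.symm

/-- A normal subsystem has the extensions. -/
theorem goodExt_of_normal (hE : E.IsNormalIn F p) {α : MulAut T} (hα : α ∈ E.autGroup T) :
    GoodExt F T T (autFun α) := by
  obtain ⟨β, hβ, hβx, hβc⟩ := hE.2 α hα
  have hle : T ⊔ centralizerIn S T ≤ S := sup_le hE.1.2.2.2.1.1 centralizerIn_le
  refine ⟨autFun β, isMor_autFun hle hβ, fun x hx => ?_, fun c hc => ?_⟩
  · rw [autFun_of_mem β (Subgroup.mem_sup_left hx), autFun_of_mem α hx]
    exact hβx ⟨x, hx⟩
  · rw [autFun_of_mem β (Subgroup.mem_sup_right hc)]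
    exact (Subgroup.mem_inf.mp (hβc ⟨c, Subgroup.mem_sup_right hc⟩ hc)).1

/-- The automorphisms of `T` with extensions form a subgroup. -/
def goodExtAut (F : FusionSystem S) (T : Subgroup Ω) (hT : F.StronglyClosed T) :
    Subgroup (MulAut T) :=
  have : Finite T := finite_of_le hT.1
  have hmul : ∀ {a b : MulAut T}, GoodExt F T T (autFun a) → GoodExt F T T (autFun b) →
      GoodExt F T T (autFun (a * b)) := fun {a b} ha hb => by
    refine GoodExt.comp hT le_rfl ?_ hb (by rw [img_autFun]; exact ha)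
      fun x hx => autFun_mul a b hx
    rw [img_autFun]; exact centralizerIn_le
  { carrier := {α | GoodExt F T T (autFun α)}
    one_mem' := (goodExt_id hT le_rfl).restrict le_rfl fun x hx => (autFun_one hx).symm
    mul_mem' := hmul
    inv_mem' := fun {a} ha => by
      have := finite_mulAut (S := T) (le_refl T)
      have hpow : ∀ n : ℕ, GoodExt F T T (autFun (a ^ n)) := by
        intro n
        induction n with
        | zero => exact (goodExt_id hT le_rfl).restrict le_rfl fun x hx => (autFun_one hx).symm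
        | succ n ih => rw [pow_succ]; exact hmul ih ha
      obtain ⟨n, hn⟩ := Submonoid.mem_powers_iff _ _ |>.mp
        ((mem_powers_iff_mem_zpowers).mpr (Subgroup.inv_mem _ (Subgroup.mem_zpowers a)))
      show GoodExt F T T (autFun a⁻¹)
      rw [← hn]
      exact hpow n }

theorem mem_goodExtAut {hT : F.StronglyClosed T} {α : MulAut T} :
    α ∈ goodExtAut F T hT ↔ GoodExt F T T (autFun α) := Iff.rfl

/-- Conjugation by `Aut_F(T)` preserves extensions inside an invariant system. -/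
theorem goodExt_conj {T' : Subgroup Ω} {E' : FusionSystem T'} (hS : IsPGroup p S)
    (hF : F.IsSaturated p) (hinv : StrongInv E' F) (hT' : F.StronglyClosed T') (hTT' : T ≤ T')
    (hT : F.StronglyClosed T) {θ : MulAut T} (hθ : θ ∈ F.autGroup T) {a : MulAut T}
    (ha : GoodExt E' T T (autFun a)) : GoodExt E' T T (autFun (θ * a * θ⁻¹)) := by
  have hTS := hT.1
  have hsc := (stronglyClosed_iff.mp hT).2
  have hsc' := (stronglyClosed_iff.mp hT').2
  have hTn : F.IsFullyNormalized T := by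
    refine ⟨hTS, fun Q hQ => ?_⟩
    obtain ⟨f, hf, rfl⟩ := isConj_iff.mp hQ
    rw [eq_of_le_of_card hTS (img_le fun x hx => hsc _ f hf x hx hx) hf.card_img.ge]
  obtain ⟨G, hG, hGe, hGC⟩ := exists_map_centralizer (isFullyAutomized_of_normalized hS hF hTn).2
    (isMor_autFun hTS hθ) (img_autFun θ)
  obtain ⟨g, hg, hga, hgc⟩ := ha
  set C := centralizerIn T' T with hC
  have hCS : C ≤ centralizerIn S T := inf_le_inf_right _ hT'.1
  have hG' : IsMor F (T ⊔ C) G := hG.restrict (sup_le le_sup_right (hCS.trans le_sup_left))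
  have hGC' : ∀ c ∈ C, G c ∈ C := fun c hc => mem_centralizerIn.mpr
    ⟨hsc' _ G hG' c (Subgroup.mem_sup_right hc) (mem_centralizerIn.mp hc).1,
      (mem_centralizerIn.mp (hGC (mem_img_of_mem G (hCS hc)))).2⟩
  have hGi : img (T ⊔ C) G = T ⊔ C := by
    refine hG'.img_eq_self fun y hy => ?_
    have h1 := mem_img_of_mem G hy
    rw [hG'.img_sup, img_congr hGe, img_autFun] at h1
    exact sup_le_sup_left (img_le hGC') T h1
  have hgmaps : ∀ x ∈ T ⊔ C, g x ∈ T ⊔ C := by
    intro x hx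
    refine ((?_ : img (T ⊔ C) g ≤ T ⊔ C)) (mem_img_of_mem g hx)
    rw [hg.img_sup, img_congr hga, img_autFun]
    refine sup_le le_sup_left (img_le fun c hc => ?_)
    have := Subgroup.mul_mem _ (Subgroup.mem_sup_right (S := T) hc)
      (Subgroup.mem_sup_left (T := C) (hgc c hc))
    rwa [mul_inv_cancel_left] at this
  obtain ⟨k, hk, hke⟩ := hinv (T ⊔ C) (T ⊔ C) g G le_rfl (sup_le hTT' centralizerIn_le) hg
    hgmaps hG'
  rw [hGi] at hk
  refine ⟨k, hk, fun y hy => ?_, fun c hc => ?_⟩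
  · have hy' := autFun_mem θ⁻¹ hy
    have h1 := hke _ (Subgroup.mem_sup_left hy')
    rw [hGe _ hy', autFun_inv_right θ hy, hga _ hy', hGe _ (autFun_mem a hy')] at h1
    rw [h1, autFun_mul _ _ hy, autFun_mul _ _ hy']
  · have hGCi : img C G = C := (hG'.restrict le_sup_right).img_eq_self hGC'
    obtain ⟨c', hc', rfl⟩ := (hG'.restrict le_sup_right).mem_img.mp (hGCi.ge hc)
    have hc'M : c' ∈ T ⊔ C := Subgroup.mem_sup_right hc'
    rw [hke _ hc'M, ← hG'.map_inv hc'M, ← hG'.map_mul ((T ⊔ C).inv_mem hc'M) (hgmaps _ hc'M)]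
    exact hsc _ G hG' _ (Subgroup.mem_sup_left (hgc c' hc')) (hgc c' hc')

end CfsgLib.Fusion
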