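import Mathlib
import Cfsg.Agent.Lib.Fusion.Meet

/-!
# The largest normal subsystem over the intersection
-/

set_option autoImplicit false
set_option linter.unusedSectionVars false
set_option maxHeartbeats 1000000

namespace CfsgLib.Fusion

open Cfsg Cfsg.FusionSystem

variable {Ω : Type*} [Group Ω] {S T₁ T₂ : Subgroup Ω} {F : FusionSystem S} {E₁ : FusionSystem T₁}
  {E₂ : FusionSystem T₂} {p : ℕ} [hp : Fact p.Prime] [Finite S]

namespace MeetHyp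

variable (hm : MeetHyp F E₁ E₂ p)
include hm

theorem finite_T : Finite ↥(T₁ ⊓ T₂) := finite_of_le hm.le_S

theorem pgroup_T : IsPGroup p ↥(T₁ ⊓ T₂) := isPGroup_of_le hm.le_S hm.pgroup

theorem sys_weaklyNormal₁ : hm.sys.IsWeaklyNormalIn E₁ p :=
  weaklyNormal_of_le hm.pgroup hm.sys_weaklyNormal hm.normal₁.1.1 hm.sub₁ inf_le_left hm.sys_le₁

theorem sys_weaklyNormal₂ : hm.sys.IsWeaklyNormalIn E₂ p :=
  weaklyNormal_of_le hm.pgroup hm.sys_weaklyNormal hm.normal₂.1.1 hm.sub₂ inf_le_right hm.sys_le₂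

/-- A subsystem normal in the three systems exists. -/
theorem exists_normal : ∃ D : FusionSystem (T₁ ⊓ T₂),
    D.IsNormalIn F p ∧ D.IsNormalIn E₁ p ∧ D.IsNormalIn E₂ p ∧ D.IsSubsystemOf hm.sys ∧
      hm.sys.IsPPrimeResidual p D := by
  have := hm.finite_T
  have : Finite T₁ := finite_of_le hm.closed₁.1
  have : Finite T₂ := finite_of_le hm.closed₂.1
  have hTp := hm.pgroup_T
  have hD := residual_isPPrimeResidual hTp hm.sys_saturated
  exact ⟨_, residual_normal hm.pgroup hm.sat hm.sys_weaklyNormal hD,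
    residual_normal (isPGroup_of_le hm.closed₁.1 hm.pgroup) hm.normal₁.1.1 hm.sys_weaklyNormal₁ hD,
    residual_normal (isPGroup_of_le hm.closed₂.1 hm.pgroup) hm.normal₂.1.1 hm.sys_weaklyNormal₂ hD,
    residual_sub hTp hm.sys_saturated, hD⟩

/-- A subsystem normal in the three systems lies in the generated system. -/
theorem le_sys {D : FusionSystem (T₁ ⊓ T₂)} (hD : D.IsWeaklyNormalIn F p)
    (h₁ : D.IsSubsystemOf E₁) (h₂ : D.IsSubsystemOf E₂) :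
    D.IsSubsystemOf hm.sys ∧
      ∀ R, D.IsCentric R → meetH F (T₁ ⊓ T₂) R := by
  obtain ⟨hDs, -, hinvI⟩ := hD
  have hinv : StrongInv D F := strongInv_iff.mpr
    ((Cfsg.Agent.S5119.result p hm.pgroup F hm.sat D hinvI.1 hinvI.2.1).mp hinvI)
  have := hm.finite_T
  have hTp := hm.pgroup_T
  have hH : ∀ R, D.IsCentric R → meetH F (T₁ ⊓ T₂) R := fun R hR => ⟨hR.1, fun Q hQ => by
    obtain ⟨f, hf, rfl⟩ := isConj_iff.mp hQ
    exact centric_centralizer_le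
      (centric_img_of_invariant hm.pgroup hm.sat hinvI.1 hinvI.2.1 hinv hR hf)⟩
  refine ⟨fusion_le_iff.mp (alperin hTp hDs fun R hR => ?_), hH⟩
  obtain ⟨hRc, hRn⟩ : D.IsCentric R ∧ D.IsFullyNormalized R := by
    rcases hR with rfl | hR
    · exact ⟨centric_self D, isFullyNormalized_self D⟩
    · exact ⟨hR.1, hR.2.1⟩
  have := finite_mulAut hRc.1
  refine le_trans ?_ (hm.meetAut_le_sys (hH R hRc))
  exact le_of_sylIn_of_coprime
    (isFullyAutomized_iff.mp (isFullyAutomized_of_normalized hTp hDs hRn).1).2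
    (hm.meetAut_inner hRc.1) fun b hb hbc => Subgroup.subset_closure
      (Or.inl ⟨⟨autGroup_mono h₁ hb, autGroup_mono h₂ hb⟩, hbc⟩)

/-- The largest subsystem normal in the three systems. -/
theorem exists_max_normal : ∃ D : FusionSystem (T₁ ⊓ T₂),
    (D.IsNormalIn F p ∧ D.IsNormalIn E₁ p ∧ D.IsNormalIn E₂ p) ∧
      ∀ D' : FusionSystem (T₁ ⊓ T₂), D'.IsNormalIn F p → D'.IsNormalIn E₁ p →
        D'.IsNormalIn E₂ p → D'.IsSubsystemOf D := by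
  have hS := hm.pgroup
  have hF := hm.sat
  have := hm.finite_T
  have hTp := hm.pgroup_T
  have hfinA := finite_mulAut (S := T₁ ⊓ T₂) (le_refl (T₁ ⊓ T₂))
  have : Finite T₁ := finite_of_le hm.closed₁.1
  have : Finite T₂ := finite_of_le hm.closed₂.1
  obtain ⟨D₀, hD₀F, hD₀₁, hD₀₂, hD₀W, hD₀r⟩ := hm.exists_normal
  have hWs := hm.sys_saturated
  have hT₁ : E₁.StronglyClosed (T₁ ⊓ T₂) := hD₀₁.1.2.2.2.1
  have hT₂ : E₂.StronglyClosed (T₁ ⊓ T₂) := hD₀₂.1.2.2.2.1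
  set W := hm.sys
  set A₀ : Subgroup (MulAut ↥(T₁ ⊓ T₂)) := goodExtAut F _ hm.closed ⊓
    (goodExtAut E₁ _ hT₁ ⊓ goodExtAut E₂ _ hT₂) with hA₀
  have hA₀n : ∀ θ ∈ F.autGroup (T₁ ⊓ T₂), ∀ a ∈ A₀, θ * a * θ⁻¹ ∈ A₀ := by
    intro θ hθ a ha
    have hSF : StrongInv F F := strongInv_iff.mpr
      ((Cfsg.Agent.S5119.result p hS F hF F (fun _ => le_rfl)
        (stronglyClosed_iff.mpr ⟨le_rfl, fun P f hf x hx _ => hf.mem hx⟩)).mp
        (isWeaklyNormalIn_self hS hF).2.2)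
    exact ⟨goodExt_conj hS hF hSF (stronglyClosed_iff.mpr ⟨le_rfl, fun P f hf x hx _ => hf.mem hx⟩)
        hm.le_S hm.closed hθ ha.1,
      goodExt_conj hS hF (strongInv_of_isNormalIn hS hF hm.normal₁) hm.closed₁ inf_le_left
        hm.closed hθ ha.2.1,
      goodExt_conj hS hF (strongInv_of_isNormalIn hS hF hm.normal₂) hm.closed₂ inf_le_right
        hm.closed hθ ha.2.2⟩
  set N : Subgroup ↥(W.autGroup (T₁ ⊓ T₂)) := A₀.subgroupOf (W.autGroup (T₁ ⊓ T₂)) with hN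
  have : N.Normal := ⟨fun a ha θ => hA₀n θ (autGroup_mono hm.sys_le θ.2) _ ha⟩
  set χ := QuotientGroup.mk' N with hχdef
  have hχ : Function.Surjective χ := QuotientGroup.mk'_surjective N
  have hD₀A : D₀.autGroup (T₁ ⊓ T₂) ≤ A₀ := fun a ha =>
    ⟨goodExt_of_normal hD₀F ha, goodExt_of_normal hD₀₁ ha, goodExt_of_normal hD₀₂ ha⟩
  have hker : (D₀.autGroup (T₁ ⊓ T₂)).subgroupOf (W.autGroup (T₁ ⊓ T₂)) ≤ χ.ker := fun a ha => by
    rw [hχdef, QuotientGroup.ker_mk']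
    exact hD₀A ha
  have hΔ : (Nat.card (↥(W.autGroup (T₁ ⊓ T₂)) ⧸ N)).Coprime p := by
    obtain ⟨-, R, hR⟩ := (isFullyAutomized_of_normalized hTp hWs (isFullyNormalized_self W)).1
    have hle : (R : Subgroup ↥(W.autGroup (T₁ ⊓ T₂))) ≤ N := fun a ha => by
      rw [hR] at ha
      exact hD₀A (autInducedBy_le D₀ le_rfl ha)
    have h1 : ¬ p ∣ N.index := fun h =>
      R.not_dvd_index (h.trans (Subgroup.index_dvd_of_le hle))
    exact ((Nat.Prime.coprime_iff_not_dvd hp.out).mpr h1).symm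
  have hD₀Wn : D₀.IsNormalIn W p := residual_normal hTp hWs (isWeaklyNormalIn_self hTp hWs) hD₀r
  obtain ⟨hD₀s, -, hD₀inv⟩ := hD₀Wn.1
  let L := normalLabel χ hTp hWs hD₀s hD₀inv hΔ hχ hker
  have hrad : ∀ P : Subgroup Ω, W.IsCentric P → W.IsRadical p P →
      P ∈ {P : Subgroup Ω | D₀.IsCentric (P ⊓ (T₁ ⊓ T₂))} := fun P hP _ => by
    show D₀.IsCentric (P ⊓ (T₁ ⊓ T₂))
    rw [inf_eq_left.mpr hP.1]
    refine ⟨hP.1, fun Q hQ => hP.2 Q ?_⟩
    obtain ⟨f, hf, rfl⟩ := isConj_iff.mp hQ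
    exact isConj_img (le_iff_isMor.mp hD₀W _ _ hf)
  set Dm := L.sys hTp hΔ with hDm
  have hDs : Dm.IsSaturated p := L.sys_saturated hTp hΔ hWs hrad fun P hP hP' => by
    exact absurd (show P ∈ {P : Subgroup Ω | D₀.IsCentric (P ⊓ (T₁ ⊓ T₂))} from by
      show D₀.IsCentric (P ⊓ (T₁ ⊓ T₂))
      rw [inf_eq_left.mpr hP.1]
      refine ⟨hP.1, fun Q hQ => hP.2 Q ?_⟩
      obtain ⟨f, hf, rfl⟩ := isConj_iff.mp hQ
      exact isConj_img (le_iff_isMor.mp hD₀W _ _ hf)) hP'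
  have hDW : Dm.IsSubsystemOf W := L.sys_sub hTp hΔ
  have hindex := L.sys_hasPrimeToPIndexIn hTp hΔ hWs hrad
  have hD₀D : D₀.IsSubsystemOf Dm := hD₀r.2.2 Dm hDs hindex
  have hTT : (T₁ ⊓ T₂) ⊓ (T₁ ⊓ T₂) = T₁ ⊓ T₂ := inf_idem _
  -- the automizer of `T₁ ⊓ T₂`
  have hAut : ∀ a, a ∈ Dm.autGroup (T₁ ⊓ T₂) ↔ a ∈ W.autGroup (T₁ ⊓ T₂) ∧ a ∈ A₀ := by
    intro a
    rw [autGroup_eq_set le_rfl, L.isMor_sys_iff hTp hΔ L.self_mem, autGroup_eq_set (F := W) le_rfl]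
    refine and_congr_right fun haW => ⟨?_, fun haA => ?_⟩
    · rintro ⟨γ, hγ, e, he, hfe⟩
      rw [hTT] at he hfe
      obtain ⟨δ, hδ, hδe⟩ := exists_aut he (he.img_eq_self fun x hx => he.mem hx)
      have hγ' : (γ : MulAut ↥(T₁ ⊓ T₂)) ∈ A₀ := by
        have : γ ∈ N := by
          rw [← QuotientGroup.ker_mk' N]
          exact hγ
        exact this
      rw [autFun_inj (α := a) (β := (γ : MulAut ↥(T₁ ⊓ T₂)) * δ) fun x hx => by
        rw [hfe x hx, autFun_mul _ _ hx, hδe x hx]]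
      exact Subgroup.mul_mem _ hγ' (hD₀A hδ)
    · refine ⟨⟨a, (autGroup_eq_set le_rfl a).mpr haW⟩, (QuotientGroup.eq_one_iff _).mpr haA, id,
        isMor_id _ inf_le_left, fun _ _ => rfl⟩
  -- every map is an element of the kernel following a map of `D₀`
  have hchar : ∀ {P : Subgroup Ω} {f : Ω → Ω}, IsMor Dm P f →
      ∃ γ : MulAut ↥(T₁ ⊓ T₂), γ ∈ Dm.autGroup (T₁ ⊓ T₂) ∧
        ∃ e, IsMor D₀ P e ∧ ∀ x ∈ P, f x = autFun γ (e x) := by
    have hinv0 := strongInv_of_isNormalIn hTp hWs hD₀Wn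
    intro P f hf
    have hg := (L.isMor_sys hTp hΔ).mp hf
    clear hf
    induction hg with
    | @step P R g f hR hg ht hPR e =>
      obtain ⟨γ, hγ, e₀, he₀, hge⟩ := ht
      have hRT := hg.le
      rw [inf_eq_left.mpr hRT] at he₀ hge
      refine ⟨γ, (hAut _).mpr ⟨γ.2, ?_⟩, e₀, he₀.restrict hPR,
        fun x hx => (e x hx).trans (hge x (hPR hx))⟩
      have : γ ∈ N := by
        rw [← QuotientGroup.ker_mk' N]
        exact hγ
      exact this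
    | @comp P f g k h1 h2 e ih1 ih2 =>
      obtain ⟨γ₁, hγ₁, e₁, he₁, hfe₁⟩ := ih1
      obtain ⟨γ₂, hγ₂, e₂, he₂, hfe₂⟩ := ih2
      have hγ₁W : γ₁ ∈ W.autGroup (T₁ ⊓ T₂) := ((hAut _).mp hγ₁).1
      obtain ⟨e', he', hee⟩ := hinv0 (img P f) (T₁ ⊓ T₂) e₂ (autFun γ₁⁻¹) he₂.le le_rfl he₂
        (fun x hx => he₂.mem hx) (isMor_autFun le_rfl (inv_mem hγ₁W))
      have hmap : ∀ x ∈ P, e₁ x ∈ img (img P f) (autFun γ₁⁻¹) := fun x hx => by
        have := mem_img_of_mem (autFun γ₁⁻¹) (mem_img_of_mem f hx)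
        rwa [hfe₁ x hx, autFun_inv_left γ₁ (he₁.mem hx)] at this
      refine ⟨γ₂ * γ₁, mul_mem hγ₂ hγ₁, e' ∘ e₁, he₁.comp he' hmap, fun x hx => ?_⟩
      have h3 := hee _ (mem_img_of_mem f hx)
      rw [hfe₁ x hx, autFun_inv_left γ₁ (he₁.mem hx)] at h3
      have hm2 : e₂ (f x) ∈ T₁ ⊓ T₂ := he₂.mem (mem_img_of_mem f hx)
      rw [e x hx, hfe₂ _ (mem_img_of_mem f hx), Function.comp_apply,
        autFun_mul _ _ (he'.mem (hmap x hx)), h3, hfe₁ x hx, autFun_inv_right γ₁ ?_]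
      rw [← hfe₁ x hx]
      exact hm2
  have hinvD₀ := strongInv_of_isNormalIn hS hF hD₀F
  have hDinvF : Dm.IsInvariantIn F := by
    refine ⟨fun P => (hDW P).trans (hm.sys_le P), hm.closed, fun P hPT φ hφ θ hθ => ?_,
      fun P hPT φ hφ => ?_⟩
    · obtain ⟨γ, hγ, e, he, hfe⟩ := hchar (isMor_of_mem hφ)
      have hθm := isMor_autFun hm.le_S hθ
      obtain ⟨e', he', hee⟩ := hinvD₀ P (T₁ ⊓ T₂) e (autFun θ) hPT le_rfl he
        (fun x hx => he.mem hx) hθm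
      obtain ⟨hγW, hγA⟩ := (hAut γ).mp hγ
      have hγ' : θ * γ * θ⁻¹ ∈ Dm.autGroup (T₁ ⊓ T₂) := (hAut _).mpr
        ⟨autGroup_conj_mem hm.sys_strongInv hm.closed le_rfl hθ hγW, hA₀n θ hθ γ hγA⟩
      have hk := (le_iff_isMor.mp hD₀D _ _ he').comp (isMor_autFun le_rfl hγ')
        fun x hx => he'.mem hx
      have hαT : ∀ z : ↥(T₁ ⊓ T₂), ((T₁ ⊓ T₂).subtype.comp θ.toMonoidHom) z = autFun θ z :=
        fun z => (autFun_coe θ z).symm
      rw [← map_subgroupOf_eq_img hαT hPT] at hk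
      obtain ⟨χ', hχ', hχe⟩ := hk
      refine ⟨χ', hχ', fun x hφx hαx => ?_⟩
      rw [hχe]
      have hex : e x ∈ T₁ ⊓ T₂ := he.mem x.2
      show autFun (θ * γ * θ⁻¹) (e' ((θ ⟨x, hPT x.2⟩ : ↥(T₁ ⊓ T₂)) : Ω)) = _
      rw [← autFun_coe θ ⟨x, hPT x.2⟩, hee x x.2, autFun_mul _ _ (autFun_mem θ hex),
        autFun_inv_left θ hex, autFun_mul _ _ hex, ← hfe x x.2, toFun_coe φ x,
        autFun_of_mem θ hφx]
    · obtain ⟨α, hα, w, hw, hfe⟩ := hm.sys_factors (isMor_of_mem hφ) hPT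
      obtain ⟨β, hβ, d, ⟨φ₀, hφ₀, hd⟩, hed⟩ := L.sys_fac hTp hΔ hWs hrad P w hw
      refine ⟨α * β, (F.autGroup _).mul_mem hα (autGroup_mono hm.sys_le hβ), φ₀, hφ₀,
        fun x hx => ?_⟩
      rw [← toFun_coe φ x, hfe x x.2, ← autFun_coe (α * β) ⟨φ₀ x, hx⟩, autFun_mul _ _ hx,
        hed x x.2, hd x]
  have hDwF : Dm.IsWeaklyNormalIn F p := ⟨hDs, hF, hDinvF⟩
  have hD₁ : Dm.IsSubsystemOf E₁ := fun P => (hDW P).trans (hm.sys_le₁ P)
  have hD₂ : Dm.IsSubsystemOf E₂ := fun P => (hDW P).trans (hm.sys_le₂ P)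
  refine ⟨Dm, ⟨isNormalIn_of_goodExt hDwF fun a ha => ((hAut a).mp ha).2.1,
      isNormalIn_of_goodExt (weaklyNormal_of_le hS hDwF hm.normal₁.1.1 hm.sub₁ inf_le_left hD₁)
        fun a ha => ((hAut a).mp ha).2.2.1,
      isNormalIn_of_goodExt (weaklyNormal_of_le hS hDwF hm.normal₂.1.1 hm.sub₂ inf_le_right hD₂)
        fun a ha => ((hAut a).mp ha).2.2.2⟩, fun D' hF' h₁' h₂' => ?_⟩
  obtain ⟨hD'W, hH⟩ := hm.le_sys hF'.1 h₁'.1.2.2.1 h₂'.1.2.2.1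
  have hD's := hF'.1.1
  have hop : (opSys hTp D').IsSubsystemOf Dm := opSys_le hTp fun R α k hR hα hk => by
    have hRW : W.IsCentric R := ⟨hR.1, fun Q hQ => by
      obtain ⟨f, hf, rfl⟩ := isConj_iff.mp hQ
      exact (hH R hR).2 _ (isConj_img (le_iff_isMor.mp hm.sys_le _ _ hf))⟩
    obtain ⟨j, -, hj⟩ := (Nat.dvd_prime_pow hp.out).mp (orderOf_dvd_of_pow_eq_one hk)
    refine hindex.2 R hRW.1 ⟨⟨α, autGroup_mono hD'W hα⟩, Subgroup.subset_closure ⟨j, ?_⟩, rfl⟩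
    rw [← hj, ← Subgroup.orderOf_coe]
  refine le_iff_isMor.mpr fun P f hf => ?_
  obtain ⟨β, hβ, g, hg, hfg⟩ := opSys_fac hTp hD's P f hf
  have hβD : β ∈ Dm.autGroup (T₁ ⊓ T₂) := (hAut β).mpr ⟨autGroup_mono hD'W hβ,
    goodExt_of_normal hF' hβ, goodExt_of_normal h₁' hβ, goodExt_of_normal h₂' hβ⟩
  exact ((le_iff_isMor.mp hop _ _ hg).comp (isMor_autFun le_rfl hβD)
    fun x hx => hg.mem hx).congr fun x hx => (hfg x hx).symm

end MeetHyp

end CfsgLib.Fusion
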