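import Mathlib
import Cfsg.Agent.Lib.Fusion.CentralProduct
import Cfsg.Agent.Lib.Fusion.MeetMax
import Cfsg.Agent.Lib.Fusion.NormalCentralizerClosed

/-!
# Central products of commuting normal subsystems are normal
-/

set_option autoImplicit false
set_option linter.unusedSectionVars false
set_option maxHeartbeats 1000000

namespace CfsgLib.Fusion

open Cfsg Cfsg.FusionSystem

variable {Ω : Type*} [Group Ω] {S T₁ T₂ T : Subgroup Ω} {F : FusionSystem S}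
  {E₁ : FusionSystem T₁} {E₂ : FusionSystem T₂} {D : FusionSystem T}
  {p : ℕ} [hp : Fact p.Prime] [Finite S]

/-- A commuting strongly closed subgroup is fixed by extensions of all maps. -/
theorem commuting_le_cElts (hS : IsPGroup p S) (h₂ : F.StronglyClosed T₂) (hc : ⁅T₁, T₂⁆ = ⊥)
    (hfix : ∀ P f, IsMor E₁ P f → ∀ x ∈ P, x ∈ T₁ ⊓ T₂ → f x = x) : T₂ ≤ cElts F E₁ p := by
  obtain ⟨hT₂S, hsc₂⟩ := stronglyClosed_iff.mp h₂
  intro y hy
  have hyC : y ∈ centralizerIn S T₁ := mem_centralizerIn.mpr ⟨hT₂S hy, fun t ht => by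
    rw [cj_apply, cj_fixed_iff]
    exact (comm_of_commutator_bot hc ht hy).symm⟩
  refine ⟨hyC, fun R R' h β hR hh hi hn hβ hcop hβE hβR hβC => ?_⟩
  have hz := hsc₂ _ h hh y (Subgroup.mem_sup_right hyC) hy
  have hzC : h y ∈ centralizerIn S R' := hi ▸ map_mem_centralizerIn hh hR.1 hyC
  have hX : R' ⊔ centralizerIn S R' ≤ S := sup_le hn.1 centralizerIn_le
  have hzX : h y ∈ R' ⊔ centralizerIn S R' := Subgroup.mem_sup_right hzC
  have hz' := hsc₂ _ _ (isMor_autFun hX hβ) _ hzX hz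
  have hd := hβC _ hzC
  exact fix_of_diff_fixed (isPGroup_of_le hX hS) hcop hzX
    (hfix R' _ hβE _ hd ⟨hβE.le hd, T₂.mul_mem (T₂.inv_mem hz) hz'⟩)

theorem fixExt_commuting (hS : IsPGroup p S) (hF : F.IsSaturated p) (h₁ : E₁.IsNormalIn F p)
    (h₂ : F.StronglyClosed T₂) (hc : ⁅T₁, T₂⁆ = ⊥)
    (hfix : ∀ P f, IsMor E₁ P f → ∀ x ∈ P, x ∈ T₁ ⊓ T₂ → f x = x) : FixExt F E₁ T₂ := by
  intro P f hf
  have hle := commuting_le_cElts (p := p) hS h₂ hc hfix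
  obtain ⟨g, hg, hgf, hgY⟩ :=
    fixExt_cElts hS hF h₁ (strongInv_of_isNormalIn hS hF h₁) P f hf
  exact ⟨g, hg.restrict (sup_le_sup_left hle P), hgf, fun y hy => hgY y (hle hy)⟩

theorem sup_commuting_closed (hS : IsPGroup p S) (hF : F.IsSaturated p)
    (h₁ : F.StronglyClosed T₁) (h₂ : F.StronglyClosed T₂) (hc : ⁅T₁, T₂⁆ = ⊥) :
    F.StronglyClosed (T₁ ⊔ T₂) := by
  refine stronglyClosed_iff.mpr ⟨sup_le h₁.1 h₂.1, fun P f hf x hxP hx => ?_⟩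
  obtain ⟨g, hg, hgf⟩ := exists_hat_ext hS hF h₁ h₂ hc hf
  obtain ⟨a, ha, b, hb, rfl⟩ :=
    mem_sup_of_normalized (le_sup_left.trans (le_normalizer_of_comm hc)) hx
  have haD : a ∈ P ⊔ cproj T₁ T₂ (P ⊓ (T₁ ⊔ T₂)) := Subgroup.mem_sup_right
    ((mem_cproj hc inf_le_right).mpr ⟨ha, b, hb, hxP, hx⟩)
  have hbD : b ∈ P ⊔ cproj T₁ T₂ (P ⊓ (T₁ ⊔ T₂)) := by
    have h := Subgroup.mul_mem _ (Subgroup.inv_mem _ haD) (Subgroup.mem_sup_left hxP)
    rwa [inv_mul_cancel_left] at h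
  rw [← hgf _ hxP, hg.map_mul haD hbD]
  exact Subgroup.mul_mem _ (Subgroup.mem_sup_left ((stronglyClosed_iff.mp h₁).2 _ g hg a haD ha))
    (Subgroup.mem_sup_right ((stronglyClosed_iff.mp h₂).2 _ g hg b hbD hb))

/-- An automorphism of the smaller support of order prime to `p` extends to the product centralizer
moving it inside the support and fixing the other factor. -/
theorem exists_ext_fixing (hS : IsPGroup p S) (h₁ : E₁.IsNormalIn F p) (h₂ : F.StronglyClosed T₂)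
    (hc : ⁅T₁, T₂⁆ = ⊥) (hfix : ∀ P f, IsMor E₁ P f → ∀ x ∈ P, x ∈ T₁ ⊓ T₂ → f x = x)
    {α : MulAut T₁} (hα : α ∈ E₁.autGroup T₁) (hcop : (orderOf α).Coprime p) :
    ∃ g, IsMor F (T₁ ⊔ centralizerIn S T₁) g ∧ (∀ x ∈ T₁, g x = autFun α x) ∧
      (∀ c ∈ centralizerIn S T₁, c⁻¹ * g c ∈ T₁ ∧ g c ∈ T₁ ⊔ centralizerIn S T₁) ∧
      ∀ y ∈ T₂, g y = y := by
  obtain ⟨g, hg, hgT, hgC⟩ := goodExt_of_normal h₁ hα
  set C := centralizerIn S T₁
  set X := T₁ ⊔ C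
  have hXS : X ≤ S := hg.le
  have : Finite X := finite_of_le hXS
  obtain ⟨β₀, hβ₀, hβ₀e⟩ := exists_aut hg (hg.img_eq_self fun x hx => by
    have h := mem_img_of_mem g hx
    rw [hg.img_sup, img_congr hgT, img_autFun] at h
    refine (sup_le le_sup_left (img_le fun c hc => ?_) : T₁ ⊔ img C g ≤ X) h
    have h := Subgroup.mul_mem _ (Subgroup.mem_sup_right (S := T₁) hc)
      (Subgroup.mem_sup_left (T := C) (hgC c hc))
    rwa [mul_inv_cancel_left] at h)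
  obtain ⟨j, hj, hjα⟩ := exists_coprime_restrict hXS le_sup_left hcop (γ := β₀)
    fun x hx => (hβ₀e x (Subgroup.mem_sup_left hx)).trans (hgT x hx)
  have hmove : ∀ n : ℕ, ∀ c ∈ C, c⁻¹ * autFun (β₀ ^ n) c ∈ T₁ := by
    intro n
    induction n with
    | zero =>
      intro c hc
      rw [pow_zero, autFun_one (Subgroup.mem_sup_right hc), inv_mul_cancel]
      exact one_mem _
    | succ n ih =>
      intro c hc
      have hcX : c ∈ X := Subgroup.mem_sup_right hc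
      have hd := ih c hc
      set d := c⁻¹ * autFun (β₀ ^ n) c with hdd
      have hdX : d ∈ X := Subgroup.mem_sup_left hd
      rw [pow_succ', autFun_mul _ _ hcX,
        show autFun (β₀ ^ n) c = c * d by rw [hdd, mul_inv_cancel_left],
        autFun_map_mul β₀ hcX hdX, ← mul_assoc, hβ₀e c hcX, hβ₀e d hdX, hgT d hd]
      exact T₁.mul_mem (hgC c hc) (autFun_mem α hd)
  have hjm := isMor_autFun hXS (Subgroup.pow_mem _ hβ₀ j)
  refine ⟨autFun (β₀ ^ j), hjm, hjα, fun c hc => ⟨hmove j c hc,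
    autFun_mem _ (Subgroup.mem_sup_right hc)⟩, fun y hy => ?_⟩
  obtain ⟨hT₂S, hsc₂⟩ := stronglyClosed_iff.mp h₂
  have hyC : y ∈ C := mem_centralizerIn.mpr ⟨hT₂S hy, fun t ht => by
    rw [cj_apply, cj_fixed_iff]
    exact (comm_of_commutator_bot hc ht hy).symm⟩
  have hyX : y ∈ X := Subgroup.mem_sup_right hyC
  have hd : y⁻¹ * autFun (β₀ ^ j) y ∈ T₁ ⊓ T₂ :=
    ⟨hmove j y hyC, T₂.mul_mem (T₂.inv_mem hy) (hsc₂ X _ hjm y hyX hy)⟩
  refine fix_of_diff_fixed (isPGroup_of_le hXS hS) hj hyX ?_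
  rw [hjα _ hd.1]
  exact hfix T₁ _ (isMor_autFun le_rfl hα) _ hd.1 hd

/-- The central product of commuting normal subsystems is normal. -/
theorem centralProduct_normal (hS : IsPGroup p S) (hF : F.IsSaturated p)
    (h₁ : E₁.IsNormalIn F p) (h₂ : E₂.IsNormalIn F p) (hd : CPData E₁ E₂ D)
    (hDs : D.IsSaturated p) : D.IsNormalIn F p := by
  obtain ⟨hc, htop, hfix₁, hfix₂, hmor⟩ := hd
  subst htop
  have hc' := commutator_symm_bot hc
  obtain ⟨-, -, hsub₁, hcl₁, -⟩ := id h₁.1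
  obtain ⟨-, -, hsub₂, hcl₂, -⟩ := id h₂.1
  obtain ⟨hT₁S, hsc₁⟩ := stronglyClosed_iff.mp hcl₁
  obtain ⟨hT₂S, hsc₂⟩ := stronglyClosed_iff.mp hcl₂
  have hinv₁ := strongInv_of_isNormalIn hS hF h₁
  have hinv₂ := strongInv_of_isNormalIn hS hF h₂
  have hfix₂' : ∀ P f, IsMor E₂ P f → ∀ x ∈ P, x ∈ T₂ ⊓ T₁ → f x = x :=
    fun P f hf x hx h => hfix₂ P f hf x hx ⟨h.2, h.1⟩
  have hT₁n : T₁ ≤ Subgroup.normalizer (T₂ : Set Ω) :=
    le_sup_left.trans (le_normalizer_of_comm hc)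
  have hsplit : ∀ {x}, x ∈ T₁ ⊔ T₂ → ∃ a ∈ T₁, ∃ b ∈ T₂, a * b = x := fun hx =>
    mem_sup_of_normalized hT₁n hx
  have hcl := sup_commuting_closed hS hF hcl₁ hcl₂ hc
  have hTS := hcl.1
  -- subsystem
  have hsub : D.IsSubsystemOf F := le_iff_isMor.mpr fun P f hf => by
    obtain ⟨hP, f₁, f₂, hf₁, hf₂, he⟩ := (hmor P f).mp hf
    obtain ⟨g₁, hg₁, hg₁f, hg₁T⟩ := fixExt_commuting hS hF h₁ hcl₂ hc hfix₁ _ f₁ hf₁
    obtain ⟨g₂, hg₂, hg₂f, hg₂T⟩ := fixExt_commuting hS hF h₂ hcl₁ hc' hfix₂' _ f₂ hf₂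
    have hP₁ : P ≤ cproj T₁ T₂ P ⊔ T₂ := fun x hx => by
      obtain ⟨a, ha, b, hb, rfl⟩ := hsplit (hP hx)
      exact Subgroup.mul_mem _ (Subgroup.mem_sup_left ((mem_cproj hc hP).mpr ⟨ha, b, hb, hx⟩))
        (Subgroup.mem_sup_right hb)
    have hval : ∀ a ∈ T₁, ∀ b ∈ T₂, a * b ∈ P → g₁ (a * b) = f₁ a * b := fun a ha b hb hab => by
      have ha' := (mem_cproj hc hP).mpr ⟨ha, b, hb, hab⟩
      rw [hg₁.map_mul (Subgroup.mem_sup_left ha') (Subgroup.mem_sup_right hb), hg₁f a ha', hg₁T b hb]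
    have hm : ∀ x ∈ P, g₁ x ∈ cproj T₂ T₁ P ⊔ T₁ := fun x hx => by
      obtain ⟨a, ha, b, hb, rfl⟩ := hsplit (hP hx)
      rw [hval a ha b hb hx]
      exact Subgroup.mul_mem _
        (Subgroup.mem_sup_right (hf₁.mem ((mem_cproj hc hP).mpr ⟨ha, b, hb, hx⟩)))
        (Subgroup.mem_sup_left ((mem_cproj_snd hc hP).mpr ⟨hb, a, ha, hx⟩))
    refine ((hg₁.restrict hP₁).comp hg₂ hm).congr fun x hx => ?_
    obtain ⟨a, ha, b, hb, rfl⟩ := hsplit (hP hx)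
    have hb' := (mem_cproj_snd hc hP).mpr ⟨hb, a, ha, hx⟩
    have hfa : f₁ a ∈ T₁ := hf₁.mem ((mem_cproj hc hP).mpr ⟨ha, b, hb, hx⟩)
    show g₂ (g₁ (a * b)) = f (a * b)
    rw [hval a ha b hb hx, hg₂.map_mul (Subgroup.mem_sup_right hfa) (Subgroup.mem_sup_left hb'),
      hg₂T _ hfa, hg₂f b hb', he a ha b hb hx]
  -- invariance
  have hinv : StrongInv D F := by
    intro P Q f g hPQ hQT hf hfQ hg
    obtain ⟨hP, f₁, f₂, hf₁, hf₂, he⟩ := (hmor P f).mp hf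
    obtain ⟨G, hG, hGg⟩ := exists_hat_ext hS hF hcl₁ hcl₂ hc hg
    have hQi : Q ⊓ (T₁ ⊔ T₂) = Q := inf_eq_left.mpr hQT
    rw [hQi] at hG
    set M := Q ⊔ cproj T₁ T₂ Q with hM
    have hQ₁M : cproj T₁ T₂ Q ≤ M := le_sup_right
    have hQ₂M : cproj T₂ T₁ Q ≤ M := fun b hb => by
      obtain ⟨hbT, a, ha, hab⟩ := (mem_cproj_snd hc hQT).mp hb
      have h := M.mul_mem (M.inv_mem (hQ₁M ((mem_cproj hc hQT).mpr ⟨ha, b, hbT, hab⟩)))
        (Subgroup.mem_sup_left hab)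
      rwa [inv_mul_cancel_left] at h
    have hP₁Q : cproj T₁ T₂ P ≤ cproj T₁ T₂ Q := cproj_mono hPQ
    have hP₂Q : cproj T₂ T₁ P ≤ cproj T₂ T₁ Q := cproj_mono hPQ
    have hf₁Q : ∀ a ∈ cproj T₁ T₂ P, f₁ a ∈ cproj T₁ T₂ Q := fun a ha => by
      obtain ⟨haT, b, hb, hab⟩ := (mem_cproj hc hP).mp ha
      exact (mem_cproj hc hQT).mpr ⟨hf₁.mem ha, f₂ b,
        hf₂.mem ((mem_cproj_snd hc hP).mpr ⟨hb, a, haT, hab⟩), he a haT b hb hab ▸ hfQ _ hab⟩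
    have hf₂Q : ∀ b ∈ cproj T₂ T₁ P, f₂ b ∈ cproj T₂ T₁ Q := fun b hb => by
      obtain ⟨hbT, a, ha, hab⟩ := (mem_cproj_snd hc hP).mp hb
      exact (mem_cproj_snd hc hQT).mpr ⟨hf₂.mem hb, f₁ a,
        hf₁.mem ((mem_cproj hc hP).mpr ⟨ha, b, hbT, hab⟩), he a ha b hbT hab ▸ hfQ _ hab⟩
    obtain ⟨k₁, hk₁, hk₁e⟩ := hinv₁ _ _ f₁ G hP₁Q inf_le_left hf₁ hf₁Q (hG.restrict hQ₁M)
    obtain ⟨k₂, hk₂, hk₂e⟩ := hinv₂ _ _ f₂ G hP₂Q inf_le_left hf₂ hf₂Q (hG.restrict hQ₂M)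
    have hgP : IsMor F P g := hg.restrict hPQ
    have hiT : img P g ≤ T₁ ⊔ T₂ := img_le fun x hx =>
      (stronglyClosed_iff.mp hcl).2 P g hgP x hx (hP hx)
    have hZP₁ : T₁ ⊓ T₂ ≤ cproj T₁ T₂ P := fun z hz =>
      (mem_cproj hc hP).mpr ⟨hz.1, z⁻¹, T₂.inv_mem hz.2, by rw [mul_inv_cancel]; exact one_mem _⟩
    have hZP₂ : T₁ ⊓ T₂ ≤ cproj T₂ T₁ P := fun z hz =>
      (mem_cproj_snd hc hP).mpr ⟨hz.2, z⁻¹, T₁.inv_mem hz.1, by rw [inv_mul_cancel]; exact one_mem _⟩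
    -- decompositions of the image
    have hdec : ∀ a' ∈ T₁, ∀ b' ∈ T₂, a' * b' ∈ img P g → ∃ a ∈ cproj T₁ T₂ P,
        ∃ b ∈ cproj T₂ T₁ P, a * b ∈ P ∧ G a = a' ∧ G b = b' := by
      intro a' ha' b' hb' hab
      obtain ⟨x, hx, hxe⟩ := hgP.mem_img.mp hab
      obtain ⟨a, ha, b, hb, rfl⟩ := hsplit (hP hx)
      have haP := (mem_cproj hc hP).mpr ⟨ha, b, hb, hx⟩
      have hbP := (mem_cproj_snd hc hP).mpr ⟨hb, a, ha, hx⟩
      have haM := hQ₁M (hP₁Q haP)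
      have hbM := hQ₂M (hP₂Q hbP)
      have hGa : G a ∈ T₁ := hsc₁ _ G hG a haM ha
      have hGb : G b ∈ T₂ := hsc₂ _ G hG b hbM hb
      have h : G a * G b = a' * b' := by rw [← hG.map_mul haM hbM, hGg _ (hPQ hx), hxe]
      set z := (G a)⁻¹ * a' with hz
      have hze : z = G b * b'⁻¹ := by
        rw [hz, inv_mul_eq_iff_eq_mul, ← mul_assoc, h, mul_inv_cancel_right]
      have hzZ : z ∈ T₁ ⊓ T₂ := ⟨T₁.mul_mem (T₁.inv_mem hGa) ha',
        hze ▸ T₂.mul_mem hGb (T₂.inv_mem hb')⟩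
      set Z := T₁ ⊓ T₂ with hZdef
      have hZS : Z ≤ S := inf_le_left.trans hT₁S
      have : Finite Z := finite_of_le hZS
      have hZM : Z ≤ M := (hZP₁.trans hP₁Q).trans hQ₁M
      have hGZ : img Z G = Z := (hG.restrict hZM).img_eq_self fun w hw =>
        ⟨hsc₁ _ G hG w (hZM hw) hw.1, hsc₂ _ G hG w (hZM hw) hw.2⟩
      obtain ⟨w, hw, hwe⟩ := (hG.restrict hZM).mem_img.mp (hGZ.ge hzZ)
      refine ⟨a * w, Subgroup.mul_mem _ haP (hZP₁ hw), w⁻¹ * b,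
        Subgroup.mul_mem _ (Subgroup.inv_mem _ (hZP₂ hw)) hbP, ?_, ?_, ?_⟩
      · rwa [show a * w * (w⁻¹ * b) = a * b by group]
      · rw [hG.map_mul haM (hZM hw), hwe, hz, mul_inv_cancel_left]
      · rw [hG.map_mul (M.inv_mem (hZM hw)) hbM, hG.map_inv (hZM hw), hwe, hze]
        group
    have hs₁ : cproj T₁ T₂ (img P g) ≤ img (cproj T₁ T₂ P) G := fun a' ha' => by
      obtain ⟨ha, b', hb', hab⟩ := (mem_cproj hc hiT).mp ha'
      obtain ⟨a, haP, b, -, -, rfl, -⟩ := hdec a' ha b' hb' hab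
      exact mem_img_of_mem G haP
    have hs₂ : cproj T₂ T₁ (img P g) ≤ img (cproj T₂ T₁ P) G := fun b' hb' => by
      obtain ⟨hb, a', ha', hab⟩ := (mem_cproj_snd hc hiT).mp hb'
      obtain ⟨a, -, b, hbP, -, -, rfl⟩ := hdec a' ha' b' hb hab
      exact mem_img_of_mem G hbP
    -- the value
    classical
    obtain ⟨gi, hgi, hgl, -, -⟩ := hgP.inverse
    have hgim : ∀ y ∈ img P g, f (gi y) ∈ Q := fun y hy => by
      obtain ⟨x, hx, rfl⟩ := hgP.mem_img.mp hy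
      rw [hgl x hx]
      exact hfQ x hx
    refine ⟨g ∘ f ∘ gi, (hmor _ _).mpr ⟨hiT, k₁, k₂, hk₁.restrict hs₁, hk₂.restrict hs₂,
      fun a' ha' b' hb' hab => ?_⟩, fun x hx => by simp only [Function.comp_apply, hgl x hx]⟩
    obtain ⟨a, haP, b, hbP, habP, rfl, rfl⟩ := hdec a' ha' b' hb' hab
    have haM := hQ₁M (hP₁Q haP)
    have hbM := hQ₂M (hP₂Q hbP)
    have e : G a * G b = g (a * b) := by rw [← hG.map_mul haM hbM, hGg _ (hPQ habP)]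
    have haT : a ∈ T₁ := haP.1
    have hbT : b ∈ T₂ := hbP.1
    simp only [Function.comp_apply]
    rw [e, hgl _ habP, hk₁e a haP, hk₂e b hbP, he a haT b hbT habP,
      ← hG.map_mul (hQ₁M (hf₁Q a haP)) (hQ₂M (hf₂Q b hbP)), hGg _ (he a haT b hbT habP ▸ hfQ _ habP)]
  have hw : D.IsWeaklyNormalIn F p := ⟨hDs, hF,
    (Cfsg.Agent.S5119.result p hS F hF D hsub hcl).mpr (strongInv_iff.mp hinv)⟩
  -- the extension condition
  have : Finite ↥(T₁ ⊔ T₂) := finite_of_le hTS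
  have hTp : IsPGroup p ↥(T₁ ⊔ T₂) := isPGroup_of_le hTS hS
  set C := centralizerIn S (T₁ ⊔ T₂) with hC
  have hgood : D.autGroup (T₁ ⊔ T₂) ≤ goodExtAut F (T₁ ⊔ T₂) hcl := by
    refine le_of_sylIn_of_coprime
      (isFullyAutomized_iff.mp (isFullyAutomized_of_normalized hTp hDs (isFullyNormalized_self D)).1).2
      ?_ fun γ hγ hγc => ?_
    · intro σ hσ
      obtain ⟨t, ht, -, hte⟩ := mem_autInducedBy.mp hσ
      refine ⟨cj t, isMor_cj F (sup_le hTS centralizerIn_le) (hTS ht),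
        fun x hx => (hte x hx).symm, fun c hc => ?_⟩
      have h : cj c t = t := (mem_centralizerIn.mp hc).2 t ht
      rw [cj_apply, cj_fixed_iff] at h
      rw [cj_apply, ← h, mul_inv_cancel_right, inv_mul_cancel]
      exact one_mem _
    have hγm := isMor_autFun le_rfl hγ
    obtain ⟨-, f₁, f₂, hf₁, hf₂, he⟩ := (hmor _ _).mp hγm
    have hc₁ : cproj T₁ T₂ (T₁ ⊔ T₂) = T₁ := inf_eq_left.mpr (le_sup_left.trans le_sup_left)
    have hc₂ : cproj T₂ T₁ (T₁ ⊔ T₂) = T₂ := inf_eq_left.mpr (le_sup_right.trans le_sup_left)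
    rw [hc₁] at hf₁
    rw [hc₂] at hf₂
    have : Finite T₁ := finite_of_le hT₁S
    have : Finite T₂ := finite_of_le hT₂S
    have hγ₁ : ∀ a ∈ T₁, autFun γ a = f₁ a := fun a ha => by
      have h := he a ha 1 T₂.one_mem (by rw [mul_one]; exact Subgroup.mem_sup_left ha)
      rwa [hf₂.map_one, mul_one, mul_one] at h
    have hγ₂ : ∀ b ∈ T₂, autFun γ b = f₂ b := fun b hb => by
      have h := he 1 T₁.one_mem b hb (by rw [one_mul]; exact Subgroup.mem_sup_right hb)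
      rwa [hf₁.map_one, one_mul, one_mul] at h
    obtain ⟨α₁, hα₁, hα₁e⟩ := exists_aut hf₁ (hf₁.img_eq_self fun x hx => hf₁.mem hx)
    obtain ⟨α₂, hα₂, hα₂e⟩ := exists_aut hf₂ (hf₂.img_eq_self fun x hx => hf₂.mem hx)
    have hord : ∀ {A : Subgroup Ω} (hA : A ≤ (T₁ ⊔ T₂)) {a : MulAut A},
        (∀ x ∈ A, autFun γ x = autFun a x) → (orderOf a).Coprime p := fun {A} hA {a} e =>
      hγc.coprime_dvd_left (orderOf_dvd_of_pow_eq_one (autFun_inj fun x hx => by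
        rw [← autFun_pow_congr hA e (orderOf γ) x hx, pow_orderOf_eq_one, autFun_one (hA hx),
          autFun_one hx]))
    obtain ⟨g₁, hg₁, hg₁f, hg₁C, hg₁T⟩ := exists_ext_fixing hS h₁ hcl₂ hc hfix₁ hα₁
      (hord le_sup_left fun x hx => (hγ₁ x hx).trans (hα₁e x hx).symm)
    obtain ⟨g₂, hg₂, hg₂f, hg₂C, hg₂T⟩ := exists_ext_fixing hS h₂ hcl₁ hc' hfix₂' hα₂
      (hord le_sup_right fun x hx => (hγ₂ x hx).trans (hα₂e x hx).symm)
    have hC₁ : C ≤ centralizerIn S T₁ := centralizerIn_anti le_sup_left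
    have hC₂ : C ≤ centralizerIn S T₂ := centralizerIn_anti le_sup_right
    have hT₁C₂ : T₁ ≤ T₂ ⊔ centralizerIn S T₂ := fun a ha => Subgroup.mem_sup_right
      (mem_centralizerIn.mpr ⟨hT₁S ha, fun t ht => by
        rw [cj_apply, cj_fixed_iff]; exact comm_of_commutator_bot hc ha ht⟩)
    have hT₂C₁ : T₂ ≤ T₁ ⊔ centralizerIn S T₁ := fun b hb => Subgroup.mem_sup_right
      (mem_centralizerIn.mpr ⟨hT₂S hb, fun t ht => by
        rw [cj_apply, cj_fixed_iff]; exact (comm_of_commutator_bot hc ht hb).symm⟩)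
    have hdom : (T₁ ⊔ T₂) ⊔ C ≤ T₁ ⊔ centralizerIn S T₁ :=
      sup_le (sup_le le_sup_left hT₂C₁) (hC₁.trans le_sup_right)
    have hdom₂ : (T₁ ⊔ T₂) ⊔ C ≤ T₂ ⊔ centralizerIn S T₂ :=
      sup_le (sup_le hT₁C₂ le_sup_left) (hC₂.trans le_sup_right)
    have hm : ∀ x ∈ (T₁ ⊔ T₂) ⊔ C, g₁ x ∈ T₂ ⊔ centralizerIn S T₂ := by
      intro x hx
      refine hdom₂ ?_
      have h := mem_img_of_mem g₁ hx
      rw [(hg₁.restrict hdom).img_sup] at h
      refine (sup_le ((img_le fun y hy => ?_).trans le_sup_left) (img_le fun c hc' => ?_) :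
        img (T₁ ⊔ T₂) g₁ ⊔ img C g₁ ≤ (T₁ ⊔ T₂) ⊔ C) h
      · obtain ⟨a, ha, b, hb, rfl⟩ := hsplit hy
        rw [hg₁.map_mul (Subgroup.mem_sup_left ha) (hT₂C₁ hb), hg₁T b hb, hg₁f a ha]
        exact Subgroup.mul_mem _ (Subgroup.mem_sup_left (autFun_mem α₁ ha))
          (Subgroup.mem_sup_right hb)
      · have h := Subgroup.mul_mem ((T₁ ⊔ T₂) ⊔ C) (Subgroup.mem_sup_right hc')
          (Subgroup.mem_sup_left (Subgroup.mem_sup_left (hg₁C c (hC₁ hc')).1))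
        rwa [mul_inv_cancel_left] at h
    refine ⟨g₂ ∘ g₁, (hg₁.restrict hdom).comp hg₂ hm, fun x hx => ?_, fun c hcC => ?_⟩
    · obtain ⟨a, ha, b, hb, rfl⟩ := hsplit hx
      show g₂ (g₁ (a * b)) = _
      rw [hg₁.map_mul (Subgroup.mem_sup_left ha) (hT₂C₁ hb), hg₁T b hb, hg₁f a ha,
        hg₂.map_mul (hT₁C₂ (autFun_mem α₁ ha)) (Subgroup.mem_sup_left hb),
        hg₂T _ (autFun_mem α₁ ha), hg₂f b hb, he a ha b hb hx, hα₁e a ha, hα₂e b hb]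
    · have h₁' := (hg₁C c (hC₁ hcC)).1
      set t := c⁻¹ * g₁ c with ht
      show c⁻¹ * g₂ (g₁ c) ∈ (T₁ ⊔ T₂)
      rw [show g₁ c = c * t by rw [ht, mul_inv_cancel_left],
        hg₂.map_mul (Subgroup.mem_sup_right (hC₂ hcC)) (hT₁C₂ h₁'), hg₂T t h₁', ← mul_assoc]
      exact (T₁ ⊔ T₂).mul_mem (Subgroup.mem_sup_right (hg₂C c (hC₂ hcC)).1) (Subgroup.mem_sup_left h₁')
  exact isNormalIn_of_goodExt hw fun α hα => mem_goodExtAut.mp (hgood hα)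

end CfsgLib.Fusion
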