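import Mathlib
import Cfsg.Agent.Lib.Fusion.Components
import Cfsg.Agent.Lib.Fusion.MovingTools
import Cfsg.Agent.Lib.Fusion.ComponentCentral

/-!
# Normal subsystems of quasisimple systems
-/

set_option autoImplicit false
set_option linter.unusedSectionVars false
set_option maxHeartbeats 1000000

namespace CfsgLib.Fusion

open Cfsg Cfsg.FusionSystem

universe u

variable {Ω : Type u} [Group Ω] {S : Subgroup Ω} [Finite S] {F : FusionSystem S}
  {p : ℕ} [hp : Fact p.Prime]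

/-- The centre of a quasisimple system is a proper subgroup. -/
theorem quasisimple_not_le_center (hS : IsPGroup p S) (hq : F.Quasisimple p) :
    ¬ S ≤ F.center := by
  obtain ⟨hF, -, hsimple⟩ := hq
  intro h
  set θ := QuotientGroup.mk' (F.center.subgroupOf S) with hθ
  have hker : ∀ s : S, θ s = 1 ↔ (s : Ω) ∈ F.center := fun s =>
    (QuotientGroup.eq_one_iff s).trans Subgroup.mem_subgroupOf
  obtain ⟨E, hE⟩ := exists_factorSystem
    (isNormal_stronglyClosed (isNormal_of_isCentral (isCentral_center F))) hker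
    (MonoidHom.range_eq_top.mpr (QuotientGroup.mk'_surjective _))
  refine (hsimple E hE).2.1 ((Subgroup.eq_bot_iff_forall _).mpr fun y _ => ?_)
  obtain ⟨s, rfl⟩ := QuotientGroup.mk'_surjective _ y
  exact (hker s).mpr (h s.2)

/-- A power of a product is congruent to the power of the normalizing factor. -/
theorem pow_mul_congr {M : Type*} [Group M] {N : Subgroup M} {γ δ : M} (hγ : γ ∈ N)
    (hδ : ∀ x ∈ N, δ * x * δ⁻¹ ∈ N) (n : ℕ) : (γ * δ) ^ n * (δ ^ n)⁻¹ ∈ N := by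
  induction n with
  | zero => simp
  | succ n ih =>
    have h := N.mul_mem hγ (hδ _ ih)
    rw [pow_succ' (γ * δ), pow_succ' δ, mul_inv_rev]
    simpa [mul_assoc] using h

/-- A normal subsystem of a quasisimple system is central or everything. -/
theorem quasisimple_normal_dichotomy (hS : IsPGroup p S) (hq : F.Quasisimple p) {R : Subgroup Ω}
    {Y : FusionSystem R} (hY : Y.IsNormalIn F p) :
    R ≤ F.center ∨ (R = S ∧ ∀ P f, IsMor F P f → IsMor Y P f) := by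
  obtain ⟨hF, hhyp, hsimple⟩ := hq
  have hYinv := strongInv_of_isNormalIn hS hF hY
  obtain ⟨hYs, -, hYsub, hRcl, -⟩ := id hY.1
  obtain ⟨hRS, hRsc⟩ := stronglyClosed_iff.mp hRcl
  have hYF := fun P f h => le_iff_isMor.mp hYsub P f h
  have : Finite R := finite_of_le hRS
  have hRp : IsPGroup p R := isPGroup_of_le hRS hS
  set Z := F.center with hZdef
  have hcen : F.IsCentral Z := isCentral_center F
  have hZS : Z ≤ S := hcen.1
  set θ := QuotientGroup.mk' (F.center.subgroupOf S) with hθ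
  have hker : ∀ s : S, θ s = 1 ↔ (s : Ω) ∈ Z := fun s =>
    (QuotientGroup.eq_one_iff s).trans Subgroup.mem_subgroupOf
  have hrange : θ.range = ⊤ := MonoidHom.range_eq_top.mpr (QuotientGroup.mk'_surjective _)
  have hCsc := isNormal_stronglyClosed (isNormal_of_isCentral hcen)
  obtain ⟨E, hE⟩ := exists_factorSystem hCsc hker hrange
  obtain ⟨hEs, -, hnor⟩ := hsimple E hE
  have : Finite ↥(⊤ : Subgroup (↥S ⧸ F.center.subgroupOf S)) :=
    Finite.of_equiv _ (Subgroup.topEquiv.symm.toEquiv)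
  have hpT : IsPGroup p ↥(⊤ : Subgroup (↥S ⧸ F.center.subgroupOf S)) :=
    (hS.to_quotient _).of_equiv Subgroup.topEquiv.symm
  have H : CLift F Z θ E
      (innerFusionSystem (⊥ : Subgroup (↥S ⧸ F.center.subgroupOf S))) p :=
    ⟨hS, hF, hcen, hE, inner_isNormalIn hpT hEs (isNormal_bot E)⟩
  -- the image of `Y`
  let θR : R →* (↥S ⧸ F.center.subgroupOf S) := θ.comp (Subgroup.inclusion hRS)
  have hθR : ∀ {x : Ω} (hx : x ∈ R), θR ⟨x, hx⟩ = thF θ x := fun {x} hx =>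
    (thF_of_mem θ (hRS hx)).symm
  have hkerR : ∀ r : R, θR r = 1 ↔ (r : Ω) ∈ R ⊓ Z := fun r =>
    (hker ⟨r, hRS r.2⟩).trans ⟨fun h => ⟨r.2, h⟩, fun h => h.2⟩
  set Rb := imageAlong θ R with hRb
  have hrangeR : θR.range = Rb := by
    ext y
    constructor
    · rintro ⟨r, rfl⟩
      exact ⟨⟨r, hRS r.2⟩, r.2, rfl⟩
    · rintro ⟨s, hs, rfl⟩
      exact ⟨⟨s, hs⟩, rfl⟩
  have hWsc : Y.StronglyClosed (R ⊓ Z) := stronglyClosed_iff.mpr ⟨inf_le_left, fun P f hf x hx hxW =>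
    ⟨hf.mem hx, (H.fixW (hYF P f hf) hxW.2 hx).symm ▸ hxW.2⟩⟩
  obtain ⟨Yb, hYb⟩ := exists_factorSystem hWsc hkerR hrangeR
  have hYbs : Yb.IsSaturated p := factor_isSaturated hRp hYs hWsc hYb
  have hpre : ∀ {P' : Subgroup (↥S ⧸ F.center.subgroupOf S)} {x : Ω},
      x ∈ preimageAlong θR P' ↔ x ∈ R ∧ thF θ x ∈ P' := fun {P' x} =>
    mem_preimageAlong.trans
      ⟨fun ⟨h, h'⟩ => ⟨h, hθR h ▸ h'⟩, fun ⟨h, h'⟩ => ⟨h, (hθR h).symm ▸ h'⟩⟩
  have hdec : ∀ {y}, y ∈ Rb → ∃ r ∈ R, thF θ r = y := fun hy =>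
    (mem_imageAlong_thF θ hRS).mp hy
  have hliftY : ∀ {P' f'}, IsMor Yb P' f' → ∃ f, IsMor Y (preimageAlong θR P') f ∧
      ∀ x ∈ preimageAlong θR P', f' (thF θ x) = thF θ (f x) := by
    intro P' f' hf'
    obtain ⟨f, hf, e⟩ := factor_lift hYb hf'
    refine ⟨f, hf, fun x hx => ?_⟩
    obtain ⟨hxR, hxP⟩ := hpre.mp hx
    have h := e ⟨x, hxR⟩ (hf.mem hx) ((hθR hxR).symm ▸ hxP)
    rwa [hθR hxR, hθR (hf.mem hx)] at h
  have hpushY : ∀ {P' f}, P' ≤ Rb → IsMor Y (preimageAlong θR P') f → ∃ f', IsMor Yb P' f' ∧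
      ∀ x ∈ preimageAlong θR P', f' (thF θ x) = thF θ (f x) := by
    intro P' f hP' hf
    obtain ⟨f', hf', e⟩ := factor_push hYb hWsc hP' hf
    refine ⟨f', hf', fun x hx => ?_⟩
    obtain ⟨hxR, hxP⟩ := hpre.mp hx
    have h := e ⟨x, hxR⟩ (hf.mem hx) ((hθR hxR).symm ▸ hxP)
    rwa [hθR hxR, hθR (hf.mem hx)] at h
  have hYbE : Yb.IsSubsystemOf E := by
    refine le_iff_isMor.mpr fun P' f' hf' => ?_
    have hP' : P' ≤ Rb := hf'.le
    obtain ⟨f, hf, hfe⟩ := hliftY hf'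
    obtain ⟨g, hg, hgf, hgZ⟩ := (isCentral_iff.mp hcen).2 _ f (hYF _ _ hf)
    have hle : preimageAlong θ P' ≤ preimageAlong θR P' ⊔ Z := by
      intro x hx
      obtain ⟨hxS, hxP⟩ := (mem_preimageAlong_thF θ).mp hx
      obtain ⟨r, hr, hre⟩ := hdec (hP' hxP)
      have h1 := (H.thF_eq_iff (hRS hr) hxS).mp hre
      have h2 := Subgroup.mul_mem _
        (Subgroup.mem_sup_left (T := Z) (hpre.mpr ⟨hr, hre ▸ hxP⟩))
        (Subgroup.mem_sup_right (S := preimageAlong θR P') h1)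
      rwa [mul_inv_cancel_left] at h2
    obtain ⟨g', hg', hge⟩ := H.push (hg.restrict hle) (H.W_le_pre P')
    rw [H.image_pre le_top] at hg'
    refine hg'.congr fun y hy => ?_
    obtain ⟨r, hr, rfl⟩ := hdec (hP' hy)
    have hrp := hpre.mpr ⟨hr, hy⟩
    rw [hge r ((mem_preimageAlong_thF θ).mpr ⟨hRS hr, hy⟩), hgf r hrp, hfe r hrp]
  have hRbsc : E.StronglyClosed Rb := by
    refine stronglyClosed_iff.mpr ⟨le_top, fun P' f' hf' y hy hyR => ?_⟩
    obtain ⟨g, hg, hge⟩ := H.lift hf'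
    obtain ⟨r, hr, rfl⟩ := hdec hyR
    have hrp : r ∈ preimageAlong θ P' := (mem_preimageAlong_thF θ).mpr ⟨hRS hr, hy⟩
    rw [hge r hrp]
    exact thF_mem_imageAlong θ hRS (hRsc _ g hg r hrp hr)
  have hinv : StrongInv Yb E := by
    intro P' Q' f' g' hPQ hQR hf' hfQ hg'
    obtain ⟨f, hf, hfe⟩ := hliftY hf'
    obtain ⟨g, hg, hge⟩ := H.lift hg'
    have hQR' : preimageAlong θR Q' ≤ preimageAlong θ Q' := fun x hx => by
      obtain ⟨hxR, hxQ⟩ := hpre.mp hx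
      exact (mem_preimageAlong_thF θ).mpr ⟨hRS hxR, hxQ⟩
    have hPRQR : preimageAlong θR P' ≤ preimageAlong θR Q' := fun x hx => by
      obtain ⟨hxR, hxP⟩ := hpre.mp hx
      exact hpre.mpr ⟨hxR, hPQ hxP⟩
    have hgR := hg.restrict hQR'
    obtain ⟨k, hk, hke⟩ := hYinv _ _ f g hPRQR (preimageAlong_le _) hf (fun x hx =>
      hpre.mpr ⟨hf.mem hx, hfe x hx ▸ hfQ _ (hpre.mp hx).2⟩) hgR
    have hgP : IsMor E P' g' := hg'.restrict hPQ
    have himg : img P' g' ≤ Rb := img_le fun y hy =>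
      (stronglyClosed_iff.mp hRbsc).2 P' g' hgP y hy (hQR (hPQ hy))
    have hle : preimageAlong θR (img P' g') ≤ img (preimageAlong θR P') g := by
      intro y hy
      obtain ⟨hyR, hy'⟩ := hpre.mp hy
      obtain ⟨z, hz, hze⟩ := hgP.mem_img.mp hy'
      obtain ⟨r, hr, rfl⟩ := hdec (hQR (hPQ hz))
      have hrp := hpre.mpr ⟨hr, hz⟩
      rw [hge r (hQR' (hPRQR hrp))] at hze
      have hgr : g r ∈ R := hRsc _ g hg r (hQR' (hPRQR hrp)) hr
      have hd : (g r)⁻¹ * y ∈ R ⊓ Z :=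
        ⟨R.mul_mem (R.inv_mem hgr) hyR, (H.thF_eq_iff (hRS hgr) (hRS hyR)).mp hze⟩
      have hdp := le_preimageAlong hkerR inf_le_left P' hd
      refine (hgR.restrict hPRQR).mem_img.mpr ⟨r * ((g r)⁻¹ * y), Subgroup.mul_mem _ hrp hdp, ?_⟩
      rw [hg.map_mul (hQR' (hPRQR hrp)) (hQR' (hPRQR hdp)),
        H.fixW hg hd.2 (hQR' (hPRQR hdp)), mul_inv_cancel_left]
    obtain ⟨k', hk', hk'e⟩ := hpushY himg (hk.restrict hle)
    refine ⟨k', hk', fun y hy => ?_⟩
    obtain ⟨r, hr, rfl⟩ := hdec (hQR (hPQ hy))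
    have hrp := hpre.mpr ⟨hr, hy⟩
    have hgr : g r ∈ R := hRsc _ g hg r (hQR' (hPRQR hrp)) hr
    rw [hge r (hQR' (hPRQR hrp))]
    have hgrp : g r ∈ preimageAlong θR (img P' g') :=
      hpre.mpr ⟨hgr, hge r (hQR' (hPRQR hrp)) ▸ mem_img_of_mem g' hy⟩
    rw [hk'e _ hgrp, hke r hrp, hfe r hrp]
    refine (hge _ (hQR' (hpre.mpr ⟨hf.mem hrp, ?_⟩))).symm
    exact hfe r hrp ▸ hfQ _ hy
  have hYw : Yb.IsWeaklyNormalIn E p :=
    ⟨hYbs, hEs, (Cfsg.Agent.S5119.result p hpT E hEs Yb hYbE hRbsc).mpr (strongInv_iff.mp hinv)⟩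
  have : Finite Rb := finite_of_le (le_top : Rb ≤ (⊤ : Subgroup (↥S ⧸ F.center.subgroupOf S)))
  have hres := residual_isPPrimeResidual (isPGroup_of_le le_top hpT) hYbs
  rcases hnor _ _ (residual_normal hpT hEs hYw hres) with hbot | ⟨htop, hall⟩
  · exact Or.inl fun x hx => (H.thF_eq_one (hRS hx)).mp
      (Subgroup.mem_bot.mp (hbot.le (thF_mem_imageAlong θ hRS hx)))
  right
  have hsplit : ∀ x ∈ S, ∃ r ∈ R, r⁻¹ * x ∈ Z := fun x hx => by
    obtain ⟨r, hr, hre⟩ := hdec (htop.ge (Subgroup.mem_top (thF θ x)))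
    exact ⟨r, hr, (H.thF_eq_iff (hRS hr) hx).mp hre⟩
  have hRS' : R = S := by
    refine le_antisymm hRS (hhyp.ge.trans (hyp_le fun P hP α hα _ x hx => ?_))
    obtain ⟨g, hg, hgf, hgZ⟩ := (isCentral_iff.mp hcen).2 P _ (isMor_autFun hP hα)
    obtain ⟨r, hr, hrz⟩ := hsplit x (hP hx)
    set z := r⁻¹ * x with hz
    have hxW : x ∈ P ⊔ Z := Subgroup.mem_sup_left hx
    have hzW : z ∈ P ⊔ Z := Subgroup.mem_sup_right hrz
    have hrW : r ∈ P ⊔ Z := by
      have h := Subgroup.mul_mem _ hxW (Subgroup.inv_mem _ hzW)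
      rwa [hz, mul_inv_rev, inv_inv, mul_inv_cancel_left] at h
    have hgr : g r ∈ R := hRsc _ g hg r hrW hr
    have hxe : x = r * z := by rw [hz, mul_inv_cancel_left]
    have hαx : autFun α x = g r * z := by
      rw [← hgf x hx, hxe, hg.map_mul hrW hzW, hgZ z hrz]
    have hd : r⁻¹ * g r ∈ R := R.mul_mem (R.inv_mem hr) hgr
    have hc : (r⁻¹ * g r) * z = z * (r⁻¹ * g r) := F.center_le_centralizer hrz _ (hRS hd)
    rw [hαx, hxe, show (r * z)⁻¹ * (g r * z) = z⁻¹ * ((r⁻¹ * g r) * z) by group, hc,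
      inv_mul_cancel_left]
    exact hd
  subst hRS'
  refine ⟨rfl, le_iff_isMor.mp (le_of_coprime_aut hS hF fun P hP α hα hc => ?_)⟩
  obtain ⟨g, hg, hgf, hgZ⟩ := (isCentral_iff.mp hcen).2 P _ (isMor_autFun hP hα)
  set W := P ⊔ Z with hW
  have hgW : img W g = W := by
    rw [hW, hg.img_sup, img_congr hgf, img_autFun, img_congr (g := id) hgZ, img_id]
  have hWS : W ≤ R := sup_le hP hZS
  obtain ⟨β, hβ, hβe⟩ := exists_aut hg hgW
  obtain ⟨g', hg', hge⟩ := H.push hg le_sup_right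
  have hg'Y : IsMor Yb (imageAlong θ W) g' :=
    le_iff_isMor.mp (residual_sub (isPGroup_of_le le_top hpT) hYbs) _ _
      ((hom_eq_iff.mp (hall _) g').mpr hg')
  obtain ⟨f, hf, hfe⟩ := hliftY hg'Y
  have hWpre : W ≤ preimageAlong θR (imageAlong θ W) := fun x hx =>
    hpre.mpr ⟨hWS hx, thF_mem_imageAlong θ hWS hx⟩
  have hfd : ∀ x ∈ W, (f x)⁻¹ * g x ∈ Z := fun x hx =>
    (H.thF_eq_iff (hf.mem (hWpre hx)) (hg.mem hx)).mp (by rw [← hfe x (hWpre hx), hge x hx])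
  have hfm : IsMor Y W f := hf.restrict hWpre
  have : Finite W := finite_of_le hWS
  have hfW : img W f = W := hfm.img_eq_self fun x hx => by
    have h := Subgroup.mul_mem W (hgW ▸ mem_img_of_mem g hx : g x ∈ W)
      (W.inv_mem (Subgroup.mem_sup_right (hfd x hx)))
    rwa [mul_inv_rev, inv_inv, mul_inv_cancel_left] at h
  obtain ⟨γ, hγ, hγe⟩ := exists_aut hfm hfW
  have hγF : γ ∈ F.autGroup W := autGroup_mono hYsub hγ
  set δ := γ⁻¹ * β with hδ
  have hδF : δ ∈ F.autGroup W := Subgroup.mul_mem _ (Subgroup.inv_mem _ hγF) hβ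
  have hδd : ∀ x ∈ W, x⁻¹ * autFun δ x ∈ Z := by
    intro x hx
    set y := autFun δ x with hy
    have hym : y ∈ W := autFun_mem δ hx
    have h1 : f y = g x := by
      rw [hy, hδ, autFun_mul _ _ hx, ← hγe _ (autFun_mem _ (autFun_mem β hx)),
        autFun_inv_right γ (autFun_mem β hx), hβe x hx]
    have h2 := hfd x hx
    rw [← h1, ← hfm.map_inv hx, ← hfm.map_mul (W.inv_mem hx) hym] at h2
    have h3 : x⁻¹ * y ∈ W := W.mul_mem (W.inv_mem hx) hym
    exact mem_of_map_mem hCsc (hYF _ _ hfm) le_sup_right h3 h2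
  have hδZ : ∀ z ∈ Z, autFun δ z = z := fun z hz =>
    H.fixW (isMor_autFun hWS hδF) hz (Subgroup.mem_sup_right hz)
  obtain ⟨k, hk⟩ := (IsPGroup.iff_card).mp hS
  have hδk : δ ^ p ^ k = 1 := autFun_inj fun x hx => by
    have hn : ∀ n : ℕ, autFun (δ ^ n) x = x * (x⁻¹ * autFun δ x) ^ n := by
      intro n
      induction n with
      | zero => rw [pow_zero, autFun_one hx, pow_zero, mul_one]
      | succ n ih =>
        have hzn := W.pow_mem (Subgroup.mem_sup_right (hδd x hx)) n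
        rw [pow_succ', autFun_mul _ _ hx, ih, autFun_map_mul δ hx hzn,
          hδZ _ (Z.pow_mem (hδd x hx) n), pow_succ' (x⁻¹ * autFun δ x), ← mul_assoc,
          mul_inv_cancel_left]
    have he : (x⁻¹ * autFun δ x) ^ p ^ k = 1 := by
      have h1 := pow_card_eq_one' (G := R) (x := ⟨_, hZS (hδd x hx)⟩)
      rw [hk] at h1
      exact congrArg Subtype.val h1
    rw [hn, he, mul_one, autFun_one hx]
  have hpow : β ^ p ^ k ∈ Y.autGroup W := by
    have hconj : ∀ y ∈ Y.autGroup W, δ * y * δ⁻¹ ∈ Y.autGroup W := fun y hy =>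
      autGroup_conj_mem hYinv hRcl hWS hδF hy
    have h := pow_mul_congr hγ hconj (p ^ k)
    rwa [hδk, inv_one, mul_one, hδ, mul_inv_cancel_left] at h
  have hres' : α ^ p ^ k ∈ Y.autGroup P := (autGroup_eq_set hP _).mpr
    (((isMor_autFun hWS hpow).restrict le_sup_left).congr
      (autFun_pow_congr le_sup_left (fun x hx => (hβe x (Subgroup.mem_sup_left hx)).trans (hgf x hx))
        (p ^ k)))
  exact mem_of_pow_coprime_exp (hc.pow_right k).symm hres'
    (by rw [pow_orderOf_eq_one]; exact one_mem _)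

end CfsgLib.Fusion
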