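import Mathlib
import Cfsg.Agent.Lib.Fusion.QuasisimpleNormal
import Cfsg.Agent.Lib.Fusion.MeetMax
import Cfsg.Agent.Lib.Fusion.FixExtend
import Cfsg.Agent.Lib.Fusion.NormalCentralizerSystem

/-!
# Components and normal subsystems
-/

set_option autoImplicit false
set_option linter.unusedSectionVars false
set_option maxHeartbeats 1000000

namespace CfsgLib.Fusion

open Cfsg Cfsg.FusionSystem

universe u

variable {Ω : Type u} [Group Ω] {S T U : Subgroup Ω} {F : FusionSystem S} {C : FusionSystem T}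
  {p : ℕ}

theorem subnormal_meet_aux (hC : C.IsSubnormalIn F p) :
    Fact p.Prime → Finite S → IsPGroup p S → C.Quasisimple p → F.IsSaturated p →
      ∀ (U : Subgroup Ω) (D : FusionSystem U), D.IsNormalIn F p →
        C.IsSubnormalIn D p ∨ T ⊓ U ≤ C.center := by
  induction hC with
  | refl F p =>
    intro hp _ hS hq _ U D hD
    rcases quasisimple_normal_dichotomy hS hq hD with h | ⟨rfl, hall⟩
    · exact Or.inr (inf_le_right.trans h)
    · refine Or.inl ?_
      have e : F = D := fusion_ext fun P f =>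
        ⟨hall P f, le_iff_isMor.mp hD.1.2.2.1 P f⟩
      rw [e]
      exact .refl D p
  | @step V S' E D₁ F' p hED hD₁ ih =>
    intro hp _ hS hq hF U D hD
    have hm : MeetHyp F' D₁ D p := ⟨hS, hF, hD₁, hD⟩
    obtain ⟨X, -, hX₁, hX₂, -, -⟩ := hm.exists_normal
    have hVS := hD₁.1.2.2.2.1.1
    rcases ih hp (finite_of_le hVS) (isPGroup_of_le hVS hS) hq hD₁.1.1 _ X hX₁ with h | h
    · exact Or.inl (h.step hX₂)
    · exact Or.inr fun x hx => h ⟨hx.1, subnormal_le hED hx.1, hx.2⟩

variable [hp : Fact p.Prime] [Finite S]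

/-- A component lies in a normal subsystem or meets it centrally. -/
theorem component_or_central (hS : IsPGroup p S) (hF : F.IsSaturated p)
    (hC : C.IsComponentIn F p) {D : FusionSystem U} (hD : D.IsNormalIn F p) :
    C.IsComponentIn D p ∨ T ⊓ U ≤ C.center :=
  (subnormal_meet_aux hC.1 hp inferInstance hS hC.2 hF U D hD).imp (fun h => ⟨h, hC.2⟩) id

theorem component_not_le_center (hS : IsPGroup p S) (hC : C.IsComponentIn F p) :
    ¬ T ≤ C.center := by
  have hTS := subnormal_le hC.1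
  have : Finite T := finite_of_le hTS
  exact quasisimple_not_le_center (isPGroup_of_le hTS hS) hC.2

/-- A component whose support lies in that of a normal subsystem is a component of it. -/
theorem component_of_le (hS : IsPGroup p S) (hF : F.IsSaturated p) (hC : C.IsComponentIn F p)
    {D : FusionSystem U} (hD : D.IsNormalIn F p) (hTU : T ≤ U) : C.IsComponentIn D p :=
  (component_or_central hS hF hC hD).resolve_right fun h =>
    component_not_le_center hS hC ((le_inf le_rfl hTU).trans h)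

theorem component_of_sub (hS : IsPGroup p S) (hF : F.IsSaturated p) (hC : C.IsComponentIn F p)
    {D : FusionSystem U} (hD : D.IsNormalIn F p) (hCD : C.IsSubsystemOf D) :
    C.IsComponentIn D p :=
  component_of_le hS hF hC hD (le_iff_isMor.mp hCD T id (isMor_id C le_rfl)).le

theorem component_isSubsystemOf (hF : F.IsSaturated p) (hC : C.IsComponentIn F p) :
    C.IsSubsystemOf F := (subnormal_saturated hC.1 hF).2

omit hp [Finite S] in
theorem component_cElts_aux (hC : C.IsSubnormalIn F p) :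
    Fact p.Prime → Finite S → IsPGroup p S → C.Quasisimple p → F.IsSaturated p →
      ∀ (U : Subgroup Ω) (D : FusionSystem U), D.IsNormalIn F p →
        T ⊓ U ≤ C.center → T ≤ cElts F D p := by
  induction hC with
  | refl F p =>
    intro hp _ hS hq hF U D hD hUZ
    have hUS : U ≤ T := hD.1.2.2.2.1.1
    have hUZ' : U ≤ F.center := fun u hu => hUZ ⟨hUS hu, hu⟩
    have hTU' : T ≤ centralizerIn T U := fun t ht => mem_centralizerIn.mpr ⟨ht, fun u hu => by
      rw [cj_apply, cj_fixed_iff]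
      exact F.center_le_centralizer (hUZ' hu) t ht⟩
    refine hq.2.1.ge.trans (hyp_le fun P hP α hα _ x hx => ?_)
    obtain ⟨g, hg, hgf, hgZ⟩ :=
      (isCentral_iff.mp (isCentral_center F)).2 P _ (isMor_autFun hP hα)
    have h := diff_mem_cElts (E := D) (p := p) hS hF (hP.trans hTU')
      (hg.restrict (sup_le_sup_left hUZ' P)) (fun t ht => hgZ t (hUZ' ht)) x hx
    rwa [hgf x hx] at h
  | @step V S' C D₁ F' p hED hD₁ ih =>
    intro hp _ hS hq hF U D hD hUZ
    set W := V ⊓ U with hW
    have hm : MeetHyp F' D₁ D p := ⟨hS, hF, hD₁, hD⟩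
    obtain ⟨X, -, hX₁, -, -, -⟩ := hm.exists_normal
    obtain ⟨hD₁s, -, hsub, hV, -⟩ := id hD₁.1
    have hVS : V ≤ S' := hV.1
    have : Finite V := finite_of_le hVS
    have hVp := isPGroup_of_le hVS hS
    have hTV : T ≤ V := subnormal_le hED
    have hTS := hTV.trans hVS
    have hTW : T ⊓ W ≤ C.center := fun x hx => hUZ ⟨hx.1, hx.2.2⟩
    have hT := ih hp inferInstance hVp hq hD₁s W X hX₁ hTW
    obtain ⟨Dc, hDc, hDcfix⟩ := exists_centralizer_normal hVp hD₁s hX₁
    have hC₁ : C.IsComponentIn D₁ p := ⟨hED, hq⟩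
    have : Finite (cElts D₁ X p) := finite_of_le cElts_le'
    have hCDc := component_isSubsystemOf hDc.1.1 (component_of_le hVp hD₁s hC₁ hDc hT)
    have hfix : ∀ P f, IsMor C P f → ∃ g, IsMor D₁ (P ⊔ W) g ∧ (∀ x ∈ P, g x = f x) ∧
        ∀ w ∈ W, g w = w := by
      intro P f hf
      obtain ⟨φ, hφ, e⟩ := le_iff_isMor.mp hCDc P f hf
      obtain ⟨-, -, -, g, hg, hge, hgW⟩ := mem_centralizerHom.mp (hDcfix P hφ)
      exact ⟨g, hg, fun x hx => (hge x hx).trans ((toFun_of_mem φ hx).trans (e _)), hgW⟩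
    have hTcW : T ≤ centralizerIn V W := hT.trans cElts_le
    obtain ⟨hUS, -⟩ := stronglyClosed_iff.mp hD.1.2.2.2.1
    have hSV := stronglyClosed_le_normalizer hV
    have hSU := stronglyClosed_le_normalizer hD.1.2.2.2.1
    have key : ∀ P, P ≤ T → ∀ α ∈ C.autGroup P, (orderOf α).Coprime p → ∀ x ∈ P,
        x⁻¹ * autFun α x ∈ centralizerIn S' U ∧ ∃ g, IsMor F' (P ⊔ U) g ∧
          (∀ y ∈ P, g y = autFun α y) ∧ ∀ y ∈ U, g y = y := by
      intro P hP α hα hc x hx
      obtain ⟨g, hg, hgα, hgW⟩ := hfix P _ (isMor_autFun hP hα)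
      set Q := P ⊔ W with hQ
      have hgQ : img Q g = Q := by
        rw [hQ, hg.img_sup, img_congr hgα, img_autFun, img_congr (g := id) hgW, img_id]
      obtain ⟨β₀, hβ₀, hβ₀e⟩ := exists_aut hg hgQ
      have hQV : Q ≤ V := hg.le
      obtain ⟨j, hj, hjα⟩ := exists_coprime_restrict hQV le_sup_left hc (γ := β₀)
        fun y hy => (hβ₀e y (Subgroup.mem_sup_left hy)).trans (hgα y hy)
      have hjW : ∀ w ∈ W, autFun (β₀ ^ j) w = w := fun w hw => by
        rw [autFun_pow_congr le_sup_right (a := (1 : MulAut W))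
          (fun z hz => by rw [hβ₀e z (Subgroup.mem_sup_right hz), hgW z hz, autFun_one hz]) j w hw,
          one_pow, autFun_one hw]
      obtain ⟨γ, hγ, hγQ, hγU⟩ := fix_extend hS hF hD₁ hD.1.2.2.2.1 hQV le_sup_right
        (Subgroup.pow_mem _ hβ₀ j) hj hjW
      have hγP : ∀ y ∈ P, γ y = autFun α y := fun y hy => by
        rw [hγQ y (Subgroup.mem_sup_left hy), hjα y hy]
      have hxS := hTS (hP hx)
      refine ⟨mem_centralizerIn.mpr ⟨S'.mul_mem (S'.inv_mem hxS) (hTS (hP (autFun_mem α hx))),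
        fun u hu => ?_⟩, γ, hγ.restrict (sup_le_sup_right le_sup_left U), hγP, hγU⟩
      have hy := autFun_mem α hx
      set δ := x⁻¹ * cj u x with hδ
      have hδW : δ ∈ W := ⟨V.mul_mem (V.inv_mem (hTV (hP hx)))
          ((Subgroup.mem_normalizer_iff.mp (hSV (hUS hu)) x).mp (hTV (hP hx))), by
        rw [hδ, cj_apply, show x⁻¹ * (u * x * u⁻¹) = x⁻¹ * u * x * u⁻¹ by group]
        refine U.mul_mem ?_ (U.inv_mem hu)
        simpa [cj] using
          (Subgroup.mem_normalizer_iff.mp (hSU (S'.inv_mem hxS)) u).mp hu⟩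
      have hxQ : x ∈ Q ⊔ U := Subgroup.mem_sup_left (Subgroup.mem_sup_left hx)
      have huQ : u ∈ Q ⊔ U := Subgroup.mem_sup_right hu
      have h1 : γ (cj u x) = cj u (autFun α x) := by
        rw [cj_apply, hγ.map_conj huQ hxQ, hγU u hu, hγP x hx, cj_apply]
      have hδQ : δ ∈ Q ⊔ U := Subgroup.mem_sup_left (Subgroup.mem_sup_right hδW)
      have h2 : cj u (autFun α x) = autFun α x * δ := by
        rw [← h1, show cj u x = x * δ by rw [hδ, mul_inv_cancel_left], hγ.map_mul hxQ hδQ,
          hγP x hx, hγU δ hδW.2]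
      have h3 : cj u (x⁻¹ * autFun α x) = δ⁻¹ * (x⁻¹ * autFun α x) * δ := by
        have e : cj u x⁻¹ = (cj u x)⁻¹ := by simp [cj, mul_assoc]
        rw [cj_map_mul, e, h2, show cj u x = x * δ by rw [hδ, mul_inv_cancel_left]]
        simp [mul_assoc]
      have h4 : cj (x⁻¹ * autFun α x) δ = δ :=
        (mem_centralizerIn.mp (hTcW (T.mul_mem (T.inv_mem (hP hx)) (hP hy)))).2 δ hδW
      have h5 : cj u (x⁻¹ * autFun α x) = x⁻¹ * autFun α x := by
        rw [h3]
        rw [cj_apply, cj_fixed_iff] at h4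
        rw [mul_assoc, h4, inv_mul_cancel_left]
      rw [cj_apply, cj_fixed_iff] at h5 ⊢
      exact h5.symm
    have hTU : T ≤ centralizerIn S' U := hq.2.1.ge.trans
      (hyp_le fun P hP α hα hc x hx => (key P hP α hα hc x hx).1)
    refine hq.2.1.ge.trans (hyp_le fun P hP α hα hc x hx => ?_)
    obtain ⟨-, g, hg, hgα, hgU⟩ := key P hP α hα hc x hx
    have h := diff_mem_cElts (E := D) (p := p) hS hF (hP.trans hTU) hg hgU x hx
    rwa [hgα x hx] at h

/-- A component meeting a normal subsystem centrally centralizes it. -/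
theorem component_le_cElts (hS : IsPGroup p S) (hF : F.IsSaturated p) (hC : C.IsComponentIn F p)
    {D : FusionSystem U} (hD : D.IsNormalIn F p) (hUZ : T ⊓ U ≤ C.center) : T ≤ cElts F D p :=
  component_cElts_aux hC.1 hp inferInstance hS hC.2 hF U D hD hUZ

end CfsgLib.Fusion
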