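import Mathlib
import Cfsg.Agent.Lib.Fusion.ComponentMeet

/-!
# The layer
-/

set_option autoImplicit false
set_option linter.unusedSectionVars false

namespace CfsgLib.Fusion

open Cfsg Cfsg.FusionSystem

universe u

variable {Ω : Type u} [Group Ω] {S : Subgroup Ω} {F : FusionSystem S}
  {p : ℕ} [hp : Fact p.Prime] [Finite S]

/-- A saturated system is normal in itself. -/
theorem normalIn_refl (hS : IsPGroup p S) (hF : F.IsSaturated p) : F.IsNormalIn F p :=
  isNormalIn_of_goodExt (isWeaklyNormalIn_self hS hF) fun α hα =>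
    ⟨autFun α, (isMor_autFun le_rfl hα).restrict (sup_le le_rfl centralizerIn_le), fun _ _ => rfl,
      fun c hc => S.mul_mem (S.inv_mem (centralizerIn_le hc))
        (autFun_mem α (centralizerIn_le hc))⟩

theorem isSubsystemOf_support {T U : Subgroup Ω} {E : FusionSystem T} {D : FusionSystem U}
    (h : E.IsSubsystemOf D) : T ≤ U := (le_iff_isMor.mp h T id (isMor_id E le_rfl)).le

/-- The layer exists. -/
theorem exists_layer (hS : IsPGroup p S) (hF : F.IsSaturated p) :
    ∃ (T : Subgroup Ω) (E : FusionSystem T), E.IsLayerOf F p := by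
  classical
  let Good : ∀ T : Subgroup Ω, FusionSystem T → Prop := fun T E => E.IsNormalIn F p ∧
    ∀ (U : Subgroup Ω) (C : FusionSystem U), C.IsComponentIn F p → C.IsSubsystemOf E
  have hex : ∃ n, ∃ (T : Subgroup Ω) (E : FusionSystem T), Good T E ∧ Nat.card T = n :=
    ⟨_, S, F, ⟨normalIn_refl hS hF, fun U C hC => component_isSubsystemOf hF hC⟩, rfl⟩
  set n := Nat.find hex with hn
  obtain ⟨T₀, E₀, hG₀, hc₀⟩ := Nat.find_spec hex
  have hex' : ∃ m, ∃ (T : Subgroup Ω) (E : FusionSystem T),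
      Good T E ∧ Nat.card T = n ∧ sysSize E = m := ⟨_, T₀, E₀, hG₀, hc₀, rfl⟩
  obtain ⟨T, E, ⟨hE, hcomp⟩, hTn, hsize⟩ := Nat.find_spec hex'
  refine ⟨T, E, hE, hcomp, fun R D hD hDcomp => ?_⟩
  have hTS : T ≤ S := hE.1.2.2.2.1.1
  have : Finite T := finite_of_le hTS
  have hTp := isPGroup_of_le hTS hS
  have hm : MeetHyp F E D p := ⟨hS, hF, hE, hD⟩
  obtain ⟨X, hX, hXE, hXD, -, -⟩ := hm.exists_normal
  have : Finite ↥(T ⊓ R) := finite_of_le (inf_le_left.trans hTS)
  have hXcomp : ∀ (U : Subgroup Ω) (C : FusionSystem U), C.IsComponentIn F p →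
      C.IsSubsystemOf X := fun U C hC => component_isSubsystemOf hXE.1.1
    (component_of_le hTp hE.1.1 (component_of_sub hS hF hC hE (hcomp U C hC)) hXE
      (le_inf (isSubsystemOf_support (hcomp U C hC)) (isSubsystemOf_support (hDcomp U C hC))))
  have key : ∀ {U' : Subgroup Ω} (X' : FusionSystem U'), U' = T → Good U' X' →
      X'.IsSubsystemOf E → E.IsSubsystemOf X' := by
    intro U' X' hU' hG hsub
    subst hU'
    by_contra hne
    have hlt := sysSize_lt hTp hE.1.1 hsub hne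
    rw [hsize] at hlt
    exact Nat.find_min hex' hlt ⟨_, X', hG, hTn, rfl⟩
  have hTR : T ⊓ R = T := by
    refine eq_of_le_of_card hTS inf_le_left ?_
    rw [hTn]
    exact Nat.find_min' hex ⟨_, X, ⟨hX, hXcomp⟩, rfl⟩
  exact fun P => (key X hTR ⟨hX, hXcomp⟩ hXE.1.2.2.1 P).trans (hXD.1.2.2.1 P)

end CfsgLib.Fusion
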