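import Mathlib
import Cfsg.Agent.Lib.Fusion.CommutingNormal
import Cfsg.Agent.Lib.Fusion.LayerExists

/-!
# Normal subsystems of the factors of a central product
-/

set_option autoImplicit false
set_option linter.unusedSectionVars false
set_option maxHeartbeats 1000000

namespace CfsgLib.Fusion

open Cfsg Cfsg.FusionSystem

variable {Ω : Type*} [Group Ω] {T₁ T₂ T : Subgroup Ω} {E₁ : FusionSystem T₁} {E₂ : FusionSystem T₂}
  {D : FusionSystem T}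

theorem CPData.symm (hd : CPData E₁ E₂ D) : CPData E₂ E₁ D := by
  obtain ⟨hc, htop, hf₁, hf₂, hmor⟩ := hd
  refine ⟨commutator_symm_bot hc, htop.trans (sup_comm T₁ T₂),
    fun P f hf x hx h => hf₂ P f hf x hx ⟨h.2, h.1⟩,
    fun P f hf x hx h => hf₁ P f hf x hx ⟨h.2, h.1⟩, fun P f => (hmor P f).trans ?_⟩
  constructor
  · rintro ⟨hP, f₁, f₂, h₁, h₂, he⟩
    refine ⟨hP.trans (sup_comm T₁ T₂).le, f₂, f₁, h₂, h₁, fun b hb a ha hba => ?_⟩
    have e := comm_of_commutator_bot hc ha hb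
    rw [← e] at hba ⊢
    rw [he a ha b hb hba]
    exact comm_of_commutator_bot hc (h₁.mem ((mem_cproj hc hP).mpr ⟨ha, b, hb, hba⟩))
      (h₂.mem ((mem_cproj_snd hc hP).mpr ⟨hb, a, ha, hba⟩))
  · rintro ⟨hP, f₂, f₁, h₂, h₁, he⟩
    have hP' := hP.trans (sup_comm T₂ T₁).le
    refine ⟨hP', f₁, f₂, h₁, h₂, fun a ha b hb hab => ?_⟩
    have e := comm_of_commutator_bot hc ha hb
    rw [e] at hab ⊢
    rw [he b hb a ha hab]
    exact (comm_of_commutator_bot hc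
      (h₁.mem ((mem_cproj hc hP').mpr ⟨ha, b, hb, e ▸ hab⟩))
      (h₂.mem ((mem_cproj_snd hc hP').mpr ⟨hb, a, ha, e ▸ hab⟩))).symm

/-- Maps of the factors give a map of the product. -/
theorem CPData.exists_map (hd : CPData E₁ E₂ D) {P : Subgroup Ω} (hP : P ≤ T₁ ⊔ T₂)
    {f₁ f₂ : Ω → Ω} (h₁ : IsMor E₁ (cproj T₁ T₂ P) f₁) (h₂ : IsMor E₂ (cproj T₂ T₁ P) f₂) :
    ∃ f, IsMor D P f ∧ ∀ a ∈ T₁, ∀ b ∈ T₂, a * b ∈ P → f (a * b) = f₁ a * f₂ b := by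
  classical
  obtain ⟨hc, -, hfix₁, hfix₂, hmor⟩ := hd
  have hT₁n : T₁ ≤ Subgroup.normalizer (T₂ : Set Ω) :=
    le_sup_left.trans (le_normalizer_of_comm hc)
  let dec : Ω → Prop := fun x => ∃ a ∈ T₁, ∃ b ∈ T₂, a * b = x
  let f : Ω → Ω := fun x => if h : dec x then f₁ h.choose * f₂ h.choose_spec.2.choose else 1
  have key : ∀ a ∈ T₁, ∀ b ∈ T₂, a * b ∈ P → f (a * b) = f₁ a * f₂ b := by
    intro a ha b hb hab
    have h : dec (a * b) := ⟨a, ha, b, hb, rfl⟩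
    simp only [f, dif_pos h]
    obtain ⟨ha', hh⟩ := h.choose_spec
    obtain ⟨hb', he⟩ := hh.choose_spec
    set a' := h.choose
    set b' := hh.choose
    show f₁ a' * f₂ b' = f₁ a * f₂ b
    set z := a⁻¹ * a' with hz
    have hze : z = b * b'⁻¹ := by
      rw [hz, inv_mul_eq_iff_eq_mul, ← mul_assoc, ← he, mul_inv_cancel_right]
    have hzZ : z ∈ T₁ ⊓ T₂ :=
      ⟨T₁.mul_mem (T₁.inv_mem ha) ha', hze ▸ T₂.mul_mem hb (T₂.inv_mem hb')⟩
    have hz1 : z ∈ cproj T₁ T₂ P := (mem_cproj hc hP).mpr ⟨hzZ.1, z⁻¹, T₂.inv_mem hzZ.2, by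
      rw [mul_inv_cancel]; exact one_mem _⟩
    have hz2 : z ∈ cproj T₂ T₁ P := (mem_cproj_snd hc hP).mpr ⟨hzZ.2, z⁻¹, T₁.inv_mem hzZ.1, by
      rw [inv_mul_cancel]; exact one_mem _⟩
    have ha1 : a ∈ cproj T₁ T₂ P := (mem_cproj hc hP).mpr ⟨ha, b, hb, hab⟩
    have hb1 : b' ∈ cproj T₂ T₁ P := (mem_cproj_snd hc hP).mpr ⟨hb', a', ha', he.symm ▸ hab⟩
    rw [show a' = a * z by rw [hz, mul_inv_cancel_left], show b = z * b' by rw [hze, inv_mul_cancel_right],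
      h₁.map_mul ha1 hz1, h₂.map_mul hz2 hb1, hfix₁ _ f₁ h₁ z hz1 hzZ, hfix₂ _ f₂ h₂ z hz2 hzZ,
      mul_assoc]
  exact ⟨f, (hmor P f).mpr ⟨hP, f₁, f₂, h₁, h₂, key⟩, key⟩

theorem CPData.restrict₁ (hd : CPData E₁ E₂ D) {P : Subgroup Ω} (hP : P ≤ T₁) {f : Ω → Ω}
    (hf : IsMor D P f) : IsMor E₁ P f := by
  obtain ⟨hc, -, -, -, hmor⟩ := hd
  obtain ⟨hP', f₁, f₂, h₁, h₂, he⟩ := (hmor P f).mp hf
  have hle : P ≤ cproj T₁ T₂ P := le_inf hP le_sup_left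
  refine (h₁.restrict hle).congr fun x hx => ?_
  have h := he x (hP hx) 1 T₂.one_mem (by rwa [mul_one])
  rw [mul_one, h₂.map_one, mul_one] at h
  exact h.symm

variable {p : ℕ} [hp : Fact p.Prime]

theorem CPData.sub₁ [Finite T₁] (hT₁ : IsPGroup p T₁) (hs₁ : E₁.IsSaturated p)
    (hd : CPData E₁ E₂ D) : E₁.IsSubsystemOf D := by
  refine le_iff_isMor.mpr fun P f hf => ?_
  obtain ⟨hc, -, hfix₁, -, hmor⟩ := id hd
  set Z := T₁ ⊓ T₂
  have hPT : P ≤ T₁ ⊔ T₂ := hf.le.trans le_sup_left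
  have hid : IsMor E₂ (cproj T₂ T₁ P) id := isMor_id E₂ inf_le_left
  -- the components of the elements of `P` lie in `P Z`
  refine (hmor P f).mpr ⟨hPT, ?_⟩
  have hcp : cproj T₁ T₂ P = P ⊔ Z := by
    refine le_antisymm (fun a ha => ?_) (sup_le (le_inf hf.le le_sup_left)
      (le_inf inf_le_left (inf_le_right.trans le_sup_right)))
    obtain ⟨haT, b, hb, hab⟩ := (mem_cproj hc hPT).mp ha
    have hbZ : b ∈ Z := ⟨by
      have h := T₁.mul_mem (T₁.inv_mem haT) (hf.le hab)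
      rwa [inv_mul_cancel_left] at h, hb⟩
    have h := Subgroup.mul_mem _ (Subgroup.mem_sup_left (T := Z) hab)
      (Subgroup.mem_sup_right (S := P) (Z.inv_mem hbZ))
    rwa [mul_inv_cancel_right] at h
  obtain ⟨g, hg, hgf, hgZ⟩ : ∃ g, IsMor E₁ (P ⊔ Z) g ∧ (∀ x ∈ P, g x = f x) ∧
      ∀ z ∈ Z, g z = z := by
    have hZc : E₁.IsCentral Z := (isCentral_iff_fixed hT₁ hs₁).mpr ⟨inf_le_left, hfix₁⟩
    exact (isCentral_iff.mp hZc).2 P f hf
  exact ⟨g, id, hcp ▸ hg, hid, fun a ha b hb hab => by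
    have haPZ : a ∈ P ⊔ Z := hcp ▸ (mem_cproj hc hPT).mpr ⟨ha, b, hb, hab⟩
    have hbT : b ∈ T₁ := by
      have h := T₁.mul_mem (T₁.inv_mem ha) (hf.le hab)
      rwa [inv_mul_cancel_left] at h
    have hbPZ : b ∈ P ⊔ Z := Subgroup.mem_sup_right ⟨hbT, hb⟩
    rw [← hgf _ hab, hg.map_mul haPZ hbPZ, hgZ b ⟨hbT, hb⟩]
    rfl⟩

/-- A normal subsystem of a factor is normal in the central product. -/
theorem CPData.normal_of_factor [Finite T] (hT : IsPGroup p T) (hd : CPData E₁ E₂ D)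
    (hDs : D.IsSaturated p) (hs₁ : E₁.IsSaturated p) {R : Subgroup Ω} {C : FusionSystem R}
    (hC : C.IsNormalIn E₁ p) : C.IsNormalIn D p := by
  obtain ⟨hc, htop, hfix₁, hfix₂, hmor⟩ := id hd
  have hT₁T : T₁ ≤ T := le_sup_left.trans htop.ge
  have hT₂T : T₂ ≤ T := le_sup_right.trans htop.ge
  have : Finite T₁ := finite_of_le hT₁T
  have hT₁p : IsPGroup p T₁ := isPGroup_of_le hT₁T hT
  obtain ⟨hCs, -, hsub, hR, -⟩ := id hC.1
  obtain ⟨hRT₁, hRsc⟩ := stronglyClosed_iff.mp hR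
  have hinv := strongInv_of_isNormalIn hT₁p hs₁ hC
  have hD₁ := hd.sub₁ hT₁p hs₁
  have hclD : D.StronglyClosed R := stronglyClosed_iff.mpr ⟨hRT₁.trans hT₁T, fun P f hf x hxP hxR =>
    hRsc _ f (hd.restrict₁ inf_le_right (hf.restrict (inf_le_left : P ⊓ T₁ ≤ P))) x
      ⟨hxP, hRT₁ hxR⟩ hxR⟩
  have hsubD : C.IsSubsystemOf D := fun P => (hsub P).trans (hD₁ P)
  have hw : C.IsWeaklyNormalIn D p := ⟨hCs, hDs,
    (Cfsg.Agent.S5119.result p hT D hDs C hsubD hclD).mpr (strongInv_iff.mp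
      fun P Q f g hPQ hQR hf hfQ hg =>
        hinv P Q f g hPQ hQR hf hfQ (hd.restrict₁ (hQR.trans hRT₁) hg))⟩
  refine isNormalIn_of_goodExt hw fun α hα => ?_
  obtain ⟨g, hg, hgR, hgC⟩ := goodExt_of_normal hC hα
  set X := R ⊔ centralizerIn T R with hX
  set X₁ := R ⊔ centralizerIn T₁ R with hX₁
  have hXT : X ≤ T₁ ⊔ T₂ := (sup_le (hRT₁.trans hT₁T) centralizerIn_le).trans htop.le
  have hT₁n : T₁ ≤ Subgroup.normalizer (T₂ : Set Ω) :=
    le_sup_left.trans (le_normalizer_of_comm hc)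
  have hcentR : ∀ b ∈ T₂, ∀ r ∈ R, cj b r = r := fun b hb r hr => by
    rw [cj_apply, cj_fixed_iff]
    exact (comm_of_commutator_bot hc (hRT₁ hr) hb).symm
  have hC₁ : ∀ a ∈ T₁, ∀ b ∈ T₂, a * b ∈ centralizerIn T R → a ∈ centralizerIn T₁ R :=
    fun a ha b hb hab => mem_centralizerIn.mpr ⟨ha, fun r hr => by
      have h := (mem_centralizerIn.mp hab).2 r hr
      rwa [cj_mul, hcentR b hb r hr] at h⟩
  have hRn : centralizerIn T R ≤ Subgroup.normalizer (R : Set Ω) := fun c hc' =>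
    (mem_normalizerIn.mp (centralizerIn_le_normalizerIn hc')).2
  have hle : cproj T₁ T₂ X ≤ X₁ := fun a ha => by
    obtain ⟨haT, b, hb, hab⟩ := (mem_cproj hc hXT).mp ha
    obtain ⟨r, hr, c, hc', he⟩ := mem_sup_of_le_normalizer hRn hab
    obtain ⟨a', ha', b', hb', rfl⟩ :=
      mem_sup_of_normalized hT₁n (htop.le (centralizerIn_le hc'))
    have haC := hC₁ a' ha' b' hb' hc'
    set w := (r * a')⁻¹ * a with hw'
    have hwe : w = b' * b⁻¹ := by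
      rw [hw', inv_mul_eq_iff_eq_mul, ← mul_assoc, mul_assoc r, he, mul_inv_cancel_right]
    have hwC : w ∈ centralizerIn T₁ R := mem_centralizerIn.mpr
      ⟨T₁.mul_mem (T₁.inv_mem (T₁.mul_mem (hRT₁ hr) ha')) haT,
        hcentR w (hwe ▸ T₂.mul_mem hb' (T₂.inv_mem hb))⟩
    have h : r * a' * w ∈ X₁ := X₁.mul_mem
      (X₁.mul_mem (Subgroup.mem_sup_left hr) (Subgroup.mem_sup_right haC))
      (Subgroup.mem_sup_right hwC)
    rwa [hw', mul_inv_cancel_left] at h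
  obtain ⟨f, hf, hfe⟩ := hd.exists_map hXT (hg.restrict hle) (isMor_id E₂ inf_le_left)
  refine ⟨f, hf, fun x hx => ?_, fun c hc' => ?_⟩
  · have h := hfe x (hRT₁ hx) 1 T₂.one_mem (by rw [mul_one]; exact Subgroup.mem_sup_left hx)
    rw [mul_one, id, mul_one] at h
    exact h.trans (hgR x hx)
  · obtain ⟨a, ha, b, hb, rfl⟩ := mem_sup_of_normalized hT₁n (htop.le (centralizerIn_le hc'))
    rw [hfe a ha b hb (Subgroup.mem_sup_right hc'), id,
      show (a * b)⁻¹ * (g a * b) = b⁻¹ * (a⁻¹ * g a) * b by group]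
    have hd := hgC a (hC₁ a ha b hb hc')
    rw [mul_assoc, comm_of_commutator_bot hc (hRT₁ hd) hb, inv_mul_cancel_left]
    exact hd

end CfsgLib.Fusion
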