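import Mathlib
import Cfsg.Agent.Lib.Fusion.Criteria

/-! A saturated subsystem contains a map as soon as it contains a centric restriction of it. -/
set_option autoImplicit false

namespace CfsgLib.Fusion

open Cfsg Cfsg.FusionSystem

variable {Ω : Type*} [Group Ω] {S : Subgroup Ω} {F E : FusionSystem S} [Finite S] {p : ℕ}
  [hp : Fact p.Prime]

omit [Finite S] hp in
theorem centric_of_subsystem (h : E ≤ F) {Q : Subgroup Ω} (hQ : F.IsCentric Q) :
    E.IsCentric Q := by
  refine ⟨hQ.1, fun R hR => hQ.2 R ?_⟩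
  obtain ⟨f, hf, e⟩ := isConj_iff.mp hR
  exact isConj_iff.mpr ⟨f, le_iff_isMor.mp h _ _ hf, e⟩

theorem isMor_of_centric_restrict (hS : IsPGroup p S) (hF : F.IsSaturated p)
    (hE : E.IsSaturated p) (hle : E ≤ F) {R R₀ : Subgroup Ω} {f : Ω → Ω} (hf : IsMor F R f)
    (h₀ : R₀ ≤ R) (hc : F.IsCentric R₀) (hfE : IsMor E R₀ f) : IsMor E R f := by
  induction hd : Nat.card R - Nat.card R₀ using Nat.strong_induction_on generalizing R₀ with
  | _ d ih =>
    subst hd
    rcases eq_or_lt_of_le h₀ with rfl | hlt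
    · exact hfE
    have hlt' : R₀ < R ⊓ Subgroup.normalizer (R₀ : Set Ω) := by
      have : Finite R := finite_of_le hf.le
      exact lt_inf_normalizer (isPGroup_of_le hf.le hS) hlt
    set N := R ⊓ Subgroup.normalizer (R₀ : Set Ω)
    have hNR : N ≤ R := inf_le_left
    have hR₁ := centric_of_isConj hc (isConj_img (hf.restrict h₀))
    obtain ⟨g, hg, hge⟩ := (isReceptive_iff.mp
      (centric_receptive hS hE (centric_of_subsystem hle hR₁))).2 R₀ f hfE rfl
    have hN : N ≤ nExt S R₀ f := fun a ha =>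
      ⟨hf.le (hNR ha), ha.2, f a, hf.mem (hNR ha), fun x hx => hf.map_conj (hNR ha) (h₀ hx)⟩
    have hgN := hg.restrict hN
    obtain ⟨z, hz, -, hfz⟩ := centric_agree hS hF (le_iff_isMor.mp hle _ _ hgN)
      (hf.restrict hNR) hlt'.le hc hge
    have hfN : IsMor E N f := by
      refine ((isMor_cj E (hNR.trans hf.le) (hf.le (h₀ hz))).comp hgN ?_).congr
        fun x hx => (hfz x hx).symm
      exact fun x hx => N.mul_mem (N.mul_mem (hlt'.le hz) hx) (N.inv_mem (hlt'.le hz))
    refine ih _ ?_ hNR (centric_mono hc hlt'.le (hNR.trans hf.le)) hfN rfl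
    have := card_lt_of_lt (hNR.trans hf.le) hlt'
    have : Finite R := finite_of_le hf.le
    have := Subgroup.card_le_of_le hNR
    omega

end CfsgLib.Fusion
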