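import Mathlib
import Cfsg.Agent.Lib.Fusion.Constrained
import Cfsg.Agent.Lib.Fusion.Group
import Cfsg.Agent.Lib.Fusion.Invariant

/-! Fusion systems of subnormal subgroups. -/
set_option autoImplicit false

namespace CfsgLib.Fusion

open Cfsg Cfsg.FusionSystem

variable {G : Type*} [Group G] [Finite G] {p : ℕ} [Fact p.Prime]

theorem isSylIn_inf_subnormal (S : Sylow p G) {H : Subgroup G} (hH : H.IsSubnormal) :
    IsSylIn p ((S : Subgroup G) ⊓ H) H := by
  induction hH with
  | top => exact ⟨inf_le_right, isPGroup_of_le inf_le_left S.2,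
      fun C hC hle _ => (S.3 hC (by simpa using hle)).trans (by simp)⟩
  | step H K hle _ hN ih =>
    have := isSylIn_inf ih hle fun b hb n hn => by
      exact hN.conj_mem ⟨n, hle hn⟩ hn ⟨b, hb⟩
    rwa [inf_assoc, inf_eq_right.mpr hle] at this

theorem exists_sylow_subgroupOf (S : Sylow p G) {H : Subgroup G} (hH : H.IsSubnormal) :
    ∃ R : Sylow p H, (R : Subgroup H) = (S : Subgroup G).subgroupOf H := by
  obtain ⟨R, hR⟩ := (exists_sylow_iff inf_le_right).mpr (isSylIn_inf_subnormal S hH)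
  exact ⟨R, hR.trans (Subgroup.inf_subgroupOf_right _ _)⟩

theorem groupFusion_saturated_subnormal (S : Sylow p G) {H : Subgroup G} (hH : H.IsSubnormal) :
    (groupFusionSystem ((S : Subgroup G).subgroupOf H)).IsSaturated p := by
  obtain ⟨R, hR⟩ := exists_sylow_subgroupOf S hH
  exact hR ▸ groupFusion_isSaturated R

omit [Finite G] [Fact p.Prime] in
/-- A map of the system of `G` read in a larger group. -/
theorem group_map_push {G' : Type*} [Group G'] (j : G' →* G) (hj : Function.Injective j)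
    {T : Subgroup G'} {S : Subgroup G} (hTS : T.map j ≤ S) {P : Subgroup G'} {f : G' → G'}
    (hf : IsMor (groupFusionSystem T) P f) :
    ∃ g, IsMor (groupFusionSystem S) (P.map j) g ∧ ∀ x ∈ P, g (j x) = j (f x) := by
  obtain ⟨hP, hfT, k, hk⟩ := isMor_group.mp hf
  have e : ∀ x ∈ P, cj (j k) (j x) = j (f x) := fun x hx => by simp [cj, hk x hx]
  refine ⟨cj (j k), isMor_group.mpr ⟨(Subgroup.map_mono hP).trans hTS, ?_, j k, fun _ _ => rfl⟩, e⟩
  rintro _ ⟨x, hx, rfl⟩
  rw [e x hx]
  exact hTS (Subgroup.mem_map_of_mem j (hfT x hx))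

theorem group_subnormal_constrained (S : Sylow p G)
    (hF : (groupFusionSystem (S : Subgroup G)).IsConstrained p) {H : Subgroup G}
    (hH : H.IsSubnormal) :
    (groupFusionSystem ((S : Subgroup G).subgroupOf H)).IsConstrained p := by
  induction hH with
  | top =>
    have hmap : ((S : Subgroup G).subgroupOf ⊤).map (⊤ : Subgroup G).subtype = (S : Subgroup G) :=
      Subgroup.map_subgroupOf_eq_of_le le_top
    refine constrained_pullback S.2 hF (⊤ : Subgroup G).subtype (Subgroup.subtype_injective _)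
      (groupFusion_saturated_subnormal S .top) ?_
      (fun P f hf => group_map_push _ (Subgroup.subtype_injective _) hmap.le hf)
    rw [hmap]
    exact stronglyClosed_iff.mpr ⟨le_rfl, fun P f hf x hx _ => hf.mem hx⟩
  | step H K hle hK hN ih =>
    have hmap : ((S : Subgroup G).subgroupOf H).map (Subgroup.inclusion hle) ≤
        (S : Subgroup G).subgroupOf K := by
      rintro _ ⟨x, hx, rfl⟩
      exact hx
    refine constrained_pullback (S.2.comap_of_injective K.subtype K.subtype_injective) ih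
      (Subgroup.inclusion hle) (Subgroup.inclusion_injective hle)
      (groupFusion_saturated_subnormal S (.step H K hle hK hN)) ?_
      (fun P f hf => group_map_push _ (Subgroup.inclusion_injective hle) hmap hf)
    refine stronglyClosed_iff.mpr ⟨hmap, fun P f hf x hxP hx => ?_⟩
    obtain ⟨-, hfS, g, hg⟩ := isMor_group.mp hf
    obtain ⟨y, -, rfl⟩ := hx
    have hm : f (Subgroup.inclusion hle y) ∈ H.subgroupOf K := by
      rw [hg _ hxP]
      exact hN.conj_mem _ y.2 g
    exact ⟨⟨_, hm⟩, hfS _ hxP, rfl⟩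

end CfsgLib.Fusion

namespace CfsgLib.Fusion

open Cfsg Cfsg.FusionSystem

variable {G : Type*} [Group G] [Finite G] {p : ℕ} [Fact p.Prime]

theorem group_quotient_constrained (S : Sylow p G)
    (hF : (groupFusionSystem (S : Subgroup G)).IsConstrained p) (Z : Subgroup G) [Z.Normal]
    (hZ : Z ≤ Subgroup.center G) :
    (groupFusionSystem ((S : Subgroup G).map (QuotientGroup.mk' Z))).IsConstrained p := by
  let π := QuotientGroup.mk' Z
  have hπ : Function.Surjective π := QuotientGroup.mk'_surjective Z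
  set F := groupFusionSystem (S : Subgroup G) with hFdef
  have hsat : (groupFusionSystem ((S : Subgroup G).map π)).IsSaturated p :=
    groupFusion_isSaturated (S.mapSurjective hπ)
  have hSp : IsPGroup p ↥((S : Subgroup G).map π) := S.2.map π
  refine ⟨hsat, ?_⟩
  obtain ⟨hFs, Q₀, hQ₀, hQ₀c⟩ := hF
  have hQ := isNormal_core F
  have hQc : F.IsCentric F.core := centric_mono hQ₀c (le_core hQ₀) hQ.1
  have hfix : ∀ g : G, ∀ z ∈ Z, cj g z = z := fun g z hz => by
    rw [cj_apply, (Subgroup.mem_center_iff.mp (hZ hz) g), mul_inv_cancel_right]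
  have key : ∀ (g x : G), x ∈ (S : Subgroup G) → π (cj g x) ∈ (S : Subgroup G).map π →
      cj g x ∈ (S : Subgroup G) := by
    rintro g x hx ⟨s, hs, hse⟩
    obtain ⟨z, hz, hze⟩ : ∃ z ∈ Z, s * z = cj g x := ⟨s⁻¹ * cj g x,
      QuotientGroup.eq.mp hse, mul_inv_cancel_left _ _⟩
    rw [← hze]
    refine (S : Subgroup G).mul_mem hs ?_
    have hzp : IsPGroup p ↥(Subgroup.zpowers z) := by
      obtain ⟨a, ha⟩ := S.2 ⟨x, hx⟩
      obtain ⟨b, hb⟩ := S.2 ⟨s, hs⟩
      have hxa : x ^ (p ^ (a + b)) = 1 := by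
        rw [pow_add, pow_mul, show x ^ (p ^ a) = 1 from congrArg Subtype.val ha, one_pow]
      have hsb : s ^ (p ^ (a + b)) = 1 := by
        rw [add_comm, pow_add, pow_mul, show s ^ (p ^ b) = 1 from congrArg Subtype.val hb, one_pow]
      have hzc : Commute s z := Subgroup.mem_center_iff.mp (hZ hz) s
      have hzk : z ^ (p ^ (a + b)) = 1 := by
        have := hzc.mul_pow (p ^ (a + b))
        rw [hze, hsb, one_mul, cj_apply, conj_pow, hxa] at this
        simpa using this.symm
      rintro ⟨_, n, rfl⟩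
      refine ⟨a + b, Subtype.ext ?_⟩
      show (z ^ n) ^ (p ^ (a + b)) = 1
      rw [← zpow_natCast, ← zpow_mul, mul_comm, zpow_mul, zpow_natCast, hzk, one_zpow]
    have hn : (Subgroup.zpowers z).Normal := ⟨by
      rintro _ ⟨n, rfl⟩ g
      refine ⟨n, ?_⟩
      show z ^ n = g * z ^ n * g⁻¹
      exact (hfix g _ (Z.zpow_mem hz n)).symm⟩
    exact IsSylIn.le_of_normal (A := (S : Subgroup G)) ⟨le_top, S.2, fun C hC hle _ => S.3 hC hle⟩ hzp le_top
      (fun b _ c hc => hn.conj_mem c hc b) (Subgroup.mem_zpowers z)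
  have hR : F.IsCentral ((S : Subgroup G) ⊓ Z) :=
    (isCentral_iff_fixed S.2 hFs).mpr ⟨inf_le_left, fun P f hf x hxP hx => by
      obtain ⟨-, -, g, hg⟩ := isMor_group.mp hf
      rw [hg x hxP, hfix g x hx.2]⟩
  have hRn := isNormal_of_isCentral hR
  obtain ⟨n, Qs, hQs0, hQsn, -, hQsc, hQcomm⟩ := exists_chain_of_isNormal S.2 hQ
  have hnormal : (groupFusionSystem ((S : Subgroup G).map π)).IsNormal ((Qs n).map π) := by
    refine isNormal_of_chain hSp hsat n (fun i => (Qs i).map π) ?_ rfl (fun i _ => ?_) fun i hi => ?_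
    · simp [hQs0]
    · refine stronglyClosed_iff.mpr ⟨Subgroup.map_mono (hQsc i).1, fun P f hf y hyP hy => ?_⟩
      obtain ⟨x, hx, rfl⟩ := hy
      obtain ⟨-, hfS, g', hg'⟩ := isMor_group.mp hf
      obtain ⟨g, rfl⟩ := hπ g'
      have e : f (π x) = π (cj g x) := by simp [hg' _ hyP, cj]
      rw [e]
      refine Subgroup.mem_map_of_mem π ?_
      have hgx : cj g x ∈ (S : Subgroup G) := key g x ((hQsc i).1 hx) (e ▸ hfS _ hyP)
      have hm : IsMor F (Subgroup.zpowers x) (cj g) := isMor_group.mpr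
        ⟨Subgroup.zpowers_le.mpr ((hQsc i).1 hx), by
          rintro _ ⟨m, rfl⟩
          show g * x ^ m * g⁻¹ ∈ (S : Subgroup G)
          rw [← conj_zpow]
          exact (S : Subgroup G).zpow_mem hgx m, g, fun _ _ => rfl⟩
      exact (stronglyClosed_iff.mp (hQsc i)).2 _ _ hm x (Subgroup.mem_zpowers x) hx
    · rw [← Subgroup.map_commutator]
      refine Subgroup.map_mono ?_
      rw [hQsn]
      exact hQcomm i hi
  refine ⟨_, hnormal, Subgroup.map_mono (hQsc n).1, fun R hR' => ?_⟩
  obtain ⟨f, hf, rfl⟩ := isConj_iff.mp hR'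
  rw [hf.img_eq_self fun x hx =>
    (stronglyClosed_iff.mp (isNormal_stronglyClosed hnormal)).2 _ f hf x hx hx]
  intro y hy
  obtain ⟨⟨t, ht, rfl⟩, hc⟩ := mem_centralizerIn.mp hy
  rw [hQsn] at hc ⊢
  refine Subgroup.mem_map_of_mem π (mem_core_of_stabilizes S.2 hFs hQ hQc
    (isNormal_stronglyClosed hRn) (le_core hRn) ht (fun r hr => hfix t r hr.2) fun q hq => ⟨?_, ?_⟩)
  · exact (S : Subgroup G).mul_mem ((S : Subgroup G).inv_mem (hQ.1 hq))
      ((S : Subgroup G).mul_mem ((S : Subgroup G).mul_mem ht (hQ.1 hq)) ((S : Subgroup G).inv_mem ht))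
  · refine QuotientGroup.eq.mp ?_
    have := hc _ (Subgroup.mem_map_of_mem π hq)
    show π q = π (cj t q)
    exact this.symm.trans (by simp [cj, π, map_mul, map_inv])

end CfsgLib.Fusion
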