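import Mathlib
import Cfsg.Agent.Lib.Fusion.GroupSub
import Cfsg.Agent.Lib.Fusion.LocalModels
import Cfsg.Agent.Lib.Fusion.ModelExists
import Cfsg.Agent.Lib.Fusion.AlperinAbove
import Cfsg.Agent.Lib.Fusion.Criteria
import Cfsg.Agent.Lib.Fusion.Control
import Cfsg.Agent.Lib.Base.Cores

/-! `℧ⁿ(Z(S))` in groups and systems over groups of class at most `n (p - 1) + 1`. -/
set_option autoImplicit false

universe u

namespace CfsgLib.ClassAgemo

/-- If `(1 + d) ^ p = 1` and `d ^ c = 0` with `c ≤ n (p - 1) + 1` then `p ^ n d = 0`. -/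
theorem pow_mul_eq_zero_comm {R : Type*} [CommRing R] {p : ℕ} [hp : Fact p.Prime] {d : R} {n c : ℕ}
    (h : (1 + d) ^ p = 1) (hd : d ^ c = 0) (hc : c ≤ n * (p - 1) + 1) : (p : R) ^ n * d = 0 := by
  have hp1 := hp.out.two_le
  have h1 := add_pow_prime_eq hp.out d (1 : R)
  rw [add_comm d 1, h, one_pow, mul_one] at h1
  generalize hs : (∑ k ∈ Finset.Ioo 0 p, d ^ (k - 1) * (1 : R) ^ (p - k - 1) * ((p.choose k / p : ℕ) : R)) = s at h1
  obtain ⟨r, hr⟩ : d ∣ s - 1 := by
    rw [← hs, ← Finset.add_sum_erase (Finset.Ioo 0 p) _ (Finset.mem_Ioo.mpr (⟨one_pos, hp1⟩ : 0 < 1 ∧ 1 < p))]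
    rw [Nat.choose_one_right, Nat.div_self hp.out.pos]
    simp only [Nat.sub_self, pow_zero, one_pow, mul_one, Nat.cast_one, add_sub_cancel_left]
    refine Finset.dvd_sum fun k hk => ?_
    rw [Finset.mem_erase, Finset.mem_Ioo] at hk
    obtain ⟨j, hj⟩ := Nat.exists_eq_succ_of_ne_zero (show k - 1 ≠ 0 by omega)
    rw [hj, pow_succ']
    exact dvd_mul_of_dvd_left (dvd_mul_right d _) _
  have hnil : IsNilpotent (d * r) := (Commute.all d r).isNilpotent_mul_right ⟨c, hd⟩
  obtain ⟨u, hu⟩ := hnil.isUnit_one_add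
  have h2 : (p : R) * d = d ^ p * (-(↑u⁻¹ : R)) := by
    have h3 : (p : R) * d * (u : R) = -d ^ p := by
      rw [hu, ← hr]
      linear_combination -h1
    calc (p : R) * d = (p : R) * d * (u : R) * (↑u⁻¹ : R) := by rw [mul_assoc _ (u : R), Units.mul_inv, mul_one]
      _ = _ := by rw [h3]; ring
  have key : ∀ k : ℕ, ∃ w, (p : R) ^ k * d = d ^ (k * (p - 1) + 1) * w := by
    intro k
    induction k with
    | zero => exact ⟨1, by simp⟩
    | succ k ih =>
      obtain ⟨w, hw⟩ := ih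
      refine ⟨-(↑u⁻¹ : R) * w, ?_⟩
      have e : (k + 1) * (p - 1) + 1 = k * (p - 1) + p := by
        rw [add_mul, one_mul]; omega
      calc (p : R) ^ (k + 1) * d = d ^ (k * (p - 1)) * ((p : R) * d) * w := by
            rw [pow_succ', mul_assoc, hw, pow_succ]; ring
        _ = _ := by rw [h2, e, pow_add]; ring
  obtain ⟨w, hw⟩ := key n
  rw [hw, ← Nat.sub_add_cancel hc, pow_add, hd, mul_zero, zero_mul]

theorem pow_mul_eq_zero {R : Type*} [Ring R] {p : ℕ} [hp : Fact p.Prime] {d : R} {n c : ℕ}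
    (h : (1 + d) ^ p = 1) (hd : d ^ c = 0) (hc : c ≤ n * (p - 1) + 1) : (p : R) ^ n * d = 0 := by
  let T := Subring.closure {d}
  letI : CommRing T := Subring.closureCommRingOfComm (by simp)
  have := pow_mul_eq_zero_comm (d := (⟨d, Subring.subset_closure rfl⟩ : T)) (Subtype.ext (by simpa using h))
    (Subtype.ext (by simpa using hd)) hc
  simpa using congrArg Subtype.val this


/-- One commutation step with `t`. -/
def step {G : Type*} [Group G] (t x : G) : G := x⁻¹ * (t * x * t⁻¹)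

theorem step_map {G H : Type*} [Group G] [Group H] (f : G →* H) (t x : G) (k : ℕ) :
    (step (f t))^[k] (f x) = f ((step t)^[k] x) := by
  induction k with
  | zero => rfl
  | succ k ih => rw [Function.iterate_succ_apply', Function.iterate_succ_apply', ih]; simp [step]

theorem pow_fixed_of_step {G : Type*} [Group G] {p : ℕ} [Fact p.Prime] {V : Subgroup G}
    (hV : ∀ a ∈ V, ∀ b ∈ V, a * b = b * a) {v : G} (hv : v ∈ Subgroup.normalizer (V : Set G))
    (hvp : ∀ a ∈ V, v ^ p * a = a * v ^ p) {n c : ℕ} (hcl : ∀ a ∈ V, (step v)^[c] a = 1)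
    (hc : c ≤ n * (p - 1) + 1) {a : G} (ha : a ∈ V) : v * a ^ p ^ n = a ^ p ^ n * v := by
  let _ : CommGroup V := { (inferInstance : Group V) with
    mul_comm := fun x y => Subtype.ext (hV x x.2 y y.2) }
  have hmem : ∀ x ∈ V, v * x * v⁻¹ ∈ V := fun x hx => (Subgroup.mem_normalizer_iff.mp hv x).mp hx
  let e : V →* V :=
    { toFun := fun x => ⟨v * x * v⁻¹, hmem x x.2⟩
      map_one' := Subtype.ext (by simp)
      map_mul' := fun x y => Subtype.ext (by simp [mul_assoc]) }
  let E : AddMonoid.End (Additive V) := MonoidHom.toAdditive e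
  have hpow : ∀ (k : ℕ) (x : V), ((Additive.toMul ((E ^ k) (Additive.ofMul x)) : V) : G) =
      v ^ k * x * (v ^ k)⁻¹ := by
    intro k
    induction k with
    | zero => intro x; simp
    | succ k ih =>
      intro x
      rw [pow_succ' E]
      show v * ((Additive.toMul ((E ^ k) (Additive.ofMul x)) : V) : G) * v⁻¹ = _
      rw [ih, pow_succ' v]
      group
  have h1 : (1 + (E - 1)) ^ p = 1 := by
    rw [add_sub_cancel]
    refine AddMonoidHom.ext fun x => Additive.toMul.injective (Subtype.ext ?_)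
    refine (hpow p (Additive.toMul x)).trans ?_
    rw [hvp _ (Additive.toMul x).2, mul_inv_cancel_right]
    rfl
  have hd : ∀ (k : ℕ) (x : V), ((Additive.toMul (((E - 1) ^ k) (Additive.ofMul x)) : V) : G) =
      (step v)^[k] x := by
    intro k
    induction k with
    | zero => intro x; simp
    | succ k ih =>
      intro x
      rw [pow_succ' (E - 1), Function.iterate_succ_apply', ← ih x]
      set y := ((E - 1) ^ k) (Additive.ofMul x)
      show ((e (Additive.toMul y) / Additive.toMul y : V) : G) = _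
      rw [div_eq_mul_inv, mul_comm]
      rfl
  have h2 : (E - 1) ^ c = 0 := AddMonoidHom.ext fun x => Additive.toMul.injective (Subtype.ext (by
    refine (hd c (Additive.toMul x)).trans ?_
    rw [hcl _ (Additive.toMul x).2]
    rfl))
  have h3 := DFunLike.congr_fun (pow_mul_eq_zero h1 h2 hc) (Additive.ofMul (⟨a, ha⟩ : V))
  have h4 : (e ⟨a, ha⟩ / ⟨a, ha⟩) ^ p ^ n = (1 : V) := by
    rw [← Nat.cast_pow] at h3
    simp only [AddMonoid.End.coe_mul, Function.comp_apply] at h3
    rw [AddMonoid.End.natCast_apply] at h3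
    exact h3
  rw [div_pow, div_eq_one] at h4
  have h5 : (v * a * v⁻¹) ^ p ^ n = a ^ p ^ n := by
    simpa [e] using congrArg (fun z : V => (z : G)) h4
  rwa [conj_pow, mul_inv_eq_iff_eq_mul] at h5

open Cfsg in
/-- In a group with `C(O_p) ≤ O_p` and Sylow subgroups of small class, `℧ⁿ(Z(T))` is normal. -/
theorem le_normalizer_of_class {p : ℕ} [Fact p.Prime] {n c : ℕ} (hc : c ≤ n * (p - 1) + 1) (m : ℕ) :
    ∀ (G : Type u) [Group G] [Finite G], Nat.card G = m → ∀ (T : Sylow p G),
      (∀ t ∈ (T : Subgroup G), ∀ x ∈ (T : Subgroup G), (step t)^[c] x = 1) →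
      Subgroup.centralizer (pCore p G : Set G) ≤ pCore p G → ∀ A : Subgroup G,
      (∀ a ∈ A, ∃ w ∈ (T : Subgroup G) ⊓ Subgroup.centralizer ((T : Subgroup G) : Set G), a = w ^ p ^ n) →
      Subgroup.normalizer ((T : Subgroup G) : Set G) ≤ Subgroup.normalizer (A : Set G) →
      ∀ g : G, g ∈ Subgroup.normalizer (A : Set G) := by
  induction m using Nat.strong_induction_on with
  | _ m ih =>
  intro G _ _ hm T hcl hC A hA hN g
  classical
  subst hm
  set P := pCore p G with hP
  haveI hPn : P.Normal := inferInstance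
  have hPT : P ≤ (T : Subgroup G) := CfsgLib.Base.pCore_le_sylow T
  by_cases hTP : (T : Subgroup G) ≤ P
  · refine hN ?_
    rw [le_antisymm hTP hPT, Subgroup.normalizer_eq_top]
    exact Subgroup.mem_top g
  obtain ⟨u, huT, huP⟩ := SetLike.not_le_iff_exists.mp hTP
  have hex : ∃ j, u ^ (p ^ j) ∈ P := by
    obtain ⟨j, hj⟩ := T.2 ⟨u, huT⟩
    exact ⟨j, by rw [show u ^ p ^ j = 1 from congrArg Subtype.val hj]; exact P.one_mem⟩
  obtain ⟨j, hj⟩ : ∃ j, Nat.find hex = j + 1 := Nat.exists_eq_succ_of_ne_zero fun h0 => huP (by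
    have := Nat.find_spec hex
    rwa [h0, pow_zero, pow_one] at this)
  set v := u ^ p ^ j with hv
  have hvP : v ∉ P := Nat.find_min hex (by omega)
  have hvp : v ^ p ∈ P := by
    have := Nat.find_spec hex
    rwa [hj, pow_succ, pow_mul] at this
  have hvT : v ∈ (T : Subgroup G) := Subgroup.pow_mem _ huT _
  set Z0 := P ⊓ Subgroup.centralizer (P : Set G) with hZ0
  have hZ0n : Z0.Normal := inferInstance
  set K := Subgroup.centralizer {a : G | ∃ w ∈ Z0, a = w ^ p ^ n} with hK
  have hKn : K.Normal := ⟨fun k hk g' => by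
    rintro a ⟨w, hw, rfl⟩
    have h1 := hk _ ⟨g'⁻¹ * w * g', by simpa using hZ0n.conj_mem w hw g'⁻¹, rfl⟩
    have h2 : (g'⁻¹ * w * g') ^ p ^ n = g'⁻¹ * w ^ p ^ n * g' := by
      have := conj_pow (a := g'⁻¹) (b := w) (i := p ^ n)
      simpa using this
    rw [h2] at h1
    calc w ^ p ^ n * (g' * k * g'⁻¹) = g' * ((g'⁻¹ * w ^ p ^ n * g') * k) * g'⁻¹ := by group
      _ = g' * (k * (g'⁻¹ * w ^ p ^ n * g')) * g'⁻¹ := by rw [h1]
      _ = _ := by group⟩
  have hZT : ∀ w ∈ (T : Subgroup G) ⊓ Subgroup.centralizer ((T : Subgroup G) : Set G), w ∈ Z0 :=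
    fun w hw => ⟨hC fun x hx => hw.2 x (hPT hx), fun x hx => hw.2 x (hPT hx)⟩
  have hKA : K ≤ Subgroup.normalizer (A : Set G) := by
    refine le_trans ?_ (Subgroup.centralizer_le_normalizer (A : Set G))
    refine Subgroup.centralizer_le fun a ha => ?_
    obtain ⟨w, hw, e⟩ := hA a ha
    exact ⟨w, hZT w hw, e⟩
  have hPK : P ≤ K := fun x hx a ⟨w, hw, e⟩ => by
    rw [e]
    exact ((show Commute x w from hw.2 x hx).pow_right _).eq.symm
  have hvK : v ∈ K := by
    rintro a ⟨w, hw, rfl⟩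
    refine (pow_fixed_of_step (V := Z0) (fun a ha b hb => hb.2 a ha.1)
      (Subgroup.normalizer_eq_top (H := Z0) |>.ge.trans' le_top (Subgroup.mem_top v))
      (fun a ha => ha.2 _ hvp) (fun a ha => hcl v hvT a (hPT ha.1)) hc hw).symm
  set R := (T : Subgroup G) ⊓ K with hR
  obtain ⟨RS, hRS⟩ := CfsgLib.Fusion.exists_sylow_subgroupOf T (Subgroup.Normal.isSubnormal hKn)
  have hfr : Subgroup.normalizer (R : Set G) ⊔ K = ⊤ := by
    have := Sylow.normalizer_sup_eq_top RS
    rwa [hRS, ← Subgroup.inf_subgroupOf_right, Subgroup.map_subgroupOf_eq_of_le inf_le_right] at this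
  set N := Subgroup.normalizer (R : Set G) with hNdef
  have hRP : ¬ R ≤ P := fun h => hvP (h ⟨hvT, hvK⟩)
  have hNtop : N ≠ ⊤ := fun h => hRP (by
    haveI : R.Normal := Subgroup.normalizer_eq_top_iff.mp h
    exact CfsgLib.Base.le_pCore (T.2.to_le inf_le_left))
  have hTN : (T : Subgroup G) ≤ N := fun t ht => Subgroup.mem_normalizer_iff.mpr fun x => by
    constructor
    · rintro ⟨hx, hx'⟩
      exact ⟨(T : Subgroup G).mul_mem ((T : Subgroup G).mul_mem ht hx) ((T : Subgroup G).inv_mem ht),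
        hKn.conj_mem x hx' t⟩
    · rintro ⟨hx, hx'⟩
      have h1 := (T : Subgroup G).mul_mem ((T : Subgroup G).mul_mem ((T : Subgroup G).inv_mem ht) hx) ht
      have h2 := hKn.conj_mem _ hx' t⁻¹
      simp [mul_assoc] at h1 h2
      exact ⟨h1, h2⟩
  have hPN : P ≤ N := hPT.trans hTN
  have hPcore : P.subgroupOf N ≤ pCore p N :=
    CfsgLib.Base.le_pCore (T.2.to_le hPT).comap_subtype
  have hlt : Nat.card N < Nat.card G := by
    refine lt_of_le_of_ne (Subgroup.card_le_card_group _) fun h => hNtop ?_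
    exact Subgroup.eq_top_of_card_eq _ h
  have hrec : N ≤ Subgroup.normalizer (A : Set G) := by
    intro x hx
    have hAN : A ≤ N := fun a ha => by
      obtain ⟨w, hw, rfl⟩ := hA a ha
      exact hTN (Subgroup.pow_mem _ hw.1 _)
    have := ih _ hlt N rfl (T.subtype hTN) (fun t ht y hy => N.subtype_injective (by
        rw [← step_map, map_one]; exact hcl _ ht _ hy))
      (fun y hy => hPcore (show (y : G) ∈ P from hC fun z hz =>
        congrArg Subtype.val (hy ⟨z, hPN hz⟩ (hPcore hz))))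
      (A.subgroupOf N) (fun a ha => by
        obtain ⟨w, hw, e⟩ := hA a ha
        exact ⟨⟨w, hTN hw.1⟩, ⟨hw.1, fun y hy => Subtype.ext (hw.2 y hy)⟩, Subtype.ext e⟩)
      (fun y hy => by
        have hy' : (y : G) ∈ Subgroup.normalizer (A : Set G) := hN (by
          refine Subgroup.mem_normalizer_iff.mpr fun z => ⟨fun hz => ?_, fun hz => ?_⟩
          · exact (Subgroup.mem_normalizer_iff.mp hy ⟨z, hTN hz⟩).mp hz
          · have hzN : z ∈ N := by
              have := N.mul_mem (N.mul_mem (N.inv_mem y.2) (hTN hz)) y.2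
              simpa [mul_assoc] using this
            exact (Subgroup.mem_normalizer_iff.mp hy ⟨z, hzN⟩).mpr hz)
        exact Subgroup.mem_normalizer_iff.mpr fun z => Subgroup.mem_normalizer_iff.mp hy' (z : G)) ⟨x, hx⟩
    refine Subgroup.mem_normalizer_iff.mpr fun z => ⟨fun hz => ?_, fun hz => ?_⟩
    · exact (Subgroup.mem_normalizer_iff.mp this ⟨z, hAN hz⟩).mp hz
    · have hzN : z ∈ N := by
        have := N.mul_mem (N.mul_mem (N.inv_mem hx) (hAN hz)) hx
        simpa [mul_assoc] using this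
      exact (Subgroup.mem_normalizer_iff.mp this ⟨z, hzN⟩).mpr hz
  exact (sup_le hrec hKA) (hfr ▸ Subgroup.mem_top g)

end CfsgLib.ClassAgemo

namespace CfsgLib.Fusion

open Cfsg Cfsg.FusionSystem CfsgLib.ClassAgemo

variable {p : ℕ} [hp : Fact p.Prime] {Ω : Type u} [Group Ω] {S : Subgroup Ω} {F : FusionSystem S}

theorem agemoCenter_isNormal [Finite S] (hS : IsPGroup p S) (hF : F.IsSaturated p) (n : ℕ)
    (hcl : Subgroup.lowerCentralSeries S (n * (p - 1) + 1) = ⊥) :
    F.IsNormal (powerClosure p n (S ⊓ Subgroup.centralizer (S : Set Ω))) := by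
  set A := powerClosure p n (S ⊓ Subgroup.centralizer (S : Set Ω)) with hAdef
  have hpowA : ∀ a ∈ A, ∃ w ∈ S ⊓ Subgroup.centralizer (S : Set Ω), a = w ^ p ^ n := by
    intro a ha
    induction ha using Subgroup.closure_induction with
    | mem a ha => obtain ⟨w, hw, e⟩ := ha; exact ⟨w, hw, e⟩
    | one => exact ⟨1, Subgroup.one_mem _, (one_pow _).symm⟩
    | mul a b _ _ iha ihb =>
      obtain ⟨v, hv, rfl⟩ := iha
      obtain ⟨w, hw, rfl⟩ := ihb
      exact ⟨v * w, Subgroup.mul_mem _ hv hw, ((show Commute v w from hw.2 v hv.1).mul_pow _).symm⟩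
    | inv a _ iha =>
      obtain ⟨v, hv, rfl⟩ := iha
      exact ⟨v⁻¹, Subgroup.inv_mem _ hv, (inv_pow v _).symm⟩
  have hAS : A ≤ S := fun a ha => by
    obtain ⟨w, hw, rfl⟩ := hpowA a ha
    exact Subgroup.pow_mem _ hw.1 _
  have hAn : normalizerIn S A = S := mem_normalizer_of_conj_le fun s hs => img_le fun a ha => by
    obtain ⟨w, hw, rfl⟩ := hpowA a ha
    rwa [cj_apply, ← conj_pow, hw.2 s hs, mul_inv_cancel_right]
  have hstepS : ∀ t ∈ S, ∀ x ∈ S, (step t)^[n * (p - 1) + 1] x = 1 := by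
    intro t ht x hx
    have h : ∀ k, (step t)^[k] x ∈ Subgroup.lowerCentralSeries S k := by
      intro k
      induction k with
      | zero => simpa using hx
      | succ k ih =>
        rw [Function.iterate_succ_apply', Subgroup.lowerCentralSeries_succ]
        have := Subgroup.commutator_mem_commutator (Subgroup.inv_mem _ ih) ht
        simpa [step, commutatorElement_def, mul_assoc] using this
    have := h (n * (p - 1) + 1)
    rwa [hcl, Subgroup.mem_bot] at this
  obtain ⟨E', hE'⟩ := Cfsg.Agent.S5096.result F A hAS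
  obtain ⟨E, hE⟩ := exists_system_of_eq hAn E'
  have hEmor : ∀ P f, IsMor E P f ↔
      IsMor F P f ∧ ∃ g, IsMor F (P ⊔ A) g ∧ (∀ x ∈ P, g x = f x) ∧ img A g = A := fun P f => by
    rw [hE, isMor_normalizerSystem hE', hAn]
    exact ⟨fun ⟨h, _, _, g⟩ => ⟨h, g⟩, fun ⟨h, g⟩ => ⟨h, h.le, fun x hx => h.mem hx, g⟩⟩
  have hall : ∀ d, ∀ R : Subgroup Ω, Nat.card S - Nat.card R = d → (R = S ∨ F.IsEssential p R) →
      F.autGroup R ≤ E.autGroup R := by
    intro d
    induction d using Nat.strong_induction_on with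
    | _ d ih =>
    intro R hd hR α hα
    subst hd
    have hRS : R ≤ S := hR.elim (fun h => h.le) essential_le
    have hm := isMor_autFun hRS hα
    suffices hinv : A ≤ R ∧ ∀ a ∈ A, autFun α a ∈ A by
      refine (autGroup_eq_set hRS α).mpr ((hEmor R _).mpr ⟨hm, autFun α, ?_, fun _ _ => rfl,
        (hm.restrict hinv.1).img_eq_self hinv.2⟩)
      rwa [sup_eq_left.mpr hinv.1]
    rcases hR with rfl | hR
    · refine ⟨hAS, fun a ha => ?_⟩
      obtain ⟨w, hw, rfl⟩ := hpowA a ha
      refine Subgroup.subset_closure ⟨autFun α w, ⟨autFun_mem α hw.1, fun s hs => ?_⟩, ?_⟩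
      · obtain ⟨s', hs', rfl⟩ := hm.mem_img.mp ((img_autFun α).ge hs)
        rw [← hm.map_mul hs' hw.1, ← hm.map_mul hw.1 hs', hw.2 s' hs']
      · rw [autFun_of_mem α hw.1, autFun_of_mem α (R.pow_mem hw.1 _)]
        exact congrArg Subtype.val (map_pow α (⟨w, hw.1⟩ : R) _)
    have hRc := hR.1
    have hZR : ∀ w ∈ S ⊓ Subgroup.centralizer (S : Set Ω), w ∈ R := fun w hw =>
      hRc.2 R (isConj_refl F hRS) (mem_centralizerIn.mpr ⟨hw.1, fun y hy => by
        rw [cj_apply, ← hw.2 y (hRS hy), mul_inv_cancel_right]⟩)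
    have hAR : A ≤ R := fun a ha => by
      obtain ⟨w, hw, rfl⟩ := hpowA a ha
      exact R.pow_mem (hZR w hw) _
    refine ⟨hAR, fun a ha => ?_⟩
    set M := normalizerIn S R with hM
    obtain ⟨N, hN⟩ := Cfsg.Agent.S5096.result F R hRS
    have : Finite M := finite_of_le normalizerIn_le
    obtain ⟨L, _, ι, hL⟩ := exists_model (isPGroup_of_le normalizerIn_le hS)
      (normalizerSystem_isConstrained hS hF hR.2.1 hRc hN)
    obtain ⟨hfin, hr, ⟨T, hT⟩, hcore⟩ := id hL
    have hlt : R < M := normalizerIn_gt hS (essential_lt hS hF hR)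
    have hcard : Nat.card R < Nat.card M := card_lt_of_lt normalizerIn_le hlt
    have hAM : A ≤ M := hAR.trans hlt.le
    set A' := (A.subgroupOf M).map ι with hA'
    have hkey : ∀ g : L, g ∈ Subgroup.normalizer (A' : Set L) := by
      refine le_normalizer_of_class (le_refl (n * (p - 1) + 1)) _ L rfl T ?_ hcore A' ?_ ?_
      · intro t ht x hx
        rw [hT] at ht hx
        obtain ⟨t, rfl⟩ := ht
        obtain ⟨x, rfl⟩ := hx
        rw [step_map, show (step t)^[n * (p - 1) + 1] x = 1 from M.subtype_injective (by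
          rw [← step_map, map_one]; exact hstepS _ (normalizerIn_le t.2) _ (normalizerIn_le x.2)), map_one]
      · rintro _ ⟨b, hb, rfl⟩
        obtain ⟨w, hw, e⟩ := hpowA b (Subgroup.mem_subgroupOf.mp hb)
        refine ⟨ι ⟨w, hlt.le (hZR w hw)⟩, ⟨hT.ge ⟨_, rfl⟩, fun y hy => ?_⟩, ?_⟩
        · obtain ⟨y, rfl⟩ := hT.le hy
          rw [← map_mul, ← map_mul]
          exact congrArg ι (Subtype.ext (hw.2 y (normalizerIn_le y.2)))
        · rw [← map_pow]
          exact congrArg ι (Subtype.ext e)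
      · intro g hg
        have hgr : ∀ b : M, (b : Ω) ∈ M → g * ι b * g⁻¹ ∈ ι.range := fun b _ => by
          rw [← hT]; exact (Subgroup.mem_normalizer_iff.mp hg _).mp (hT.ge ⟨b, rfl⟩)
        obtain ⟨hmor, hind⟩ := isMor_pullConj hr le_rfl hgr
        have hF' := ((isMor_normalizerSystem hN).mp hmor).1
        obtain ⟨-, k, hk, hkf, hkA⟩ := (hEmor M _).mp (alperin_above (Nat.card R) hS hF
          (fun Q hQ hQe => ih _ (by
            have hQS : Q ≤ S := hQe.elim (fun h => h.le) essential_le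
            have := Subgroup.card_le_of_le hQS
            omega) Q rfl hQe) M _ hF' hcard)
        have hmem : ∀ b ∈ A', g * b * g⁻¹ ∈ A' := by
          rintro _ ⟨b, hb, rfl⟩
          have hb' : pullConj ι g (b : Ω) ∈ A := by
            rw [← hkf b b.2]
            exact hkA.le (mem_img_of_mem k (Subgroup.mem_subgroupOf.mp hb))
          refine ⟨⟨_, hAM hb'⟩, Subgroup.mem_subgroupOf.mpr hb', ?_⟩
          exact hind b ⟨_, hAM hb'⟩ b.2 rfl
        rw [Subgroup.mem_normalizer_iff_map_conj_eq]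
        refine Subgroup.eq_of_le_of_card_ge ?_
          (le_of_eq (Subgroup.card_map_of_injective (MulEquiv.injective _)).symm)
        rintro _ ⟨b, hb, rfl⟩
        exact hmem b hb
    obtain ⟨g, hg⟩ := exists_induces hr (show IsMor N R (autFun α) from (isMor_normalizerSystem hN).mpr
      ⟨hm, hlt.le, fun x hx => hlt.le (autFun_mem α hx), autFun α, by rwa [sup_idem], fun _ _ => rfl,
        img_autFun α⟩)
    have h1 := hg ⟨a, hAM ha⟩ ⟨_, hlt.le (autFun_mem α (hAR ha))⟩ (hAR ha) rfl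
    have h2 := (Subgroup.mem_normalizer_iff.mp (hkey g) _).mp
      (Subgroup.mem_map_of_mem ι (Subgroup.mem_subgroupOf.mpr ha : (⟨a, hAM ha⟩ : M) ∈ A.subgroupOf M))
    rw [← h1] at h2
    obtain ⟨b, hb, hbe⟩ := h2
    have h3 := Subgroup.mem_subgroupOf.mp hb
    rw [hr.1 hbe] at h3
    exact h3
  refine isNormal_iff.mpr ⟨hAS, fun P f hf => ?_⟩
  exact ((hEmor P f).mp (le_iff_isMor.mp (alperin hS hF fun R hR => hall _ R rfl hR) P f hf)).2

end CfsgLib.Fusion
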