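import Mathlib
import Cfsg.Agent.Lib.Fusion.CommutingNormal
import Cfsg.Agent.Lib.Fusion.ComponentCentral

/-!
# Products of commuting normal subsystems
-/

set_option autoImplicit false
set_option linter.unusedSectionVars false

namespace CfsgLib.Fusion

open Cfsg Cfsg.FusionSystem

universe u

variable {Ω : Type u} [Group Ω] {S T₁ T₂ : Subgroup Ω} {F : FusionSystem S}
  {E₁ : FusionSystem T₁} {E₂ : FusionSystem T₂} {p : ℕ} [hp : Fact p.Prime] [Finite S]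

/-- The central product of commuting normal subsystems exists and is normal. -/
theorem exists_normal_centralProduct (hS : IsPGroup p S) (hF : F.IsSaturated p)
    (h₁ : E₁.IsNormalIn F p) (h₂ : E₂.IsNormalIn F p) (hc : ⁅T₁, T₂⁆ = ⊥)
    (hz₁ : T₁ ⊓ T₂ ≤ E₁.center) (hz₂ : T₁ ⊓ T₂ ≤ E₂.center) :
    ∃ D : FusionSystem (T₁ ⊔ T₂), D.IsNormalIn F p ∧ IsCentralProductOf E₁ E₂ D := by
  have hT₁S := h₁.1.2.2.2.1.1
  have hT₂S := h₂.1.2.2.2.1.1
  have : Finite T₁ := finite_of_le hT₁S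
  have : Finite T₂ := finite_of_le hT₂S
  obtain ⟨D, hD, hDs⟩ := exists_centralProduct (isPGroup_of_le hT₁S hS) (isPGroup_of_le hT₂S hS)
    h₁.1.1 h₂.1.1 hc hz₁ hz₂
  exact ⟨D, centralProduct_normal hS hF h₁ h₂ (cpData_of_isCentralProductOf hD) hDs, hD⟩

/-- A normal subsystem has one over the same group centralizing a central strongly closed subgroup. -/
theorem exists_normal_fixing {T : Subgroup Ω} {E : FusionSystem T} (hS : IsPGroup p S)
    (hF : F.IsSaturated p) (hE : E.IsNormalIn F p) {Z : Subgroup Ω} (hZ : F.IsNormal Z)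
    (hZT : Z ≤ T) (hcomm : ∀ t ∈ T, ∀ z ∈ Z, z * t = t * z) :
    ∃ E' : FusionSystem T, E'.IsNormalIn F p ∧ Z ≤ E'.center := by
  obtain ⟨CF, hCF⟩ := Cfsg.Agent.S5097.result F Z hZ.1
  have hm : MeetHyp F E CF p := ⟨hS, hF, hE, centralizerSystem_isNormalIn hS hF hZ hCF⟩
  obtain ⟨X, hX, -, hXC, -, -⟩ := hm.exists_normal
  have hTS := hE.1.2.2.2.1.1
  have heq : T ⊓ centralizerIn S Z = T := inf_eq_left.mpr fun t ht =>
    mem_centralizerIn.mpr ⟨hTS ht, fun z hz => by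
      rw [cj_apply, cj_fixed_iff]
      exact (hcomm t ht z hz).symm⟩
  have key : ∀ {U : Subgroup Ω} (X' : FusionSystem U), U = T → X'.IsNormalIn F p →
      X'.IsSubsystemOf CF → Z ≤ X'.center := by
    intro U X' hU hX' hsub
    subst hU
    have : Finite U := finite_of_le hTS
    refine le_center ((isCentral_iff_fixed (isPGroup_of_le hTS hS) hX'.1.1).mpr
      ⟨hZT, fun P f hf x hxP hxZ => ?_⟩)
    obtain ⟨-, -, -, g, hg, hgf, hgZ⟩ :=
      (isMor_centralizerSystem hCF).mp (le_iff_isMor.mp hsub P f hf)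
    rw [← hgf x hxP, hgZ x hxZ]
  have h := key X heq hX hXC.1.2.2.1
  revert X
  rw [heq]
  exact fun X hX _ h => ⟨X, hX, h⟩

/-- The product of commuting normal subsystems. -/
theorem exists_commuting_product (hS : IsPGroup p S) (hF : F.IsSaturated p)
    (h₁ : E₁.IsNormalIn F p) (h₂ : E₂.IsNormalIn F p) (hc : ⁅T₁, T₂⁆ = ⊥) :
    ∃ D : FusionSystem (T₁ ⊔ T₂), D.IsNormalIn F p ∧
      (T₁ ⊓ T₂ ≤ E₁.center → T₁ ⊓ T₂ ≤ E₂.center → IsCentralProductOf E₁ E₂ D) := by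
  by_cases h : T₁ ⊓ T₂ ≤ E₁.center ∧ T₁ ⊓ T₂ ≤ E₂.center
  · obtain ⟨D, hD, hcp⟩ := exists_normal_centralProduct hS hF h₁ h₂ hc h.1 h.2
    exact ⟨D, hD, fun _ _ => hcp⟩
  have hcl₁ := stronglyClosed_iff.mp h₁.1.2.2.2.1
  have hcl₂ := stronglyClosed_iff.mp h₂.1.2.2.2.1
  have hZ : F.IsNormal (T₁ ⊓ T₂) := isNormal_of_abelian hS hF
    (stronglyClosed_iff.mpr ⟨inf_le_left.trans hcl₁.1, fun P f hf x hxP hx =>
      ⟨hcl₁.2 P f hf x hxP hx.1, hcl₂.2 P f hf x hxP hx.2⟩⟩)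
    fun x hx y hy => comm_of_commutator_bot hc hx.1 hy.2
  obtain ⟨E₁', h₁', hz₁⟩ := exists_normal_fixing hS hF h₁ hZ inf_le_left
    fun t ht z hz => (comm_of_commutator_bot hc ht hz.2).symm
  obtain ⟨E₂', h₂', hz₂⟩ := exists_normal_fixing hS hF h₂ hZ inf_le_right
    fun t ht z hz => comm_of_commutator_bot hc hz.1 ht
  obtain ⟨D, hD, -⟩ := exists_normal_centralProduct hS hF h₁' h₂' hc hz₁ hz₂
  exact ⟨D, hD, fun a b => absurd ⟨a, b⟩ h⟩

end CfsgLib.Fusion
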