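import Mathlib
import Cfsg.Agent.Lib.Fusion.IsoNormal
import Cfsg.Agent.Lib.Fusion.InvariantNormal

/-!
# Images of subnormal subsystems under maps of the ambient system
-/

set_option autoImplicit false

namespace CfsgLib.Fusion

open Cfsg Cfsg.FusionSystem

variable {Ω : Type*} [Group Ω] {S T : Subgroup Ω} {F : FusionSystem S} {E : FusionSystem T} {p : ℕ}

/-- An automorphism of `S` in `F` is an automorphism of `F`. -/
theorem isIso_of_isMor_self [Finite S] {f : Ω → Ω} (hf : IsMor F S f) : IsIso F f F := by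
  have hi : img S f = S := hf.img_eq_self fun x hx => hf.mem hx
  obtain ⟨g, hg, hgl, hgr, -⟩ := hf.inverse
  rw [hi] at hg hgr
  refine ⟨fun x hx y hy => hf.map_mul hx hy, fun x hx y hy e => hf.inj hx hy e, hi,
    fun P h hh => ?_, fun P hP h' hh' => ?_⟩
  · have hP := hh.le
    obtain ⟨gP, hgP, hgPl, -, hgPi⟩ := (hf.restrict hP).inverse
    refine ⟨f ∘ h ∘ gP, (hgP.comp hh fun y hy => hgPi ▸ mem_img_of_mem gP hy).comp hf
      (fun y hy => ?_), fun x hx => by
        rw [Function.comp_apply, Function.comp_apply, hgPl x hx]⟩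
    exact hh.mem (hgPi ▸ mem_img_of_mem gP hy)
  · have hfP := hf.restrict hP
    refine ⟨g ∘ h' ∘ f, (hfP.comp hh' fun x hx => mem_imgT_of_mem f hx).comp hg
      (fun x hx => hh'.mem (mem_imgT_of_mem f hx)), fun x hx => ?_⟩
    rw [Function.comp_apply, Function.comp_apply, hgr _ (hh'.mem (mem_imgT_of_mem f hx))]

/-- `Aut_F(T)` acts on an invariant subsystem. -/
theorem isIso_autFun [Finite S] (hE : E.IsInvariantIn F) {α : MulAut T} (hα : α ∈ F.autGroup T) :
    IsIso E (autFun α) E := by
  refine ⟨fun x hx y hy => autFun_map_mul α hx hy, fun x hx y hy e => ?_, img_autFun α,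
    fun P f hf => hf.transport hE hα, fun P hP f' hf' => ?_⟩
  · rw [← autFun_inv_left α hx, e, autFun_inv_left α hy]
  · obtain ⟨k, hk, e⟩ := hf'.transport hE (inv_mem hα)
    have hi : img (imgT P (autFun α)) (autFun α⁻¹) = P := by
      refine le_antisymm (img_le fun y hy => ?_) fun x hx => ?_
      · obtain ⟨x, hx, rfl⟩ := (mem_imgT_iff (fun a ha b hb => autFun_map_mul α ha hb) hP).mp hy
        rwa [autFun_inv_left α (hP hx)]
      · have := mem_img_of_mem (autFun α⁻¹) (mem_imgT_of_mem (autFun α) hx)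
        rwa [autFun_inv_left α (hP hx)] at this
    rw [hi] at hk
    refine ⟨k, hk, fun x hx => ?_⟩
    have h1 := e _ (mem_imgT_of_mem (autFun α) hx)
    rw [autFun_inv_left α (hP hx)] at h1
    rw [h1, autFun_inv_right α (hf'.mem (mem_imgT_of_mem _ hx))]

/-- The image of a subnormal subsystem under a map of `F` defined on it is subnormal. -/
theorem subnormal_image (h : E.IsSubnormalIn F p) :
    Fact p.Prime → Finite S → IsPGroup p S → ∀ f, IsMor F T f →
      ∀ {T' : Subgroup Ω} {E' : FusionSystem T'}, IsIso E f E' → E'.IsSubnormalIn F p := by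
  induction h with
  | refl =>
    intro _ hfin _ f hf T' E' hE'
    have h1 := isIso_of_isMor_self hf
    obtain rfl : T' = _ := hE'.range.symm.trans h1.range
    rw [hE'.unique h1]
    exact .refl _ _
  | @step U S C D F p hCD hD ih =>
    intro hp hfin hS f hf T' E' hE'
    have hUS := hD.1.2.2.2.1.1
    have hTU := subnormal_le hCD
    have : Finite U := finite_of_le hUS
    have : Finite T := finite_of_le hTU
    obtain ⟨-, -, -, hfrat⟩ := id hD.1.2.2
    obtain ⟨φ, hφ, hφf⟩ := id hf
    obtain ⟨α, hα, φ₀, hφ₀, hφe⟩ := hfrat T hTU φ hφ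
    have he : IsMor D T (toFun φ₀) := isMor_of_mem hφ₀
    have hfe : ∀ x ∈ T, f x = autFun α (toFun φ₀ x) := fun x hx => by
      rw [← hφf ⟨x, hx⟩, toFun_of_mem φ₀ hx, autFun_of_mem α ((D.le_of_mem hφ₀).2 _)]
      exact hφe ⟨x, hx⟩ _
    obtain ⟨E₁, hE₁⟩ := exists_isIso C (θ := toFun φ₀) (fun x hx y hy => he.map_mul hx hy)
      (fun x hx y hy e => he.inj hx hy e)
    have h1 := ih hp (finite_of_le hUS) (isPGroup_of_le hUS hS) _ he hE₁
    refine .step (iso_subnormal h1 hp (finite_of_le hUS) (isPGroup_of_le hUS hS)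
      (isIso_autFun hD.1.2.2 hα) ((hE₁.symm.trans hE').congr fun y hy => ?_)) hD
    obtain ⟨x, hx, rfl⟩ := hE₁.surj hy
    rw [Function.comp_apply, hE₁.inv_left hx]
    exact hfe x hx

end CfsgLib.Fusion
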