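import Mathlib
import Cfsg.Agent.Lib.Fusion.LayerExists
import Cfsg.Agent.Lib.Fusion.IsoMor

/-!
# The layer is its own layer
-/

set_option autoImplicit false
set_option linter.unusedSectionVars false
set_option maxHeartbeats 1000000

namespace CfsgLib.Fusion

open Cfsg Cfsg.FusionSystem

universe u

variable {Ω : Type u} [Group Ω] {S U : Subgroup Ω} {F : FusionSystem S} {E : FusionSystem U}
  {p : ℕ} [hp : Fact p.Prime] [Finite S]

/-- The layer of an invariant subsystem is stable under the automorphisms from the system. -/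
theorem layer_le_image (hS : IsPGroup p S) (hE : E.IsNormalIn F p) {W : Subgroup Ω}
    {L : FusionSystem W} (hL : L.IsLayerOf E p) {β : MulAut U} (hβ : β ∈ F.autGroup U)
    {W' : Subgroup Ω} {L' : FusionSystem W'} (hiso : IsIso L (autFun β) L') :
    W' = W ∧ L.IsSubsystemOf L' := by
  have hUS := hE.1.2.2.2.1.1
  have : Finite U := finite_of_le hUS
  have hUp := isPGroup_of_le hUS hS
  have hEs := hE.1.1
  have h := isIso_autFun hE.1.2.2 hβ
  have hi := isIso_autFun hE.1.2.2 (inv_mem hβ)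
  have hL' : L'.IsNormalIn E p := h.normal hiso hUp hL.1
  have hcomp : ∀ (T : Subgroup Ω) (C : FusionSystem T), C.IsComponentIn E p →
      C.IsSubsystemOf L' := fun T C hC => by
    have hTU := subnormal_le hC.1
    have : Finite T := finite_of_le hTU
    obtain ⟨C₀, hC₀⟩ := exists_isIso_sub (D := C) hi hTU
    have hT₀ : imgT T (autFun β⁻¹) ≤ U := hi.le hTU
    have : Finite ↥(imgT T (autFun β⁻¹)) := finite_of_le hT₀
    have hC₀c : C₀.IsComponentIn E p :=
      ⟨iso_subnormal hC.1 hp inferInstance hUp hi hC₀,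
        hC₀.quasisimple (isPGroup_of_le hTU hUp) hC.2⟩
    have hback : IsIso C₀ (autFun β) C := hC₀.symm.congr fun y hy => by
      obtain ⟨x, hx, rfl⟩ := hC₀.surj hy
      rw [hC₀.inv_left hx, autFun_inv_right β (hTU hx)]
    exact iso_subsystem_of_subsystem hiso hback (hL.2.1 _ C₀ hC₀c)
  have hle := hL.2.2 _ L' hL' hcomp
  refine ⟨?_, hle⟩
  have hW'U : W' ≤ U := hL'.1.2.2.2.1.1
  have : Finite W := finite_of_le hL.1.1.2.2.2.1.1
  exact (eq_of_le_of_card hW'U (isSubsystemOf_support hle) hiso.card_eq.le).symm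

/-- The layer contains nothing smaller normal in it with all components. -/
theorem layer_own (hS : IsPGroup p S) (hF : F.IsSaturated p) (hE : E.IsLayerOf F p) :
    E.IsLayerOf E p := by
  have hn := hE.1
  have hUS := hn.1.2.2.2.1.1
  have : Finite U := finite_of_le hUS
  have hUp := isPGroup_of_le hUS hS
  have hEs := hn.1.1
  have hcompE : ∀ (T : Subgroup Ω) (C : FusionSystem T), C.IsComponentIn F p →
      C.IsComponentIn E p := fun T C hC => component_of_sub hS hF hC hn (hE.2.1 T C hC)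
  obtain ⟨W, L, hL⟩ := exists_layer hUp hEs
  obtain ⟨hLs, -, hLE, hWcl, -⟩ := id hL.1.1
  obtain ⟨hWU, hWsc⟩ := stronglyClosed_iff.mp hWcl
  have : Finite W := finite_of_le hWU
  have hLinv := strongInv_of_isNormalIn hUp hEs hL.1
  obtain ⟨-, -, hsub, hUcl, -⟩ := id hn.1
  obtain ⟨-, hUsc⟩ := stronglyClosed_iff.mp hUcl
  obtain ⟨-, -, -, hfrat⟩ := id hn.1.2.2
  have himg : ∀ β ∈ F.autGroup U, imgT W (autFun β) = W := fun β hβ => by
    obtain ⟨L', hL'⟩ := exists_isIso_sub (D := L) (isIso_autFun hn.1.2.2 hβ) hWU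
    exact (layer_le_image hS hn hL hβ hL').1
  have hsym : ∀ β ∈ F.autGroup U, ∀ P f, IsMor L P f →
      ∃ k, IsMor L (img P (autFun β)) k ∧ ∀ x ∈ P, k (autFun β x) = autFun β (f x) := by
    intro β hβ P f hf
    have hPU : P ≤ U := hf.le.trans hWU
    obtain ⟨L', hL'⟩ := exists_isIso_sub (D := L) (isIso_autFun hn.1.2.2 (inv_mem hβ)) hWU
    have hf' := le_iff_isMor.mp (layer_le_image hS hn hL (inv_mem hβ) hL').2 P f hf
    have hβP : img P (autFun β) ≤ W := img_le fun x hx =>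
      (himg β hβ).le (mem_imgT_of_mem (autFun β) (hf.le hx))
    have hP : imgT (img P (autFun β)) (autFun β⁻¹) = P := by
      refine le_antisymm (imgT_le fun y hy => ?_) fun x hx => ?_
      · obtain ⟨x, hx, rfl⟩ := ((isMor_autFun hUS hβ).restrict hPU).mem_img.mp hy
        rwa [autFun_inv_left β (hPU hx)]
      · have := mem_imgT_of_mem (autFun β⁻¹) (mem_img_of_mem (autFun β) hx)
        rwa [autFun_inv_left β (hPU hx)] at this
    rw [← hP] at hf'
    obtain ⟨k, hk, hke⟩ := hL'.pull _ hβP f hf'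
    refine ⟨k, hk, fun x hx => ?_⟩
    have h := hke _ (mem_img_of_mem _ hx)
    rw [autFun_inv_left β (hPU hx)] at h
    rw [h, autFun_inv_right β (hWU (hk.mem (mem_img_of_mem _ hx)))]
  -- the factorization of maps
  have hfac : ∀ Q g, Q ≤ U → IsMor F Q g → ∃ β ∈ F.autGroup U, ∃ e, IsMor E Q e ∧
      ∀ x ∈ Q, g x = autFun β (e x) := by
    intro Q g hQ hg
    obtain ⟨φ, hφ, hφg⟩ := id hg
    obtain ⟨β, hβ, φ₀, hφ₀, he⟩ := hfrat Q hQ φ hφ
    refine ⟨β, hβ, toFun φ₀, isMor_of_mem hφ₀, fun x hx => ?_⟩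
    rw [← hφg ⟨x, hx⟩, toFun_of_mem φ₀ hx, autFun_of_mem β ((E.le_of_mem hφ₀).2 _)]
    exact he ⟨x, hx⟩ _
  have hcl : F.StronglyClosed W := stronglyClosed_iff.mpr ⟨hWU.trans hUS, fun P f hf x hxP hx => by
    obtain ⟨β, hβ, e, he, hfe⟩ := hfac (P ⊓ W) f (inf_le_right.trans hWU) (hf.restrict inf_le_left)
    rw [hfe x ⟨hxP, hx⟩]
    exact (himg β hβ).le (mem_imgT_of_mem _ (hWsc _ e he x ⟨hxP, hx⟩ hx))⟩
  have hinv : StrongInv L F := by
    intro P Q f g hPQ hQW hf hfQ hg
    obtain ⟨β, hβ, e, he, hge⟩ := hfac Q g (hQW.trans hWU) hg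
    obtain ⟨k₀, hk₀, hk₀e⟩ := hLinv P Q f e hPQ hQW hf hfQ he
    obtain ⟨k, hk, hke⟩ := hsym β hβ _ k₀ hk₀
    have hi : img (img P e) (autFun β) = img P g := by
      rw [(he.restrict hPQ).img_comp]
      exact img_congr fun x hx => (hge x (hPQ hx)).symm
    refine ⟨k, hi ▸ hk, fun x hx => ?_⟩
    rw [hge x (hPQ hx), hke _ (mem_img_of_mem e hx), hk₀e x hx, hge _ (hfQ x hx)]
  have hsubF : L.IsSubsystemOf F := fun P => (hLE P).trans (hsub P)
  have hw : L.IsWeaklyNormalIn F p := ⟨hLs, hF,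
    (Cfsg.Agent.S5119.result p hS F hF L hsubF hcl).mpr (strongInv_iff.mp hinv)⟩
  have hWp := isPGroup_of_le hWU hUp
  have hres := residual_isPPrimeResidual hWp hLs
  have hD := residual_normal hS hF hw hres
  have hEL : E.IsSubsystemOf L := by
    have h := hE.2.2 _ _ hD fun T C hC => component_isSubsystemOf hD.1.1
      (component_of_le hS hF hC hD (isSubsystemOf_support (hL.2.1 T C (hcompE T C hC))))
    exact fun P => (h P).trans (residual_sub hWp hLs P)
  exact ⟨normalIn_refl hUp hEs, fun T C hC => component_isSubsystemOf hEs hC,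
    fun R D hD' hcomp P => (hEL P).trans (hL.2.2 R D hD' hcomp P)⟩

end CfsgLib.Fusion
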