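import Mathlib
import Cfsg.Agent.Lib.Fusion.LayerOwn
import Cfsg.Agent.Lib.Fusion.CentralProductNormal
import Cfsg.Agent.Lib.Fusion.CommutingProduct

/-!
# Components are normal in the layer
-/

set_option autoImplicit false
set_option linter.unusedSectionVars false
set_option maxHeartbeats 1000000

namespace CfsgLib.Fusion

open Cfsg Cfsg.FusionSystem

universe u

variable {Ω : Type u} [Group Ω] {S : Subgroup Ω} [Finite S] {F : FusionSystem S}
  {p : ℕ} [hp : Fact p.Prime]

/-- The data of a central product pass to a system with the same maps. -/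
theorem CPData.congr {T₁ T₂ T T' : Subgroup Ω} {E₁ : FusionSystem T₁} {E₂ : FusionSystem T₂}
    {D : FusionSystem T} {D' : FusionSystem T'} (hd : CPData E₁ E₂ D)
    (h : D.IsSubsystemOf D') (h' : D'.IsSubsystemOf D) : CPData E₁ E₂ D' :=
  ⟨hd.comm, (le_antisymm (isSubsystemOf_support h') (isSubsystemOf_support h)).trans hd.top,
    hd.fix₁, hd.fix₂, fun P f =>
      ⟨fun hf => (hd.mor P f).mp (le_iff_isMor.mp h' P f hf),
        fun hf => le_iff_isMor.mp h P f ((hd.mor P f).mpr hf)⟩⟩

omit hp in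
theorem component_normal_in_self_layer (n m : ℕ) :
    ∀ {S : Subgroup Ω} [Finite S], Nat.card S = n → Fact p.Prime → IsPGroup p S →
      ∀ {F : FusionSystem S}, sysSize F = m → F.IsSaturated p →
      ∀ {T : Subgroup Ω} (C : FusionSystem T), C.IsComponentIn F p →
      ∀ {U : Subgroup Ω} (E : FusionSystem U), E.IsLayerOf F p → C.IsNormalIn E p := by
  induction n using Nat.strong_induction_on generalizing m with
  | _ n ihn =>
  induction m using Nat.strong_induction_on with
  | _ m ihm =>
  intro S _ hn hp hS F hm hF T C hC U E hE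
  have hsmall : ∀ {V : Subgroup Ω} (D : FusionSystem V), D.IsNormalIn F p →
      ¬ F.IsSubsystemOf D → ∀ {T : Subgroup Ω} (C : FusionSystem T), C.IsComponentIn D p →
      ∀ {W : Subgroup Ω} (L : FusionSystem W), L.IsLayerOf D p → C.IsNormalIn L p := by
    intro V D hD hne T' K hK W L hL
    have hVS : V ≤ S := hD.1.2.2.2.1.1
    have : Finite V := finite_of_le hVS
    have hVp := isPGroup_of_le hVS hS
    rcases eq_or_lt_of_le hVS with rfl | hlt
    · exact ihm _ (hm ▸ sysSize_lt hS hF hD.1.2.2.1 hne) hn hp hS rfl hD.1.1 K hK L hL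
    · exact ihn _ (hn ▸ card_lt_of_lt le_rfl hlt) _ rfl hp hVp rfl hD.1.1 K hK L hL
  by_cases hFE : F.IsSubsystemOf E
  swap
  · exact hsmall E hE.1 hFE C (component_of_sub hS hF hC hE.1 (hE.2.1 T C hC)) E
      (layer_own hS hF hE)
  -- `F` is its own layer
  have hUS : U = S := le_antisymm hE.1.1.2.2.2.1.1 (isSubsystemOf_support hFE)
  subst hUS
  obtain rfl : E = F := fusion_le_antisymm (fusion_le_iff.mpr hE.1.1.2.2.1) (fusion_le_iff.mpr hFE)
  obtain ⟨hsub, hq⟩ := hC
  suffices main : ∀ {T' U' : Subgroup Ω} {C' : FusionSystem T'} {E' : FusionSystem U'},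
      C'.IsSubnormalIn E' p → U' = U → E'.IsSubsystemOf E → E.IsSubsystemOf E' →
      C'.Quasisimple p → C'.IsNormalIn E p from main hsub rfl (fun _ => le_rfl) (fun _ => le_rfl) hq
  clear ihn ihm hm hn
  intro T' U' C' E' h
  induction h with
  | refl E' p =>
    intro hU h₁ h₂ hq
    subst hU
    obtain rfl : E' = E := fusion_le_antisymm (fusion_le_iff.mpr h₁) (fusion_le_iff.mpr h₂)
    exact normalIn_refl hS hF
  | @step V S' C' D E' p hCD hD ih =>
    intro hU h₁ h₂ hq'
    subst hU
    obtain rfl : E' = E := fusion_le_antisymm (fusion_le_iff.mpr h₁) (fusion_le_iff.mpr h₂)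
    have hVS : V ≤ S' := hD.1.2.2.2.1.1
    by_cases hne : E'.IsSubsystemOf D
    · exact ih hp hS hF hE hsmall hsub hq (le_antisymm hVS (isSubsystemOf_support hne))
        hD.1.2.2.1 hne hq'
    have : Finite V := finite_of_le hVS
    have hVp := isPGroup_of_le hVS hS
    obtain ⟨W, L, hL⟩ := exists_layer hVp hD.1.1
    have hCL : C'.IsNormalIn L p := hsmall D hD hne C' ⟨hCD, hq'⟩ L hL
    -- the centralizer of `D`
    set Y := cElts E' D p with hY
    obtain ⟨X, hX, hXfix⟩ := exists_centralizer_normal hS hF hD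
    have hYS : Y ≤ S' := cElts_le'
    have : Finite Y := finite_of_le hYS
    have hcomm : ⁅V, Y⁆ = ⊥ := Subgroup.commutator_eq_bot_iff_le_centralizer.mpr fun v hv =>
      Subgroup.mem_centralizer_iff.mpr fun y hy => by
        have h := (mem_centralizerIn.mp (cElts_le hy)).2 v hv
        rwa [cj_apply, cj_fixed_iff] at h
    have hfV : ∀ P f, IsMor D P f → ∀ x ∈ P, x ∈ V ⊓ Y → f x = x := fun P f hf x hxP hx => by
      obtain ⟨g, -, hgf, hgY⟩ :=
        fixExt_cElts hS hF hD (strongInv_of_isNormalIn hS hF hD) P f hf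
      rw [← hgf x hxP, hgY x hx.2]
    have hfY : ∀ P f, IsMor X P f → ∀ x ∈ P, x ∈ V ⊓ Y → f x = x := fun P f hf x hxP hx => by
      obtain ⟨φ, hφ, e⟩ := hf
      obtain ⟨-, -, -, g, -, hgf, hgV⟩ := mem_centralizerHom.mp (hXfix P hφ)
      rw [← e ⟨x, hxP⟩, ← toFun_of_mem φ hxP, ← hgf x hxP, hgV x hx.1]
    have hzD : V ⊓ Y ≤ D.center :=
      le_center ((isCentral_iff_fixed hVp hD.1.1).mpr ⟨inf_le_left, hfV⟩)
    have hYp := isPGroup_of_le hYS hS
    have hzX : V ⊓ Y ≤ X.center :=
      le_center ((isCentral_iff_fixed hYp hX.1.1).mpr ⟨inf_le_right, hfY⟩)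
    have hcompall : ∀ (T' : Subgroup Ω) (K : FusionSystem T'), K.IsComponentIn E' p →
        K.IsSubsystemOf L ∨ K.IsSubsystemOf X := fun T' K hK => by
      rcases component_or_central hS hF hK hD with h | h
      · exact Or.inl (hL.2.1 T' K h)
      · exact Or.inr (component_isSubsystemOf hX.1.1
          (component_of_le hS hF hK hX (component_le_cElts hS hF hK hD h)))
    obtain ⟨P, hP, hPcp⟩ := exists_normal_centralProduct hS hF hD hX hcomm hzD hzX
    have hd := cpData_of_isCentralProductOf hPcp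
    have hPcomp : ∀ (T' : Subgroup Ω) (K : FusionSystem T'), K.IsComponentIn E' p →
        K.IsSubsystemOf P := fun T' K hK R => by
      rcases hcompall T' K hK with h | h
      · exact (h R).trans ((hL.1.1.2.2.1 R).trans (hd.sub₁ hVp hD.1.1 R))
      · exact (h R).trans (hd.symm.sub₁ hYp hX.1.1 R)
    have hdF := hd.congr hP.1.2.2.1 (hE.2.2 _ P hP hPcomp)
    have hLn : L.IsNormalIn E' p := hdF.normal_of_factor hS hF hD.1.1 hL.1
    have hWV : W ≤ V := hL.1.1.2.2.2.1.1
    have hWS := hWV.trans hVS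
    have : Finite W := finite_of_le hWS
    have hWp := isPGroup_of_le hWS hS
    have hcommW : ⁅W, Y⁆ = ⊥ := le_bot_iff.mp
      ((Subgroup.commutator_mono hWV le_rfl).trans hcomm.le)
    have hzL : W ⊓ Y ≤ L.center := le_center ((isCentral_iff_fixed hWp hL.1.1.1).mpr
      ⟨inf_le_left, fun Q f hf x hxQ hx =>
        hfV Q f (le_iff_isMor.mp hL.1.1.2.2.1 Q f hf) x hxQ ⟨hWV hx.1, hx.2⟩⟩)
    obtain ⟨P', hP', hP'cp⟩ := exists_normal_centralProduct hS hF hLn hX hcommW hzL
      ((inf_le_inf_right Y hWV).trans hzX)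
    have hd' := cpData_of_isCentralProductOf hP'cp
    have hP'comp : ∀ (T' : Subgroup Ω) (K : FusionSystem T'), K.IsComponentIn E' p →
        K.IsSubsystemOf P' := fun T' K hK R => by
      rcases hcompall T' K hK with h | h
      · exact (h R).trans (hd'.sub₁ hWp hL.1.1.1 R)
      · exact (h R).trans (hd'.symm.sub₁ hYp hX.1.1 R)
    exact (hd'.congr hP'.1.2.2.1 (hE.2.2 _ P' hP' hP'comp)).normal_of_factor hS hF hL.1.1.1 hCL

/-- Every component is a normal subsystem of the layer. -/
theorem component_normal_in_layer (hS : IsPGroup p S) (hF : F.IsSaturated p) {T U : Subgroup Ω}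
    {C : FusionSystem T} (hC : C.IsComponentIn F p) {E : FusionSystem U}
    (hE : E.IsLayerOf F p) : C.IsNormalIn E p :=
  component_normal_in_self_layer _ _ rfl hp hS rfl hF C hC E hE

end CfsgLib.Fusion
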