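import Mathlib
import Cfsg.Agent.Lib.Fusion.CommutingProduct
import Cfsg.Agent.Lib.Fusion.LayerExists
import Cfsg.Agent.S5150
import Cfsg.Agent.S5148
import Cfsg.Prelude.Def_FusionFitting

/-!
# The generalized Fitting subsystem
-/

set_option autoImplicit false
set_option linter.unusedSectionVars false

namespace CfsgLib.Fusion

open Cfsg Cfsg.FusionSystem

universe u

variable {Ω : Type u} [Group Ω] {S : Subgroup Ω} [Finite S] {F : FusionSystem S}
  {p : ℕ} [hp : Fact p.Prime]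

theorem isPGroup_prod {T₁ T₂ : Subgroup Ω} (hp₁ : IsPGroup p T₁) (hp₂ : IsPGroup p T₂) :
    IsPGroup p ↥(T₁.prod T₂) := by
  rintro ⟨⟨a, b⟩, ha, hb⟩
  obtain ⟨i, hi⟩ := hp₁ ⟨a, ha⟩
  obtain ⟨j, hj⟩ := hp₂ ⟨b, hb⟩
  have hi' : a ^ p ^ i = 1 := congrArg Subtype.val hi
  have hj' : b ^ p ^ j = 1 := congrArg Subtype.val hj
  refine ⟨i + j, Subtype.ext (Prod.ext ?_ ?_)⟩
  · show a ^ p ^ (i + j) = 1
    rw [pow_add, pow_mul, hi', one_pow]
  · show b ^ p ^ (i + j) = 1
    rw [add_comm, pow_add, pow_mul, hj', one_pow]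

/-- A central product of saturated systems is saturated. -/
theorem saturated_of_isCentralProductOf {T₁ T₂ T : Subgroup Ω} {E₁ : FusionSystem T₁}
    {E₂ : FusionSystem T₂} {D : FusionSystem T} [Finite T₁] [Finite T₂] (hp₁ : IsPGroup p T₁)
    (hp₂ : IsPGroup p T₂) (hs₁ : E₁.IsSaturated p) (hs₂ : E₂.IsSaturated p)
    (h : IsCentralProductOf E₁ E₂ D) : D.IsSaturated p := by
  obtain ⟨D₀, hD₀, Z, θ, hZ, -, -, -, -, hfac⟩ := h
  have : Finite ↥(T₁.prod T₂) := Finite.of_equiv _ (Subgroup.prodEquiv T₁ T₂).toEquiv.symm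
  have hsc : D₀.StronglyClosed Z := stronglyClosed_iff.mpr ⟨hfac.1, fun P f hf x hxP hxZ => by
    obtain ⟨g, -, hgf, hgZ⟩ := (isCentral_iff.mp (isCentral_center D₀)).2 P f hf
    rwa [← hgf x hxP, hgZ x (hZ hxZ)]⟩
  exact factor_isSaturated (isPGroup_prod hp₁ hp₂)
    (product_isSaturated hp₁ hp₂ hs₁ hs₂ hD₀) hsc hfac

section

variable {T : Subgroup Ω} {E : FusionSystem T}

theorem layer_le_centralizer_core (hS : IsPGroup p S) (hF : F.IsSaturated p)
    (hE : E.IsLayerOf F p) : T ≤ centralizerIn S F.core := by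
  obtain ⟨φ, hφ, -⟩ := isMor_id E (le_refl T)
  exact (Cfsg.Agent.S5150.result p hS F hF E hE T hφ).2.1

theorem commutator_core_layer (hS : IsPGroup p S) (hF : F.IsSaturated p)
    (hE : E.IsLayerOf F p) : ⁅F.core, T⁆ = ⊥ := by
  rw [Subgroup.commutator_comm]
  exact Subgroup.commutator_eq_bot_iff_le_centralizer.mpr
    ((layer_le_centralizer_core hS hF hE).trans inf_le_right)

theorem gfit_exists (hS : IsPGroup p S) (hF : F.IsSaturated p) :
    ∃ (U : Subgroup Ω) (D : FusionSystem U), D.IsGeneralizedFittingOf F p := by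
  obtain ⟨T, E, hE⟩ := exists_layer hS hF
  have hQ := isNormal_core F
  have hTS := hE.1.1.2.2.2.1.1
  have : Finite T := finite_of_le hTS
  have : Finite F.core := finite_of_le hQ.1
  have hIn := inner_isNormalIn hS hF hQ
  have hc := commutator_core_layer hS hF hE
  have hz₁ : F.core ⊓ T ≤ (innerFusionSystem F.core).center := by
    refine le_center ((isCentral_iff_fixed (isPGroup_of_le hQ.1 hS) hIn.1.1).mpr
      ⟨inf_le_left, fun P f hf x hxP hx => ?_⟩)
    obtain ⟨-, g, hg, hge⟩ := isMor_inner.mp hf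
    rw [hge x hxP, cj_apply, cj_fixed_iff]
    exact comm_of_commutator_bot hc hg hx.2
  have hz₂ : F.core ⊓ T ≤ E.center := by
    refine le_center ((isCentral_iff_fixed (isPGroup_of_le hTS hS) hE.1.1.1).mpr
      ⟨inf_le_right, fun P f hf x hxP hx => ?_⟩)
    obtain ⟨φ, hφ, e⟩ := hf
    obtain ⟨-, -, -, g, -, hgf, hgQ⟩ :=
      mem_centralizerHom.mp (Cfsg.Agent.S5150.result p hS F hF E hE P hφ)
    rw [← e ⟨x, hxP⟩, ← toFun_of_mem φ hxP, ← hgf x hxP, hgQ x hx.1]
  obtain ⟨D, -, hD⟩ := exists_normal_centralProduct hS hF hIn hE.1 hc hz₁ hz₂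
  exact ⟨_, D, T, E, hE, hD⟩

theorem gfit_normal (hS : IsPGroup p S) (hF : F.IsSaturated p) {U : Subgroup Ω}
    {D : FusionSystem U} (hD : D.IsGeneralizedFittingOf F p) : D.IsNormalIn F p := by
  obtain ⟨T, E, hE, hcp⟩ := hD
  have hQ := isNormal_core F
  have hTS := hE.1.1.2.2.2.1.1
  have : Finite T := finite_of_le hTS
  have : Finite F.core := finite_of_le hQ.1
  have hIn := inner_isNormalIn hS hF hQ
  exact centralProduct_normal hS hF hIn hE.1 (cpData_of_isCentralProductOf hcp)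
    (saturated_of_isCentralProductOf (isPGroup_of_le hQ.1 hS) (isPGroup_of_le hTS hS)
      hIn.1.1 hE.1.1.1 hcp)

theorem gfit_self_centralizing (hS : IsPGroup p S) (hF : F.IsSaturated p) {U : Subgroup Ω}
    {D : FusionSystem U} (hD : D.IsGeneralizedFittingOf F p) :
    (D.center ≤ centralizerIn S U ∧ ∀ P : Subgroup Ω, D.Hom P ⊆ F.centralizerHom D.center P) ∧
      ∀ Y : Subgroup Ω, Y ≤ centralizerIn S U →
        (∀ P : Subgroup Ω, D.Hom P ⊆ F.centralizerHom Y P) → Y ≤ D.center := by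
  have hDn := gfit_normal hS hF hD
  obtain ⟨T, E, hE, hcp⟩ := hD
  have hQ := isNormal_core F
  have hTS := hE.1.1.2.2.2.1.1
  have : Finite T := finite_of_le hTS
  have : Finite F.core := finite_of_le hQ.1
  have htop := (cpData_of_isCentralProductOf hcp).top
  obtain ⟨hDs, -, hsub, hU, -⟩ := id hDn.1
  have hUS : U ≤ S := hU.1
  have : Finite U := finite_of_le hUS
  have hcen := isCentral_center D
  have hZ : D.center ≤ centralizerIn S U := fun z hz => mem_centralizerIn.mpr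
    ⟨hUS (hcen.1 hz), fun u hu => by
      rw [cj_apply, cj_fixed_iff]
      exact (D.center_le_centralizer hz u hu).symm⟩
  refine ⟨⟨hZ, (hom_subset_centralizerHom_iff hsub hUS hZ).mpr fun P f hf => ?_⟩, fun Y hY h => ?_⟩
  · obtain ⟨g, hg, hgf, hgZ⟩ := (isCentral_iff.mp hcen).2 P f hf
    exact ⟨g, le_iff_isMor.mp hsub _ _ hg, hgf, hgZ⟩
  have hfix := (hom_subset_centralizerHom_iff hsub hUS hY).mp h
  have hYc := le_cElts hS hF (strongInv_of_isNormalIn hS hF hDn) hY hfix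
  obtain ⟨X, hX, -⟩ := exists_centralizer_normal hS hF hDn
  have : Finite (cElts F D p) := finite_of_le cElts_le'
  have hXp : IsPGroup p (cElts F D p) := isPGroup_of_le cElts_le' hS
  have hXc : X.IsConstrained p := (constrained_iff_no_component hXp hX.1.1).mpr
    fun ⟨T', C, hC⟩ => by
    have hT'T : T' ≤ T := isSubsystemOf_support (hE.2.1 T' C ⟨hC.1.step hX, hC.2⟩)
    have hT'Y : T' ≤ cElts F D p := subnormal_le hC.1
    have : Finite T' := finite_of_le (hT'T.trans hTS)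
    refine Cfsg.Agent.S5148.result p (isPGroup_of_le (hT'T.trans hTS) hS) C hC.2 ⟨⟨fun a b => ?_⟩⟩
    refine Subtype.ext ?_
    have h2 := (mem_centralizerIn.mp (cElts_le (hT'Y a.2))).2 b
      (htop.ge (Subgroup.mem_sup_right (hT'T b.2)))
    rwa [cj_apply, cj_fixed_iff] at h2
  obtain ⟨R, hRQ, -, hR⟩ := le_core_of_constrained hS hX.1 hXc
  have hYU : Y ≤ U := fun y hy => htop.ge (Subgroup.mem_sup_left (hRQ (hR (mem_centralizerIn.mpr
    ⟨hYc hy, fun r hr => (mem_centralizerIn.mp (hY hy)).2 r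
      (htop.ge (Subgroup.mem_sup_left (hRQ hr)))⟩))))
  refine le_center ((isCentral_iff_fixed (isPGroup_of_le hUS hS) hDs).mpr
    ⟨hYU, fun P f hf x hxP hxY => ?_⟩)
  obtain ⟨g, -, hgf, hgY⟩ := hfix P f hf
  rw [← hgf x hxP, hgY x hxY]

end

end CfsgLib.Fusion
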