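import Mathlib
import Cfsg.Agent.Lib.Fusion.ComponentNormal
import Cfsg.Agent.Lib.Fusion.GeneralizedFitting

/-!
# Components in central products
-/

set_option autoImplicit false
set_option linter.unusedSectionVars false

namespace CfsgLib.Fusion

open Cfsg Cfsg.FusionSystem

universe u

variable {Ω : Type u} [Group Ω] {S : Subgroup Ω} [Finite S] {F : FusionSystem S}
  {p : ℕ} [hp : Fact p.Prime]

theorem component_normal_in_gfit (hS : IsPGroup p S) (hF : F.IsSaturated p) {T U : Subgroup Ω}
    {C : FusionSystem T} (hC : C.IsComponentIn F p) {D : FusionSystem U}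
    (hD : D.IsGeneralizedFittingOf F p) : C.IsNormalIn D p := by
  have hDn := gfit_normal hS hF hD
  obtain ⟨V, E, hE, hcp⟩ := hD
  have hUS := hDn.1.2.2.2.1.1
  have hVS := hE.1.1.2.2.2.1.1
  have : Finite U := finite_of_le hUS
  have : Finite V := finite_of_le hVS
  have : Finite F.core := finite_of_le (isNormal_core F).1
  exact (cpData_of_isCentralProductOf hcp).symm.normal_of_factor (isPGroup_of_le hUS hS) hDn.1.1
    hE.1.1.1 (component_normal_in_layer hS hF hC hE)

theorem component_of_centralProduct (hS : IsPGroup p S) (hF : F.IsSaturated p)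
    {S₁ S₂ : Subgroup Ω} {F₁ : FusionSystem S₁} {F₂ : FusionSystem S₂} (h₁ : F₁.IsSaturated p)
    (h₂ : F₂.IsSaturated p) (h₁F : F₁.IsSubsystemOf F) (h₂F : F₂.IsSubsystemOf F)
    (hc : IsCentralProductOf F₁ F₂ F) {T : Subgroup Ω} {C : FusionSystem T}
    (hC : C.IsComponentIn F p) : C.IsComponentIn F₁ p ∨ C.IsComponentIn F₂ p := by
  have hS₁ := isSubsystemOf_support h₁F
  have hS₂ := isSubsystemOf_support h₂F
  have : Finite S₁ := finite_of_le hS₁
  have : Finite S₂ := finite_of_le hS₂
  have hd := cpData_of_isCentralProductOf hc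
  have hn₁ := hd.normal_of_factor hS hF h₁ (normalIn_refl (isPGroup_of_le hS₁ hS) h₁)
  have hn₂ := hd.symm.normal_of_factor hS hF h₂ (normalIn_refl (isPGroup_of_le hS₂ hS) h₂)
  rcases component_or_central hS hF hC hn₁ with h | hz₁
  · exact Or.inl h
  rcases component_or_central hS hF hC hn₂ with h | hz₂
  · exact Or.inr h
  exfalso
  have hT₁ := (component_le_cElts hS hF hC hn₁ hz₁).trans cElts_le
  have hT₂ := (component_le_cElts hS hF hC hn₂ hz₂).trans cElts_le
  have hTS := subnormal_le hC.1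
  have : Finite T := finite_of_le hTS
  refine Cfsg.Agent.S5148.result p (isPGroup_of_le hTS hS) C hC.2 ⟨⟨fun a b => Subtype.ext ?_⟩⟩
  show (a : Ω) * b = b * a
  have hcomm : ∀ {X : Subgroup Ω}, T ≤ centralizerIn S X → ∀ x ∈ X, (a : Ω) * x = x * a :=
    fun {X} hX x hx => by
      have h := (mem_centralizerIn.mp (hX a.2)).2 x hx
      rwa [cj_apply, cj_fixed_iff] at h
  obtain ⟨x, hx, y, hy, e⟩ := mem_sup_of_normalized
    (le_sup_left.trans (le_normalizer_of_comm hd.comm)) (hd.top.le (hTS b.2))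
  rw [← e, ← mul_assoc, hcomm hT₁ x hx, mul_assoc, hcomm hT₂ y hy, mul_assoc]

end CfsgLib.Fusion
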