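import Mathlib
import Cfsg.Agent.Lib.Fusion.Components
import Cfsg.Agent.Lib.Fusion.LocalModels
import Cfsg.Agent.Lib.Fusion.IsoNormal
import Cfsg.Agent.Lib.Components.PTimesQ

/-!
# Constrained local subsystems

Normalizer systems in a constrained system are constrained, and a saturated system is constrained
as soon as the centralizer of its core lies in a constrained subsystem.
-/

set_option autoImplicit false
set_option linter.unusedSectionVars false

namespace CfsgLib.Fusion

open Cfsg Cfsg.FusionSystem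

universe u

variable {Ω : Type u} [Group Ω] {S : Subgroup Ω} [Finite S] {F : FusionSystem S}
  {p : ℕ} [hp : Fact p.Prime]

theorem exists_coprime_ppow {M : Type*} [Group M] [Finite M] (δ : M) :
    ∃ a : ℕ, (orderOf (δ ^ p ^ a)).Coprime p := by
  obtain ⟨a, c, hc', hn'⟩ := Nat.exists_eq_pow_mul_and_not_dvd (orderOf_pos δ).ne' p hp.out.ne_one
  refine ⟨a, ?_⟩
  rw [orderOf_pow_of_dvd (pow_ne_zero a hp.out.ne_zero) (hn' ▸ dvd_mul_right _ _), hn',
    Nat.mul_div_cancel_left _ (pow_pos hp.out.pos a)]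
  exact (Nat.Coprime.symm ((hp.out.coprime_iff_not_dvd).mpr hc'))

theorem eq_one_of_coprime_ppow {M : Type*} [Group M] {δ : M} {a : ℕ}
    (hc : (orderOf δ).Coprime p) (h : δ ^ p ^ a = 1) : δ = 1 :=
  orderOf_eq_one_iff.mp (Nat.eq_one_of_dvd_coprimes (hc.pow_right a) dvd_rfl
    (orderOf_dvd_of_pow_eq_one h))

/-- The centralizer of a normal subgroup as a normal subsystem. -/
theorem exists_centralizer_of_normal (hS : IsPGroup p S) (hF : F.IsSaturated p) {Q : Subgroup Ω}
    (hQ : F.IsNormal Q) :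
    ∃ (T : Subgroup Ω) (D : FusionSystem T), T = centralizerIn S Q ∧ D.IsNormalIn F p ∧
      ∀ P f, IsMor D P f →
        ∃ g, IsMor F (P ⊔ Q) g ∧ (∀ x ∈ P, g x = f x) ∧ ∀ q ∈ Q, g q = q := by
  have hIn := inner_isNormalIn hS hF hQ
  obtain ⟨D, hD, hDc⟩ := exists_centralizer_normal hS hF hIn
  have hle : centralizerIn S Q ≤ cElts F (innerFusionSystem Q) p := by
    refine le_cElts hS hF (strongInv_of_isNormalIn hS hF hIn) le_rfl fun P f hf => ?_
    obtain ⟨hP, g, hg, hge⟩ := isMor_inner.mp hf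
    refine ⟨cj g, isMor_cj F (sup_le (hP.trans hQ.1) centralizerIn_le) (hQ.1 hg),
      fun x hx => (hge x hx).symm, fun c hc => ?_⟩
    have h2 : cj c g = g := (mem_centralizerIn.mp hc).2 g hg
    rw [cj_apply, cj_fixed_iff] at h2 ⊢
    exact h2.symm
  refine ⟨_, D, le_antisymm cElts_le hle, hD, fun P f hf => ?_⟩
  obtain ⟨φ, hφ, hφe⟩ := hf
  obtain ⟨g, hg, hgf, hgQ⟩ := (mem_centralizerHom.mp (hDc P hφ)).2.2.2
  exact ⟨g, hg, fun x hx => by rw [hgf x hx, toFun_of_mem φ hx]; exact hφe ⟨x, hx⟩, hgQ⟩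

/-- Thompson's lemma for an automorphism of a `p`-subgroup commuting with the action of `U`. -/
theorem eq_one_of_pTimesQ {Q U : Subgroup Ω} [Finite Q] (hQp : IsPGroup p Q) (hUp : IsPGroup p U)
    (hUQ : U ≤ Subgroup.normalizer (Q : Set Ω)) {γ : MulAut Q} (hc : (orderOf γ).Coprime p)
    (hcomm : ∀ u ∈ U, ∀ q ∈ Q, autFun γ (cj u q) = cj u (autFun γ q))
    (hfix : ∀ q ∈ Q, (∀ u ∈ U, cj u q = q) → autFun γ q = q) : γ = 1 := by
  classical
  have : Finite (MulAut Q) := MulEquiv.finite_left
  let G := Q ⋊[MonoidHom.id (MulAut Q)] MulAut Q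
  have : Finite G := Finite.of_equiv _ SemidirectProduct.equivProd.symm
  let act : U →* MulAut Q := Q.normalizerMonoidHom.comp (Subgroup.inclusion hUQ)
  let ρ : U →* G := SemidirectProduct.inr.comp act
  let R : Subgroup G := (SemidirectProduct.inl : Q →* G).range
  have hRn : R.Normal := by
    have : R = (SemidirectProduct.rightHom : G →* MulAut Q).ker :=
      SemidirectProduct.range_inl_eq_ker_rightHom
    rw [this]
    infer_instance
  have hnorm : Subgroup.normalizer (R : Set G) = ⊤ := Subgroup.normalizer_eq_top_iff.mpr hRn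
  set b : G := SemidirectProduct.inr γ with hb
  have hbconj : ∀ r : Q, b * SemidirectProduct.inl r * b⁻¹ = SemidirectProduct.inl (γ r) :=
    fun r => by
      rw [hb, ← map_inv, ← SemidirectProduct.inl_aut]
      rfl
  have hact : ∀ (u : U) (q : Q), ((act u q : Q) : Ω) = cj (u : Ω) q := fun _ _ => rfl
  have hcom : ∀ u : U, act u * γ = γ * act u := fun u => by
    refine MulEquiv.ext fun q => Subtype.ext ?_
    show ((act u (γ q) : Q) : Ω) = ((γ (act u q) : Q) : Ω)
    rw [hact, ← autFun_coe γ q, ← hcomm u u.2 q q.2, ← autFun_coe γ (act u q), hact]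
  have key : b ∈ Subgroup.centralizer (R : Set G) := by
    refine CfsgLib.Components.mem_centralizer_of_pTimesQ (p := p) (P := ρ.range)
      (hUp.of_surjective ρ.rangeRestrict ρ.rangeRestrict_surjective)
      (hQp.of_surjective (SemidirectProduct.inl : Q →* G).rangeRestrict
        (MonoidHom.rangeRestrict_surjective _))
      (hnorm ▸ le_top) ?_ ?_ (hnorm ▸ Subgroup.mem_top b) ?_
    · rwa [hb, orderOf_injective _ SemidirectProduct.inr_injective]
    · refine Subgroup.mem_centralizer_iff.mpr ?_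
      rintro _ ⟨u, rfl⟩
      show SemidirectProduct.inr (act u) * b = b * SemidirectProduct.inr (act u)
      rw [hb, ← map_mul, ← map_mul, hcom u]
    · rintro _ ⟨⟨r, rfl⟩, hr⟩
      have hr' : ∀ u : U, act u r = r := fun u => by
        have h1 := Subgroup.mem_centralizer_iff.mp hr (ρ u) ⟨u, rfl⟩
        have h2 : ρ u * SemidirectProduct.inl r * (ρ u)⁻¹ = SemidirectProduct.inl (act u r) := by
          show SemidirectProduct.inr (act u) * _ * (SemidirectProduct.inr (act u))⁻¹ = _
          rw [← map_inv, ← SemidirectProduct.inl_aut]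
          rfl
        rw [mul_inv_eq_iff_eq_mul.mpr h1] at h2
        exact (SemidirectProduct.inl_injective h2).symm
      have h3 := hfix r r.2 fun u hu => by rw [← hact ⟨u, hu⟩ r, hr' ⟨u, hu⟩]
      have h4 : γ r = r := Subtype.ext (by rw [← autFun_coe γ r]; exact h3)
      refine Subgroup.mem_centralizer_singleton_iff.mpr ?_
      have h5 := hbconj r
      rw [h4, mul_inv_eq_iff_eq_mul] at h5
      exact h5.symm
  refine MulEquiv.ext fun q => SemidirectProduct.inl_injective (φ := MonoidHom.id (MulAut Q)) ?_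
  rw [← hbconj q]
  exact mul_inv_eq_iff_eq_mul.mpr (Subgroup.mem_centralizer_iff.mp key _ ⟨q, rfl⟩).symm

/-- A normalizer system in a constrained system is constrained. -/
theorem constrained_normalizer (hS : IsPGroup p S) (hF : F.IsConstrained p) {U : Subgroup Ω}
    (hU : F.IsFullyNormalized U) {E : FusionSystem (normalizerIn S U)}
    (hE : F.IsNormalizerSystem U E) : E.IsConstrained p := by
  obtain ⟨hFs, Q₀, hQ₀, hQ₀c⟩ := hF
  have hNS : (normalizerIn S U) ≤ S := normalizerIn_le
  have : Finite (normalizerIn S U) := finite_of_le hNS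
  have hNp := isPGroup_of_le hNS hS
  have hEs := normalizerSystem_isSaturated hS hFs hU hE
  set Q := F.core with hQdef
  have hQn : F.IsNormal Q := isNormal_core F
  have hQc : F.IsCentric Q := centric_mono hQ₀c (le_core hQ₀) hQn.1
  have hQS : Q ≤ S := hQn.1
  have : Finite Q := finite_of_le hQS
  have hSQ : S ≤ Subgroup.normalizer (Q : Set Ω) :=
    stronglyClosed_le_normalizer (isNormal_stronglyClosed hQn)
  have hUS := hU.1
  have hUN : U ≤ (normalizerIn S U) := le_normalizerIn hUS
  -- the subgroup `W` is normal in `E`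
  set W := U ⊔ (Q ⊓ (normalizerIn S U)) with hWdef
  have hWN : W ≤ (normalizerIn S U) := sup_le hUN inf_le_right
  have : Finite W := finite_of_le (hWN.trans hNS)
  have hWn : E.IsNormal W := by
    refine isNormal_iff.mpr ⟨hWN, fun P f hf => ?_⟩
    obtain ⟨-, hP, hPm, g, hg, hgf, hgU⟩ := (isMor_normalizerSystem hE).mp hf
    obtain ⟨k, hk, hkg, hkQ⟩ := (isNormal_iff.mp hQn).2 _ g hg
    have hle : P ⊔ W ≤ P ⊔ U ⊔ Q := sup_le (le_sup_left.trans le_sup_left)
      (sup_le (le_sup_right.trans le_sup_left) (inf_le_left.trans le_sup_right))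
    have hkU : img U k = U := by
      rw [img_congr fun x hx => hkg x (Subgroup.mem_sup_right hx)]
      exact hgU
    have hkW : ∀ x ∈ Q ⊓ (normalizerIn S U), k x ∈ Q ⊓ (normalizerIn S U) := by
      intro x hx
      obtain ⟨hxQ, hxN⟩ := Subgroup.mem_inf.mp hx
      have hxQ' : x ∈ P ⊔ U ⊔ Q := Subgroup.mem_sup_right hxQ
      refine Subgroup.mem_inf.mpr ⟨hkQ ▸ mem_img_of_mem k hxQ,
        mem_normalizerIn.mpr ⟨hk.mem hxQ', ?_⟩⟩
      rw [Subgroup.mem_normalizer_iff_map_conj_eq]
      show U.map (MulAut.conj (k x)).toMonoidHom = U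
      rw [← img_cj]
      refine (isMor_cj F hUS (hk.mem hxQ')).img_eq_self fun y hy => ?_
      obtain ⟨z, hz, rfl⟩ := ((hk.restrict le_sup_left).restrict le_sup_right).mem_img.mp
        (hkU.ge hy)
      have hz' : z ∈ P ⊔ U ⊔ Q := Subgroup.mem_sup_left (Subgroup.mem_sup_right hz)
      rw [cj_apply, ← hk.map_conj hxQ' hz']
      exact hkU.le (mem_img_of_mem k
        ((Subgroup.mem_normalizer_iff.mp (mem_normalizerIn.mp hxN).2 z).mp hz))
    have hkWeq : img W k = W := by
      refine (hk.restrict (le_sup_right.trans hle)).img_eq_self fun x hx => ?_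
      have h1 := mem_img_of_mem k hx
      rw [hWdef, (hk.restrict (le_sup_right.trans hle)).img_sup, hkU] at h1
      exact sup_le_sup_left (img_le hkW) U h1
    have hkP : ∀ x ∈ P, k x = f x := fun x hx =>
      (hkg x (Subgroup.mem_sup_left hx)).trans (hgf x hx)
    refine ⟨k, (isMor_normalizerSystem hE).mpr ⟨hk.restrict hle, sup_le hP hWN, fun x hx => ?_,
      k, hk.restrict (sup_le hle (le_sup_right.trans le_sup_left)), fun _ _ => rfl, hkU⟩,
      hkP, hkWeq⟩
    have h1 := mem_img_of_mem k hx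
    rw [(hk.restrict hle).img_sup, hkWeq] at h1
    exact sup_le (img_le fun y hy => hkP y hy ▸ hPm y hy) hWN h1
  -- the centralizer of `W` lies in the core of `E`
  obtain ⟨K, D, hK, hD, hDext⟩ := exists_centralizer_of_normal hNp hEs hWn
  have hKN : K ≤ (normalizerIn S U) := hK ▸ centralizerIn_le
  have : Finite K := finite_of_le (hKN.trans hNS)
  have hKp := isPGroup_of_le (hKN.trans hNS) hS
  have hDs : D.IsSaturated p := hD.1.1
  have hinner : D ≤ innerFusionSystem K := by
    refine le_of_coprime_aut hKp hDs fun P hP α hα hc => ?_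
    suffices h : α = 1 by rw [h]; exact one_mem _
    obtain ⟨g, hg, hgf, hgW⟩ := hDext P _ (isMor_autFun hP hα)
    have hgF : IsMor F (P ⊔ W) g := ((isMor_normalizerSystem hE).mp hg).1
    obtain ⟨k, hk, hkg, hkQ⟩ := (isNormal_iff.mp hQn).2 _ g hgF
    set R := P ⊔ W ⊔ Q with hR
    have hkP : ∀ x ∈ P, k x = autFun α x := fun x hx =>
      (hkg x (Subgroup.mem_sup_left hx)).trans (hgf x hx)
    have hkW : ∀ x ∈ W, k x = x := fun x hx =>
      (hkg x (Subgroup.mem_sup_right hx)).trans (hgW x hx)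
    have hkR : img R k = R := by
      rw [hR, hk.img_sup, hkQ, (hk.restrict le_sup_left).img_sup, img_congr hkP, img_autFun,
        img_congr (g := id) hkW, img_id]
    obtain ⟨β, hβ, hβe⟩ := exists_aut hk hkR
    have hRS : R ≤ S := hk.le
    have : Finite R := finite_of_le hRS
    have : Finite (MulAut R) := finite_mulAut hRS
    have hPR : P ≤ R := le_sup_left.trans le_sup_left
    have hWR : W ≤ R := le_sup_right.trans le_sup_left
    have hQR : Q ≤ R := le_sup_right
    obtain ⟨a, ha⟩ := exists_coprime_ppow (p := p) β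
    set β' := β ^ p ^ a with hβ'
    have hβ'P : ∀ x ∈ P, autFun β' x = autFun (α ^ p ^ a) x :=
      autFun_pow_congr hPR (fun x hx => (hβe x (hPR hx)).trans (hkP x hx)) _
    have hβ'W : ∀ x ∈ W, autFun β' x = x := fun x hx => by
      rw [hβ', autFun_pow_congr hWR (a := (1 : MulAut W))
        (fun y hy => by rw [hβe y (hWR hy), hkW y hy, autFun_one hy]) _ x hx, one_pow, autFun_one hx]
    have hβ'Qm : ∀ x ∈ Q, autFun β' x ∈ Q :=
      autFun_pow_mem hQR (fun x hx => by
        rw [hβe x (hQR hx)]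
        exact hkQ ▸ mem_img_of_mem k hx) _
    have hβ'F : β' ∈ F.autGroup R := Subgroup.pow_mem _ hβ _
    have hβm := isMor_autFun hRS hβ'F
    -- `β'` fixes `Q`
    have hQfix : ∀ q ∈ Q, autFun β' q = q := by
      obtain ⟨γ, -, hγe⟩ := exists_aut (hβm.restrict hQR)
        ((hβm.restrict hQR).img_eq_self hβ'Qm)
      have hγc : (orderOf γ).Coprime p := by
        refine Nat.Coprime.coprime_dvd_left ?_ ha
        refine orderOf_dvd_of_pow_eq_one (autFun_inj fun x hx => ?_)
        rw [autFun_one hx, ← autFun_pow_congr hQR (fun y hy => (hγe y hy).symm) _ x hx,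
          pow_orderOf_eq_one, autFun_one (hQR hx)]
      have hγ1 : γ = 1 := by
        refine eq_one_of_pTimesQ (isPGroup_of_le hQS hS) (isPGroup_of_le hUS hS) (hUS.trans hSQ)
          hγc (fun u hu q hq => ?_) fun q hq h => ?_
        · have hm : cj u q ∈ Q := (Subgroup.mem_normalizer_iff.mp (hSQ (hUS hu)) q).mp hq
          rw [hγe _ hm, hγe _ hq]
          show autFun β' (u * q * u⁻¹) = _
          rw [hβm.map_conj (hWR (Subgroup.mem_sup_left hu)) (hQR hq),
            hβ'W u (Subgroup.mem_sup_left hu)]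
          rfl
        · rw [hγe q hq]
          refine hβ'W q (Subgroup.mem_sup_right (Subgroup.mem_inf.mpr ⟨hq,
            mem_normalizerIn.mpr ⟨hQS hq, centralizer_le_normalizer _
              (Subgroup.mem_centralizer_iff.mpr fun u hu => ?_)⟩⟩))
          exact cj_fixed_iff.mp (h u hu)
      intro q hq
      rw [← hγe q hq, hγ1, autFun_one hq]
    -- `β'` is trivial on `P`
    have hPfix : ∀ x ∈ P, autFun β' x = x := fun x hx => by
      have hxR := hPR hx
      refine fix_of_diff_fixed (isPGroup_of_le hRS hS) ha hxR (hQfix _ ?_)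
      have hb := hβm.mem hxR
      refine centric_centralizer_le hQc (mem_centralizerIn.mpr
        ⟨S.mul_mem (S.inv_mem (hRS hxR)) hb, fun q hq => ?_⟩)
      have hm : cj x q ∈ Q := (Subgroup.mem_normalizer_iff.mp (hSQ (hRS hxR)) q).mp hq
      have h1 : autFun β' (x * q * x⁻¹) = x * q * x⁻¹ := hQfix _ hm
      rw [hβm.map_conj hxR (hQR hq), hQfix q hq] at h1
      rw [cj_mul]
      show cj x⁻¹ (autFun β' x * q * (autFun β' x)⁻¹) = q
      rw [h1]
      exact cj_inv_cj x q
    refine eq_one_of_coprime_ppow hc (a := a) (autFun_inj fun x hx => ?_)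
    rw [← hβ'P x hx, hPfix x hx, autFun_one hx]
  have hKnD : D.IsNormal K := by
    refine isNormal_iff.mpr ⟨le_rfl, fun P f hf => ?_⟩
    obtain ⟨hP, t, ht, hte⟩ := isMor_inner.mp (le_iff_isMor.mp hinner P f hf)
    exact ⟨cj t, isMor_cj D (sup_le hP le_rfl) ht, fun x hx => (hte x hx).symm,
      img_cj_of_normalizer (Subgroup.le_normalizer ht)⟩
  have hKcore : K ≤ E.core := by
    refine le_trans (fun r hr => ?_) (le_core (isNormal_closure_images hNp hD.1 hKnD))
    obtain ⟨φ, hφ, hφe⟩ := isMor_id E hKN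
    exact Subgroup.subset_closure ⟨φ, hφ, ⟨r, hr⟩, (hφe ⟨r, hr⟩).symm⟩
  refine ⟨hEs, E.core, isNormal_core E, (isNormal_core E).1, fun R hR => ?_⟩
  obtain ⟨f, hf, rfl⟩ := isConj_iff.mp hR
  rw [hf.img_eq_self fun x hx =>
    (stronglyClosed_iff.mp (isNormal_stronglyClosed (isNormal_core E))).2 _ f hf x hx hx]
  exact (centralizerIn_anti (le_core hWn)).trans (hK ▸ hKcore)

/-- A system is constrained if the centralizer of its core lies in a constrained subsystem. -/
theorem constrained_of_centralizer (hS : IsPGroup p S) (hF : F.IsSaturated p) {T : Subgroup Ω}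
    [Finite T] (hTp : IsPGroup p T) (hT : centralizerIn S F.core ≤ T) {M : FusionSystem T}
    (hM : M.IsConstrained p) (hMF : M.IsSubsystemOf F)
    (hcen : ∀ P f g, IsMor F (P ⊔ F.core) g → (∀ x ∈ P, g x = f x) →
      (∀ q ∈ F.core, g q = q) → P ≤ centralizerIn S F.core →
      (∀ x ∈ P, f x ∈ centralizerIn S F.core) → IsMor M P f) :
    F.IsConstrained p := by
  set Q := F.core with hQdef
  have hQn : F.IsNormal Q := isNormal_core F
  obtain ⟨K, D, hK, hD, hDext⟩ := exists_centralizer_of_normal hS hF hQn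
  have hKsc := (stronglyClosed_iff.mp hD.1.2.2.2.1).2
  have hDM : ∀ P f, IsMor D P f → IsMor M P f := fun P f hf => by
    obtain ⟨g, hg, hgf, hgQ⟩ := hDext P f hf
    exact hcen P f g hg hgf hgQ (hK ▸ hf.le) fun x hx => hK ▸ hf.mem hx
  have hsc : M.StronglyClosed (K.map (MonoidHom.id Ω)) := by
    rw [Subgroup.map_id]
    exact stronglyClosed_iff.mpr ⟨hK ▸ hT, fun P f hf x hx hxK =>
      hKsc P f (le_iff_isMor.mp hMF P f hf) x hx hxK⟩
  have hDc : D.IsConstrained p :=
    constrained_pullback hTp hM (MonoidHom.id Ω) (fun _ _ e => e) hD.1.1 hsc fun P f hf =>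
      ⟨f, by rw [Subgroup.map_id]; exact hDM P f hf, fun _ _ => rfl⟩
  obtain ⟨R, hRQ, hRK, hRc⟩ := le_core_of_constrained hS hD.1 hDc
  refine ⟨hF, Q, hQn, hQn.1, fun R' hR' => ?_⟩
  obtain ⟨f, hf, rfl⟩ := isConj_iff.mp hR'
  rw [hf.img_eq_self fun x hx =>
    (stronglyClosed_iff.mp (isNormal_stronglyClosed hQn)).2 _ f hf x hx hx]
  intro y hy
  refine hRQ (hRc (mem_centralizerIn.mpr ⟨hK ▸ hy, fun r hr => ?_⟩))
  exact (mem_centralizerIn.mp hy).2 r (hRQ hr)

/-- Constrained systems are carried to constrained systems by isomorphisms. -/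
theorem IsIso.constrained {θ : Ω → Ω} {S' : Subgroup Ω} {F' : FusionSystem S'}
    (h : IsIso F θ F') (hS : IsPGroup p S) (hF : F.IsConstrained p) : F'.IsConstrained p := by
  have := h.finite
  have hS' := h.isPGroup hS
  refine (constrained_iff_no_component hS' (h.isSaturated hS hF.1)).mpr ?_
  rintro ⟨T', C', hC', hq⟩
  have hTS' := subnormal_le hC'
  have : Finite T' := finite_of_le hTS'
  obtain ⟨C, hC⟩ := exists_isIso_sub h.symm (D := C') hTS'
  exact (constrained_iff_no_component hS hF.1).mp hF ⟨_, C,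
    iso_subnormal hC' hp inferInstance hS' h.symm hC, hC.quasisimple (isPGroup_of_le hTS' hS') hq⟩

/-- Transporting maps of one normalizer system into another. -/
theorem isMor_normalizer_transport {U U' : Subgroup Ω} (hU : U ≤ S) {α αi : Ω → Ω}
    (hα : IsMor F (normalizerIn S U) α) (hαU : img U α = U')
    (hαN : ∀ x ∈ normalizerIn S U, α x ∈ normalizerIn S U')
    (hαi : IsMor F (img (normalizerIn S U) α) αi) (hl : ∀ x ∈ normalizerIn S U, αi (α x) = x)
    {E : FusionSystem (normalizerIn S U)} (hE : F.IsNormalizerSystem U E)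
    {E' : FusionSystem (normalizerIn S U')} (hE' : F.IsNormalizerSystem U' E')
    {P : Subgroup Ω} {f : Ω → Ω} (hf : IsMor E P f) :
    IsMor E' (img P α) (α ∘ f ∘ αi) := by
  obtain ⟨hfF, hP, hfm, g, hg, hgf, hgU⟩ := (isMor_normalizerSystem hE).mp hf
  have hUN : U ≤ normalizerIn S U := le_normalizerIn hU
  have hPU : P ⊔ U ≤ normalizerIn S U := sup_le hP hUN
  have hgN : ∀ x ∈ P ⊔ U, g x ∈ normalizerIn S U := fun x hx => by
    have h1 := mem_img_of_mem g hx
    rw [hg.img_sup, hgU] at h1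
    exact sup_le (img_le fun y hy => hgf y hy ▸ hfm y hy) hUN h1
  have hsup : img P α ⊔ U' = img (P ⊔ U) α := by rw [(hα.restrict hPU).img_sup, hαU]
  have h1 : IsMor F (img (P ⊔ U) α) (α ∘ g ∘ αi) := by
    refine ((hαi.restrict (img_mono α hPU)).comp hg fun y hy => ?_).comp hα fun y hy => ?_
    · obtain ⟨x, hx, rfl⟩ := (hα.restrict hPU).mem_img.mp hy
      rwa [hl x (hPU hx)]
    · obtain ⟨x, hx, rfl⟩ := (hα.restrict hPU).mem_img.mp hy
      show g (αi (α x)) ∈ _
      rw [hl x (hPU hx)]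
      exact hgN x hx
  have heq : ∀ y ∈ img P α, (α ∘ g ∘ αi) y = (α ∘ f ∘ αi) y := fun y hy => by
    obtain ⟨x, hx, rfl⟩ := (hα.restrict hP).mem_img.mp hy
    show α (g (αi (α x))) = α (f (αi (α x)))
    rw [hl x (hP hx), hgf x hx]
  refine (isMor_normalizerSystem hE').mpr ⟨(h1.restrict (img_mono α le_sup_left)).congr heq,
    img_le fun x hx => hαN x (hP hx), fun y hy => ?_, α ∘ g ∘ αi, hsup ▸ h1, heq, ?_⟩
  · obtain ⟨x, hx, rfl⟩ := (hα.restrict hP).mem_img.mp hy
    show α (f (αi (α x))) ∈ _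
    rw [hl x (hP hx)]
    exact hαN _ (hfm x hx)
  · conv_lhs => rw [← hαU]
    rw [(hα.restrict hUN).img_comp, img_congr (g := α ∘ g) fun x hx => by
        show α (g (αi (α x))) = α (g x)
        rw [hl x (hUN hx)],
      ← (hg.restrict le_sup_right).img_comp, hgU, hαU]

/-- Normalizer systems of fully normalized conjugates are isomorphic. -/
theorem normalizer_isIso {U U' : Subgroup Ω} (hU : F.IsFullyNormalized U) (hU' : U' ≤ S)
    {α : Ω → Ω} (hα : IsMor F (normalizerIn S U) α) (hαU : img U α = U')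
    (hαN : img (normalizerIn S U) α ≤ normalizerIn S U')
    {E : FusionSystem (normalizerIn S U)} (hE : F.IsNormalizerSystem U E)
    {E' : FusionSystem (normalizerIn S U')} (hE' : F.IsNormalizerSystem U' E') :
    IsIso E α E' := by
  have hUN : U ≤ normalizerIn S U := le_normalizerIn hU.1
  have hcard : Nat.card (normalizerIn S U') ≤ Nat.card (normalizerIn S U) :=
    hU.2 U' (hαU ▸ isConj_img (hα.restrict hUN))
  have hrange : img (normalizerIn S U) α = normalizerIn S U' :=
    eq_of_le_of_card normalizerIn_le hαN (hcard.trans hα.card_img.ge)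
  have hm : ∀ x ∈ normalizerIn S U, α x ∈ normalizerIn S U' := fun x hx =>
    hαN (mem_img_of_mem α hx)
  obtain ⟨αi, hαi, hl, hr, hi⟩ := hα.inverse
  refine ⟨fun x hx y hy => hα.map_mul hx hy, fun x hx y hy e => hα.inj hx hy e,
    (imgT_eq_img _ _).trans hrange, fun P f hf => ⟨α ∘ f ∘ αi, ?_, fun x hx => ?_⟩,
    fun P hP f' hf' => ⟨αi ∘ f' ∘ α, ?_, fun x hx => ?_⟩⟩
  · rw [imgT_eq_img]
    exact isMor_normalizer_transport hU.1 hα hαU hm hαi hl hE hE' hf
  · show α (f (αi (α x))) = α (f x)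
    rw [hl x (hf.le hx)]
  · rw [imgT_eq_img] at hf'
    rw [hrange] at hαi hr hi
    have hαiU : img U' αi = U := by
      conv_lhs => rw [← hαU]
      rw [(hα.restrict hUN).img_comp, img_congr (f := αi ∘ α) (g := id) fun x hx => hl x (hUN hx), img_id]
    obtain ⟨αj, hαj, hjl, -, -⟩ := hαi.inverse
    have hjα : ∀ x ∈ normalizerIn S U, αj x = α x := fun x hx => by
      conv_lhs => rw [← hl x hx]
      exact hjl _ (hm x hx)
    have h := isMor_normalizer_transport hU' hαi hαiU
      (fun y hy => hi ▸ mem_img_of_mem αi hy) hαj hjl hE' hE hf'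
    rw [(hα.restrict hP).img_comp, img_congr (f := αi ∘ α) (g := id) fun x hx => hl x (hP hx), img_id] at h
    refine h.congr fun x hx => ?_
    show αi (f' (αj x)) = αi (f' (α x))
    rw [hjα x (hP hx)]
  · show f' (α x) = α (αi (f' (α x)))
    rw [imgT_eq_img] at hf'
    rw [hr _ (hrange ▸ hf'.mem (mem_img_of_mem α hx))]

end CfsgLib.Fusion
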