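import Mathlib
import Cfsg.Prelude.Def_CaseTheorems

/-!
# A 2-group with a four-subgroup all of whose involutions have the same centralizer `D × B`

`T` is the whole group unless it is elementary abelian of order 16, when the group has order at
most 128. In both cases every elementary abelian section has order at most 16.
-/

set_option autoImplicit false

namespace CfsgLib.Fusion.DihedralByFour

open scoped Pointwise

variable {G : Type*} [Group G]

/-- `S` is a 2-group, `T ≤ S` and every involution of the four-group `B` has centralizer `T`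
in `S`. -/
structure Setting (S T B : Subgroup G) : Prop where
  hS : IsPGroup 2 S
  hTS : T ≤ S
  hBT : B ≤ T
  cardB : Nat.card B = 4
  sqB : ∀ b ∈ B, b * b = 1
  comm : ∀ t ∈ T, ∀ b ∈ B, t * b = b * t
  cent : ∀ b ∈ B, b ≠ 1 → ∀ s ∈ S, s * b = b * s → s ∈ T

/-- Elementary abelian factors of `P` have order at most 16. -/
def Small (P : Subgroup G) : Prop :=
  ∀ K : Subgroup P, K.Normal → (∀ a b : P, a * b * a⁻¹ * b⁻¹ ∈ K) → (∀ a : P, a * a ∈ K) →
    K.index ≤ 16

theorem small_of_card_le [Finite G] {P : Subgroup G} (h : Nat.card P ≤ 16) : Small P :=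
  fun K _ _ _ => le_trans (Nat.le_of_dvd Nat.card_pos K.index_dvd_card) h

variable [Finite G] {S T B : Subgroup G}

/-- A subgroup with an element having a centralizer of order at most 16 is small. -/
theorem small_of_centralizer {P : Subgroup G} {c : G} (hc : c ∈ P)
    (h : Nat.card ↥(P ⊓ Subgroup.centralizer ({c} : Set G)) ≤ 16) : Small P := by
  intro K hK hcomm _
  set c' : P := ⟨c, hc⟩
  set C : Subgroup P := Subgroup.centralizer ({c'} : Set P) with hC
  have hCc : Nat.card C ≤ 16 := by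
    refine le_trans (Nat.card_le_card_of_injective
      (fun x : C => (⟨((x : P) : G), (x : P).2, Subgroup.mem_centralizer_singleton_iff.2
        (congrArg Subtype.val (Subgroup.mem_centralizer_singleton_iff.1 x.2))⟩ :
        ↥(P ⊓ Subgroup.centralizer ({c} : Set G)))) fun x y e => ?_) h
    exact Subtype.ext (Subtype.ext (congrArg Subtype.val e :))
  let f : P ⧸ C → K := Quotient.lift (fun p : P => (⟨p * c' * p⁻¹ * c'⁻¹, hcomm p c'⟩ : K))
    fun a b hab => by
      have h1 : a⁻¹ * b ∈ C := QuotientGroup.leftRel_apply.1 hab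
      have h2 := Subgroup.mem_centralizer_singleton_iff.1 h1
      refine Subtype.ext ?_
      show a * c' * a⁻¹ * c'⁻¹ = b * c' * b⁻¹ * c'⁻¹
      have h3 : b = a * (a⁻¹ * b) := (mul_inv_cancel_left a b).symm
      congr 1
      rw [h3, mul_inv_rev, mul_assoc a (a⁻¹ * b) c', h2]
      group
  have hf : Function.Injective f := by
    intro x y e
    obtain ⟨a, rfl⟩ := QuotientGroup.mk_surjective x
    obtain ⟨b, rfl⟩ := QuotientGroup.mk_surjective y
    refine QuotientGroup.eq.2 (Subgroup.mem_centralizer_singleton_iff.2 ?_)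
    have e' : a * c' * a⁻¹ = b * c' * b⁻¹ := mul_right_cancel (congrArg Subtype.val e :)
    calc a⁻¹ * b * c' = a⁻¹ * (b * c' * b⁻¹) * b := by group
      _ = c' * (a⁻¹ * b) := by rw [← e']; group
  have h1 : C.index ≤ Nat.card K := by
    rw [Subgroup.index]; exact Nat.card_le_card_of_injective f hf
  have h2 := C.card_mul_index
  have h3 := K.card_mul_index
  have h4 : Nat.card K * K.index ≤ Nat.card K * 16 := by
    rw [h3, ← h2]
    calc Nat.card C * C.index ≤ 16 * Nat.card K := Nat.mul_le_mul hCc h1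
      _ = Nat.card K * 16 := mul_comm _ _
  exact Nat.le_of_mul_le_mul_left h4 Nat.card_pos

/-- A nontrivial element of a subgroup meeting `B` by counting. -/
theorem exists_mem_of_card {X Y Z : Subgroup G} (hX : X ≤ Z) (hY : Y ≤ Z)
    (h : Nat.card Z < Nat.card X * Nat.card Y) : ∃ y ∈ X, y ∈ Y ∧ y ≠ 1 := by
  by_contra hne
  push Not at hne
  refine absurd (Nat.card_le_card_of_injective
    (fun w : X × Y => (⟨(w.1 : G) * w.2, mul_mem (hX w.1.2) (hY w.2.2)⟩ : Z)) ?_)
    (not_le.2 (by rwa [Nat.card_prod]))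
  rintro ⟨a, b⟩ ⟨a', b'⟩ e
  have e' : (a : G) * b = a' * b' := congrArg Subtype.val e
  have h1 : (a' : G)⁻¹ * a = (b' : G) * (b : G)⁻¹ :=
    by
      rw [inv_mul_eq_iff_eq_mul, ← mul_assoc, ← e', mul_inv_cancel_right]
  have h2 : (a' : G)⁻¹ * a = 1 := hne _ (mul_mem (inv_mem a'.2) a.2)
    (h1 ▸ mul_mem b'.2 (inv_mem b.2))
  rw [inv_mul_eq_one] at h2
  rw [h2] at e'
  exact Prod.ext (Subtype.ext h2.symm) (Subtype.ext (mul_left_cancel e'))

/-- The fixed points of an involutory action on an elementary abelian group. -/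
theorem card_le_fixed_sq {Z : Subgroup G} {σ : G} (hab : ∀ a ∈ Z, ∀ b ∈ Z, a * b = b * a)
    (hsq : ∀ a ∈ Z, a * a = 1) (hn : ∀ a ∈ Z, σ * a * σ⁻¹ ∈ Z)
    (hs : ∀ a ∈ Z, σ * σ * a = a * (σ * σ)) :
    Nat.card Z ≤ Nat.card ↥(Z ⊓ Subgroup.centralizer ({σ} : Set G)) *
      Nat.card ↥(Z ⊓ Subgroup.centralizer ({σ} : Set G)) := by
  let f : Z →* Z := MonoidHom.mk' (fun a => ⟨(a : G) * (σ * a * σ⁻¹), mul_mem a.2 (hn _ a.2)⟩)
    fun a b => Subtype.ext (by
      show (a : G) * b * (σ * ((a : G) * b) * σ⁻¹) = _ * _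
      have h1 := hab _ b.2 _ (hn _ a.2)
      calc (a : G) * b * (σ * ((a : G) * b) * σ⁻¹)
          = (a : G) * ((b : G) * (σ * a * σ⁻¹)) * (σ * b * σ⁻¹) := by group
        _ = (a : G) * (σ * a * σ⁻¹) * ((b : G) * (σ * b * σ⁻¹)) := by rw [h1]; group)
  have hfix : ∀ a ∈ Z, σ * a = a * σ → a ∈ Z ⊓ Subgroup.centralizer ({σ} : Set G) :=
    fun a ha e => ⟨ha, Subgroup.mem_centralizer_singleton_iff.2 e.symm⟩
  rw [← f.ker.card_mul_index, Subgroup.index_ker]
  refine Nat.mul_le_mul ?_ ?_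
  · refine Nat.card_le_card_of_injective (fun a : f.ker => (⟨((a : Z) : G),
      hfix _ (a : Z).2 ?_⟩ : ↥(Z ⊓ Subgroup.centralizer ({σ} : Set G)))) fun x y e =>
      Subtype.ext (Subtype.ext (congrArg Subtype.val e :))
    have h1 : ((a : Z) : G) * (σ * (a : Z) * σ⁻¹) = 1 := congrArg Subtype.val a.2
    have h2 := inv_eq_of_mul_eq_one_right h1
    rw [inv_eq_of_mul_eq_one_right (hsq _ (a : Z).2)] at h2
    calc σ * ((a : Z) : G) = σ * (a : Z) * σ⁻¹ * σ := by group
      _ = _ := by rw [← h2]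
  · refine Nat.card_le_card_of_injective (fun w : f.range => (⟨((w : Z) : G),
      hfix _ (w : Z).2 ?_⟩ : ↥(Z ⊓ Subgroup.centralizer ({σ} : Set G)))) fun x y e =>
      Subtype.ext (Subtype.ext (congrArg Subtype.val e :))
    obtain ⟨a, ha⟩ := w.2
    rw [← ha]
    show σ * ((a : G) * (σ * a * σ⁻¹)) = (a : G) * (σ * a * σ⁻¹) * σ
    have h1 := hab _ a.2 _ (hn _ a.2)
    calc σ * ((a : G) * (σ * a * σ⁻¹)) = σ * a * σ⁻¹ * (σ * σ * a) * σ⁻¹ := by group
      _ = σ * a * σ⁻¹ * (a : G) * σ := by rw [hs _ a.2]; group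
      _ = _ := by rw [← h1]

/-- An element of a 2-group above a proper subgroup that squares into it, modulo which it is
central in the normalizer. -/
theorem exists_central_over {S T : Subgroup G} (hS : IsPGroup 2 S) (hTS : T ≤ S)
    {N : Subgroup G} (hTN : T < N) (hNS : N ≤ S) (hNT : N ≤ Subgroup.normalizer (T : Set G)) :
    ∃ σ ∈ N, σ ∉ T ∧ σ * σ ∈ T ∧ ∀ n ∈ N, n * σ * n⁻¹ * σ⁻¹ ∈ T := by
  haveI : Fact (Nat.Prime 2) := ⟨Nat.prime_two⟩
  haveI : (T.subgroupOf N).Normal := (Subgroup.normal_subgroupOf_iff_le_normalizer hTN.le).2 hNT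
  have hN : IsPGroup 2 N := hS.to_le hNS
  have hQ := hN.to_quotient (T.subgroupOf N)
  haveI : Nontrivial (N ⧸ T.subgroupOf N) := by
    refine (QuotientGroup.nontrivial_iff).2 fun e => hTN.not_ge ?_
    exact Subgroup.subgroupOf_eq_top.1 e
  haveI := hQ.center_nontrivial
  obtain ⟨k, hk0, hk⟩ := ((hQ.to_subgroup (Subgroup.center _)).nontrivial_iff_card).1
    (inferInstance : Nontrivial (Subgroup.center (N ⧸ T.subgroupOf N)))
  obtain ⟨c, hc⟩ := exists_prime_orderOf_dvd_card' 2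
    (G := ↥(Subgroup.center (N ⧸ T.subgroupOf N))) (hk ▸ dvd_pow_self 2 (by omega))
  obtain ⟨n, hn⟩ := QuotientGroup.mk_surjective (c : N ⧸ T.subgroupOf N)
  have hc2 : orderOf (c : N ⧸ T.subgroupOf N) = 2 := by rw [Subgroup.orderOf_coe, hc]
  refine ⟨n, n.2, fun h => ?_, ?_, fun m hm => ?_⟩
  · have : (c : N ⧸ T.subgroupOf N) = 1 := hn ▸ (QuotientGroup.eq_one_iff n).2 h
    rw [this, orderOf_one] at hc2
    omega
  · have : (QuotientGroup.mk (n * n) : N ⧸ T.subgroupOf N) = 1 := by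
      rw [QuotientGroup.mk_mul, hn, ← pow_two, ← hc2, pow_orderOf_eq_one]
    exact Subgroup.mem_subgroupOf.1 ((QuotientGroup.eq_one_iff (n * n)).1 this)
  · have : (QuotientGroup.mk (⟨m, hm⟩ * n * ⟨m, hm⟩⁻¹ * n⁻¹) : N ⧸ T.subgroupOf N) = 1 := by
      rw [QuotientGroup.mk_mul, QuotientGroup.mk_mul, QuotientGroup.mk_mul, QuotientGroup.mk_inv,
        QuotientGroup.mk_inv, hn, Subgroup.mem_center_iff.1 c.2, mul_inv_cancel_right,
        mul_inv_cancel]
    exact Subgroup.mem_subgroupOf.1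
      ((QuotientGroup.eq_one_iff (⟨m, hm⟩ * n * ⟨m, hm⟩⁻¹ * n⁻¹)).1 this)

/-- The normalizer condition inside a 2-group. -/
theorem exists_normalizing {S T : Subgroup G} (hS : IsPGroup 2 S) (hTS : T < S) :
    T < S ⊓ Subgroup.normalizer (T : Set G) := by
  haveI : Fact (Nat.Prime 2) := ⟨Nat.prime_two⟩
  haveI : Group.IsNilpotent S := hS.isNilpotent
  refine lt_of_le_of_ne (le_inf hTS.le Subgroup.le_normalizer) fun e => ?_
  have h1 : T.subgroupOf S < Subgroup.normalizer (T.subgroupOf S : Set S) := by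
    refine normalizerCondition_of_isNilpotent _ (lt_top_iff_ne_top.2 fun h => ?_)
    exact hTS.not_ge (Subgroup.subgroupOf_eq_top.1 h)
  rw [← Subgroup.subgroupOf_normalizer_eq hTS.le] at h1
  refine h1.not_ge fun s hs => ?_
  have h2 : (s : G) ∈ S ⊓ Subgroup.normalizer (T : Set G) := ⟨s.2, hs⟩
  rw [← e] at h2
  exact h2

section Core

variable (h : Setting S T B)
include h

theorem centralizer_le {b : G} (hb : b ∈ B) (hb1 : b ≠ 1) :
    S ⊓ Subgroup.centralizer ({b} : Set G) ≤ T := fun _ hs =>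
  h.cent b hb hb1 _ hs.1 (Subgroup.mem_centralizer_singleton_iff.1 hs.2)

theorem small_of_conj (hT16 : Nat.card T ≤ 16) {P : Subgroup G} (hP : P ≤ S) {b s : G}
    (hb : b ∈ B) (hb1 : b ≠ 1) (hs : s ∈ S) (hc : s * b * s⁻¹ ∈ P) : Small P := by
  refine small_of_centralizer hc (le_trans ?_ hT16)
  refine Nat.card_le_card_of_injective (fun w => (⟨s⁻¹ * (w : G) * s,
    h.cent b hb hb1 _ (mul_mem (mul_mem (inv_mem hs) (hP w.2.1)) hs) ?_⟩ : T)) fun u v e => ?_
  · have h1 := Subgroup.mem_centralizer_singleton_iff.1 w.2.2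
    calc s⁻¹ * (w : G) * s * b = s⁻¹ * ((w : G) * (s * b * s⁻¹)) * s := by group
      _ = b * (s⁻¹ * (w : G) * s) := by rw [h1]; group
  · exact Subtype.ext (mul_left_cancel (mul_right_cancel (congrArg Subtype.val e :)))

/-- If `Z(T)` is elementary abelian of order at most 8 then `T = S`. -/
theorem eq_of_center (Z : Subgroup G) (hZT : Z ≤ T) (hBZ : B ≤ Z)
    (hZ : ∀ z, z ∈ Z ↔ z ∈ T ∧ ∀ t ∈ T, t * z = z * t) (hsq : ∀ z ∈ Z, z * z = 1)
    (h8 : Nat.card Z ≤ 8) : T = S := by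
  by_contra hne
  have hlt := exists_normalizing h.hS (lt_of_le_of_ne h.hTS hne)
  obtain ⟨σ, hσN, hσT, hσ2, -⟩ := exists_central_over h.hS h.hTS hlt inf_le_left inf_le_right
  obtain ⟨hσS, hσn⟩ := Subgroup.mem_inf.1 hσN
  have hab : ∀ a ∈ Z, ∀ b ∈ Z, a * b = b * a := fun a ha b hb => ((hZ b).1 hb).2 a (hZT ha)
  have hn : ∀ a ∈ Z, σ * a * σ⁻¹ ∈ Z := fun a ha => (hZ _).2
    ⟨(Subgroup.mem_normalizer_iff.1 hσn a).1 (hZT ha), fun t ht => by
      have h1 : σ⁻¹ * t * σ ∈ T := by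
        have := (Subgroup.mem_normalizer_iff.1 (inv_mem hσn) t).1 ht
        rwa [inv_inv] at this
      calc t * (σ * a * σ⁻¹) = σ * (σ⁻¹ * t * σ * a) * σ⁻¹ := by group
        _ = σ * a * σ⁻¹ * t := by rw [((hZ a).1 ha).2 _ h1]; group⟩
  have hfix := card_le_fixed_sq hab hsq hn fun a ha => ((hZ a).1 ha).2 _ hσ2
  set F := Z ⊓ Subgroup.centralizer ({σ} : Set G)
  have h4 : 4 ≤ Nat.card Z := h.cardB ▸ Subgroup.card_le_of_le hBZ
  have hB := h.cardB
  have hlt' : Nat.card Z < Nat.card F * Nat.card B := by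
    rw [hB]
    rcases Nat.lt_or_ge (Nat.card F) 4 with h3 | h3
    · nlinarith [Nat.card_pos (α := F)]
    · omega
  obtain ⟨y, hyF, hyB, hy1⟩ := exists_mem_of_card inf_le_left hBZ hlt'
  exact hσT (h.cent y hyB hy1 σ hσS
    (Subgroup.mem_centralizer_singleton_iff.1 hyF.2).symm)

/-- With `T` elementary abelian of order 16, the subgroup `L = C_T(σ)` of an involutory outer
element is a complement of `B`. -/
theorem card_fixed (hab : ∀ a ∈ T, ∀ b ∈ T, a * b = b * a) (hsq : ∀ t ∈ T, t * t = 1)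
    (h16 : Nat.card T = 16) {σ : G} (hσS : σ ∈ S) (hσn : σ ∈ Subgroup.normalizer (T : Set G))
    (hσT : σ ∉ T) :
    Nat.card ↥(T ⊓ Subgroup.centralizer ({σ} : Set G)) ≤ 4 ∧
      (σ * σ ∈ T → Nat.card ↥(T ⊓ Subgroup.centralizer ({σ} : Set G)) = 4) := by
  set L := T ⊓ Subgroup.centralizer ({σ} : Set G) with hL
  have h4 : Nat.card L ≤ 4 := by
    by_contra h5
    push Not at h5
    obtain ⟨y, hy, hyB, hy1⟩ := exists_mem_of_card (inf_le_left : L ≤ T) h.hBT
      (show Nat.card T < Nat.card L * Nat.card B by rw [h16, h.cardB]; omega)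
    exact hσT (h.cent y hyB hy1 σ hσS
      (Subgroup.mem_centralizer_singleton_iff.1 hy.2).symm)
  refine ⟨h4, fun hσ2 => ?_⟩
  have h1 : 16 ≤ Nat.card L * Nat.card L := h16 ▸ card_le_fixed_sq hab hsq
    (fun a ha => (Subgroup.mem_normalizer_iff.1 hσn a).1 ha) (fun a ha => hab _ hσ2 a ha)
  rcases Nat.lt_or_ge (Nat.card L) 4 with h3 | h3
  · interval_cases (Nat.card L) <;> omega
  · omega

/-- `|N_S(T) : T| ≤ 4` for `T` elementary abelian of order 16. -/
theorem card_normalizer_le (hab : ∀ a ∈ T, ∀ b ∈ T, a * b = b * a) (hsq : ∀ t ∈ T, t * t = 1)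
    (h16 : Nat.card T = 16) :
    Nat.card ↥(S ⊓ Subgroup.normalizer (T : Set G)) ≤ 64 := by
  classical
  haveI : Fact (Nat.Prime 2) := ⟨Nat.prime_two⟩
  set N := S ⊓ Subgroup.normalizer (T : Set G) with hN
  by_cases hne : T = N
  · rw [← hne, h16]; omega
  obtain ⟨σ, hσN, hσT, hσ2, hσc⟩ := exists_central_over h.hS h.hTS
    (lt_of_le_of_ne (le_inf h.hTS Subgroup.le_normalizer) hne) inf_le_left inf_le_right
  obtain ⟨hσS, hσn⟩ := Subgroup.mem_inf.1 hσN
  set L := T ⊓ Subgroup.centralizer ({σ} : Set G) with hL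
  have hL4 : Nat.card L = 4 := (card_fixed h hab hsq h16 hσS hσn hσT).2 hσ2
  have hLB : ∀ b ∈ B, b ∈ L → b = 1 := fun b hb hbL => by
    by_contra hb1
    exact hσT (h.cent b hb hb1 σ hσS (Subgroup.mem_centralizer_singleton_iff.1 hbL.2).symm)
  -- `T = B L`
  have hbij : Function.Bijective (fun w : B × L =>
      (⟨(w.1 : G) * w.2, mul_mem (h.hBT w.1.2) w.2.2.1⟩ : T)) := by
    refine (Nat.bijective_iff_injective_and_card _).2 ⟨?_, by
      rw [Nat.card_prod, h.cardB, hL4, h16]⟩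
    rintro ⟨a, b⟩ ⟨a', b'⟩ e
    have e' : (a : G) * b = a' * b' := congrArg Subtype.val e
    have h1 : (a' : G)⁻¹ * a = b' * (b : G)⁻¹ := by
      rw [inv_mul_eq_iff_eq_mul, ← mul_assoc, ← e', mul_inv_cancel_right]
    have h2 : (a' : G)⁻¹ * a = 1 := hLB _ (mul_mem (inv_mem a'.2) a.2)
      (h1 ▸ mul_mem b'.2 (inv_mem b.2))
    rw [inv_mul_eq_one] at h2
    rw [h2] at e'
    exact Prod.ext (Subtype.ext h2.symm) (Subtype.ext (mul_left_cancel e'))
  have hdec : ∀ t ∈ T, ∃! b, b ∈ B ∧ b * t ∈ L := by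
    intro t ht
    obtain ⟨⟨b, l⟩, e⟩ := hbij.2 ⟨t, ht⟩
    have e' : (b : G) * l = t := congrArg Subtype.val e
    refine ⟨b, ⟨b.2, ?_⟩, fun c ⟨hc, hct⟩ => ?_⟩
    · rw [← e', ← mul_assoc, h.sqB _ b.2, one_mul]; exact l.2
    · have h1 : c * b ∈ L := by
        have := mul_mem hct (inv_mem l.2)
        rwa [← e', mul_assoc, mul_inv_cancel_right] at this
      have h2 := eq_inv_of_mul_eq_one_left (hLB _ (mul_mem hc b.2) h1)
      rw [h2, inv_eq_of_mul_eq_one_right (h.sqB _ b.2)]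
  have hLn : ∀ n ∈ N, ∀ l ∈ L, n * l * n⁻¹ ∈ L := by
    intro n hn l hl
    obtain ⟨hnS, hnn⟩ := Subgroup.mem_inf.1 hn
    have hT' := (Subgroup.mem_normalizer_iff.1 hnn l).1 hl.1
    refine ⟨hT', Subgroup.mem_centralizer_singleton_iff.2 ?_⟩
    have h1 : n * σ * n⁻¹ * σ⁻¹ ∈ T := hσc n hn
    have h2 := Subgroup.mem_centralizer_singleton_iff.1 hl.2
    have h3 : n * σ * n⁻¹ * σ⁻¹ * (n * l * n⁻¹) = n * l * n⁻¹ * (n * σ * n⁻¹ * σ⁻¹) :=
      hab _ h1 _ hT'
    calc n * l * n⁻¹ * σ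
        = n * l * n⁻¹ * (n * σ * n⁻¹ * σ⁻¹)⁻¹ * (n * σ * n⁻¹) := by group
      _ = (n * σ * n⁻¹ * σ⁻¹)⁻¹ * (n * l * n⁻¹) * (n * σ * n⁻¹) := by
          rw [hab _ hT' _ (inv_mem h1)]
      _ = (n * σ * n⁻¹ * σ⁻¹)⁻¹ * (n * (l * σ) * n⁻¹) := by group
      _ = (n * σ * n⁻¹ * σ⁻¹)⁻¹ * (n * σ * n⁻¹) * (n * l * n⁻¹) := by rw [h2]; group
      _ = σ * (n * l * n⁻¹) := by group
  have hNT : ∀ n ∈ N, ∀ t ∈ T, n * t * n⁻¹ ∈ T := fun n hn t ht =>
    (Subgroup.mem_normalizer_iff.1 hn.2 t).1 ht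
  -- `N` permutes the nontrivial classes modulo `L`; one is fixed
  let act : N → {b : B // b ≠ 1} → {b : B // b ≠ 1} := fun n b =>
    ⟨⟨(hdec _ (hNT n n.2 _ (h.hBT b.1.2))).choose,
      (hdec _ (hNT n n.2 _ (h.hBT b.1.2))).choose_spec.1.1⟩, fun e => by
      have e' : (hdec _ (hNT n n.2 _ (h.hBT b.1.2))).choose = 1 := congrArg Subtype.val e
      have h1 := (hdec _ (hNT n n.2 _ (h.hBT b.1.2))).choose_spec.1.2
      rw [e', one_mul] at h1
      have h2 := hLn _ (inv_mem n.2) _ h1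
      refine b.2 (Subtype.ext (hLB _ b.1.2 ?_))
      simpa [mul_assoc] using h2⟩
  have hact : ∀ (n : N) (b : {b : B // b ≠ 1}), ((act n b).1 : G) * ((n : G) * (b.1 : G) * (n : G)⁻¹) ∈ L := fun n b =>
    (hdec _ (hNT n n.2 _ (h.hBT b.1.2))).choose_spec.1.2
  have huniq : ∀ (n : N) (b : {b : B // b ≠ 1}) (c : G), c ∈ B → c * ((n : G) * (b.1 : G) * (n : G)⁻¹) ∈ L →
      c = ((act n b).1 : G) := fun n b c hc hcl =>
    (hdec _ (hNT n n.2 _ (h.hBT b.1.2))).choose_spec.2 c ⟨hc, hcl⟩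
  letI : MulAction N {b : B // b ≠ 1} :=
    { smul := act
      one_smul := fun b => Subtype.ext (Subtype.ext (huniq 1 b _ b.1.2 (by
        simp only [Subgroup.coe_one, one_mul, inv_one, mul_one, h.sqB _ b.1.2]
        exact one_mem _)).symm)
      mul_smul := fun m n b => Subtype.ext (Subtype.ext (huniq (m * n) b _ (act m (act n b)).1.2 (by
        have h1 := hLn _ m.2 _ (hact n b)
        have h2 := mul_mem (hact m (act n b)) h1
        have h3 : ((act n b).1 : G) * ((act n b).1 : G) = 1 := h.sqB _ (act n b).1.2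
        convert h2 using 1
        simp only [Subgroup.coe_mul, mul_inv_rev]
        symm
        calc _ = ((act m (act n b)).1 : G) * ((m : G) * (((act n b).1 : G) * ((act n b).1 : G)) *
              ((n : G) * (b.1 : G) * (n : G)⁻¹) * (m : G)⁻¹) := by group
          _ = _ := by rw [h3]; group)).symm) }
  have hNp : IsPGroup 2 N := h.hS.to_le inf_le_left
  obtain ⟨b, hb⟩ := hNp.nonempty_fixed_point_of_prime_not_dvd_card
    (α := {b : B // b ≠ 1}) (by
      have h1 : Nat.card {b : B // b ≠ 1} = 3 := by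
        haveI : Fintype B := Fintype.ofFinite B
        rw [Nat.card_eq_fintype_card, Fintype.card_subtype_compl, Fintype.card_subtype_eq,
          ← Nat.card_eq_fintype_card, h.cardB]
      rw [h1]; norm_num)
  -- so `N` moves this element inside `b L`
  have hmv : ∀ n : N, (b.1 : G) * ((n : G) * (b.1 : G) * (n : G)⁻¹) ∈ L := fun n => by
    have h1 := hact n b
    rwa [show act n b = b from hb n] at h1
  let f : N ⧸ (T.subgroupOf N) → L := Quotient.lift
    (fun n : N => (⟨_, hmv n⟩ : L)) fun m n hmn => by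
      have h1 : (m : G)⁻¹ * (n : G) ∈ T :=
        Subgroup.mem_subgroupOf.1 (QuotientGroup.leftRel_apply.1 hmn)
      refine Subtype.ext (congrArg ((b.1 : G) * ·) ?_)
      have h2 := hab _ h1 _ (h.hBT b.1.2)
      calc (m : G) * (b.1 : G) * (m : G)⁻¹
          = (m : G) * ((b.1 : G) * ((m : G)⁻¹ * n)) * (n : G)⁻¹ := by group
        _ = (n : G) * (b.1 : G) * (n : G)⁻¹ := by rw [← h2]; group
  have hf : Function.Injective f := by
    intro u v e
    obtain ⟨m, rfl⟩ := QuotientGroup.mk_surjective u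
    obtain ⟨n, rfl⟩ := QuotientGroup.mk_surjective v
    refine QuotientGroup.eq.2 (Subgroup.mem_subgroupOf.2 ?_)
    have e' : (m : G) * (b.1 : G) * (m : G)⁻¹ = (n : G) * (b.1 : G) * (n : G)⁻¹ :=
      mul_left_cancel (congrArg Subtype.val e :)
    refine h.cent _ b.1.2 (fun h1 => b.2 (Subtype.ext h1)) _
      (mul_mem (inv_mem m.2.1) n.2.1) ?_
    show (m : G)⁻¹ * (n : G) * (b.1 : G) = (b.1 : G) * ((m : G)⁻¹ * (n : G))
    calc (m : G)⁻¹ * (n : G) * (b.1 : G)
        = (m : G)⁻¹ * ((n : G) * (b.1 : G) * (n : G)⁻¹) * n := by group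
      _ = _ := by rw [← e']; group
  have h1 := (T.subgroupOf N).card_mul_index
  rw [Nat.card_congr (Subgroup.subgroupOfEquivOfLe
    (le_inf h.hTS Subgroup.le_normalizer)).toEquiv, h16] at h1
  have h2 := Nat.card_le_card_of_injective f hf
  rw [← Subgroup.index, hL4] at h2
  omega

/-- All sections are small when `T` is elementary abelian of order 16. -/
theorem small_of_elementary (hab : ∀ a ∈ T, ∀ b ∈ T, a * b = b * a) (hsq : ∀ t ∈ T, t * t = 1)
    (h16 : Nat.card T = 16) {P : Subgroup G} (hP : P ≤ S) : Small P := by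
  classical
  haveI : Fact (Nat.Prime 2) := ⟨Nat.prime_two⟩
  by_cases hP16 : Nat.card P ≤ 16
  · exact small_of_card_le hP16
  obtain ⟨j, hj⟩ := IsPGroup.iff_card.1 (h.hS.to_le hP)
  have hP32 : 32 ≤ Nat.card P := by
    rw [hj] at hP16 ⊢
    have : 4 < j := by
      by_contra hc
      exact hP16 (Nat.pow_le_pow_right two_pos (show j ≤ 4 by omega))
    exact Nat.pow_le_pow_right two_pos (show 5 ≤ j by omega)
  -- a subgroup meeting `B` is small
  have meet : ∀ X : Subgroup G, X ≤ P → X ≤ T → 8 ≤ Nat.card X → Small P := by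
    intro X hXP hXT h8
    obtain ⟨y, hyX, hyB, hy1⟩ := exists_mem_of_card hXT h.hBT
      (by rw [h16, h.cardB]; omega)
    exact small_of_conj h h16.le hP hyB hy1 (one_mem S) (by simpa using hXP hyX)
  -- intersections by counting
  have count : ∀ (X Y Z : Subgroup G), X ≤ Z → Y ≤ Z → ∀ k,
      Nat.card X * Nat.card Y > (k - 1) * Nat.card Z → k ≤ Nat.card ↥(X ⊓ Y) := by
    intro X Y Z hX hY k hk
    by_contra hc
    push Not at hc
    have h1 : Nat.card X * Nat.card Y ≤ Nat.card ↥(X ⊓ Y) * Nat.card Z := by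
      rw [← Nat.card_prod, mul_comm, ← Nat.card_prod]
      haveI : Nonempty Z := ⟨1⟩
      let π : X × Y → Z := fun w => ⟨(w.1 : G) * w.2, mul_mem (hX w.1.2) (hY w.2.2)⟩
      let rep : Z → X × Y := Function.invFun π
      refine Nat.card_le_card_of_injective (fun w => ((π w, ⟨((rep (π w)).1 : G)⁻¹ * w.1,
        X.mul_mem (X.inv_mem (rep (π w)).1.2) w.1.2, ?_⟩) : Z × ↥(X ⊓ Y))) ?_
      · have h2 : π (rep (π w)) = π w := Function.invFun_eq ⟨w, rfl⟩
        have h3 : ((rep (π w)).1 : G) * (rep (π w)).2 = w.1 * w.2 := congrArg Subtype.val h2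
        have h4 : ((rep (π w)).1 : G)⁻¹ * w.1 = (rep (π w)).2 * (w.2 : G)⁻¹ := by
          rw [inv_mul_eq_iff_eq_mul, ← mul_assoc, h3, mul_inv_cancel_right]
        rw [h4]
        exact Y.mul_mem (rep (π w)).2.2 (Y.inv_mem w.2.2)
      · intro u v e
        simp only [Prod.mk.injEq] at e
        obtain ⟨e1, e2⟩ := e
        have e3 : ((rep (π u)).1 : G)⁻¹ * u.1 = ((rep (π v)).1 : G)⁻¹ * v.1 :=
          congrArg Subtype.val e2
        rw [e1] at e3
        have h5 : (u.1 : G) = v.1 := mul_left_cancel e3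
        have e1' : (u.1 : G) * u.2 = v.1 * v.2 := congrArg Subtype.val e1
        rw [h5] at e1'
        exact Prod.ext (Subtype.ext h5) (Subtype.ext (mul_left_cancel e1'))
    have h6 := Nat.mul_le_mul_right (Nat.card Z) (Nat.le_sub_one_of_lt hc)
    omega
  set N := S ⊓ Subgroup.normalizer (T : Set G) with hN
  have hTN : T ≤ N := le_inf h.hTS Subgroup.le_normalizer
  have hN64 : Nat.card N ≤ 64 := card_normalizer_le h hab hsq h16
  -- the case `S = N`
  have hsmallS : Nat.card S ≤ 64 → Small P := by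
    intro h64
    rcases Nat.lt_or_ge (Nat.card P) (Nat.card S) with hlt | hge
    · obtain ⟨i, hi⟩ := IsPGroup.iff_card.1 h.hS
      have hle : 2 * Nat.card P ≤ Nat.card S := by
        rw [hj, hi] at hlt ⊢
        have := (Nat.pow_lt_pow_iff_right one_lt_two).1 hlt
        rw [← pow_succ']
        exact Nat.pow_le_pow_right two_pos this
      exact meet (P ⊓ T) inf_le_left inf_le_right
        (count P T S hP h.hTS 8 (by rw [h16]; omega))
    · have : P = S := Subgroup.eq_of_le_of_card_ge hP hge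
      exact meet T (this ▸ h.hTS) le_rfl (by omega)
  by_cases hA : ∀ A : Subgroup G, A ≤ N → Nat.card A = 16 →
      (∀ a ∈ A, ∀ b ∈ A, a * b = b * a) → (∀ a ∈ A, a * a = 1) → A = T
  · -- `T` is weakly closed in its normalizer
    refine hsmallS ?_
    suffices hS : S = N by rw [hS]; exact hN64
    by_contra hne
    obtain ⟨s, ⟨hsS, hsn⟩, hsN⟩ := SetLike.exists_of_lt
      (exists_normalizing h.hS (lt_of_le_of_ne (inf_le_left : N ≤ S) (Ne.symm hne)))
    refine hsN ⟨hsS, ?_⟩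
    have e := hA (T.map (MulAut.conj s).toMonoidHom) ?_ ?_ ?_ ?_
    · exact Subgroup.mem_normalizer_iff_map_conj_eq.2 e
    · rintro _ ⟨t, ht, rfl⟩
      exact (Subgroup.mem_normalizer_iff.1 hsn t).1 (hTN ht)
    · rw [Subgroup.card_map_of_injective (MulEquiv.injective _), h16]
    · rintro _ ⟨a, ha, rfl⟩ _ ⟨b, hb, rfl⟩
      rw [← map_mul, hab a ha b hb, map_mul]
    · rintro _ ⟨a, ha, rfl⟩
      rw [← map_mul, hsq a ha, map_one]
  push Not at hA
  obtain ⟨A, hAN, hA16, hAab, hAsq, hAT⟩ := hA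
  -- the elements of `A` outside `T` have the same fixed points
  set L := A ⊓ T with hL
  have hnA : ¬ A ≤ T := fun hle => hAT (Subgroup.eq_of_le_of_card_ge hle (by omega))
  have hLc : ∀ a ∈ A, a ∉ T →
      Nat.card L = 4 ∧ T ⊓ Subgroup.centralizer ({a} : Set G) = L := by
    intro a ha haT
    obtain ⟨haS, han⟩ := Subgroup.mem_inf.1 (hAN ha)
    have hle : L ≤ T ⊓ Subgroup.centralizer ({a} : Set G) := fun l hl =>
      ⟨hl.2, Subgroup.mem_centralizer_singleton_iff.2 (hAab l hl.1 a ha)⟩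
    have h1 := (card_fixed h hab hsq h16 haS han haT).1
    have h2 : 4 ≤ Nat.card L := count A T N hAN hTN 4 (by rw [hA16, h16]; omega)
    have h3 := Subgroup.card_le_of_le hle
    exact ⟨by omega, (Subgroup.eq_of_le_of_card_ge hle (by omega)).symm⟩
  obtain ⟨a₀, ha₀, ha₀T⟩ := SetLike.not_le_iff_exists.1 hnA
  obtain ⟨hL4, -⟩ := hLc a₀ ha₀ ha₀T
  have hNc : Nat.card N = 64 ∧ ∀ n ∈ N, ∃ a ∈ A, ∃ t ∈ T, n = a * t := by
    let C := A ⊓ T
    have hinj : Nat.card A * Nat.card T ≤ Nat.card ↥(A ⊓ T) * Nat.card N := by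
      by_contra hc
      have := count A T N hAN hTN (Nat.card ↥(A ⊓ T) + 1) (by simpa using hc)
      omega
    rw [hA16, h16, show Nat.card ↥(A ⊓ T) = 4 from hL4] at hinj
    refine ⟨by omega, fun n hn => ?_⟩
    have hnle : N ≤ A ⊔ T := by
      refine (Subgroup.eq_of_le_of_card_ge (sup_le hAN hTN) ?_).ge
      have h5 : 64 ≤ Nat.card ↥(A ⊔ T) := by
        by_contra hc
        have := count A T (A ⊔ T) le_sup_left le_sup_right 5 (by rw [hA16, h16]; omega)
        rw [show Nat.card ↥(A ⊓ T) = 4 from hL4] at this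
        omega
      omega
    have h6 : (↑(A ⊔ T) : Set G) = (A : Set G) * (T : Set G) :=
      Subgroup.coe_mul_of_left_le_normalizer_right A T (fun a ha => (hAN ha).2)
    obtain ⟨a, ha, t, ht, e⟩ : n ∈ (A : Set G) * (T : Set G) := h6 ▸ hnle hn
    exact ⟨a, ha, t, ht, e.symm⟩
  have two : ∀ X : Subgroup G, X ≤ N → (∀ a ∈ X, ∀ b ∈ X, a * b = b * a) →
      (∀ a ∈ X, a * a = 1) → X ≤ T ∨ X ≤ A := by
    intro X hXN hXab hXsq
    by_contra hne
    push Not at hne
    obtain ⟨hXT, hXA⟩ := hne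
    have hout : ∀ x ∈ X, x ∉ T → x ∈ A := by
      intro x hx hxT
      obtain ⟨a, ha, t, ht, rfl⟩ := hNc.2 x (hXN hx)
      have haT : a ∉ T := fun e => hxT (mul_mem e ht)
      have h1 := hXsq _ hx
      have hcm : a * t = t * a := by
        calc a * t = a * t * (a * a) * (t * t) := by rw [hAsq a ha, hsq t ht, mul_one, mul_one]
          _ = a * t * (a * (a * t) * t) := by group
          _ = (a * t) * (a * t) * ((a * t)⁻¹ * (a * a) * (t * t)) * 1 := by group
          _ = (a * t)⁻¹ := by rw [h1, hAsq a ha, hsq t ht]; group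
          _ = t * a := by
            rw [mul_inv_rev, inv_eq_of_mul_eq_one_right (hsq t ht),
              inv_eq_of_mul_eq_one_right (hAsq a ha)]
      have htL : t ∈ T ⊓ Subgroup.centralizer ({a} : Set G) :=
        ⟨ht, Subgroup.mem_centralizer_singleton_iff.2 hcm.symm⟩
      rw [(hLc a ha haT).2] at htL
      exact mul_mem ha htL.1
    obtain ⟨x, hx, hxT⟩ := SetLike.not_le_iff_exists.1 hXT
    refine hXA fun y hy => ?_
    by_cases hyT : y ∈ T
    · have h1 := hout _ (mul_mem hx hy) fun e => hxT (by simpa using mul_mem e (inv_mem hyT))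
      simpa using mul_mem (inv_mem (hout x hx hxT)) h1
    · exact hout y hy hyT
  set N2 := S ⊓ Subgroup.normalizer (N : Set G) with hN2
  by_cases hne : N = S
  · exact hsmallS (hne ▸ hN64)
  obtain ⟨s₀, hs₀', hs₀N⟩ := SetLike.exists_of_lt
    (exists_normalizing h.hS (lt_of_le_of_ne (inf_le_left : N ≤ S) hne))
  have hmapN : ∀ s ∈ N2, T.map (MulAut.conj s).toMonoidHom = T ∨
      T.map (MulAut.conj s).toMonoidHom = A := by
    intro s hs
    have hle : T.map (MulAut.conj s).toMonoidHom ≤ N := by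
      rintro _ ⟨t, ht, rfl⟩
      exact (Subgroup.mem_normalizer_iff.1 hs.2 t).1 (hTN ht)
    have hc : Nat.card ↥(T.map (MulAut.conj s).toMonoidHom) = 16 := by
      rw [Subgroup.card_map_of_injective (MulEquiv.injective _), h16]
    rcases two _ hle (by
        rintro _ ⟨a, ha, rfl⟩ _ ⟨b, hb, rfl⟩
        rw [← map_mul, hab a ha b hb, map_mul]) (by
        rintro _ ⟨a, ha, rfl⟩
        rw [← map_mul, hsq a ha, map_one]) with e | e
    · exact Or.inl (Subgroup.eq_of_le_of_card_ge e (by omega))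
    · exact Or.inr (Subgroup.eq_of_le_of_card_ge e (by omega))
  have hmapcomp : ∀ (a b : G) (X : Subgroup G),
      (X.map (MulAut.conj b).toMonoidHom).map (MulAut.conj a).toMonoidHom =
        X.map (MulAut.conj (a * b)).toMonoidHom := fun a b X => by
    rw [Subgroup.map_map, map_mul]; rfl
  have hs₀A : T.map (MulAut.conj s₀).toMonoidHom = A := (hmapN s₀ hs₀').resolve_left fun e =>
    hs₀N ⟨hs₀'.1, Subgroup.mem_normalizer_iff_map_conj_eq.2 e⟩
  have hidx : (N.subgroupOf N2).index ≤ 2 := by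
    let f : N2 ⧸ N.subgroupOf N2 → ({T, A} : Finset (Subgroup G)) := Quotient.lift
      (fun s : N2 => ⟨T.map (MulAut.conj (s : G)).toMonoidHom, by
        rcases hmapN _ s.2 with e | e
        · exact Finset.mem_insert.2 (Or.inl e)
        · exact Finset.mem_insert.2 (Or.inr (Finset.mem_singleton.2 e))⟩) fun u v huv => by
        have h1 : (u : G)⁻¹ * v ∈ N :=
          Subgroup.mem_subgroupOf.1 (QuotientGroup.leftRel_apply.1 huv)
        refine Subtype.ext ?_
        show T.map (MulAut.conj (u : G)).toMonoidHom = T.map (MulAut.conj (v : G)).toMonoidHom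
        have h2 : T.map (MulAut.conj ((u : G)⁻¹ * v)).toMonoidHom = T :=
          Subgroup.mem_normalizer_iff_map_conj_eq.1 h1.2
        conv_rhs => rw [← mul_inv_cancel_left (u : G) (v : G), ← hmapcomp, h2]
    have hf : Function.Injective f := by
      intro x y e
      obtain ⟨u, rfl⟩ := QuotientGroup.mk_surjective x
      obtain ⟨v, rfl⟩ := QuotientGroup.mk_surjective y
      have e' : T.map (MulAut.conj (u : G)).toMonoidHom = T.map (MulAut.conj (v : G)).toMonoidHom :=
        congrArg Subtype.val e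
      have h3 : T.map (MulAut.conj ((u : G)⁻¹ * v)).toMonoidHom = T := by
        rw [← hmapcomp, ← e', hmapcomp, inv_mul_cancel, map_one]
        exact Subgroup.map_id _
      exact QuotientGroup.eq.2 (Subgroup.mem_subgroupOf.2
        ⟨mul_mem (S.inv_mem u.2.1) v.2.1, Subgroup.mem_normalizer_iff_map_conj_eq.2 h3⟩)
    refine le_trans (Nat.card_le_card_of_injective f hf) ?_
    rw [Nat.card_eq_fintype_card, Fintype.card_coe]
    exact Finset.card_le_two
  have hNN2 : N ≤ N2 := le_inf inf_le_left Subgroup.le_normalizer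
  have hN2c : Nat.card N2 ≤ 128 := by
    rw [← (N.subgroupOf N2).card_mul_index,
      Nat.card_congr (Subgroup.subgroupOfEquivOfLe hNN2).toEquiv, hNc.1]
    omega
  -- `S = N2`
  have hSN2 : S = N2 := by
    by_contra hne2
    obtain ⟨s, ⟨hsS, hsn⟩, hsN2⟩ := SetLike.exists_of_lt
      (exists_normalizing h.hS (lt_of_le_of_ne (inf_le_left : N2 ≤ S) (Ne.symm hne2)))
    have key : ∀ u ∈ S, u ∈ Subgroup.normalizer (N2 : Set G) →
        T.map (MulAut.conj u).toMonoidHom = T ∨ T.map (MulAut.conj u).toMonoidHom = A := by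
      intro u huS hu
      set X := T.map (MulAut.conj u).toMonoidHom with hX
      have hXN2 : X ≤ N2 := by
        rintro _ ⟨t, ht, rfl⟩
        exact (Subgroup.mem_normalizer_iff.1 hu t).1 (hNN2 (hTN ht))
      have hXc : Nat.card X = 16 := by
        rw [hX, Subgroup.card_map_of_injective (MulEquiv.injective _), h16]
      have hXab : ∀ a ∈ X, ∀ b ∈ X, a * b = b * a := by
        rintro _ ⟨a, ha, rfl⟩ _ ⟨b, hb, rfl⟩
        rw [← map_mul, hab a ha b hb, map_mul]
      have hX8 : 8 ≤ Nat.card ↥(X ⊓ N) :=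
        count X N N2 hXN2 hNN2 8 (by rw [hXc, hNc.1]; omega)
      have hcon : ∀ w ∈ S, X ⊓ N ≤ T.map (MulAut.conj w).toMonoidHom →
          X = T.map (MulAut.conj w).toMonoidHom := by
        intro w hw hle
        have hTw : Nat.card ↥(T.map (MulAut.conj w).toMonoidHom) = 16 := by
          rw [Subgroup.card_map_of_injective (MulEquiv.injective _), h16]
        obtain ⟨y, hy, ⟨b, hb, rfl⟩, hy1⟩ := exists_mem_of_card hle
          (Subgroup.map_mono h.hBT : B.map (MulAut.conj w).toMonoidHom ≤ _)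
          (by rw [hTw, Subgroup.card_map_of_injective (MulEquiv.injective _), h.cardB]; omega)
        refine Subgroup.eq_of_le_of_card_ge (fun v hv => ⟨w⁻¹ * v * w, h.cent b hb
          (fun e => hy1 (by rw [e, map_one])) _
          (mul_mem (mul_mem (inv_mem hw) (hXN2 hv).1) hw) ?_, ?_⟩) (by omega)
        · have h1 : v * (w * b * w⁻¹) = w * b * w⁻¹ * v := hXab v hv _ hy.1
          calc w⁻¹ * v * w * b = w⁻¹ * (v * (w * b * w⁻¹)) * w := by group
            _ = b * (w⁻¹ * v * w) := by rw [h1]; group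
        · show w * (w⁻¹ * v * w) * w⁻¹ = v
          group
      rcases two (X ⊓ N) inf_le_right (fun a ha b hb => hXab a ha.1 b hb.1) (by
          rintro _ ⟨⟨a, ha, rfl⟩, -⟩
          rw [← map_mul, hsq a ha, map_one]) with e | e
      · have h1 : T.map (MulAut.conj (1 : G)).toMonoidHom = T := by
          rw [map_one]; exact Subgroup.map_id _
        exact Or.inl ((hcon 1 (one_mem S) (h1.symm ▸ e)).trans h1)
      · exact Or.inr ((hcon s₀ hs₀'.1 (hs₀A.symm ▸ e)).trans hs₀A)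
    have hAs : A.map (MulAut.conj s).toMonoidHom = T ∨ A.map (MulAut.conj s).toMonoidHom = A := by
      rw [← hs₀A, hmapcomp, hs₀A]
      exact key _ (mul_mem hsS hs₀'.1) (mul_mem hsn (Subgroup.le_normalizer hs₀'))
    refine hsN2 ⟨hsS, Subgroup.mem_normalizer_iff_map_conj_eq.2 ?_⟩
    have hle : N.map (MulAut.conj s).toMonoidHom ≤ N := by
      rintro _ ⟨n, hn, rfl⟩
      obtain ⟨a, ha, t, ht, rfl⟩ := hNc.2 n hn
      rw [map_mul]
      refine mul_mem ?_ ?_
      · rcases hAs with e | e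
        · exact hTN (e ▸ Subgroup.mem_map_of_mem _ ha)
        · exact hAN (e ▸ Subgroup.mem_map_of_mem _ ha)
      · rcases key s hsS hsn with e | e
        · exact hTN (e ▸ Subgroup.mem_map_of_mem _ ht)
        · exact hAN (e ▸ Subgroup.mem_map_of_mem _ ht)
    exact Subgroup.eq_of_le_of_card_ge hle
      (by rw [Subgroup.card_map_of_injective (MulEquiv.injective _)])
  have hS128 : Nat.card S ≤ 128 := hSN2.symm ▸ hN2c
  rcases Nat.lt_or_ge (Nat.card P) 64 with hlt | hge
  · -- `P` elementary of order 32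
    intro K hK hcomm hsqK
    by_contra hbig
    push Not at hbig
    have hP32' : Nat.card P = 32 := by
      rw [hj] at hP32 hlt ⊢
      have h1 : j < 6 := (Nat.pow_lt_pow_iff_right one_lt_two).1 hlt
      have h2 : 5 ≤ j := (Nat.pow_le_pow_iff_right one_lt_two).1 hP32
      rw [show j = 5 by omega]
      norm_num
    have hK1 : K = ⊥ := by
      have h1 := K.card_mul_index
      rw [hP32'] at h1
      by_contra hne'
      have h2 : 2 ≤ Nat.card K := Subgroup.one_lt_card_iff_ne_bot K |>.2 hne'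
      have := Nat.mul_le_mul h2 hbig.le
      have h3 : Nat.card K * K.index ≥ 2 * (16 + 1) := Nat.mul_le_mul h2 hbig
      omega
    subst hK1
    have hPab : ∀ a ∈ P, ∀ b ∈ P, a * b = b * a := fun a ha b hb => by
      have h1 := congrArg Subtype.val (Subgroup.mem_bot.1 (hcomm ⟨a, ha⟩ ⟨b, hb⟩))
      have h2 : a * b * a⁻¹ * b⁻¹ = 1 := h1
      rw [mul_inv_eq_one, mul_inv_eq_iff_eq_mul] at h2
      exact h2
    have hPsq : ∀ a ∈ P, a * a = 1 := fun a ha =>
      congrArg Subtype.val (Subgroup.mem_bot.1 (hsqK ⟨a, ha⟩))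
    have h16' : 16 ≤ Nat.card ↥(P ⊓ N) :=
      count P N S hP inf_le_left 16 (by rw [hP32', hNc.1]; omega)
    rcases two (P ⊓ N) inf_le_right (fun a ha b hb => hPab a ha.1 b hb.1)
        (fun a ha => hPsq a ha.1) with e | e
    · exact absurd (meet (P ⊓ N) inf_le_left e (by omega) ⊥ inferInstance hcomm hsqK)
        (not_le.2 hbig)
    · have hPA : A ≤ P :=
        (Subgroup.eq_of_le_of_card_ge e (by omega)) ▸ inf_le_left
      obtain ⟨b, hb, hb1⟩ : ∃ b ∈ B, b ≠ 1 := by
        have hB1 : B ≠ ⊥ := fun e' => by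
          have := h.cardB
          rw [e', Subgroup.card_bot] at this
          omega
        obtain ⟨w, hw⟩ := Subgroup.ne_bot_iff_exists_ne_one.1 hB1
        exact ⟨w, w.2, fun e' => hw (Subtype.ext e')⟩
      have hy : s₀ * b * s₀⁻¹ ∈ P :=
        hPA (hs₀A ▸ Subgroup.mem_map_of_mem _ (h.hBT hb))
      exact absurd (small_of_conj h h16.le hP hb hb1 hs₀'.1 hy ⊥ inferInstance hcomm hsqK)
        (not_le.2 hbig)
  · exact meet (P ⊓ T) inf_le_left inf_le_right
      (count P T S hP h.hTS 8 (by rw [h16]; omega))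

end Core

/-- The subgroups of `D × B`, `D` with a cyclic subgroup of index two, are small. -/
theorem small_of_product {D : Subgroup G} (hD : D ≤ T) (hB : B ≤ T)
    (hcomm : ∀ d ∈ D, ∀ b ∈ B, d * b = b * d) (hgen : T = D ⊔ B) (h4 : Nat.card B = 4)
    {r : G} (hr : r ∈ D)
    (hidx : ∀ a ∈ D, ∀ b ∈ D, a ∉ Subgroup.zpowers r → b ∉ Subgroup.zpowers r →
      a⁻¹ * b ∈ Subgroup.zpowers r)
    {P : Subgroup G} (hP : P ≤ T) : Small P := by
  classical
  intro K hK hc hsq
  have hdec : ∀ t ∈ T, ∃ d ∈ D, ∃ b ∈ B, t = d * b := by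
    intro t ht
    rw [hgen, ← SetLike.mem_coe, Subgroup.coe_mul_of_left_le_normalizer_right D B (fun d hd => by
      rw [Subgroup.mem_normalizer_iff]
      intro b
      constructor
      · intro hb; rw [hcomm d hd b hb, mul_inv_cancel_right]; exact hb
      · intro hb
        have := hcomm d hd _ hb
        rw [← mul_assoc, ← mul_assoc] at this
        have h2 : b = d * b * d⁻¹ := by
          calc b = d⁻¹ * (d * b * d⁻¹ * d) := by group
            _ = d⁻¹ * (d * (d * b * d⁻¹)) := by rw [hcomm d hd _ hb]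
            _ = d * b * d⁻¹ := by group
        rw [h2]; exact hb)] at ht
    obtain ⟨d, hd, b, hb, rfl⟩ := ht
    exact ⟨d, hd, b, hb, rfl⟩
  set R := Subgroup.zpowers r with hR
  set U := R ⊔ B with hU
  have hUmem : ∀ u, u ∈ U ↔ ∃ i : ℤ, ∃ b ∈ B, u = r ^ i * b := by
    intro u
    rw [hU, ← SetLike.mem_coe, Subgroup.coe_mul_of_left_le_normalizer_right R B (fun d hd => by
      obtain ⟨i, rfl⟩ := hd
      rw [Subgroup.mem_normalizer_iff]
      intro b
      have hd' := zpow_mem hr i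
      constructor
      · intro hb; rw [hcomm _ hd' b hb, mul_inv_cancel_right]; exact hb
      · intro hb
        have h2 : b = r ^ i * b * (r ^ i)⁻¹ := by
          calc b = (r ^ i)⁻¹ * (r ^ i * b * (r ^ i)⁻¹ * r ^ i) := by group
            _ = (r ^ i)⁻¹ * (r ^ i * (r ^ i * b * (r ^ i)⁻¹)) := by rw [hcomm _ hd' _ hb]
            _ = r ^ i * b * (r ^ i)⁻¹ := by group
        rw [h2]; exact hb)]
    constructor
    · rintro ⟨_, ⟨i, rfl⟩, b, hb, rfl⟩; exact ⟨i, b, hb, rfl⟩
    · rintro ⟨i, b, hb, rfl⟩; exact ⟨_, ⟨i, rfl⟩, b, hb, rfl⟩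
  -- the exponents occurring in `P ∩ U` are the multiples of one of them
  let E : AddSubgroup ℤ :=
    { carrier := {i | ∃ b ∈ B, r ^ i * b ∈ P}
      zero_mem' := ⟨1, one_mem B, by simp⟩
      add_mem' := by
        rintro i j ⟨b, hb, h1⟩ ⟨c, hc', h2⟩
        refine ⟨b * c, mul_mem hb hc', ?_⟩
        have h3 := mul_mem h1 h2
        rwa [mul_assoc, ← mul_assoc b, ← hcomm _ (zpow_mem hr j) b hb, mul_assoc (r ^ j),
          ← mul_assoc, ← zpow_add] at h3
      neg_mem' := by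
        rintro i ⟨b, hb, h1⟩
        refine ⟨b⁻¹, inv_mem hb, ?_⟩
        have h2 := inv_mem h1
        rwa [mul_inv_rev, ← zpow_neg, ← hcomm _ (zpow_mem hr (-i)) _ (inv_mem hb)] at h2 }
  obtain ⟨m, hm⟩ := Int.subgroup_cyclic E
  have hmE : m ∈ E := hm ▸ AddSubgroup.mem_closure_singleton_self m
  obtain ⟨c, hcB, hcP⟩ := hmE
  -- representatives of `P` modulo `K`
  let q : P → P ⧸ K := QuotientGroup.mk
  have hq2 : ∀ a : P, q a * q a = 1 := fun a => by
    rw [← QuotientGroup.mk_mul]; exact (QuotientGroup.eq_one_iff _).2 (hsq a)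
  obtain ⟨h₀, hh₀⟩ : ∃ h₀ : P, ∀ p : P, (p : G) ∈ U ∨ (h₀ : G)⁻¹ * p ∈ U := by
    by_cases hall : ∀ p : P, (p : G) ∈ U
    · exact ⟨1, fun p => Or.inl (hall p)⟩
    push Not at hall
    obtain ⟨h₀, hh₀⟩ := hall
    refine ⟨h₀, fun p => or_iff_not_imp_left.2 fun hp => ?_⟩
    obtain ⟨d, hd, b, hb, e⟩ := hdec _ (hP h₀.2)
    obtain ⟨d', hd', b', hb', e'⟩ := hdec _ (hP p.2)
    have out : ∀ (x y : G), y ∈ B → x * y ∉ U → x ∉ R := fun x y hy hxy hx =>
      hxy (mul_mem (Subgroup.mem_sup_left hx) (Subgroup.mem_sup_right hy))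
    have hdd := hidx d hd d' hd' (out d b hb (e ▸ hh₀)) (out d' b' hb' (e' ▸ hp))
    rw [e, e', mul_inv_rev, mul_assoc, ← mul_assoc d⁻¹]
    exact mul_mem (Subgroup.mem_sup_right (inv_mem hb))
      (mul_mem (Subgroup.mem_sup_left hdd) (Subgroup.mem_sup_right hb'))
  let BP : Subgroup P := B.subgroupOf P
  have hBP : Nat.card BP ≤ 4 := h4 ▸ Nat.card_le_card_of_injective
    (fun w : BP => (⟨((w : P) : G), w.2⟩ : B)) fun x y e =>
      Subtype.ext (Subtype.ext (congrArg Subtype.val e :))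
  let Φ : Bool × Bool × BP → P ⧸ K := fun w =>
    (if w.1 then q h₀ else 1) * (if w.2.1 then q ⟨_, hcP⟩ else 1) * q w.2.2
  have hpar : ∀ (x : P ⧸ K), x * x = 1 → ∀ k : ℤ, ∃ e : Bool, x ^ k = if e then x else 1 := by
    intro x hx k
    rcases Int.even_or_odd' k with ⟨l, rfl | rfl⟩
    · exact ⟨false, by rw [zpow_mul, zpow_two, hx, one_zpow]; simp⟩
    · exact ⟨true, by rw [zpow_add, zpow_mul, zpow_two, hx, one_zpow, zpow_one, one_mul]; simp⟩
  have hUimg : ∀ p : P, (p : G) ∈ U → ∃ e : Bool, ∃ w : BP,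
      q p = (if e then q ⟨_, hcP⟩ else 1) * q w := by
    intro p hp
    obtain ⟨i, b, hb, e⟩ := (hUmem _).1 hp
    have hiE : i ∈ E := ⟨b, hb, e ▸ p.2⟩
    rw [hm] at hiE
    obtain ⟨k, rfl⟩ := AddSubgroup.mem_closure_singleton.1 hiE
    set g : P := ⟨_, hcP⟩
    have hw : ((g ^ k)⁻¹ * p : P) ∈ BP := by
      show (((g ^ k)⁻¹ * p : P) : G) ∈ B
      have hcm : Commute (r ^ m) c := hcomm _ (zpow_mem hr m) c hcB
      rw [Subgroup.coe_mul, Subgroup.coe_inv, Subgroup.coe_zpow, e, smul_eq_mul]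
      rw [show (g : G) = r ^ m * c from rfl, hcm.mul_zpow, ← zpow_mul, mul_comm m k,
        mul_inv_rev, mul_assoc, inv_mul_cancel_left]
      exact mul_mem (inv_mem (zpow_mem hcB k)) hb
    obtain ⟨e', he'⟩ := hpar (q g) (hq2 g) k
    refine ⟨e', ⟨_, hw⟩, ?_⟩
    rw [← he']
    show q p = q g ^ k * q ((g ^ k)⁻¹ * p)
    rw [← QuotientGroup.mk_zpow, ← QuotientGroup.mk_mul, mul_inv_cancel_left]
  have hsurj : Function.Surjective Φ := by
    intro x
    obtain ⟨p, rfl⟩ := QuotientGroup.mk_surjective x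
    rcases hh₀ p with hp | hp
    · obtain ⟨e, w, hw⟩ := hUimg p hp
      exact ⟨(false, e, w), by simp only [Φ, if_false, Bool.false_eq_true, one_mul]; exact hw.symm⟩
    · obtain ⟨e, w, hw⟩ := hUimg (h₀⁻¹ * p) hp
      refine ⟨(true, e, w), ?_⟩
      simp only [Φ, if_true]
      rw [mul_assoc, ← hw, ← QuotientGroup.mk_mul, mul_inv_cancel_left]
  calc K.index = Nat.card (P ⧸ K) := rfl
    _ ≤ Nat.card (Bool × Bool × BP) := Nat.card_le_card_of_surjective Φ hsurj
    _ ≤ 16 := by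
      rw [Nat.card_prod, Nat.card_prod, Nat.card_eq_fintype_card (α := Bool), Fintype.card_bool]
      omega

end CfsgLib.Fusion.DihedralByFour
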