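import Mathlib
import Cfsg.Agent.Lib.Fusion.Control
import Cfsg.Prelude.Def_ConjugacyFunctors

/-! A functor on `p`-groups commutes with injective homomorphisms. -/
set_option autoImplicit false

universe u

namespace CfsgLib.Fusion

variable {p : ℕ} [hp : Fact p.Prime] {G H : Type u} [Group G] [Group H]

omit hp in
theorem PFunctor'.map_at (w : PFunctor'.{u} p) {f : G →* H} (hf : Function.Injective f)
    {P : Subgroup G} [Finite P] (hP : IsPGroup p P) : (w.at P).map f = w.at (P.map f) := by
  rw [PFunctor'.at, PFunctor'.at, ← w.equiv ↥P ↥(P.map f) hP (P.equivMapOfInjective f hf),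
    Subgroup.map_map, Subgroup.map_map]
  rfl

/-- The functor, restricted to the subgroups of a finite group, is a conjugacy functor. -/
theorem PFunctor'.isConjugacyFunctor (w : PFunctor'.{u} p) (G : Type u) [Group G] [Finite G] :
    Cfsg.IsConjugacyFunctor p (fun P : Subgroup G => w.at P) := fun P hP =>
  ⟨w.at_le P, w.at_ne_bot hP, fun g =>
    (w.map_at (f := (MulAut.conj g).toMonoidHom) (MulAut.conj g).injective hP).symm⟩

end CfsgLib.Fusion
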