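import Cfsg.Agent.Lib.Fusion.GenExtraspecialGroup
import Cfsg.Agent.Lib.Fusion.Criteria
import Cfsg.Agent.Lib.Fusion.Control
import Cfsg.Agent.Lib.OddOrder.QuadraticSection
import Cfsg.Agent.Lib.PGroups.Basic

/-!
# Strongly closed generalized extraspecial subgroups are normal (Stancu)
-/

set_option autoImplicit false
set_option linter.unusedSectionVars false

namespace CfsgLib.Fusion.GenExtra

open Cfsg Cfsg.FusionSystem Subgroup
open scoped commutatorElement

universe u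

variable {p : ℕ} [hp : Fact p.Prime]

/-! ### A pair of transvections -/

section pair

variable {W : Type*} [Group W] [Finite W]

theorem pow_apply_fixed (φ : MulAut W) (x : W) (h : φ (x⁻¹ * φ x) = x⁻¹ * φ x) :
    ∀ n : ℕ, (φ ^ n) x = x * (x⁻¹ * φ x) ^ n := by
  intro n
  induction n with
  | zero => simp
  | succ n ih =>
    rw [pow_succ', MulAut.mul_apply, ih, map_mul, map_pow, h, pow_succ' (x⁻¹ * φ x) n,
      ← mul_assoc x, mul_inv_cancel_left]

/-- The automorphisms stabilizing `1 ≤ U₁ ≤ U ≤ W`. -/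
def stab2 (U₁ U : Subgroup W) (hle : U₁ ≤ U) : Subgroup (MulAut W) where
  carrier := {α | (∀ x ∈ U₁, α x = x) ∧ (∀ x ∈ U, x⁻¹ * α x ∈ U₁) ∧ ∀ w, w⁻¹ * α w ∈ U}
  one_mem' := ⟨fun _ _ => rfl, fun x _ => by simp, fun x => by simp⟩
  mul_mem' := by
    rintro α β ⟨a1, a2, a3⟩ ⟨b1, b2, b3⟩
    refine ⟨fun x hx => by rw [MulAut.mul_apply, b1 x hx, a1 x hx], fun x hx => ?_, fun w => ?_⟩
    · have hb : β x ∈ U := by simpa using mul_mem hx (hle (b2 x hx))
      simpa [mul_assoc] using mul_mem (b2 x hx) (a2 _ hb)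
    · simpa [mul_assoc] using mul_mem (b3 w) (a3 (β w))
  inv_mem' := by
    rintro α ⟨a1, a2, a3⟩
    have h1 : ∀ x ∈ U₁, α⁻¹ x = x := fun x hx => by
      conv_lhs => rw [← a1 x hx]
      exact MulAut.inv_apply_self _ α x
    have h2 : ∀ x ∈ U, x⁻¹ * α⁻¹ x ∈ U₁ := fun x hx => by
      have e : α⁻¹ x = x * (x⁻¹ * α x)⁻¹ := by
        apply α.injective
        rw [MulAut.apply_inv_self, map_mul, map_inv, a1 _ (a2 x hx)]
        group
      rw [e, inv_mul_cancel_left]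
      exact inv_mem (a2 x hx)
    refine ⟨h1, h2, fun w => ?_⟩
    have h4 : α⁻¹ (w⁻¹ * α w)⁻¹ ∈ U := by
      have := mul_mem (inv_mem (a3 w)) (hle (h2 _ (inv_mem (a3 w))))
      rwa [mul_inv_cancel_left] at this
    have e : α⁻¹ w = w * α⁻¹ (w⁻¹ * α w)⁻¹ := by
      apply α.injective
      rw [MulAut.apply_inv_self, map_mul, MulAut.apply_inv_self]
      group
    rw [e, inv_mul_cancel_left]
    exact h4

theorem isPGroup_stab2 (hW : IsPGroup p W) (U₁ U : Subgroup W) (hle : U₁ ≤ U) :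
    IsPGroup p (stab2 U₁ U hle) := by
  obtain ⟨N, hN⟩ := IsPGroup.iff_card.1 hW
  have hone : ∀ w : W, w ^ p ^ N = 1 := fun w => hN ▸ pow_card_eq_one'
  intro α
  refine ⟨N + N, Subtype.ext ?_⟩
  show (α : MulAut W) ^ p ^ (N + N) = 1
  have hU : ∀ x ∈ U, ((α : MulAut W) ^ p ^ N) x = x := fun x hx => by
    rw [pow_apply_fixed _ x (α.2.1 _ (α.2.2.1 x hx)), hone, mul_one]
  refine MulEquiv.ext fun w => ?_
  rw [pow_add, pow_mul, pow_apply_fixed _ w (hU _ ((pow_mem α.2 (p ^ N)).2.2 w)), hone, mul_one]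
  rfl

omit [Finite W] in
theorem mul_pow_comm (hab : ∀ a b : W, a * b = b * a) {a b : W} {n : ℕ} :
    (a * b) ^ n = b ^ n * a ^ n := by
  rw [(show Commute a b from hab a b).mul_pow, hab]

omit [Finite W] in
theorem pow_three_apply (φ : MulAut W) (x : W) : (φ ^ 3) x = φ (φ (φ x)) := by
  rw [pow_succ, pow_two]; rfl

variable (hab : ∀ a b : W, a * b = b * a)

include hab in
/-- Two transvections generate a `p`-group, or some product inverts a centre and commutes with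
the first. -/
theorem pair_cases (hW : IsPGroup p W) (τ γ : MulAut W) {z : W} (hz1 : z ≠ 1) (hzp : z ^ p = 1)
    (hτ : ∀ w, w⁻¹ * τ w ∈ zpowers z) (hτz : τ z = z) :
    IsPGroup p (closure ({τ, γ * τ * γ⁻¹} : Set (MulAut W))) ∨
      ∃ ψ ∈ closure ({τ, γ * τ * γ⁻¹} : Set (MulAut W)), ψ z = z⁻¹ ∧ ψ * τ = τ * ψ := by
  set σ := γ * τ * γ⁻¹ with hσdef
  set y := γ z with hydef
  have hσ : ∀ w, w⁻¹ * σ w ∈ zpowers y := by
    intro w
    obtain ⟨i, hi⟩ := mem_zpowers_iff.1 (hτ (γ⁻¹ w))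
    refine mem_zpowers_iff.2 ⟨i, ?_⟩
    rw [hydef, ← map_zpow, hi, map_mul, map_inv, MulAut.apply_inv_self, hσdef, MulAut.mul_apply,
      MulAut.mul_apply]
  have hσy : σ y = y := by
    rw [hσdef, MulAut.mul_apply, MulAut.mul_apply, hydef, MulAut.inv_apply_self, hτz]
  set U := zpowers z ⊔ zpowers y with hU
  have hfix : ∀ (φ : MulAut W) (x : W), φ x = x → ∀ w ∈ zpowers x, φ w = w := by
    intro φ x hx w hw
    obtain ⟨i, rfl⟩ := mem_zpowers_iff.1 hw
    rw [map_zpow, hx]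
  have hnU : ∀ w, w⁻¹ * τ w ∈ U ∧ w⁻¹ * σ w ∈ U := fun w =>
    ⟨mem_sup_left (hτ w), mem_sup_right (hσ w)⟩
  haveI hn : ∀ K : Subgroup W, K.Normal := fun K =>
    ⟨fun k hk x => by rwa [hab x k, mul_inv_cancel_right]⟩
  by_cases h1 : σ z = z
  · refine Or.inl ((isPGroup_stab2 hW (zpowers z) U le_sup_left).to_le ?_)
    rw [closure_le, Set.insert_subset_iff, Set.singleton_subset_iff]
    refine ⟨?_, ?_⟩
    · exact ⟨hfix τ z hτz, fun x _ => hτ x, fun w => (hnU w).1⟩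
    · refine ⟨hfix σ z h1, fun x hx => ?_, fun w => (hnU w).2⟩
      obtain ⟨a, ha, b, hb, rfl⟩ := mem_sup_of_normal_left.1 hx
      rw [map_mul, hfix σ z h1 a ha, hfix σ y hσy b hb, inv_mul_cancel]
      exact one_mem _
  by_cases h2 : τ y = y
  · refine Or.inl ((isPGroup_stab2 hW (zpowers y) U le_sup_right).to_le ?_)
    rw [closure_le, Set.insert_subset_iff, Set.singleton_subset_iff]
    refine ⟨?_, ?_⟩
    · refine ⟨hfix τ y h2, fun x hx => ?_, fun w => (hnU w).1⟩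
      obtain ⟨a, ha, b, hb, rfl⟩ := mem_sup_of_normal_left.1 hx
      rw [map_mul, hfix τ z hτz a ha, hfix τ y h2 b hb, inv_mul_cancel]
      exact one_mem _
    · exact ⟨hfix σ y hσy, fun x _ => hσ x, fun w => (hnU w).2⟩
  refine Or.inr ?_
  have hyp : y ^ p = 1 := by rw [hydef, ← map_pow, hzp, map_one]
  have hy1 : y ≠ 1 := by
    rw [hydef]; exact fun h => hz1 (γ.injective (h.trans (map_one γ).symm))
  -- scale the two transvections
  have hscale : ∀ (φ : MulAut W) (x c t : W), c ^ p = 1 → φ c = c → x⁻¹ * φ x ∈ zpowers c →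
      φ x ≠ x → t ∈ zpowers c → ∃ m : ℕ, (φ ^ m) x = x * t := by
    intro φ x c t hcp hc hmem hne ht
    set d := x⁻¹ * φ x with hd
    have hd1 : d ≠ 1 := fun h => hne (by rw [hd, inv_mul_eq_one] at h; exact h.symm)
    have hdp : d ^ p = 1 := by
      obtain ⟨i, hi⟩ := mem_zpowers_iff.1 hmem
      rw [← hi, ← zpow_natCast, ← zpow_mul, mul_comm, zpow_mul, zpow_natCast, hcp, one_zpow]
    have heq : zpowers d = zpowers c := by
      refine eq_of_le_of_card_ge (zpowers_le.2 hmem) ?_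
      rw [Nat.card_zpowers, Nat.card_zpowers, orderOf_eq_prime hdp hd1]
      exact Nat.le_of_dvd hp.out.pos (orderOf_dvd_of_pow_eq_one hcp)
    obtain ⟨m, hm⟩ := mem_powers_iff_mem_zpowers.2 (heq.symm ▸ ht : t ∈ zpowers d)
    exact ⟨m, by rw [pow_apply_fixed φ x (hfix φ c hc _ hmem) m, ← hm]⟩
  obtain ⟨k, hk⟩ := hscale τ y z z hzp hτz (hτ y) h2 (mem_zpowers z)
  obtain ⟨l, hl⟩ := hscale σ z y y⁻¹ hyp hσy (hσ z) h1 (inv_mem (mem_zpowers y))
  set τ' := τ ^ k with hτ'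
  set σ' := σ ^ l with hσ'
  have hτ'z : τ' z = z := by
    rw [hτ', pow_apply_fixed τ z (by rw [hτz, inv_mul_cancel, map_one])]
    rw [hτz, inv_mul_cancel, one_pow, mul_one]
  have hσ'y : σ' y = y := by
    rw [hσ', pow_apply_fixed σ y (by rw [hσy, inv_mul_cancel, map_one])]
    rw [hσy, inv_mul_cancel, one_pow, mul_one]
  set π := τ' * σ' with hπ
  have hπz : π z = y⁻¹ := by
    rw [hπ, MulAut.mul_apply, hl, map_mul, hτ'z, map_inv, hk, mul_inv_rev, ← mul_assoc,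
      mul_inv_cancel, one_mul]
  have hπy : π y = y * z := by rw [hπ, MulAut.mul_apply, hσ'y, hk]
  have hψz : (π ^ 3) z = z⁻¹ := by
    rw [pow_three_apply, hπz, map_inv, hπy, map_inv, map_mul,
      hπy, hπz, hab (y * z) y⁻¹, inv_mul_cancel_left]
  have hψy : (π ^ 3) y = y⁻¹ := by
    rw [pow_three_apply, hπy, map_mul, hπy, hπz,
      hab (y * z) y⁻¹, inv_mul_cancel_left, hπz]
  have hπmem : π ^ 3 ∈ closure ({τ, σ} : Set (MulAut W)) :=
    pow_mem (mul_mem (pow_mem (Subgroup.subset_closure (Set.mem_insert τ _)) k)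
      (pow_mem (Subgroup.subset_closure (Set.mem_insert_of_mem τ (Set.mem_singleton σ))) l)) 3
  refine ⟨π ^ 3, hπmem, hψz, MulEquiv.ext fun w => ?_⟩
  -- `w` is a common fixed point times powers of `z` and `y`
  obtain ⟨b, hb⟩ : ∃ b : W, b ∈ zpowers y ∧ τ (w * b) = w * b := by
    obtain ⟨i, hi⟩ := mem_zpowers_iff.1 (hτ w)
    have hd : y⁻¹ * τ y ∈ zpowers z := hτ y
    have hne : y⁻¹ * τ y ≠ 1 := fun h => h2 (by rw [inv_mul_eq_one] at h; exact h.symm)
    have hdp : (y⁻¹ * τ y) ^ p = 1 := by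
      rw [hab, mul_pow_comm hab, inv_pow, hyp, ← map_pow, hyp, map_one, inv_one, one_mul]
    have heq : zpowers (y⁻¹ * τ y) = zpowers z := by
      refine eq_of_le_of_card_ge (zpowers_le.2 hd) ?_
      rw [Nat.card_zpowers, Nat.card_zpowers, orderOf_eq_prime hdp hne, orderOf_eq_prime hzp hz1]
    obtain ⟨j, hj⟩ := mem_zpowers_iff.1 (heq.symm ▸ inv_mem (hτ w) : (w⁻¹ * τ w)⁻¹ ∈ zpowers _)
    refine ⟨y ^ j, zpow_mem (mem_zpowers y) j, ?_⟩
    rw [map_mul, map_zpow, show τ y = y * (y⁻¹ * τ y) by group,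
      (show Commute y (y⁻¹ * τ y) from hab _ _).mul_zpow, hj, hab (y ^ j) (w⁻¹ * τ w)⁻¹]
    group
  obtain ⟨a, ha⟩ : ∃ a : W, a ∈ zpowers z ∧ σ (w * b * a) = w * b * a := by
    have hne : z⁻¹ * σ z ≠ 1 := fun h => h1 (by rw [inv_mul_eq_one] at h; exact h.symm)
    have hdp : (z⁻¹ * σ z) ^ p = 1 := by
      rw [hab, mul_pow_comm hab, inv_pow, hzp, ← map_pow, hzp, map_one, inv_one, one_mul]
    have heq : zpowers (z⁻¹ * σ z) = zpowers y := by
      refine eq_of_le_of_card_ge (zpowers_le.2 (hσ z)) ?_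
      rw [Nat.card_zpowers, Nat.card_zpowers, orderOf_eq_prime hdp hne, orderOf_eq_prime hyp hy1]
    obtain ⟨j, hj⟩ := mem_zpowers_iff.1
      (heq.symm ▸ inv_mem (hσ (w * b)) : ((w * b)⁻¹ * σ (w * b))⁻¹ ∈ zpowers _)
    refine ⟨z ^ j, zpow_mem (mem_zpowers z) j, ?_⟩
    rw [map_mul, map_zpow, show σ z = z * (z⁻¹ * σ z) by group,
      (show Commute z (z⁻¹ * σ z) from hab _ _).mul_zpow, hj,
      hab (z ^ j) ((w * b)⁻¹ * σ (w * b))⁻¹]
    group
  set c := w * b * a with hc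
  have hτc : τ c = c := by rw [hc, map_mul, hb.2, hfix τ z hτz a ha.1]
  have hψc : (π ^ 3) c = c := by
    have hπc : π c = c := by
      rw [hπ, MulAut.mul_apply]
      have e1 : σ' c = c := by
        rw [hσ', pow_apply_fixed σ c (by rw [ha.2, inv_mul_cancel, map_one]), ha.2, inv_mul_cancel,
          one_pow, mul_one]
      rw [e1, hτ', pow_apply_fixed τ c (by rw [hτc, inv_mul_cancel, map_one]), hτc, inv_mul_cancel,
        one_pow, mul_one]
    rw [pow_three_apply, hπc, hπc, hπc]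
  have agree : ∀ x, (π ^ 3) (τ x) = τ ((π ^ 3) x) ↔ (π ^ 3 * τ) x = (τ * π ^ 3) x := fun _ => Iff.rfl
  let Eq₀ : Subgroup W := MonoidHom.eqLocus (π ^ 3 * τ : MulAut W).toMonoidHom
    (τ * π ^ 3 : MulAut W).toMonoidHom
  have hzm : z ∈ Eq₀ := by
    show (π ^ 3) (τ z) = τ ((π ^ 3) z)
    rw [hτz, hψz, map_inv, hτz]
  have hym : y ∈ Eq₀ := by
    show (π ^ 3) (τ y) = τ ((π ^ 3) y)
    obtain ⟨i, hi⟩ := mem_zpowers_iff.1 (hτ y)
    rw [hψy, map_inv, show τ y = y * z ^ i by rw [hi]; group, map_mul, map_zpow, hψy, hψz, inv_zpow,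
      hab y (z ^ i), mul_inv_rev]
  have hcm : c ∈ Eq₀ := by
    show (π ^ 3) (τ c) = τ ((π ^ 3) c)
    rw [hτc, hψc, hτc]
  have hw : w ∈ Eq₀ := by
    rw [show w = c * (b * a)⁻¹ by rw [hc]; group]
    exact mul_mem hcm (inv_mem (mul_mem (zpowers_le.2 hym hb.1) (zpowers_le.2 hzm ha.1)))
  exact hw

end pair

/-! ### The main argument -/

variable {Ω : Type u} [Group Ω] {S : Subgroup Ω} [Finite S] {F : FusionSystem S} {P : Subgroup Ω}

theorem isNormal (hS : IsPGroup p S) (hF : F.IsSaturated p) (hP : F.StronglyClosed P)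
    (hge : frattini P = commutator P ∧ Nat.card (commutator P) = p)
    (h2 : p = 2 → ¬ ∃ (A : Type) (_ : CommGroup A), (∀ a : A, a ^ 2 = 1) ∧
      Nonempty (P ≃* DihedralGroup 4 × A))
    (hodd : p ≠ 2 → ¬ ∃ (E : Type) (_ : Group E) (A : Type) (_ : CommGroup A), Cfsg.IsExtraspecial p E ∧
      Nat.card E = p ^ 3 ∧ Monoid.exponent E = p ∧ (∀ a : A, a ^ p = 1) ∧ Nonempty (P ≃* E × A)) :
    F.IsNormal P := by
  classical
  obtain ⟨hPS, hPc⟩ := stronglyClosed_iff.1 hP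
  have : Finite P := finite_of_le hPS
  have hPp : IsPGroup p P := isPGroup_of_le hPS hS
  set C := commutator P with hC
  set Z := C.map P.subtype with hZ
  have hZP : Z ≤ P := map_subtype_le _
  have hZS : Z ≤ S := hZP.trans hPS
  have hmemZ : ∀ {x : Ω} (hx : x ∈ P), x ∈ Z ↔ (⟨x, hx⟩ : P) ∈ C := fun {x} hx =>
    ⟨fun ⟨y, hy, e⟩ => (Subtype.ext e : y = ⟨x, hx⟩) ▸ hy, fun h => ⟨_, h, rfl⟩⟩
  have hZS' : S ≤ normalizer (Z : Set Ω) := by
    intro s hs
    rw [mem_normalizer_iff_map_conj_eq]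
    show Z.map (MulAut.conj s).toMonoidHom = Z
    rw [hZ, hC, map_commutator_self, Subgroup.map_commutator,
      show P.map (MulAut.conj s).toMonoidHom = P from
        mem_normalizer_iff_map_conj_eq.1 (stronglyClosed_le_normalizer hP hs)]
  have hZcard : Nat.card Z = p := by
    rw [hZ, card_map_of_injective P.subtype_injective]; exact hge.2
  -- `Z` is central in `S`
  have hZcen : ∀ c ∈ Z, ∀ s ∈ S, s * c = c * s := by
    intro c hc s hs
    haveI : (Z.subgroupOf S).Normal := normal_subgroupOf_of_le_normalizer hZS'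
    haveI : Nontrivial S := nontrivial_of_card hS hZS hZcard
    have hle : Z.subgroupOf S ≤ center S := by
      have hcard : Nat.card (Z.subgroupOf S) = p := by
        rw [Nat.card_congr (subgroupOfEquivOfLe hZS).toEquiv, hZcard]
      have hne : Z.subgroupOf S ⊓ center S ≠ ⊥ := CfsgLib.PGroups.inf_center_ne_bot hS (fun h => by
        rw [h, card_bot] at hcard; exact hp.out.one_lt.ne hcard)
      have h1 : Nat.card (Z.subgroupOf S ⊓ center S : Subgroup S) ∣ p :=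
        hcard ▸ card_dvd_of_le inf_le_left
      rcases (Nat.dvd_prime hp.out).1 h1 with h | h
      · exact absurd (card_eq_one.1 h) hne
      · exact (eq_of_le_of_card_ge inf_le_left (by rw [hcard, h])).ge.trans inf_le_right
    exact congrArg Subtype.val
      (mem_center_iff.1 (hle (x := ⟨c, hZS hc⟩) (mem_subgroupOf.2 hc)) ⟨s, hs⟩)
  have hsmall : SmallDerived p C :=
    { card := hge.2
      central := fun c hc x => Subtype.ext (hZcen c ⟨c, hc, rfl⟩ x (hPS x.2)).symm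
      comm := fun a b => commutator_mem_commutator (mem_top _) (mem_top _)
      pow := fun x => hge.1 ▸ CfsgLib.PGroups.pow_mem_frattini hPp x }
  -- the derived subgroup is strongly closed
  suffices hZclosed : ∀ (R : Subgroup Ω) (f : Ω → Ω), IsMor F R f → ∀ z ∈ R, z ∈ Z → f z ∈ Z by
    refine isNormal_of_chain hS hF 2 (fun i => if i = 0 then ⊥ else if i = 1 then Z else P) rfl rfl
      (fun i _ => ?_) fun i hi => ?_
    · by_cases h0 : i = 0
      · simp only [h0, if_true]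
        exact stronglyClosed_iff.mpr ⟨bot_le, fun R f hf x hxR hx => by
          rw [mem_bot.mp hx]; exact mem_bot.mpr hf.map_one⟩
      by_cases h1 : i = 1
      · simp only [h1, one_ne_zero, if_false, if_true]
        exact stronglyClosed_iff.mpr ⟨hZS, hZclosed⟩
      · simp only [h0, h1, if_false]
        exact hP
    · rcases i with _ | _ | i
      · simp only [Nat.zero_add, one_ne_zero, if_false, if_true]
        rw [commutator_le]
        intro a ha c hc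
        rw [mem_bot, commutatorElement_eq_one_iff_mul_comm]
        exact hZcen c hc a (hPS ha)
      · simp only [Nat.zero_add, one_ne_zero, if_false, if_true]
        exact le_of_eq (by rw [hZ, hC, map_commutator_self]; norm_num)
      · omega
  intro R f hf z hzR hzZ
  by_contra hxZ
  set x := f z with hxdef
  have hz1 : z ≠ 1 := fun h => hxZ (by rw [hxdef, h, hf.map_one]; exact one_mem _)
  have hxP : x ∈ P := hPc R f hf z hzR (hZP hzZ)
  have hzord : orderOf z = p := by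
    refine orderOf_eq_prime ?_ hz1
    exact orderOf_dvd_iff_pow_eq_one.1 (hZcard ▸ orderOf_dvd_natCard Z hzZ)
  -- `zpowers z` is receptive, so the inverse map extends
  have hzR' : zpowers z ≤ R := zpowers_le.2 hzR
  have hzS : zpowers z ≤ S := zpowers_le.2 (hZS hzZ)
  have hCz : centralizerIn S (zpowers z) = S := le_antisymm centralizerIn_le
    (le_inf le_rfl fun s hs => mem_centralizer_iff.2 fun w hw => by
      obtain ⟨i, rfl⟩ := mem_zpowers_iff.1 hw
      exact ((show Commute s z from hZcen z hzZ s hs).zpow_right i).eq.symm)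
  have hrec : F.IsReceptive (zpowers z) := isReceptive_of_centralized hS hF
    ⟨hzS, fun U _ => by rw [hCz]; exact card_le_of_le centralizerIn_le⟩
  obtain ⟨g₀, hg₀, hg₀f, -, hg₀img⟩ := (hf.restrict hzR').inverse
  set X := img (zpowers z) f with hX
  have hxX : x ∈ X := mem_img_of_mem f (mem_zpowers z)
  obtain ⟨h, hh, hhe⟩ := (isReceptive_iff.1 hrec).2 X g₀ hg₀ hg₀img
  have hhx : h x = z := by rw [hhe x hxX]; exact hg₀f z (mem_zpowers z)
  have hQle : P ⊓ centralizer ({x} : Set Ω) ≤ nExt S X g₀ := by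
    rintro q ⟨hqP, hqx⟩
    refine centralizerIn_le_nExt _ (mem_centralizerIn.2 ⟨hPS hqP, ?_⟩)
    intro w hw
    obtain ⟨v, hv, rfl⟩ := (hf.restrict hzR').mem_img.1 hw
    obtain ⟨i, rfl⟩ := mem_zpowers_iff.1 hv
    rw [hf.map_zpow hzR, ← hxdef]
    rw [cj_apply, ← ((show Commute x q from mem_centralizer_iff.1 hqx x rfl).zpow_left i).eq,
      mul_inv_cancel_right]
  set Q := P ⊓ centralizer ({x} : Set Ω) with hQ
  have hhQ : IsMor F Q h := hh.restrict hQle
  have hQP : Q ≤ P := inf_le_left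
  have hxQ : x ∈ Q := ⟨hxP, mem_centralizer_iff.2 fun w hw => by rw [Set.mem_singleton_iff.1 hw]⟩
  set W' := img Q h with hW'
  have hW'P : W' ≤ P := Fusion.img_le fun q hq => hPc Q h hhQ q hq (hQP hq)
  have hback : ∀ q ∈ Q, h q ∈ zpowers z → q ∈ zpowers x := by
    intro q hq hqz
    obtain ⟨i, hi⟩ := mem_zpowers_iff.1 hqz
    refine mem_zpowers_iff.2 ⟨i, hhQ.inj (Q.zpow_mem hxQ i) hq ?_⟩
    rw [hhQ.map_zpow hxQ, hhx, hi]
  haveI : Finite Z := finite_of_le hZS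
  haveI : Finite (zpowers x) := finite_of_le ((zpowers_le.2 hxP).trans hPS)
  have hzW : zpowers z = Z := eq_of_le_of_card_ge (zpowers_le.2 hzZ)
    (by rw [hZcard, Nat.card_zpowers, hzord])
  have hinterQ : ∀ q ∈ Q, q ∈ Z → q ∈ zpowers x → q = 1 := by
    intro q _ hqZ hqx
    by_contra hq1
    refine hxZ (zpowers_le.1 (le_of_eq (eq_of_le_of_card_ge (zpowers_le.2 hqx) ?_).symm |>.trans
      (zpowers_le.2 hqZ)))
    rw [Nat.card_zpowers, Nat.card_zpowers, hf.orderOf_eq hzR, hzord]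
    exact le_of_eq (orderOf_eq_prime
      (orderOf_dvd_iff_pow_eq_one.1 (hZcard ▸ orderOf_dvd_natCard Z hqZ)) hq1).symm
  -- `Q` is abelian and its image has exponent `p`
  have hQab : ∀ a ∈ Q, ∀ b ∈ Q, a * b = b * a := by
    intro a ha b hb
    rw [← commutatorElement_eq_one_iff_mul_comm]
    have hcQ : ⁅a, b⁆ ∈ Q := by
      rw [commutatorElement_def]
      exact mul_mem (mul_mem (mul_mem ha hb) (inv_mem ha)) (inv_mem hb)
    have hcZ : ⁅a, b⁆ ∈ Z :=
      ⟨⁅(⟨a, hQP ha⟩ : P), ⟨b, hQP hb⟩⁆, hsmall.comm _ _, rfl⟩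
    refine hinterQ _ hcQ hcZ (hback _ hcQ ?_)
    rw [hzW]
    have e : h ⁅a, b⁆ = ⁅h a, h b⁆ := by
      rw [commutatorElement_def, commutatorElement_def, hhQ.map_mul (mul_mem (mul_mem ha hb)
        (inv_mem ha)) (inv_mem hb), hhQ.map_mul (mul_mem ha hb) (inv_mem ha), hhQ.map_mul ha hb,
        hhQ.map_inv ha, hhQ.map_inv hb]
    rw [e]
    exact ⟨⁅(⟨h a, hW'P (mem_img_of_mem h ha)⟩ : P), ⟨h b, hW'P (mem_img_of_mem h hb)⟩⁆,
      hsmall.comm _ _, rfl⟩
  have hQexp : ∀ q ∈ Q, q ^ p = 1 := by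
    intro q hq
    have hqp : q ^ p ∈ Q := pow_mem hq p
    have hqZ : q ^ p ∈ Z := ⟨(⟨q, hQP hq⟩ : P) ^ p, hsmall.pow _, rfl⟩
    refine hinterQ _ hqp hqZ (hback _ hqp ?_)
    rw [hzW, hhQ.map_pow hq]
    exact ⟨(⟨h q, hW'P (mem_img_of_mem h hq)⟩ : P) ^ p, hsmall.pow _, rfl⟩
  -- it has index `p`
  set xP : P := ⟨x, hxP⟩ with hxP'
  let δ : P →* C := MonoidHom.mk' (fun a => ⟨⁅a, xP⁆, hsmall.comm a xP⟩) fun a b => Subtype.ext (by
    show ⁅a * b, xP⁆ = ⁅a, xP⁆ * ⁅b, xP⁆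
    rw [show ⁅a * b, xP⁆ = a * ⁅b, xP⁆ * a⁻¹ * ⁅a, xP⁆ by simp only [commutatorElement_def]; group,
      ← hsmall.central _ (hsmall.comm b xP) a, mul_inv_cancel_right,
      hsmall.central _ (hsmall.comm b xP)])
  have hker : δ.ker = Q.subgroupOf P := by
    ext a
    rw [MonoidHom.mem_ker, mem_subgroupOf]
    constructor
    · intro ha
      refine ⟨a.2, mem_centralizer_iff.2 fun w hw => ?_⟩
      rw [Set.mem_singleton_iff.1 hw]
      exact (congrArg Subtype.val (commutatorElement_eq_one_iff_mul_comm.1 (congrArg Subtype.val ha))).symm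
    · intro ha
      exact Subtype.ext (commutatorElement_eq_one_iff_mul_comm.2
        (Subtype.ext (mem_centralizer_iff.1 ha.2 x rfl).symm))
  have hnonab : ∃ a b : P, a * b ≠ b * a := by
    by_contra hall
    push Not at hall
    have hbot : C = ⊥ := by
      rw [hC, _root_.commutator_def, eq_bot_iff, commutator_le]
      intro a _ b _
      rw [mem_bot, commutatorElement_eq_one_iff_mul_comm]; exact hall a b
    have := hge.2
    rw [hbot, card_bot] at this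
    exact hp.out.one_lt.ne this
  have hWle : (Q.subgroupOf P).index = p := by
    have hdvd : (Q.subgroupOf P).index ∣ p := by
      rw [← hker, index_ker, ← hge.2]
      exact card_subgroup_dvd_card δ.range
    refine ((Nat.dvd_prime hp.out).1 hdvd).resolve_left fun h1 => ?_
    rw [index_eq_one] at h1
    obtain ⟨a, b, hne⟩ := hnonab
    have ha : a ∈ Q.subgroupOf P := h1 ▸ mem_top a
    have hb : b ∈ Q.subgroupOf P := h1 ▸ mem_top b
    exact hne (Subtype.ext (hQab a (mem_subgroupOf.1 ha) b (mem_subgroupOf.1 hb)))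
  have hAbQ : AbMax p (Q.subgroupOf P) :=
    ⟨hWle, fun a ha b hb => Subtype.ext (hQab a (mem_subgroupOf.1 ha) b (mem_subgroupOf.1 hb)),
      fun a ha => Subtype.ext (hQexp a (mem_subgroupOf.1 ha)), hnonab⟩
  have hexcl : ∀ g : P, g ∉ Q.subgroupOf P → g ^ p ≠ 1 := fun g hg hgp => by
    obtain ⟨e2, eodd⟩ := exists_prod_small hPp hsmall hAbQ hg hgp
    by_cases hp2 : p = 2
    · exact h2 hp2 (e2 hp2)
    · exact hodd hp2 (eodd hp2)
  have hp2 : p ≠ 2 := by
    intro hp2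
    subst hp2
    obtain ⟨g, hg, hg2⟩ := exists_involution_not_mem hsmall hAbQ
    exact hexcl g hg hg2
  have hoddp : Odd p := hp.out.odd_of_ne_two hp2
  -- `Q = Ω₁(P)`, so it is normal in `F`
  have hQmem : ∀ a ∈ P, a ^ p = 1 → a ∈ Q := by
    intro a ha hap
    by_contra haQ
    exact hexcl ⟨a, ha⟩ (fun h => haQ (mem_subgroupOf.1 h)) (Subtype.ext hap)
  have hQsc : F.StronglyClosed Q := stronglyClosed_iff.2 ⟨hQP.trans hPS, fun T k hk a haT haQ =>
    hQmem _ (hPc T k hk a haT (hQP haQ)) (by rw [← hk.map_pow haT, hQexp a haQ, hk.map_one])⟩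
  have hQn : F.IsNormal Q := isNormal_of_abelian hS hF hQsc hQab
  have hzQ : z ∈ Q := hQmem z (hZP hzZ) (hzord ▸ pow_orderOf_eq_one z)
  obtain ⟨k, hk, hkf, hkQ⟩ := (isNormal_iff.1 hQn).2 (zpowers z) f (hf.restrict hzR')
  obtain ⟨β, hβA, hβe⟩ := exists_aut (hk.restrict le_sup_right) hkQ
  have hβz : autFun β z = x := by rw [hβe z hzQ, hkf z (mem_zpowers z)]
  have hQN : normalizerIn S Q = S :=
    le_antisymm normalizerIn_le (le_inf le_rfl (stronglyClosed_le_normalizer hQsc))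
  have hfn : F.IsFullyNormalized Q := isFullyNormalized_of_normal (hQP.trans hPS) hQN
  set A := F.autGroup Q with hA
  obtain ⟨⟨-, Rs, hRs⟩, hQrec⟩ := isFullyAutomized_of_normalized hS hF hfn
  -- conjugation by an element outside `Q`
  obtain ⟨g, hgQ⟩ : ∃ g : P, g ∉ Q.subgroupOf P := by
    by_contra hall
    push Not at hall
    rw [(eq_top_iff' _).2 hall, index_top] at hWle
    exact hp.out.one_lt.ne hWle
  have hgN : (g : Ω) ∈ normalizer (Q : Set Ω) := stronglyClosed_le_normalizer hQsc (hPS g.2)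
  obtain ⟨τ, hτI, hτe⟩ := exists_autInducedBy (K := S) (hPS g.2) hgN
  have hτA : τ ∈ F.autGroup Q := autInducedBy_le F (hQP.trans hPS) hτI
  have hPgen : Q.subgroupOf P ⊔ zpowers g = ⊤ := hAbQ.sup_zpowers hgQ
  -- automorphisms carrying `τ` into `Aut_S(Q)` extend to `P`
  have hext : ∀ ψ ∈ F.autGroup Q, ψ * τ * ψ⁻¹ ∈ autInducedBy S Q →
      ∃ k, IsMor F P k ∧ ∀ w ∈ Q, k w = autFun ψ w := by
    intro ψ hψ hψτ
    obtain ⟨s, hs, -, hse⟩ := mem_autInducedBy.1 hψτ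
    have hψm := isMor_autFun (hQP.trans hPS) hψ
    obtain ⟨k, hk, hke⟩ := (isReceptive_iff.1 hQrec).2 Q _ hψm (img_autFun ψ)
    refine ⟨k, hk.restrict ?_, hke⟩
    have hg' : (g : Ω) ∈ nExt S Q (autFun ψ) := by
      refine mem_nExt.2 ⟨hPS g.2, hgN, s, hs, fun w hw => ?_⟩
      rw [← hse _ (autFun_mem ψ hw), autFun_mul _ _ (autFun_mem ψ hw), autFun_inv_left ψ hw,
        autFun_mul _ _ hw, hτe w hw]
    intro a ha
    have ha' : (⟨a, ha⟩ : P) ∈ Q.subgroupOf P ⊔ zpowers g := hPgen ▸ mem_top _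
    have hle : Q.subgroupOf P ⊔ zpowers g ≤ (nExt S Q (autFun ψ)).subgroupOf P :=
      sup_le (fun b hb => mem_subgroupOf.2 (le_nExt hψm (mem_subgroupOf.1 hb)))
        (zpowers_le.2 (mem_subgroupOf.2 hg'))
    exact mem_subgroupOf.1 (hle ha')
  -- and then they fix `Z`
  have hfixZ : ∀ ψ ∈ F.autGroup Q, ψ * τ * ψ⁻¹ ∈ autInducedBy S Q → autFun ψ z ∈ Z := by
    intro ψ hψ hψτ
    obtain ⟨k, hk, hke⟩ := hext ψ hψ hψτ
    obtain ⟨α, -, hα⟩ := exists_aut hk (hk.img_eq_self fun a ha => hPc P k hk a ha ha)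
    obtain ⟨c, hc, hce⟩ := hzZ
    have h1 : α c ∈ C := (Subgroup.characteristic_iff_map_eq.1 inferInstance α).le ⟨c, hc, rfl⟩
    rw [← hke z hzQ, ← hα z (hZP ⟨c, hc, hce⟩)]
    refine ⟨α c, h1, ?_⟩
    show (α c : Ω) = autFun α z
    rw [← hce]
    exact (autFun_coe α c).symm
  have hQfin : Finite Q := finite_of_le (hQP.trans hPS)
  haveI : Finite (MulAut Q) := finite_mulAut (hQP.trans hPS)
  by_cases hcore : (⟨τ, hτA⟩ : A) ∈ pCore p A
  · apply hxZ
    rw [← hβz]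
    refine hfixZ β hβA ?_
    have h1 : (⟨β, hβA⟩ : A) * ⟨τ, hτA⟩ * (⟨β, hβA⟩ : A)⁻¹ ∈ pCore p A :=
      (pCore_normal p A).conj_mem _ hcore _
    have h2 := CfsgLib.Base.pCore_le_sylow Rs h1
    rw [hRs] at h2
    exact h2
  have hcore' : ¬ ∀ γ : A,
      IsPGroup p (closure ({(⟨τ, hτA⟩ : A), γ * ⟨τ, hτA⟩ * γ⁻¹} : Set A)) :=
    fun hall => hcore (CfsgLib.OddOrder.mem_pCore_of_pairs _ hall)
  push Not at hcore'
  obtain ⟨γ, hγ⟩ := hcore'
  have hτmem : ∀ w : Q, w⁻¹ * τ w ∈ zpowers (⟨z, hzQ⟩ : Q) := by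
    intro w
    have h1 : ((w⁻¹ * τ w : Q) : Ω) ∈ Z := by
      refine ⟨⁅(⟨w, hQP w.2⟩ : P)⁻¹, g⁆, hsmall.comm _ _, ?_⟩
      show (w : Ω)⁻¹ * g * (w : Ω)⁻¹⁻¹ * (g : Ω)⁻¹ = (w : Ω)⁻¹ * (τ w : Ω)
      rw [← autFun_coe τ w, hτe w w.2, cj_apply]
      group
    obtain ⟨i, hi⟩ := mem_zpowers_iff.1 (hzW.symm ▸ h1)
    exact mem_zpowers_iff.2 ⟨i, Subtype.ext hi⟩
  have hτz : τ ⟨z, hzQ⟩ = ⟨z, hzQ⟩ := Subtype.ext (by
    rw [← autFun_coe τ ⟨z, hzQ⟩, hτe z hzQ, cj_apply, hZcen z hzZ g (hPS g.2), mul_inv_cancel_right])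
  rcases pair_cases (p := p) (fun a b => Subtype.ext (hQab a a.2 b b.2))
      (isPGroup_of_le (hQP.trans hPS) hS) τ γ (z := ⟨z, hzQ⟩) (fun h => hz1 (congrArg Subtype.val h))
      (Subtype.ext (hQexp z hzQ)) hτmem hτz with hpg | ⟨ψ, hψmem, hψz, hψτ⟩
  · apply hγ
    have hmap : (closure ({(⟨τ, hτA⟩ : A), γ * ⟨τ, hτA⟩ * γ⁻¹} : Set A)).map A.subtype =
        closure ({τ, (γ : MulAut Q) * τ * (γ : MulAut Q)⁻¹} : Set (MulAut Q)) := by
      rw [MonoidHom.map_closure, Set.image_pair]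
      rfl
    exact (hmap ▸ hpg : IsPGroup p _).of_equiv
      (equivMapOfInjective _ A.subtype A.subtype_injective).symm
  -- `ψ` inverts `Z`, yet extends to `P` fixing the coset of `g`
  have hψA : ψ ∈ A := (closure_le A).2 (Set.insert_subset_iff.2
    ⟨hτA, Set.singleton_subset_iff.2 (mul_mem (mul_mem γ.2 hτA) (inv_mem γ.2))⟩) hψmem
  obtain ⟨k, hk, hke⟩ := hext ψ hψA (by rw [hψτ, mul_inv_cancel_right]; exact hτI)
  have hkg : k g ∈ P := hPc P k hk g g.2 g.2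
  have hgr : (⟨g, g.2⟩ : P)⁻¹ * ⟨k g, hkg⟩ ∈ Q.subgroupOf P := by
    by_contra hv
    -- it centralises `Q`
    obtain ⟨a, haQ, hne⟩ := exists_noncommuting hAbQ hv
    apply hne
    rw [commutatorElement_eq_one_iff_mul_comm]
    refine Subtype.ext ?_
    show (g : Ω)⁻¹ * k g * (a : Ω) = a * ((g : Ω)⁻¹ * k g)
    set b : Q := ψ⁻¹ ⟨a, mem_subgroupOf.1 haQ⟩ with hb
    have hab : (ψ b : Ω) = a := by rw [hb, MulAut.apply_inv_self]
    have h1 : k ((g : Ω) * b * (g : Ω)⁻¹) = k g * (a : Ω) * (k g)⁻¹ := by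
      rw [hk.map_conj g.2 (hQP b.2), hke b b.2, autFun_coe ψ b, hab]
    have hτb : (g : Ω) * b * (g : Ω)⁻¹ = (τ b : Ω) := by
      rw [← autFun_coe τ b, hτe b b.2, cj_apply]
    rw [hτb, hke _ (τ b).2, autFun_coe ψ (τ b),
      show ψ (τ b) = τ (ψ b) from DFunLike.congr_fun hψτ b, ← autFun_coe τ (ψ b),
      hτe _ (ψ b).2, cj_apply, hab] at h1
    calc (g : Ω)⁻¹ * k g * (a : Ω) = (g : Ω)⁻¹ * (k g * (a : Ω) * (k g)⁻¹) * k g := by group
      _ = (g : Ω)⁻¹ * ((g : Ω) * a * (g : Ω)⁻¹) * k g := by rw [h1]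
      _ = _ := by group
  -- powers
  have hgpZ : (g : Ω) ^ p ∈ Z := ⟨g ^ p, hsmall.pow g, rfl⟩
  have hgp1 : (g : Ω) ^ p ≠ 1 := fun h => hexcl g hgQ (Subtype.ext h)
  have hpe : k ((g : Ω) ^ p) = (g : Ω) ^ p := by
    have h1 : ((⟨k g, hkg⟩ : P)) ^ p = g ^ p := by
      set v := (⟨g, g.2⟩ : P)⁻¹ * ⟨k g, hkg⟩
      rw [show (⟨k g, hkg⟩ : P) = g * v from (mul_inv_cancel_left g _).symm,
        CfsgLib.PGroups.mul_pow_of_central (hsmall.mem_center v g), hAbQ.pow v hgr, mul_one,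
        Nat.choose_two_right]
      obtain ⟨m, rfl⟩ := hoddp
      rw [Nat.add_sub_cancel, show (2 * m + 1) * (2 * m) = (2 * m + 1) * m * 2 by ring,
        Nat.mul_div_cancel _ (by norm_num : 0 < 2), pow_mul, hsmall.pow_p (hsmall.comm v g), one_pow,
        mul_one]
    rw [hk.map_pow g.2]
    exact congrArg Subtype.val h1
  obtain ⟨i, hi⟩ := mem_zpowers_iff.1 (hzW.symm ▸ hgpZ)
  have hinv : k ((g : Ω) ^ p) = ((g : Ω) ^ p)⁻¹ := by
    rw [← hi, hk.map_zpow (hQP hzQ), hke z hzQ, autFun_of_mem ψ hzQ, hψz]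
    exact inv_zpow z i
  rw [hpe] at hinv
  have hdvd : orderOf ((g : Ω) ^ p) ∣ p :=
    (Subgroup.orderOf_dvd_natCard Z hgpZ).trans (dvd_of_eq hZcard)
  refine hgp1 (orderOf_eq_one_iff.1 (Nat.eq_one_of_dvd_coprimes (a := 2) (b := p)
    (Nat.coprime_primes Nat.prime_two hp.out |>.2 (Ne.symm hp2))
    (orderOf_dvd_of_pow_eq_one (by rw [pow_two]; nth_rewrite 2 [hinv]; exact mul_inv_cancel _)) hdvd))
where
  nontrivial_of_card {Ω : Type u} [Group Ω] {S Z : Subgroup Ω} [Finite S] (_ : IsPGroup p S)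
      (hle : Z ≤ S) (hc : Nat.card Z = p) : Nontrivial S := by
    refine (nontrivial_iff_ne_bot S).2 fun h => ?_
    subst h
    rw [le_bot_iff.1 hle, card_bot] at hc
    exact hp.out.one_lt.ne hc
  map_commutator_self {Ω : Type u} [Group Ω] {P : Subgroup Ω} :
      (commutator P).map P.subtype = ⁅P, P⁆ := by
    rw [_root_.commutator_def, Subgroup.map_commutator, ← MonoidHom.range_eq_map, range_subtype]

end CfsgLib.Fusion.GenExtra
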