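import Mathlib
import Cfsg.Prelude.Def_Transfer
import Cfsg.Agent.Lib.PGroups.Basic
import Cfsg.Agent.Lib.PGroups.Commutator
import Cfsg.Agent.Lib.Geometry.SmallQuot

/-!
# Class two groups with derived subgroup of order `p` and an elementary abelian maximal subgroup
-/

set_option autoImplicit false
set_option linter.unusedSectionVars false

namespace CfsgLib.Fusion.GenExtra

open Cfsg Subgroup
open scoped commutatorElement

variable {p : ℕ} [hp : Fact p.Prime] {P : Type*} [Group P] [Finite P]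

/-- `C` is a central subgroup of order `p` containing all commutators and all `p`-th powers. -/
structure SmallDerived (p : ℕ) (C : Subgroup P) : Prop where
  card : Nat.card C = p
  central : ∀ c ∈ C, ∀ x : P, c * x = x * c
  comm : ∀ a b : P, ⁅a, b⁆ ∈ C
  pow : ∀ x : P, x ^ p ∈ C

variable {C : Subgroup P}

theorem SmallDerived.mem_center (h : SmallDerived p C) (a b : P) : ⁅a, b⁆ ∈ center P :=
  mem_center_iff.2 fun x => (h.central _ (h.comm a b) x).symm

theorem SmallDerived.pow_p (h : SmallDerived p C) {c : P} (hc : c ∈ C) : c ^ p = 1 :=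
  orderOf_dvd_iff_pow_eq_one.1 (h.card ▸ orderOf_dvd_natCard C hc)

theorem SmallDerived.normal_of_le (h : SmallDerived p C) {K : Subgroup P} (hK : C ≤ K) :
    K.Normal := ⟨fun k hk x => by
      rw [show x * k * x⁻¹ = ⁅x, k⁆ * k by rw [commutatorElement_def]; group]
      exact mul_mem (hK (h.comm x k)) hk⟩

theorem SmallDerived.eq_zpowers (h : SmallDerived p C) {z : P} (hz : z ∈ C) (hz1 : z ≠ 1) :
    zpowers z = C := by
  refine eq_of_le_of_card_ge (zpowers_le.2 hz) (le_of_eq ?_)
  rw [h.card, Nat.card_zpowers]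
  exact (orderOf_eq_prime (h.pow_p hz) hz1).symm

theorem SmallDerived.map (h : SmallDerived p C) {Q : Type*} [Group Q] (e : P ≃* Q) :
    SmallDerived p (C.map e.toMonoidHom) where
  card := by rw [card_map_of_injective e.injective]; exact h.card
  central := by
    rintro _ ⟨c, hc, rfl⟩ x
    obtain ⟨y, rfl⟩ := e.surjective x
    show e c * e y = e y * e c
    rw [← map_mul, ← map_mul, h.central c hc]
  comm a b := by
    obtain ⟨a, rfl⟩ := e.surjective a
    obtain ⟨b, rfl⟩ := e.surjective b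
    exact ⟨⁅a, b⁆, h.comm a b, map_commutatorElement e.toMonoidHom a b⟩
  pow x := by
    obtain ⟨x, rfl⟩ := e.surjective x
    exact ⟨x ^ p, h.pow x, map_pow e x p⟩

/-- An abelian subgroup of index `p` of exponent `p`, in a nonabelian group. -/
structure AbMax (p : ℕ) (W : Subgroup P) : Prop where
  index : W.index = p
  comm : ∀ x ∈ W, ∀ y ∈ W, x * y = y * x
  pow : ∀ x ∈ W, x ^ p = 1
  nonab : ∃ x y : P, x * y ≠ y * x

variable {W : Subgroup P}

theorem AbMax.sup_zpowers (hW : AbMax p W) {g : P} (hg : g ∉ W) : W ⊔ zpowers g = ⊤ := by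
  have h1 := relIndex_mul_index (le_sup_left : W ≤ W ⊔ zpowers g)
  rw [hW.index] at h1
  rcases (Nat.dvd_prime hp.out).1 (Dvd.intro_left _ h1) with h2 | h2
  · exact index_eq_one.1 h2
  · exfalso
    rw [h2] at h1
    have h3 : W.relIndex (W ⊔ zpowers g) = 1 := by
      have := hp.out.pos
      exact (mul_eq_right₀ this.ne').1 h1
    exact hg (relIndex_eq_one.1 h3 (mem_sup_right (mem_zpowers g)))

theorem AbMax.mem_center_of (hW : AbMax p W) {g x : P} (hg : g ∉ W) (hx : x ∈ W)
    (hc : g * x = x * g) : x ∈ center P := by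
  rw [← centralizer_univ, mem_centralizer_iff]
  intro y _
  have hy : y ∈ W ⊔ zpowers g := hW.sup_zpowers hg ▸ mem_top y
  have hle : W ⊔ zpowers g ≤ centralizer ({x} : Set P) := by
    refine sup_le (fun w hw => mem_centralizer_iff.2 ?_) (zpowers_le.2 (mem_centralizer_iff.2 ?_))
    · rintro _ rfl; exact hW.comm _ hx w hw
    · rintro _ rfl; exact hc.symm
  exact ((mem_centralizer_iff.1 (hle hy)) x rfl).symm

theorem AbMax.center_le (hW : AbMax p W) : center P ≤ W := by
  intro z hz
  by_contra hzW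
  obtain ⟨x, y, hxy⟩ := hW.nonab
  have hle : (⊤ : Subgroup P) ≤ center P := by
    rw [← hW.sup_zpowers hzW]
    refine sup_le (fun w hw => hW.mem_center_of hzW hw ?_) (zpowers_le.2 hz)
    exact (mem_center_iff.1 hz w).symm
  exact hxy (mem_center_iff.1 (hle (mem_top y)) x)

theorem SmallDerived.le_abMax (h : SmallDerived p C) (hW : AbMax p W) : C ≤ W := fun c hc =>
  hW.center_le (mem_center_iff.2 fun x => (h.central c hc x).symm)

/-- A noncentral element of `W` together with any `g ∉ W`. -/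
theorem exists_noncommuting (hW : AbMax p W) {g : P} (hg : g ∉ W) : ∃ a ∈ W, ⁅g, a⁆ ≠ 1 := by
  by_contra hall
  push Not at hall
  obtain ⟨x, y, hxy⟩ := hW.nonab
  have hle : (⊤ : Subgroup P) ≤ center P := by
    rw [← hW.sup_zpowers hg]
    refine sup_le (fun w hw => hW.mem_center_of hg hw
      (commutatorElement_eq_one_iff_mul_comm.1 (hall w hw))) (zpowers_le.2 ?_)
    rw [← centralizer_univ, mem_centralizer_iff]
    intro y _
    have hy : y ∈ W ⊔ zpowers g := hW.sup_zpowers hg ▸ mem_top y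
    have hle : W ⊔ zpowers g ≤ centralizer ({g} : Set P) := by
      refine sup_le (fun w hw => mem_centralizer_iff.2 ?_) (zpowers_le.2 (mem_centralizer_iff.2 ?_))
      · rintro _ rfl; exact commutatorElement_eq_one_iff_mul_comm.1 (hall w hw)
      · rintro _ rfl; rfl
    exact ((mem_centralizer_iff.1 (hle hy)) g rfl).symm
  exact hxy (mem_center_iff.1 (hle (mem_top y)) x)

/-- Splitting off the elementary abelian central factor. -/
theorem exists_prod (hP : IsPGroup p P) (h : SmallDerived p C) (hW : AbMax p W) {g : P}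
    (hg : g ∉ W) (hgp : g ^ p = 1) :
    ∃ E A : Subgroup P, (∀ x ∈ A, ∀ y, x * y = y * x) ∧ (∀ x ∈ A, x ^ p = 1) ∧
      Nonempty (P ≃* E × A) ∧
      (p = 2 → Nonempty (E ≃* DihedralGroup 4)) ∧
      (p ≠ 2 → IsExtraspecial p E ∧ Nat.card E = p ^ 3 ∧ Monoid.exponent E = p) := by
  obtain ⟨a, haW, hga⟩ := exists_noncommuting hW hg
  set z := ⁅g, a⁆ with hzdef
  have hzC : z ∈ C := h.comm g a
  have hC : zpowers z = C := h.eq_zpowers hzC hga
  have hzord : orderOf z = p := orderOf_eq_prime (h.pow_p hzC) hga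
  have hap : a ^ p = 1 := hW.pow a haW
  have hcl : ∀ i : ℕ, ⁅g ^ i, a⁆ = z ^ i := CfsgLib.PGroups.commutator_pow_left_of_central (h.mem_center g a)
  have hcr : ∀ i : ℕ, ⁅g, a ^ i⁆ = z ^ i := by
    intro i
    induction i with
    | zero => simp
    | succ i ih =>
      rw [pow_succ, show ⁅g, a ^ i * a⁆ = ⁅g, a ^ i⁆ * (a ^ i * ⁅g, a⁆ * (a ^ i)⁻¹) by
        simp only [commutatorElement_def]; group, ih, pow_succ z, ← hzdef,
        ← h.central z hzC (a ^ i), mul_inv_cancel_right]
  set E : Subgroup P := closure {a, g} with hE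
  have haE : a ∈ E := subset_closure (Or.inl rfl)
  have hgE : g ∈ E := subset_closure (Or.inr rfl)
  have hzE : z ∈ E := by rw [hzdef, commutatorElement_def]
                         exact mul_mem (mul_mem (mul_mem hgE haE) (inv_mem hgE)) (inv_mem haE)
  have hform : ∀ x ∈ E, ∃ i j : ℕ, ∃ c ∈ C, x = a ^ i * c * g ^ j := by
    intro x hx
    have hle : E ≤ (zpowers a ⊔ C) ⊔ zpowers g := by
      rw [hE, closure_le]
      rintro _ (rfl | rfl)
      · exact mem_sup_left (mem_sup_left (mem_zpowers _))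
      · exact mem_sup_right (mem_zpowers _)
    haveI := h.normal_of_le (le_sup_right : C ≤ zpowers a ⊔ C)
    haveI := h.normal_of_le (le_refl C)
    obtain ⟨u, hu, v, hv, rfl⟩ := mem_sup_of_normal_left.1 (hle hx)
    obtain ⟨s, hs, c, hc, rfl⟩ := mem_sup_of_normal_right.1 hu
    obtain ⟨i, rfl⟩ := mem_powers_iff_mem_zpowers.2 hs
    obtain ⟨j, rfl⟩ := mem_powers_iff_mem_zpowers.2 hv
    exact ⟨i, j, c, hc, rfl⟩
  have hEcen : ∀ x ∈ E, x * a = a * x → x * g = g * x → x ∈ C := by
    intro x hx hxa hxg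
    obtain ⟨i, j, c, hc, rfl⟩ := hform x hx
    have h1 : g ^ j * a = a * g ^ j := by
      have := mul_left_cancel (a := a ^ i * c) (b := g ^ j * a) (c := a * g ^ j) (by
        rw [← mul_assoc, hxa]
        calc a * (a ^ i * c * g ^ j) = a * a ^ i * c * g ^ j := by group
          _ = a ^ i * (a * c) * g ^ j := by rw [(Commute.self_pow a i).eq]; group
          _ = a ^ i * (c * a) * g ^ j := by rw [h.central c hc a]
          _ = _ := by group)
      exact this
    have hj : p ∣ j := by
      rw [← hzord, orderOf_dvd_iff_pow_eq_one, ← hcl, commutatorElement_eq_one_iff_mul_comm]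
      exact h1
    obtain ⟨j, rfl⟩ := hj
    rw [pow_mul, hgp, one_pow, mul_one] at hxg ⊢
    have h2 : g * a ^ i = a ^ i * g := by
      refine mul_right_cancel (b := c) ?_
      calc g * a ^ i * c = g * (a ^ i * c) := by group
        _ = a ^ i * c * g := hxg.symm
        _ = a ^ i * (g * c) := by rw [mul_assoc, h.central c hc g]
        _ = a ^ i * g * c := by group
    have hi : p ∣ i := by
      rw [← hzord, orderOf_dvd_iff_pow_eq_one, ← hcr, commutatorElement_eq_one_iff_mul_comm]
      exact h2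
    obtain ⟨i, rfl⟩ := hi
    rw [pow_mul, hap, one_pow, one_mul]
    exact hc
  -- a complement of `C` in the centre
  have hCZ : C ≤ center P := fun c hc => mem_center_iff.2 fun x => (h.central c hc x).symm
  obtain ⟨A, ⟨hAZ, hAC⟩, hAmax⟩ := Set.exists_max_image
    {A : Subgroup P | A ≤ center P ∧ A ⊓ C = ⊥} (fun A => Nat.card A) (Set.toFinite _)
    ⟨⊥, bot_le, bot_inf_eq _⟩
  have hAcomm : ∀ x ∈ A, ∀ y, x * y = y * x := fun x hx y => (mem_center_iff.1 (hAZ hx) y).symm
  have hAn : A.Normal := ⟨fun x hx y => by rwa [← hAcomm x hx y, mul_inv_cancel_right]⟩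
  have hZ : center P ≤ A ⊔ C := by
    intro x hx
    by_contra hxn
    have hxA : x ∉ A := fun h => hxn (mem_sup_left h)
    have hlt : A < A ⊔ zpowers x :=
      lt_of_le_of_ne le_sup_left fun e => hxA (e.symm ▸ mem_sup_right (mem_zpowers x))
    refine absurd (hAmax (A ⊔ zpowers x) ⟨sup_le hAZ (zpowers_le.2 hx), ?_⟩)
      (not_le.2 (lt_of_le_of_ne (card_le_of_le hlt.le)
        fun e => hlt.ne (eq_of_le_of_card_ge hlt.le e.ge)))
    rw [eq_bot_iff]
    rintro y ⟨hy, hyC⟩
    obtain ⟨u, hu, v, hv, rfl⟩ := mem_sup_of_normal_left.1 hy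
    obtain ⟨i, rfl⟩ := mem_powers_iff_mem_zpowers.2 hv
    by_cases hi : p ∣ i
    · obtain ⟨i, rfl⟩ := hi
      simp only at hyC ⊢
      rw [pow_mul, hW.pow x (hW.center_le hx), one_pow, mul_one] at hyC ⊢
      exact hAC ▸ (⟨hu, hyC⟩ : u ∈ A ⊓ C)
    · exfalso
      obtain ⟨k, hk⟩ := exists_pow_eq_self_of_coprime (x := x) (n := i) (Nat.Coprime.coprime_dvd_right
        (orderOf_dvd_of_pow_eq_one (hW.pow x (hW.center_le hx)))
        ((Nat.coprime_comm.1 (hp.out.coprime_iff_not_dvd.2 hi))))
      refine hxn (hk ▸ pow_mem ?_ k)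
      rw [show x ^ i = u⁻¹ * (u * x ^ i) by group]
      exact mul_mem (mem_sup_left (inv_mem hu)) (mem_sup_right hyC)
  have hEA : E ⊓ A = ⊥ := by
    rw [eq_bot_iff]
    rintro x ⟨hxE, hxA⟩
    exact hAC ▸ (⟨hxA, hEcen x hxE (hAcomm x hxA a) (hAcomm x hxA g)⟩ : x ∈ A ⊓ C)
  have htop : E ⊔ A = ⊤ := by
    rw [eq_top_iff, ← hW.sup_zpowers hg]
    refine sup_le (fun w hw => ?_) (zpowers_le.2 (mem_sup_left hgE))
    obtain ⟨j, hj⟩ : ⁅g, w⁆ ∈ Submonoid.powers z :=
      mem_powers_iff_mem_zpowers.2 (hC.symm ▸ h.comm g w)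
    have h1 : w * (a ^ j)⁻¹ ∈ center P := by
      refine hW.mem_center_of hg (mul_mem hw (inv_mem (pow_mem haW j))) ?_
      have e1 : g * a ^ j = z ^ j * (a ^ j * g) := by
        rw [← hcr j, commutatorElement_def]; group
      have e2 : g * w = z ^ j * (w * g) := by
        rw [show z ^ j = ⁅g, w⁆ from hj, commutatorElement_def]; group
      have hzj := h.central _ (pow_mem hzC j)
      calc g * (w * (a ^ j)⁻¹) = (g * w) * (a ^ j)⁻¹ := by group
        _ = z ^ j * (w * g) * (a ^ j)⁻¹ := by rw [e2]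
        _ = w * (z ^ j * g * (a ^ j)⁻¹) := by rw [← mul_assoc, hzj w]; group
        _ = w * ((a ^ j)⁻¹ * (g * a ^ j) * (a ^ j)⁻¹) := by
            rw [e1, ← mul_assoc (a ^ j)⁻¹, ← hzj (a ^ j)⁻¹]; group
        _ = _ := by group
    rw [show w = w * (a ^ j)⁻¹ * a ^ j by group]
    exact mul_mem (sup_le le_sup_right (((hC ▸ zpowers_le.2 hzE : C ≤ E)).trans le_sup_left) (hZ h1))
      (pow_mem (mem_sup_left haE) j)
  let θ : E × A →* P :=
    { toFun := fun x => (x.1 : P) * x.2
      map_one' := by simp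
      map_mul' := fun x y => by
        simp only [Prod.fst_mul, Prod.snd_mul, Subgroup.coe_mul]
        calc (x.1 : P) * y.1 * (x.2 * y.2) = x.1 * (y.1 * x.2) * y.2 := by group
          _ = x.1 * (x.2 * y.1) * y.2 := by rw [hAcomm _ x.2.2 (y.1 : P)]
          _ = _ := by group }
  have hθ : Function.Bijective θ := by
    constructor
    · rw [injective_iff_map_eq_one]
      rintro ⟨x, y⟩ hxy
      have hxy' : (x : P) * y = 1 := hxy
      have h1 : (x : P) = 1 := by
        have : (x : P) ∈ E ⊓ A := ⟨x.2, by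
          show (x : P) ∈ A
          rw [eq_inv_of_mul_eq_one_left hxy']; exact inv_mem y.2⟩
        rwa [hEA, mem_bot] at this
      rw [h1, one_mul] at hxy'
      exact Prod.ext (Subtype.ext h1) (Subtype.ext hxy')
    · intro x
      have hx : x ∈ E ⊔ A := htop ▸ mem_top x
      obtain ⟨u, hu, v, hv, rfl⟩ := mem_sup_of_normal_right.1 hx
      exact ⟨(⟨u, hu⟩, ⟨v, hv⟩), rfl⟩
  have hEz : ∀ x : E, x ∈ center E ↔ (x : P) ∈ C := by
    intro x
    rw [mem_center_iff]
    refine ⟨fun hx => hEcen x x.2 (congrArg Subtype.val (hx ⟨a, haE⟩)).symm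
      (congrArg Subtype.val (hx ⟨g, hgE⟩)).symm, fun hx y => Subtype.ext (h.central _ hx y).symm⟩
  refine ⟨E, A, hAcomm, fun x hx => hW.pow x (hW.center_le (hAZ hx)),
    ⟨(MulEquiv.ofBijective θ hθ).symm⟩, fun hp2 => ?_, fun hp2 => ?_⟩
  · subst hp2
    have haa : a * a = 1 := by rw [← pow_two]; exact hap
    have hgg : g * g = 1 := by rw [← pow_two]; exact hgp
    have hgag : g * a * g⁻¹ = z * a := by rw [hzdef, commutatorElement_def]; group
    refine CfsgLib.Geometry.nonempty_dihedral (a := (⟨a, haE⟩ : E)) (g := ⟨g, hgE⟩) ?_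
      (Subtype.ext haa) ?_ ?_ (Or.inl (Subtype.ext hgg)) ?_
    · intro he
      have : a = 1 := congrArg Subtype.val he
      rw [hzdef, this] at hga
      simp at hga
    · intro he
      have : g * a * g⁻¹ = a := congrArg Subtype.val he
      rw [hgag] at this
      exact hga (mul_eq_right.1 this)
    · refine Subtype.ext ?_
      show a * (g * a * g⁻¹) = g * a * g⁻¹ * a
      rw [hgag, ← mul_assoc, ← h.central z hzC a, mul_assoc]
    · apply map_injective E.subtype_injective
      rw [MonoidHom.map_closure, ← MonoidHom.range_eq_map, range_subtype, Set.image_pair]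
      rfl
  · have hodd : Odd p := hp.out.odd_of_ne_two hp2
    have hEp : IsPGroup p E := hP.to_subgroup E
    have hexp : ∀ x : E, x ^ p = 1 := by
      intro x
      obtain ⟨i, j, c, hc, hx⟩ := hform x x.2
      refine Subtype.ext ?_
      rw [SubmonoidClass.coe_pow, hx]
      refine CfsgLib.PGroups.mul_pow_eq_one_of_odd (h.mem_center _ _) hodd
        (hW.pow _ (mul_mem (pow_mem haW i) (h.le_abMax hW hc))) ?_
      rw [← pow_mul, mul_comm, pow_mul, hgp, one_pow]
    have hcomE : commutator E = center E := by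
      refine le_antisymm ?_ fun x hx => ?_
      · rw [_root_.commutator_def, commutator_le]
        intro u _ v _
        exact (hEz _).2 (h.comm u v)
      · obtain ⟨k, hk⟩ : (x : P) ∈ Submonoid.powers z :=
          mem_powers_iff_mem_zpowers.2 (hC.symm ▸ (hEz x).1 hx)
        rw [show x = ⁅(⟨g, hgE⟩ : E), ⟨a, haE⟩⁆ ^ k from Subtype.ext hk.symm]
        exact pow_mem (commutator_mem_commutator (mem_top _) (mem_top _)) k
    have hfr : frattini E = center E := by
      refine le_antisymm ?_ (hcomE ▸ CfsgLib.PGroups.commutator_le_frattini hEp)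
      exact CfsgLib.PGroups.frattini_le_of_elementary_quotient (p := p) hcomE.le
        (fun x => by rw [hexp x]; exact one_mem _)
    have hcardZ : Nat.card (center E) = p := by
      have e : center E = C.subgroupOf E := by ext x; rw [mem_subgroupOf]; exact hEz x
      rw [e, Nat.card_congr (subgroupOfEquivOfLe (hC ▸ zpowers_le.2 hzE)).toEquiv, h.card]
    refine ⟨⟨⟨hEp, hfr, hcomE⟩, hcardZ⟩, ?_, ?_⟩
    · -- the two commutator coordinates
      let δ : P → P →* center P := fun y => MonoidHom.mk' (fun x => ⟨⁅x, y⁆, h.mem_center x y⟩)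
        fun u v => Subtype.ext (by
          show ⁅u * v, y⁆ = ⁅u, y⁆ * ⁅v, y⁆
          rw [show ⁅u * v, y⁆ = u * ⁅v, y⁆ * u⁻¹ * ⁅u, y⁆ by simp only [commutatorElement_def]; group,
            ← h.central _ (h.comm v y) u, mul_inv_cancel_right, h.central _ (h.comm v y)])
      let Φ : E →* C × C :=
        ((((center P).subtype.comp (δ a)).comp E.subtype).codRestrict C fun x => h.comm _ _).prod
          ((((center P).subtype.comp (δ g)).comp E.subtype).codRestrict C fun x => h.comm _ _)
      have hker : Φ.ker = center E := by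
        ext x
        rw [MonoidHom.mem_ker, hEz]
        refine ⟨fun hx => hEcen x x.2 ?_ ?_, fun hx => ?_⟩
        · exact commutatorElement_eq_one_iff_mul_comm.1 (congrArg (fun w : C × C => (w.1 : P)) hx)
        · exact commutatorElement_eq_one_iff_mul_comm.1 (congrArg (fun w : C × C => (w.2 : P)) hx)
        · exact Prod.ext (Subtype.ext (commutatorElement_eq_one_iff_mul_comm.2 (h.central _ hx a)))
            (Subtype.ext (commutatorElement_eq_one_iff_mul_comm.2 (h.central _ hx g)))
      have hsurj : Function.Surjective Φ := by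
        rintro ⟨u, v⟩
        obtain ⟨i, hi⟩ : (u : P) ∈ Submonoid.powers z :=
          mem_powers_iff_mem_zpowers.2 (hC.symm ▸ u.2)
        obtain ⟨j, hj⟩ : ((v : P)⁻¹) ∈ Submonoid.powers z :=
          mem_powers_iff_mem_zpowers.2 (hC.symm ▸ inv_mem v.2)
        refine ⟨⟨g, hgE⟩ ^ i * ⟨a, haE⟩ ^ j, Prod.ext (Subtype.ext ?_) (Subtype.ext ?_)⟩
        · show ⁅g ^ i * a ^ j, a⁆ = (u : P)
          rw [show ⁅g ^ i * a ^ j, a⁆ = ⁅g ^ i, a⁆ by
            simp only [commutatorElement_def]; group, hcl]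
          exact hi
        · show ⁅g ^ i * a ^ j, g⁆ = (v : P)
          rw [show ⁅g ^ i * a ^ j, g⁆ = g ^ i * ⁅g, a ^ j⁆⁻¹ * (g ^ i)⁻¹ by
            simp only [commutatorElement_def]; group, hcr,
            ← h.central _ (inv_mem (pow_mem hzC j)) (g ^ i), mul_inv_cancel_right]
          rw [show z ^ j = (v : P)⁻¹ from hj, inv_inv]
      have h1 := Φ.ker.card_mul_index
      rw [index_ker, MonoidHom.range_eq_top.2 hsurj, card_top, Nat.card_prod, h.card, hker,
        hcardZ] at h1
      rw [← h1]; ring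
    · refine ((Nat.dvd_prime hp.out).1 (Monoid.exponent_dvd_of_forall_pow_eq_one hexp)).resolve_left ?_
      intro h1
      have := Monoid.pow_exponent_eq_one (⟨z, hzE⟩ : E)
      rw [h1, pow_one] at this
      exact hga (congrArg Subtype.val this)

/-- For `p = 2` an involution outside `W` always exists. -/
theorem exists_involution_not_mem [Fact (Nat.Prime 2)] {C W : Subgroup P} (h : SmallDerived 2 C) (hW : AbMax 2 W) :
    ∃ g, g ∉ W ∧ g ^ 2 = 1 := by
  obtain ⟨g, hg⟩ : ∃ g, g ∉ W := by
    by_contra hall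
    push Not at hall
    obtain ⟨x, y, hxy⟩ := hW.nonab
    exact hxy (hW.comm x (hall x) y (hall y))
  by_cases hg2 : g ^ 2 = 1
  · exact ⟨g, hg, hg2⟩
  obtain ⟨a, ha, hga⟩ := exists_noncommuting hW hg
  refine ⟨g * a, fun hc => hg (by simpa using mul_mem hc (inv_mem ha)), ?_⟩
  rw [CfsgLib.PGroups.mul_pow_of_central (h.mem_center a g), hW.pow a ha, mul_one,
    show Nat.choose 2 2 = 1 from rfl, pow_one]
  have h1 : ⁅a, g⁆ = g ^ 2 := by
    have hne : ⁅a, g⁆ ≠ 1 := fun e => hga (by rw [← commutatorElement_inv, e, inv_one])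
    have := h.eq_zpowers (h.comm a g) hne
    have hmem : g ^ 2 ∈ zpowers ⁅a, g⁆ := this ▸ h.pow g
    obtain ⟨i, hi⟩ := mem_powers_iff_mem_zpowers.2 hmem
    simp only at hi
    rw [← Nat.div_add_mod i 2, pow_add, pow_mul, h.pow_p (h.comm a g), one_pow, one_mul] at hi
    rcases Nat.mod_two_eq_zero_or_one i with h0 | h0
    · rw [h0, pow_zero] at hi; exact absurd hi.symm hg2
    · rw [h0, pow_one] at hi; exact hi
  rw [h1, ← pow_two]
  exact h.pow_p (h.pow g)

/-- Transfer to a type in universe `0`. -/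
theorem exists_prod_small (hP : IsPGroup p P) (h : SmallDerived p C) (hW : AbMax p W) {g : P}
    (hg : g ∉ W) (hgp : g ^ p = 1) :
    (p = 2 → ∃ (A : Type) (_ : CommGroup A), (∀ a : A, a ^ 2 = 1) ∧
      Nonempty (P ≃* DihedralGroup 4 × A)) ∧
    (p ≠ 2 → ∃ (E : Type) (_ : Group E) (A : Type) (_ : CommGroup A), IsExtraspecial p E ∧
      Nat.card E = p ^ 3 ∧ Monoid.exponent E = p ∧ (∀ a : A, a ^ p = 1) ∧ Nonempty (P ≃* E × A)) := by
  let e : P ≃* Shrink.{0} P := Shrink.mulEquiv.symm
  have hW' : AbMax p (W.map e.toMonoidHom) :=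
    { index := by rw [index_map_of_bijective e.bijective]; exact hW.index
      comm := by
        rintro _ ⟨x, hx, rfl⟩ _ ⟨y, hy, rfl⟩
        show e x * e y = e y * e x
        rw [← map_mul, ← map_mul, hW.comm x hx y hy]
      pow := by
        rintro _ ⟨x, hx, rfl⟩
        show e x ^ p = 1
        rw [← map_pow, hW.pow x hx, map_one]
      nonab := by
        obtain ⟨x, y, hxy⟩ := hW.nonab
        exact ⟨e x, e y, fun he => hxy (e.injective (by rw [map_mul, map_mul]; exact he))⟩ }
  obtain ⟨E, A, hA, hAp, ⟨θ⟩, h2, hodd⟩ := exists_prod (hP.of_equiv e) (h.map e) hW' (g := e g)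
    (fun hc => hg ((mem_map_iff_mem (f := e.toMonoidHom) e.injective).1 hc))
    (by rw [← map_pow, hgp, map_one])
  letI : CommGroup A := { (inferInstance : Group A) with
    mul_comm := fun x y => Subtype.ext (hA _ x.2 y) }
  refine ⟨fun hp2 => ?_, fun hp2 => ?_⟩
  · obtain ⟨d⟩ := h2 hp2
    subst hp2
    exact ⟨A, inferInstance, fun a => Subtype.ext (hAp _ a.2),
      ⟨(e.trans θ).trans (MulEquiv.prodCongr d (MulEquiv.refl _))⟩⟩
  · obtain ⟨hE, hc, hexp⟩ := hodd hp2
    exact ⟨E, inferInstance, A, inferInstance, hE, hc, hexp, fun a => Subtype.ext (hAp _ a.2),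
      ⟨e.trans θ⟩⟩

end CfsgLib.Fusion.GenExtra
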