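import Mathlib
import Cfsg.Agent.Lib.Fusion.Criteria

/-! An essential subgroup cannot be omitted from a generating family. -/
set_option autoImplicit false

namespace CfsgLib.Fusion

open Cfsg Cfsg.FusionSystem

variable {Ω : Type*} [Group Ω] {S : Subgroup Ω} {F : FusionSystem S} [Finite S] {p : ℕ}
  [hp : Fact p.Prime]

theorem exists_omitting_system (hS : IsPGroup p S) (hF : F.IsSaturated p) {Q : Subgroup Ω}
    (hQ : F.IsEssential p Q) :
    ∃ E : FusionSystem S, (∀ R f, IsMor F R f → ¬ F.IsConj Q R → IsMor E R f) ∧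
      ∃ α ∈ F.autGroup Q, α ∉ E.autGroup Q := by
  have hQS := essential_lt hS hF hQ
  have hQn := hQ.2.1
  let norm : Subgroup Ω → (Ω → Ω) → Prop := fun P θ => IsMor F (normalizerIn S P) θ ∧ img P θ = Q
  have hex : ∀ P, F.IsConj Q P → ∃ θ, norm P θ := by
    intro P hP
    obtain ⟨θ, hθ, hθi, -⟩ := exists_map_fullyNormalized hS hF hQn (isConj_symm hP)
    exact ⟨θ, hθ, hθi⟩
  let M : Subgroup Ω → (Ω → Ω) → Prop := fun P f => IsMor F P f ∧ (F.IsConj Q P →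
    ∀ θ θ', norm P θ → norm (img P f) θ' →
      ∃ α ∈ extGroup F Q, ∀ x ∈ P, autFun α (θ x) = θ' (f x))
  have keyA : ∀ P R f, IsMor F R f → P < R → F.IsConj Q P → M P f := by
    intro P R f hf hlt hP
    refine ⟨hf.restrict hlt.le, fun _ θ θ' ⟨hθ, hθi⟩ ⟨hθ', hθi'⟩ => ?_⟩
    have : Finite R := finite_of_le hf.le
    have hlt' := lt_inf_normalizer (isPGroup_of_le hf.le hS) hlt
    set N := R ⊓ Subgroup.normalizer (P : Set Ω)
    have hNS : N ≤ normalizerIn S P := inf_le_inf_right _ hf.le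
    obtain ⟨θi, hθi₁, hθl, -, hθii⟩ := (hθ.restrict hNS).inverse
    have hfN : ∀ x ∈ N, f x ∈ normalizerIn S (img P f) :=
      mapsTo_normalizerIn (hf.restrict (inf_le_left : N ≤ R)) hlt'.le hNS
    have hmaps : ∀ y ∈ img N θ, θi y ∈ N := fun y hy => hθii ▸ mem_img_of_mem θi hy
    have hcomp : IsMor F (img N θ) (θ' ∘ f ∘ θi) :=
      (hθi₁.comp (hf.restrict (inf_le_left : N ≤ R)) hmaps).comp hθ' fun y hy => hfN _ (hmaps y hy)
    have hQN : Q < img N θ := by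
      refine lt_of_le_of_ne (hθi ▸ img_mono θ hlt'.le) fun e => ?_
      have h1 := (hθ.restrict hNS).card_img
      rw [← e, ← hθi, (hθ.restrict (hlt'.le.trans hNS)).card_img] at h1
      exact (card_lt_of_lt (inf_le_left.trans hf.le) hlt').ne h1
    have hPQ : ∀ x ∈ P, θ x ∈ Q := fun x hx => hθi ▸ mem_img_of_mem θ hx
    have himg : img Q (θ' ∘ f ∘ θi) = Q := by
      refine (hcomp.restrict hQN.le).img_eq_self fun y hy => ?_
      obtain ⟨x, hx, rfl⟩ := (hθ.restrict (hlt'.le.trans hNS)).mem_img.mp (hθi.symm ▸ hy)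
      rw [Function.comp_apply, Function.comp_apply, hθl x (hlt'.le hx), ← hθi']
      exact mem_img_of_mem θ' (mem_img_of_mem f hx)
    obtain ⟨α, -, hα⟩ := exists_aut (hcomp.restrict hQN.le) himg
    refine ⟨α, Subgroup.subset_closure ⟨_, _, hQN, hcomp, fun x hx => (hα x hx).symm⟩,
      fun x hx => ?_⟩
    rw [hα _ (hPQ x hx), Function.comp_apply, Function.comp_apply, hθl x (hlt'.le hx)]
  have hconjS : ∀ P, F.IsConj Q P → P < S := by
    intro P hP
    refine lt_of_le_of_ne (isConj_le hP).2 fun e => ?_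
    have h1 := isConj_card hP
    rw [e] at h1
    exact (card_lt_of_lt le_rfl hQS).ne h1.symm
  refine ⟨ofPred S M (fun P f h => ⟨h.1.le, fun x hx => h.1.mem hx⟩)
    (fun P f h x hx y hy e => h.1.inj hx hy e) ?_ ?_ ?_ ?_, fun R f hf hR => ?_, ?_⟩
  · rintro P f f' ⟨hf, hM⟩ e
    refine ⟨hf.congr e, fun hP θ θ' hθ hθ' => ?_⟩
    rw [← img_congr e] at hθ'
    obtain ⟨α, hα, he⟩ := hM hP θ θ' hθ hθ'
    exact ⟨α, hα, fun x hx => e x hx ▸ he x hx⟩
  · intro P a hP ha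
    refine ⟨isMor_cj F hP ha, fun hQP => ?_⟩
    exact (keyA P S _ (isMor_cj F le_rfl ha) (hconjS P hQP) hQP).2 hQP
  · rintro P R f g ⟨hf, hMf⟩ ⟨hg, hMg⟩ hfR
    refine ⟨hf.comp hg hfR, fun hP θ θ'' hθ hθ'' => ?_⟩
    have hR₁ : F.IsConj Q (img P f) := isConj_trans hP (isConj_img hf)
    obtain ⟨θ', hθ'⟩ := hex _ hR₁
    obtain ⟨α, hα, hαe⟩ := hMf hP θ θ' hθ hθ'
    have hsub : img P f ≤ R := img_le hfR
    have hg1 : M (img P f) g := by
      rcases eq_or_lt_of_le hsub with e | hlt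
      · rw [e]; exact ⟨hg, hMg⟩
      · exact keyA _ R g hg hlt hR₁
    rw [← hf.img_comp g] at hθ''
    obtain ⟨β, hβ, hβe⟩ := hg1.2 hR₁ θ' θ'' hθ' hθ''
    refine ⟨β * α, Subgroup.mul_mem _ hβ hα, fun x hx => ?_⟩
    have hθx : θ x ∈ Q := hθ.2 ▸ mem_img_of_mem θ hx
    rw [autFun_mul _ _ hθx, hαe x hx, hβe _ (mem_img_of_mem f hx)]
    rfl
  · rintro P f ⟨hf, hM⟩ -
    obtain ⟨g, hg, hl, -, hgi⟩ := hf.inverse
    refine ⟨g, ⟨hg, fun hP θ' θ hθ' hθ => ?_⟩, hl⟩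
    rw [hgi] at hθ
    obtain ⟨α, hα, hαe⟩ := hM (isConj_trans hP (isConj_symm (isConj_img hf))) θ θ' hθ hθ'
    refine ⟨α⁻¹, Subgroup.inv_mem _ hα, fun y hy => ?_⟩
    obtain ⟨x, hx, rfl⟩ := hf.mem_img.mp hy
    rw [hl x hx, ← hαe x hx, autFun_inv_left α (hθ.2 ▸ mem_img_of_mem θ hx)]
  · exact (isMor_ofPred (fun h x hx y hy => h.1.map_mul hx hy)).mpr ⟨hf, fun h => absurd h hR⟩
  · by_contra hcon
    push Not at hcon
    rcases extGroup_dichotomy hS hF hQS hQn with ⟨h, -⟩ | ⟨-, hn, -, hne, -⟩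
    · exact h hQ
    refine hne (eq_top_iff.mpr ?_)
    rintro x -
    obtain ⟨α, rfl⟩ := QuotientGroup.mk'_surjective _ x
    refine ⟨α, ?_, rfl⟩
    have hm : M Q (autFun (α : MulAut Q)) :=
      (isMor_ofPred (fun h x hx y hy => h.1.map_mul hx hy)).mp (isMor_autFun hQS.le (hcon α α.2))
    have hid : norm Q id := ⟨isMor_id F normalizerIn_le, img_id Q⟩
    have hid' : norm (img Q (autFun (α : MulAut Q))) id := by rw [img_autFun]; exact hid
    obtain ⟨β, hβ, hβe⟩ := hm.2 (isConj_refl F hQS.le) id id hid hid'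
    show (α : MulAut Q) ∈ extGroup F Q
    exact autFun_inj (α := β) (β := (α : MulAut Q)) hβe ▸ hβ

end CfsgLib.Fusion
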