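import Cfsg.Agent.Lib.Fusion.GoodCenter
import Cfsg.Agent.Lib.Fusion.ThinThompson
import Cfsg.Agent.Lib.Fusion.FunctorMap
import Cfsg.Agent.Lib.Fusion.CenterNormalizer
import Cfsg.Agent.Lib.Fusion.AgemoFactor

/-! Generation by the centralizer of the `p`-th powers of the center and the normalizer of the
Thompson subgroup. -/
set_option autoImplicit false

universe u

namespace CfsgLib.Fusion

open Cfsg Cfsg.FusionSystem

variable {p : ℕ} [hp : Fact p.Prime] {Ω : Type u} [Group Ω] {S : Subgroup Ω} {F : FusionSystem S}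

/-- The `p`-th powers of the center. -/
def agemoCtr (p : ℕ) (P : Subgroup Ω) : Subgroup Ω := powerClosure p 1 (ctr P)

omit hp in
theorem agemoCtr_le {P K : Subgroup Ω} : agemoCtr p P ≤ K ↔ ∀ z ∈ ctr P, z ^ p ∈ K := by
  rw [agemoCtr, powerClosure, Subgroup.closure_le]
  constructor
  · exact fun h z hz => h ⟨z, hz, by rw [pow_one]⟩
  · rintro h y ⟨z, hz, rfl⟩
    rw [pow_one]; exact h z hz

omit hp in
theorem agemoCtr_le_ctr (P : Subgroup Ω) : agemoCtr p P ≤ ctr P :=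
  agemoCtr_le.mpr fun _ hz => Subgroup.pow_mem _ hz p

omit hp in
theorem agemoCtr_le_self (P : Subgroup Ω) : agemoCtr p P ≤ P :=
  (agemoCtr_le_ctr P).trans inf_le_left

omit hp in
theorem normalizerIn_of_le_ctr {V : Subgroup Ω} (hV : V ≤ ctr S) : normalizerIn S V = S := by
  refine le_antisymm normalizerIn_le fun s hs => mem_normalizerIn.mpr ⟨hs, ?_⟩
  have h : ∀ t ∈ S, ∀ x ∈ V, t * x * t⁻¹ = x := fun t ht x hx => by
    rw [(Subgroup.mem_inf.mp (hV hx)).2 t ht, mul_inv_cancel_right]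
  refine Subgroup.mem_normalizer_iff.mpr fun x => ⟨fun hx => by rwa [h s hs x hx], fun hx => ?_⟩
  have h2 := h s⁻¹ (S.inv_mem hs) _ hx
  rw [inv_inv, show s⁻¹ * (s * x * s⁻¹) * s = x by group] at h2
  rwa [← h2] at hx

/-- The maps of `F` fixing `V` elementwise lie in `E`. -/
def CGood (F E : FusionSystem S) (V : Subgroup Ω) : Prop :=
  ∀ P f, IsMor F P f → (∃ g, IsMor F (P ⊔ V) g ∧ (∀ x ∈ P, g x = f x) ∧ ∀ x ∈ V, g x = x) →
    IsMor E P f

/-- `E` contains the maps fixing `℧¹(Z(S))` and those normalizing `J(S)`. -/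
def AgemoHyp (p : ℕ) [Fact p.Prime] {Ω : Type u} [Group Ω] {S : Subgroup Ω}
    (F E : FusionSystem S) : Prop :=
  CGood F E (agemoCtr p S) ∧ NGood F E ((jFunctor (p := p)).at S)

omit hp in
theorem exists_inter (F E : FusionSystem S) :
    ∃ D : FusionSystem S, ∀ P f, IsMor D P f ↔ IsMor F P f ∧ IsMor E P f := by
  let M : Subgroup Ω → (Ω → Ω) → Prop := fun P f => IsMor F P f ∧ IsMor E P f
  refine ⟨ofPred S M (fun P f h => ⟨h.1.le, fun x hx => h.1.mem hx⟩)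
    (fun P f h x hx y hy e => h.1.inj hx hy e) ?_ ?_ ?_ ?_, fun P f => ?_⟩
  · exact fun P f f' h e => ⟨h.1.congr e, h.2.congr e⟩
  · exact fun P a hP ha => ⟨isMor_cj F hP ha, isMor_cj E hP ha⟩
  · exact fun P R f k hf hk hfR => ⟨hf.1.comp hk.1 hfR, hf.2.comp hk.2 hfR⟩
  · intro P f h hS
    obtain ⟨g, hg, hl, -, hgi⟩ := h.1.inverse
    obtain ⟨g', hg', hl', -, -⟩ := h.2.inverse
    refine ⟨g, ⟨hg, hg'.congr fun y hy => ?_⟩, hl⟩
    obtain ⟨x, hx, rfl⟩ := h.1.mem_img.mp hy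
    rw [hl x hx, hl' x hx]
  · rw [isMor_ofPred fun h x hx y hy => h.1.map_mul hx hy]

/-- The quotient step. -/
theorem agemoHyp_quot [Finite S] {E : FusionSystem S} {Q : Subgroup Ω} {Ω' : Type u} [Group Ω']
    {S' : Subgroup Ω'} {θ : S →* Ω'} {Fb : FusionSystem S'} (hS : IsPGroup p S)
    (hF : F.IsSaturated p) (hH : AgemoHyp p F E) (hE : F.IsFactorSystem Q θ Fb) (hQ : F.IsNormal Q)
    (hinn : ∀ f, IsMor F Q f → ∃ s ∈ S, ∀ x ∈ Q, f x = cj s x) (hS' : S' ≠ ⊥)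
    (hNT : ∀ V, V ≠ ⊥ → V ≤ S' → normalizerIn S' V = S' → ∀ P f, IsMor Fb P f →
      (∃ g, IsMor Fb (P ⊔ V) g ∧ (∀ x ∈ P, g x = f x) ∧ img V g = V) →
      ∃ G, IsMor F (preimageAlong θ P) G ∧ IsMor E (preimageAlong θ P) G ∧
        ∀ (x : S) (hgx : G x ∈ S), θ x ∈ P → f (θ x) = θ ⟨G x, hgx⟩)
    (hIH : ∀ Eb : FusionSystem S', AgemoHyp p Fb Eb → AllGood Fb Eb) : AllGood F E := by
  obtain ⟨hC, -⟩ := hH
  have hr : θ.range = S' := (id hE).2.2.1
  have hker := (id hE).2.1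
  have : Finite S' := hr ▸ Finite.of_surjective _ θ.rangeRestrict_surjective
  have hp' : IsPGroup p S' := hr ▸ hS.of_surjective _ θ.rangeRestrict_surjective
  have hQsc := isNormal_stronglyClosed hQ
  refine fun P f hf => le_iff_isMor.mp (alperin hS hF fun R hR α hα => ?_) P f hf
  have hRS : R ≤ S := hR.elim (fun h => h.le) essential_le
  have hQR : Q ≤ R := by
    rcases hR with rfl | hR
    · exact hQ.1
    · exact le_of_normal_of_radical hS hQ hR.1 (essential_radical hS hR)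
  have hZR : ctr S ≤ R := fun z hz => by
    rcases hR with rfl | hR
    · exact (Subgroup.mem_inf.mp hz).1
    · refine hR.1.2 R (isConj_refl F hRS) (mem_centralizerIn.mpr
        ⟨(Subgroup.mem_inf.mp hz).1, fun y hy => ?_⟩)
      exact cj_fixed_iff.mpr ((Subgroup.mem_inf.mp hz).2 y (hRS hy)).symm
  have hRn : F.IsFullyNormalized R := by
    rcases hR with rfl | hR
    · exact isFullyNormalized_self F
    · exact hR.2.1
  suffices F.autGroup R ≤ E.autGroup R from this hα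
  refine autGroup_le_of_coprime hS hF hRn (autInducedBy_le E hRS) fun β hβ hcop => ?_
  by_cases hVQ : agemoCtr p S ≤ Q
  · refine (autGroup_eq_set hRS β).mpr (hC R _ (isMor_autFun hRS hβ) ⟨autFun β, ?_, fun _ _ => rfl,
      fun x hx => coprime_fixes_normal hS hQ hinn hRS hQR hβ hcop x (hVQ hx)⟩)
    rw [sup_eq_left.mpr (((agemoCtr_le_ctr S)).trans hZR)]
    exact isMor_autFun hRS hβ
  -- the quotient is generated by its two subsystems
  obtain ⟨D, hD⟩ := exists_inter F E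
  have hQscD : D.StronglyClosed Q := stronglyClosed_iff.mpr ⟨hQ.1, fun P g hg x hx hxQ =>
    (stronglyClosed_iff.mp hQsc).2 P g ((hD P g).mp hg).1 x hx hxQ⟩
  obtain ⟨Eb, hEb⟩ := exists_factorSystem hQscD hker hr
  have hlift : ∀ V, V ≠ ⊥ → V ≤ S' → normalizerIn S' V = S' → ∀ P f, IsMor Fb P f →
      (∃ g, IsMor Fb (P ⊔ V) g ∧ (∀ x ∈ P, g x = f x) ∧ img V g = V) → IsMor Eb P f := by
    intro V hV1 hVS hVn P f hf hg
    obtain ⟨G, hG, hGE, hGe⟩ := hNT V hV1 hVS hVn P f hf hg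
    obtain ⟨f', hf', hfe⟩ := factor_push hEb hQscD hf.le ((hD _ _).mpr ⟨hG, hGE⟩)
    refine hf'.congr fun y hy => ?_
    obtain ⟨x, rfl⟩ := hr.ge (hf.le hy)
    have hxX : (x : Ω) ∈ preimageAlong θ P := mem_preimageAlong.mpr ⟨x.2, hy⟩
    rw [hfe x (hG.mem hxX) hy, hGe x (hG.mem hxX) hy]
  have hV1 : agemoCtr p S' ≠ ⊥ := fun h => hVQ (agemoCtr_le.mpr fun z hz => by
    obtain ⟨hzS, hzc⟩ := Subgroup.mem_inf.mp hz
    have h1 : θ ⟨z, hzS⟩ ∈ ctr S' := ⟨hr.le ⟨_, rfl⟩, fun y hy => by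
      obtain ⟨x, rfl⟩ := hr.ge hy
      rw [← map_mul, ← map_mul]
      exact congrArg θ (Subtype.ext (hzc x x.2))⟩
    have h2 := agemoCtr_le.mp (le_of_eq h) _ h1
    rw [Subgroup.mem_bot, ← map_pow] at h2
    exact (hker (⟨z, hzS⟩ ^ p)).mp h2)
  have hVn : normalizerIn S' (agemoCtr p S') = S' :=
    normalizerIn_of_le_ctr (agemoCtr_le_ctr S')
  have hall : AllGood Fb Eb := by
    refine hIH Eb ⟨fun P f hf ⟨g, hg, hgf, hgV⟩ => ?_, fun P f hf _ hg => ?_⟩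
    · refine hlift _ hV1 (agemoCtr_le_self S') hVn P f hf ⟨g, hg, hgf, ?_⟩
      exact (hg.restrict le_sup_right).img_eq_self fun x hx => (hgV x hx).symm ▸ hx
    · exact hlift _ ((jFunctor (p := p)).at_ne_bot hp' hS') ((jFunctor (p := p)).at_le S')
        (normalizerIn_at (jFunctor (p := p)) Fb hp') P f hf hg
  -- the automorphisms trivial on `R/Q`
  let Δ : Subgroup (MulAut R) :=
    { carrier := {δ | δ ∈ F.autGroup R ∧ ∀ x ∈ R, x⁻¹ * autFun δ x ∈ Q}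
      one_mem' := ⟨one_mem _, fun x hx => by rw [autFun_one hx, inv_mul_cancel]; exact Q.one_mem⟩
      mul_mem' := fun {a b} ha hb => ⟨mul_mem ha.1 hb.1, fun x hx => by
        have h1 := Q.mul_mem (hb.2 x hx) (ha.2 _ (autFun_mem b hx))
        rwa [mul_assoc, mul_inv_cancel_left, ← autFun_mul _ _ hx] at h1⟩
      inv_mem' := fun {a} ha => ⟨inv_mem ha.1, fun x hx => by
        have h1 := Q.inv_mem (ha.2 _ (autFun_mem a⁻¹ hx))
        rwa [autFun_inv_right a hx, mul_inv_rev, inv_inv] at h1⟩ }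
  have hΔn : ∀ a ∈ F.autGroup R, ∀ δ ∈ Δ, a * δ * a⁻¹ ∈ Δ := fun a ha δ hδ =>
    ⟨mul_mem (mul_mem ha hδ.1) (inv_mem ha), fun x hx => by
      have hy := autFun_mem a⁻¹ hx
      have h1 := hδ.2 _ hy
      rw [autFun_mul _ _ hx, autFun_mul _ _ hy]
      have h2 : autFun a ((autFun a⁻¹ x)⁻¹ * autFun δ (autFun a⁻¹ x)) ∈ Q :=
        (stronglyClosed_iff.mp hQsc).2 R _ (isMor_autFun hRS ha) _ (hQR h1) h1
      rw [autFun_map_mul a (R.inv_mem hy) (autFun_mem δ hy)] at h2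
      rwa [(isMor_autFun hRS ha).map_inv hy, autFun_inv_right a hx] at h2⟩
  have := finite_mulAut hRS
  have hΔp : IsPGroup p Δ := by
    intro δ
    obtain ⟨k, m, hm, hord⟩ :=
      Nat.exists_eq_pow_mul_and_not_dvd (orderOf_pos δ).ne' p hp.out.ne_one
    refine ⟨k, Subtype.ext (MulEquiv.ext fun x => Subtype.ext ?_)⟩
    have hd := (δ ^ p ^ k).2
    have hcd : (orderOf ((δ ^ p ^ k : Δ) : MulAut R)).Coprime p := by
      rw [Subgroup.orderOf_coe, orderOf_pow_of_dvd (pow_ne_zero _ hp.out.ne_zero) ⟨m, hord⟩, hord,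
        Nat.mul_div_cancel_left _ (pow_pos hp.out.pos _)]
      exact (hp.out.coprime_iff_not_dvd.mpr hm).symm
    rw [← autFun_coe, coprime_fixes_coset hS hQ.1 hQR hcd
      (coprime_fixes_normal hS hQ hinn hRS hQR hd.1 hcd) x.2 (hd.2 x x.2)]
    rfl
  obtain ⟨⟨-, T, hT⟩, -⟩ := isFullyAutomized_of_normalized hS hF hRn
  have hΔE : Δ ≤ E.autGroup R := by
    intro δ hδ
    obtain ⟨a, ha, rfl⟩ := le_pCoreAut (F := F) (P := R) (fun x (h : x ∈ Δ) => (show x ∈ F.autGroup R ∧ _ from h).1) hΔp hΔn hδ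
    exact autInducedBy_le E hRS
      (show (a : MulAut R) ∈ autInducedBy S R from hT.le (CfsgLib.Base.pCore_le_sylow T ha))
  -- lift from the quotient
  have hpre : preimageAlong θ (imageAlong θ R) = R := by
    rw [preimage_image hker hQ.1 hRS, sup_eq_left.mpr hQR]
  have hIS' : imageAlong θ R ≤ S' := (imageAlong_le_range R).trans hr.le
  obtain ⟨gb, hgb, hgbe⟩ := factor_push hE hQsc hIS'
    (show IsMor F (preimageAlong θ (imageAlong θ R)) (autFun β) by rw [hpre]; exact isMor_autFun hRS hβ)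
  obtain ⟨G, hG, hGe⟩ := factor_lift hEb (hall _ _ hgb)
  rw [hpre] at hG
  have hGR : ∀ x ∈ R, (autFun β x)⁻¹ * G x ∈ Q := fun x hx => by
    have hβS := hRS (autFun_mem β hx)
    have hGS := hG.mem hx
    have hI : θ ⟨x, hRS hx⟩ ∈ imageAlong θ R := ⟨⟨x, hRS hx⟩, hx, rfl⟩
    have h1 : θ ⟨autFun β x, hβS⟩ = θ ⟨G x, hGS⟩ :=
      (hgbe ⟨x, hRS hx⟩ hβS hI).symm.trans (hGe ⟨x, hRS hx⟩ hGS hI)
    exact (hker ((⟨autFun β x, hβS⟩ : S)⁻¹ * ⟨G x, hGS⟩)).mp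
      (by rw [map_mul, map_inv, h1, inv_mul_cancel])
  obtain ⟨hGF, hGE⟩ := (hD _ _).mp hG
  have hGmem : ∀ x ∈ R, G x ∈ R := fun x hx => by
    have := R.mul_mem (autFun_mem β hx) (hQR (hGR x hx))
    rwa [mul_inv_cancel_left] at this
  obtain ⟨γ, hγ, hγe⟩ := exists_aut hGF (hGF.img_eq_self hGmem)
  have hγE : γ ∈ E.autGroup R := (autGroup_eq_set hRS γ).mpr (hGE.congr fun x hx => (hγe x hx).symm)
  have hδ : γ⁻¹ * β ∈ Δ := ⟨mul_mem (inv_mem hγ) hβ, fun x hx => by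
    have hy := autFun_mem β hx
    rw [autFun_mul _ _ hx]
    have h1 := hGR x hx
    rw [← hγe x hx] at h1
    have hx' := autFun_mem γ hx
    have h2 : autFun γ⁻¹ ((autFun β x)⁻¹ * autFun γ x) ∈ Q :=
      (stronglyClosed_iff.mp hQsc).2 R _ (isMor_autFun hRS (inv_mem hγ)) _ (hQR h1) h1
    rw [autFun_map_mul γ⁻¹ (R.inv_mem hy) hx', (isMor_autFun hRS (inv_mem hγ)).map_inv hy,
      autFun_inv_left γ hx] at h2
    simpa [mul_inv_rev] using Q.inv_mem h2⟩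
  have h1 := mul_mem hγE (hΔE hδ)
  rwa [mul_inv_cancel_left] at h1

variable {L : Type u} [Group L] {ι : S →* L}

/-- The model step. -/
theorem agemoHyp_model [Finite S] {E : FusionSystem S} (hS : IsPGroup p S) (hH : AgemoHyp p F E)
    (hL : F.IsModel p L ι) : AllGood F E := by
  obtain ⟨hC, hN⟩ := hH
  obtain ⟨hfin, hr, ⟨T, hT⟩, hself⟩ := id hL
  set J := (jFunctor (p := p)).at S with hJ
  have hJn : normalizerIn S J = S := normalizerIn_at (jFunctor (p := p)) F hS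
  have hJS : J ≤ S := (jFunctor (p := p)).at_le S
  intro P f hf
  obtain ⟨g, hg⟩ := exists_induces hr hf
  obtain ⟨n, c, rfl, hn, hcP, hcz⟩ := CfsgLib.AgemoFactor.factorization T hself
    (P := (P.subgroupOf S).map ι) (hT.symm ▸ Subgroup.map_le_range ι _) g
    (fun x hx => by
      obtain ⟨a, ha, rfl⟩ := hx
      exact hT.ge ⟨⟨_, hf.mem ha⟩, hg a _ ha rfl⟩)
  rw [← CfsgLib.LocalEven.thompsonSubgroupAOf_eq_jAb, ← jFunctor_at (p := p), hT,
    ← (jFunctor (p := p)).map_at_eq hS hr.1] at hn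
  -- the centralizing factor
  have hcV : agemoCtr p S ≤
      ((Subgroup.centralizer ({c} : Set L)).comap ι).map S.subtype := agemoCtr_le.mpr fun z hz => by
    obtain ⟨hzS, hzc⟩ := Subgroup.mem_inf.mp hz
    refine ⟨⟨z, hzS⟩ ^ p, ?_, rfl⟩
    show ι (⟨z, hzS⟩ ^ p) ∈ Subgroup.centralizer ({c} : Set L)
    rw [map_pow]
    refine Subgroup.mem_centralizer_singleton_iff.2 (hcz _ ⟨hT.ge ⟨_, rfl⟩, fun y hy => ?_⟩).symm
    obtain ⟨x, rfl⟩ := hT.le hy
    rw [← map_mul, ← map_mul]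
    exact congrArg ι (Subtype.ext (hzc x x.2))
  have hcfix : ∀ a : S, (a : Ω) ∈ agemoCtr p S → c * ι a * c⁻¹ = ι a := fun a ha => by
    obtain ⟨b, hb, e⟩ := hcV ha
    rw [← Subtype.ext e, mul_inv_eq_iff_eq_mul]
    exact (Subgroup.mem_centralizer_singleton_iff.1 hb).symm
  have hVS : agemoCtr p S ≤ S := agemoCtr_le_self S
  have hgood₁ : ∀ a : S, (a : Ω) ∈ P ⊔ agemoCtr p S → c * ι a * c⁻¹ ∈ ι.range := by
    intro a ha
    have hsup : (P.subgroupOf S) ⊔ ((agemoCtr p S).subgroupOf S) ≤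
        ι.range.comap ((MulAut.conj c).toMonoidHom.comp ι) := by
      refine sup_le (fun b hb => hT.le (hcP _ ⟨b, hb, rfl⟩)) fun b hb => ⟨b, ?_⟩
      exact (hcfix b hb).symm
    rw [← Subgroup.subgroupOf_sup hf.le hVS] at hsup
    exact hsup (Subgroup.mem_subgroupOf.mpr ha)
  obtain ⟨hk, hkind⟩ := isMor_pullConj hr (sup_le hf.le hVS) hgood₁
  have hkV : ∀ x ∈ agemoCtr p S, pullConj ι c x = x := fun x hx => by
    have h1 := hkind ⟨x, hVS hx⟩ ⟨_, hk.mem (Subgroup.mem_sup_right hx)⟩ (Subgroup.mem_sup_right hx) rfl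
    rw [hcfix _ hx] at h1
    exact congrArg Subtype.val (hr.1 h1)
  have h1E : IsMor E P (pullConj ι c) :=
    hC P _ (hk.restrict le_sup_left) ⟨_, hk, fun _ _ => rfl, hkV⟩
  -- the normalizing factor
  set P₁ := img P (pullConj ι c) with hP₁
  have hP₁S : P₁ ≤ S := (hk.restrict le_sup_left).img_le
  have hgood₂ : ∀ a : S, (a : Ω) ∈ P₁ ⊔ J → n * ι a * n⁻¹ ∈ ι.range := by
    intro a ha
    have hsup : (P₁.subgroupOf S) ⊔ (J.subgroupOf S) ≤
        ι.range.comap ((MulAut.conj n).toMonoidHom.comp ι) := by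
      refine sup_le (fun b hb => ?_) fun b hb => ?_
      · obtain ⟨x, hx, hxb⟩ := (hk.restrict le_sup_left).mem_img.mp hb
        have h1 := hkind ⟨x, hf.le hx⟩ b (Subgroup.mem_sup_left hx) hxb.symm
        refine ⟨⟨f x, hf.mem hx⟩, ?_⟩
        show ι ⟨f x, hf.mem hx⟩ = n * ι b * n⁻¹
        rw [h1, hg ⟨x, hf.le hx⟩ _ hx rfl]
        group
      · obtain ⟨d, -, hd⟩ := ((Subgroup.mem_normalizer_iff.mp hn) (ι b)).mp ⟨b, hb, rfl⟩
        exact ⟨d, hd⟩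
    rw [← Subgroup.subgroupOf_sup hP₁S hJS] at hsup
    exact hsup (Subgroup.mem_subgroupOf.mpr ha)
  obtain ⟨hm, hmind⟩ := isMor_pullConj hr (sup_le hP₁S hJS) hgood₂
  have hmJ : img J (pullConj ι n) = J := (hm.restrict le_sup_right).img_eq_self fun y hy => by
    obtain ⟨d, hd, hde⟩ := ((Subgroup.mem_normalizer_iff.mp hn) (ι ⟨y, hJS hy⟩)).mp
      ⟨⟨y, hJS hy⟩, hy, rfl⟩
    have h2 : (d : Ω) = pullConj ι n y := congrArg Subtype.val
      (hr.1 (hde.trans (hmind ⟨y, hJS hy⟩ ⟨_, hm.mem (Subgroup.mem_sup_right hy)⟩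
        (Subgroup.mem_sup_right hy) rfl).symm))
    rw [← h2]
    exact hd
  have h2E : IsMor E P₁ (pullConj ι n) :=
    hN P₁ _ (hm.restrict le_sup_left) (hJn.symm ▸ hP₁S) ⟨_, hm, fun _ _ => rfl, hmJ⟩
  refine (h1E.comp h2E fun x hx => mem_img_of_mem _ hx).congr fun x hx => ?_
  have hcx := hk.mem (Subgroup.mem_sup_left hx)
  have hcm : pullConj ι c x ∈ P₁ ⊔ J := Subgroup.mem_sup_left (mem_img_of_mem _ hx)
  have h3 := hmind ⟨_, hcx⟩ ⟨_, hm.mem hcm⟩ hcm rfl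
  rw [hkind ⟨x, hf.le hx⟩ ⟨_, hcx⟩ (Subgroup.mem_sup_left hx) rfl] at h3
  refine congrArg Subtype.val (hr.1 (h3.trans ?_) :
    (⟨pullConj ι n (pullConj ι c x), hm.mem hcm⟩ : S) = ⟨f x, hf.mem hx⟩)
  rw [hg ⟨x, hf.le hx⟩ ⟨f x, hf.mem hx⟩ hx rfl]
  group

/-- The two subsystems generate every saturated system. -/
theorem agemo_generates [Finite S] (hS : IsPGroup p S) (hF : F.IsSaturated p) {E : FusionSystem S}
    (hH : AgemoHyp p F E) : AllGood F E := by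
  refine good_of_models (p := p) (Multiplicative ℤ) (fun _ _ _ F' E' => AgemoHyp p F' E') ?_ ?_ ?_ ?_
    _ _ Ω S F E rfl rfl hS hF isSectionFree_int hH
  · intro Ω₁ _ S₁ F₁ E₁ D hsub ⟨h1, h2⟩
    refine ⟨fun P f hf ⟨g, hg, hgf, hgV⟩ => h1 P f (hsub _ _ hf) ⟨g, hsub _ _ hg, hgf, hgV⟩,
      fun P f hf hP ⟨g, hg, hgf, hgV⟩ => h2 P f (hsub _ _ hf) hP ⟨g, hsub _ _ hg, hgf, hgV⟩⟩
  · intro Ω₁ _ S₁ T _ F₁ E₁ D E' hS₁ _ ⟨h1, _⟩ hTS hT hcT hE' hsub hV
    have : Finite T := finite_of_le hTS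
    refine ⟨fun P f hf ⟨g, hg, hgf, hgV⟩ => ?_,
      hV _ ((jFunctor (p := p)).at_ne_bot (isPGroup_of_le hTS hS₁) hT) ((jFunctor (p := p)).at_le T)
        fun f hf hfT => by rw [(jFunctor (p := p)).img_at hS₁ hf, hfT]⟩
    have hle : agemoCtr p S₁ ≤ agemoCtr p T := agemoCtr_le.mpr fun z hz =>
      agemoCtr_le.mp le_rfl z ⟨hcT hz, fun y hy => (Subgroup.mem_inf.mp hz).2 y (hTS hy)⟩
    exact (hE' P f).mpr ⟨h1 P f (hsub _ _ hf)
      ⟨g, (hsub _ _ hg).restrict (sup_le_sup_left hle P), hgf, fun x hx => hgV x (hle hx)⟩,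
      hf.le, fun x hx => hf.mem hx⟩
  · intro Ω₁ _ S₁ _ F₁ E₁ Q Ω₂ _ S₂ θ Fb hS₁ hF₁ hH₁ hE₁ hQ _ hinn hS₂ hNT hIH
    exact agemoHyp_quot hS₁ hF₁ hH₁ hE₁ hQ hinn hS₂ hNT hIH
  · intro Ω₁ _ S₁ _ F₁ E₁ hS₁ _ hH₁ L₁ _ ι₁ hL₁ _
    exact agemoHyp_model hS₁ hH₁ hL₁

end CfsgLib.Fusion
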