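import Mathlib
import Cfsg.Agent.Lib.Fusion.Saturation
import Cfsg.Agent.Lib.Fusion.Group

/-! Transport of fusion systems along injective homomorphisms. -/
set_option autoImplicit false

namespace CfsgLib.Fusion

open Cfsg Cfsg.FusionSystem

variable {Ω Ω' : Type*} [Group Ω] [Group Ω'] {T : Subgroup Ω} {T' : Subgroup Ω'}

/-- `D` is the system `E` read through the injective homomorphism `j`. -/
structure IsTransport (j : Ω' →* Ω) (E : FusionSystem T') (D : FusionSystem T) : Prop where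
  inj : Function.Injective j
  map_top : T'.map j = T
  mor : ∀ (P : Subgroup Ω') (f : Ω' → Ω') (g : Ω → Ω), (∀ x ∈ P, g (j x) = j (f x)) →
    (IsMor E P f ↔ IsMor D (P.map j) g)

variable {j : Ω' →* Ω} {E : FusionSystem T'} {D : FusionSystem T} {P Q : Subgroup Ω'}

theorem IsTransport.exists_eq_map (h : IsTransport j E D) {R : Subgroup Ω} (hR : R ≤ T) :
    ∃ P ≤ T', P.map j = R := by
  refine ⟨R.comap j, fun x hx => ?_,
    Subgroup.map_comap_eq_self (hR.trans (h.map_top ▸ Subgroup.map_le_range j _))⟩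
  have := hR hx
  rw [← h.map_top] at this
  exact (Subgroup.mem_map_iff_mem h.inj).mp this

theorem IsTransport.push (h : IsTransport j E D) {f : Ω' → Ω'} (hf : IsMor E P f) :
    ∃ g, IsMor D (P.map j) g ∧ ∀ x ∈ P, g (j x) = j (f x) := by
  have e : ∀ x ∈ P, (j ∘ f ∘ Function.invFun j) (j x) = j (f x) := fun x _ => by
    simp [Function.leftInverse_invFun h.inj x]
  exact ⟨_, (h.mor P f _ e).mp hf, e⟩

theorem IsTransport.pull (h : IsTransport j E D) {g : Ω → Ω} (hg : IsMor D (P.map j) g) :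
    ∃ f, IsMor E P f ∧ ∀ x ∈ P, g (j x) = j (f x) := by
  have e : ∀ x ∈ P, g (j x) = j ((Function.invFun j ∘ g ∘ j) x) := fun x hx => by
    have := hg.mem (Subgroup.mem_map_of_mem j hx)
    rw [← h.map_top] at this
    obtain ⟨t, -, ht⟩ := this
    simp [← ht, Function.leftInverse_invFun h.inj t]
  exact ⟨_, (h.mor P _ g e).mpr hg, e⟩

theorem img_map {f : Ω' → Ω'} {g : Ω → Ω} (e : ∀ x ∈ P, g (j x) = j (f x)) :
    img (P.map j) g = (img P f).map j := by
  rw [img, img, MonoidHom.map_closure, Subgroup.coe_map, Set.image_image, Set.image_image,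
    Set.image_congr (fun x hx => e x hx)]

theorem IsTransport.isConj_iff_map (h : IsTransport j E D) :
    D.IsConj (P.map j) (Q.map j) ↔ E.IsConj P Q := by
  constructor
  · intro hc
    obtain ⟨g, hg, hi⟩ := isConj_iff.mp hc
    obtain ⟨f, hf, e⟩ := h.pull hg
    exact isConj_iff.mpr ⟨f, hf, Subgroup.map_injective h.inj ((img_map e).symm.trans hi)⟩
  · intro hc
    obtain ⟨f, hf, rfl⟩ := isConj_iff.mp hc
    obtain ⟨g, hg, e⟩ := h.push hf
    exact isConj_iff.mpr ⟨g, hg, img_map e⟩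

theorem IsTransport.mem_normalizer_map (h : IsTransport j E D) {a : Ω'} :
    j a ∈ Subgroup.normalizer (P.map j : Set Ω) ↔ a ∈ Subgroup.normalizer (P : Set Ω') := by
  rw [Subgroup.mem_normalizer_iff, Subgroup.mem_normalizer_iff]
  constructor
  · intro hn x
    rw [← Subgroup.mem_map_iff_mem h.inj (K := P), hn, ← map_mul, ← map_inv, ← map_mul,
      Subgroup.mem_map_iff_mem h.inj]
  · intro hn y
    constructor
    · rintro ⟨x, hx, rfl⟩
      exact ⟨a * x * a⁻¹, (hn x).mp hx, by simp⟩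
    · rintro ⟨x, hx, e⟩
      refine ⟨a⁻¹ * x * a, ?_, ?_⟩
      · rw [SetLike.mem_coe, hn]
        simpa [mul_assoc] using hx
      · simp [e, mul_assoc]

theorem IsTransport.normalizerIn_map (h : IsTransport j E D) :
    normalizerIn T (P.map j) = (normalizerIn T' P).map j := by
  refine le_antisymm (fun y hy => ?_) ?_
  · obtain ⟨hy, hn⟩ := mem_normalizerIn.mp hy
    rw [← h.map_top] at hy
    obtain ⟨a, ha, rfl⟩ := hy
    exact ⟨a, mem_normalizerIn.mpr ⟨ha, h.mem_normalizer_map.mp hn⟩, rfl⟩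
  · rintro _ ⟨a, ha, rfl⟩
    exact mem_normalizerIn.mpr ⟨h.map_top ▸ Subgroup.mem_map_of_mem j (mem_normalizerIn.mp ha).1,
      h.mem_normalizer_map.mpr (mem_normalizerIn.mp ha).2⟩

theorem IsTransport.isFullyAutomized (h : IsTransport j E D) {p : ℕ}
    (ha : E.IsFullyAutomized p P) : D.IsFullyAutomized p (P.map j) := by
  obtain ⟨hP, hs⟩ := isFullyAutomized_iff.mp ha
  have hPT : P.map j ≤ T := (Subgroup.map_mono hP).trans h.map_top.le
  set e : MulAut P ≃* MulAut ↥(P.map j) := MulAut.congr (P.equivMapOfInjective j h.inj) with hedef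
  have he : ∀ (α : MulAut P), ∀ x ∈ P, autFun (e α) (j x) = j (autFun α x) := by
    intro α x hx
    rw [autFun_of_mem _ (Subgroup.mem_map_of_mem j hx), autFun_of_mem α hx]
    have : (P.equivMapOfInjective j h.inj).symm ⟨j x, Subgroup.mem_map_of_mem j hx⟩ = ⟨x, hx⟩ := by
      rw [MulEquiv.symm_apply_eq]
      exact Subtype.ext rfl
    simp [hedef, MulAut.congr, this]
  have hA : D.autGroup (P.map j) = (E.autGroup P).map e.toMonoidHom := by
    ext β
    rw [Subgroup.mem_map_equiv, autGroup_eq_set hPT, autGroup_eq_set hP,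
      h.mor P (autFun (e.symm β)) (autFun β) fun x hx => by rw [← he _ x hx, e.apply_symm_apply]]
  have hI : autInducedBy T (P.map j) = (autInducedBy T' P).map e.toMonoidHom := by
    ext β
    rw [Subgroup.mem_map_equiv, mem_autInducedBy, mem_autInducedBy]
    constructor
    · rintro ⟨g, hg, hn, hge⟩
      rw [← h.map_top] at hg
      obtain ⟨a, ha', rfl⟩ := hg
      refine ⟨a, ha', h.mem_normalizer_map.mp hn, fun x hx => h.inj ?_⟩
      rw [← he _ x hx, e.apply_symm_apply, hge _ (Subgroup.mem_map_of_mem j hx)]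
      simp [cj]
    · rintro ⟨a, ha', hn, hge⟩
      refine ⟨j a, h.map_top ▸ Subgroup.mem_map_of_mem j ha', h.mem_normalizer_map.mpr hn, ?_⟩
      rintro _ ⟨x, hx, rfl⟩
      have := he (e.symm β) x hx
      rw [e.apply_symm_apply, hge x hx] at this
      rw [this]
      simp [cj]
  refine isFullyAutomized_iff.mpr ⟨hPT, ?_⟩
  rw [hA, hI]
  refine ⟨Subgroup.map_mono hs.1, hs.2.1.map _, fun C hC hle hCA => ?_⟩
  have hCr : C ≤ e.toMonoidHom.range := fun c _ => ⟨e.symm c, e.apply_symm_apply c⟩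
  have := hs.2.2 (C.comap e.toMonoidHom) (hC.comap_of_injective _ e.injective)
    (Subgroup.map_le_iff_le_comap.mp hle)
    (fun a ha => (Subgroup.mem_map_iff_mem e.injective).mp (hCA ha))
  rw [← this, Subgroup.map_comap_eq_self hCr]

theorem IsTransport.isReceptive (h : IsTransport j E D) (hr : E.IsReceptive P) :
    D.IsReceptive (P.map j) := by
  obtain ⟨hP, hr⟩ := isReceptive_iff.mp hr
  refine isReceptive_iff.mpr ⟨(Subgroup.map_mono hP).trans h.map_top.le, fun R g hg hi => ?_⟩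
  obtain ⟨Q, hQ, rfl⟩ := h.exists_eq_map hg.le
  obtain ⟨f, hf, e⟩ := h.pull hg
  obtain ⟨k, hk, hke⟩ := hr Q f hf (Subgroup.map_injective h.inj ((img_map e).symm.trans hi))
  have hext : nExt T (Q.map j) g = (nExt T' Q f).map j := by
    refine le_antisymm (fun y hy => ?_) ?_
    · obtain ⟨hy, hn, c, hc, hce⟩ := mem_nExt.mp hy
      rw [← h.map_top] at hy hc
      obtain ⟨a, ha, rfl⟩ := hy
      obtain ⟨b, hb, rfl⟩ := hc
      refine ⟨a, ⟨ha, h.mem_normalizer_map.mp hn, b, hb, fun x hx => h.inj ?_⟩, rfl⟩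
      have hm : cj a x ∈ Q := (Subgroup.mem_normalizer_iff.mp (h.mem_normalizer_map.mp hn) x).mp hx
      rw [← e _ hm]
      have := hce _ (Subgroup.mem_map_of_mem j hx)
      rw [e x hx] at this
      simpa [cj] using this
    · rintro _ ⟨a, ⟨ha, hn, b, hb, hbe⟩, rfl⟩
      refine mem_nExt.mpr ⟨h.map_top ▸ Subgroup.mem_map_of_mem j ha, h.mem_normalizer_map.mpr hn,
        j b, h.map_top ▸ Subgroup.mem_map_of_mem j hb, ?_⟩
      rintro _ ⟨x, hx, rfl⟩
      have hm : cj a x ∈ Q := (Subgroup.mem_normalizer_iff.mp hn x).mp hx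
      have h1 := e _ hm
      rw [hbe x hx] at h1
      rw [e x hx]
      simpa [cj] using h1
  obtain ⟨k', hk', hk'e⟩ := h.push hk
  refine ⟨k', hext ▸ hk', ?_⟩
  rintro _ ⟨x, hx, rfl⟩
  rw [hk'e x (le_nExt hf hx), hke x hx, e x hx]

theorem IsTransport.isSaturated (h : IsTransport j E D) {p : ℕ} (hE : E.IsSaturated p) :
    D.IsSaturated p := by
  intro R hR
  obtain ⟨P, hP, rfl⟩ := h.exists_eq_map hR
  obtain ⟨Q, hc, ha, hr⟩ := hE P hP
  exact ⟨_, h.isConj_iff_map.mpr hc, h.isFullyAutomized ha, h.isReceptive hr⟩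

/-- The system of a subgroup is that of the abstract group. -/
theorem isTransport_subgroup {G : Type*} [Group G] {H T : Subgroup G} (hTH : T ≤ H) :
    IsTransport H.subtype (groupFusionSystem (T.subgroupOf H))
      (fusionSystemOfSubgroup H T hTH) := by
  refine ⟨H.subtype_injective, Subgroup.map_subgroupOf_eq_of_le hTH, fun P f g e => ?_⟩
  rw [isMor_group, isMor_fusionSystemOfSubgroup]
  constructor
  · rintro ⟨hP, hf, k, hk⟩
    refine ⟨(Subgroup.map_mono hP).trans (Subgroup.map_subgroupOf_eq_of_le hTH).le, ?_, k, k.2, ?_⟩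
    · rintro _ ⟨x, hx, rfl⟩
      rw [e x hx]
      exact hf x hx
    · rintro _ ⟨x, hx, rfl⟩
      rw [e x hx, hk x hx]
      simp [cj]
  · rintro ⟨hP, hg, k, hk, hke⟩
    refine ⟨fun x hx => hP (Subgroup.mem_map_of_mem _ hx), fun x hx => ?_, ⟨k, hk⟩, fun x hx => ?_⟩
    · have := hg _ (Subgroup.mem_map_of_mem _ hx)
      rw [e x hx] at this
      exact this
    · apply Subtype.ext
      have := hke _ (Subgroup.mem_map_of_mem _ hx)
      rw [e x hx] at this
      simpa [cj] using this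

theorem subgroupFusion_isSaturated {G : Type*} [Group G] [Finite G] {p : ℕ} [Fact p.Prime]
    {H T : Subgroup G} (hTH : T ≤ H) (hT : IsSylIn p T H) :
    (fusionSystemOfSubgroup H T hTH).IsSaturated p := by
  obtain ⟨R, hR⟩ := (exists_sylow_iff hTH).mpr hT
  exact (isTransport_subgroup hTH).isSaturated (hR ▸ groupFusion_isSaturated R)

end CfsgLib.Fusion
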