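import Mathlib
import Cfsg.Agent.Lib.Fusion.Transport
import Cfsg.Agent.Lib.Fusion.Invariant

/-! The system of a normal subgroup is a normal subsystem. -/
set_option autoImplicit false

namespace CfsgLib.Fusion

open Cfsg Cfsg.FusionSystem

variable {G : Type*} [Group G] [Finite G] {p : ℕ} [Fact p.Prime]

theorem group_normal_subsystem (S : Sylow p G) (H : Subgroup G) [hHn : H.Normal] :
    (fusionSystemOfSubgroup H ((S : Subgroup G) ⊓ H) inf_le_right).IsNormalIn
      (groupFusionSystem (S : Subgroup G)) p := by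
  set F := groupFusionSystem (S : Subgroup G) with hFdef
  set T := (S : Subgroup G) ⊓ H with hTdef
  set E := fusionSystemOfSubgroup H T inf_le_right with hEdef
  have hTS : T ≤ (S : Subgroup G) := inf_le_left
  have hT : IsSylIn p T H := isSylIn_inf (A := (S : Subgroup G)) (B := ⊤)
    ⟨le_top, S.2, fun C hC hle _ => S.3 hC hle⟩ le_top fun b _ n hn => hHn.conj_mem n hn b
  have hTc : F.StronglyClosed T := stronglyClosed_iff.mpr ⟨hTS, fun P f hf x hxP hx => by
    obtain ⟨-, hfS, g, hg⟩ := isMor_group.mp hf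
    exact ⟨hfS x hxP, hg x hxP ▸ hHn.conj_mem x hx.2 g⟩⟩
  -- automorphisms of `T` in `F` are conjugations
  have hAut : ∀ α ∈ F.autGroup T, ∃ g, ∀ x ∈ T, autFun α x = cj g x := fun α hα => by
    obtain ⟨-, -, g, hg⟩ := isMor_group.mp (isMor_autFun hTS hα)
    exact ⟨g, hg⟩
  refine ⟨⟨subgroupFusion_isSaturated _ hT, groupFusion_isSaturated S, ?_, hTc, ?_, ?_⟩, ?_⟩
  · refine le_iff_isMor.mpr fun P f hf => ?_
    obtain ⟨hP, hfT, g, -, hg⟩ := isMor_fusionSystemOfSubgroup.mp hf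
    exact isMor_group.mpr ⟨hP.trans hTS, fun x hx => hTS (hfT x hx), g, hg⟩
  · intro P hPT φ hφ α hα
    obtain ⟨g, hg⟩ := hAut α hα
    obtain ⟨-, hφT, h, hh, hhe⟩ := hφ
    set R := (P.subgroupOf T).map (T.subtype.comp α.toMonoidHom)
    have key : ∀ y ∈ R, ∃ (x : P), y = g * (x : G) * g⁻¹ := by
      rintro _ ⟨x, hx, rfl⟩
      exact ⟨⟨x, hx⟩, (autFun_coe α x).symm.trans (hg x x.2)⟩
    have hval : ∀ x : P, cj (g * h * g⁻¹) (g * (x : G) * g⁻¹) = autFun α (φ x) := fun x => by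
      rw [hg _ (hφT x), hhe x]
      simp [cj, mul_assoc]
    refine ⟨conjHom R (g * h * g⁻¹), ⟨?_, fun y => ?_, _, hHn.conj_mem h hh g, fun _ => rfl⟩,
      fun x hx hαx => ?_⟩
    · intro y hy
      obtain ⟨x, rfl⟩ := key y hy
      have := autFun_mem α (hPT x.2)
      rw [hg x (hPT x.2)] at this
      exact this
    · obtain ⟨x, hx⟩ := key y y.2
      show cj (g * h * g⁻¹) (y : G) ∈ T
      rw [hx, hval]
      exact autFun_mem α (hφT x)
    · show cj (g * h * g⁻¹) ((α ⟨x, hPT x.2⟩ : T) : G) = _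
      rw [show ((α ⟨x, hPT x.2⟩ : T) : G) = g * x * g⁻¹ from
        (autFun_coe α _).symm.trans (hg x (hPT x.2)), hval, autFun_of_mem α hx]
  · intro P hPT φ hφ
    obtain ⟨hPS, hφS, g, hg⟩ := hφ
    obtain ⟨R, hR⟩ := (exists_sylow_iff hT.1).mpr hT
    have hfr := Sylow.normalizer_sup_eq_top R
    rw [hR, Subgroup.map_subgroupOf_eq_of_le hT.1] at hfr
    have hg' : g ∈ ((Subgroup.normalizer (T : Set G) ⊔ H : Subgroup G) : Set G) := hfr ▸ Subgroup.mem_top g
    rw [Subgroup.mul_normal] at hg'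
    obtain ⟨n, hn, h, hh, rfl⟩ := hg'
    have hnm : IsMor F T (cj n) := isMor_group.mpr ⟨hTS,
      fun x hx => hTS ((Subgroup.mem_normalizer_iff.mp hn x).mp hx), n, fun _ _ => rfl⟩
    have : Finite T := inferInstance
    obtain ⟨α, hα, hαe⟩ := exists_aut hnm (img_cj_of_normalizer hn)
    have hin : ∀ x ∈ P, cj h x ∈ T := fun x hx => by
      have h1 : cj (n * h) x ∈ T := by
        refine ⟨?_, ?_⟩
        · have := hφS ⟨x, hx⟩
          rwa [hg] at this
        · exact hHn.conj_mem x (hPT hx).2 _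
      rw [cj_mul] at h1
      exact (Subgroup.mem_normalizer_iff.mp hn _).mpr h1
    refine ⟨α, hα, conjHom P h, ⟨hPT, fun x => hin x x.2, h, hh, fun _ => rfl⟩, fun x hx => ?_⟩
    rw [hg, ← autFun_coe, hαe _ hx]
    show cj (n * h) x = cj n (cj h x)
    exact cj_mul n h x
  · intro α hα
    obtain ⟨-, -, h, hh, hhe⟩ := isMor_fusionSystemOfSubgroup.mp (isMor_autFun le_rfl hα)
    have hhn : h ∈ Subgroup.normalizer (T : Set G) := by
      rw [Subgroup.mem_normalizer_iff_map_conj_eq]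
      exact (img_cj T h).symm.trans ((img_congr hhe).symm.trans (img_autFun α))
    have hTfn : F.IsFullyNormalized T := ⟨hTS, fun R hR => by
      obtain ⟨f, hf, rfl⟩ := isConj_iff.mp hR
      rw [hf.img_eq_self fun x hx => (stronglyClosed_iff.mp hTc).2 T f hf x hx hx]⟩
    have hC := sylow_centralizer_of_normalizer S ((fullyNormalized_group_iff S hTS).mp hTfn)
    set C := centralizerIn (S : Subgroup G) T with hCdef
    let D := H ⊓ Subgroup.centralizer (T : Set G)
    have hCS : C ≤ (S : Subgroup G) := centralizerIn_le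
    have hCD : C ≤ Subgroup.normalizer (D : Set G) := by
      intro c hc
      rw [Subgroup.mem_normalizer_iff]
      refine fun y => ⟨fun hy => ⟨hHn.conj_mem y hy.1 c, ?_⟩, fun hy => ?_⟩
      · exact Subgroup.mul_mem _ (Subgroup.mul_mem _ hc.2 hy.2) (Subgroup.inv_mem _ hc.2)
      · refine ⟨by simpa [mul_assoc] using hHn.conj_mem _ hy.1 c⁻¹, ?_⟩
        have := Subgroup.mul_mem _ (Subgroup.mul_mem _ (Subgroup.inv_mem _ hc.2) hy.2) hc.2
        simpa [mul_assoc] using this
    have hCY : IsSylIn p C (C ⊔ D) :=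
      ⟨le_sup_left, hC.2.1, fun B hB hle hu => hC.2.2 B hB hle
        (hu.trans (sup_le inf_le_right inf_le_right))⟩
    have hmap : C.map (MulAut.conj h).toMonoidHom ≤ C ⊔ D := by
      rintro _ ⟨c, hc, rfl⟩
      show h * c * h⁻¹ ∈ C ⊔ D
      have hcen : cj h c ∈ Subgroup.centralizer (T : Set G) := cj_mem_centralizer hhn hc.2
      have hd : c⁻¹ * cj h c ∈ D := ⟨by
          have := H.mul_mem (hHn.conj_mem h hh c⁻¹) (H.inv_mem hh)
          simpa [cj, mul_assoc] using this,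
        Subgroup.mul_mem _ (Subgroup.inv_mem _ hc.2) hcen⟩
      have := (C ⊔ D).mul_mem (Subgroup.mem_sup_left hc) (Subgroup.mem_sup_right hd)
      rwa [mul_inv_cancel_left] at this
    obtain ⟨y, hy, hyC⟩ := hCY.exists_conj_le (hC.2.1.map _) hmap
    rw [← SetLike.mem_coe, Subgroup.coe_mul_of_left_le_normalizer_right _ _ hCD] at hy
    obtain ⟨c₀, hc₀, d, hd, rfl⟩ := hy
    have hdn : d ∈ Subgroup.normalizer (T : Set G) := centralizer_le_normalizer T hd.2
    set k := d * h with hk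
    have hkC : ∀ c ∈ C, cj k c ∈ C := fun c hc => by
      have h1 := hyC _ (Subgroup.mem_map_of_mem _ hc)
      have h2 := C.mul_mem (C.mul_mem (C.inv_mem hc₀) h1) hc₀
      simpa [cj, hk, mul_assoc] using h2
    have hkT : ∀ x ∈ T, cj k x = autFun α x := fun x hx => by
      rw [hk, cj_mul, ← hhe x hx]
      exact cj_fixed_iff.mpr (Subgroup.mem_centralizer_iff.mp hd.2 _ (autFun_mem α hx)).symm
    have hkn : ∀ x ∈ T ⊔ C, cj k x ∈ T ⊔ C := by
      intro x hx
      refine (sup_le ?_ ?_ : T ⊔ C ≤ (T ⊔ C).comap (MulAut.conj k).toMonoidHom) hx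
      · intro t ht
        exact Subgroup.mem_sup_left (show cj k t ∈ T from hkT t ht ▸ autFun_mem α ht)
      · intro c hc
        exact Subgroup.mem_sup_right (hkC c hc)
    have hkm : IsMor F (T ⊔ C) (cj k) := isMor_group.mpr
      ⟨sup_le hTS hCS, fun x hx => sup_le hTS hCS (hkn x hx), k, fun _ _ => rfl⟩
    obtain ⟨β, hβ, hβe⟩ := exists_aut hkm (hkm.img_eq_self hkn)
    refine ⟨β, hβ, fun x => ?_, fun c hc => ?_⟩
    · rw [← autFun_coe, ← autFun_coe, Subgroup.coe_inclusion, hβe _ (Subgroup.mem_sup_left x.2),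
        hkT x x.2]
    · rw [← autFun_coe, hβe _ c.2]
      have h1 : (c : G)⁻¹ * cj k c ∈ C := C.mul_mem (C.inv_mem hc) (hkC c hc)
      have h2 : (c : G)⁻¹ * cj k c ∈ H := by
        have hkH : k ∈ H := H.mul_mem hd.1 hh
        have := H.mul_mem (hHn.conj_mem k hkH (c : G)⁻¹) (H.inv_mem hkH)
        simpa [cj, mul_assoc] using this
      exact ⟨⟨h1.1, h2⟩, h1.2⟩

end CfsgLib.Fusion
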