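import Mathlib
import Cfsg.Agent.Lib.Fusion.SmallElements
import Cfsg.Agent.Lib.Fusion.Control
import Cfsg.Agent.Lib.Fusion.InnerCond
import Cfsg.Agent.Lib.Fusion.NormalizerSaturated
import Cfsg.Agent.S5096
import Cfsg.Agent.S5097

/-! Small abelian subgroups control fusion. -/

set_option autoImplicit false

universe u

namespace CfsgLib.Fusion

open Cfsg Cfsg.FusionSystem
open scoped commutatorElement

variable {p : ℕ} [hp : Fact p.Prime] {Ω : Type u} [Group Ω]

/-- Abelian with only small elements. -/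
structure SmallAb (p : ℕ) (A : Subgroup Ω) : Prop where
  comm : ∀ x ∈ A, ∀ y ∈ A, x * y = y * x
  small : ∀ x ∈ A, Small p x

omit hp in
theorem small_one : Small p (1 : Ω) := Or.inl (one_pow _)

omit hp in
theorem small_mul_of_commute {x y : Ω} (h : Commute x y) (hx : Small p x) (hy : Small p y) :
    Small p (x * y) := by
  by_cases h2 : p = 2
  · subst h2
    have h4 : ∀ z : Ω, Small 2 z → z ^ 4 = 1 := fun z hz =>
      hz.elim (fun e => by rw [show (4 : ℕ) = 2 * 2 from rfl, pow_mul, e, one_pow]) (·.2)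
    exact Or.inr ⟨rfl, by rw [h.mul_pow, h4 x hx, h4 y hy, one_mul]⟩
  · exact Or.inl (by rw [h.mul_pow, hx.resolve_right fun e => h2 e.1,
      hy.resolve_right fun e => h2 e.1, one_mul])

omit hp in
theorem small_inv {x : Ω} (hx : Small p x) : Small p x⁻¹ :=
  hx.imp (fun e => by rw [inv_pow, e, inv_one]) fun e => ⟨e.1, by rw [inv_pow, e.2, inv_one]⟩

omit hp in
theorem small_cj {x : Ω} (g : Ω) (hx : Small p x) : Small p (cj g x) := by
  have h : ∀ n : ℕ, (cj g x) ^ n = cj g (x ^ n) := fun n => conj_pow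
  exact hx.imp (fun e => by rw [h, e]; simp [cj]) fun e => ⟨e.1, by rw [h, e.2]; simp [cj]⟩

omit hp in
theorem small_zpow {x : Ω} (hx : Small p x) (k : ℤ) : Small p (x ^ k) :=
  hx.imp (fun e => by rw [← zpow_natCast, ← zpow_mul, mul_comm, zpow_mul, zpow_natCast, e, one_zpow])
    fun e => ⟨e.1, by rw [← zpow_natCast, ← zpow_mul, mul_comm, zpow_mul, zpow_natCast, e.2, one_zpow]⟩

omit hp in
theorem SmallAb.zpowers {x : Ω} (hx : Small p x) : SmallAb p (Subgroup.zpowers x) := by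
  constructor
  · rintro _ ⟨a, rfl⟩ _ ⟨b, rfl⟩
    exact zpow_mul_comm x a b
  · rintro _ ⟨a, rfl⟩
    exact small_zpow hx a

omit hp in
theorem SmallAb.sup {A B : Subgroup Ω} (hA : SmallAb p A) (hB : SmallAb p B)
    (h : ∀ a ∈ A, ∀ b ∈ B, a * b = b * a) : SmallAb p (A ⊔ B) := by
  have hAc : A ⊔ B ≤ Subgroup.centralizer (A : Set Ω) :=
    sup_le (fun a ha => Subgroup.mem_centralizer_iff.mpr fun a' ha' => hA.comm a' ha' a ha)
      (fun b hb => Subgroup.mem_centralizer_iff.mpr fun a' ha' => h a' ha' b hb)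
  have hBc : A ⊔ B ≤ Subgroup.centralizer (B : Set Ω) :=
    sup_le (fun a ha => Subgroup.mem_centralizer_iff.mpr fun b hb => (h a ha b hb).symm)
      (fun b hb => Subgroup.mem_centralizer_iff.mpr fun b' hb' => hB.comm b' hb' b hb)
  have hcomm : ∀ x ∈ A ⊔ B, ∀ y ∈ A ⊔ B, x * y = y * x := by
    intro x hx y hy
    have hle : A ⊔ B ≤ Subgroup.centralizer ((A ⊔ B : Subgroup Ω) : Set Ω) :=
      sup_le (Subgroup.le_centralizer_iff.mp hAc) (Subgroup.le_centralizer_iff.mp hBc)
    exact (Subgroup.mem_centralizer_iff.mp (hle hy)) x hx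
  refine ⟨hcomm, fun x hx => ?_⟩
  let Sm : Subgroup Ω :=
    { carrier := {z | z ∈ A ⊔ B ∧ Small p z}
      one_mem' := ⟨one_mem _, small_one⟩
      mul_mem' := fun {a b} ha hb =>
        ⟨mul_mem ha.1 hb.1, small_mul_of_commute (hcomm a ha.1 b hb.1) ha.2 hb.2⟩
      inv_mem' := fun {a} ha => ⟨inv_mem ha.1, small_inv ha.2⟩ }
  have hle : A ⊔ B ≤ Sm := sup_le (fun a ha => ⟨Subgroup.mem_sup_left ha, hA.small a ha⟩)
    (fun b hb => ⟨Subgroup.mem_sup_right hb, hB.small b hb⟩)
  exact (hle hx).2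

omit hp in
theorem exists_system_of_eq_saturated {S T : Subgroup Ω} (h : T = S) (D : FusionSystem T)
    (hD : D.IsSaturated p) :
    ∃ E : FusionSystem S, E.IsSaturated p ∧ ∀ P f, IsMor E P f ↔ IsMor D P f := by
  subst h
  exact ⟨D, hD, fun _ _ => Iff.rfl⟩

omit hp in
/-- `V` absorbs the commutators of the automorphisms of order prime to `p`. -/
structure Absorbs {S : Subgroup Ω} (p : ℕ) (V : Subgroup Ω) (F : FusionSystem S) : Prop where
  le : V ≤ S
  closed : ∀ P f, IsMor F P f → ∀ x ∈ P, x ∈ V → f x ∈ V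
  diff : ∀ P, P ≤ S → ∀ α ∈ F.autGroup P, (orderOf α).Coprime p →
    ∀ x ∈ P, x⁻¹ * autFun α x ∈ V

/-- `E` has every map of `F` on the small abelian subgroups of `V`. -/
def Agree {S : Subgroup Ω} (p : ℕ) (V : Subgroup Ω) (E F : FusionSystem S) : Prop :=
  ∀ A f, A ≤ V → SmallAb p A → IsMor F A f → IsMor E A f

variable {S : Subgroup Ω} [Finite S] {E F : FusionSystem S} {V A : Subgroup Ω}

omit hp [Finite S] in
/-- Radical subgroups are closed under conjugacy. -/
theorem radical_of_map (hS : IsPGroup p S) {P : Subgroup Ω} (hr : F.IsRadical p P) {f : Ω → Ω}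
    (hf : IsMor F P f) : F.IsRadical p (img P f) := by
  obtain ⟨e, he, heA, -⟩ := exists_transport hf rfl
  refine ⟨hf.img_le, le_antisymm (fun γ hγ => ?_) (inn_le_pCoreAut F hS hf.img_le)⟩
  let K := (pCoreAut F p (img P f)).map e.symm.toMonoidHom
  have hKA : K ≤ F.autGroup P := by
    rintro _ ⟨k, hk, rfl⟩
    exact (heA _).mpr (by
      show e (e.symm k) ∈ F.autGroup (img P f)
      rw [e.apply_symm_apply]
      exact Subgroup.map_subtype_le _ hk)
  have hKp : IsPGroup p K := ((CfsgLib.Base.isPGroup_pCore p _).map _).map _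
  have hKI : K ≤ Inn P := le_inn_of_radical hr hKA hKp fun a ha k hk => by
    obtain ⟨k', hk', rfl⟩ := hk
    obtain ⟨k'', hk'', rfl⟩ := hk'
    have h := (pCore_normal p ↥(F.autGroup (img P f))).conj_mem k'' hk'' ⟨e a, (heA a).mp ha⟩
    refine ⟨_, ⟨_, h, rfl⟩, ?_⟩
    simp
  have hm : e.symm γ ∈ Inn P := hKI ⟨γ, hγ, rfl⟩
  obtain ⟨g, hg, hge⟩ := mem_inn.mp hm
  refine mem_inn.mpr ⟨f g, mem_img_of_mem f hg, fun y hy => ?_⟩
  obtain ⟨x, hx, rfl⟩ := hf.mem_img.mp hy
  have := he (e.symm γ) x hx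
  rw [e.apply_symm_apply, hge x hx] at this
  rw [this]
  exact hf.map_conj hg hx

omit hp [Finite S] in
theorem centralizer_absorbs (hV : Absorbs p V F) {C : FusionSystem (centralizerIn S A)}
    (hC : F.IsCentralizerSystem A C) : Absorbs p (V ⊓ centralizerIn S A) C where
  le := inf_le_right
  closed := fun P f hf x hx hxV =>
    ⟨hV.closed P f ((isMor_centralizerSystem hC).mp hf).1 x hx hxV.1, hf.mem hx⟩
  diff := fun P hP α hα hcop x hx => by
    refine ⟨hV.diff P (hP.trans centralizerIn_le) α ?_ hcop x hx,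
      Subgroup.mul_mem _ (Subgroup.inv_mem _ (hP hx)) (hP (autFun_mem α hx))⟩
    exact autGroup_mono (fun Q φ hφ => by rw [hC Q] at hφ; exact hφ.1) hα

omit hp [Finite S] in
theorem centralizer_agree (hA : SmallAb p A) (hAV : A ≤ V) (hag : Agree p V E F)
    {C : FusionSystem (centralizerIn S A)} (hC : F.IsCentralizerSystem A C)
    {C' : FusionSystem (centralizerIn S A)} (hC' : E.IsCentralizerSystem A C') :
    Agree p (V ⊓ centralizerIn S A) C' C := by
  intro B f hBV hB hf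
  obtain ⟨-, h2, h3, g, hg, hgf, hgA⟩ := (isMor_centralizerSystem hC).mp hf
  have hBA : SmallAb p (B ⊔ A) := hB.sup hA fun b hb a ha =>
    cj_fixed_iff.mp ((mem_centralizerIn.mp (h2 hb)).2 a ha)
  have hgE := hag (B ⊔ A) g (sup_le (hBV.trans inf_le_left) hAV) hBA hg
  exact (isMor_centralizerSystem hC').mpr
    ⟨(hgE.restrict le_sup_left).congr hgf, h2, h3, g, hgE, hgf, hgA⟩

/-- The maps of `F` centralizing `A` lie in `E`, given control in the centralizer system. -/
theorem centralizer_maps (hE : E.IsSaturated p) (hF : F.IsSaturated p) (hS : IsPGroup p S)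
    (hEF : E.IsSubsystemOf F) (hAS : A ≤ S) (hAn : normalizerIn S A = S)
    (hA : SmallAb p A) (hAV : A ≤ V) (hV : Absorbs p V F) (hag : Agree p V E F)
    (IH : ∀ (C C' : FusionSystem (centralizerIn S A)), C.IsSaturated p → C'.IsSaturated p →
      C'.IsSubsystemOf C → Absorbs p (V ⊓ centralizerIn S A) C →
      Agree p (V ⊓ centralizerIn S A) C' C → C.IsSubsystemOf C')
    {U : Subgroup Ω} {f : Ω → Ω} (hU : U ≤ centralizerIn S A)
    (hfU : ∀ x ∈ U, f x ∈ centralizerIn S A) (hf : IsMor F U f) {g : Ω → Ω}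
    (hg : IsMor F (U ⊔ A) g) (hgf : ∀ x ∈ U, g x = f x) (hgA : ∀ x ∈ A, g x = x) :
    ∃ g', IsMor E (U ⊔ A) g' ∧ (∀ x ∈ U, g' x = f x) ∧ ∀ x ∈ A, g' x = x := by
  obtain ⟨C, hC⟩ := Cfsg.Agent.S5097.result F A hAS
  obtain ⟨C', hC'⟩ := Cfsg.Agent.S5097.result E A hAS
  have hfc : ∀ G : FusionSystem S, G.IsSaturated p → G.IsFullyCentralized A := fun G hG =>
    isFullyCentralized_of_normalized hS hG (isFullyNormalized_of_normal hAS hAn)
  have hsub : C'.IsSubsystemOf C := le_iff_isMor.mpr fun P k hk => by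
    obtain ⟨h1, h2, h3, k', hk', hk1, hk2⟩ := (isMor_centralizerSystem hC').mp hk
    exact (isMor_centralizerSystem hC).mpr
      ⟨le_iff_isMor.mp hEF _ _ h1, h2, h3, k', le_iff_isMor.mp hEF _ _ hk', hk1, hk2⟩
  have h := le_iff_isMor.mp (IH C C' (centralizerSystem_isSaturated hS hF (hfc F hF) hC)
    (centralizerSystem_isSaturated hS hE (hfc E hE) hC') hsub (centralizer_absorbs hV hC)
    (centralizer_agree hA hAV hag hC hC')) U f
    ((isMor_centralizerSystem hC).mpr ⟨hf, hU, hfU, g, hg, hgf, hgA⟩)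
  exact ((isMor_centralizerSystem hC').mp h).2.2.2

/-- In a system in which `A` is normal, a centric radical `R ≥ A` contains `C_S(C_R(A))`. -/
theorem centralizer_le_of_radical (hS : IsPGroup p S)
    (hN : ∀ R α, A ≤ R → α ∈ F.autGroup R → ∀ x ∈ A, autFun α x ∈ A)
    (hAn : normalizerIn S A = S) (hA : ∀ x ∈ A, ∀ y ∈ A, x * y = y * x) {R : Subgroup Ω}
    (hc : F.IsCentric R) (hr : F.IsRadical p R) (hAR : A ≤ R) :
    centralizerIn S (R ⊓ centralizerIn S A) ≤ R := by
  set U := R ⊓ centralizerIn S A with hU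
  have hAU : A ≤ U := le_inf hAR fun a ha =>
    mem_centralizerIn.mpr ⟨hc.1 (hAR ha), fun b hb => cj_fixed_iff.mpr (hA a ha b hb)⟩
  have hRS := hc.1
  have hAnorm : ∀ d ∈ S, ∀ a ∈ A, cj d a ∈ A := fun d hd a ha =>
    (Subgroup.mem_normalizer_iff.mp (mem_normalizerIn.mp (hAn.ge hd)).2 a).mp ha
  have hUc : ∀ x ∈ U, ∀ a ∈ A, x * a = a * x := fun x hx a ha =>
    cj_fixed_iff.mp ((mem_centralizerIn.mp hx.2).2 a ha)
  let W : ℕ → Subgroup Ω := fun i => if i = 0 then ⊥ else if i = 1 then U else S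
  have hW : ∀ α ∈ F.autGroup R, ∀ i, ∀ x ∈ R, x ∈ W i → autFun α x ∈ W i := by
    intro α hα i x hx hxW
    simp only [W] at hxW ⊢
    split_ifs at hxW ⊢ with h0 h1
    · rw [Subgroup.mem_bot] at hxW ⊢
      subst hxW
      rw [autFun_of_mem α R.one_mem]
      exact congrArg Subtype.val (map_one α)
    · refine ⟨autFun_mem α hx, mem_centralizerIn.mpr ⟨hRS (autFun_mem α hx), fun a ha => ?_⟩⟩
      have hb : autFun α⁻¹ a ∈ A := hN R _ hAR ((F.autGroup R).inv_mem hα) a ha
      refine cj_fixed_iff.mpr ?_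
      rw [← autFun_inv_right α (hAR ha), ← autFun_map_mul α hx (hAR hb),
        ← autFun_map_mul α (hAR hb) hx, hUc x hxW _ hb]
    · exact hRS (autFun_mem α hx)
  have key : ∀ g ∈ centralizerIn S U, g ∈ normalizerIn S R → g ∈ R := by
    intro g hg hgn
    refine mem_of_stabilizing hS hc hr 2 W hW (by simp [W]) (by simpa [W] using hRS) hgn ?_
    intro i hi x hx hxW
    have hgx : cj g x ∈ R := (Subgroup.mem_normalizer_iff.mp (mem_normalizerIn.mp hgn).2 x).mp hx
    interval_cases i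
    · simp only [W, zero_add, one_ne_zero, if_false, if_true] at hxW ⊢
      rw [(mem_centralizerIn.mp hg).2 x hxW, inv_mul_cancel]
      exact one_mem _
    · simp only [W, one_ne_zero, if_false, if_true]
      have hmem : x⁻¹ * cj g x ∈ R := R.mul_mem (R.inv_mem hx) hgx
      refine ⟨hmem, mem_centralizerIn.mpr ⟨hRS hmem, fun a ha => ?_⟩⟩
      have hga : ∀ b ∈ A, cj g b = b := fun b hb =>
        (mem_centralizerIn.mp hg).2 b (hAU hb)
      have h1 : cj (cj g x) a = cj x a := by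
        calc cj (cj g x) a = cj (cj g x) (cj g a) := by rw [hga a ha]
          _ = cj g (cj x a) := by simp [cj, mul_assoc]
          _ = cj x a := hga _ (hAnorm x (hRS hx) a ha)
      show cj (x⁻¹ * cj g x) a = a
      rw [cj_mul, h1, cj_inv_cj]
  set X := centralizerIn S U
  have hRX : R ≤ Subgroup.normalizer (X : Set Ω) := by
    intro r hr'
    have hm : ∀ s ∈ R, ∀ x ∈ X, cj s x ∈ X := by
      intro s hs x hx
      refine mem_centralizerIn.mpr ⟨S.mul_mem (S.mul_mem (hRS hs) (mem_centralizerIn.mp hx).1)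
        (S.inv_mem (hRS hs)), fun u hu => ?_⟩
      have hu' : cj s⁻¹ u ∈ U := by
        refine ⟨R.mul_mem (R.mul_mem (R.inv_mem hs) hu.1) (R.inv_mem (R.inv_mem hs)),
          mem_centralizerIn.mpr ⟨S.mul_mem (S.mul_mem (S.inv_mem (hRS hs)) (hRS hu.1))
            (S.inv_mem (S.inv_mem (hRS hs))), fun a ha => ?_⟩⟩
        have h2 := hUc u hu _ (hAnorm s (hRS hs) a ha)
        have h3 := congrArg (cj s⁻¹) h2
        rw [cj_map_mul, cj_map_mul, cj_inv_cj] at h3
        exact cj_fixed_iff.mpr h3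
      have h3 := congrArg (cj s) ((mem_centralizerIn.mp hx).2 _ hu')
      rw [cj_cj_inv] at h3
      rw [show cj (cj s x) u = cj s (cj x (cj s⁻¹ u)) by simp [cj, mul_assoc]]
      exact h3
    refine Subgroup.mem_normalizer_iff.mpr fun x => ⟨fun hx => hm r hr' x hx, fun hx => ?_⟩
    have := hm _ (R.inv_mem hr') _ hx
    rwa [show cj r⁻¹ (r * x * r⁻¹) = x from cj_inv_cj r x] at this
  by_contra hXR
  have hY : R ⊔ X ≤ S := sup_le hRS centralizerIn_le
  have : Finite ↥(R ⊔ X) := finite_of_le hY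
  obtain ⟨y, hy, hyR⟩ := SetLike.exists_of_lt
    (lt_inf_normalizer (isPGroup_of_le hY hS) (left_lt_sup.mpr hXR))
  obtain ⟨hy1, hy2⟩ := Subgroup.mem_inf.mp hy
  have hy' : y ∈ ((R ⊔ X : Subgroup Ω) : Set Ω) := hy1
  rw [Subgroup.coe_mul_of_left_le_normalizer_right R X hRX] at hy'
  obtain ⟨r, hr', x, hx, rfl⟩ := hy'
  have hxn : x ∈ Subgroup.normalizer (R : Set Ω) := by
    have := Subgroup.mul_mem _ (Subgroup.inv_mem _ (Subgroup.le_normalizer hr')) hy2
    rwa [inv_mul_cancel_left] at this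
  exact hyR (R.mul_mem hr' (key x hx (mem_normalizerIn.mpr ⟨(mem_centralizerIn.mp hx).1, hxn⟩)))

/-- If `A` is normal in both systems and `E` has the maps centralizing `A`, the systems agree. -/
theorem le_of_normal_small (hS : IsPGroup p S) (hE : E.IsSaturated p) (hF : F.IsSaturated p)
    (hEF : E.IsSubsystemOf F) (hnE : E.IsNormal A) (hnF : F.IsNormal A)
    (hA : ∀ x ∈ A, ∀ y ∈ A, x * y = y * x) (hag : ∀ f, IsMor F A f → IsMor E A f)
    (hC : ∀ U f g, U ≤ centralizerIn S A → (∀ x ∈ U, f x ∈ centralizerIn S A) → IsMor F U f →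
      IsMor F (U ⊔ A) g → (∀ x ∈ U, g x = f x) → (∀ x ∈ A, g x = x) → IsMor E U f) :
    F ≤ E := by
  have hAS : A ≤ S := hnF.1
  have hAn : normalizerIn S A = S := normalizerIn_of_isNormal hnF
  have hAnorm : ∀ d ∈ S, ∀ a ∈ A, cj d a ∈ A := fun d hd a ha =>
    (Subgroup.mem_normalizer_iff.mp (mem_normalizerIn.mp (hAn.ge hd)).2 a).mp ha
  have hcl := (stronglyClosed_iff.mp (isNormal_stronglyClosed hnF)).2
  have hN : ∀ R α, A ≤ R → α ∈ F.autGroup R → ∀ x ∈ A, autFun α x ∈ A := by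
    intro R α hAR hα x hx
    by_cases hR : R ≤ S
    · exact hcl R _ (isMor_autFun hR hα) x (hAR hx) hx
    · rw [autGroup_of_not_le hR, Subgroup.mem_bot] at hα
      rw [hα, autFun_one (hAR hx)]
      exact hx
  -- maps fixing `A` on a centric radical subgroup
  have fixmem : ∀ R h, F.IsCentric R → F.IsRadical p R → A ≤ R → IsMor F R h →
      (∀ x ∈ A, h x = x) → IsMor E R h := by
    intro R h hc hr hAR hh hhA
    have hRS := hc.1
    set U := R ⊓ centralizerIn S A with hUdef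
    have hAU : A ≤ U := le_inf hAR fun a ha =>
      mem_centralizerIn.mpr ⟨hAS ha, fun b hb => cj_fixed_iff.mpr (hA a ha b hb)⟩
    have hhU : ∀ x ∈ U, h x ∈ centralizerIn S A := fun x hx =>
      mem_centralizerIn.mpr ⟨hh.mem hx.1, fun a ha => cj_fixed_iff.mpr (by
        rw [← hhA a ha, ← hh.map_mul hx.1 (hAR ha), ← hh.map_mul (hAR ha) hx.1,
          cj_fixed_iff.mp ((mem_centralizerIn.mp hx.2).2 a ha)])⟩
    have heE : IsMor E U h := hC U h h inf_le_right hhU (hh.restrict inf_le_left)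
      (hh.restrict (sup_le inf_le_left hAR)) (fun _ _ => rfl) hhA
    -- move the image to a fully normalized subgroup
    set U₁ := img U h with hU₁
    obtain ⟨V₁, hV₁, hV₁n⟩ := exists_fullyNormalized E heE.img_le
    obtain ⟨φ, hφ, hφi, -⟩ := exists_map_fullyNormalized hS hE hV₁n hV₁
    have hUnorm : R ≤ Subgroup.normalizer (U : Set Ω) := by
      have hm : ∀ s ∈ R, ∀ x ∈ U, cj s x ∈ U := by
        intro s hs x hx
        refine ⟨R.mul_mem (R.mul_mem hs hx.1) (R.inv_mem hs), mem_centralizerIn.mpr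
          ⟨S.mul_mem (S.mul_mem (hRS hs) (hRS hx.1)) (S.inv_mem (hRS hs)), fun a ha => ?_⟩⟩
        have h3 := congrArg (cj s)
          ((mem_centralizerIn.mp hx.2).2 _ (hAnorm s⁻¹ (S.inv_mem (hRS hs)) a ha))
        rw [cj_cj_inv] at h3
        rw [show cj (cj s x) a = cj s (cj x (cj s⁻¹ a)) by simp [cj, mul_assoc]]
        exact h3
      intro r hr'
      refine Subgroup.mem_normalizer_iff.mpr fun x => ⟨fun hx => hm r hr' x hx, fun hx => ?_⟩
      have := hm _ (R.inv_mem hr') _ hx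
      rwa [show cj r⁻¹ (r * x * r⁻¹) = x from cj_inv_cj r x] at this
    have hR₁ : img R h ≤ normalizerIn S U₁ := img_le fun y hy =>
      mapsTo_normalizerIn hh inf_le_left
        (fun z hz => mem_normalizerIn.mpr ⟨hRS hz, hUnorm hz⟩) y hy
    have hU₁R : U₁ ≤ img R h := img_mono h inf_le_left
    have hU₁N : U₁ ≤ normalizerIn S U₁ := hU₁R.trans hR₁
    have hφh : IsMor F R (φ ∘ h) := hh.comp (le_iff_isMor.mp hEF _ _ hφ) fun x hx =>
      hR₁ (mem_img_of_mem h hx)
    have heφ : IsMor E U (φ ∘ h) := heE.comp hφ fun x hx => hU₁N (mem_img_of_mem h hx)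
    have hVi : img U (φ ∘ h) = V₁ := by rw [← heE.img_comp, ← hU₁, hφi]
    obtain ⟨ψ, hψ, hψe⟩ := (isReceptive_iff.mp (isReceptive_of_centralized hS hE
      (isFullyCentralized_of_normalized hS hE hV₁n))).2 U _ heφ hVi
    have hRn : R ≤ nExt S U (φ ∘ h) := fun y hy =>
      mem_nExt.mpr ⟨hRS hy, hUnorm hy, (φ ∘ h) y, hφh.mem hy, fun x hx => hφh.map_conj hy hx.1⟩
    have hψR : IsMor E R ψ := hψ.restrict hRn
    set R₂ := img R (φ ∘ h) with hR₂
    have hc₂ : F.IsCentric R₂ := centric_of_isConj hc (isConj_img hφh)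
    have hr₂ : F.IsRadical p R₂ := radical_of_map hS hr hφh
    have hAR₂ : A ≤ R₂ := by
      intro a ha
      exact le_of_normal_of_radical hS hnF hc₂ hr₂ ha
    have hinvA : ∀ x ∈ R, (φ ∘ h) x ∈ A → x ∈ A := fun x hx hxA => by
      obtain ⟨k, hk, hkl, -, -⟩ := hφh.inverse
      exact hkl x hx ▸ hcl _ k hk _ (mem_img_of_mem _ hx) hxA
    have hX := centralizer_le_of_radical hS hN hAn hA hc₂ hr₂ hAR₂
    have hψR₂ : ∀ y ∈ R, ψ y ∈ R₂ := by
      intro y hy
      have hz : (φ ∘ h) y ∈ R₂ := mem_img_of_mem _ hy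
      have hm : ((φ ∘ h) y)⁻¹ * ψ y ∈ centralizerIn S (R₂ ⊓ centralizerIn S A) := by
        refine mem_centralizerIn.mpr ⟨S.mul_mem (S.inv_mem (hφh.mem hy)) (hψR.mem hy), ?_⟩
        intro u hu
        obtain ⟨x, hx, hxu⟩ := hφh.mem_img.mp hu.1
        have hxU : x ∈ U := by
          refine ⟨hx, mem_centralizerIn.mpr ⟨hRS hx, fun a ha => ?_⟩⟩
          refine cj_fixed_iff.mpr (hφh.inj (R.mul_mem hx (hAR ha)) (R.mul_mem (hAR ha) hx) ?_)
          rw [hφh.map_mul hx (hAR ha), hφh.map_mul (hAR ha) hx, hxu]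
          exact cj_fixed_iff.mp ((mem_centralizerIn.mp hu.2).2 _ (hcl R _ hφh a (hAR ha) ha))
        have hyx : cj y x ∈ U := (Subgroup.mem_normalizer_iff.mp (hUnorm hy) x).mp hxU
        have h1 : ψ (cj y x) = cj (ψ y) u := by
          rw [show ψ (cj y x) = cj (ψ y) (ψ x) from hψR.map_conj hy hx, hψe x hxU, hxu]
        have h2 : ψ (cj y x) = cj ((φ ∘ h) y) u := by
          rw [hψe _ hyx, show (φ ∘ h) (cj y x) = cj ((φ ∘ h) y) ((φ ∘ h) x) from
            hφh.map_conj hy hx, hxu]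
        show cj (((φ ∘ h) y)⁻¹ * ψ y) u = u
        rw [cj_mul, ← h1, h2, cj_inv_cj]
      have := R₂.mul_mem hz (hX hm)
      rwa [mul_inv_cancel_left] at this
    have hψi : img R ψ = R₂ := by
      refine eq_of_le_of_card hφh.img_le (img_le hψR₂) ?_
      rw [hψR.card_img, hR₂, hφh.card_img]
    obtain ⟨ψ', hψ', hψl, hψr, hψ'i⟩ := hψR.inverse
    rw [hψi] at hψ' hψ'i hψr
    have hm₂ : ∀ x ∈ R, (φ ∘ h) x ∈ R₂ := fun x hx => mem_img_of_mem _ hx
    have hk : IsMor F R (ψ' ∘ (φ ∘ h)) := hφh.comp (le_iff_isMor.mp hEF _ _ hψ') hm₂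
    have hkR : ∀ x ∈ R, (ψ' ∘ (φ ∘ h)) x ∈ R := fun x hx =>
      hψ'i ▸ mem_img_of_mem ψ' (hm₂ x hx)
    obtain ⟨δ, hδ, hδe⟩ := exists_aut hk (hk.img_eq_self hkR)
    have hδU : ∀ x ∈ U, autFun δ x = x := fun x hx => by
      rw [hδe x hx.1]
      show ψ' ((φ ∘ h) x) = x
      rw [← hψe x hx]
      exact hψl x hx.1
    have hδI : δ ∈ Inn R := by
      let W : ℕ → Subgroup Ω := fun i => if i = 0 then ⊥ else if i = 1 then U else S
      have hW : ∀ α ∈ F.autGroup R, ∀ i, ∀ x ∈ R, x ∈ W i → autFun α x ∈ W i := by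
        intro α hα i x hx hxW
        simp only [W] at hxW ⊢
        split_ifs at hxW ⊢ with h0 h1
        · rw [Subgroup.mem_bot] at hxW ⊢
          subst hxW
          rw [autFun_of_mem α R.one_mem]
          exact congrArg Subtype.val (map_one α)
        · refine ⟨autFun_mem α hx, mem_centralizerIn.mpr ⟨hRS (autFun_mem α hx), fun a ha => ?_⟩⟩
          have hb : autFun α⁻¹ a ∈ A := hN R _ hAR ((F.autGroup R).inv_mem hα) a ha
          refine cj_fixed_iff.mpr ?_
          rw [← autFun_inv_right α (hAR ha), ← autFun_map_mul α hx (hAR hb),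
            ← autFun_map_mul α (hAR hb) hx, cj_fixed_iff.mp ((mem_centralizerIn.mp hxW.2).2 _ hb)]
        · exact hRS (autFun_mem α hx)
      let K := seriesStab (F.autGroup R) 2 W hW
      have hKp : IsPGroup p K :=
        isPGroup_stabilizing hS hRS 2
          (fun i => ((R ⊓ W i : Subgroup Ω) : Set Ω))
          (by simp [W]) (fun x hx => ⟨hx, by simpa [W] using hRS hx⟩)
          fun α (hα : α ∈ K) i hi x hx hxW =>
            ⟨R.mul_mem (R.inv_mem hx) (autFun_mem α hx), hα.2 i hi x hx hxW.2⟩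
      refine le_inn_of_radical (K := K) hr (fun α hα => hα.1) hKp
        (fun a ha k hk => seriesStab_conj ha hk) ⟨hδ, fun i hi x hx hxW => ?_⟩
      interval_cases i
      · simp only [W, zero_add, one_ne_zero, if_false, if_true] at hxW ⊢
        rw [hδU x hxW, inv_mul_cancel]
        exact one_mem _
      · simp only [W, one_ne_zero, if_false, if_true]
        have hmem : x⁻¹ * autFun δ x ∈ R := R.mul_mem (R.inv_mem hx) (autFun_mem δ hx)
        refine ⟨hmem, mem_centralizerIn.mpr ⟨hRS hmem, fun a ha => ?_⟩⟩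
        have hxa : cj x a ∈ A := hAnorm x (hRS hx) a ha
        have h1 : cj (autFun δ x) a = cj x a := by
          have := hδU _ (hAU hxa)
          rw [show autFun δ (cj x a) = cj (autFun δ x) (autFun δ a) from
            (isMor_autFun hRS hδ).map_conj hx (hAR ha), hδU a (hAU ha)] at this
          exact this
        show cj (x⁻¹ * autFun δ x) a = a
        rw [cj_mul, h1, cj_inv_cj]
    have hδE : IsMor E R (autFun δ) := isMor_autFun hRS (inn_le_autGroup E hRS hδI)
    obtain ⟨φ', hφ', hφl, -, -⟩ := hφ.inverse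
    have hh' : IsMor E R (φ' ∘ (ψ ∘ autFun δ)) := by
      refine (hδE.comp hψR fun x hx => autFun_mem δ hx).comp hφ' fun x hx => ?_
      obtain ⟨z, hz, hze⟩ := hφh.mem_img.mp (hψR₂ _ (autFun_mem δ hx))
      show ψ (autFun δ x) ∈ _
      rw [← hze]
      exact mem_img_of_mem φ (hR₁ (mem_img_of_mem h hz))
    refine hh'.congr fun x hx => ?_
    show φ' (ψ (autFun δ x)) = h x
    rw [hδe x hx]
    show φ' (ψ (ψ' ((φ ∘ h) x))) = h x
    rw [hψr _ (hm₂ x hx)]
    exact hφl _ (hR₁ (mem_img_of_mem h hx))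
  refine alperin hS hF fun R hR α hα => ?_
  obtain ⟨hc, hr⟩ : F.IsCentric R ∧ F.IsRadical p R := by
    rcases hR with rfl | hR
    · exact ⟨centric_self F, radical_self hS hF⟩
    · exact ⟨hR.1, essential_radical hS hR⟩
  have hRS := hc.1
  have hAR : A ≤ R := le_of_normal_of_radical hS hnF hc hr
  have hαm := isMor_autFun hRS hα
  have haE : IsMor E A (autFun α) := hag _ (hαm.restrict hAR)
  have hai : img A (autFun α) = A := (hαm.restrict hAR).img_eq_self (hN R α hAR hα)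
  obtain ⟨k, hk, hkl, -, hki⟩ := haE.inverse
  rw [hai] at hk hki
  have hrec : E.IsReceptive A := isReceptive_of_centralized hS hE
    (isFullyCentralized_of_normalized hS hE (isFullyNormalized_of_normal hnE.1 hAn))
  obtain ⟨g, hg, hgk⟩ := (isReceptive_iff.mp hrec).2 A k hk hki
  have hRn : R ≤ nExt S A k := by
    intro y hy
    refine mem_nExt.mpr ⟨hRS hy, (mem_normalizerIn.mp (hAn.ge (hRS hy))).2,
      autFun α⁻¹ y, hRS (autFun_mem _ hy), fun x hx => ?_⟩
    obtain ⟨u, hu, rfl⟩ := haE.mem_img.mp (hai.ge hx)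
    have hyu : cj (autFun α⁻¹ y) u ∈ A := hAnorm _ (hRS (autFun_mem _ hy)) u hu
    have : autFun α (cj (autFun α⁻¹ y) u) = cj y (autFun α u) := by
      rw [show autFun α (cj (autFun α⁻¹ y) u) = cj (autFun α (autFun α⁻¹ y)) (autFun α u) from
        hαm.map_conj (autFun_mem _ hy) (hAR hu), autFun_inv_right α hy]
    rw [← this, hkl _ hyu, hkl u hu]
  have hgR : IsMor E R g := hg.restrict hRn
  have hh : IsMor F R (g ∘ autFun α) :=
    hαm.comp (le_iff_isMor.mp hEF _ _ hgR) fun x hx => autFun_mem α hx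
  have hhA : ∀ x ∈ A, (g ∘ autFun α) x = x := fun x hx => by
    show g (autFun α x) = x
    rw [hgk _ (hN R α hAR hα x hx)]
    exact hkl x hx
  have hhE := fixmem R _ hc hr hAR hh hhA
  obtain ⟨g', hg', hgl, -, -⟩ := hgR.inverse
  refine (autGroup_eq_set hRS α).mpr ?_
  exact (hhE.comp hg' fun x hx => mem_img_of_mem g (autFun_mem α hx)).congr fun x hx =>
    hgl _ (autFun_mem α hx)

end CfsgLib.Fusion
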