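import Mathlib
import Cfsg.Agent.Lib.Fusion.Normal
import Cfsg.Agent.Lib.Fusion.Criteria
import Cfsg.Agent.Lib.Fusion.SmallControl
import Cfsg.Agent.Lib.Fusion.ModelExists

/-!
An exotic system over a group of Heisenberg type has trivial core.

The proper centric radical subgroups are maximal abelian centralizers; the conjugates of `Z` under
the automorphism group of such a subgroup cannot share a non-trivial invariant subgroup.
-/

set_option autoImplicit false

universe u

namespace CfsgLib.Fusion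

open Cfsg Cfsg.FusionSystem

variable {p : ℕ} [hp : Fact p.Prime] {Ω : Type u} [Group Ω] {S : Subgroup Ω}

/-- A group of Heisenberg type with centre `Z`. -/
structure HeisType (S Z : Subgroup Ω) : Prop where
  le : Z ≤ S
  ne_bot : Z ≠ ⊥
  central : ∀ z ∈ Z, ∀ s ∈ S, z * s = s * z
  comm_mem : ∀ x ∈ S, ∀ s ∈ S, x⁻¹ * cj s x ∈ Z
  surj : ∀ x ∈ S, x ∉ Z → ∀ z ∈ Z, ∃ s ∈ S, x⁻¹ * cj s x = z
  surjIn : ∀ v ∈ S, ∀ s ∈ S, v * s ≠ s * v → ∀ z ∈ Z,
    ∃ a ∈ S, a * v = v * a ∧ a⁻¹ * cj s a = z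
  trans : ∀ v ∈ S, v ∉ Z → ∀ w ∈ S, ∀ x ∈ S, v * w = w * v → v * x = x * v → w * x = x * w

/-- A maximal abelian subgroup of the Heisenberg type group. -/
structure HeisMax (S Z A : Subgroup Ω) : Prop where
  le : A ≤ S
  center_le : Z ≤ A
  comm : ∀ x ∈ A, ∀ y ∈ A, x * y = y * x
  self : ∀ a ∈ A, a ∉ Z → ∀ x ∈ S, x * a = a * x → x ∈ A
  exists_not_mem : ∃ a ∈ A, a ∉ Z

variable {Z A : Subgroup Ω} {F : FusionSystem S}

omit hp in
theorem HeisMax.norm (H : HeisType S Z) (hA : HeisMax S Z A) {s x : Ω} (hs : s ∈ S) (hx : x ∈ A) :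
    cj s x ∈ A := by
  have := A.mul_mem hx (hA.center_le (H.comm_mem x (hA.le hx) s hs))
  rwa [mul_inv_cancel_left] at this

omit hp in
theorem HeisMax.normalizerIn_eq [Finite S] (H : HeisType S Z) (hA : HeisMax S Z A) :
    normalizerIn S A = S :=
  mem_normalizer_of_conj_le fun _ hs => img_le fun _ hx => hA.norm H hs hx

omit hp in
theorem HeisType.mem_center (H : HeisType S Z) {x : Ω} (hx : x ∈ S)
    (h : ∀ y ∈ S, x * y = y * x) : x ∈ Z := by
  by_contra hxZ
  refine H.ne_bot (eq_bot_iff.mpr fun z hz => ?_)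
  obtain ⟨s, hs, e⟩ := H.surj x hx hxZ z hz
  rw [cj, show s * x * s⁻¹ = x from by rw [← h s hs, mul_inv_cancel_right]] at e
  simpa using e.symm

omit hp in
theorem HeisMax.exists_comm_eq (H : HeisType S Z) (hA : HeisMax S Z A) {s : Ω} (hs : s ∈ S)
    (hsA : s ∉ A) {z : Ω} (hz : z ∈ Z) : ∃ a ∈ A, a⁻¹ * cj s a = z := by
  obtain ⟨v, hv, hvZ⟩ := hA.exists_not_mem
  obtain ⟨a, ha, hav, e⟩ := H.surjIn v (hA.le hv) s hs
    (fun e => hsA (hA.self v hv hvZ s hs e.symm)) z hz
  exact ⟨a, hA.self v hv hvZ a ha hav, e⟩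

/-- The automorphisms in `G` stabilizing `A ≥ B ≥ 1`. -/
def chainStab (G : Subgroup (MulAut A)) (B : Subgroup Ω) : Subgroup (MulAut A) where
  carrier := {α | α ∈ G ∧ (∀ x ∈ A, x ∈ B → autFun α x = x) ∧ ∀ x ∈ A, x⁻¹ * autFun α x ∈ B}
  one_mem' := ⟨G.one_mem, fun x hx _ => autFun_one hx, fun x hx => by simp [autFun_one hx]⟩
  mul_mem' := by
    rintro α β ⟨hα, hα1, hα2⟩ ⟨hβ, hβ1, hβ2⟩
    refine ⟨G.mul_mem hα hβ, fun x hx hxB => ?_, fun x hx => ?_⟩
    · rw [autFun_mul _ _ hx, hβ1 x hx hxB, hα1 x hx hxB]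
    · have := B.mul_mem (hβ2 x hx) (hα2 _ (autFun_mem β hx))
      rw [autFun_mul _ _ hx]
      simpa [mul_assoc] using this
  inv_mem' := by
    rintro α ⟨hα, hα1, hα2⟩
    refine ⟨G.inv_mem hα, fun x hx hxB => ?_, fun x hx => ?_⟩
    · conv_lhs => rw [← hα1 x hx hxB]
      exact autFun_inv_left α hx
    · have := B.inv_mem (hα2 _ (autFun_mem α⁻¹ hx))
      rw [autFun_inv_right α hx] at this
      simpa using this

omit hp in
theorem mem_img_autFun {B : Subgroup Ω} (hAS : A ≤ S) (hB : B ≤ A) {g : MulAut A}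
    (hg : g ∈ F.autGroup A) {y : Ω} :
    y ∈ img B (autFun g) ↔ y ∈ A ∧ autFun g⁻¹ y ∈ B := by
  have hm := (isMor_autFun hAS hg).restrict hB
  rw [hm.mem_img]
  constructor
  · rintro ⟨x, hx, rfl⟩
    exact ⟨autFun_mem g (hB hx), by rwa [autFun_inv_left g (hB hx)]⟩
  · rintro ⟨hy, hyB⟩
    exact ⟨_, hyB, autFun_inv_right g hy⟩

/-- The orbit of `Z` under the automorphism group of a maximal abelian centric radical subgroup
has no common non-trivial subgroup invariant under that group. -/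
theorem heis_no_invariant [Finite S] (hS : IsPGroup p S) (hF : F.IsSaturated p)
    (H : HeisType S Z) (hA : HeisMax S Z A) (hc : F.IsCentric A) (hr : F.IsRadical p A)
    (hne : A ≠ S) {Q₀ : Subgroup Ω} (hQ : Q₀ ≤ Z) (hQne : Q₀ ≠ ⊥)
    (hinv : ∀ α ∈ F.autGroup A, ∀ x ∈ Q₀, autFun α x ∈ Q₀) : False := by
  have hAS := hA.le
  have hZA := hA.center_le
  have hAn : ∀ s ∈ S, s ∈ Subgroup.normalizer (A : Set Ω) := fun s hs =>
    (mem_normalizerIn.mp ((hA.normalizerIn_eq H).symm ▸ hs : s ∈ normalizerIn S A)).2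
  -- `Aut_S(A)` is the whole stabilizer of `A ≥ Z ≥ 1`
  have hsyl := (isFullyAutomized_iff.mp (isFullyAutomized_of_normalized (F := F) hS hF
    (isFullyNormalized_of_normal hAS (hA.normalizerIn_eq H))).1).2
  have hpK : ∀ B : Subgroup Ω, IsPGroup p (chainStab (F.autGroup A) B) := by
    intro B
    refine isPGroup_stabilizing hS hAS 2
      (fun i => if i = 0 then {1} else if i = 1 then (B : Set Ω) else (A : Set Ω))
      (by simp) (fun x hx => by simpa using hx) fun α hα i hi x hx hxW => ?_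
    obtain ⟨-, h1, h2⟩ := hα
    obtain rfl | rfl : i = 0 ∨ i = 1 := by omega
    · simp only [zero_add, one_ne_zero, if_false, if_true] at hxW
      simp [h1 x hx hxW]
    · simpa using h2 x hx
  have hautS : autInducedBy S A ≤ chainStab (F.autGroup A) Z := by
    intro α hα
    obtain ⟨s, hs, -, e⟩ := mem_autInducedBy.mp hα
    refine ⟨autInducedBy_le F hAS hα, fun x hx hxZ => ?_, fun x hx => ?_⟩
    · rw [e x hx, cj, ← H.central x hxZ s hs, mul_inv_cancel_right]
    · rw [e x hx]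
      exact H.comm_mem x (hAS hx) s hs
  have hKZ : chainStab (F.autGroup A) Z = autInducedBy S A :=
    hsyl.2.2 _ (hpK Z) hautS fun α hα => hα.1
  -- translates of `Z`
  let X : MulAut A → Subgroup Ω := fun g => img Z (autFun g)
  have hX : ∀ g ∈ F.autGroup A, ∀ y, y ∈ X g ↔ y ∈ A ∧ autFun g⁻¹ y ∈ Z := fun g hg y =>
    mem_img_autFun hAS hZA hg
  have hXS : ∀ g ∈ F.autGroup A, X g ≤ S := fun g hg x hx => hAS ((hX g hg x).mp hx).1
  have hXc : ∀ g ∈ F.autGroup A, Nat.card (X g) = Nat.card Z := fun g hg =>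
    ((isMor_autFun hAS hg).restrict hZA).card_img
  have hconjK : ∀ g ∈ F.autGroup A, ∀ k ∈ chainStab (F.autGroup A) Z,
      g * k * g⁻¹ ∈ chainStab (F.autGroup A) (X g) := by
    rintro g hg k ⟨hk, hk1, hk2⟩
    refine ⟨Subgroup.mul_mem _ (Subgroup.mul_mem _ hg hk) (Subgroup.inv_mem _ hg),
      fun x hx hxX => ?_, fun x hx => ?_⟩
    · have h := ((hX g hg x).mp hxX).2
      rw [autFun_mul _ _ hx, autFun_mul _ _ (autFun_mem g⁻¹ hx),
        hk1 _ (autFun_mem g⁻¹ hx) h, autFun_inv_right g hx]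
    · have hy := autFun_mem g⁻¹ hx
      have h := mem_img_of_mem (autFun g) (hk2 _ hy)
      rw [autFun_map_mul g (A.inv_mem hy) (autFun_mem k hy), autFun_inv_map g hy,
        autFun_inv_right g hx] at h
      rwa [autFun_mul _ _ hx, autFun_mul _ _ hy]
  have hconjK' : ∀ g ∈ F.autGroup A, ∀ k ∈ chainStab (F.autGroup A) (X g),
      g⁻¹ * k * g ∈ chainStab (F.autGroup A) Z := by
    rintro g hg k ⟨hk, hk1, hk2⟩
    refine ⟨Subgroup.mul_mem _ (Subgroup.mul_mem _ (Subgroup.inv_mem _ hg) hk) hg,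
      fun x hx hxZ => ?_, fun x hx => ?_⟩
    · rw [autFun_mul _ _ hx, autFun_mul _ _ (autFun_mem g hx),
        hk1 _ (autFun_mem g hx) (mem_img_of_mem _ hxZ), autFun_inv_left g hx]
    · have hy := autFun_mem g hx
      have h := ((hX g hg _).mp (hk2 _ hy)).2
      rw [autFun_map_mul g⁻¹ (A.inv_mem hy) (autFun_mem k hy), autFun_inv_map g⁻¹ hy,
        autFun_inv_left g hx] at h
      rwa [autFun_mul _ _ hx, autFun_mul _ _ hy]
  -- an element outside `A` cannot fix a translate other than `Z`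
  have hfix : ∀ g ∈ F.autGroup A, ∀ s ∈ S, s ∉ A → (∀ x ∈ X g, cj s x ∈ X g) → X g = Z := by
    intro g hg s hs hsA hst
    obtain ⟨α, hα, e⟩ := exists_autInducedBy hs (hAn s hs)
    have hαG := autInducedBy_le F hAS hα
    let K := chainStab (F.autGroup A) (X g)
    have hαX : ∀ x ∈ X g, autFun α x ∈ X g := fun x hx =>
      e x ((hX g hg x).mp hx).1 ▸ hst x hx
    have himg : img (X g) (autFun α) = X g :=
      ((isMor_autFun hAS hαG).restrict fun x hx => ((hX g hg x).mp hx).1).img_eq_self hαX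
    have hαX' : ∀ x ∈ X g, autFun α⁻¹ x ∈ X g := by
      intro x hx
      rw [← himg] at hx
      obtain ⟨y, hy, rfl⟩ :=
        ((isMor_autFun hAS hαG).restrict fun x hx => ((hX g hg x).mp hx).1).mem_img.mp hx
      rwa [autFun_inv_left α ((hX g hg y).mp hy).1]
    have hnorm : Subgroup.zpowers α ≤ Subgroup.normalizer (K : Set (MulAut A)) := by
      rw [Subgroup.zpowers_le, Subgroup.mem_normalizer_iff]
      have key : ∀ β ∈ F.autGroup A, (∀ x ∈ X g, autFun β x ∈ X g) →
          (∀ x ∈ X g, autFun β⁻¹ x ∈ X g) → ∀ k ∈ K, β * k * β⁻¹ ∈ K := by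
        rintro β hβ hb hb' k ⟨hk, hk1, hk2⟩
        refine ⟨Subgroup.mul_mem _ (Subgroup.mul_mem _ hβ hk) (Subgroup.inv_mem _ hβ),
          fun x hx hxX => ?_, fun x hx => ?_⟩
        · rw [autFun_mul _ _ hx, autFun_mul _ _ (autFun_mem β⁻¹ hx),
            hk1 _ (autFun_mem β⁻¹ hx) (hb' x hxX), autFun_inv_right β hx]
        · have hy := autFun_mem β⁻¹ hx
          have h := hb _ (hk2 _ hy)
          rw [autFun_map_mul β (A.inv_mem hy) (autFun_mem k hy), autFun_inv_map β hy,
            autFun_inv_right β hx] at h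
          rwa [autFun_mul _ _ hx, autFun_mul _ _ hy]
      refine fun k => ⟨key α hαG hαX hαX' k, fun hk => ?_⟩
      have := key α⁻¹ (Subgroup.inv_mem _ hαG) hαX' (by rwa [inv_inv]) _ hk
      simpa [mul_assoc] using this
    have hJp : IsPGroup p (K ⊔ Subgroup.zpowers α : Subgroup (MulAut A)) :=
      (hpK _).to_sup_of_normal_left'
        (isPGroup_of_le ((Subgroup.zpowers_le).mpr hα) (isPGroup_autInducedBy hS)) hnorm
    let c : MulAut A →* MulAut A := (MulAut.conj g⁻¹).toMonoidHom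
    have hJG : (K ⊔ Subgroup.zpowers α).map c ≤ F.autGroup A := by
      rintro _ ⟨k, hk, rfl⟩
      have hk' : k ∈ F.autGroup A :=
        sup_le (fun α hα => hα.1) ((Subgroup.zpowers_le).mpr hαG) hk
      simpa [c] using Subgroup.mul_mem _ (Subgroup.mul_mem _ (Subgroup.inv_mem _ hg) hk') hg
    have hle : autInducedBy S A ≤ (K ⊔ Subgroup.zpowers α).map c := by
      intro k hk
      rw [← hKZ] at hk
      exact ⟨g * k * g⁻¹, Subgroup.mem_sup_left (hconjK g hg k hk), by simp [c, mul_assoc]⟩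
    have heq := hsyl.2.2 _ (hJp.map c) hle hJG
    have hαK : α ∈ K := by
      have : c α ∈ autInducedBy S A :=
        heq ▸ Subgroup.mem_map_of_mem c (Subgroup.mem_sup_right (Subgroup.mem_zpowers α))
      rw [← hKZ] at this
      have := hconjK g hg _ this
      simpa [c, mul_assoc] using this
    have hle' : Z ≤ X g := by
      intro z hz
      obtain ⟨a, ha, rfl⟩ := hA.exists_comm_eq H hs hsA hz
      exact e a ha ▸ hαK.2.2 a ha
    exact (eq_of_le_of_card (hXS g hg) hle' (hXc g hg).le).symm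
  -- some translate differs from `Z`
  have hex : ∃ g ∈ F.autGroup A, X g ≠ Z := by
    by_contra hall
    push Not at hall
    obtain ⟨s, hs, hsA⟩ := SetLike.exists_of_lt (lt_of_le_of_ne hAS hne)
    refine hsA (mem_of_stabilizing hS hc hr 2 (fun i => if i = 0 then ⊥ else if i = 1 then Z else A)
      (fun α hα i x hx hxW => ?_) (by simp) (by simp) (mem_normalizerIn.mpr ⟨hs, hAn s hs⟩)
      fun i hi x hx hxW => ?_)
    · rcases i with _ | _ | i <;> simp at hxW ⊢
      · subst hxW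
        exact (isMor_autFun hAS hα).map_one
      · rw [← hall α hα]
        exact mem_img_of_mem _ hxW
      · exact autFun_mem α hx
    · obtain rfl | rfl : i = 0 ∨ i = 1 := by omega
      · simp at hxW ⊢
        rw [cj, ← H.central x hxW s hs, mul_inv_cancel_right, inv_mul_cancel]
      · simpa using H.comm_mem x (hAS hx) s hs
  have : Finite (MulAut A) := finite_mulAut hAS
  obtain ⟨g, ⟨hg, hgZ⟩, hmax⟩ := Set.exists_max_image {g | g ∈ F.autGroup A ∧ X g ≠ Z}
    (fun g => Nat.card ↥(Z ⊓ X g)) (Set.toFinite _) hex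
  obtain ⟨w, hwQ, hw1⟩ := (Subgroup.ne_bot_iff_exists_ne_one.mp hQne).elim
    fun w hw => (⟨w, w.2, fun e => hw (Subtype.ext e)⟩ : ∃ w ∈ Q₀, w ≠ (1 : Ω))
  have hwX : w ∈ X g := (hX g hg w).mpr
    ⟨hZA (hQ hwQ), hQ (hinv _ (Subgroup.inv_mem _ hg) w hwQ)⟩
  obtain ⟨a, haX, haZ⟩ : ∃ a ∈ X g, a ∉ Z := by
    by_contra h
    push Not at h
    exact hgZ (eq_of_le_of_card H.le h (hXc g hg).ge)
  have haA := ((hX g hg a).mp haX).1
  obtain ⟨s, hs, has⟩ := H.surj a (hAS haA) haZ w (hQ hwQ)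
  have hsA : s ∉ A := fun hsA => hw1 <| by
    rw [← has, cj, hA.comm s hsA a haA, mul_inv_cancel_right, inv_mul_cancel]
  obtain ⟨α, hα, e⟩ := exists_autInducedBy hs (hAn s hs)
  have hαG := autInducedBy_le F hAS hα
  have hαg : α * g ∈ F.autGroup A := Subgroup.mul_mem _ hαG hg
  have hXαg : ∀ x ∈ X g, cj s x ∈ X (α * g) := by
    intro x hx
    obtain ⟨hxA, hxZ⟩ := (hX g hg x).mp hx
    refine (hX _ hαg _).mpr ⟨hA.norm H hs hxA, ?_⟩
    rw [← e x hxA, mul_inv_rev, autFun_mul _ _ (autFun_mem α hxA), autFun_inv_left α hxA]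
    exact hxZ
  have hne' : X (α * g) ≠ X g := fun h =>
    hgZ (hfix g hg s hs hsA fun x hx => h ▸ hXαg x hx)
  let W' : Subgroup Ω := X g ⊓ X (α * g)
  have hsub : Z ⊓ X g ≤ W' := fun x hx => ⟨hx.2, by
    have := hXαg x hx.2
    rwa [cj, ← H.central x hx.1 s hs, mul_inv_cancel_right] at this⟩
  have hlt : Nat.card ↥(Z ⊓ X g) < Nat.card W' := by
    refine card_lt_of_lt (inf_le_left.trans (hXS g hg)) (lt_of_le_of_ne hsub fun h => haZ ?_)
    have hmem : cj s a ∈ W' :=
      ⟨by rw [← mul_inv_cancel_left a (cj s a), has]; exact (X g).mul_mem haX hwX,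
        hXαg a haX⟩
    rw [← h] at hmem
    have := Z.mul_mem hmem.1 (Z.inv_mem (hQ hwQ))
    rwa [← has, mul_inv_rev, inv_inv, mul_inv_cancel_left] at this
  have hginv := Subgroup.inv_mem _ hg
  have hg' : g⁻¹ * (α * g) ∈ F.autGroup A := Subgroup.mul_mem _ hginv hαg
  have hW'A : W' ≤ A := fun x hx => ((hX g hg x).mp hx.1).1
  have himg : img W' (autFun g⁻¹) ≤ Z ⊓ X (g⁻¹ * (α * g)) := img_le fun x hx => by
    obtain ⟨hxA, hxZ⟩ := (hX g hg x).mp hx.1
    obtain ⟨-, hxZ'⟩ := (hX _ hαg x).mp hx.2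
    refine ⟨hxZ, (hX _ hg' _).mpr ⟨autFun_mem _ hxA, ?_⟩⟩
    rw [mul_inv_rev, inv_inv, autFun_mul _ _ (autFun_mem _ hxA), autFun_inv_right g hxA]
    exact hxZ'
  have := finite_of_le (P := Z ⊓ X (g⁻¹ * (α * g))) (S := S) (inf_le_left.trans H.le)
  have hle := Subgroup.card_le_of_le himg
  rw [((isMor_autFun hAS hginv).restrict hW'A).card_img] at hle
  have hne'' : X (g⁻¹ * (α * g)) ≠ Z := by
    intro h
    refine hne' (eq_of_le_of_card (hXS g hg) (fun y hy => ?_) (by rw [hXc g hg, hXc _ hαg]))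
    obtain ⟨hyA, hyZ⟩ := (hX _ hαg y).mp hy
    refine (hX g hg y).mpr ⟨hyA, ?_⟩
    rw [← h]
    refine (hX _ hg' _).mpr ⟨autFun_mem _ hyA, ?_⟩
    rw [mul_inv_rev, inv_inv, autFun_mul _ _ (autFun_mem _ hyA), autFun_inv_right g hyA]
    exact hyZ
  exact absurd ((hlt.trans_le hle).trans_le (hmax _ ⟨hg', hne''⟩)) (lt_irrefl _)

/-- A proper centric radical subgroup is maximal abelian. -/
theorem heisMax_of_centric_radical [Finite S] (hS : IsPGroup p S) (H : HeisType S Z)
    {P : Subgroup Ω} (hc : F.IsCentric P) (hr : F.IsRadical p P) (hne : P ≠ S) :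
    HeisMax S Z P := by
  have hP := hc.1
  have hcl : ∀ x ∈ S, (∀ y ∈ P, x * y = y * x) → x ∈ P := fun x hx h =>
    centric_centralizer_le hc (mem_centralizerIn.mpr ⟨hx, fun y hy => by
      rw [cj, h y hy, mul_inv_cancel_right]⟩)
  have hZP : Z ≤ P := fun z hz => hcl z (H.le hz) fun y hy => H.central z hz y (hP hy)
  have hnZ : ∃ a ∈ P, a ∉ Z := by
    by_contra h
    push Not at h
    exact hne (le_antisymm hP fun x hx => hcl x hx fun y hy => (H.central y (h y hy) x hx).symm)
  have hab : ∀ x ∈ P, ∀ y ∈ P, x * y = y * x := by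
    by_contra hnab
    -- then the centre of `P` is `Z`
    have hctr : ∀ w ∈ P, (∀ x ∈ P, w * x = x * w) → w ∈ Z := by
      intro w hw hwc
      by_contra hwZ
      exact hnab fun x hx y hy =>
        H.trans w (hP hw) hwZ x (hP hx) y (hP hy) (hwc x hx) (hwc y hy)
    obtain ⟨s, hs, hsP⟩ := SetLike.exists_of_lt (lt_of_le_of_ne hP hne)
    have hPn : normalizerIn S P = S := mem_normalizer_of_conj_le fun t ht => img_le fun x hx => by
      have := P.mul_mem hx (hZP (H.comm_mem x (hP hx) t ht))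
      rwa [mul_inv_cancel_left] at this
    refine hsP (mem_of_stabilizing hS hc hr 2 (fun i => if i = 0 then ⊥ else if i = 1 then Z else P)
      (fun α hα i x hx hxW => ?_) (by simp) (by simp) (hPn.symm ▸ hs) fun i hi x hx hxW => ?_)
    · rcases i with _ | _ | i <;> simp at hxW ⊢
      · subst hxW
        exact (isMor_autFun hP hα).map_one
      · refine hctr _ (autFun_mem α hx) fun y hy => ?_
        rw [← autFun_inv_right α hy, ← autFun_map_mul α hx (autFun_mem _ hy),
          ← autFun_map_mul α (autFun_mem _ hy) hx,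
          H.central x hxW _ (hP (autFun_mem _ hy))]
      · exact autFun_mem α hx
    · obtain rfl | rfl : i = 0 ∨ i = 1 := by omega
      · simp at hxW ⊢
        rw [cj, ← H.central x hxW s hs, mul_inv_cancel_right, inv_mul_cancel]
      · simpa using H.comm_mem x (hP hx) s hs
  refine ⟨hP, hZP, hab, fun a ha haZ x hx hxa => hcl x hx fun y hy => ?_, hnZ⟩
  exact H.trans a (hP ha) haZ x hx y (hP hy) hxa.symm (hab a ha y hy)

/-- An exotic system over a group of Heisenberg type has trivial core. -/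
theorem core_eq_bot_of_heisType [Finite S] (hS : IsPGroup p S) (hF : F.IsSaturated p)
    (H : HeisType S Z) (hex : ¬ F.IsRealizable p) : F.core = ⊥ := by
  by_contra hQ
  by_cases hone : ∀ P R : Subgroup Ω, F.IsCentric P → F.IsRadical p P → P ≠ S →
      F.IsCentric R → F.IsRadical p R → R ≠ S → P = R
  · -- at most one: the system is constrained
    apply hex
    obtain ⟨U, hUc, hU⟩ : ∃ U, F.IsCentric U ∧ F.IsNormal U := by
      by_cases h1 : ∃ P, F.IsCentric P ∧ F.IsRadical p P ∧ P ≠ S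
      · obtain ⟨A, hc, hr, hne⟩ := h1
        refine ⟨A, hc, isNormal_of_invariant hS hF fun P hP => ?_⟩
        rcases hP with rfl | hP
        · refine ⟨hc.1, fun α hα x hx => ?_⟩
          have hm := (isMor_autFun le_rfl hα).restrict hc.1
          have hne' : img A (autFun α) ≠ P := fun e =>
            hne (eq_of_le_of_card le_rfl hc.1 (by rw [← hm.card_img, e]))
          rw [hone A _ hc hr hne (centric_of_isConj hc (isConj_img hm))
            (radical_of_map hS hr hm) hne']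
          exact mem_img_of_mem _ hx
        · obtain rfl : P = A := hone P A hP.1 (essential_radical hS hP)
            (essential_lt hS hF hP).ne hc hr hne
          exact ⟨le_rfl, fun α _ x hx => autFun_mem α hx⟩
      · refine ⟨S, centric_self F, isNormal_of_invariant hS hF fun P hP => ?_⟩
        obtain rfl : P = S := by
          rcases hP with rfl | hP
          · rfl
          · exact absurd ⟨P, hP.1, essential_radical hS hP, (essential_lt hS hF hP).ne⟩ h1
        exact ⟨le_rfl, fun α _ x hx => autFun_mem α hx⟩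
    obtain ⟨G, hG, ι, hfin, hreal, hsyl, -⟩ := exists_model hS ⟨hF, U, hU, hUc⟩
    exact ⟨G, hG, hfin, ι, hreal, hsyl⟩
  · push Not at hone
    obtain ⟨P, R, hPc, hPr, hPne, hRc, hRr, hRne, hPR⟩ := hone
    have hPm := heisMax_of_centric_radical hS H hPc hPr hPne
    have hRm := heisMax_of_centric_radical hS H hRc hRr hRne
    have hN := isNormal_core F
    have hQP := le_of_normal_of_radical hS hN hPc hPr
    have hQR := le_of_normal_of_radical hS hN hRc hRr
    have hQZ : F.core ≤ Z := fun x hx => by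
      by_contra hxZ
      refine hPR (le_antisymm (fun y hy => ?_) fun y hy => ?_)
      · exact hRm.self x (hQR hx) hxZ y (hPm.le hy) (hPm.comm y hy x (hQP hx))
      · exact hPm.self x (hQP hx) hxZ y (hRm.le hy) (hRm.comm y hy x (hQR hx))
    exact heis_no_invariant hS hF H hPm hPc hPr hPne hQZ hQ fun α hα x hx =>
      (stronglyClosed_iff.mp (isNormal_stronglyClosed hN)).2 P _ (isMor_autFun hPm.le hα) x
        (hQP hx) hx

end CfsgLib.Fusion
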