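import Mathlib
import Cfsg.Agent.Lib.Fusion.HeisenbergCore
import Cfsg.Agent.Lib.Classical.Order

/-! The Sylow subgroup of `SL₃` in defining characteristic is of Heisenberg type. -/

set_option autoImplicit false

namespace CfsgLib.Fusion

open Cfsg Cfsg.FusionSystem

section Coords

variable {Ω : Type*} [Group Ω] {S : Subgroup Ω} {K : Type*} [Field K]

/-- Multiplication of Heisenberg coordinates. -/
def heisMul (x y : K × K × K) : K × K × K :=
  (x.1 + y.1, x.2.1 + y.2.1, x.2.2 + y.2.2 + x.1 * y.2.1)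

variable {f : K × K × K → Ω}

theorem heis_one (hinj : Function.Injective f) (hmul : ∀ x y, f x * f y = f (heisMul x y)) :
    f (0, 0, 0) = 1 := by
  have h := hmul (0, 0, 0) (0, 0, 0)
  simp only [heisMul, add_zero, mul_zero] at h
  exact mul_left_cancel (h.trans (mul_one _).symm)

theorem heis_inv (hinj : Function.Injective f) (hmul : ∀ x y, f x * f y = f (heisMul x y))
    (a b c : K) : (f (a, b, c))⁻¹ = f (-a, -b, a * b - c) := by
  refine inv_eq_of_mul_eq_one_right ?_
  rw [hmul, ← heis_one hinj hmul]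
  congr 1
  simp only [heisMul, Prod.mk.injEq]
  exact ⟨by ring, by ring, by ring⟩

theorem heis_comm_iff (hinj : Function.Injective f) (hmul : ∀ x y, f x * f y = f (heisMul x y))
    (a b c a' b' c' : K) :
    f (a, b, c) * f (a', b', c') = f (a', b', c') * f (a, b, c) ↔ a * b' = a' * b := by
  rw [hmul, hmul, hinj.eq_iff]
  simp only [heisMul, Prod.mk.injEq, add_comm a a', add_comm b b', add_comm c c', true_and,
    add_right_inj]

theorem heis_comm (hinj : Function.Injective f) (hmul : ∀ x y, f x * f y = f (heisMul x y))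
    (a b c a' b' c' : K) :
    (f (a, b, c))⁻¹ * cj (f (a', b', c')) (f (a, b, c)) = f (0, 0, a' * b - a * b') := by
  rw [cj, heis_inv hinj hmul, heis_inv hinj hmul, hmul, hmul, hmul]
  congr 1
  simp only [heisMul, Prod.mk.injEq]
  exact ⟨by ring, by ring, by ring⟩

/-- A group with Heisenberg coordinates is of Heisenberg type. -/
theorem exists_heisType (hinj : Function.Injective f)
    (hmul : ∀ x y, f x * f y = f (heisMul x y)) (hrange : ∀ x, x ∈ S ↔ ∃ t, f t = x) :
    ∃ Z : Subgroup Ω, HeisType S Z := by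
  have hone := heis_one hinj hmul
  let Z : Subgroup Ω :=
    { carrier := {x | ∃ c, f (0, 0, c) = x}
      one_mem' := ⟨0, hone⟩
      mul_mem' := by
        rintro _ _ ⟨c, rfl⟩ ⟨d, rfl⟩
        exact ⟨c + d, by rw [hmul]; simp [heisMul]⟩
      inv_mem' := by
        rintro _ ⟨c, rfl⟩
        exact ⟨-c, by rw [heis_inv hinj hmul]; simp⟩ }
  have hS : ∀ t, f t ∈ S := fun t => (hrange _).mpr ⟨t, rfl⟩
  refine ⟨Z, ⟨?_, ?_, ?_, ?_, ?_, ?_, ?_⟩⟩
  · rintro _ ⟨c, rfl⟩
    exact hS _
  · intro h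
    have h1 : f (0, 0, 1) ∈ Z := ⟨1, rfl⟩
    rw [h, Subgroup.mem_bot, ← hone, hinj.eq_iff] at h1
    simp at h1
  · rintro _ ⟨c, rfl⟩ s hs
    obtain ⟨⟨a, b, c'⟩, rfl⟩ := (hrange s).mp hs
    rw [heis_comm_iff hinj hmul]
    simp
  · intro x hx s hs
    obtain ⟨⟨a, b, c⟩, rfl⟩ := (hrange x).mp hx
    obtain ⟨⟨a', b', c'⟩, rfl⟩ := (hrange s).mp hs
    exact ⟨_, (heis_comm hinj hmul a b c a' b' c').symm⟩
  · intro x hx hxZ z hz
    obtain ⟨⟨a, b, c⟩, rfl⟩ := (hrange x).mp hx
    obtain ⟨t, rfl⟩ := hz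
    by_cases hb : b = 0
    · subst hb
      have ha : a ≠ 0 := fun e => hxZ ⟨c, by rw [e]⟩
      refine ⟨f (0, -(t / a), 0), hS _, ?_⟩
      rw [heis_comm hinj hmul]
      congr 3
      field_simp
      ring
    · refine ⟨f (t / b, 0, 0), hS _, ?_⟩
      rw [heis_comm hinj hmul]
      congr 3
      field_simp
      ring
  · intro v hv s hs hne z hz
    obtain ⟨⟨a, b, c⟩, rfl⟩ := (hrange v).mp hv
    obtain ⟨⟨a', b', c'⟩, rfl⟩ := (hrange s).mp hs
    obtain ⟨t, rfl⟩ := hz
    rw [ne_eq, heis_comm_iff hinj hmul] at hne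
    have hd : a' * b - a * b' ≠ 0 := fun e => hne (by linear_combination -e)
    refine ⟨f (t / (a' * b - a * b') * a, t / (a' * b - a * b') * b, 0), hS _, ?_, ?_⟩
    · rw [heis_comm_iff hinj hmul]
      ring
    · rw [heis_comm hinj hmul]
      congr 3
      field_simp
  · intro v hv hvZ w hw x hx hvw hvx
    obtain ⟨⟨a, b, c⟩, rfl⟩ := (hrange v).mp hv
    obtain ⟨⟨a', b', c'⟩, rfl⟩ := (hrange w).mp hw
    obtain ⟨⟨a'', b'', c''⟩, rfl⟩ := (hrange x).mp hx
    rw [heis_comm_iff hinj hmul] at hvw hvx ⊢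
    rcases em (a = 0) with ha | ha
    · have hb : b ≠ 0 := fun e => hvZ ⟨c, by rw [ha, e]⟩
      subst ha
      apply mul_left_cancel₀ hb
      linear_combination b' * hvx - b'' * hvw
    · apply mul_left_cancel₀ ha
      linear_combination a' * hvx - a'' * hvw

end Coords

section SL

variable {K : Type*} [Field K]

/-- Upper unitriangular matrices in `SL₃`. -/
def uniThree (t : K × K × K) : Matrix.SpecialLinearGroup (Fin 3) K :=
  ⟨!![1, t.1, t.2.2; 0, 1, t.2.1; 0, 0, 1], by simp [Matrix.det_fin_three]⟩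

theorem uniThree_mul (x y : K × K × K) : uniThree x * uniThree y = uniThree (heisMul x y) := by
  refine Subtype.ext ?_
  show (!![1, x.1, x.2.2; 0, 1, x.2.1; 0, 0, 1] : Matrix (Fin 3) (Fin 3) K) *
    !![1, y.1, y.2.2; 0, 1, y.2.1; 0, 0, 1] = _
  ext i j
  fin_cases i <;> fin_cases j <;>
    simp [uniThree, heisMul, Matrix.mul_apply, Fin.sum_univ_three] <;> ring

theorem uniThree_injective : Function.Injective (uniThree (K := K)) := by
  intro x y h
  have h' := congrArg Subtype.val h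
  have h01 := congrFun (congrFun h' 0) 1
  have h02 := congrFun (congrFun h' 0) 2
  have h12 := congrFun (congrFun h' 1) 2
  simp [uniThree] at h01 h02 h12
  exact Prod.ext h01 (Prod.ext h12 h02)

variable (K) in
/-- The subgroup of upper unitriangular matrices. -/
def uniThreeSubgroup : Subgroup (Matrix.SpecialLinearGroup (Fin 3) K) where
  carrier := Set.range uniThree
  one_mem' := ⟨(0, 0, 0), heis_one uniThree_injective uniThree_mul⟩
  mul_mem' := by
    rintro _ _ ⟨x, rfl⟩ ⟨y, rfl⟩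
    exact ⟨_, (uniThree_mul x y).symm⟩
  inv_mem' := by
    rintro _ ⟨⟨a, b, c⟩, rfl⟩
    exact ⟨_, (heis_inv uniThree_injective uniThree_mul a b c).symm⟩

theorem card_uniThreeSubgroup [Finite K] :
    Nat.card (uniThreeSubgroup K) = Nat.card K ^ 3 := by
  show Nat.card (Set.range (uniThree (K := K))) = _
  rw [← Nat.card_congr (Equiv.ofInjective _ (uniThree_injective (K := K)))]
  simp [Nat.card_prod]
  ring

/-- The unitriangular Sylow subgroup. -/
theorem exists_sylow_uniThree [Finite K] (p : ℕ) [Fact p.Prime] [CharP K p] :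
    ∃ U : Sylow p (Matrix.SpecialLinearGroup (Fin 3) K),
      (U : Subgroup _) = uniThreeSubgroup K := by
  have := Fintype.ofFinite K
  obtain ⟨n, hp, hn⟩ := FiniteField.card K p
  have hq : Nat.card K = p ^ (n : ℕ) := by rw [Nat.card_eq_fintype_card, hn]
  have hU : IsPGroup p (uniThreeSubgroup K) :=
    IsPGroup.of_card (n := (n : ℕ) * 3) (by rw [card_uniThreeSubgroup, hq, pow_mul])
  have hidx : (uniThreeSubgroup K).index = (Nat.card K ^ 2 - 1) * (Nat.card K ^ 3 - 1) := by
    refine Nat.eq_of_mul_eq_mul_left (Nat.card_pos (α := uniThreeSubgroup K)) ?_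
    rw [Subgroup.card_mul_index, CfsgLib.Classical.card_SL_fin', card_uniThreeSubgroup]
    simp [Finset.prod_range_succ]
  refine ⟨hU.toSylow ?_, rfl⟩
  rw [hidx]
  intro hd
  obtain ⟨k, hk, h⟩ : ∃ k, k ≠ 0 ∧ p ∣ Nat.card K ^ k - 1 := by
    rcases (Fact.out : p.Prime).dvd_mul.mp hd with h | h
    exacts [⟨2, two_ne_zero, h⟩, ⟨3, three_ne_zero, h⟩]
  · have h1 : p ∣ Nat.card K := hq ▸ dvd_pow_self p n.ne_zero
    have h2 : 1 ≤ Nat.card K := Nat.card_pos
    have h3 := Nat.dvd_sub (dvd_pow h1 hk) h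
    rw [Nat.sub_sub_self (Nat.one_le_pow _ _ h2)] at h3
    exact (Fact.out : p.Prime).one_lt.ne' (Nat.dvd_one.mp h3)

/-- A group isomorphic to a Sylow subgroup of `SL₃` in defining characteristic is of Heisenberg
type. -/
theorem exists_heisType_SL [Finite K] {Ω : Type*} [Group Ω] {S : Subgroup Ω} (p : ℕ)
    [Fact p.Prime] [CharP K p] (T : Sylow p (Matrix.SpecialLinearGroup (Fin 3) K))
    (e : ↥S ≃* ↥(T : Subgroup (Matrix.SpecialLinearGroup (Fin 3) K))) :
    ∃ Z : Subgroup Ω, HeisType S Z := by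
  obtain ⟨U, hU⟩ := exists_sylow_uniThree (K := K) p
  let e' : ↥(uniThreeSubgroup K) ≃* ↥S :=
    ((MulEquiv.subgroupCongr hU.symm).trans (Sylow.equiv U T)).trans e.symm
  refine exists_heisType (f := fun t => ((e' ⟨uniThree t, t, rfl⟩ : S) : Ω)) ?_ ?_ ?_
  · exact fun x y h => uniThree_injective
      (congrArg Subtype.val (e'.injective (Subtype.ext h)))
  · intro x y
    simp only [← uniThree_mul]
    rw [← Subgroup.coe_mul, ← map_mul]
    rfl
  · intro x
    refine ⟨fun hx => ?_, ?_⟩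
    · obtain ⟨⟨-, t, rfl⟩, ht⟩ := e'.surjective ⟨x, hx⟩
      exact ⟨t, congrArg Subtype.val ht⟩
    · rintro ⟨t, rfl⟩
      exact SetLike.coe_mem _

end SL

end CfsgLib.Fusion
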