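import Cfsg.Agent.Lib.Fusion.IntersectionQuad
import Cfsg.Agent.Lib.Fusion.ThinThompson

/-! The axiomatic Glauberman–Thompson criterion for a family of abelian subgroups. -/
set_option autoImplicit false

universe u v

namespace CfsgLib.Fusion.Intersection

open Cfsg
open scoped commutatorElement

variable {G : Type u} [Group G]

/-- The intersection of the members inside `Q`. -/
def inter (𝒜 : Set (Subgroup G)) (Q : Subgroup G) : Subgroup G :=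
  ⨅ A ∈ {A : Subgroup G | A ∈ 𝒜 ∧ A ≤ Q}, A

theorem mem_inter {𝒜 : Set (Subgroup G)} {Q : Subgroup G} {x : G} :
    x ∈ inter 𝒜 Q ↔ ∀ A ∈ 𝒜, A ≤ Q → x ∈ A := by
  simp [inter, Subgroup.mem_iInf]

/-- The axioms for a family of abelian subgroups of a Sylow subgroup `T`. -/
structure Axioms (𝒜 : Set (Subgroup G)) (T : Subgroup G) : Prop where
  le : ∀ A ∈ 𝒜, A ≤ T ∧ IsMulCommutative A
  ne : 𝒜.Nonempty
  inv : ∀ Q : Subgroup G, Q ≤ T → (∃ A ∈ 𝒜, A ≤ Q) → ∀ g ∈ Subgroup.normalizer (Q : Set G),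
    ∀ x ∈ inter 𝒜 Q, g * x * g⁻¹ ∈ inter 𝒜 Q
  rep : ∀ B : Subgroup G, B ≤ T → ⁅⁅B, B⁆, B⁆ = ⊥ → (∃ A ∈ 𝒜, ⁅B, B⁆ ≤ A ∧ ¬ B ≤ A) →
    ∃ A ∈ 𝒜, ⁅B, B⁆ ≤ A ∧ ¬ B ≤ A ∧ B ≤ Subgroup.normalizer (A : Set G)

theorem Axioms.restrict {𝒜 : Set (Subgroup G)} {T L : Subgroup G} (h : Axioms 𝒜 T) (hTL : T ≤ L) :
    Axioms ((fun A => A.subgroupOf L) '' 𝒜) (T.subgroupOf L) := by
  have hmap : ∀ A ∈ 𝒜, (A.subgroupOf L).map L.subtype = A := fun A hA =>
    Subgroup.map_subgroupOf_eq_of_le ((h.le A hA).1.trans hTL)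
  have hiff : ∀ A ∈ 𝒜, ∀ Q : Subgroup L, A.subgroupOf L ≤ Q ↔ A ≤ Q.map L.subtype :=
    fun A hA Q => by
      rw [← Subgroup.map_le_map_iff_of_injective L.subtype_injective, hmap A hA]
  have hTmap : ∀ Q : Subgroup L, Q ≤ T.subgroupOf L → Q.map L.subtype ≤ T := by
    rintro Q hQ _ ⟨x, hx, rfl⟩; exact hQ hx
  refine ⟨?_, h.ne.image _, ?_, ?_⟩
  · rintro _ ⟨A, hA, rfl⟩
    exact ⟨fun x hx => (h.le A hA).1 hx,
      ⟨⟨fun a b => Subtype.ext (Subtype.ext (congrArg Subtype.val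
        ((h.le A hA).2.is_comm.comm (⟨_, a.2⟩ : A) ⟨_, b.2⟩) :))⟩⟩⟩
  · rintro Q hQ ⟨_, ⟨A, hA, rfl⟩, hAQ⟩ g hg x hx
    rw [mem_inter] at hx ⊢
    rintro _ ⟨A', hA', rfl⟩ hAQ'
    refine mem_inter.mp (h.inv _ (hTmap Q hQ) ⟨A, hA, (hiff A hA Q).mp hAQ⟩ g
      (Subgroup.le_normalizer_map L.subtype ⟨g, hg, rfl⟩) (x : G) ?_) A' hA' ((hiff A' hA' Q).mp hAQ')
    exact mem_inter.mpr fun B hB hBQ => hx _ ⟨B, hB, rfl⟩ ((hiff B hB Q).mpr hBQ)
  · rintro B hB hcl ⟨_, ⟨A, hA, rfl⟩, h1, h2⟩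
    have hB' := hTmap B hB
    have hcomm : ⁅B, B⁆.map L.subtype = ⁅B.map L.subtype, B.map L.subtype⁆ :=
      Subgroup.map_commutator _ _ _
    have hcl' : ⁅⁅B.map L.subtype, B.map L.subtype⁆, B.map L.subtype⁆ = ⊥ := by
      rw [← hcomm, ← Subgroup.map_commutator, hcl, Subgroup.map_bot]
    have key : ∀ A ∈ 𝒜, ∀ C : Subgroup L, C ≤ A.subgroupOf L ↔ C.map L.subtype ≤ A := by
      intro A hA C
      rw [← Subgroup.map_le_map_iff_of_injective L.subtype_injective, hmap A hA]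
    obtain ⟨A', hA', h3, h4, h5⟩ := h.rep _ hB' hcl'
      ⟨A, hA, hcomm ▸ (key A hA _).mp h1, fun hle => h2 ((key A hA B).mpr hle)⟩
    refine ⟨_, ⟨A', hA', rfl⟩, (key A' hA' _).mpr (hcomm.symm ▸ h3),
      fun hle => h4 ((key A' hA' B).mp hle), fun b hb => ?_⟩
    exact Subgroup.mem_normalizer_iff.mpr fun y =>
      Subgroup.mem_normalizer_iff.mp (h5 ⟨b, hb, rfl⟩) (y : G)

variable {p : ℕ} [hp : Fact p.Prime]

/-- The group criterion. -/
theorem eq_top_aux (hp2 : p ≠ 2) (n : ℕ) : ∀ (G : Type u) [Group G] [Finite G], Nat.card G = n →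
    ∀ (T : Sylow p G) (𝒜 : Set (Subgroup G)), Axioms 𝒜 (T : Subgroup G) →
      Subgroup.centralizer ((pCore p G : Subgroup G) : Set G) ≤ pCore p G →
      Subgroup.normalizer (inter 𝒜 (T : Subgroup G) : Set G) ≤ (T : Subgroup G) →
      (T : Subgroup G) = ⊤ := by
  induction n using Nat.strong_induction_on with
  | _ n IH =>
  intro G _ _ hn T 𝒜 h𝒜 hself hN
  by_contra hTtop
  set I := inter 𝒜 (T : Subgroup G) with hI
  set Q := pCore p G with hQ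
  have hQT : Q ≤ (T : Subgroup G) := CfsgLib.Base.pCore_le_sylow T
  obtain ⟨A₀, hA₀⟩ := h𝒜.ne
  have hIA : ∀ A ∈ 𝒜, I ≤ A := fun A hA x hx => mem_inter.mp hx A hA (h𝒜.le A hA).1
  have hIT : I ≤ (T : Subgroup G) := (hIA A₀ hA₀).trans (h𝒜.le A₀ hA₀).1
  have hIinv : ∀ g ∈ Subgroup.normalizer ((T : Subgroup G) : Set G), ∀ x ∈ I, g * x * g⁻¹ ∈ I :=
    h𝒜.inv _ le_rfl ⟨A₀, hA₀, (h𝒜.le A₀ hA₀).1⟩
  have hTI : ∀ t ∈ (T : Subgroup G), ∀ x ∈ I, t * x * t⁻¹ ∈ I := fun t ht =>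
    hIinv t (Subgroup.le_normalizer ht)
  have hnot : ¬ I.Normal := fun hn => hTtop (top_le_iff.mp
    (by rwa [Subgroup.normalizer_eq_top_iff.2 hn] at hN))
  -- proper subgroups over `T`
  have hmax : ∀ L : Subgroup G, (T : Subgroup G) ≤ L → L ≠ ⊤ → L ≤ (T : Subgroup G) := by
    intro L hTL hne
    have hlt : Nat.card L < n := hn ▸ lt_of_le_of_ne (Subgroup.card_le_card_group _)
      (fun e => hne (Subgroup.eq_top_of_card_eq _ e))
    have hQ' : Q.subgroupOf L ≤ pCore p L := le_sSup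
      ⟨(inferInstance : Q.Normal).subgroupOf L,
        (T.2.to_le hQT).comap_of_injective _ L.subtype_injective⟩
    have hc : Subgroup.centralizer ((pCore p L : Subgroup L) : Set L) ≤ pCore p L := fun x hx => by
      refine hQ' (hself fun q hq => ?_)
      exact congrArg Subtype.val (hx ⟨q, hTL (hQT hq)⟩ (hQ' hq))
    have hnorm : Subgroup.normalizer (inter ((fun A => A.subgroupOf L) '' 𝒜)
        ((T.subtype hTL : Sylow p L) : Subgroup L) : Set L) ≤ ((T.subtype hTL : Sylow p L) : Subgroup L) := by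
      have hmem : ∀ y : L, y ∈ inter ((fun A => A.subgroupOf L) '' 𝒜)
          ((T.subtype hTL : Sylow p L) : Subgroup L) ↔ (y : G) ∈ I := by
        intro y
        rw [mem_inter, hI, mem_inter]
        constructor
        · exact fun hy A hA hAT => hy _ ⟨A, hA, rfl⟩ fun z hz => hAT hz
        · rintro hy _ ⟨A, hA, rfl⟩ -
          exact hy A hA (h𝒜.le A hA).1
      intro x hx
      refine hN (Subgroup.mem_normalizer_iff.mpr fun y => ⟨fun hy => ?_, fun hy => ?_⟩)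
      · exact (hmem _).mp ((Subgroup.mem_normalizer_iff.mp hx ⟨y, hTL (hIT hy)⟩).mp
          ((hmem _).mpr hy))
      · have hyL : y ∈ L := by
          have := L.mul_mem (L.mul_mem (L.inv_mem x.2) (hTL (hIT hy))) x.2
          simpa [mul_assoc] using this
        exact (hmem _).mp ((Subgroup.mem_normalizer_iff.mp hx ⟨y, hyL⟩).mpr ((hmem _).mpr hy))
    have key := IH _ hlt L rfl (T.subtype hTL) _ (h𝒜.restrict hTL) hc hnorm
    exact fun x hx => key.ge (Subgroup.mem_top (⟨x, hx⟩ : L))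
  -- quadratic elements on `Q`
  have hQq : ∀ a ∈ (T : Subgroup G),
      (∀ b ∈ Q, a * (a * b * a⁻¹ * b⁻¹) = (a * b * a⁻¹ * b⁻¹) * a) → a ∈ Q := fun a ha h =>
    (quad_mem_pCore hp2 T hmax le_rfl ha h).resolve_right fun e =>
      hTtop (top_le_iff.mp (e ▸ sup_le (hself.trans hQT) le_rfl))
  have hIQ : I ≤ Q := fun a ha => hQq a (hIT ha) fun b hb => by
    have h1 : b * a⁻¹ * b⁻¹ ∈ I := hTI b (hQT hb) _ (I.inv_mem ha)
    have h2 : a * b * a⁻¹ * b⁻¹ ∈ A₀ := by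
      rw [show a * b * a⁻¹ * b⁻¹ = a * (b * a⁻¹ * b⁻¹) by group]
      exact hIA A₀ hA₀ (I.mul_mem ha h1)
    exact congrArg Subtype.val ((h𝒜.le A₀ hA₀).2.is_comm.comm ⟨a, hIA A₀ hA₀ ha⟩ ⟨_, h2⟩)
  -- a smallest normal subgroup meeting `I` in a non-normal subgroup
  have hne : {M : Subgroup G | M.Normal ∧ M ≤ Q ∧ ¬ (M ⊓ I).Normal}.Nonempty :=
    ⟨Q, inferInstance, le_rfl, by rwa [inf_eq_right.mpr hIQ]⟩
  obtain ⟨B, ⟨hBn, hBQ, hBI⟩, hmin⟩ := Set.exists_min_image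
    {M : Subgroup G | M.Normal ∧ M ≤ Q ∧ ¬ (M ⊓ I).Normal} (fun M => Nat.card M) (Set.toFinite _) hne
  set D := B ⊓ I with hD
  have hBclo : Subgroup.normalClosure (D : Set G) = B := by
    have hle : Subgroup.normalClosure (D : Set G) ≤ B :=
      Subgroup.normalClosure_le_normal (inf_le_left : D ≤ B)
    refine Subgroup.eq_of_le_of_card_ge hle (hmin _ ⟨Subgroup.normalClosure_normal, hle.trans hBQ, ?_⟩)
    rwa [show Subgroup.normalClosure (D : Set G) ⊓ I = D from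
      le_antisymm (inf_le_inf_right I hle) (le_inf Subgroup.subset_normalClosure inf_le_right)]
  have hB1 : B ≠ ⊥ := fun h => hBI (by rw [hD, h, bot_inf_eq]; infer_instance)
  have hBlt : ⁅B, B⁆ < B := by
    refine lt_of_le_of_ne (Subgroup.commutator_le_self B) fun e => hB1 ?_
    have hnil : Group.IsNilpotent B := (T.2.to_le (hBQ.trans hQT)).isNilpotent
    obtain ⟨k, hk⟩ := (Subgroup.isNilpotent_iff_lowerCentralSeries B).mp hnil
    have : ∀ i, B.lowerCentralSeries i = B := by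
      intro i
      induction i with
      | zero => rfl
      | succ i ih => rw [Subgroup.lowerCentralSeries_succ, ih, e]
    rw [← this k, hk]
  have hNn : (⁅B, B⁆ ⊓ I).Normal := by
    by_contra h
    exact (CfsgLib.Transfer.card_lt_card_of_lt hBlt).not_ge
      (hmin _ ⟨inferInstance, hBlt.le.trans hBQ, h⟩)
  set N := ⁅B, B⁆ ⊓ I with hNdef
  have hBB : ⁅B, B⁆ ≤ N := by
    rw [Subgroup.commutator_le]
    intro b hb c hc
    let π := QuotientGroup.mk' N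
    have hDc : D.map π ≤ Subgroup.centralizer ((B.map π : Subgroup (G ⧸ N)) : Set (G ⧸ N)) := by
      rintro _ ⟨d, hd, rfl⟩ _ ⟨y, hy, rfl⟩
      rw [← map_mul, ← map_mul]
      refine (QuotientGroup.eq.mpr ?_ : ((y * d : G) : G ⧸ N) = ((d * y : G) : G ⧸ N))
      rw [show (y * d)⁻¹ * (d * y) = d⁻¹ * y⁻¹ * d * y by group]
      refine ⟨?_, ?_⟩
      · have := Subgroup.commutator_mem_commutator (B.inv_mem hd.1) (B.inv_mem hy)
        simpa [commutatorElement_def] using this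
      · have h1 := I.mul_mem (I.inv_mem hd.2) (hTI y⁻¹ (hQT (hBQ (B.inv_mem hy))) d hd.2)
        simpa [mul_assoc] using h1
    have hBπ : (B.map π).Normal := hBn.map π (QuotientGroup.mk'_surjective N)
    have hBc : B ≤ (Subgroup.centralizer ((B.map π : Subgroup (G ⧸ N)) : Set (G ⧸ N))).comap π := by
      refine hBclo.ge.trans ?_
      have : ((Subgroup.centralizer ((B.map π : Subgroup (G ⧸ N)) : Set (G ⧸ N))).comap π).Normal :=
        Subgroup.Normal.comap inferInstance _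
      exact Subgroup.normalClosure_le_normal fun d hd => hDc ⟨d, hd, rfl⟩
    have h1 : π c * π b = π b * π c := hBc hb _ ⟨c, hc, rfl⟩
    rw [← QuotientGroup.eq_one_iff]
    show π ⁅b, c⁆ = 1
    rw [map_commutatorElement, commutatorElement_eq_one_iff_mul_comm, h1]
  have hIc : ∀ x ∈ I, ∀ y ∈ I, x * y = y * x := fun x hx y hy =>
    congrArg Subtype.val ((h𝒜.le A₀ hA₀).2.is_comm.comm ⟨x, hIA A₀ hA₀ hx⟩ ⟨y, hIA A₀ hA₀ hy⟩)
  have hclass : ⁅⁅B, B⁆, B⁆ = ⊥ := by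
    rw [Subgroup.commutator_eq_bot_iff_le_centralizer, Subgroup.le_centralizer_iff, ← hBclo]
    refine Subgroup.normalClosure_le_normal fun d hd y hy => ?_
    exact hIc y (hBB (hBclo ▸ hy)).2 d hd.2
  have hBA : ∃ A ∈ 𝒜, ⁅B, B⁆ ≤ A ∧ ¬ B ≤ A := by
    by_contra h
    push Not at h
    refine hBI ?_
    have hBI' : B ≤ I := fun x hx => mem_inter.mpr fun A hA _ =>
      h A hA ((hBB.trans inf_le_right).trans (hIA A hA)) hx
    rw [hD, inf_eq_left.mpr hBI']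
    exact hBn
  obtain ⟨A, hA, -, hBA, hBN⟩ := h𝒜.rep B (hBQ.trans hQT) hclass hBA
  obtain ⟨hAT, hAc⟩ := h𝒜.le A hA
  have hAQ : A ≤ Q := by
    intro a ha
    refine (quad_mem_pCore hp2 T hmax (B := B) hBQ (hAT ha) fun b hb => ?_).resolve_right fun e => ?_
    · have h2 : a * b * a⁻¹ * b⁻¹ ∈ A := by
        rw [show a * b * a⁻¹ * b⁻¹ = a * (b * a⁻¹ * b⁻¹) by group]
        exact A.mul_mem ha ((Subgroup.mem_normalizer_iff.mp (hBN hb) _).mp (A.inv_mem ha))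
      exact congrArg Subtype.val (hAc.is_comm.comm ⟨a, ha⟩ ⟨_, h2⟩)
    · refine hBI ⟨fun d hd g => ?_⟩
      obtain ⟨c, hc, t, ht, rfl⟩ := Subgroup.mem_sup_of_normal_left.mp (e.ge (Subgroup.mem_top g))
      have h1 : t * d * t⁻¹ ∈ D := ⟨hBn.conj_mem d hd.1 t, hTI t ht d hd.2⟩
      rw [show c * t * d * (c * t)⁻¹ = c * (t * d * t⁻¹) * c⁻¹ by group, ← hc _ h1.1,
        mul_inv_cancel_right]
      exact h1
  have hIQn : (inter 𝒜 Q).Normal := ⟨fun x hx g => h𝒜.inv Q hQT ⟨A, hA, hAQ⟩ g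
    (by rw [Subgroup.normalizer_eq_top_iff.2 (inferInstance : Q.Normal)]; exact Subgroup.mem_top g) x hx⟩
  refine hBA (hBclo ▸ (Subgroup.normalClosure_le_normal fun d hd => ?_ : _ ≤ inter 𝒜 Q).trans
    fun x hx => mem_inter.mp hx A hA hAQ)
  exact mem_inter.mpr fun A' hA' _ => hIA A' hA' hd.2

end CfsgLib.Fusion.Intersection

namespace CfsgLib.Fusion

open Cfsg Cfsg.FusionSystem Intersection
open scoped commutatorElement

variable {p : ℕ} [hp : Fact p.Prime] {Ω : Type u} [Group Ω] {S : Subgroup Ω} {F : FusionSystem S}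
  {L : Type u} [Group L] {ι : S →* L}

/-- The criterion in a model. -/
theorem model_thin_of_intersection [Finite S] (hp2 : p ≠ 2) {𝒜 : Set (Subgroup Ω)}
    (h𝒜 : ∀ A ∈ 𝒜, A ≤ S ∧ IsMulCommutative A) (hne : 𝒜.Nonempty)
    (hinv : ∀ Q : Subgroup Ω, Q ≤ S → (∃ A ∈ 𝒜, A ≤ Q) → ∀ f, IsMor F Q f → img Q f = Q →
      ∀ x ∈ inter 𝒜 Q, f x ∈ inter 𝒜 Q)
    (hrep : ∀ B : Subgroup Ω, B ≤ S → ⁅⁅B, B⁆, B⁆ = ⊥ → (∃ A ∈ 𝒜, ⁅B, B⁆ ≤ A ∧ ¬ B ≤ A) →
      ∃ A ∈ 𝒜, ⁅B, B⁆ ≤ A ∧ ¬ B ≤ A ∧ B ≤ Subgroup.normalizer (A : Set Ω))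
    (hL : F.IsModel p L ι) (hH : NThin F (inter 𝒜 S)) : Thin F := by
  obtain ⟨hfin, hr, ⟨T, hT⟩, hself⟩ := id hL
  let up : Subgroup Ω → Subgroup L := fun P => (P.subgroupOf S).map ι
  let down : Subgroup L → Subgroup Ω := fun P => (P.comap ι).map S.subtype
  have hmem : ∀ (P : Subgroup Ω) (b : S), ι b ∈ up P ↔ (b : Ω) ∈ P := fun P b =>
    Subgroup.mem_map_iff_mem hr.1
  have hdown : ∀ (P : Subgroup L) (b : S), (b : Ω) ∈ down P ↔ ι b ∈ P := fun P b =>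
    Subgroup.mem_map_iff_mem S.subtype_injective
  have hdS : ∀ P : Subgroup L, down P ≤ S := fun P => Subgroup.map_subtype_le _
  have hrange : ∀ {P : Subgroup L}, P ≤ (T : Subgroup L) → ∀ x ∈ P, ∃ b : S, ι b = x :=
    fun hP x hx => hT.le (hP hx)
  have hleiff : ∀ {Q : Subgroup L}, Q ≤ (T : Subgroup L) → ∀ A ≤ S, up A ≤ Q ↔ A ≤ down Q := by
    intro Q _ A hAS
    constructor
    · exact fun h a ha => (hdown Q ⟨a, hAS ha⟩).mpr (h ((hmem A _).mpr ha))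
    · rintro h _ ⟨b, hb, rfl⟩
      exact (hdown Q b).mp (h hb)
  have hupT : ∀ A : Subgroup Ω, up A ≤ (T : Subgroup L) := fun A =>
    hT.symm ▸ Subgroup.map_le_range ι _
  have hinter : ∀ {Q : Subgroup L}, Q ≤ (T : Subgroup L) → ∀ b : S,
      ι b ∈ inter (up '' 𝒜) Q ↔ (b : Ω) ∈ inter 𝒜 (down Q) := by
    intro Q hQ b
    rw [mem_inter, mem_inter]
    constructor
    · exact fun h A hA hAQ => (hmem A b).mp (h _ ⟨A, hA, rfl⟩ ((hleiff hQ A (h𝒜 A hA).1).mpr hAQ))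
    · rintro h _ ⟨A, hA, rfl⟩ hAQ
      exact (hmem A b).mpr (h A hA ((hleiff hQ A (h𝒜 A hA).1).mp hAQ))
  have hAx : Axioms (up '' 𝒜) (T : Subgroup L) := by
    refine ⟨?_, hne.image _, ?_, ?_⟩
    · rintro _ ⟨A, hA, rfl⟩
      refine ⟨hupT A, CfsgLib.LocalEven.isMulCommutative_of_le_centralizer ?_⟩
      rintro _ ⟨a, ha, rfl⟩ _ ⟨b, hb, rfl⟩
      rw [← map_mul, ← map_mul]
      exact congrArg ι (Subtype.ext (congrArg Subtype.val ((h𝒜 A hA).2.is_comm.comm ⟨_, hb⟩ ⟨_, ha⟩) :))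
    · rintro Q hQ ⟨_, ⟨A, hA, rfl⟩, hAQ⟩ g hg x hx
      obtain ⟨A', hA'⟩ : ∃ A', A' ∈ 𝒜 ∧ A' ≤ down Q := ⟨A, hA, (hleiff hQ A (h𝒜 A hA).1).mp hAQ⟩
      have hgood : ∀ a : S, (a : Ω) ∈ down Q → g * ι a * g⁻¹ ∈ ι.range := fun a ha =>
        hT.le (hQ ((Subgroup.mem_normalizer_iff.mp hg _).mp ((hdown Q a).mp ha)))
      obtain ⟨hf, hind⟩ := isMor_pullConj hr (hdS Q) hgood
      have himg : img (down Q) (pullConj ι g) = down Q := hf.img_eq_self fun y hy => by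
        refine (hdown Q ⟨_, hf.mem hy⟩).mpr ?_
        rw [hind ⟨y, hdS Q hy⟩ ⟨_, hf.mem hy⟩ hy rfl]
        exact (Subgroup.mem_normalizer_iff.mp hg _).mp ((hdown Q _).mp hy)
      obtain ⟨b, rfl⟩ := hrange hQ x (mem_inter.mp hx _ ⟨A, hA, rfl⟩ hAQ |> fun h => hAQ h)
      have hb := (hinter hQ b).mp hx
      have hbQ : (b : Ω) ∈ down Q := hA'.2 (mem_inter.mp hb A' hA'.1 hA'.2)
      have h1 := hinv (down Q) (hdS Q) ⟨A', hA'.1, hA'.2⟩ _ hf himg _ hb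
      rw [← hind b ⟨_, hf.mem hbQ⟩ hbQ rfl]
      exact (hinter hQ _).mpr h1
    · rintro B hB hcl ⟨_, ⟨A, hA, rfl⟩, h1, h2⟩
      set B' := B.comap ι with hB'
      have hBmap : B'.map ι = B := Subgroup.map_comap_eq_self (hB.trans hT.le)
      have hdB : down B = B'.map S.subtype := rfl
      have hcomm : ⁅B, B⁆ = ⁅B', B'⁆.map ι := by rw [Subgroup.map_commutator, hBmap]
      have hdcomm : ⁅down B, down B⁆ = ⁅B', B'⁆.map S.subtype := by
        rw [Subgroup.map_commutator]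
      have hcl' : ⁅⁅down B, down B⁆, down B⁆ = ⊥ := by
        rw [hdcomm, hdB, ← Subgroup.map_commutator]
        have h3 : ⁅⁅B', B'⁆, B'⁆.map ι = ⊥ := by
          rw [Subgroup.map_commutator, ← hcomm, hBmap, hcl]
        rw [(Subgroup.map_eq_bot_iff_of_injective _ hr.1).mp h3, Subgroup.map_bot]
      have hle : ∀ (A : Subgroup Ω) (C : Subgroup S), C.map ι ≤ up A ↔ C.map S.subtype ≤ A := by
        intro A C
        constructor
        · rintro h _ ⟨c, hc, rfl⟩; exact (hmem A c).mp (h ⟨c, hc, rfl⟩)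
        · rintro h _ ⟨c, hc, rfl⟩; exact (hmem A c).mpr (h ⟨c, hc, rfl⟩)
      obtain ⟨A', hA', h3, h4, h5⟩ := hrep (down B) (hdS B) hcl' ⟨A, hA,
        hdcomm ▸ (hle A _).mp (hcomm ▸ h1), fun h => h2 (hBmap ▸ (hle A B').mpr h)⟩
      refine ⟨_, ⟨A', hA', rfl⟩, hcomm.symm ▸ (hle A' _).mpr (hdcomm ▸ h3),
        fun h => h4 ((hle A' B').mp (hBmap.symm ▸ h)), fun x hx => ?_⟩
      obtain ⟨b, rfl⟩ := hrange hB x hx
      have hbn := h5 ((hdown B b).mpr hx)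
      exact Subgroup.le_normalizer_map ι ⟨b, Subgroup.mem_normalizer_iff.mpr fun y =>
        Subgroup.mem_normalizer_iff.mp hbn (y : Ω), rfl⟩
  obtain ⟨A₀, hA₀⟩ := hne
  have hIS : inter 𝒜 S ≤ S := fun x hx =>
    (h𝒜 A₀ hA₀).1 (mem_inter.mp hx A₀ hA₀ (h𝒜 A₀ hA₀).1)
  have hIn : normalizerIn S (inter 𝒜 S) = S := mem_normalizer_of_conj_le fun s hs => img_le fun x hx =>
    hinv S le_rfl ⟨A₀, hA₀, (h𝒜 A₀ hA₀).1⟩ _ (isMor_cj F le_rfl hs)
      (img_cj_of_normalizer (Subgroup.le_normalizer hs)) x hx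
  have hIeq : inter (up '' 𝒜) (T : Subgroup L) = up (inter 𝒜 S) := by
    ext x
    constructor
    · intro hx
      obtain ⟨b, rfl⟩ := hrange le_rfl x (hupT A₀ (mem_inter.mp hx _ ⟨A₀, hA₀, rfl⟩ (hupT A₀)))
      refine (hmem _ b).mpr (mem_inter.mpr fun A hA _ => ?_)
      exact (hmem A b).mp (mem_inter.mp hx _ ⟨A, hA, rfl⟩ (hupT A))
    · rintro ⟨b, hb, rfl⟩
      refine mem_inter.mpr ?_
      rintro _ ⟨A, hA, rfl⟩ -
      exact (hmem A b).mpr (mem_inter.mp hb A hA (h𝒜 A hA).1)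
  refine thin_of_range_eq_top hr (hT ▸ eq_top_aux hp2 _ L rfl T _ hAx hself ?_)
  have hcomp := model_normalizer_complement hL hIS hIn hH
  rw [hIeq]
  set N := Subgroup.normalizer (up (inter 𝒜 S) : Set L) with hNdef
  have hTN : (T : Subgroup L) ≤ N := by
    intro t ht
    obtain ⟨s, rfl⟩ := hT.le ht
    exact Subgroup.le_normalizer_map ι ⟨s, Subgroup.mem_normalizer_iff.mpr fun y =>
      Subgroup.mem_normalizer_iff.mp (mem_normalizerIn.mp (hIn.ge s.2)).2 (y : Ω), rfl⟩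
  obtain ⟨P, K, hK, hKP⟩ := hcomp
  have hQN : (pCore p L).subgroupOf N ≤ (P : Subgroup N) := by
    have h1 : (pCore p L).subgroupOf N ≤ pCore p N := le_sSup
      (show (pCore p L).subgroupOf N ∈ {M : Subgroup N | M.Normal ∧ IsPGroup p M} from
        ⟨inferInstance, (T.2.to_le (CfsgLib.Base.pCore_le_sylow T)).comap_of_injective _
          N.subtype_injective⟩)
    exact h1.trans (CfsgLib.Base.pCore_le_sylow P)
  have hK1 : K = ⊥ := by
    have hdis : K ⊓ (pCore p L).subgroupOf N = ⊥ :=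
      le_bot_iff.mp ((inf_le_inf_left K hQN).trans hKP.disjoint.le_bot)
    have hKc := CfsgLib.Base.le_centralizer_of_normal_disjoint hdis
    refine le_bot_iff.mp fun k hk => hdis.le ⟨hk, hself fun q hq => ?_⟩
    exact congrArg Subtype.val
      (hKc hk ⟨q, hTN (CfsgLib.Base.pCore_le_sylow T hq)⟩ hq)
  subst hK1
  have hPtop : (P : Subgroup N) = ⊤ := Subgroup.isComplement'_bot_left.mp hKP
  have hNp : IsPGroup p N := (hPtop ▸ P.2).of_equiv Subgroup.topEquiv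
  exact (T.3 hNp hTN).le

/-- The axiomatic criterion. -/
theorem thin_of_intersection [Finite S] (hS : IsPGroup p S) (hF : F.IsSaturated p) (hp2 : p ≠ 2)
    {𝒜 : Set (Subgroup Ω)} (h𝒜 : ∀ A ∈ 𝒜, A ≤ S ∧ IsMulCommutative A) (hne : 𝒜.Nonempty)
    (hinv : ∀ Q : Subgroup Ω, Q ≤ S → (∃ A ∈ 𝒜, A ≤ Q) → ∀ f, IsMor F Q f → img Q f = Q →
      ∀ x ∈ inter 𝒜 Q, f x ∈ inter 𝒜 Q)
    (hrep : ∀ B : Subgroup Ω, B ≤ S → ⁅⁅B, B⁆, B⁆ = ⊥ → (∃ A ∈ 𝒜, ⁅B, B⁆ ≤ A ∧ ¬ B ≤ A) →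
      ∃ A ∈ 𝒜, ⁅B, B⁆ ≤ A ∧ ¬ B ≤ A ∧ B ≤ Subgroup.normalizer (A : Set Ω))
    (hH : NThin F (inter 𝒜 S)) : Thin F := by
  set w := (zjFunctor.{u} (p := p))
  have hw : GroupCriterion w := zjFunctor_criterion hp2
  refine thin_of_models (p := p) (Multiplicative ℤ) (fun Ω' _ S' F' => NThin F' (w.at S') ∨
      ∀ D : FusionSystem S', (∀ P f, IsMor D P f → IsMor F' P f) →
        ∀ (L : Type u) [Group L] (ι : S' →* L), D.IsModel p L ι → Thin D)
    ?_ ?_ ?_ ?_ _ _ Ω S F rfl rfl hS hF isSectionFree_int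
    (Or.inr fun D hD L _ ι hι => model_thin_of_intersection hp2 h𝒜 hne
      (fun Q hQ hA f hf => hinv Q hQ hA f (hD _ _ hf)) hrep hι
      fun P f hf hP ⟨g, hg, hgf, hgV⟩ => hH P f (hD _ _ hf) hP ⟨g, hD _ _ hg, hgf, hgV⟩)
  · rintro Ω' _ S' F' D hsub (h | h)
    · exact Or.inl fun P f hf hP ⟨g, hg, hgf, hgV⟩ =>
        h P f (hsub _ _ hf) hP ⟨g, hsub _ _ hg, hgf, hgV⟩
    · exact Or.inr fun D' hD' => h D' fun P f hf => hsub _ _ (hD' P f hf)
  · intro Ω' _ S' T _ F' D hS' _ _ hTS hT hsub hV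
    have : Finite T := finite_of_le hTS
    refine Or.inl (hV _ (w.at_ne_bot (isPGroup_of_le hTS hS') hT) (w.at_le T) fun f hf hfT => ?_)
    rw [w.img_at hS' hf, hfT]
  · intro Ω₁ _ S₁ _ F₁ Q Ω₂ _ S₂ θ E hS₁ _ _ hE _ hS₂ hV
    have hr : θ.range = S₂ := (id hE).2.2.1
    have : Finite S₂ := hr ▸ Finite.of_surjective _ θ.rangeRestrict_surjective
    have hp₂ : IsPGroup p S₂ := hr ▸ hS₁.of_surjective _ θ.rangeRestrict_surjective
    refine Or.inl (hV _ (w.at_ne_bot hp₂ hS₂) (w.at_le S₂) (mem_normalizer_of_conj_le fun s hs => ?_))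
    rw [w.img_at hp₂ (isMor_cj E (le_refl S₂) hs), img_cj_of_normalizer (Subgroup.le_normalizer hs)]
  · rintro Ω₁ _ S₁ _ F₁ hS₁ _ (h | h) L₁ _ ι₁ hL₁ _
    · exact model_thin_of_functor w hw hS₁ hL₁ h
    · exact h F₁ (fun _ _ h => h) L₁ ι₁ hL₁

end CfsgLib.Fusion
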