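import Mathlib
import Cfsg.Agent.Lib.LocalEven.S4Section
import Cfsg.Agent.Lib.Base.Cores
import Cfsg.Agent.Lib.Coprime.Basic
import Cfsg.Agent.Lib.LocalEven.JAbel
import Cfsg.Agent.Lib.Fusion.ThinFunctor
import Cfsg.Agent.Lib.Fusion.FunctorZJ

/-! Elements acting quadratically against an abelian normal complement, odd characteristic. -/
set_option autoImplicit false

namespace CfsgLib.Fusion.Intersection

open Cfsg
open scoped commutatorElement

universe u

/-- In a ring without `2`- and `q`-torsion a square-zero element commutes with an element of order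
dividing `q` which commutes with its first two twists. -/
theorem quad_ring {R : Type*} [Ring R] {n X : R} {q : ℕ} (hq : 0 < q) (hn : n * n = 0)
    (hX : X ^ q = 1) (h2 : ∀ z : R, 2 * z = 0 → z = 0) (hqt : ∀ z : R, (q : R) * z = 0 → z = 0)
    (h1 : X * ((1 + n) * X * (1 - n)) = (1 + n) * X * (1 - n) * X)
    (h1' : X * ((1 + 2 * n) * X * (1 - 2 * n)) = (1 + 2 * n) * X * (1 - 2 * n) * X) :
    n * X = X * n := by
  set c := n * X - X * n with hc
  set e := n * X * n
  have e1 : (1 + n) * X * (1 - n) = X + c - e := by simp only [hc, e]; noncomm_ring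
  have e2 : (1 + 2 * n) * X * (1 - 2 * n) = X + (c + c) - (e + e + e + e) := by
    simp only [hc, e, two_mul]; noncomm_ring
  rw [e1] at h1
  rw [e2] at h1'
  have a1 : (X * c - c * X) - (X * e - e * X) = 0 := by
    calc _ = X * (X + c - e) - (X + c - e) * X := by noncomm_ring
      _ = 0 := sub_eq_zero.mpr h1
  have a2 : 2 * (X * c - c * X) - 4 * (X * e - e * X) = 0 := by
    calc _ = X * (X + (c + c) - (e + e + e + e)) - (X + (c + c) - (e + e + e + e)) * X := by
          noncomm_ring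
      _ = 0 := sub_eq_zero.mpr h1'
  have a3 : 2 * (X * c - c * X) = 0 := by
    calc _ = 4 * ((X * c - c * X) - (X * e - e * X)) -
          (2 * (X * c - c * X) - 4 * (X * e - e * X)) := by noncomm_ring
      _ = 0 := by rw [a1, a2, mul_zero, sub_zero]
  have hXc : X * c = c * X := sub_eq_zero.mp (h2 _ a3)
  have key : ∀ k : ℕ, n * X ^ (k + 1) = X ^ (k + 1) * n + ((k + 1 : ℕ) : R) * (X ^ k * c) := by
    intro k
    induction k with
    | zero => rw [hc]; simp
    | succ k ih =>
      rw [pow_succ X (k + 1), ← mul_assoc, ih, add_mul, mul_assoc _ n X,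
        show n * X = X * n + c by rw [hc]; abel, mul_add, ← mul_assoc (X ^ (k + 1)) X n, add_assoc,
        Nat.cast_succ (k + 1), add_mul ((k + 1 : ℕ) : R) 1, one_mul, add_comm (_ * _) (X ^ (k + 1) * c)]
      congr 2
      rw [mul_assoc, mul_assoc, ← hXc, ← mul_assoc (X ^ k) X c, ← pow_succ]
  obtain ⟨k, rfl⟩ : ∃ k, q = k + 1 := ⟨q - 1, by omega⟩
  have h3 := key k
  rw [hX, mul_one, one_mul, left_eq_add] at h3
  have h4 : X * (X ^ k * c) = 0 := by rw [hqt _ h3, mul_zero]
  rw [← mul_assoc, ← pow_succ', hX, one_mul, hc, sub_eq_zero] at h4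
  exact h4

variable {G : Type u} [Group G] [Finite G] {p : ℕ} [hp : Fact p.Prime]

/-- The commutator of a quadratic element with an element of order prime to `p` commuting with its
conjugates centralizes the module. -/
theorem quad_commutator (hp2 : p ≠ 2) {V : Subgroup G} [V.Normal] (hVc : IsMulCommutative V)
    (hV : IsPGroup p V) {a x : G}
    (hquad : ∀ v ∈ V, a * (a * v * a⁻¹ * v⁻¹) = (a * v * a⁻¹ * v⁻¹) * a)
    {q : ℕ} (hq : 0 < q) (hqp : q.Coprime p) (hxq : x ^ q ∈ Subgroup.centralizer (V : Set G))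
    (h1 : ⁅x, a * x * a⁻¹⁆ ∈ Subgroup.centralizer (V : Set G))
    (h2 : ⁅x, (a * a) * x * (a * a)⁻¹⁆ ∈ Subgroup.centralizer (V : Set G)) :
    a * x * a⁻¹ * x⁻¹ ∈ Subgroup.centralizer (V : Set G) := by
  have := hVc
  let _ : CommGroup V := open scoped IsMulCommutative in inferInstance
  let r : G →* AddMonoid.End (Additive V) :=
    { toFun := fun g => MonoidHom.toAdditive (MulAut.conjNormal g : MulAut V).toMonoidHom
      map_one' := by rw [map_one]; rfl
      map_mul' := fun g h => by rw [map_mul]; rfl }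
  have hr : ∀ (g : G) (v : V), ((Additive.toMul (r g (Additive.ofMul v)) : V) : G) = g * v * g⁻¹ :=
    fun g v => MulAut.conjNormal_apply g v
  have hker : ∀ g : G, r g = 1 ↔ g ∈ Subgroup.centralizer (V : Set G) := by
    intro g
    constructor
    · intro h v hv
      have h3 := hr g ⟨v, hv⟩
      rw [h] at h3
      exact (eq_mul_inv_iff_mul_eq.mp (show v = g * v * g⁻¹ from h3))
    · intro h
      refine AddMonoidHom.ext fun w => ?_
      apply Additive.toMul.injective
      refine Subtype.ext ((hr g (Additive.toMul w)).trans ?_)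
      rw [← h _ (Additive.toMul w).2, mul_inv_cancel_right]
      exact rfl
  have hcomm : ∀ g h : G, ⁅g, h⁆ ∈ Subgroup.centralizer (V : Set G) → r g * r h = r h * r g := by
    intro g h hm
    have h3 := (hker _).mpr hm
    calc r g * r h = r ⁅g, h⁆ * (r h * r g) := by
          rw [← map_mul, ← map_mul, ← map_mul, commutatorElement_def]; group
      _ = _ := by rw [h3, one_mul]
  set n := r a - 1 with hn
  have hnn : n * n = 0 := by
    refine AddMonoidHom.ext fun w => ?_
    set v := Additive.toMul w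
    set t : V := Additive.toMul (r a w) * v⁻¹ with ht
    have htval : (t : G) = a * v * a⁻¹ * (v : G)⁻¹ := by
      rw [ht, Subgroup.coe_mul, Subgroup.coe_inv]
      exact congrArg (· * _) (hr a v)
    have hnw : n w = Additive.ofMul t := by
      rw [ht, ofMul_mul, ofMul_inv, ofMul_toMul, ofMul_toMul, ← sub_eq_add_neg]
      rfl
    show n (n w) = 0
    rw [hnw]
    show r a (Additive.ofMul t) - Additive.ofMul t = 0
    rw [sub_eq_zero]
    apply Additive.toMul.injective
    refine Subtype.ext ((hr a t).trans ?_)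
    rw [htval, hquad v v.2, mul_inv_cancel_right, ← htval]
    exact rfl
  have htors : ∀ m : ℕ, m.Coprime p → ∀ z : AddMonoid.End (Additive V), (m : AddMonoid.End _) * z = 0 →
      z = 0 := by
    intro m hm z hz
    refine AddMonoidHom.ext fun w => ?_
    have h3 : (m • z w : Additive V) = 0 := DFunLike.congr_fun hz w
    have h4 : (Additive.toMul (z w)) ^ m = 1 := congrArg Additive.toMul h3
    obtain ⟨k, hk⟩ := hV (Additive.toMul (z w))
    have h5 := Nat.dvd_gcd (orderOf_dvd_of_pow_eq_one h4) (orderOf_dvd_of_pow_eq_one hk)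
    rw [(hm.pow_right k).gcd_eq_one, Nat.dvd_one, orderOf_eq_one_iff] at h5
    exact Additive.toMul.injective h5
  have hra : r a = 1 + n := by rw [hn, add_sub_cancel]
  have hrai : r a⁻¹ = 1 - n := left_inv_eq_right_inv (a := r a)
    (by rw [← map_mul, inv_mul_cancel, map_one])
    (by rw [hra]; calc (1 + n) * (1 - n) = 1 - n * n := by simp only [mul_sub, add_mul, mul_one, one_mul]; abel
          _ = 1 := by rw [hnn, sub_zero])
  have h1r := hcomm _ _ h1
  have h2r := hcomm _ _ h2
  rw [map_mul, map_mul, hra, hrai] at h1r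
  rw [mul_inv_rev, map_mul, map_mul, map_mul, map_mul, hra, hrai] at h2r
  have e1 : (1 + n) * (1 + n) = 1 + 2 * n := by
    calc (1 + n) * (1 + n) = 1 + (n + n) + n * n := by noncomm_ring
      _ = _ := by rw [hnn, add_zero, two_mul]
  have e2 : (1 - n) * (1 - n) = 1 - 2 * n := by
    calc (1 - n) * (1 - n) = 1 - (n + n) + n * n := by simp only [mul_sub, sub_mul, mul_one, one_mul]; abel
      _ = _ := by rw [hnn, add_zero, two_mul]
  rw [e1, e2] at h2r
  have hXq : r x ^ q = 1 := by rw [← map_pow, hker]; exact hxq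
  have hfin := quad_ring hq hnn hXq
    (fun z hz => htors 2 ((Nat.coprime_primes Nat.prime_two hp.out).mpr (Ne.symm hp2)) z (by simpa using hz))
    (fun z hz => htors q hqp z hz) h1r h2r
  rw [← hker, show a * x * a⁻¹ * x⁻¹ = (a * x) * (x * a)⁻¹ by group]
  have h3 : r (a * x) = r (x * a) := by rw [map_mul, map_mul, hra, add_mul, one_mul, mul_add, mul_one, hfin]
  rw [map_mul, h3, ← map_mul, mul_inv_cancel, map_one]

/-- An element of order prime to `p` fixing a normal `p`-subgroup and moving elements only within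
its cosets fixes them. -/
theorem coprime_fixes_step {N : Subgroup G} (hN : IsPGroup p N) {y : G} {m : ℕ} (hm : y ^ m = 1)
    (hcop : m.Coprime p) (hfix : ∀ v ∈ N, y * v * y⁻¹ = v) {v : G} (hv : y * v * y⁻¹ * v⁻¹ ∈ N) :
    y * v * y⁻¹ = v := by
  set t := y * v * y⁻¹ * v⁻¹ with ht
  have key : ∀ i : ℕ, y ^ i * v * (y ^ i)⁻¹ = t ^ i * v := by
    intro i
    induction i with
    | zero => simp
    | succ i ih =>
      rw [pow_succ' y i, show y * y ^ i * v * (y * y ^ i)⁻¹ = y * (y ^ i * v * (y ^ i)⁻¹) * y⁻¹ by group,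
        ih, show y * (t ^ i * v) * y⁻¹ = (y * t ^ i * y⁻¹) * (y * v * y⁻¹) by group,
        hfix _ (N.pow_mem hv i), pow_succ, mul_assoc (t ^ i), show t * v = y * v * y⁻¹ by rw [ht, inv_mul_cancel_right]]
  have h1 := key m
  rw [hm, one_mul, inv_one, mul_one, right_eq_mul] at h1
  obtain ⟨k, hk⟩ := hN ⟨t, hv⟩
  have := Nat.dvd_gcd (orderOf_dvd_of_pow_eq_one h1)
    (orderOf_dvd_of_pow_eq_one (congrArg Subtype.val hk : t ^ p ^ k = 1))
  rw [(hcop.pow_right k).gcd_eq_one, Nat.dvd_one, orderOf_eq_one_iff, ht, mul_inv_eq_one] at this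
  exact this

omit hp in
theorem exists_mem_mul_of_top {Y T : Subgroup G} (hTY : T ≤ Subgroup.normalizer (Y : Set G))
    (htop : Y ⊔ T = ⊤) (x : G) : ∃ y ∈ Y, ∃ t ∈ T, y * t = x := by
  obtain ⟨t, ht, y, hy, e⟩ := (CfsgLib.Coprime.mem_sup_iff_of_le_normalizer hTY).mp
    ((sup_comm Y T ▸ htop).ge (Subgroup.mem_top x))
  exact ⟨t * y * t⁻¹, (Subgroup.mem_normalizer_iff.mp (hTY ht) y).mp hy, t, ht, by rw [inv_mul_cancel_right, e]⟩

omit hp in
theorem index_sup_dvd (N X : Subgroup G) [X.Normal] : N.relIndex (N ⊔ X) ∣ Nat.card X := by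
  have h1 := CfsgLib.Coprime.card_sup_mul_card_inf (H := N) (N := X)
    (by rw [Subgroup.normalizer_eq_top_iff.2 inferInstance]; exact le_top)
  have h2 := Subgroup.card_mul_index (N.subgroupOf (N ⊔ X))
  rw [Nat.card_congr (Subgroup.subgroupOfEquivOfLe (le_sup_left : N ≤ N ⊔ X)).toEquiv] at h2
  have h3 : (N.subgroupOf (N ⊔ X)).index * Nat.card ↥(N ⊓ X) = Nat.card X := by
    rw [← h2, mul_assoc] at h1
    exact Nat.eq_of_mul_eq_mul_left Nat.card_pos h1
  exact ⟨_, h3.symm⟩

/-- A group with trivial largest normal `p`-subgroup whose proper subgroups over a Sylow subgroup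
are trivial has an abelian normal `p`-complement. -/
theorem exists_abelian_complement (hp2 : p ≠ 2) (T : Sylow p G) (hcore : pCore p G = ⊥)
    (hmax : ∀ L : Subgroup G, (T : Subgroup G) ≤ L → L ≠ ⊤ → L ≤ (T : Subgroup G))
    (hT : (T : Subgroup G) ≠ ⊥) :
    ∃ X : Subgroup G, X.Normal ∧ IsMulCommutative X ∧ (Nat.card X).Coprime p ∧
      X.IsComplement' (T : Subgroup G) := by
  -- a normal `p`-complement
  have hcomp : HasNormalPComplement p G := by
    refine (Fusion.zjFunctor_criterion.{u} hp2) G T ?_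
    set W := (Fusion.zjFunctor (p := p)).at (T : Subgroup G)
    have hW1 : W ≠ ⊥ := (Fusion.zjFunctor (p := p)).at_ne_bot T.2 hT
    have hWT : W ≤ (T : Subgroup G) := (Fusion.zjFunctor (p := p)).at_le _
    have hTN : (T : Subgroup G) ≤ Subgroup.normalizer (W : Set G) := fun t ht => by
      rw [Subgroup.mem_normalizer_iff_map_conj_eq]
      show W.map (MulAut.conj t).toMonoidHom = W
      rw [← Fusion.img_cj, (Fusion.zjFunctor (p := p)).img_at T.2
        (Fusion.isMor_cj (innerFusionSystem (T : Subgroup G)) (le_refl _) ht),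
        Fusion.img_cj_of_normalizer (Subgroup.le_normalizer ht)]
    have hne : Subgroup.normalizer (W : Set G) ≠ ⊤ := fun h => hW1 (by
      have hn : W.Normal := Subgroup.normalizer_eq_top_iff.1 h
      exact le_bot_iff.mp (hcore ▸ le_sSup ⟨hn, T.2.to_le hWT⟩))
    refine ⟨T.subtype hTN, ⊥, inferInstance, ?_⟩
    rw [Subgroup.isComplement'_bot_left, eq_top_iff]
    exact fun x _ => hmax _ hTN hne x.2
  obtain ⟨P, X, hXn, hXP⟩ := hcomp
  obtain ⟨g, hg⟩ := MulAction.exists_smul_eq G P T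
  have hcX : (Nat.card X).Coprime p := by
    have h2 : (P : Subgroup G).index = Nat.card X := by
      have := hXP.card_mul
      have h3 := Subgroup.card_mul_index (P : Subgroup G)
      rw [← this, mul_comm (Nat.card X)] at h3
      exact Nat.eq_of_mul_eq_mul_left Nat.card_pos h3
    exact (hp.out.coprime_iff_not_dvd.mpr (h2 ▸ P.not_dvd_index)).symm
  have hcardT : Nat.card (T : Subgroup G) = Nat.card (P : Subgroup G) := by
    rw [← hg]
    exact Nat.card_congr (Sylow.equiv P (g • P)).toEquiv |>.symm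
  have hXT : X.IsComplement' (T : Subgroup G) := by
    refine Subgroup.isComplement'_of_coprime (by rw [hcardT, hXP.card_mul]) ?_
    obtain ⟨k, hk⟩ := IsPGroup.iff_card.mp T.2
    rw [hk]
    exact hcX.pow_right k
  refine ⟨X, hXn, ?_, hcX, hXT⟩
  -- `X` has no proper nontrivial invariant subgroup
  have hinv : ∀ Y : Subgroup G, Y ≤ X → (T : Subgroup G) ≤ Subgroup.normalizer (Y : Set G) →
      Y ≠ ⊥ → Y = X := by
    intro Y hYX hTY hY1
    refine le_antisymm hYX fun x hx => ?_
    have htop : Y ⊔ (T : Subgroup G) = ⊤ := by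
      by_contra hne
      have hYT : Y ≤ (T : Subgroup G) := le_sup_left.trans (hmax _ le_sup_right hne)
      exact hY1 (le_bot_iff.mp ((le_inf hYX hYT).trans hXT.disjoint.le_bot))
    obtain ⟨y, hy, t, ht, rfl⟩ := exists_mem_mul_of_top hTY htop x
    have : t ∈ X := by
      have := X.mul_mem (X.inv_mem (hYX hy)) hx
      rwa [inv_mul_cancel_left] at this
    rw [show t = 1 from Subgroup.mem_bot.mp (hXT.disjoint.le_bot ⟨this, ht⟩), mul_one]
    exact hy
  by_cases hX1 : X = ⊥
  · subst hX1; infer_instance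
  -- an invariant Sylow subgroup of `X`
  obtain ⟨q, hq, hqX⟩ := Nat.exists_prime_and_dvd
    (fun h => hX1 (Subgroup.card_eq_one.mp h) : Nat.card X ≠ 1)
  have : Fact q.Prime := ⟨hq⟩
  let Xq : Sylow q X := default
  set Y := (Xq : Subgroup X).map X.subtype with hY
  have hfr : Subgroup.normalizer (Y : Set G) ⊔ X = ⊤ := Sylow.normalizer_sup_eq_top Xq
  have hidx : ¬ p ∣ (Subgroup.normalizer (Y : Set G)).index := by
    intro hdvd
    have h1 : (Subgroup.normalizer (Y : Set G)).index ∣ Nat.card X := by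
      rw [← Subgroup.relIndex_top_right, ← hfr]
      exact index_sup_dvd _ X
    exact hp.out.not_dvd_one (hcX ▸ Nat.dvd_gcd (hdvd.trans h1) dvd_rfl)
  let R : Sylow p (Subgroup.normalizer (Y : Set G)) := default
  have hRdvd : ¬ p ∣ ((R : Subgroup _).map (Subgroup.normalizer (Y : Set G)).subtype).index := by
    rw [Subgroup.index_map_subtype]
    exact hp.out.not_dvd_mul R.not_dvd_index hidx
  let R' : Sylow p G := (R.2.map _).toSylow hRdvd
  obtain ⟨g', hg'⟩ := MulAction.exists_smul_eq G R' T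
  set Y' := Y.map (MulAut.conj g').toMonoidHom with hY'
  have hYX : Y ≤ X := Subgroup.map_subtype_le _
  have hY'X : Y' ≤ X := by
    rintro _ ⟨y, hy, rfl⟩
    exact hXn.conj_mem y (hYX hy) g'
  have hTY' : (T : Subgroup G) ≤ Subgroup.normalizer (Y' : Set G) := by
    intro t ht
    rw [← hg', Sylow.coe_subgroup_smul] at ht
    obtain ⟨s, hs, rfl⟩ := Subgroup.mem_pointwise_smul_iff_inv_smul_mem.mp ht |> fun h =>
      (⟨_, h, by simp [mul_assoc]⟩ : ∃ s, s ∈ (R' : Subgroup G) ∧ g' * s * g'⁻¹ = t)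
    exact Subgroup.le_normalizer_map (MulAut.conj g').toMonoidHom
      ⟨s, Subgroup.map_subtype_le _ hs, rfl⟩
  have hYq : IsPGroup q Y' := (Xq.2.map _).map _
  have hY'1 : Y' ≠ ⊥ := fun h => by
    have h1 : Nat.card Y' = Nat.card (Xq : Subgroup X) := by
      rw [hY', Subgroup.card_map_of_injective (MulAut.conj g').injective, hY,
        Subgroup.card_map_of_injective X.subtype_injective]
    rw [h, Subgroup.card_bot] at h1
    exact hq.not_dvd_one (h1 ▸ Xq.dvd_card_of_dvd_card hqX)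
  have hY'eq : Y' = X := hinv Y' hY'X hTY' hY'1
  have hXq : IsPGroup q X := hY'eq ▸ hYq
  -- the center
  have hZn : (T : Subgroup G) ≤ Subgroup.normalizer
      ((X ⊓ Subgroup.centralizer (X : Set G) : Subgroup G) : Set G) := fun t _ => by
    have : (X ⊓ Subgroup.centralizer (X : Set G)).Normal := inferInstance
    rw [Subgroup.normalizer_eq_top_iff.2 this]; exact Subgroup.mem_top t
  have hZ1 : X ⊓ Subgroup.centralizer (X : Set G) ≠ ⊥ := fun h => by
    have : Nontrivial X := (Subgroup.nontrivial_iff_ne_bot X).mpr hX1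
    have := hXq.center_nontrivial
    obtain ⟨z, hz1⟩ := exists_ne (1 : Subgroup.center X)
    refine hz1 (Subtype.ext (Subtype.ext ?_))
    refine Subgroup.mem_bot.mp (h.le ⟨(z : X).2, fun y hy => ?_⟩)
    exact congrArg Subtype.val (Subgroup.mem_center_iff.mp z.2 ⟨y, hy⟩)
  have hZ := hinv _ inf_le_left hZn hZ1
  exact ⟨⟨fun a b => Subtype.ext ((hZ.ge b.2).2 a a.2)⟩⟩

/-- Elements acting quadratically on a normal `p`-subgroup lie in `O_p` unless its centralizer
covers the group. -/
theorem quad_mem_pCore (hp2 : p ≠ 2) (T : Sylow p G)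
    (hmax : ∀ L : Subgroup G, (T : Subgroup G) ≤ L → L ≠ ⊤ → L ≤ (T : Subgroup G))
    {B : Subgroup G} [hBn : B.Normal] (hBQ : B ≤ pCore p G) {a : G} (haT : a ∈ (T : Subgroup G))
    (hquad : ∀ b ∈ B, a * (a * b * a⁻¹ * b⁻¹) = (a * b * a⁻¹ * b⁻¹) * a) :
    a ∈ pCore p G ∨ Subgroup.centralizer (B : Set G) ⊔ (T : Subgroup G) = ⊤ := by
  refine or_iff_not_imp_left.mpr fun ha => ?_
  set Q := pCore p G with hQ
  have hQT : Q ≤ (T : Subgroup G) := CfsgLib.Base.pCore_le_sylow T
  have hQp : IsPGroup p Q := T.2.to_le hQT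
  let π := QuotientGroup.mk' Q
  have hπ : Function.Surjective π := QuotientGroup.mk'_surjective Q
  let Tb : Sylow p (G ⧸ Q) := T.mapSurjective hπ
  have hTb : (Tb : Subgroup (G ⧸ Q)) = (T : Subgroup G).map π := rfl
  have hab : π a ≠ 1 := fun h => ha ((QuotientGroup.eq_one_iff a).mp h)
  have hmaxb : ∀ L : Subgroup (G ⧸ Q), (Tb : Subgroup (G ⧸ Q)) ≤ L → L ≠ ⊤ →
      L ≤ (Tb : Subgroup (G ⧸ Q)) := by
    intro L hL hne y hy
    obtain ⟨x, rfl⟩ := hπ y
    refine ⟨x, hmax (L.comap π) (fun t ht => hL ⟨t, ht, rfl⟩) (fun h => hne ?_) hy, rfl⟩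
    rw [← Subgroup.map_comap_eq_self_of_surjective hπ L, h, Subgroup.map_top_of_surjective _ hπ]
  obtain ⟨X, hXn, hXc, hXp, hXT⟩ := exists_abelian_complement hp2 Tb
    (CfsgLib.Base.pCore_quotient_pCore p G) hmaxb
    (fun h => hab (Subgroup.mem_bot.mp (h.le ⟨a, haT, rfl⟩)))
  -- `a` moves an element of `X`
  have hmove : ∃ x : G, π x ∈ X ∧ π (a * x * a⁻¹ * x⁻¹) ≠ 1 := by
    by_contra h
    push Not at h
    refine hab ?_
    set C := (Tb : Subgroup (G ⧸ Q)) ⊓ Subgroup.centralizer (X : Set (G ⧸ Q)) with hC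
    have haC : π a ∈ C := ⟨⟨a, haT, rfl⟩, fun y hy => by
      obtain ⟨x, rfl⟩ := hπ y
      have h1 := h x hy
      rw [map_mul, map_mul, map_mul, map_inv, map_inv, mul_inv_eq_one, mul_inv_eq_iff_eq_mul] at h1
      exact h1.symm⟩
    have hle : ∀ g : G ⧸ Q, ∀ c ∈ C, g * c * g⁻¹ ∈ C := by
      intro g c hc
      obtain ⟨y, hy, t, ht, rfl⟩ := Subgroup.mem_sup_of_normal_left.mp
        (hXT.sup_eq_top.ge (Subgroup.mem_top g))
      have h2 : t * c * t⁻¹ ∈ C := ⟨Subgroup.mul_mem _ (Subgroup.mul_mem _ ht hc.1)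
        (Subgroup.inv_mem _ ht), (inferInstance : (Subgroup.centralizer (X : Set (G ⧸ Q))).Normal).conj_mem
          c hc.2 t⟩
      have h3 : y * (t * c * t⁻¹) * y⁻¹ = t * c * t⁻¹ := by
        rw [h2.2 y hy, mul_inv_cancel_right]
      rw [show y * t * c * (y * t)⁻¹ = y * (t * c * t⁻¹) * y⁻¹ by group, h3]
      exact h2
    have hbot : C ≤ pCore p (G ⧸ Q) :=
      le_sSup ⟨⟨fun c hc g => hle g c hc⟩, Tb.2.to_le inf_le_left⟩
    exact Subgroup.mem_bot.mp ((hbot.trans (CfsgLib.Base.pCore_quotient_pCore p G).le) haC)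
  obtain ⟨x, hxX, hax⟩ := hmove
  -- the kernel of the action on a central series of `B`
  let γ : ℕ → Subgroup G := fun i => Q.lowerCentralSeries i
  have hγ0 : γ 0 = Q := rfl
  have hγn : ∀ i, (γ i).Normal := by
    intro i
    induction i with
    | zero => exact (inferInstance : Q.Normal)
    | succ i ih => exact @Subgroup.commutator_normal _ _ _ _ ih (inferInstance : Q.Normal)
  have hγQ : ∀ i, γ i ≤ Q := fun i => Subgroup.lowerCentralSeries_antitone Q (Nat.zero_le i)
  have hγc : ∀ i, ∀ b ∈ γ i, ∀ c ∈ Q, c * b * c⁻¹ * b⁻¹ ∈ γ (i + 1) := by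
    intro i b hb c hc
    show c * b * c⁻¹ * b⁻¹ ∈ ⁅γ i, Q⁆
    rw [Subgroup.commutator_comm]
    simpa [commutatorElement_def] using Subgroup.commutator_mem_commutator hc hb
  have := hγn
  let K : ℕ → Subgroup G := fun i =>
    (Subgroup.centralizer (((B ⊓ γ i).map (QuotientGroup.mk' (γ (i + 1))) : Subgroup (G ⧸ γ (i + 1))) :
      Set (G ⧸ γ (i + 1)))).comap (QuotientGroup.mk' (γ (i + 1)))
  have hKn : ∀ i, (K i).Normal := fun i => by
    have : (B ⊓ γ i).Normal := inferInstance
    have := this.map (QuotientGroup.mk' (γ (i + 1))) (QuotientGroup.mk'_surjective _)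
    exact Subgroup.Normal.comap inferInstance _
  have hQK : ∀ i, Q ≤ K i := fun i c hc => by
    show _ ∈ Subgroup.centralizer _
    rintro _ ⟨b, hb, rfl⟩
    rw [← map_mul, ← map_mul]
    refine (QuotientGroup.eq.mpr ?_ : ((b * c : G) : G ⧸ γ (i + 1)) = ((c * b : G) : G ⧸ γ (i + 1)))
    have h1 := (hγn (i + 1)).conj_mem _ (hγc i b hb.2 c hc) (c * b)⁻¹
    simpa [mul_assoc] using h1
  have hpow : ∃ q : ℕ, 0 < q ∧ q.Coprime p ∧ x ^ q ∈ Q := ⟨Nat.card X, Nat.card_pos, hXp, by
    rw [← QuotientGroup.eq_one_iff]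
    have h0 : (⟨π x, hxX⟩ : X) ^ Nat.card X = 1 := pow_card_eq_one'
    exact congrArg Subtype.val h0⟩
  obtain ⟨q, hq, hqp, hxq⟩ := hpow
  have hcommQ : ∀ d : G, ⁅x, d * x * d⁻¹⁆ ∈ Q := fun d => by
    rw [← QuotientGroup.eq_one_iff]
    show π ⁅x, d * x * d⁻¹⁆ = 1
    rw [map_commutatorElement, commutatorElement_eq_one_iff_mul_comm]
    have hd : π (d * x * d⁻¹) ∈ X := by
      rw [map_mul, map_mul, map_inv]; exact hXn.conj_mem _ hxX _
    exact congrArg Subtype.val (hXc.is_comm.comm (⟨_, hxX⟩ : X) ⟨_, hd⟩)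
  have hz : ∀ i, a * x * a⁻¹ * x⁻¹ ∈ K i := by
    intro i
    let φ := QuotientGroup.mk' (γ (i + 1))
    set V := (B ⊓ γ i).map φ with hV
    have : (B ⊓ γ i).Normal := inferInstance
    have hVn : V.Normal := this.map φ (QuotientGroup.mk'_surjective _)
    have hVc : IsMulCommutative V := by
      refine CfsgLib.LocalEven.isMulCommutative_of_le_centralizer ?_
      rintro _ ⟨b, hb, rfl⟩
      exact hQK i (hγQ i hb.2)
    have hVp : IsPGroup p V := (hQp.to_le (inf_le_left.trans hBQ)).map φ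
    show φ (a * x * a⁻¹ * x⁻¹) ∈ Subgroup.centralizer (V : Set _)
    rw [map_mul, map_mul, map_mul, map_inv, map_inv]
    refine quad_commutator hp2 hVc hVp ?_ hq hqp (map_pow φ x q ▸ hQK i hxq) ?_ ?_
    · rintro _ ⟨b, hb, rfl⟩
      rw [← map_inv, ← map_inv, ← map_mul, ← map_mul, ← map_mul, ← map_mul, hquad b hb.1, map_mul]
    · rw [← map_inv, ← map_mul, ← map_mul, ← map_commutatorElement]; exact hQK i (hcommQ a)
    · rw [← map_mul, ← map_inv, ← map_mul, ← map_mul, ← map_commutatorElement]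
      exact hQK i (hcommQ (a * a))
  set Y := ⨅ i, K i with hY
  have hYn : Y.Normal := Subgroup.normal_iInf_normal hKn
  by_contra hne
  have hCT : Subgroup.centralizer (B : Set G) ≤ (T : Subgroup G) :=
    le_sup_left.trans (hmax _ le_sup_right hne)
  have hYp : IsPGroup p Y := by
    intro y
    obtain ⟨k, m, hm, hord⟩ :=
      Nat.exists_eq_pow_mul_and_not_dvd (orderOf_pos y).ne' p hp.out.ne_one
    set w := (y : G) ^ p ^ k with hw
    have hwm : w ^ m = 1 := by
      rw [hw, ← pow_mul, ← hord, ← Subgroup.orderOf_coe, pow_orderOf_eq_one]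
    have hcop : m.Coprime p := (hp.out.coprime_iff_not_dvd.mpr hm).symm
    have hnil : Group.IsNilpotent Q := hQp.isNilpotent
    obtain ⟨N, hN⟩ := (Subgroup.isNilpotent_iff_lowerCentralSeries Q).mp hnil
    have hfix : ∀ d i, i + d = N → ∀ v ∈ B ⊓ γ i, w * v * w⁻¹ = v := by
      intro d
      induction d with
      | zero =>
        intro i hi v hv
        rw [add_zero] at hi
        subst hi
        have : v = 1 := by
          exact Subgroup.mem_bot.mp (hN.le hv.2)
        rw [this, mul_one, mul_inv_cancel]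
      | succ d ih =>
        intro i hi v hv
        refine coprime_fixes_step (N := B ⊓ γ (i + 1)) (hQp.to_le (inf_le_left.trans hBQ)) hwm hcop
          (ih (i + 1) (by omega)) ⟨B.mul_mem (hBn.conj_mem v hv.1 w) (B.inv_mem hv.1), ?_⟩
        have h1 : QuotientGroup.mk' (γ (i + 1)) w ∈ Subgroup.centralizer
            (((B ⊓ γ i).map (QuotientGroup.mk' (γ (i + 1))) : Subgroup (G ⧸ γ (i + 1))) : Set _) :=
          Subgroup.mem_iInf.mp (Y.pow_mem y.2 (p ^ k)) i
        have h2 := h1 _ ⟨v, hv, rfl⟩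
        rw [SetLike.mem_coe, Subgroup.mem_toSubmonoid, ← QuotientGroup.eq_one_iff, QuotientGroup.mk_mul, QuotientGroup.mk_mul,
          QuotientGroup.mk_inv, QuotientGroup.mk_inv, mul_inv_eq_one, mul_inv_eq_iff_eq_mul]
        exact h2.symm
    have hwC : w ∈ Subgroup.centralizer (B : Set G) := fun b hb => by
      have h1 := hfix N 0 (by omega) b ⟨hb, hγ0.ge (hBQ hb)⟩
      exact (mul_inv_eq_iff_eq_mul.mp h1).symm
    obtain ⟨j, hj⟩ := T.2 ⟨w, hCT hwC⟩
    refine ⟨k + j, Subtype.ext ?_⟩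
    rw [pow_add, pow_mul]
    simpa using congrArg Subtype.val hj
  exact hax ((QuotientGroup.eq_one_iff _).mpr (le_sSup (show Y ∈ {N : Subgroup G | N.Normal ∧ IsPGroup p N} from
    ⟨hYn, hYp⟩) (Subgroup.mem_iInf.mpr hz)))

end CfsgLib.Fusion.Intersection
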