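import Mathlib
import Cfsg.Agent.Lib.Fusion.PPowerIndex
import Cfsg.Agent.Lib.Fusion.NormalCentralizerClosed
import Cfsg.Agent.Lib.Fusion.OpGen
import Cfsg.Agent.Lib.Fusion.CentralLiftGen

/-!
# Subsystems of `p`-power index in a weakly normal subsystem
-/

set_option autoImplicit false
set_option linter.unusedSectionVars false

namespace CfsgLib.Fusion

open Cfsg Cfsg.FusionSystem

variable {Ω : Type*} [Group Ω] {S : Subgroup Ω} {F : FusionSystem S}
  {p : ℕ} [hp : Fact p.Prime] [Finite S]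

theorem strongInv_of_isWeaklyNormalIn (hS : IsPGroup p S) {T : Subgroup Ω} {E : FusionSystem T}
    (hE : E.IsWeaklyNormalIn F p) : StrongInv E F :=
  strongInv_iff.mpr ((Cfsg.Agent.S5119.result p hS F hE.2.1 E hE.2.2.1 hE.2.2.2.1).mp hE.2.2)

/-- A saturated system lies in another one as soon as the coprime automorphisms of its centric
subgroups do. -/
theorem sub_of_coprime {T U : Subgroup Ω} [Finite T] (hT : IsPGroup p T) (hTU : T ≤ U)
    {E : FusionSystem T} (hE : E.IsSaturated p) {G : FusionSystem U}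
    (h : ∀ P, E.IsCentric P → ∀ a ∈ E.autGroup P, (orderOf a).Coprime p → a ∈ G.autGroup P) :
    E.IsSubsystemOf G := by
  have hM : ∀ P f, IsMor E P f ∧ IsMor G P f →
      ∀ x ∈ P, ∀ y ∈ P, f (x * y) = f x * f y := fun P f h x hx y hy => h.1.map_mul hx hy
  let E' : FusionSystem T := ofPred T (fun P f => IsMor E P f ∧ IsMor G P f)
    (fun P f h => ⟨h.1.le, fun x hx => h.1.mem hx⟩)
    (fun P f h x hx y hy e => h.1.inj hx hy e)
    (fun P f g h e => ⟨h.1.congr e, h.2.congr e⟩)
    (fun P g hP hg => ⟨isMor_cj E hP hg, isMor_cj _ (hP.trans hTU) (hTU hg)⟩)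
    (fun P Q f g hf hg h => ⟨hf.1.comp hg.1 h, hf.2.comp hg.2 h⟩)
    (fun P f hf _ => by
      obtain ⟨g, hg, hgl, -, -⟩ := hf.1.inverse
      obtain ⟨g', hg', hgl', -, -⟩ := hf.2.inverse
      refine ⟨g, ⟨hg, hg'.congr fun y hy => ?_⟩, hgl⟩
      obtain ⟨x, hx, rfl⟩ := hf.1.mem_img.mp hy
      rw [hgl x hx, hgl' x hx])
  have hle : E ≤ E' := le_of_coprime_aut_centric hT hE fun P hP a ha hc =>
    (autGroup_eq_set hP.1 a).mpr ((isMor_ofPred (hM P _)).mpr
      ⟨isMor_autFun hP.1 ha, isMor_autFun (hP.1.trans hTU) (h P hP a ha hc)⟩)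
  exact le_iff_isMor.mpr fun P f hf =>
    ((isMor_ofPred (hM P f)).mp (le_iff_isMor.mp hle P f hf)).2

/-- A subsystem of `p`-power index of a weakly normal subsystem, over a strongly closed subgroup,
is weakly normal. -/
theorem weaklyNormal_pPower (hS : IsPGroup p S) {SG : Subgroup Ω} {G : FusionSystem SG}
    (hG : G.IsWeaklyNormalIn F p) {U : Subgroup Ω} (hUG : U ≤ SG) (hU : F.StronglyClosed U)
    {G' : FusionSystem U} (hG's : G'.IsSaturated p) (hG'i : G'.HasPPowerIndexIn G p) :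
    G'.IsWeaklyNormalIn F p := by
  have hinv := strongInv_of_isWeaklyNormalIn hS hG
  obtain ⟨hGs, hF, hGsub, hSG, -⟩ := id hG
  obtain ⟨hUS, hUsc⟩ := stronglyClosed_iff.mp hU
  obtain ⟨hGS, hGsc⟩ := stronglyClosed_iff.mp hSG
  have : Finite SG := finite_of_le hGS
  have : Finite U := finite_of_le hUS
  have hGp : IsPGroup p SG := isPGroup_of_le hGS hS
  have hUp : IsPGroup p U := isPGroup_of_le hUS hS
  obtain ⟨E', hE', hEi', hfac'⟩ := exists_pPowerIndex hGp hGs hUG hG'i.2.1
  obtain rfl := pPower_unique hGp hUG hE' hEi' hG's hG'i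
  refine ⟨hG's, hF, fun P => (hG'i.1 P).trans (hGsub P), hU, ?_, fun P hP φ hφ => ?_⟩
  · intro P hPU φ hφ θ hθ
    have hθF := isMor_autFun hUS hθ
    let D : FusionSystem U := ofPred U (fun R f =>
        IsMor G' R f ∧ IsMor G' (img R (autFun θ)) (autFun θ ∘ f ∘ autFun θ⁻¹))
      (fun R f h => ⟨h.1.le, fun x hx => h.1.mem hx⟩)
      (fun R f h x hx y hy e => h.1.inj hx hy e)
      (fun R f g ⟨hf, hf'⟩ e => ⟨hf.congr e, hf'.congr fun y hy => by
        simp only [Function.comp_apply]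
        rw [e _ ((img_autFun_cancel hf.le θ).le (mem_img_of_mem _ hy))]⟩)
      (fun R g hR hg => ⟨isMor_cj G' hR hg,
        (isMor_cj G' (img_aut_le hR θ) (autFun_mem θ hg)).congr fun y hy => by
          have hy' := autFun_mem θ⁻¹ (img_aut_le hR θ hy)
          show cj (autFun θ g) y = autFun θ (cj g (autFun θ⁻¹ y))
          rw [cj_apply, cj_apply, autFun_map_mul θ (U.mul_mem hg hy') (U.inv_mem hg),
            autFun_map_mul θ hg hy', autFun_inv_map θ hg,
            autFun_inv_right θ (img_aut_le hR θ hy)]⟩)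
      (fun R Q f g ⟨hf, hf'⟩ ⟨hg, hg'⟩ h => ⟨hf.comp hg h,
        (hf'.comp hg' fun y hy => mem_img_of_mem _
          (h _ ((img_autFun_cancel hf.le θ).le (mem_img_of_mem _ hy)))).congr fun y hy => by
            simp only [Function.comp_apply]
            rw [autFun_inv_left θ
              (hf.mem ((img_autFun_cancel hf.le θ).le (mem_img_of_mem _ hy)))]⟩)
      (fun R f ⟨hf, hf'⟩ _ => by
        obtain ⟨g, hg, hgl, -, -⟩ := hf.inverse
        obtain ⟨g', hg', hgl', -, -⟩ := hf'.inverse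
        refine ⟨g, ⟨hg, ?_⟩, hgl⟩
        have hi : img (img R (autFun θ)) (autFun θ ∘ f ∘ autFun θ⁻¹) = img (img R f) (autFun θ) := by
          refine le_antisymm (img_le fun y hy => mem_img_of_mem _ (mem_img_of_mem f
            ((img_autFun_cancel hf.le θ).le (mem_img_of_mem _ hy)))) (img_le fun z hz => ?_)
          obtain ⟨x, hx, rfl⟩ := hf.mem_img.mp hz
          have := mem_img_of_mem (autFun θ ∘ f ∘ autFun θ⁻¹) (mem_img_of_mem (autFun θ) hx)
          simpa [autFun_inv_left θ (hf.le hx)] using this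
        rw [hi] at hg'
        refine hg'.congr fun y hy => ?_
        rw [← hi] at hy
        obtain ⟨z, hz, rfl⟩ := hf'.mem_img.mp hy
        obtain ⟨x, hx, rfl⟩ := (mem_img_autFun hf.le).mp hz
        rw [hgl' _ hz]
        simp only [Function.comp_apply]
        rw [autFun_inv_left θ (hf.le hx), autFun_inv_left θ (hf.mem hx), hgl x hx])
    have hD : ∀ R f, IsMor D R f ↔
        IsMor G' R f ∧ IsMor G' (img R (autFun θ)) (autFun θ ∘ f ∘ autFun θ⁻¹) := fun R f =>
      isMor_ofPred fun h x hx y hy => h.1.map_mul hx hy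
    have hle : G' ≤ D := le_of_coprime_aut hUp hG's fun R hR a ha hc => by
      refine (autGroup_eq_set hR a).mpr ((hD _ _).mpr ⟨isMor_autFun hR ha, ?_⟩)
      have hθR := hθF.restrict hR
      have hRi : img R (autFun θ) ≤ U := img_aut_le hR θ
      obtain ⟨e, he, -, -⟩ := exists_transport hθR (Q := img R (autFun θ)) rfl
      obtain ⟨k, hk, hke⟩ := hinv R R (autFun a) (autFun θ) le_rfl (hR.trans hUG)
        (isMor_autFun (hR.trans hUG) (autGroup_mono hG'i.1 ha)) (fun x hx => autFun_mem a hx) hθR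
      have hea : e a ∈ G.autGroup (img R (autFun θ)) :=
        (autGroup_eq_set (hRi.trans hUG) _).mpr (hk.congr fun y hy => by
          obtain ⟨x, hx, rfl⟩ := (mem_img_autFun hR).mp hy
          rw [hke x hx, he a x hx])
      have hea' : e a ∈ G'.autGroup (img R (autFun θ)) :=
        mem_autGroup_of_pPower hG'i hRi hea (by rwa [MulEquiv.orderOf_eq])
      refine (isMor_autFun hRi hea').congr fun y hy => ?_
      obtain ⟨x, hx, rfl⟩ := (mem_img_autFun hR).mp hy
      simp only [Function.comp_apply]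
      rw [autFun_inv_left θ (hR hx)]
      exact he a x hx
    have h1 := ((hD _ _).mp (le_iff_isMor.mp hle P _ (isMor_of_mem hφ))).2
    rw [← map_subgroupOf_eq_img (ψ := U.subtype.comp θ.toMonoidHom) (f := autFun θ)
      (fun x => (autFun_coe θ x).symm) hPU] at h1
    obtain ⟨χ, hχ, hχe⟩ := h1
    refine ⟨χ, hχ, fun x hφx hαx => ?_⟩
    rw [hχe]
    simp only [Function.comp_apply]
    rw [← autFun_coe θ ⟨x, hPU x.2⟩, ← autFun_coe θ ⟨φ x, hφx⟩, autFun_inv_left θ (hPU x.2),
      toFun_coe]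
  · have hf := isMor_of_mem hφ
    obtain ⟨α, hα, g, hg, hfg⟩ :=
      factors_of_strongInv hS hF hGsub hSG hinv hf (hP.trans hUG)
    have hαm := isMor_autFun hGS hα
    have hgU : ∀ x ∈ P, g x ∈ U := fun x hx => by
      have h1 := hUsc _ _ (isMor_autFun hGS ((F.autGroup SG).inv_mem hα)) (autFun α (g x))
        (autFun_mem α (hg.mem hx)) (hfg x hx ▸ hUsc P _ hf x hx (hP hx))
      rwa [autFun_inv_left α (hg.mem hx)] at h1
    have hn : ∀ s ∈ SG, ∀ t ∈ U, cj s t ∈ U := fun s hs t ht =>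
      (Subgroup.mem_normalizer_iff.mp (stronglyClosed_le_normalizer hU (hGS hs)) t).mp ht
    obtain ⟨s, hs, e, ⟨φ₀, hφ₀, he⟩, hge⟩ := hfac' hn P g hg hP hgU
    have hm : IsMor F U (autFun α ∘ cj s) :=
      (isMor_cj F hUS (hGS hs)).comp hαm fun x hx => hUG (hn s hs x hx)
    obtain ⟨b, hb, hbe⟩ := exists_aut hm (hm.img_eq_self fun x hx => hUsc U _ hm x hx hx)
    refine ⟨b, hb, φ₀, hφ₀, fun x hx => ?_⟩
    rw [← toFun_coe φ x, hfg x x.2, ← autFun_coe b ⟨φ₀ x, hx⟩, hbe _ hx, hge x x.2,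
      Function.comp_apply, he x]

end CfsgLib.Fusion
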