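import Mathlib
import Cfsg.Agent.Lib.Fusion.CentricInf
import Cfsg.Agent.Lib.Fusion.NormalLabel
import Cfsg.Agent.Lib.Fusion.Moving
import Cfsg.Agent.Lib.Fusion.MeetAut
import Cfsg.Agent.Lib.Fusion.SatTools
import Cfsg.Agent.Lib.Fusion.PPowerWeakly

/-!
# Automorphisms of order prime to `p` belonging to a normal subsystem

For a normal subsystem `E` over `T` of `F`, a map is strict when it is trivial modulo `T` and is a map of `E`
on the part of its source inside `T`; the automorphisms of order prime to `p` which are strict, on subgroups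
meeting `T` in a centric subgroup of `E`, generate the products of `E` with subgroups of `S`.
-/

set_option autoImplicit false
set_option linter.unusedSectionVars false

namespace CfsgLib.Fusion

open Cfsg Cfsg.FusionSystem

variable {Ω : Type*} [Group Ω] {S T : Subgroup Ω}

/-- Trivial modulo `T` and a map of `E` inside `T`. -/
def Strict (E : FusionSystem T) (U : Subgroup Ω) (f : Ω → Ω) : Prop :=
  (∀ x ∈ U, x⁻¹ * f x ∈ T) ∧ IsMor E (U ⊓ T) f

/-- The subgroups of `S` meeting `T` in a centric subgroup of `E`. -/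
def HCen (S : Subgroup Ω) (E : FusionSystem T) (V : Subgroup Ω) : Prop :=
  V ≤ S ∧ E.IsCentric (V ⊓ T)

/-- The hypotheses: a normal subsystem. -/
structure ProdHyp (F : FusionSystem S) (E : FusionSystem T) (p : ℕ) : Prop where
  pgroup : IsPGroup p S
  sat : F.IsSaturated p
  normal : E.IsNormalIn F p

/-- The generators. -/
structure IsGood (F : FusionSystem S) (E : FusionSystem T) (p : ℕ) (V : Subgroup Ω)
    (α : MulAut V) : Prop where
  cen : HCen S E V
  mem : α ∈ F.autGroup V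
  strict : Strict E V (autFun α)
  coprime : (orderOf α).Coprime p

/-- The strict automorphisms. -/
def bAut (F : FusionSystem S) (E : FusionSystem T) (V : Subgroup Ω) : Subgroup (MulAut V) :=
  Subgroup.closure {α | α ∈ F.autGroup V ∧ Strict E V (autFun α)}

/-- The subgroup generated by the generators. -/
def goodK (F : FusionSystem S) (E : FusionSystem T) (p : ℕ) (V : Subgroup Ω) :
    Subgroup (MulAut V) :=
  Subgroup.closure {α | IsGood F E p V α}

/-- Composites of restrictions of generators. -/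
inductive GGen (F : FusionSystem S) (E : FusionSystem T) (p : ℕ) : Subgroup Ω → (Ω → Ω) → Prop
  | step {U V : Subgroup Ω} {f : Ω → Ω} {α : MulAut V} : IsGood F E p V α → U ≤ V →
      (∀ x ∈ U, f x = autFun α x) → GGen F E p U f
  | comp {U : Subgroup Ω} {f g k : Ω → Ω} : GGen F E p U f → GGen F E p (img U f) g →
      (∀ x ∈ U, k x = g (f x)) → GGen F E p U k

/-- A map followed by a map defined on all of `T`. -/
def Dec (F : FusionSystem S) (E : FusionSystem T) (p : ℕ) (P : Subgroup Ω) (f : Ω → Ω) : Prop :=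
  ∃ d β, GGen F E p P d ∧ IsMor F (P ⊔ T) β ∧ ∀ x ∈ P, f x = β (d x)

variable {F : FusionSystem S} {E : FusionSystem T} {p : ℕ} [hp : Fact p.Prime] [Finite S]

theorem mem_of_pPow_mem {G : Type*} [Group G] {H : Subgroup G} {a : G}
    (hc : (orderOf a).Coprime p) {k : ℕ} (h : a ^ p ^ k ∈ H) : a ∈ H := by
  obtain ⟨m, hm⟩ := exists_pow_eq_self_of_coprime (x := a) (n := p ^ k) (hc.symm.pow_left k)
  rw [← hm]
  exact H.pow_mem h m

omit hp in
theorem strict_congr {U : Subgroup Ω} {f g : Ω → Ω} (h : Strict E U f) (e : ∀ x ∈ U, f x = g x) :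
    Strict E U g :=
  ⟨fun x hx => e x hx ▸ h.1 x hx, h.2.congr fun x hx => e x hx.1⟩

namespace ProdHyp

variable (hq : ProdHyp F E p)
include hq

theorem esat : E.IsSaturated p := hq.normal.1.1
theorem sub : E.IsSubsystemOf F := hq.normal.1.2.2.1
theorem closed : F.StronglyClosed T := hq.normal.1.2.2.2.1
theorem le_S : T ≤ S := hq.closed.1
theorem inv : StrongInv E F := strongInv_of_isNormalIn hq.pgroup hq.sat hq.normal
theorem tpgroup : IsPGroup p T := isPGroup_of_le hq.le_S hq.pgroup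

theorem mem_T {P : Subgroup Ω} {f : Ω → Ω} (hf : IsMor F P f) {x : Ω} (hx : x ∈ P) (hxT : x ∈ T) :
    f x ∈ T :=
  (stronglyClosed_iff.mp hq.closed).2 P f hf x hx hxT

theorem mem_T_iff {P : Subgroup Ω} {f : Ω → Ω} (hf : IsMor F P f) {x : Ω} (hx : x ∈ P) :
    f x ∈ T ↔ x ∈ T := by
  refine ⟨fun h => ?_, hq.mem_T hf hx⟩
  obtain ⟨g, hg, hgl, -, -⟩ := hf.inverse
  have := hq.mem_T hg (mem_img_of_mem f hx) h
  rwa [hgl x hx] at this

theorem conj_T {s t : Ω} (hs : s ∈ S) (ht : t ∈ T) : cj s t ∈ T :=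
  (Subgroup.mem_normalizer_iff.mp (stronglyClosed_le_normalizer hq.closed hs) t).mp ht

theorem img_inf {P : Subgroup Ω} {f : Ω → Ω} (hf : IsMor F P f) :
    img (P ⊓ T) f = img P f ⊓ T := by
  refine le_antisymm (img_le fun x hx => ⟨mem_img_of_mem f hx.1, hq.mem_T hf hx.1 hx.2⟩) ?_
  rintro y ⟨hy, hyT⟩
  obtain ⟨x, hx, rfl⟩ := hf.mem_img.mp hy
  exact mem_img_of_mem f (Subgroup.mem_inf.mpr ⟨hx, (hq.mem_T_iff hf hx).mp hyT⟩)

theorem img_sup_T {M : Subgroup Ω} {β : Ω → Ω} (hβ : IsMor F M β) (hTM : T ≤ M) : img T β = T :=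
  eq_of_le_of_card hq.le_S (img_le fun x hx => hq.mem_T hβ (hTM hx) hx)
    ((hβ.restrict hTM).card_img.ge)

theorem strict_id {U : Subgroup Ω} : Strict E U id :=
  ⟨fun x _ => by simp [T.one_mem], isMor_id E inf_le_right⟩

theorem strict_restrict {U U' : Subgroup Ω} {f : Ω → Ω} (h : Strict E U f) (hU : U' ≤ U) :
    Strict E U' f :=
  ⟨fun x hx => h.1 x (hU hx), h.2.restrict (inf_le_inf_right T hU)⟩

theorem strict_comp {U : Subgroup Ω} {f g : Ω → Ω} (hf : IsMor F U f) (h1 : Strict E U f)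
    (h2 : Strict E (img U f) g) : Strict E U (g ∘ f) := by
  refine ⟨fun x hx => ?_, h1.2.comp h2.2 fun x hx => ⟨mem_img_of_mem f hx.1, h1.2.mem hx⟩⟩
  have := T.mul_mem (h1.1 x hx) (h2.1 _ (mem_img_of_mem f hx))
  simpa [mul_assoc] using this

theorem strict_inverse {U : Subgroup Ω} {f g : Ω → Ω} (hf : IsMor F U f) (h : Strict E U f)
    (hg : ∀ x ∈ U, g (f x) = x) : Strict E (img U f) g := by
  refine ⟨fun y hy => ?_, ?_⟩
  · obtain ⟨x, hx, rfl⟩ := hf.mem_img.mp hy
    rw [hg x hx]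
    have := T.inv_mem (h.1 x hx)
    simpa using this
  · obtain ⟨k, hk, hkl, -, -⟩ := h.2.inverse
    rw [hq.img_inf hf] at hk
    refine hk.congr fun y hy => ?_
    obtain ⟨x, hx, rfl⟩ := hf.mem_img.mp hy.1
    rw [hkl x (Subgroup.mem_inf.mpr ⟨hx, (hq.mem_T_iff hf hx).mp hy.2⟩), hg x hx]

theorem strict_transport {U M : Subgroup Ω} {f f' h : Ω → Ω} (hs : Strict E U f)
    (hh : IsMor F M h) (hUM : U ≤ M) (hfM : ∀ x ∈ U, f x ∈ M)
    (he : ∀ x ∈ U, f' (h x) = h (f x)) : Strict E (img U h) f' := by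
  refine ⟨fun y hy => ?_, ?_⟩
  · obtain ⟨x, hx, rfl⟩ := (hh.restrict hUM).mem_img.mp hy
    rw [he x hx, ← hh.map_inv (hUM hx), ← hh.map_mul (M.inv_mem (hUM hx)) (hfM x hx)]
    exact hq.mem_T hh (M.mul_mem (M.inv_mem (hUM hx)) (hfM x hx)) (hs.1 x hx)
  · obtain ⟨k, hk, hke⟩ := hq.inv (U ⊓ T) (M ⊓ T) f h (inf_le_inf_right T hUM) inf_le_right hs.2
      (fun x hx => ⟨hfM x hx.1, hs.2.mem hx⟩) (hh.restrict inf_le_left)
    rw [hq.img_inf (hh.restrict hUM)] at hk
    refine hk.congr fun y hy => ?_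
    obtain ⟨x, hx, rfl⟩ := (hh.restrict hUM).mem_img.mp hy.1
    rw [hke x (Subgroup.mem_inf.mpr ⟨hx, (hq.mem_T_iff hh (hUM hx)).mp hy.2⟩), he x hx]

theorem strict_cj {U : Subgroup Ω} (hU : U ≤ S) {t : Ω} (ht : t ∈ T) : Strict E U (cj t) := by
  refine ⟨fun x hx => ?_, isMor_cj E inf_le_right ht⟩
  have h1 := T.mul_mem (hq.conj_T (S.inv_mem (hU hx)) ht) (T.inv_mem ht)
  simpa [cj, mul_assoc] using h1

theorem hcen_mono {U V : Subgroup Ω} (h : HCen S E U) (hUV : U ≤ V) (hV : V ≤ S) : HCen S E V :=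
  ⟨hV, centric_mono h.2 (inf_le_inf_right T hUV) inf_le_right⟩

theorem hcen_img {U : Subgroup Ω} {h : Ω → Ω} (hU : HCen S E U) (hh : IsMor F U h) :
    HCen S E (img U h) :=
  ⟨hh.img_le, hq.img_inf hh ▸ centric_img_of_invariant hq.pgroup hq.sat hq.sub hq.closed hq.inv
    hU.2 (hh.restrict inf_le_left)⟩

theorem hcen_top {V : Subgroup Ω} (hV : V ≤ S) (hTV : T ≤ V) : HCen S E V := by
  have : Finite T := finite_of_le hq.le_S
  refine ⟨hV, ?_⟩
  rw [inf_eq_right.mpr hTV]
  exact centric_self E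

theorem mem_bAut_iff {V : Subgroup Ω} (hV : V ≤ S) {α : MulAut V} :
    α ∈ bAut F E V ↔ α ∈ F.autGroup V ∧ Strict E V (autFun α) := by
  refine ⟨fun h => ?_, fun h => Subgroup.subset_closure h⟩
  induction h using Subgroup.closure_induction with
  | mem a ha => exact ha
  | one =>
    exact ⟨Subgroup.one_mem _, strict_congr hq.strict_id fun x hx => (autFun_one hx).symm⟩
  | mul a b _ _ ha hb =>
    refine ⟨Subgroup.mul_mem _ ha.1 hb.1, ?_⟩
    have hbm := isMor_autFun hV hb.1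
    exact strict_congr (hq.strict_comp hbm hb.2 (by rw [img_autFun]; exact ha.2))
      fun x hx => (autFun_mul a b hx).symm
  | inv a _ ha =>
    refine ⟨Subgroup.inv_mem _ ha.1, ?_⟩
    have h1 := hq.strict_inverse (isMor_autFun hV ha.1) ha.2 fun x hx => autFun_inv_left a hx
    rwa [img_autFun] at h1

theorem goodK_le_bAut {V : Subgroup Ω} : goodK F E p V ≤ bAut F E V :=
  Subgroup.closure_mono fun _ h => ⟨h.mem, h.strict⟩

theorem goodK_le {V : Subgroup Ω} : goodK F E p V ≤ F.autGroup V :=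
  (Subgroup.closure_le _).mpr fun _ h => h.mem

theorem strict_goodK {V : Subgroup Ω} (hV : V ≤ S) {α : MulAut V} (hα : α ∈ goodK F E p V) :
    Strict E V (autFun α) :=
  ((hq.mem_bAut_iff hV).mp (hq.goodK_le_bAut hα)).2

theorem good_transport {V V' M : Subgroup Ω} {h : Ω → Ω} (hh : IsMor F M h) (hVM : V ≤ M)
    (hhi : img V h = V') {e : MulAut V ≃* MulAut V'}
    (he : ∀ α : MulAut V, ∀ x ∈ V, autFun (e α) (h x) = h (autFun α x)) {α : MulAut V}
    (hα : IsGood F E p V α) : IsGood F E p V' (e α) := by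
  have hhV := hh.restrict hVM
  subst hhi
  refine ⟨hq.hcen_img hα.cen hhV, ?_, hq.strict_transport hα.strict hh hVM
    (fun x hx => hVM (autFun_mem α hx)) (he α), by rw [e.orderOf_eq]; exact hα.coprime⟩
  obtain ⟨gi, hgi, hgl, -, hgii⟩ := hhV.inverse
  have hc : ∀ y ∈ img V h, gi y ∈ V := fun y hy => hgii ▸ mem_img_of_mem gi hy
  refine (autGroup_eq_set hhV.img_le _).mpr ((((hgi.comp (isMor_autFun hα.cen.1 hα.mem) hc).comp
    hhV fun y hy => autFun_mem α (hc y hy))).congr fun y hy => ?_)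
  obtain ⟨x, hx, rfl⟩ := hhV.mem_img.mp hy
  simp only [Function.comp_apply]
  rw [he α x hx, hgl x hx]

theorem goodK_transport {V V' M : Subgroup Ω} {h : Ω → Ω} (hh : IsMor F M h) (hVM : V ≤ M)
    (hhi : img V h = V') {e : MulAut V ≃* MulAut V'}
    (he : ∀ α : MulAut V, ∀ x ∈ V, autFun (e α) (h x) = h (autFun α x)) {α : MulAut V}
    (hα : α ∈ goodK F E p V) : e α ∈ goodK F E p V' := by
  induction hα using Subgroup.closure_induction with
  | mem a ha => exact Subgroup.subset_closure (hq.good_transport hh hVM hhi he ha)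
  | one => rw [map_one]; exact Subgroup.one_mem _
  | mul a b _ _ ha hb => rw [map_mul]; exact Subgroup.mul_mem _ ha hb
  | inv a _ ha => rw [map_inv]; exact Subgroup.inv_mem _ ha

theorem goodK_conj {V : Subgroup Ω} (hV : V ≤ S) {θ : MulAut V} (hθ : θ ∈ F.autGroup V)
    {α : MulAut V} (hα : α ∈ goodK F E p V) : θ * α * θ⁻¹ ∈ goodK F E p V := by
  have hm := isMor_autFun hV hθ
  obtain ⟨e, he, -, -⟩ := exists_transport hm (img_autFun θ)
  have h1 := hq.goodK_transport hm le_rfl (img_autFun θ) he hα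
  rwa [autFun_inj (α := θ * α * θ⁻¹) (β := e α) fun x hx => by
    rw [autFun_mul _ _ hx, autFun_mul _ _ (autFun_mem _ hx), ← he α _ (autFun_mem _ hx),
      autFun_inv_right θ hx]]

theorem good_restrict {V U : Subgroup Ω} {α : MulAut V} (hα : IsGood F E p V α) (hUV : U ≤ V)
    (hU : HCen S E U) (hmaps : ∀ x ∈ U, autFun α x ∈ U) :
    ∃ β, IsGood F E p U β ∧ ∀ x ∈ U, autFun β x = autFun α x := by
  have : Finite U := finite_of_le hU.1
  have hst : α ∈ stabIn V U := mem_stabIn_of_maps hUV hmaps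
  have e : ∀ x ∈ U, autFun (resC hUV ⟨α, hst⟩) x = autFun α x :=
    fun x hx => autFun_resC hUV _ hx
  refine ⟨_, ⟨hU, (autGroup_eq_set hU.1 _).mpr
    (((isMor_autFun hα.cen.1 hα.mem).restrict hUV).congr fun x hx => (e x hx).symm),
    strict_congr (hq.strict_restrict hα.strict hUV) fun x hx => (e x hx).symm,
    Nat.Coprime.coprime_dvd_left (orderOf_map_dvd (resC hUV) _)
      (by rw [← Subgroup.orderOf_coe]; exact hα.coprime)⟩, e⟩

/-- Restriction to a subgroup containing `T`. -/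
theorem good_restrict_inf {V R : Subgroup Ω} {α : MulAut V} (hα : IsGood F E p V α)
    (hTR : T ≤ R) :
    ∃ β : MulAut ↥(V ⊓ R), IsGood F E p (V ⊓ R) β ∧ ∀ x ∈ V ⊓ R, autFun β x = autFun α x := by
  refine hq.good_restrict hα inf_le_left ⟨inf_le_left.trans hα.cen.1, ?_⟩ fun x hx =>
    ⟨autFun_mem α hx.1, ?_⟩
  · rw [inf_assoc, inf_eq_right.mpr hTR]
    exact hα.cen.2
  · have := R.mul_mem hx.2 (hTR (hα.strict.1 x hx.1))
    rwa [mul_inv_cancel_left] at this

theorem ggen_isMor {U : Subgroup Ω} {f : Ω → Ω} (h : GGen F E p U f) :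
    IsMor F U f ∧ Strict E U f := by
  induction h with
  | step hα hUV e =>
    exact ⟨((isMor_autFun hα.cen.1 hα.mem).restrict hUV).congr fun x hx => (e x hx).symm,
      strict_congr (hq.strict_restrict hα.strict hUV) fun x hx => (e x hx).symm⟩
  | @comp U f g k _ _ e ih1 ih2 =>
    exact ⟨(ih1.1.comp ih2.1 fun x hx => mem_img_of_mem f hx).congr fun x hx => (e x hx).symm,
      strict_congr (hq.strict_comp ih1.1 ih1.2 ih2.2) fun x hx => (e x hx).symm⟩

theorem ggen_le {U : Subgroup Ω} {f : Ω → Ω} (h : GGen F E p U f) : img U f ≤ U ⊔ T :=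
  img_le fun x hx => by
    have := Subgroup.mul_mem _ (Subgroup.mem_sup_left (T := T) hx)
      (Subgroup.mem_sup_right (S := U) ((hq.ggen_isMor h).2.1 x hx))
    rwa [mul_inv_cancel_left] at this

omit hq in
theorem ggen_congr {U : Subgroup Ω} {f f' : Ω → Ω} (h : GGen F E p U f)
    (e : ∀ x ∈ U, f x = f' x) : GGen F E p U f' := by
  cases h with
  | step h1 h2 h3 => exact .step h1 h2 fun x hx => (e x hx).symm.trans (h3 x hx)
  | comp h1 h2 h3 => exact .comp h1 h2 fun x hx => (e x hx).symm.trans (h3 x hx)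

omit hq in
theorem ggen_restrict {U : Subgroup Ω} {f : Ω → Ω} (h : GGen F E p U f) :
    ∀ U' ≤ U, GGen F E p U' f := by
  induction h with
  | step h1 h2 h3 => exact fun U' hU => .step h1 (hU.trans h2) fun x hx => h3 x (hU hx)
  | @comp U f g k _ _ e ih1 ih2 =>
    exact fun U' hU => .comp (ih1 U' hU) (ih2 _ (img_mono f hU)) fun x hx => e x (hU hx)

theorem ggen_id {U : Subgroup Ω} (hU : U ≤ S) : GGen F E p U id := by
  have hV : U ⊔ T ≤ S := sup_le hU hq.le_S
  have h1 : IsGood F E p (U ⊔ T) 1 := ⟨hq.hcen_top hV le_sup_right, Subgroup.one_mem _,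
    strict_congr hq.strict_id fun x hx => (autFun_one hx).symm,
    by rw [orderOf_one]; exact Nat.coprime_one_left p⟩
  exact .step h1 le_sup_left fun x hx => (autFun_one (Subgroup.mem_sup_left hx)).symm

theorem ggen_inverse {U : Subgroup Ω} {f : Ω → Ω} (h : GGen F E p U f) :
    ∃ g, GGen F E p (img U f) g ∧ ∀ x ∈ U, g (f x) = x := by
  induction h with
  | @step U V f α hα hUV e =>
    have hα' : IsGood F E p V α⁻¹ :=
      ⟨hα.cen, Subgroup.inv_mem _ hα.mem,
        ((hq.mem_bAut_iff hα.cen.1).mp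
          ((bAut F E V).inv_mem (Subgroup.subset_closure ⟨hα.mem, hα.strict⟩))).2,
        by rw [orderOf_inv]; exact hα.coprime⟩
    refine ⟨autFun α⁻¹, .step hα' (img_le fun x hx => e x hx ▸ autFun_mem α (hUV hx)) fun _ _ => rfl,
      fun x hx => ?_⟩
    rw [e x hx, autFun_inv_left α (hUV hx)]
  | @comp U f g k h1 h2 e ih1 ih2 =>
    obtain ⟨g1, hg1, e1⟩ := ih1
    obtain ⟨g2, hg2, e2⟩ := ih2
    have hf := (hq.ggen_isMor h1).1
    have hgf := (hq.ggen_isMor h2).1
    have hi : img (img U f) g = img U k := by rw [hf.img_comp, img_congr e]; rfl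
    have hi2 : img (img U k) g2 = img U f := by
      rw [← hi, hgf.img_comp]
      exact (img_congr (g := id) fun x hx => e2 x hx).trans (img_id _)
    rw [hi] at hg2
    rw [← hi2] at hg1
    refine ⟨g1 ∘ g2, .comp hg2 hg1 fun _ _ => rfl, fun x hx => ?_⟩
    rw [Function.comp_apply, e x hx, e2 _ (mem_img_of_mem f hx), e1 x hx]

theorem ggen_transport {U : Subgroup Ω} {f : Ω → Ω} (h : GGen F E p U f) :
    ∀ {M : Subgroup Ω} {h' : Ω → Ω}, IsMor F M h' → U ≤ M → T ≤ M →
      ∃ f', GGen F E p (img U h') f' ∧ ∀ x ∈ U, f' (h' x) = h' (f x) := by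
  induction h with
  | @step U V f α hα hUV e =>
    intro M h' hh' hUM hTM
    obtain ⟨β, hβ, hβe⟩ := hq.good_restrict_inf hα hTM
    obtain ⟨e', he', -, -⟩ := exists_transport (hh'.restrict (inf_le_right : V ⊓ M ≤ M)) rfl
    refine ⟨autFun (e' β), .step (hq.good_transport hh' inf_le_right rfl he' hβ)
      (img_mono h' (le_inf hUV hUM)) fun _ _ => rfl, fun x hx => ?_⟩
    have hxV : x ∈ V ⊓ M := ⟨hUV hx, hUM hx⟩
    rw [he' β x hxV, hβe x hxV, e x hx]
  | @comp U f g k h1 h2 e ih1 ih2 =>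
    intro M h' hh' hUM hTM
    have hfM : img U f ≤ M := (hq.ggen_le h1).trans (sup_le hUM hTM)
    obtain ⟨f', hf', ef⟩ := ih1 hh' hUM hTM
    obtain ⟨g', hg', eg⟩ := ih2 hh' hfM hTM
    have hi : img (img U f) h' = img (img U h') f' := by
      rw [(hq.ggen_isMor h1).1.img_comp, (hh'.restrict hUM).img_comp]
      exact img_congr fun x hx => (ef x hx).symm
    refine ⟨g' ∘ f', .comp hf' (hi ▸ hg') fun _ _ => rfl, fun x hx => ?_⟩
    rw [Function.comp_apply, ef x hx, eg _ (mem_img_of_mem f hx), e x hx]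

theorem dec_isMor {P : Subgroup Ω} {f : Ω → Ω} (h : Dec F E p P f) : IsMor F P f := by
  obtain ⟨d, β, hd, hβ, e⟩ := h
  exact (((hq.ggen_isMor hd).1.comp hβ fun x hx => hq.ggen_le hd (mem_img_of_mem d hx))).congr
    fun x hx => (e x hx).symm

omit hq in
theorem dec_congr {P : Subgroup Ω} {f g : Ω → Ω} (h : Dec F E p P f)
    (e : ∀ x ∈ P, f x = g x) : Dec F E p P g := by
  obtain ⟨d, β, hd, hβ, e'⟩ := h
  exact ⟨d, β, hd, hβ, fun x hx => (e x hx).symm.trans (e' x hx)⟩

theorem dec_restrict {P P' : Subgroup Ω} {f : Ω → Ω} (h : Dec F E p P f) (hP : P' ≤ P) :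
    Dec F E p P' f := by
  obtain ⟨d, β, hd, hβ, e⟩ := h
  exact ⟨d, β, ggen_restrict hd P' hP, hβ.restrict (sup_le_sup_right hP T),
    fun x hx => e x (hP hx)⟩

theorem dec_of_isMor {P : Subgroup Ω} {f : Ω → Ω} (hf : IsMor F (P ⊔ T) f) : Dec F E p P f :=
  ⟨id, f, hq.ggen_id (le_sup_left.trans hf.le), hf, fun _ _ => rfl⟩

theorem dec_of_ggen {P : Subgroup Ω} {f : Ω → Ω} (hf : GGen F E p P f) : Dec F E p P f :=
  ⟨f, id, hf, isMor_id F (sup_le (hq.ggen_isMor hf).1.le hq.le_S), fun _ _ => rfl⟩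

theorem sup_img_eq {P : Subgroup Ω} {d : Ω → Ω} (hd : GGen F E p P d) :
    img P d ⊔ T = P ⊔ T := by
  refine le_antisymm (sup_le (hq.ggen_le hd) le_sup_right) (sup_le (fun x hx => ?_) le_sup_right)
  have h3 := Subgroup.mul_mem _ (Subgroup.mem_sup_left (T := T) (mem_img_of_mem d hx))
    (Subgroup.mem_sup_right (S := img P d) (T.inv_mem ((hq.ggen_isMor hd).2.1 x hx)))
  simpa [mul_assoc] using h3

theorem dec_img {P : Subgroup Ω} {f d β : Ω → Ω} (hd : GGen F E p P d)
    (hβ : IsMor F (P ⊔ T) β) (e : ∀ x ∈ P, f x = β (d x)) :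
    img (img P d) β = img P f ∧ img (P ⊔ T) β = img P f ⊔ T := by
  have h1 : img (img P d) β = img P f := by
    rw [(hq.ggen_isMor hd).1.img_comp]
    exact img_congr fun x hx => (e x hx).symm
  refine ⟨h1, ?_⟩
  have hβ' : IsMor F (img P d ⊔ T) β := (hq.sup_img_eq hd).symm ▸ hβ
  rw [← hq.sup_img_eq hd, hβ'.img_sup, h1, hq.img_sup_T hβ le_sup_right]

theorem dec_comp {P R : Subgroup Ω} {f g : Ω → Ω} (h1 : Dec F E p P f) (h2 : Dec F E p R g)
    (hR : ∀ x ∈ P, f x ∈ R) : Dec F E p P (g ∘ f) := by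
  obtain ⟨d', β', hd', hβ', e'⟩ := hq.dec_restrict h2 (img_le hR : img P f ≤ R)
  obtain ⟨d, β, hd, hβ, e⟩ := h1
  obtain ⟨γ, hγ, hγl, hγr, -⟩ := hβ.inverse
  obtain ⟨hPf, hMi⟩ := hq.dec_img hd hβ e
  rw [hMi] at hγ hγr
  obtain ⟨d'', hd'', hde⟩ := hq.ggen_transport hd' hγ le_sup_left le_sup_right
  have hγf : ∀ x ∈ P, γ (f x) = d x := fun x hx => by
    rw [e x hx]
    exact hγl _ (hq.ggen_le hd (mem_img_of_mem d hx))
  have hi : img (img P f) γ = img P d := by
    refine le_antisymm (img_le fun y hy => ?_) (img_le fun x hx => ?_)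
    · rw [← hPf] at hy
      obtain ⟨z, hz, rfl⟩ := (hβ.restrict (hq.ggen_le hd)).mem_img.mp hy
      rw [hγl z (hq.ggen_le hd hz)]
      exact hz
    · rw [← hγf x hx]
      exact mem_img_of_mem γ (mem_img_of_mem f hx)
  rw [hi] at hd''
  refine ⟨d'' ∘ d, β' ∘ β, .comp hd hd'' fun _ _ => rfl,
    hβ.comp hβ' fun x hx => hMi ▸ mem_img_of_mem β hx, fun x hx => ?_⟩
  simp only [Function.comp_apply]
  have hfx : f x ∈ img P f := mem_img_of_mem f hx
  rw [e' _ hfx, ← hγf x hx, hde _ hfx, hγr _ (hq.ggen_le hd' (mem_img_of_mem d' hfx))]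

theorem dec_inverse {P : Subgroup Ω} {f : Ω → Ω} (h : Dec F E p P f) :
    ∃ g, Dec F E p (img P f) g ∧ ∀ x ∈ P, g (f x) = x := by
  obtain ⟨d, β, hd, hβ, e⟩ := h
  obtain ⟨γ, hγ, hγl, -, -⟩ := hβ.inverse
  obtain ⟨hPf, hMi⟩ := hq.dec_img hd hβ e
  rw [hMi] at hγ
  obtain ⟨di, hdi, hdl⟩ := hq.ggen_inverse hd
  refine ⟨di ∘ γ, hq.dec_comp (R := img P d) (hq.dec_of_isMor hγ) (hq.dec_of_ggen hdi)
    fun y hy => ?_, fun x hx => ?_⟩
  · rw [← hPf] at hy
    obtain ⟨z, hz, rfl⟩ := (hβ.restrict (hq.ggen_le hd)).mem_img.mp hy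
    rw [hγl z (hq.ggen_le hd hz)]
    exact hz
  · rw [Function.comp_apply, e x hx, hγl _ (hq.ggen_le hd (mem_img_of_mem d hx)), hdl x hx]

/-- The maps which decompose form a fusion system. -/
theorem exists_decSys : ∃ G : FusionSystem S, ∀ P f, IsMor G P f ↔ Dec F E p P f := by
  refine ⟨ofPred S (Dec F E p)
    (fun P f h => ⟨(hq.dec_isMor h).le, fun x hx => (hq.dec_isMor h).mem hx⟩)
    (fun P f h x hx y hy e => (hq.dec_isMor h).inj hx hy e)
    (fun P f g h e => dec_congr h e) (fun P g hP hg => hq.dec_of_isMor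
      (isMor_cj F (sup_le hP hq.le_S) hg))
    (fun P R f g hf hg h => hq.dec_comp hf hg h) (fun P f hf _ => hq.dec_inverse hf),
    fun P f => ?_⟩
  rw [isMor_ofPred fun h x hx y hy => (hq.dec_isMor h).map_mul hx hy]

/-- **Every map of `F` decomposes.** -/
theorem dec_all {P : Subgroup Ω} {f : Ω → Ω} (hf : IsMor F P f) : Dec F E p P f := by
  obtain ⟨G, hG⟩ := hq.exists_decSys
  have hS := hq.pgroup
  suffices h : ∀ (d : ℕ) (P : Subgroup Ω) (f : Ω → Ω),
      Nat.card S - Nat.card P = d → IsMor F P f → IsMor G P f from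
    (hG P f).mp (h _ P f rfl hf)
  intro d
  induction d using Nat.strong_induction_on with
  | _ d ih =>
  intro P f hd hf
  subst hd
  have hPfin : Finite P := finite_of_le hf.le
  refine alperin_above (Nat.card P - 1) hS hq.sat ?_ P f hf (Nat.sub_lt Nat.card_pos Nat.one_pos)
  intro V hVcard hV α hα
  obtain ⟨hVn, hVc, hVr⟩ : F.IsFullyNormalized V ∧ F.IsCentric V ∧ F.IsRadical p V := by
    rcases hV with rfl | hV
    · exact ⟨isFullyNormalized_self F, centric_self F, radical_self hS hq.sat⟩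
    · exact ⟨hV.2.1, hV.1, essential_radical hS hV⟩
  have hVS := hVn.1
  refine (autGroup_eq_set hVS α).mpr ((hG _ _).mpr ?_)
  rcases lt_or_eq_of_le (show Nat.card P ≤ Nat.card V by omega) with hlt | heq
  · refine (hG _ _).mp (ih _ ?_ V _ rfl (isMor_autFun hVS hα))
    have := Subgroup.card_le_of_le hVS
    omega
  by_cases hTV : T ≤ V
  · exact hq.dec_of_isMor ((isMor_autFun hVS hα).restrict (sup_le le_rfl hTV))
  have hcen : HCen S E V := ⟨hVS, by_contra fun h =>
    not_radical_of_inf_not_centric hS hq.sat hq.closed hq.sub hVc h hVr⟩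
  have := finite_mulAut hVS
  set B := bAut F E V with hB
  have hBF : B ≤ F.autGroup V := (Subgroup.closure_le _).mpr fun _ h => h.1
  have hBn : ∀ θ ∈ F.autGroup V, ∀ b ∈ B, θ * b * θ⁻¹ ∈ B := by
    intro θ hθ b hb
    obtain ⟨hb1, hb2⟩ := (hq.mem_bAut_iff hVS).mp hb
    refine (hq.mem_bAut_iff hVS).mpr ⟨Subgroup.mul_mem _ (Subgroup.mul_mem _ hθ hb1)
      (Subgroup.inv_mem _ hθ), ?_⟩
    have hm := isMor_autFun hVS hθ
    have h1 := hq.strict_transport (f' := autFun (θ * b * θ⁻¹)) hb2 hm le_rfl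
      (fun x hx => autFun_mem b hx) fun x hx => by
        rw [autFun_mul _ _ (autFun_mem θ hx), autFun_inv_left θ hx, autFun_mul _ _ hx]
    rwa [img_autFun] at h1
  obtain ⟨hfa, hrec⟩ := isFullyAutomized_of_normalized hS hq.sat hVn
  have hsyl := isSylIn_inf (isFullyAutomized_iff.mp hfa).2 hBF hBn
  obtain ⟨b, hb, hbC⟩ := hsyl.exists_conj_le
    (C := (autInducedBy S V ⊓ B).map (MulAut.conj α).toMonoidHom) (hsyl.2.1.map _) (by
      rintro _ ⟨c, hc, rfl⟩
      exact hBn α hα c hc.2)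
  set γ := b * α with hγ
  have hγF : γ ∈ F.autGroup V := Subgroup.mul_mem _ (hBF hb) hα
  -- the part normalizing the Sylow subgroup extends
  have hγD : IsMor G V (autFun γ) := by
    obtain ⟨k, hk, hke⟩ :=
      (isReceptive_iff.mp hrec).2 V _ (isMor_autFun hVS hγF) (img_autFun γ)
    set I := indPre S V (autInducedBy S V ⊓ B) with hI
    set M := V ⊔ I with hM
    have hIS : I ≤ S := indPre_le.trans normalizerIn_le
    have hMS : M ≤ S := sup_le hVS hIS
    have hIk : I ≤ nExt S V (autFun γ) := by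
      rintro s ⟨hsN, σ, hσ, hσe⟩
      have h1 : γ * σ * γ⁻¹ ∈ autInducedBy S V ⊓ B := by
        have := hbC _ ⟨σ, hσ, rfl⟩
        simpa [hγ, mul_assoc] using this
      obtain ⟨h, hh, -, hhe⟩ := mem_autInducedBy.mp h1.1
      exact ⟨(mem_normalizerIn.mp hsN).1, (mem_normalizerIn.mp hsN).2, h, hh,
        (mul_conj_aut (α := γ) hσe hhe).mp rfl⟩
    have hMk : M ≤ nExt S V (autFun γ) := sup_le (le_nExt (isMor_autFun hVS hγF)) hIk
    have hVM : V < M := by
      refine lt_of_le_of_ne le_sup_left fun hEq => hTV ?_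
      have hTS := hq.le_S
      by_contra hnot
      have hlt : V < V ⊔ T := lt_of_le_of_ne le_sup_left fun h => hnot (le_sup_right.trans h.ge)
      have : Finite ↥(V ⊔ T) := finite_of_le (sup_le hVS hTS)
      obtain ⟨z, hz, hzV⟩ := SetLike.exists_of_lt
        (lt_inf_normalizer (isPGroup_of_le (sup_le hVS hTS) hS) hlt)
      obtain ⟨hzsup, hzN⟩ := Subgroup.mem_inf.mp hz
      rw [← SetLike.mem_coe, Subgroup.coe_mul_of_left_le_normalizer_right V T
        (hVS.trans (stronglyClosed_le_normalizer hq.closed))] at hzsup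
      obtain ⟨v, hv, t, ht, rfl⟩ := hzsup
      have htV : t ∉ V := fun h => hzV (V.mul_mem hv h)
      have htN : t ∈ Subgroup.normalizer (V : Set Ω) := by
        have := Subgroup.mul_mem _ (Subgroup.inv_mem _ (Subgroup.le_normalizer hv)) hzN
        rwa [inv_mul_cancel_left] at this
      obtain ⟨σ, hσ, hσe⟩ := exists_autInducedBy (P := V) (hTS ht) htN
      have hσB : σ ∈ B := (hq.mem_bAut_iff hVS).mpr ⟨autInducedBy_le F hVS hσ,
        strict_congr (hq.strict_cj hVS ht) fun x hx => (hσe x hx).symm⟩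
      exact htV (hEq.ge (Subgroup.mem_sup_right
        (⟨mem_normalizerIn.mpr ⟨hTS ht, htN⟩, σ, ⟨hσ, hσB⟩, hσe⟩ : t ∈ I)))
    refine ((ih _ ?_ M k rfl (hk.restrict hMk)).restrict le_sup_left).congr hke
    have h1 := card_lt_of_lt hMS hVM
    have h2 : Nat.card M ≤ Nat.card S := Subgroup.card_le_of_le hMS
    omega
  have hBG : B ≤ G.autGroup V := le_of_sylIn_of_coprime hsyl
    (inf_le_left.trans (autInducedBy_le G hVS)) fun c hc hcc => by
      obtain ⟨hc1, hc2⟩ := (hq.mem_bAut_iff hVS).mp hc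
      exact (autGroup_eq_set hVS c).mpr ((hG _ _).mpr (hq.dec_of_ggen
        (.step ⟨hcen, hc1, hc2, hcc⟩ le_rfl fun _ _ => rfl)))
  have hαG : α ∈ G.autGroup V := by
    have := Subgroup.mul_mem _ (Subgroup.inv_mem _ (hBG hb)) ((autGroup_eq_set hVS γ).mpr hγD)
    rwa [hγ, inv_mul_cancel_left] at this
  exact (hG _ _).mp (isMor_autFun hVS hαG)

end ProdHyp

end CfsgLib.Fusion
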