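import Mathlib
import Cfsg.Agent.Lib.Fusion.ProductGood
import Cfsg.Agent.Lib.Fusion.HyperfocalGroup

/-!
# The key lemma on the generators

At a fully normalized subgroup `P` meeting `T` in a fully normalized subgroup, the generators extend to the
preimages of the groups of induced automorphisms they normalize, moving them into `T`; hence the automorphisms
induced by `S` in the group they generate are induced by `T`.
-/

set_option autoImplicit false
set_option linter.unusedSectionVars false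
set_option maxHeartbeats 1000000

namespace CfsgLib.Fusion

open Cfsg Cfsg.FusionSystem

variable {Ω : Type*} [Group Ω] {S T : Subgroup Ω} {F : FusionSystem S} {E : FusionSystem T}
  {p : ℕ} [hp : Fact p.Prime] [Finite S]

namespace ProdHyp

variable (hq : ProdHyp F E p)
include hq

/-- Every subgroup has a fully normalized conjugate meeting `T` in a fully normalized subgroup. -/
theorem exists_conj_pair {P : Subgroup Ω} (hP : P ≤ S) :
    ∃ a, IsMor F (normalizerIn S P) a ∧ F.IsFullyNormalized (img P a) ∧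
      F.IsFullyNormalized (img P a ⊓ T) := by
  have hS := hq.pgroup
  obtain ⟨P₁, hP₁, hP₁n⟩ := exists_fullyNormalized F hP
  obtain ⟨a₁, ha₁, ha₁P, ha₁N⟩ := exists_map_fullyNormalized hS hq.sat hP₁n hP₁
  set W₁ := P₁ ⊓ T with hW₁
  have hP₁S := hP₁n.1
  obtain ⟨W₂, hW₂, hW₂n⟩ := exists_fullyNormalized F (inf_le_left.trans hP₁S : W₁ ≤ S)
  obtain ⟨a₂, ha₂, ha₂W, -⟩ := exists_map_fullyNormalized hS hq.sat hW₂n hW₂
  have hNN : normalizerIn S P₁ ≤ normalizerIn S W₁ := by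
    intro s hs
    obtain ⟨hsS, hsn⟩ := mem_normalizerIn.mp hs
    have : Finite W₁ := finite_of_le (inf_le_left.trans hP₁S)
    exact mem_normalizerIn.mpr ⟨hsS, Subgroup.mem_normalizer_fintype fun x hx =>
      ⟨(Subgroup.mem_normalizer_iff.mp hsn x).mp hx.1, hq.conj_T hsS hx.2⟩⟩
  have hPN : P ≤ normalizerIn S P := le_normalizerIn hP
  have hm : ∀ x ∈ normalizerIn S P, a₁ x ∈ normalizerIn S W₁ := fun x hx =>
    hNN (ha₁N (mem_img_of_mem a₁ hx))
  have ha := ha₁.comp ha₂ hm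
  have hi : img P (a₂ ∘ a₁) = img P₁ a₂ := by rw [← (ha₁.restrict hPN).img_comp, ha₁P]
  have hP₁N : P₁ ≤ normalizerIn S P₁ := le_normalizerIn hP₁S
  refine ⟨a₂ ∘ a₁, ha, ?_, ?_⟩
  · rw [hi]
    refine ⟨(ha₂.restrict (hP₁N.trans hNN)).img_le, fun Q hQ => ?_⟩
    refine le_trans (hP₁n.2 Q (isConj_trans (isConj_img (ha₂.restrict (hP₁N.trans hNN))) hQ)) ?_
    exact card_le_of_img_le (ha₂.restrict hNN) normalizerIn_le
      (img_le fun x hx => mapsTo_normalizerIn (ha₂.restrict hNN) hP₁N le_rfl x hx)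
  · rw [hi, ← hq.img_inf (ha₂.restrict (hP₁N.trans hNN))]
    rwa [ha₂W]

/-- A coprime automorphism of `Y ≤ T` extending a map of `E` on a fully normalized centric
subgroup is in `E`. -/
theorem isMor_E_of_restrict {W Y : Subgroup Ω} (hWn : F.IsFullyNormalized W)
    (hWc : E.IsCentric W) (hWY : W ≤ Y) (hYN : Y ≤ normalizerIn T W) {γ : MulAut Y}
    (hγ : γ ∈ F.autGroup Y) (hγc : (orderOf γ).Coprime p) {b : MulAut W} (hb : b ∈ E.autGroup W)
    (he : ∀ x ∈ W, autFun γ x = autFun b x) : γ ∈ E.autGroup Y := by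
  have hS := hq.pgroup
  have hWT := hWc.1
  have hYT : Y ≤ T := hYN.trans normalizerIn_le
  have hYS : Y ≤ S := hYT.trans hq.le_S
  have hCW := hWc.2 W (isConj_refl E hWT)
  have : Finite T := finite_of_le hq.le_S
  have := finite_mulAut hYS
  have : Finite Y := finite_of_le hYS
  have : Finite W := finite_of_le (hWT.trans hq.le_S)
  obtain ⟨g, hg, hge⟩ := (isReceptive_iff.mp (isFullyAutomized_of_normalized hq.tpgroup hq.esat
    (isFullyNormalized_sub hS hq.sat hq.sub hq.closed hWn hWT)).2).2 W _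
    (isMor_autFun hWT hb) (img_autFun b)
  have hγm := isMor_autFun hYS hγ
  have hact : ∀ y ∈ Y, ∀ x ∈ W, autFun b (cj y x) = cj (autFun γ y) (autFun b x) := fun y hy x hx => by
    have hyx : cj y x ∈ W := (Subgroup.mem_normalizer_iff.mp (mem_normalizerIn.mp (hYN hy)).2 x).mp hx
    rw [← he x hx, ← he _ hyx, cj_apply, hγm.map_conj hy (hWY hx), cj_apply]
  have hYn : Y ≤ nExt T W (autFun b) := fun y hy =>
    ⟨hYT hy, (mem_normalizerIn.mp (hYN hy)).2, autFun γ y, hYT (autFun_mem γ hy), hact y hy⟩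
  have hgY := hg.restrict hYn
  have hmaps : ∀ y ∈ Y, g y ∈ Y := by
    intro y hy
    have hc : (autFun γ y)⁻¹ * g y ∈ centralizerIn T W := by
      refine mem_centralizerIn.mpr ⟨T.mul_mem (T.inv_mem (hYT (autFun_mem γ hy))) (hgY.mem hy),
        fun x hx => ?_⟩
      obtain ⟨w, hw, rfl⟩ : ∃ w ∈ W, autFun b w = x :=
        ⟨_, autFun_mem b⁻¹ hx, autFun_inv_right b hx⟩
      have hyw : cj y w ∈ W :=
        (Subgroup.mem_normalizer_iff.mp (mem_normalizerIn.mp (hYN hy)).2 w).mp hw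
      have h1 : cj (g y) (autFun b w) = autFun b (cj y w) := by
        rw [← hge w hw, ← hge _ hyw, cj_apply y, hgY.map_conj hy (hWY hw), cj_apply]
      rw [cj_mul, h1, hact y hy w hw, cj_inv_cj]
    have := Y.mul_mem (autFun_mem γ hy) (hWY (hCW hc))
    rwa [mul_inv_cancel_left] at this
  obtain ⟨e, he', hee⟩ := exists_aut hgY (hgY.img_eq_self hmaps)
  have he'F := autGroup_mono hq.sub he'
  set κ := e⁻¹ * γ with hκ
  have hκF : κ ∈ F.autGroup Y := mul_mem (inv_mem he'F) hγ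
  have hκD : ∀ x ∈ W, autFun κ x = x := fun x hx => by
    rw [hκ, autFun_mul _ _ (hWY hx), he x hx, ← hge x hx,
      ← hee x (hWY hx), autFun_inv_left e (hWY hx)]
  have hκz : ∀ y ∈ Y, y⁻¹ * autFun κ y ∈ W := fun y hy => by
    refine hCW (mem_centralizerIn.mpr ⟨mul_mem (inv_mem (hYT hy)) (hYT (autFun_mem κ hy)),
      fun x hx => ?_⟩)
    have hyx : cj y x ∈ W :=
      (Subgroup.mem_normalizer_iff.mp (mem_normalizerIn.mp (hYN hy)).2 x).mp hx
    have := (isMor_autFun hYS hκF).map_conj hy (hWY hx)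
    rw [← cj_apply, ← cj_apply, hκD x hx, hκD _ hyx] at this
    rw [cj_mul, ← this, cj_inv_cj]
  have hiter : ∀ n : ℕ, ∀ y ∈ Y, autFun (κ ^ n) y = y * (y⁻¹ * autFun κ y) ^ n := by
    intro n
    induction n with
    | zero => intro y hy; rw [pow_zero, autFun_one hy, pow_zero, mul_one]
    | succ n ih =>
      intro y hy
      have hz := hκz y hy
      rw [pow_succ', autFun_mul _ _ hy, ih y hy,
        autFun_map_mul κ hy (hWY (W.pow_mem hz n)), hκD _ (W.pow_mem hz n), pow_succ',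
        ← mul_assoc, ← mul_assoc, mul_inv_cancel, one_mul]
  obtain ⟨m, hm'⟩ := IsPGroup.iff_card.mp (isPGroup_of_le (hWT.trans hq.le_S) hS)
  have hκp : κ ^ p ^ m = 1 := autFun_inj fun y hy => by
    rw [hiter _ y hy, autFun_one hy,
      orderOf_dvd_iff_pow_eq_one.mp (hm' ▸ W.orderOf_dvd_natCard (hκz y hy)), mul_one]
  set N₂ := (E.autGroup Y).subgroupOf (F.autGroup Y) with hN₂
  have : N₂.Normal := ⟨fun n hn a => autGroup_conj_mem hq.inv hq.closed hYT a.2 hn⟩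
  let a₁ : F.autGroup Y := ⟨γ, hγ⟩
  let k : F.autGroup Y := ⟨κ, hκF⟩
  have hpi : (a₁ : F.autGroup Y ⧸ N₂) = (k : F.autGroup Y ⧸ N₂) := by
    refine ((QuotientGroup.eq (s := N₂)).mpr ?_).symm
    show k⁻¹ * a₁ ∈ N₂
    have h1 : ((k⁻¹ * a₁ : F.autGroup Y) : MulAut Y) = γ⁻¹ * e * γ := by
      simp [a₁, k, hκ]
    refine Subgroup.mem_subgroupOf.mpr ?_
    rw [h1]
    have h2 := autGroup_conj_mem hq.inv hq.closed hYT (inv_mem hγ) he'
    simpa using h2
  have h3 : orderOf (a₁ : F.autGroup Y ⧸ N₂) ∣ p ^ m := by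
    rw [hpi]
    exact orderOf_dvd_of_pow_eq_one (by
      rw [← QuotientGroup.mk_pow, show k ^ p ^ m = 1 from Subtype.ext hκp, QuotientGroup.mk_one])
  have h1 : orderOf (a₁ : F.autGroup Y ⧸ N₂) ∣ orderOf γ := by
    rw [show orderOf γ = orderOf a₁ from (Subgroup.orderOf_coe a₁)]
    exact orderOf_map_dvd (QuotientGroup.mk' N₂) a₁
  have h4 : (a₁ : F.autGroup Y ⧸ N₂) = 1 := orderOf_eq_one_iff.mp
    (Nat.eq_one_of_dvd_coprimes (hγc.pow_right m) h1 h3)
  exact (QuotientGroup.eq_one_iff a₁).mp h4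

/-- **The generators extend.** -/
theorem exists_good_ext {P : Subgroup Ω} (hPn : F.IsFullyNormalized P)
    (hWn : F.IsFullyNormalized (P ⊓ T)) {g : MulAut P} (hg : IsGood F E p P g)
    {Q : Subgroup (MulAut P)} (hInn : Inn P ≤ Q) (hQ : Q ≤ autInducedBy S P)
    (hgQ : ∀ q ∈ Q, g * q * g⁻¹ ∈ Q) :
    ∃ Γ : MulAut ↥(indPre S P Q), IsGood F E p (indPre S P Q) Γ ∧
      ∀ x ∈ P, autFun Γ x = autFun g x := by
  have hS := hq.pgroup
  have hPS := hPn.1
  have hTS := hq.le_S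
  have := finite_mulAut hPS
  have : Finite P := finite_of_le hPS
  have : Finite T := finite_of_le hTS
  set W := P ⊓ T with hW
  set X := indPre S P Q with hX
  set C := centralizerIn S W with hC
  have hPX : P ≤ X := le_indPre hPS hInn
  have hXS : X ≤ S := indPre_le.trans normalizerIn_le
  have hWP : W ≤ P := inf_le_left
  have hWS : W ≤ S := hWP.trans hPS
  have : Finite W := finite_of_le hWS
  have hgWm : ∀ x ∈ W, autFun g x ∈ W := fun x hx =>
    ⟨autFun_mem g hx.1, hg.strict.2.mem hx⟩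
  obtain ⟨gW, hgW, hgWe⟩ : ∃ gW ∈ E.autGroup W, ∀ x ∈ W, autFun gW x = autFun g x :=
    exists_aut hg.strict.2 (hg.strict.2.img_eq_self hgWm)
  have hgWc : (orderOf gW).Coprime p := by
    refine Nat.Coprime.coprime_dvd_left (orderOf_dvd_of_pow_eq_one (autFun_inj fun x hx => ?_))
      hg.coprime
    rw [← autFun_pow_congr hWP (fun y hy => (hgWe y hy).symm) _ x hx, pow_orderOf_eq_one,
      autFun_one (hWP hx), autFun_one hx]
  have hXW : X ≤ normalizerIn S W := by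
    intro s hs
    obtain ⟨hsS, hsn⟩ := mem_normalizerIn.mp (indPre_le hs)
    exact mem_normalizerIn.mpr ⟨hsS, Subgroup.mem_normalizer_fintype fun x hx =>
      ⟨(Subgroup.mem_normalizer_iff.mp hsn x).mp hx.1, hq.conj_T hsS hx.2⟩⟩
  have hNC : normalizerIn S W ≤ Subgroup.normalizer (C : Set Ω) := by
    intro s hs
    obtain ⟨hsS, hsn⟩ := mem_normalizerIn.mp hs
    have : Finite C := finite_of_le centralizerIn_le
    refine Subgroup.mem_normalizer_fintype fun c hc => ?_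
    refine mem_centralizerIn.mpr ⟨S.mul_mem (S.mul_mem hsS (centralizerIn_le hc)) (S.inv_mem hsS),
      fun y hy => ?_⟩
    have hy' : cj s⁻¹ y ∈ W := (Subgroup.mem_normalizer_iff.mp (Subgroup.inv_mem _ hsn) y).mp hy
    show cj (s * c * s⁻¹) y = y
    rw [cj_mul, cj_mul, (mem_centralizerIn.mp hc).2 _ hy', cj_cj_inv]
  -- the action on the generators of `X`
  have hact : ∀ x ∈ X, ∃ x' ∈ X, (∀ y ∈ P, autFun g (cj x y) = cj x' (autFun g y)) ∧
      x⁻¹ * x' ∈ T ⊔ C := by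
    rintro x ⟨hxN, σ, hσ, hσe⟩
    obtain ⟨x', hx', hx'n, hx'e⟩ := mem_autInducedBy.mp (hQ (hgQ σ hσ))
    obtain ⟨hxS, hxn⟩ := mem_normalizerIn.mp hxN
    refine ⟨x', ⟨mem_normalizerIn.mpr ⟨hx', hx'n⟩, _, hgQ σ hσ, hx'e⟩,
      (mul_conj_aut hσe hx'e).mp rfl, ?_⟩
    set δ := σ⁻¹ * (g * σ * g⁻¹) with hδ
    have hσF : σ ∈ F.autGroup P := autInducedBy_le F hPS (hQ hσ)
    have hδK : δ ∈ goodK F E p P := by
      have h1 : g ∈ goodK F E p P := Subgroup.subset_closure hg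
      have h2 := hq.goodK_conj hPS (inv_mem hσF) h1
      rw [inv_inv] at h2
      have h3 := Subgroup.mul_mem _ h2 (Subgroup.inv_mem _ h1)
      simpa [hδ, mul_assoc] using h3
    have hu : ∀ y ∈ P, autFun δ y = cj (x⁻¹ * x') y := fun y hy => by
      have hy' := autFun_mem (g * σ * g⁻¹) hy
      rw [hδ, autFun_mul _ _ hy, cj_mul, ← hx'e y hy]
      conv_rhs => rw [← autFun_inv_right σ hy', hσe _ (autFun_mem _ hy'), cj_inv_cj]
    have hδs := hq.strict_goodK hPS hδK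
    have huS : x⁻¹ * x' ∈ S := S.mul_mem (S.inv_mem hxS) hx'
    have huN : x⁻¹ * x' ∈ Subgroup.normalizer (W : Set Ω) :=
      Subgroup.mul_mem _ (Subgroup.inv_mem _ (mem_normalizerIn.mp (hXW ⟨hxN, σ, hσ, hσe⟩)).2)
        (mem_normalizerIn.mp (hXW (⟨mem_normalizerIn.mpr ⟨hx', hx'n⟩, _, hgQ σ hσ, hx'e⟩ : x' ∈ X))).2
    obtain ⟨c, hc, hce⟩ := exists_autInducedBy (P := W) huS huN
    have hcE : c ∈ E.autGroup W := (autGroup_eq_set inf_le_right c).mpr
      (hδs.2.congr fun y hy => by rw [hu y hy.1, hce y hy])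
    obtain ⟨t, ht, -, hte⟩ := mem_autInducedBy.mp ((autInducedBy_inf_autGroup hS hq.sat hq.esat
      hq.sub hq.closed hWn inf_le_right).le ⟨hc, hcE⟩)
    have htc : t⁻¹ * (x⁻¹ * x') ∈ C := mem_centralizerIn.mpr
      ⟨S.mul_mem (S.inv_mem (hTS ht)) huS, fun y hy => by
        rw [cj_mul, ← hce y hy, hte y hy, cj_inv_cj]⟩
    have := Subgroup.mul_mem _ (Subgroup.mem_sup_left (T := C) ht) (Subgroup.mem_sup_right (S := T) htc)
    rwa [mul_inv_cancel_left] at this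
  -- the group containing `X` and `C`
  set Z := X ⊔ C with hZ
  have hZS : Z ≤ S := sup_le hXS centralizerIn_le
  have hCZ : C ≤ Z := le_sup_right
  have hXZ : X ≤ Z := le_sup_left
  have hWZ : W ≤ Z := hWP.trans (hPX.trans hXZ)
  have hdecZ : ∀ z ∈ Z, ∃ x ∈ X, ∃ c ∈ C, z = x * c := by
    intro z hz
    rw [hZ, ← SetLike.mem_coe, Subgroup.coe_mul_of_left_le_normalizer_right _ _ (hXW.trans hNC)] at hz
    obtain ⟨x, hx, c, hc, rfl⟩ := hz
    exact ⟨x, hx, c, hc, rfl⟩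
  obtain ⟨Γ, hΓ, hΓc, hΓW, hΓC⟩ := mov hS hq.sat hq.normal hWn inf_le_right hWZ
    (sup_le hXW centralizerIn_le_normalizerIn) le_sup_right hgW hgWc (fun z hz => by
      obtain ⟨x, hx, c, hc, rfl⟩ := hdecZ z hz
      obtain ⟨x', hx', hxe, -⟩ := hact x hx
      refine ⟨x', hXZ hx', fun q hq' => ?_⟩
      have hxq : cj x q ∈ W :=
        (Subgroup.mem_normalizer_iff.mp (mem_normalizerIn.mp (hXW hx)).2 q).mp hq'
      rw [cj_mul, (mem_centralizerIn.mp hc).2 q hq', hgWe _ hxq, hgWe q hq', hxe q (hWP hq')])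
  have hΓm := isMor_autFun hZS hΓ
  have hTC : T ⊔ C ≤ S := sup_le hTS centralizerIn_le
  -- `Γ` is trivial modulo `T ⊔ C`
  have hmod : ∀ z ∈ Z, z⁻¹ * autFun Γ z ∈ T ⊔ C := by
    intro z hz
    obtain ⟨x, hx, c, hc, rfl⟩ := hdecZ z hz
    obtain ⟨x', hx', hxe, hxx⟩ := hact x hx
    have hc' : x'⁻¹ * autFun Γ x ∈ C := by
      refine mem_centralizerIn.mpr ⟨S.mul_mem (S.inv_mem (hXS hx')) (hΓm.mem (hXZ hx)), fun y hy => ?_⟩
      obtain ⟨q, hq', rfl⟩ : ∃ q ∈ W, autFun gW q = y :=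
        ⟨_, autFun_mem gW⁻¹ hy, autFun_inv_right gW hy⟩
      have hxq : cj x q ∈ W :=
        (Subgroup.mem_normalizer_iff.mp (mem_normalizerIn.mp (hXW hx)).2 q).mp hq'
      have h1 : cj (autFun Γ x) (autFun gW q) = autFun gW (cj x q) := by
        rw [← hΓW q hq', ← hΓW _ hxq, cj_apply x, hΓm.map_conj (hXZ hx) (hWZ hq'), cj_apply]
      rw [cj_mul, h1, hgWe _ hxq, hgWe q hq', hxe q (hWP hq'), cj_inv_cj]
    have h2 : x⁻¹ * autFun Γ x ∈ T ⊔ C := by
      have := Subgroup.mul_mem _ hxx (Subgroup.mem_sup_right (S := T) hc')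
      simpa [mul_assoc] using this
    have h3 : c⁻¹ * autFun Γ c ∈ T ⊔ C := Subgroup.mem_sup_left (hΓC c hc)
    have hcU : c ∈ T ⊔ C := Subgroup.mem_sup_right hc
    have h4 := Subgroup.mul_mem _ (Subgroup.mul_mem _ (Subgroup.inv_mem _ hcU) (Subgroup.mul_mem _ h2 hcU)) h3
    rw [hΓm.map_mul (hXZ hx) (hCZ hc)]
    simpa [mul_assoc] using h4
  have hTn : ∀ {s t : Ω}, s ∈ S → t ∈ T → s⁻¹ * t * s ∈ T := fun {s t} hs ht => by
    simpa [cj] using hq.conj_T (S.inv_mem hs) ht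
  have hmodU : ∀ u ∈ Z, u ∈ T ⊔ C → u⁻¹ * autFun Γ u ∈ T := by
    intro u hu huU
    rw [← SetLike.mem_coe, Subgroup.coe_mul_of_right_le_normalizer_left _ _
      (centralizerIn_le.trans (stronglyClosed_le_normalizer hq.closed))] at huU
    obtain ⟨t, ht, c, hc, rfl⟩ := huU
    have htZ : t ∈ Z := by
      have := Z.mul_mem hu (Z.inv_mem (hCZ hc))
      rwa [mul_inv_cancel_right] at this
    have h1 := T.mul_mem (hTn (centralizerIn_le hc)
      (T.mul_mem (T.inv_mem ht) (hq.mem_T hΓm htZ ht))) (hΓC c hc)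
    show (t * c)⁻¹ * autFun Γ (t * c) ∈ T
    rw [hΓm.map_mul htZ (hCZ hc)]
    simpa [mul_assoc] using h1
  -- hence modulo `T`
  have hmodT : ∀ z ∈ Z, z⁻¹ * autFun Γ z ∈ T := by
    intro z hz
    set u := z⁻¹ * autFun Γ z with hu
    have huZ : u ∈ Z := Z.mul_mem (Z.inv_mem hz) (autFun_mem Γ hz)
    have huU := hmod z hz
    have hiter : ∀ n : ℕ, (u ^ n)⁻¹ * (z⁻¹ * autFun (Γ ^ n) z) ∈ T := by
      intro n
      induction n with
      | zero => simp [autFun_one hz, T.one_mem]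
      | succ n ih =>
        set t := (u ^ n)⁻¹ * (z⁻¹ * autFun (Γ ^ n) z) with htdef
        have hwZ : autFun (Γ ^ n) z ∈ Z := autFun_mem _ hz
        have hunZ := Z.pow_mem huZ n
        have htZ : t ∈ Z := Z.mul_mem (Z.inv_mem hunZ) (Z.mul_mem (Z.inv_mem hz) hwZ)
        have he : autFun (Γ ^ n) z = z * (u ^ n * t) := by rw [htdef]; group
        have h1 : (u ^ n)⁻¹ * autFun Γ (u ^ n) ∈ T :=
          hmodU _ hunZ (Subgroup.pow_mem _ huU n)
        have h2 := T.mul_mem h1 (hq.mem_T hΓm htZ ih)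
        rw [pow_succ' Γ, autFun_mul _ _ hz, he, hΓm.map_mul hz (Z.mul_mem hunZ htZ),
          hΓm.map_mul hunZ htZ]
        have h3 : (u ^ (n + 1))⁻¹ * (z⁻¹ * (autFun Γ z * (autFun Γ (u ^ n) * autFun Γ t))) =
            (u ^ n)⁻¹ * autFun Γ (u ^ n) * autFun Γ t := by
          rw [show autFun Γ z = z * u by rw [hu, mul_inv_cancel_left], pow_succ' u n]
          simp [mul_assoc]
        rw [h3]
        exact h2
    have h1 := hiter (orderOf Γ)
    rw [pow_orderOf_eq_one, autFun_one hz, inv_mul_cancel, mul_one] at h1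
    have h2 : u ^ orderOf Γ ∈ T := T.inv_mem_iff.mp h1
    obtain ⟨k, hk⟩ := hS ⟨u, hZS huZ⟩
    have hk' : u ^ p ^ k = 1 := congrArg Subtype.val hk
    have hco : (orderOf Γ).Coprime (orderOf u) :=
      Nat.Coprime.coprime_dvd_right (orderOf_dvd_of_pow_eq_one hk') (hΓc.pow_right k)
    obtain ⟨m, hm⟩ := exists_pow_eq_self_of_coprime hco
    rw [← hm]
    exact T.pow_mem h2 m
  -- `Γ` stabilizes `P` and differs from `g` by conjugation by an element of `W`
  have hPZ : P ≤ Z := hPX.trans hXZ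
  have hCW : centralizerIn T W ≤ W := hg.cen.2.2 W (isConj_refl E inf_le_right)
  have hΓP : ∀ y ∈ P, autFun Γ y ∈ P ∧ (autFun g y)⁻¹ * autFun Γ y ∈ W := by
    intro y hy
    have hgy := autFun_mem g hy
    have hdT : (autFun g y)⁻¹ * autFun Γ y ∈ T := by
      have h1 := T.mul_mem (T.inv_mem (hg.strict.1 y hy)) (hmodT y (hPZ hy))
      simpa [mul_assoc] using h1
    have hd : (autFun g y)⁻¹ * autFun Γ y ∈ W := by
      refine hCW (mem_centralizerIn.mpr ⟨hdT, fun v hv => ?_⟩)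
      obtain ⟨q, hq', rfl⟩ : ∃ q ∈ W, autFun gW q = v :=
        ⟨_, autFun_mem gW⁻¹ hv, autFun_inv_right gW hv⟩
      have hyq : cj y q ∈ W := (Subgroup.mem_normalizer_iff.mp
        (mem_normalizerIn.mp (hXW (hPX hy))).2 q).mp hq'
      have h1 : cj (autFun Γ y) (autFun gW q) = autFun gW (cj y q) := by
        rw [← hΓW q hq', ← hΓW _ hyq, cj_apply y, hΓm.map_conj (hPZ hy) (hWZ hq'), cj_apply]
      rw [cj_mul, h1, hgWe _ hyq, hgWe q hq', cj_apply y,
        (isMor_autFun hPS hg.mem).map_conj hy (hWP hq'), ← cj_apply, cj_inv_cj]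
    refine ⟨?_, hd⟩
    have := P.mul_mem hgy (hWP hd)
    rwa [mul_inv_cancel_left] at this
  obtain ⟨Γ₀, hΓ₀, hΓ₀e⟩ := exists_aut (hΓm.restrict hPZ)
    ((hΓm.restrict hPZ).img_eq_self fun y hy => (hΓP y hy).1)
  set lam := g * Γ₀⁻¹ with hlam
  have hlamF : lam ∈ F.autGroup P := mul_mem hg.mem (inv_mem hΓ₀)
  obtain ⟨hfa, -⟩ := isFullyAutomized_of_normalized hS hq.sat hPn
  obtain ⟨c, hcS, hcn, hce⟩ : ∃ c ∈ S, c ∈ Subgroup.normalizer (P : Set Ω) ∧
      ∀ y ∈ P, autFun lam y = cj c y := by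
    have h1 := mem_core_of_stabilizes_series (F := F) hS hPS hWP (fun θ hθ u hu =>
      ⟨autFun_mem θ hu.1, hq.mem_T (isMor_autFun hPS hθ) hu.1 hu.2⟩) hlamF (fun u hu => ?_)
      (fun y hy => ?_)
    · have hle : (pCore p (F.autGroup P)).map (F.autGroup P).subtype ≤ autInducedBy S P :=
        (isFullyAutomized_iff.mp hfa).2.le_of_normal
          (CfsgLib.Base.isPGroup_map_pCore p _) (Subgroup.map_subtype_le _) (by
          rintro b hb _ ⟨d, hd, rfl⟩
          haveI : (pCore p (F.autGroup P)).Normal := Subgroup.sSup_normal _ fun N hN => hN.1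
          exact ⟨⟨b, hb⟩ * d * ⟨b, hb⟩⁻¹, Subgroup.Normal.conj_mem inferInstance d hd ⟨b, hb⟩, rfl⟩)
      exact mem_autInducedBy.mp (hle h1)
    · obtain ⟨q, hq', rfl⟩ : ∃ q ∈ W, autFun gW q = u :=
        ⟨_, autFun_mem gW⁻¹ hu, autFun_inv_right gW hu⟩
      rw [hlam, autFun_mul _ _ (hWP (autFun_mem gW hq'))]
      conv_lhs => rw [← hΓW q hq', ← hΓ₀e q (hWP hq'), autFun_inv_left Γ₀ (hWP hq'), ← hgWe q hq']
    · obtain ⟨v, hv, rfl⟩ : ∃ v ∈ P, autFun Γ₀ v = y :=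
        ⟨_, autFun_mem Γ₀⁻¹ hy, autFun_inv_right Γ₀ hy⟩
      rw [hlam, autFun_mul _ _ (autFun_mem Γ₀ hv), autFun_inv_left Γ₀ hv, hΓ₀e v hv]
      have hd : cj (autFun g v) ((autFun g v)⁻¹ * autFun Γ v)⁻¹ ∈ W :=
        (Subgroup.mem_normalizer_iff.mp
          (mem_normalizerIn.mp (hXW (hPX (autFun_mem g hv)))).2 _).mp (W.inv_mem (hΓP v hv).2)
      simpa [cj, mul_assoc] using hd
  have hcW : ∀ u ∈ W, cj c u = u := fun u hu => by
    obtain ⟨q, hq', rfl⟩ : ∃ q ∈ W, autFun gW q = u :=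
      ⟨_, autFun_mem gW⁻¹ hu, autFun_inv_right gW hu⟩
    rw [← hce _ (hWP (autFun_mem gW hq')), hlam, autFun_mul _ _ (hWP (autFun_mem gW hq'))]
    conv_lhs => rw [← hΓW q hq', ← hΓ₀e q (hWP hq'), autFun_inv_left Γ₀ (hWP hq'), ← hgWe q hq']
  have hcC : c ∈ C := mem_centralizerIn.mpr ⟨hcS, hcW⟩
  have hgdec : ∀ y ∈ P, autFun g y = cj c (autFun Γ y) := fun y hy => by
    rw [← hΓ₀e y hy, ← hce _ (autFun_mem Γ₀ hy), hlam, autFun_mul _ _ (autFun_mem Γ₀ hy),
      autFun_inv_left Γ₀ hy]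
  -- powers
  have hpow : ∀ n : ℕ, ∃ d ∈ Z, (c ^ n)⁻¹ * d ∈ T ∧
      ∀ y ∈ P, autFun (g ^ n) y = cj d (autFun (Γ ^ n) y) ∧ autFun (Γ ^ n) y ∈ P := by
    intro n
    induction n with
    | zero => exact ⟨1, Z.one_mem, by simp [T.one_mem], fun y hy => by
        simp [autFun_one hy, autFun_one (hPZ hy), cj_one, hy]⟩
    | succ n ih =>
      obtain ⟨d, hdZ, hdT, hd⟩ := ih
      refine ⟨c * autFun Γ d, Z.mul_mem (hCZ hcC) (autFun_mem Γ hdZ), ?_, fun y hy => ?_⟩
      · have h1 := T.mul_mem hdT (hmodT d hdZ)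
        rw [pow_succ']
        simpa [mul_assoc] using h1
      · obtain ⟨hd1, hd2⟩ := hd y hy
        have h2 : cj d (autFun (Γ ^ n) y) ∈ P := hd1 ▸ autFun_mem _ hy
        constructor
        · rw [pow_succ', autFun_mul _ _ hy, hd1, hgdec _ h2, cj_apply d,
            hΓm.map_conj hdZ (hPZ hd2), ← cj_apply, cj_mul, pow_succ' Γ, autFun_mul _ _ (hPZ hy)]
        · rw [pow_succ' Γ, autFun_mul _ _ (hPZ hy)]
          exact (hΓP _ hd2).1
  obtain ⟨w, hwW, hwe⟩ : ∃ w ∈ W, ∀ y ∈ P, cj c y = cj w y := by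
    set n := orderOf g * orderOf Γ with hn
    obtain ⟨d, hdZ, hdT, hd⟩ := hpow n
    have hdfix : ∀ y ∈ P, cj d y = y := fun y hy => by
      have h1 := (hd y hy).1
      rw [hn, pow_mul, pow_orderOf_eq_one, one_pow, autFun_one hy, mul_comm (orderOf g), pow_mul,
        pow_orderOf_eq_one, one_pow, autFun_one (hPZ hy)] at h1
      exact h1.symm
    have hdn : d ∈ Subgroup.normalizer (P : Set Ω) :=
      Subgroup.mem_normalizer_fintype fun y hy => by
        show cj d y ∈ P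
        rw [hdfix y hy]; exact hy
    have hlT : lam ^ n ∈ autInducedBy T P := by
      refine mem_autInducedBy.mpr ⟨((c ^ n)⁻¹ * d)⁻¹, T.inv_mem hdT,
        Subgroup.inv_mem _ (Subgroup.mul_mem _ (Subgroup.inv_mem _ (Subgroup.pow_mem _ hcn n)) hdn),
        fun y hy => ?_⟩
      have h1 : ∀ m : ℕ, ∀ y ∈ P, autFun (lam ^ m) y = cj (c ^ m) y := by
        intro m
        induction m with
        | zero => intro y hy; rw [pow_zero, pow_zero, autFun_one hy, cj_one]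
        | succ m ih =>
          intro y hy
          rw [pow_succ', pow_succ', autFun_mul _ _ hy, hce _ (autFun_mem _ hy), ih y hy, cj_mul]
      have h2 : cj d⁻¹ (cj (c ^ n) y) = cj (c ^ n) y := by
        have hy' : cj (c ^ n) y ∈ P := h1 n y hy ▸ autFun_mem _ hy
        conv_lhs => rw [← hdfix _ hy', cj_inv_cj]
      rw [h1 n y hy, mul_inv_rev, inv_inv, cj_mul, h2]
    obtain ⟨k, hk⟩ := hS ⟨c, hcS⟩
    have hk' : c ^ p ^ k = 1 := congrArg Subtype.val hk
    have hord : orderOf lam ∣ p ^ k := orderOf_dvd_of_pow_eq_one (autFun_inj fun y hy => by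
      have h1 : ∀ m : ℕ, ∀ y ∈ P, autFun (lam ^ m) y = cj (c ^ m) y := by
        intro m
        induction m with
        | zero => intro y hy; rw [pow_zero, pow_zero, autFun_one hy, cj_one]
        | succ m ih =>
          intro y hy
          rw [pow_succ', pow_succ', autFun_mul _ _ hy, hce _ (autFun_mem _ hy), ih y hy, cj_mul]
      rw [h1 _ y hy, hk', cj_one, autFun_one hy])
    have hco : n.Coprime (orderOf lam) := Nat.Coprime.coprime_dvd_right hord
      ((Nat.Coprime.mul_left hg.coprime hΓc).pow_right k)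
    obtain ⟨m, hm⟩ := exists_pow_eq_self_of_coprime hco
    obtain ⟨w, hw, -, hwe⟩ := mem_autInducedBy.mp (hm ▸ Subgroup.pow_mem _ hlT m)
    refine ⟨w, hCW (mem_centralizerIn.mpr ⟨hw, fun u hu => ?_⟩), fun y hy => by
      rw [← hce y hy, hwe y hy]⟩
    rw [← hwe u (hWP hu), hce u (hWP hu), hcW u hu]
  -- the extension
  have hwZ : w ∈ Z := hWZ hwW
  have hwT : w ∈ T := hwW.2
  have hf : IsMor F Z (cj w ∘ autFun Γ) :=
    hΓm.comp (isMor_cj F hZS (hTS hwT)) fun x hx => autFun_mem Γ hx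
  have hfP : ∀ y ∈ P, (cj w ∘ autFun Γ) y = autFun g y := fun y hy => by
    rw [Function.comp_apply, ← hwe _ (hΓP y hy).1, hgdec y hy]
  have hfT : ∀ z ∈ Z, z⁻¹ * (cj w ∘ autFun Γ) z ∈ T := fun z hz => by
    have h1 := T.mul_mem (T.mul_mem (hTn (hZS hz) hwT) (hmodT z hz)) (T.inv_mem hwT)
    simpa [cj, mul_assoc] using h1
  have hfX : ∀ x ∈ X, (cj w ∘ autFun Γ) x ∈ X := by
    rintro x ⟨hxN, σ, hσ, hσe⟩
    set fx := (cj w ∘ autFun Γ) x with hfx
    have hxZ : x ∈ Z := hXZ ⟨hxN, σ, hσ, hσe⟩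
    have hfxS : fx ∈ S := hf.mem hxZ
    have hconj : ∀ y ∈ P, autFun (g * σ * g⁻¹) y = cj fx y := fun y hy => by
      have hy' := autFun_mem g⁻¹ hy
      have hxy : cj x (autFun g⁻¹ y) ∈ P := hσe _ hy' ▸ autFun_mem σ hy'
      rw [autFun_mul _ _ hy, autFun_mul _ _ hy', hσe _ hy', ← hfP _ hxy, cj_apply x,
        hf.map_conj hxZ (hPZ hy'), hfP _ hy', autFun_inv_right g hy, cj_apply]
    refine ⟨mem_normalizerIn.mpr ⟨hfxS, Subgroup.mem_normalizer_fintype fun y hy => ?_⟩,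
      g * σ * g⁻¹, hgQ σ hσ, hconj⟩
    show cj fx y ∈ P
    rw [← hconj y hy]
    exact autFun_mem _ hy
  obtain ⟨ΓX, hΓX, hΓXe⟩ := exists_aut (hf.restrict hXZ) ((hf.restrict hXZ).img_eq_self hfX)
  have hstab : ΓX ∈ F.autGroup X := hΓX
  obtain ⟨j, hjc, hje⟩ := exists_coprime_restrict (p := p) hXS hPX hg.coprime
    (γ := ΓX) fun y hy => by rw [hΓXe y (hPX hy), hfP y hy]
  have hcenX : HCen S E X := hq.hcen_mono hg.cen hPX hXS
  have := finite_mulAut hXS
  have hΓjF : ΓX ^ j ∈ F.autGroup X := Subgroup.pow_mem _ hΓX j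
  have hmodj : ∀ m : ℕ, ∀ x ∈ X, x⁻¹ * autFun (ΓX ^ m) x ∈ T := by
    intro m
    induction m with
    | zero => intro x hx; simp [autFun_one hx, T.one_mem]
    | succ m ih =>
      intro x hx
      have hx' := autFun_mem (ΓX ^ m) hx
      have h1 := T.mul_mem (ih x hx) (hfT _ (hXZ hx'))
      rw [pow_succ', autFun_mul _ _ hx, hΓXe _ hx']
      simpa [mul_assoc] using h1
  refine ⟨ΓX ^ j, ⟨hcenX, hΓjF, ⟨hmodj j, ?_⟩, hjc⟩, hje⟩
  -- the restriction to `X ⊓ T`
  have hXT : X ⊓ T ≤ X := inf_le_left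
  have hmT : ∀ x ∈ X ⊓ T, autFun (ΓX ^ j) x ∈ X ⊓ T := fun x hx =>
    ⟨autFun_mem _ hx.1, hq.mem_T (isMor_autFun hXS hΓjF) hx.1 hx.2⟩
  have hXTS : X ⊓ T ≤ S := inf_le_left.trans hXS
  have : Finite ↥(X ⊓ T) := finite_of_le hXTS
  have hst : ΓX ^ j ∈ stabIn X (X ⊓ T) := mem_stabIn_of_maps hXT hmT
  set γ := resC hXT ⟨_, hst⟩ with hγ
  have hγe : ∀ x ∈ X ⊓ T, autFun γ x = autFun (ΓX ^ j) x := fun x hx => autFun_resC hXT _ hx
  have hγF : γ ∈ F.autGroup (X ⊓ T) := (autGroup_eq_set hXTS γ).mpr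
    (((isMor_autFun hXS hΓjF).restrict hXT).congr fun x hx => (hγe x hx).symm)
  have hγc : (orderOf γ).Coprime p := Nat.Coprime.coprime_dvd_left
    (orderOf_map_dvd (resC hXT) _) (by rw [← Subgroup.orderOf_coe]; exact hjc)
  have hWXT : W ≤ X ⊓ T := le_inf (hWP.trans hPX) inf_le_right
  have hYN : X ⊓ T ≤ normalizerIn T W := fun x hx =>
    mem_normalizerIn.mpr ⟨hx.2, (mem_normalizerIn.mp (hXW hx.1)).2⟩
  have := hq.isMor_E_of_restrict hWn hg.cen.2 hWXT hYN hγF hγc hgW fun x hx => by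
    rw [hγe x (hWXT hx), hje x (hWP hx), hgWe x hx]
  exact (isMor_autFun inf_le_right this).congr hγe

/-- **The key lemma.** -/
theorem inf_goodK_le {P : Subgroup Ω} (hPn : F.IsFullyNormalized P)
    (hWn : F.IsFullyNormalized (P ⊓ T)) (hcen : HCen S E P) :
    autInducedBy S P ⊓ goodK F E p P ≤ autInducedBy T P := by
  have hS := hq.pgroup
  have hF := hq.sat
  have hPS := hPn.1
  have := finite_mulAut hPS
  have : Finite P := finite_of_le hPS
  set K := goodK F E p P with hK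
  have hsyl := isSylIn_inf (isFullyAutomized_iff.mp (isFullyAutomized_of_normalized hS hF hPn).1).2
    hq.goodK_le (fun b hb n hn => hq.goodK_conj hPS hb hn)
  obtain ⟨P₀, hP₀⟩ := (exists_sylow_iff inf_le_right).mpr hsyl
  have htop : pResidual p K = ⊤ := by
    refine Subgroup.map_injective K.subtype_injective ?_
    rw [← MonoidHom.range_eq_map, Subgroup.range_subtype]
    refine le_antisymm (Subgroup.map_subtype_le _) ((Subgroup.closure_le _).mpr fun g hg => ?_)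
    refine ⟨⟨g, Subgroup.subset_closure hg⟩, Subgroup.subset_closure ?_, rfl⟩
    show (orderOf (⟨g, Subgroup.subset_closure hg⟩ : K)).Coprime p
    rw [← Subgroup.orderOf_coe]
    exact hg.coprime
  have h := hyp_group_eq P₀
  rw [htop, inf_top_eq] at h
  have hle : (P₀ : Subgroup K) ≤ (autInducedBy T P).comap K.subtype := by
    rw [← h]
    refine hyp_le fun U hU α hα hαc x hx => ?_
    rw [autGroup_group hU] at hα
    obtain ⟨g, -, hgn, hge⟩ := mem_autInducedBy.mp hα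
    obtain ⟨j, hj, hj1⟩ := exists_pow_coprime_modEq (p := p) g hαc
    have hpow : ∀ n : ℕ, ∀ y ∈ U, autFun (α ^ n) y = cj (g ^ n) y := by
      intro n
      induction n with
      | zero => intro y hy; rw [pow_zero, pow_zero, autFun_one hy, cj_one]
      | succ n ih =>
        intro y hy
        rw [pow_succ, pow_succ, autFun_mul _ _ hy, hge y hy, ih _ (hge y hy ▸ autFun_mem α hy),
          ← cj_mul]
    have hαj : α ^ j = α := (pow_eq_pow_iff_modEq.mpr hj1).trans (pow_one α)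
    have hgj : autFun α x = cj (g ^ j) x := by rw [← hpow j x hx, hαj]
    show ((x⁻¹ * autFun α x : K) : MulAut P) ∈ autInducedBy T P
    rw [hgj]
    set γ := ((g ^ j : K) : MulAut P) with hγ
    set Q := U.map K.subtype ⊔ Inn P with hQdef
    have hQS : Q ≤ autInducedBy S P := sup_le (by
      rintro _ ⟨y, hy, rfl⟩
      have := hU hy
      rw [hP₀] at this
      exact (Subgroup.mem_subgroupOf.mp this).1) (inn_le_autInducedBy hPS)
    have hγc : (orderOf γ).Coprime p := by rw [hγ, Subgroup.orderOf_coe]; exact hj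
    have hγg : IsGood F E p P γ := ⟨hcen, hq.goodK_le (g ^ j).2,
      hq.strict_goodK hPS (g ^ j).2, hγc⟩
    have hγQ : ∀ q ∈ Q, γ * q * γ⁻¹ ∈ Q := by
      suffices hle : Q ≤ Q.comap (MulAut.conj γ).toMonoidHom from fun q hq' => hle hq'
      refine sup_le ?_ fun q hq' => Subgroup.mem_sup_right (inn_conj_mem hq')
      rintro _ ⟨y, hy, rfl⟩
      exact Subgroup.mem_sup_left ⟨g ^ j * y * (g ^ j)⁻¹,
        (Subgroup.mem_normalizer_iff.mp (Subgroup.pow_mem _ hgn j) y).mp hy, rfl⟩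
    obtain ⟨Γ, hΓ, hΓe⟩ := hq.exists_good_ext hPn hWn hγg le_sup_right hQS hγQ
    have hxQ : (x : MulAut P) ∈ Q := Subgroup.mem_sup_left ⟨x, hx, rfl⟩
    obtain ⟨s, hs, hsn, hse⟩ := mem_autInducedBy.mp (hQS hxQ)
    have hsX : s ∈ indPre S P Q := ⟨mem_normalizerIn.mpr ⟨hs, hsn⟩, _, hxQ, hse⟩
    have hΓm := isMor_autFun hΓ.cen.1 hΓ.mem
    have hPX : P ≤ indPre S P Q := le_indPre hPS le_sup_right
    refine mem_autInducedBy.mpr ⟨s⁻¹ * autFun Γ s, hΓ.strict.1 s hsX,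
      Subgroup.mul_mem _ (Subgroup.inv_mem _ hsn)
        (mem_normalizerIn.mp (indPre_le (autFun_mem Γ hsX))).2, fun y hy => ?_⟩
    have hy' := autFun_mem γ⁻¹ hy
    have hsy : cj s (autFun γ⁻¹ y) ∈ P := (Subgroup.mem_normalizer_iff.mp hsn _).mp hy'
    have h1 : autFun (γ * (x : MulAut P) * γ⁻¹) y = cj (autFun Γ s) y := by
      rw [autFun_mul _ _ hy, autFun_mul _ _ hy', hse _ hy', ← hΓe _ hsy, cj_apply s,
        hΓm.map_conj hsX (hPX hy'), hΓe _ hy', autFun_inv_right γ hy, cj_apply]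
    have hm := autFun_mem (γ * (x : MulAut P) * γ⁻¹) hy
    rw [cj_mul, ← h1]
    show autFun ((x : MulAut P)⁻¹ * (γ * (x : MulAut P) * γ⁻¹)) y = _
    rw [autFun_mul _ _ hy]
    conv_rhs => rw [← autFun_inv_right (x : MulAut P) hm, hse _ (autFun_mem _ hm), cj_inv_cj]
  rintro σ ⟨hσS, hσK⟩
  have : (⟨σ, hσK⟩ : K) ∈ (P₀ : Subgroup K) := by
    rw [hP₀]
    exact ⟨hσS, hσK⟩
  exact hle this

end ProdHyp

end CfsgLib.Fusion
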