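import Mathlib
import Cfsg.Agent.Lib.Fusion.ProductKey
import Cfsg.Agent.Lib.Fusion.MeetSaturated

/-!
# The product of a normal subsystem with a subgroup

The system over `R ≥ T` generated by the generators on subgroups of `R` and the conjugations by elements of `R`.
-/

set_option autoImplicit false
set_option linter.unusedSectionVars false
set_option maxHeartbeats 1000000

namespace CfsgLib.Fusion

open Cfsg Cfsg.FusionSystem

variable {Ω : Type*} [Group Ω] {S T : Subgroup Ω}

/-- Composites of conjugations by elements of `R` and restrictions of generators inside `R`. -/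
inductive PGen (F : FusionSystem S) (E : FusionSystem T) (p : ℕ) (R : Subgroup Ω) :
    Subgroup Ω → (Ω → Ω) → Prop
  | conj {U : Subgroup Ω} {r : Ω} {f : Ω → Ω} : U ≤ R → r ∈ R → (∀ x ∈ U, f x = cj r x) →
      PGen F E p R U f
  | good {U V : Subgroup Ω} {f : Ω → Ω} {α : MulAut V} : IsGood F E p V α → V ≤ R → U ≤ V →
      (∀ x ∈ U, f x = autFun α x) → PGen F E p R U f
  | comp {U : Subgroup Ω} {f g k : Ω → Ω} : PGen F E p R U f → PGen F E p R (img U f) g →
      (∀ x ∈ U, k x = g (f x)) → PGen F E p R U k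

/-- The hypotheses: a normal subsystem and a subgroup containing its Sylow group. -/
structure ProdSetup (F : FusionSystem S) (E : FusionSystem T) (p : ℕ) (R : Subgroup Ω) : Prop where
  hyp : ProdHyp F E p
  le_R : T ≤ R
  R_le : R ≤ S

/-- The generators together with the automorphisms induced by `R`. -/
def prodAut (F : FusionSystem S) (E : FusionSystem T) (p : ℕ) (R V : Subgroup Ω) :
    Subgroup (MulAut V) :=
  goodK F E p V ⊔ autInducedBy R V

variable {F : FusionSystem S} {E : FusionSystem T} {p : ℕ} [hp : Fact p.Prime] [Finite S]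
  {R : Subgroup Ω}

namespace ProdSetup

variable (h : ProdSetup F E p R)
include h

theorem rpgroup : IsPGroup p R := isPGroup_of_le h.R_le h.hyp.pgroup

theorem twist_comp {U : Subgroup Ω} {f g : Ω → Ω} {r s : Ω} (hf : IsMor F U f)
    (hg : IsMor F (img U f) g) (hUR : U ≤ R) (hfR : img U f ≤ R) (hgR : ∀ y ∈ img U f, g y ∈ R)
    (hr : r ∈ R) (hs : s ∈ R) (h1 : Strict E U (cj r⁻¹ ∘ f))
    (h2 : Strict E (img U f) (cj s⁻¹ ∘ g)) : Strict E U (cj (s * r)⁻¹ ∘ (g ∘ f)) := by
  have hq := h.hyp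
  have hrS := h.R_le hr
  have he : IsMor F U (cj r⁻¹ ∘ f) := hf.comp (isMor_cj F (hfR.trans h.R_le) (S.inv_mem hrS))
    fun x hx => mem_img_of_mem f hx
  have hi : img (img U f) (cj r⁻¹) = img U (cj r⁻¹ ∘ f) := hf.img_comp _
  have h3 : Strict E (img U (cj r⁻¹ ∘ f)) (cj r⁻¹ ∘ ((cj s⁻¹ ∘ g) ∘ cj r)) := by
    rw [← hi]
    refine hq.strict_transport (M := R) h2 (isMor_cj F h.R_le (S.inv_mem hrS)) hfR
      (fun y hy => ?_) fun y _ => by simp only [Function.comp_apply, cj_cj_inv]
    exact R.mul_mem (R.mul_mem (R.inv_mem hs) (hgR y hy)) (R.inv_mem (R.inv_mem hs))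
  refine strict_congr (hq.strict_comp he h1 h3) fun x _ => ?_
  simp only [Function.comp_apply, cj_cj_inv, mul_inv_rev, cj_mul]

theorem pgen_facts {U : Subgroup Ω} {f : Ω → Ω} (hf : PGen F E p R U f) :
    IsMor F U f ∧ U ≤ R ∧ (∀ x ∈ U, f x ∈ R) ∧ ∃ r ∈ R, Strict E U (cj r⁻¹ ∘ f) := by
  induction hf with
  | @conj U r f hU hr e =>
    refine ⟨(isMor_cj F (hU.trans h.R_le) (h.R_le hr)).congr fun x hx => (e x hx).symm, hU,
      fun x hx => e x hx ▸ R.mul_mem (R.mul_mem hr (hU hx)) (R.inv_mem hr), r, hr,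
      strict_congr h.hyp.strict_id fun x hx => ?_⟩
    rw [Function.comp_apply, e x hx, cj_inv_cj]; rfl
  | @good U V f α hα hV hUV e =>
    refine ⟨((isMor_autFun hα.cen.1 hα.mem).restrict hUV).congr fun x hx => (e x hx).symm,
      hUV.trans hV, fun x hx => e x hx ▸ hV (autFun_mem α (hUV hx)), 1, R.one_mem,
      strict_congr (h.hyp.strict_restrict hα.strict hUV) fun x hx => ?_⟩
    rw [Function.comp_apply, e x hx, inv_one, cj_one]
  | @comp U f g k _ _ e ih1 ih2 =>
    obtain ⟨h1, hU, h1R, r, hr, h1s⟩ := ih1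
    obtain ⟨h2, hfR, h2R, s, hs, h2s⟩ := ih2
    refine ⟨(h1.comp h2 fun x hx => mem_img_of_mem f hx).congr fun x hx => (e x hx).symm, hU,
      fun x hx => e x hx ▸ h2R _ (mem_img_of_mem f hx), s * r, R.mul_mem hs hr,
      strict_congr (h.twist_comp h1 h2 hU hfR h2R hr hs h1s h2s) fun x hx => ?_⟩
    simp only [Function.comp_apply, e x hx]

theorem exists_prodSys : ∃ D : FusionSystem R, ∀ U f, IsMor D U f ↔ PGen F E p R U f := by
  have hq := h.hyp
  have hcongr : ∀ U f g, PGen F E p R U f → (∀ x ∈ U, f x = g x) → PGen F E p R U g := by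
    intro U f g hf e
    cases hf with
    | conj h1 h2 h3 => exact .conj h1 h2 fun x hx => (e x hx).symm.trans (h3 x hx)
    | good h1 h2 h3 h4 => exact .good h1 h2 h3 fun x hx => (e x hx).symm.trans (h4 x hx)
    | comp h1 h2 h3 => exact .comp h1 h2 fun x hx => (e x hx).symm.trans (h3 x hx)
  have hres : ∀ {U f}, PGen F E p R U f → ∀ U' ≤ U, PGen F E p R U' f := by
    intro U f hf
    induction hf with
    | conj h1 h2 h3 => exact fun U' hU => .conj (hU.trans h1) h2 fun x hx => h3 x (hU hx)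
    | good h1 h2 h3 h4 => exact fun U' hU => .good h1 h2 (hU.trans h3) fun x hx => h4 x (hU hx)
    | @comp U f g k _ _ e ih1 ih2 =>
      exact fun U' hU => .comp (ih1 U' hU) (ih2 _ (img_mono f hU)) fun x hx => e x (hU hx)
  have hinv : ∀ {U f}, PGen F E p R U f →
      ∃ g, PGen F E p R (img U f) g ∧ ∀ x ∈ U, g (f x) = x := by
    intro U f hf
    induction hf with
    | @conj U r f hU hr e =>
      exact ⟨cj r⁻¹, .conj (img_le fun x hx => e x hx ▸ R.mul_mem (R.mul_mem hr (hU hx))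
        (R.inv_mem hr)) (R.inv_mem hr) fun _ _ => rfl, fun x hx => by rw [e x hx, cj_inv_cj]⟩
    | @good U V f α hα hV hUV e =>
      have hα' : IsGood F E p V α⁻¹ :=
        ⟨hα.cen, Subgroup.inv_mem _ hα.mem,
          ((hq.mem_bAut_iff hα.cen.1).mp
            ((bAut F E V).inv_mem (Subgroup.subset_closure ⟨hα.mem, hα.strict⟩))).2,
          by rw [orderOf_inv]; exact hα.coprime⟩
      refine ⟨autFun α⁻¹, .good hα' hV (img_le fun x hx => e x hx ▸ autFun_mem α (hUV hx))
        fun _ _ => rfl, fun x hx => ?_⟩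
      rw [e x hx, autFun_inv_left α (hUV hx)]
    | @comp U f g k h1 h2 e ih1 ih2 =>
      obtain ⟨g1, hg1, e1⟩ := ih1
      obtain ⟨g2, hg2, e2⟩ := ih2
      have hf := (h.pgen_facts h1).1
      have hgf := (h.pgen_facts h2).1
      have hi : img (img U f) g = img U k := by rw [hf.img_comp, img_congr e]; rfl
      have hi2 : img (img U k) g2 = img U f := by
        rw [← hi, hgf.img_comp]
        exact (img_congr (g := id) fun x hx => e2 x hx).trans (img_id _)
      rw [hi] at hg2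
      rw [← hi2] at hg1
      refine ⟨g1 ∘ g2, .comp hg2 hg1 fun _ _ => rfl, fun x hx => ?_⟩
      rw [Function.comp_apply, e x hx, e2 _ (mem_img_of_mem f hx), e1 x hx]
  refine ⟨ofPred R (PGen F E p R)
    (fun U f hf => ⟨(h.pgen_facts hf).2.1, (h.pgen_facts hf).2.2.1⟩)
    (fun U f hf x hx y hy e => (h.pgen_facts hf).1.inj hx hy e) hcongr
    (fun U g hU hg => .conj hU hg fun _ _ => rfl)
    (fun U V f g hf hg hfV => .comp hf (hres hg _ (img_le hfV)) fun _ _ => rfl)
    (fun U f hf _ => hinv hf), fun U f => ?_⟩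
  rw [isMor_ofPred fun hf x hx y hy => (h.pgen_facts hf).1.map_mul hx hy]

/-- The product system. -/
noncomputable def sys : FusionSystem R := Classical.choose h.exists_prodSys

theorem isMor_sys {U : Subgroup Ω} {f : Ω → Ω} : IsMor h.sys U f ↔ PGen F E p R U f :=
  Classical.choose_spec h.exists_prodSys U f

theorem sys_le : h.sys.IsSubsystemOf F :=
  le_iff_isMor.mpr fun _ _ hf => (h.pgen_facts (h.isMor_sys.mp hf)).1

theorem to_F {U : Subgroup Ω} {f : Ω → Ω} (hf : IsMor h.sys U f) : IsMor F U f :=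
  le_iff_isMor.mp h.sys_le _ _ hf

theorem ggen_sys {U : Subgroup Ω} {d : Ω → Ω} (hd : GGen F E p U d) (hU : U ≤ R) :
    IsMor h.sys U d := by
  refine h.isMor_sys.mpr ?_
  induction hd with
  | @step U V f α hα hUV e =>
    obtain ⟨β, hβ, hβe⟩ := h.hyp.good_restrict_inf hα h.le_R
    exact .good hβ inf_le_right (le_inf hUV hU) fun x hx => by
      rw [hβe x ⟨hUV hx, hU hx⟩, e x hx]
  | @comp U f g k h1 _ e ih1 ih2 =>
    exact .comp (ih1 hU) (ih2 ((h.hyp.ggen_le h1).trans (sup_le hU h.le_R))) e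

theorem goodK_le_sys {V : Subgroup Ω} (hV : V ≤ R) : goodK F E p V ≤ h.sys.autGroup V :=
  (Subgroup.closure_le _).mpr fun _ hα => (autGroup_eq_set hV _).mpr
    (h.isMor_sys.mpr (.good hα hV le_rfl fun _ _ => rfl))

theorem prodAut_le_sys {V : Subgroup Ω} (hV : V ≤ R) : prodAut F E p R V ≤ h.sys.autGroup V :=
  sup_le (h.goodK_le_sys hV) (autInducedBy_le _ hV)

/-- Automorphisms of order prime to `p` in the product system are generators. -/
theorem sys_coprime_good {V : Subgroup Ω} (hV : V ≤ R) (hc : HCen S E V) {α : MulAut V}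
    (hα : α ∈ h.sys.autGroup V) (hαc : (orderOf α).Coprime p) : IsGood F E p V α := by
  have hm := isMor_autFun hV hα
  obtain ⟨-, -, -, r, hr, hs⟩ := h.pgen_facts (h.isMor_sys.mp hm)
  have hαF : α ∈ F.autGroup V := autGroup_mono h.sys_le hα
  have key : ∀ m : ℕ, Strict E V (cj (r ^ m)⁻¹ ∘ autFun (α ^ m)) := by
    intro m
    induction m with
    | zero =>
      exact strict_congr h.hyp.strict_id fun x hx => by simp [autFun_one hx, cj_one]
    | succ m ih =>
      have hfm := isMor_autFun hc.1 (Subgroup.pow_mem _ hαF m)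
      have hfi : img V (autFun (α ^ m)) = V := img_autFun _
      have h1 := h.twist_comp hfm (g := autFun α) (by rw [hfi]; exact isMor_autFun hc.1 hαF) hV
        (by rw [hfi]; exact hV) (fun y hy => hm.mem (hfi.le hy)) (R.pow_mem hr m) hr ih
        (by rw [hfi]; exact hs)
      refine strict_congr h1 fun x hx => ?_
      simp only [Function.comp_apply, pow_succ', autFun_mul _ _ hx]
  obtain ⟨k, hk⟩ := h.rpgroup ⟨r, hr⟩
  have hk' : r ^ p ^ k = 1 := congrArg Subtype.val hk
  have h1 : α ^ p ^ k ∈ bAut F E V :=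
    (h.hyp.mem_bAut_iff hc.1).mpr ⟨Subgroup.pow_mem _ hαF _,
      strict_congr (key (p ^ k)) fun x _ => by rw [Function.comp_apply, hk', inv_one, cj_one]⟩
  exact ⟨hc, hαF, ((h.hyp.mem_bAut_iff hc.1).mp (mem_of_pPow_mem hαc h1)).2, hαc⟩

theorem hcen_conj {U V : Subgroup Ω} (hU : HCen S E U) (hc : h.sys.IsConj U V) : HCen S E V := by
  obtain ⟨f, hf, rfl⟩ := isConj_iff.mp hc
  exact h.hyp.hcen_img hU (h.to_F hf)

/-- Generated maps join their ends. -/
theorem sys_joined {n : ℕ} (habove : AboveSat h.sys p n) {U : Subgroup Ω} {f : Ω → Ω}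
    (hf : PGen F E p R U f) : Nat.card U = n → U < R → Joined h.sys U (img U f) := by
  have : Finite R := finite_of_le h.R_le
  have hRp := h.rpgroup
  induction hf with
  | @conj U r f hU hr e =>
    intro _ _
    rw [img_congr e]
    exact ⟨img U (cj r), ⟨cj r, isMor_cj _ normalizerIn_le hr, rfl⟩,
      ⟨id, isMor_id _ normalizerIn_le, img_id _⟩⟩
  | @good U V f α hα hV hUV e =>
    intro hn hU
    rw [img_congr e]
    rcases eq_or_lt_of_le hUV with heq | hlt
    · subst heq
      rw [img_autFun]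
      exact ⟨U, ⟨id, isMor_id _ normalizerIn_le, img_id U⟩, ⟨id, isMor_id _ normalizerIn_le, img_id U⟩⟩
    have hmor : IsMor h.sys V (autFun α) := h.isMor_sys.mpr (.good hα hV le_rfl fun _ _ => rfl)
    have : Finite V := finite_of_le hV
    exact joined_of_step hRp n habove _ U (V ⊓ Subgroup.normalizer (U : Set Ω)) _ hn
      (hmor.restrict inf_le_left) (lt_inf_normalizer (isPGroup_of_le hV hRp) hlt)
      (fun x hx => mem_normalizerIn.mpr ⟨hV hx.1, hx.2⟩) rfl
  | @comp U f g k h1 h2 e ih1 ih2 =>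
    intro hn hU
    have hf := h.isMor_sys.mpr h1
    have hlt : img U f < R := lt_of_isConj hU (isConj_img hf)
    have hi : img U k = img (img U f) g := by rw [hf.img_comp, img_congr e]; rfl
    rw [hi]
    have hcard : Nat.card (img U f) = n := by rw [hf.card_img, hn]
    exact joined_trans hRp habove hcard hlt (ih1 hn hU) (ih2 hcard hlt) hU.le
      (h.isMor_sys.mpr h2).img_le

theorem exists_full_sys {n : ℕ} (habove : AboveSat h.sys p n) {A D : Subgroup Ω}
    (hD : h.sys.IsFullyNormalized D) (hn : Nat.card D = n) (hDlt : D < R)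
    (hAD : h.sys.IsConj A D) : Full h.sys A D := by
  have : Finite R := finite_of_le h.R_le
  obtain ⟨f, hf, hfi⟩ := isConj_iff.mp hAD
  exact full_of_joined hD hAD (hfi ▸ h.sys_joined habove (h.isMor_sys.mp hf)
    ((isConj_card hAD).symm.trans hn) (lt_of_isConj hDlt (isConj_symm hAD)))

/-- At a fully normalized subgroup a map into a good position carries `N_T` onto `N_T`. -/
theorem exists_transfer {D : Subgroup Ω} (hD : h.sys.IsFullyNormalized D) :
    ∃ a, IsMor F (normalizerIn S D) a ∧ F.IsFullyNormalized (img D a) ∧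
      F.IsFullyNormalized (img D a ⊓ T) ∧
      img (normalizerIn T D) a = normalizerIn T (img D a) := by
  have hq := h.hyp
  have hTS := hq.le_S
  have hDR := hD.1
  have hDS := hDR.trans h.R_le
  have : Finite R := finite_of_le h.R_le
  obtain ⟨a, ha, h1, h2⟩ := hq.exists_conj_pair hDS
  refine ⟨a, ha, h1, h2, le_antisymm (img_le fun x hx => ?_) fun t' ht' => ?_⟩
  · have hxS : x ∈ normalizerIn S D := inf_le_inf_right _ hTS hx
    exact mem_normalizerIn.mpr ⟨hq.mem_T ha hxS (normalizerIn_le hx),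
      (mem_normalizerIn.mp (mapsTo_normalizerIn ha (le_normalizerIn hDS) le_rfl x hxS)).2⟩
  set N := normalizerIn R D with hN
  have hNN : N ≤ normalizerIn S D := inf_le_inf_right _ h.R_le
  have hDN : D ≤ N := le_normalizerIn hDR
  obtain ⟨d, β, hd, hβ, e⟩ := hq.dec_all (ha.restrict hNN)
  have hdm := h.ggen_sys hd normalizerIn_le
  have hdD : h.sys.IsConj D (img D d) := isConj_img (hdm.restrict hDN)
  have hdN : img N d = normalizerIn R (img D d) := by
    refine eq_of_le_of_card normalizerIn_le (img_le fun x hx => mapsTo_normalizerIn hdm hDN le_rfl x hx) ?_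
    rw [hdm.card_img]
    exact hD.2 _ hdD
  have hdDle : img D d ≤ N ⊔ T := (img_mono d hDN).trans (hq.ggen_le hd)
  have hi : img (img D d) β = img D a := by
    rw [(hdm.restrict hDN).img_comp]
    exact img_congr fun x hx => (e x (hDN hx)).symm
  obtain ⟨ht'T, ht'n⟩ := mem_normalizerIn.mp ht'
  obtain ⟨t, ht, rfl⟩ : ∃ t ∈ T, β t = t' :=
    (hβ.restrict le_sup_right).mem_img.mp ((hq.img_sup_T hβ le_sup_right).ge ht'T)
  have htM : t ∈ N ⊔ T := Subgroup.mem_sup_right ht
  have htn : t ∈ Subgroup.normalizer (img D d : Set Ω) := by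
    have : Finite ↥(img D d) := finite_of_le (hdm.restrict hDN).img_le
    refine Subgroup.mem_normalizer_fintype fun x hx => ?_
    have hxM := hdDle hx
    show cj t x ∈ img D d
    have hmem : cj t x ∈ N ⊔ T := Subgroup.mul_mem _ (Subgroup.mul_mem _ htM hxM) (Subgroup.inv_mem _ htM)
    refine (hβ.mem_img_iff hdDle hmem).mp ?_
    rw [cj_apply, hβ.map_conj htM hxM, hi]
    exact (Subgroup.mem_normalizer_iff.mp ht'n _).mp (hi ▸ mem_img_of_mem β hx)
  obtain ⟨y, hy, hye⟩ := hdm.mem_img.mp (hdN.ge (mem_normalizerIn.mpr ⟨h.le_R ht, htn⟩))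
  have hyT : y ∈ T := (hq.mem_T_iff (h.to_F hdm) hy).mp (hye.symm ▸ ht)
  rw [← hye, ← e y hy]
  exact mem_img_of_mem a (mem_normalizerIn.mpr ⟨hyT, (mem_normalizerIn.mp hy).2⟩)

/-- The automorphisms induced by `T` contain a Sylow subgroup of the generated group. -/
theorem isSylIn_goodK {D : Subgroup Ω} (hD : h.sys.IsFullyNormalized D) (hc : HCen S E D) :
    IsSylIn p (autInducedBy T D ⊓ goodK F E p D) (goodK F E p D) := by
  have hq := h.hyp
  have hTS := hq.le_S
  have hDS := hD.1.trans h.R_le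
  have := finite_mulAut hDS
  refine ⟨inf_le_right, isPGroup_of_le inf_le_left (isPGroup_autInducedBy hq.tpgroup), fun C hC hle hCK => ?_⟩
  obtain ⟨a, ha, hPn, hWn, hNT⟩ := h.exists_transfer hD
  have hDN : D ≤ normalizerIn S D := le_normalizerIn hDS
  set P := img D a with hP
  have hPS := hPn.1
  have := finite_mulAut hPS
  have hcP : HCen S E P := hq.hcen_img hc (ha.restrict hDN)
  obtain ⟨e, he, -, -⟩ := exists_transport (ha.restrict hDN) (rfl : img D a = P)
  have hK : ∀ {σ}, σ ∈ goodK F E p D → e σ ∈ goodK F E p P := fun hσ =>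
    hq.goodK_transport ha hDN rfl he hσ
  have hsyl := isSylIn_inf (isFullyAutomized_iff.mp
    (isFullyAutomized_of_normalized hq.pgroup hq.sat hPn).1).2
    (hq.goodK_le (V := P)) (fun b hb n hn => hq.goodK_conj hPS hb hn)
  refine le_antisymm (fun c hcC => ?_) hle
  have hTK : autInducedBy T D ⊓ goodK F E p D ≤ C := hle
  have heq : C.map e.toMonoidHom = autInducedBy S P ⊓ goodK F E p P := by
    refine hsyl.2.2 _ (hC.map _) ?_ (by rintro _ ⟨σ, hσ, rfl⟩; exact hK (hCK hσ))
    rintro σ hσ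
    obtain ⟨t', ht', ht'n, ht'e⟩ := mem_autInducedBy.mp (hq.inf_goodK_le hPn hWn hcP hσ)
    obtain ⟨t, ht, hte⟩ := (ha.restrict (inf_le_inf_right _ hTS : normalizerIn T D ≤ _)).mem_img.mp
      (hNT.ge (mem_normalizerIn.mpr ⟨ht', ht'n⟩))
    obtain ⟨htT, htn⟩ := mem_normalizerIn.mp ht
    obtain ⟨τ, hτ, hτe⟩ := exists_autInducedBy (P := D) htT htn
    have heτ : e τ = σ := autFun_inj fun y hy => by
      obtain ⟨x, hx, rfl⟩ := (ha.restrict hDN).mem_img.mp hy
      rw [he τ x hx, hτe x hx, ht'e _ hy, ← hte]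
      exact ha.map_conj (mem_normalizerIn.mpr ⟨hTS htT, htn⟩) (hDN hx)
    refine ⟨τ, hTK ⟨hτ, ?_⟩, heτ⟩
    obtain ⟨gi, hgi, hgl, -, hgii⟩ := (ha.restrict hDN).inverse
    obtain ⟨e', he', -, -⟩ := exists_transport hgi hgii
    have h3 := hq.goodK_transport hgi le_rfl hgii he' hσ.2
    rwa [show τ = e' σ from autFun_inj fun x hx => by
      have h4 := he' σ (a x) (mem_img_of_mem a hx)
      rw [hgl x hx, ← heτ, he τ x hx, hgl _ (autFun_mem τ hx), heτ] at h4
      rw [h4]] 
  have h5 : e c ∈ autInducedBy S P ⊓ goodK F E p P := heq ▸ ⟨c, hcC, rfl⟩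
  obtain ⟨t', ht', ht'n, ht'e⟩ := mem_autInducedBy.mp (hq.inf_goodK_le hPn hWn hcP h5)
  obtain ⟨t, ht, hte⟩ := (ha.restrict (inf_le_inf_right _ hTS : normalizerIn T D ≤ _)).mem_img.mp
    (hNT.ge (mem_normalizerIn.mpr ⟨ht', ht'n⟩))
  obtain ⟨htT, htn⟩ := mem_normalizerIn.mp ht
  refine ⟨mem_autInducedBy.mpr ⟨t, htT, htn, fun x hx => ?_⟩, hCK hcC⟩
  have hm : cj t x ∈ D := (Subgroup.mem_normalizer_iff.mp htn x).mp hx
  refine ha.inj (hDN (autFun_mem c hx)) (hDN hm) ?_
  rw [← he c x hx, ht'e _ (mem_img_of_mem a hx), ← hte, cj_apply t,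
    ha.map_conj (mem_normalizerIn.mpr ⟨hTS htT, htn⟩) (hDN hx), cj_apply]

theorem mem_prodAut {D : Subgroup Ω} (hD : D ≤ R) {σ : MulAut D} :
    σ ∈ prodAut F E p R D ↔ ∃ k ∈ goodK F E p D, ∃ c ∈ autInducedBy R D, σ = k * c := by
  have hDS := hD.trans h.R_le
  have := finite_mulAut hDS
  have hsub : autInducedBy R D ≤ autInducedBy S D := fun τ hτ => by
    obtain ⟨t, ht, htn, hte⟩ := mem_autInducedBy.mp hτ
    exact mem_autInducedBy.mpr ⟨t, h.R_le ht, htn, hte⟩
  have hn : autInducedBy R D ≤ Subgroup.normalizer (goodK F E p D : Set (MulAut D)) :=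
    fun τ hτ => Subgroup.mem_normalizer_fintype fun y hy =>
      h.hyp.goodK_conj hDS (autInducedBy_le F hDS (hsub hτ)) hy
  constructor
  · intro hσ
    rw [prodAut, ← SetLike.mem_coe, Subgroup.coe_mul_of_right_le_normalizer_left _ _ hn] at hσ
    obtain ⟨k, hk, c, hc, rfl⟩ := hσ
    exact ⟨k, hk, c, hc, rfl⟩
  · rintro ⟨k, hk, c, hc, rfl⟩
    exact Subgroup.mul_mem _ (Subgroup.mem_sup_left hk) (Subgroup.mem_sup_right hc)

theorem isSylIn_prodAut {D : Subgroup Ω} (hD : h.sys.IsFullyNormalized D) (hc : HCen S E D) :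
    IsSylIn p (autInducedBy R D) (prodAut F E p R D) := by
  have hsyl := h.isSylIn_goodK hD hc
  refine ⟨le_sup_right, isPGroup_autInducedBy h.rpgroup, fun C hC hle hCA => le_antisymm (fun σ hσ => ?_) hle⟩
  obtain ⟨k, hk, c, hc', rfl⟩ := (h.mem_prodAut hD.1).mp (hCA hσ)
  have hkC : k ∈ C := by
    have := C.mul_mem hσ (C.inv_mem (hle hc'))
    rwa [mul_inv_cancel_right] at this
  have hTR : autInducedBy T D ≤ autInducedBy R D := fun τ hτ => by
    obtain ⟨t, ht, htn, hte⟩ := mem_autInducedBy.mp hτ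
    exact mem_autInducedBy.mpr ⟨t, h.le_R ht, htn, hte⟩
  have h1 := hsyl.2.2 (C ⊓ goodK F E p D) (isPGroup_of_le inf_le_left hC)
    (le_inf (inf_le_left.trans (hTR.trans hle)) inf_le_right) inf_le_right
  exact Subgroup.mul_mem _ (hTR (Subgroup.mem_inf.mp (h1 ▸ ⟨hkC, hk⟩ :
    k ∈ autInducedBy T D ⊓ goodK F E p D)).1) hc'

end ProdSetup

end CfsgLib.Fusion
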