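import Mathlib
import Cfsg.Agent.Lib.Fusion.ProductSystem

/-!
# The automizers of the product system
-/

set_option autoImplicit false
set_option linter.unusedSectionVars false
set_option maxHeartbeats 1000000

namespace CfsgLib.Fusion

open Cfsg Cfsg.FusionSystem

variable {Ω : Type*} [Group Ω] {S T : Subgroup Ω} {F : FusionSystem S} {E : FusionSystem T}
  {p : ℕ} [hp : Fact p.Prime] [Finite S] {R : Subgroup Ω}

namespace ProdSetup

variable (h : ProdSetup F E p R)
include h

/-- Transport along a map of the normalizer. -/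
theorem prodAut_transport {C D : Subgroup Ω} {c : Ω → Ω} (hc : IsMor h.sys (normalizerIn R C) c)
    (hCR : C ≤ R) (hcD : img C c = D) {e : MulAut C ≃* MulAut D}
    (he : ∀ α : MulAut C, ∀ x ∈ C, autFun (e α) (c x) = c (autFun α x)) {α : MulAut C}
    (hα : α ∈ prodAut F E p R C) : e α ∈ prodAut F E p R D := by
  have hCN : C ≤ normalizerIn R C := le_normalizerIn hCR
  obtain ⟨k, hk, σ, hσ, rfl⟩ := (h.mem_prodAut hCR).mp hα
  rw [map_mul]
  refine Subgroup.mul_mem _ (Subgroup.mem_sup_left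
    (h.hyp.goodK_transport (h.to_F hc) hCN hcD he hk)) (Subgroup.mem_sup_right ?_)
  obtain ⟨t, ht, htn, hte⟩ := mem_autInducedBy.mp hσ
  have htN : t ∈ normalizerIn R C := mem_normalizerIn.mpr ⟨ht, htn⟩
  have hct : c t ∈ normalizerIn R D := hcD ▸ mapsTo_normalizerIn hc hCN le_rfl t htN
  refine mem_autInducedBy.mpr ⟨c t, (mem_normalizerIn.mp hct).1, (mem_normalizerIn.mp hct).2,
    fun y hy => ?_⟩
  obtain ⟨x, hx, rfl⟩ := (hc.restrict hCN).mem_img.mp (hcD.ge hy)
  rw [he σ x hx, hte x hx]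
  exact hc.map_conj htN (hCN hx)

section Level

variable {n : ℕ}

/-- An automorphism extending properly is in the group of the generators. -/
theorem loop_mem (habove : AboveSat h.sys p n) {D : Subgroup Ω}
    (hD : h.sys.IsFullyNormalized D) (hH : HCen S E D) (hn : Nat.card D = n) :
    ∀ (d : ℕ) (M : Subgroup Ω) (θ : Ω → Ω), D < M → M ≤ normalizerIn R D →
      IsMor h.sys M θ → img D θ = D → Nat.card R - Nat.card M = d →
      ∀ γ : MulAut D, (∀ x ∈ D, autFun γ x = θ x) → γ ∈ prodAut F E p R D := by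
  have : Finite R := finite_of_le h.R_le
  have hRp := h.rpgroup
  have hDR := hD.1
  intro d
  induction d using Nat.strong_induction_on with
  | _ d ih =>
  intro M θ hDM hMN hθ hθD hd γ hγ
  subst hd
  have hMR : M ≤ R := hθ.le
  have hMn : n < Nat.card M := hn ▸ card_lt_of_lt hMR hDM
  have hmaps : img M θ ≤ normalizerIn R D :=
    img_le fun x hx => hθD ▸ mapsTo_normalizerIn hθ hDM.le hMN x hx
  have : Finite D := finite_of_le hDR
  rcases eq_or_lt_of_le hMN with hM | hM
  · -- the source is the whole normalizer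
    have hMi : img M θ = M := eq_of_le_of_card hMR (hM ▸ hmaps : img M θ ≤ M) hθ.card_img.ge
    obtain ⟨γM, hγM, hγMe⟩ := exists_aut hθ hMi
    have hst : γM ∈ stabIn M D := mem_stabIn_of_maps hDM.le fun x hx => by
      rw [hγMe x (hDM.le hx)]
      exact hθD ▸ mem_img_of_mem θ hx
    have := finite_mulAut hMR
    have : Finite M := finite_of_le hMR
    let L : Subgroup (MulAut M) :=
      ((prodAut F E p R D).comap (resC hDM.le)).map (stabIn M D).subtype
    obtain ⟨U, -, hU⟩ := exists_isSylIn_of_isPGroup (B := h.sys.autGroup M ⊓ stabIn M D) (A := ⊥)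
      (IsPGroup.of_bot (p := p)) bot_le
    have hle : h.sys.autGroup M ⊓ stabIn M D ≤ L := by
      refine le_of_sylIn_of_coprime hU (fun π hπ => ?_) fun b hb hbc => ?_
      · obtain ⟨M', hM', haut, -⟩ := habove M hMR hMn
        obtain ⟨h₀, hh₀, hh₀i⟩ := isConj_iff.mp hM'
        have hM'R := (isConj_le hM').2
        have := finite_mulAut hM'R
        obtain ⟨e, he, heA, -⟩ := exists_transport hh₀ hh₀i
        have hUle : U.map e.toMonoidHom ≤ h.sys.autGroup M' := by
          rintro _ ⟨σ, hσ, rfl⟩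
          exact (heA σ).mp (hU.1 hσ).1
        obtain ⟨b, hb, hbc⟩ := (isFullyAutomized_iff.mp haut).2.exists_conj_le (hU.2.1.map _) hUle
        set f := autFun b ∘ h₀ with hf
        have hfm : IsMor h.sys M f := hh₀.comp (isMor_autFun hM'R hb)
          fun x hx => hh₀i ▸ mem_img_of_mem h₀ hx
        have hfi : img M f = M' := by rw [hf, ← hh₀.img_comp, hh₀i, img_autFun]
        set C := img D f with hC
        have hCM : C ≤ M' := hfi ▸ img_mono f hDM.le
        have hCc : h.sys.IsConj D C := isConj_img (hfm.restrict hDM.le)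
        have hM'N : M' ≤ normalizerIn R C := hfi ▸ img_le fun x hx =>
          mapsTo_normalizerIn hfm hDM.le hMN x hx
        have hM'eq : M' = normalizerIn R C := by
          refine eq_of_le_of_card normalizerIn_le hM'N ?_
          rw [← hfi, hfm.card_img, hM]
          exact hD.2 C hCc
        obtain ⟨r, hr, hrn, hre⟩ := mem_autInducedBy.mp (hbc _ ⟨π, hπ, rfl⟩)
        have hconj : ∀ x ∈ M, cj r (f x) = f (autFun π x) := fun x hx => by
          have hy : f x ∈ M' := hfi ▸ mem_img_of_mem f hx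
          have hy0 : h₀ x ∈ M' := hh₀i ▸ mem_img_of_mem h₀ hx
          rw [← hre _ hy]
          show autFun (b * e π * b⁻¹) (autFun b (h₀ x)) = autFun b (h₀ (autFun π x))
          rw [autFun_mul _ _ (autFun_mem b hy0), autFun_inv_left b hy0, autFun_mul _ _ hy0,
            he π x hx]
        have hπs : π ∈ stabIn M D := (hU.1 hπ).2
        have hrC : r ∈ Subgroup.normalizer (C : Set Ω) := by
          have : Finite C := finite_of_le (hCM.trans hM'R)
          refine Subgroup.mem_normalizer_fintype fun y hy => ?_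
          obtain ⟨x, hx, rfl⟩ := (hfm.restrict hDM.le).mem_img.mp hy
          show cj r (f x) ∈ C
          rw [hconj x (hDM.le hx)]
          exact mem_img_of_mem f (stabIn_maps hDM.le hπs hx)
        have hrM' : r ∈ M' := hM'eq ▸ mem_normalizerIn.mpr ⟨hr, hrC⟩
        obtain ⟨r₀, hr₀, rfl⟩ := hfm.mem_img.mp (hfi.ge hrM')
        refine ⟨⟨π, hπs⟩, Subgroup.mem_sup_right (mem_autInducedBy.mpr
          ⟨r₀, hMR hr₀, (mem_normalizerIn.mp (hMN hr₀)).2, fun x hx => ?_⟩), rfl⟩
        rw [autFun_resC hDM.le _ hx]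
        have hxM := hDM.le hx
        refine hfm.inj (autFun_mem π hxM) (M.mul_mem (M.mul_mem hr₀ hxM) (M.inv_mem hr₀)) ?_
        rw [← hconj x hxM, cj_apply]
        exact (hfm.map_conj hr₀ hxM).symm
      · have hbg := h.sys_coprime_good hMR (h.hyp.hcen_mono hH hDM.le (hMR.trans h.R_le)) hb.1 hbc
        obtain ⟨β, hβ, hβe⟩ := h.hyp.good_restrict hbg hDM.le hH
          fun x hx => stabIn_maps hDM.le hb.2 hx
        refine ⟨⟨b, hb.2⟩, ?_, rfl⟩
        show resC hDM.le ⟨b, hb.2⟩ ∈ prodAut F E p R D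
        rw [show resC hDM.le ⟨b, hb.2⟩ = β from autFun_inj fun x hx => by
          rw [autFun_resC hDM.le _ hx, hβe x hx]]
        exact Subgroup.mem_sup_left (Subgroup.subset_closure hβ)
    obtain ⟨⟨g, hg⟩, hgA, hge⟩ := hle (⟨hγM, hst⟩ : γM ∈ h.sys.autGroup M ⊓ stabIn M D)
    obtain rfl : g = γM := hge
    rwa [show γ = resC hDM.le ⟨g, hg⟩ from autFun_inj fun x hx => by
      rw [autFun_resC hDM.le _ hx, hγ x hx, hγMe x (hDM.le hx)]]
  obtain ⟨R', C, δA, δB, kA, kB, had, hδA, hδA', hδB, hδB', hkA, hkAC, hkAR, hkB, hkBC, hkBe⟩ :=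
    exists_replacement hRp (hn ▸ habove) hθ hDM
  rw [hθD] at hkB hkBC
  set SA := normalizerIn R D ⊓ normalizerIn R M with hSA
  set SB := normalizerIn R D ⊓ normalizerIn R (img M θ) with hSB
  have hMSA : M < SA := lt_normalizerIn_inf hRp hDR hDM.le hM
  have hDY : D ≤ img M θ := hθD ▸ img_mono θ hDM.le
  have hY : img M θ < normalizerIn R D := by
    refine lt_of_le_of_ne hmaps fun e => ?_
    have h1 := hθ.card_img
    rw [e] at h1
    have := card_lt_of_lt normalizerIn_le hM
    omega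
  have hYSB : img M θ < SB := lt_normalizerIn_inf hRp hDR hDY hY
  have hSAR : SA ≤ R := inf_le_left.trans normalizerIn_le
  have hSBR : SB ≤ R := inf_le_left.trans normalizerIn_le
  have hcA : Nat.card M < Nat.card SA := card_lt_of_lt hSAR hMSA
  have hcB : Nat.card M < Nat.card SB := hθ.card_img ▸ card_lt_of_lt hSBR hYSB
  have hdec : ∀ {N : Subgroup Ω}, N ≤ R → Nat.card M < Nat.card N →
      Nat.card R - Nat.card N < Nat.card R - Nat.card M := fun hN h' => by
    have := Subgroup.card_le_of_le hN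
    omega
  have hDSA : D ≤ SA := hDM.le.trans hMSA.le
  have hDSB : D ≤ SB := hDY.trans hYSB.le
  have hCconj : h.sys.IsConj C D := isConj_symm (hkAC ▸ isConj_img (hkA.restrict hDSA))
  obtain ⟨c, hc, hcD⟩ := h.exists_full_sys habove hD hn
    (lt_of_lt_of_le (hDM.trans hM) normalizerIn_le) hCconj
  have hCR : C ≤ R := (isConj_le hCconj).1
  have hCN : C ≤ normalizerIn R C := le_normalizerIn hCR
  -- the two outer parts
  have hside : ∀ {N : Subgroup Ω} {k : Ω → Ω}, D ≤ N → N ≤ normalizerIn R D →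
      Nat.card M < Nat.card N → IsMor h.sys N k → img D k = C →
      ∃ γ' ∈ prodAut F E p R D, ∀ x ∈ D, autFun γ' x = c (k x) := by
    intro N k hDN hNN hMN' hk hkC
    have hkN : ∀ x ∈ N, k x ∈ normalizerIn R C := fun x hx =>
      hkC ▸ mapsTo_normalizerIn hk hDN hNN x hx
    have hcomp := hk.comp hc hkN
    have hi : img D (c ∘ k) = D := by rw [← (hk.restrict hDN).img_comp, hkC, hcD]
    obtain ⟨γ', -, hγ'e⟩ := exists_aut (hcomp.restrict hDN) hi
    refine ⟨γ', ?_, hγ'e⟩
    refine ih _ (hdec (hNN.trans normalizerIn_le) hMN') N _ ?_ hNN hcomp hi rfl γ' hγ'e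
    exact lt_of_le_of_ne hDN fun e => by rw [← e] at hMN'; omega
  obtain ⟨γA, hγA, hγAe⟩ := hside hDSA inf_le_left hcA hkA hkAC
  obtain ⟨γB, hγB, hγBe⟩ := hside hDSB inf_le_left hcB hkB hkBC
  -- the middle part
  have hCR' : C ≤ R' := had.le
  have hR'R : R' ≤ R := had.receptive.1
  have hCH : HCen S E C := h.hcen_conj hH (isConj_symm hCconj)
  have : Finite C := finite_of_le hCR
  have := finite_mulAut hR'R
  set δ := δB * δA⁻¹ with hδdef
  have hδs : δ ∈ stabIn R' C := Subgroup.mul_mem _ hδB' (Subgroup.inv_mem _ hδA')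
  let L : Subgroup (MulAut R') :=
    ((prodAut F E p R C).comap (resC hCR')).map (stabIn R' C).subtype
  have hle : h.sys.autGroup R' ⊓ stabIn R' C ≤ L := by
    refine le_of_sylIn_of_coprime had.syl (fun σ hσ => ?_) fun b hb hbc => ?_
    · obtain ⟨t, ht, htn, hte⟩ := mem_autInducedBy.mp hσ.1
      refine ⟨⟨σ, hσ.2⟩, Subgroup.mem_sup_right (mem_autInducedBy.mpr
        ⟨t, ht, normalizer_of_mem_stabIn hCR' htn hσ.2 hte, fun x hx => ?_⟩), rfl⟩
      rw [autFun_resC hCR' _ hx]
      exact hte x (hCR' hx)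
    · have hbg := h.sys_coprime_good hR'R (h.hyp.hcen_mono hCH hCR' (hR'R.trans h.R_le)) hb.1 hbc
      obtain ⟨β, hβ, hβe⟩ := h.hyp.good_restrict hbg hCR' hCH
        fun x hx => stabIn_maps hCR' hb.2 hx
      refine ⟨⟨b, hb.2⟩, ?_, rfl⟩
      show resC hCR' ⟨b, hb.2⟩ ∈ prodAut F E p R C
      rw [show resC hCR' ⟨b, hb.2⟩ = β from autFun_inj fun x hx => by
        rw [autFun_resC hCR' _ hx, hβe x hx]]
      exact Subgroup.mem_sup_left (Subgroup.subset_closure hβ)
  obtain ⟨⟨g, hg⟩, hgA, hge⟩ :=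
    hle (⟨Subgroup.mul_mem _ hδB (Subgroup.inv_mem _ hδA), hδs⟩ : δ ∈ h.sys.autGroup R' ⊓ stabIn R' C)
  obtain rfl : g = δ := hge
  set μ := resC hCR' ⟨δ, hg⟩ with hμ
  obtain ⟨e, he, -, -⟩ := exists_transport (hc.restrict hCN) hcD
  have hν := h.prodAut_transport hc hCR hcD he hgA
  suffices h' : γ = γB⁻¹ * (e μ * γA) by
    rw [h']; exact mul_mem (inv_mem hγB) (mul_mem hν hγA)
  rw [eq_inv_mul_iff_mul_eq]
  refine autFun_inj fun x hx => ?_
  have hθx : θ x ∈ D := hθD ▸ mem_img_of_mem θ hx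
  have hkx : kA x ∈ C := hkAC ▸ mem_img_of_mem kA hx
  rw [autFun_mul _ _ hx, hγ x hx, hγBe _ hθx, hkBe x hx, autFun_mul _ _ hx, hγAe x hx,
    he μ _ hkx, hμ, autFun_resC hCR' ⟨δ, hg⟩ hkx]

/-- Every loop through full maps is in the group of the generators. -/
theorem loop_gen (habove : AboveSat h.sys p n) {D : Subgroup Ω}
    (hD : h.sys.IsFullyNormalized D) (hH : HCen S E D) (hn : Nat.card D = n) (hDlt : D < R)
    {U : Subgroup Ω} {f : Ω → Ω} (hf : PGen F E p R U f) :
    ∀ a b, IsMor h.sys (normalizerIn R U) a → img U a = D →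
      IsMor h.sys (normalizerIn R (img U f)) b → img (img U f) b = D →
      ∀ γ : MulAut D, (∀ x ∈ U, autFun γ (a x) = b (f x)) → γ ∈ prodAut F E p R D := by
  have : Finite R := finite_of_le h.R_le
  have hRp := h.rpgroup
  have hstep : ∀ {U : Subgroup Ω} (a : Ω → Ω) (γ : MulAut D) {M : Subgroup Ω} {θ : Ω → Ω},
      IsMor h.sys (normalizerIn R U) a → img U a = D → U < M → M ≤ normalizerIn R U →
      IsMor h.sys M θ → (∀ x ∈ U, θ x = autFun γ (a x)) → γ ∈ prodAut F E p R D := by
    intro U a γ M θ ha haD hUM hMN hθ hθe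
    have hUN : U ≤ normalizerIn R U := hUM.le.trans hMN
    obtain ⟨ai, hai, hal, -, -⟩ := ha.inverse
    have hsrc : img M a ≤ normalizerIn R D :=
      img_le fun x hx => haD ▸ mapsTo_normalizerIn ha hUN le_rfl x (hMN hx)
    have hθ' : IsMor h.sys (img M a) (θ ∘ ai) :=
      (hai.restrict (img_mono a hMN)).comp hθ fun y hy => by
        obtain ⟨x, hx, rfl⟩ := (ha.restrict hMN).mem_img.mp hy
        rw [hal x (hMN hx)]
        exact hx
    have hcong : ∀ y ∈ D, (θ ∘ ai) y = autFun γ y := fun y hy => by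
      obtain ⟨x, hx, rfl⟩ := (ha.restrict hUN).mem_img.mp (haD.ge hy)
      rw [Function.comp_apply, hal x (hUN hx), hθe x hx]
    refine h.loop_mem habove hD hH hn _ (img M a) (θ ∘ ai) ?_ hsrc hθ' ?_ rfl γ
      fun y hy => (hcong y hy).symm
    · refine lt_of_le_of_ne (haD ▸ img_mono a hUM.le) fun e => ?_
      have h5 := ha.le_of_img_le hMN hUN (by rw [haD]; exact e.ge)
      exact hUM.ne (le_antisymm hUM.le h5)
    · rw [img_congr hcong, img_autFun]
  induction hf with
  | @conj U r f hU hr e =>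
    intro a b ha haD hb hbD γ hγ
    have hUlt : U < R :=
      lt_of_isConj hDlt (isConj_symm (haD ▸ isConj_img (ha.restrict (le_normalizerIn hU))))
    rw [img_congr e] at hb
    refine hstep a γ ha haD (normalizerIn_gt hRp hUlt) le_rfl (θ := b ∘ cj r)
      ((isMor_cj _ normalizerIn_le hr).comp hb fun x hx =>
        mapsTo_normalizerIn (isMor_cj h.sys normalizerIn_le hr) (le_normalizerIn hU) le_rfl x hx)
      fun x hx => ?_
    rw [Function.comp_apply, hγ x hx, e x hx]
  | @good U V f α hα hV hUV e =>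
    intro a b ha haD hb hbD γ hγ
    have hU : U ≤ R := hUV.trans hV
    have hUN : U ≤ normalizerIn R U := le_normalizerIn hU
    have hUlt : U < R := lt_of_isConj hDlt (isConj_symm (haD ▸ isConj_img (ha.restrict hUN)))
    rcases eq_or_lt_of_le hUV with heq | hlt
    · subst heq
      have hi : img U f = U := by rw [img_congr e, img_autFun]
      rw [hi] at hb hbD
      obtain ⟨ε, hε, -, -⟩ := exists_transport (ha.restrict hUN) haD
      have hν : ε α ∈ prodAut F E p R D := Subgroup.mem_sup_left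
        (h.hyp.goodK_transport (h.to_F ha) hUN haD hε (Subgroup.subset_closure hα))
      suffices hρ : γ * (ε α)⁻¹ ∈ prodAut F E p R D by
        have := mul_mem hρ hν
        rwa [inv_mul_cancel_right] at this
      refine hstep a _ ha haD (normalizerIn_gt hRp hUlt) le_rfl hb fun x hx => ?_
      have haxD : a x ∈ D := haD ▸ mem_img_of_mem a hx
      have hx' := autFun_mem α⁻¹ hx
      have h6 : autFun (ε α)⁻¹ (a x) = a (autFun α⁻¹ x) := by rw [← map_inv, hε α⁻¹ x hx]
      rw [autFun_mul _ _ haxD, h6, hγ _ hx', e _ hx', autFun_inv_right α hx]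
    · have : Finite V := finite_of_le hV
      set M := V ⊓ Subgroup.normalizer (U : Set Ω) with hM
      have hUM : U < M := lt_inf_normalizer (isPGroup_of_le hV hRp) hlt
      have hMN : M ≤ normalizerIn R U := fun x hx => mem_normalizerIn.mpr ⟨hV hx.1, hx.2⟩
      have hαm : IsMor h.sys M (autFun α) :=
        h.isMor_sys.mpr (.good hα hV inf_le_left fun _ _ => rfl)
      refine hstep a γ ha haD hUM hMN (θ := b ∘ autFun α) (hαm.comp hb fun x hx => ?_) fun x hx => ?_
      · have := mapsTo_normalizerIn hαm hUM.le hMN x hx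
        rwa [img_congr e]
      · rw [Function.comp_apply, hγ x hx, e x hx]
  | @comp U f g k h1 h2 e ih1 ih2 =>
    intro a b ha haD hb hbD γ hγ
    have hf := h.isMor_sys.mpr h1
    have hg := h.isMor_sys.mpr h2
    have hUN : U ≤ normalizerIn R U := le_normalizerIn hf.le
    have hconjU : h.sys.IsConj U D := haD ▸ isConj_img (ha.restrict hUN)
    have hconjV : h.sys.IsConj (img U f) D := isConj_trans (isConj_symm (isConj_img hf)) hconjU
    obtain ⟨d, hd, hdD⟩ := h.exists_full_sys habove hD hn hDlt hconjV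
    have hVN : img U f ≤ normalizerIn R (img U f) := le_normalizerIn hf.img_le
    obtain ⟨ai, hai, hal, -, -⟩ := (ha.restrict hUN).inverse
    rw [haD] at hai
    have haiU : ∀ y ∈ D, ai y ∈ U := fun y hy => by
      obtain ⟨x, hx, rfl⟩ := (ha.restrict hUN).mem_img.mp (haD.ge hy)
      rw [hal x hx]; exact hx
    have hm1 : IsMor h.sys D (d ∘ f ∘ ai) :=
      (hai.comp hf haiU).comp (hd.restrict hVN) fun y hy => mem_img_of_mem f (haiU y hy)
    have : Finite D := finite_of_le hD.1
    obtain ⟨γ₁, -, hγ₁⟩ := exists_aut hm1 (hm1.img_eq_self fun y hy =>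
      hdD ▸ mem_img_of_mem d (mem_img_of_mem f (haiU y hy)))
    have hγ₁' : ∀ x ∈ U, autFun γ₁ (a x) = d (f x) := fun x hx => by
      rw [hγ₁ _ (haD ▸ mem_img_of_mem a hx), Function.comp_apply, Function.comp_apply, hal x hx]
    have hi : img (img U f) g = img U k := by rw [hf.img_comp, img_congr e]; rfl
    rw [← hi] at hb hbD
    have h3 := ih1 a d ha haD hd hdD γ₁ hγ₁'
    have h4 : γ * γ₁⁻¹ ∈ prodAut F E p R D := by
      refine ih2 d b hd hdD hb hbD _ fun y hy => ?_
      obtain ⟨x, hx, rfl⟩ := hf.mem_img.mp hy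
      have hax : a x ∈ D := haD ▸ mem_img_of_mem a hx
      rw [← hγ₁' x hx, autFun_mul _ _ (autFun_mem γ₁ hax), autFun_inv_left γ₁ hax, hγ x hx,
        e x hx]
    have := mul_mem h4 h3
    rwa [inv_mul_cancel_right] at this

/-- A generated map defined on the whole of `R`. -/
theorem pgen_top {U : Subgroup Ω} {f : Ω → Ω} (hf : PGen F E p R U f) :
    U = R → ∃ γ ∈ prodAut F E p R R, ∀ x ∈ R, f x = autFun γ x := by
  induction hf with
  | @conj U r f hU hr e =>
    intro hUR
    subst hUR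
    obtain ⟨c, hc, hce⟩ := exists_autInducedBy (P := U) hr (Subgroup.le_normalizer hr)
    exact ⟨c, Subgroup.mem_sup_right hc, fun x hx => by rw [e x hx, hce x hx]⟩
  | @good U V f α hα hV hUV e =>
    intro hUR
    subst hUR
    obtain rfl : V = U := le_antisymm hV hUV
    exact ⟨α, Subgroup.mem_sup_left (Subgroup.subset_closure hα), e⟩
  | @comp U f g k h1 h2 e ih1 ih2 =>
    intro hUR
    subst hUR
    obtain ⟨γ₁, hγ₁, he₁⟩ := ih1 rfl
    obtain ⟨γ₂, hγ₂, he₂⟩ := ih2 (by rw [img_congr he₁, img_autFun])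
    exact ⟨γ₂ * γ₁, mul_mem hγ₂ hγ₁, fun x hx => by
      rw [e x hx, he₁ x hx, he₂ _ (autFun_mem γ₁ hx), autFun_mul _ _ hx]⟩

/-- The automizers at fully normalized members of the family. -/
theorem autGroup_eq_prodAut (habove : AboveSat h.sys p n) {D : Subgroup Ω}
    (hD : h.sys.IsFullyNormalized D) (hH : HCen S E D) (hn : Nat.card D = n) :
    h.sys.autGroup D = prodAut F E p R D := by
  refine le_antisymm (fun γ hγ => ?_) (h.prodAut_le_sys hD.1)
  have hf := h.isMor_sys.mp (isMor_autFun hD.1 hγ)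
  rcases eq_or_lt_of_le hD.1 with e | hlt
  · subst e
    obtain ⟨γ', hγ', he⟩ := h.pgen_top hf rfl
    rwa [autFun_inj he]
  refine h.loop_gen habove hD hH hn hlt hf id id (isMor_id _ normalizerIn_le) (img_id _) ?_ ?_ γ
    fun _ _ => rfl
  · exact isMor_id _ normalizerIn_le
  · rw [img_id, img_autFun]

end Level

end ProdSetup

end CfsgLib.Fusion
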