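import Mathlib
import Cfsg.Agent.Lib.Fusion.ProductLoops
import Cfsg.Agent.Lib.Fusion.CentralLiftGen

/-!
# Saturation of the product of a normal subsystem with a subgroup
-/

set_option autoImplicit false
set_option linter.unusedSectionVars false
set_option maxHeartbeats 1000000

namespace CfsgLib.Fusion

open Cfsg Cfsg.FusionSystem

variable {Ω : Type*} [Group Ω] {S T : Subgroup Ω} {F : FusionSystem S} {E : FusionSystem T}
  {p : ℕ} [hp : Fact p.Prime] [Finite S] {R : Subgroup Ω}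

namespace ProdSetup

variable (h : ProdSetup F E p R)
include h

/-- Generators extend inside `R`. -/
theorem good_extend {D : Subgroup Ω} (hD : h.sys.IsFullyNormalized D) (hH : HCen S E D)
    {g : MulAut D} (hg : IsGood F E p D g) {Q : Subgroup (MulAut D)} (hInn : Inn D ≤ Q)
    (hQ : Q ≤ autInducedBy R D) (hgQ : ∀ q ∈ Q, g * q * g⁻¹ ∈ Q) :
    ∃ Γ : MulAut ↥(indPre R D Q), IsGood F E p (indPre R D Q) Γ ∧
      ∀ x ∈ D, autFun Γ x = autFun g x := by
  have hq := h.hyp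
  have hTS := hq.le_S
  have hDR := hD.1
  have hDS := hDR.trans h.R_le
  obtain ⟨a, ha, hPn, hWn, hNT⟩ := h.exists_transfer hD
  set P := img D a with hP
  have hDN : D ≤ normalizerIn S D := le_normalizerIn hDS
  set Y := indPre R D Q with hY
  have hYN : Y ≤ normalizerIn S D := indPre_le.trans (inf_le_inf_right _ h.R_le)
  have hDY : D ≤ Y := le_indPre hDR hInn
  obtain ⟨e, he, -, -⟩ := exists_transport (ha.restrict hDN) (rfl : img D a = P)
  have hPS := hPn.1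
  have : Finite D := finite_of_le hDS
  have : Finite P := finite_of_le hPS
  set Q' := Q.map e.toMonoidHom with hQ'
  -- the action of the images
  have hact : ∀ y ∈ normalizerIn S D, ∀ σ : MulAut D, (∀ x ∈ D, autFun σ x = cj y x) →
      ∀ z ∈ P, autFun (e σ) z = cj (a y) z := by
    intro y hy σ hσ z hz
    obtain ⟨x, hx, rfl⟩ := (ha.restrict hDN).mem_img.mp hz
    rw [he σ x hx, hσ x hx]
    exact ha.map_conj hy (hDN hx)
  have hQ'S : Q' ≤ autInducedBy S P := by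
    rintro _ ⟨σ, hσ, rfl⟩
    obtain ⟨r, hr, hrn, hre⟩ := mem_autInducedBy.mp (hQ hσ)
    have hrN : r ∈ normalizerIn S D := mem_normalizerIn.mpr ⟨h.R_le hr, hrn⟩
    exact mem_autInducedBy.mpr ⟨a r, ha.mem hrN,
      (mem_normalizerIn.mp (mapsTo_normalizerIn ha hDN le_rfl r hrN)).2, hact r hrN σ hre⟩
  have hInn' : Inn P ≤ Q' := by
    intro σ hσ
    obtain ⟨v, hv, hve⟩ := mem_inn.mp hσ
    obtain ⟨u, hu, rfl⟩ := (ha.restrict hDN).mem_img.mp hv
    obtain ⟨τ, hτ, hτe⟩ := exists_autInducedBy (K := D) hu (Subgroup.le_normalizer hu)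
    refine ⟨τ, hInn (inn_eq_autInducedBy.ge hτ), autFun_inj fun z hz => ?_⟩
    rw [hve z hz]
    exact hact u (hDN hu) τ hτe z hz
  have hg' := hq.good_transport ha hDN rfl he hg
  obtain ⟨Γ, hΓ, hΓe⟩ := hq.exists_good_ext hPn hWn hg' hInn' hQ'S (by
    rintro _ ⟨σ, hσ, rfl⟩
    exact ⟨g * σ * g⁻¹, hgQ σ hσ, by simp⟩)
  have hΓm := isMor_autFun hΓ.cen.1 hΓ.mem
  have hPX : P ≤ (indPre S P Q') := le_indPre hPS hInn'
  have hYX : img Y a ≤ (indPre S P Q') := img_le fun y hy => by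
    obtain ⟨hyN, σ, hσ, hσe⟩ := id hy
    exact ⟨mapsTo_normalizerIn ha hDN le_rfl y (hYN hy), e σ, ⟨σ, hσ, rfl⟩,
      hact y (hYN hy) σ hσe⟩
  have hmaps : ∀ z ∈ img Y a, autFun Γ z ∈ img Y a := by
    intro z hz
    obtain ⟨y, hy, rfl⟩ := (ha.restrict hYN).mem_img.mp hz
    obtain ⟨hyN, σ, hσ, hσe⟩ := id hy
    have hayX : a y ∈ (indPre S P Q') := hYX (mem_img_of_mem a hy)
    have hmX := autFun_mem Γ hayX
    have hn1 := (mem_normalizerIn.mp (indPre_le hmX)).2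
    have hn2 := (mem_normalizerIn.mp (indPre_le hayX)).2
    have ht'' : (a y)⁻¹ * autFun Γ (a y) ∈ normalizerIn T P :=
      mem_normalizerIn.mpr ⟨hΓ.strict.1 _ hayX, Subgroup.mul_mem _ (Subgroup.inv_mem _ hn2) hn1⟩
    obtain ⟨t, ht, hte⟩ := (ha.restrict (inf_le_inf_right _ hTS : normalizerIn T D ≤ _)).mem_img.mp
      (hNT.ge ht'')
    obtain ⟨htT, htn⟩ := mem_normalizerIn.mp ht
    have htN : t ∈ normalizerIn S D := mem_normalizerIn.mpr ⟨hTS htT, htn⟩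
    have hyt : y * t ∈ normalizerIn R D := Subgroup.mul_mem _ hyN
      (mem_normalizerIn.mpr ⟨h.le_R htT, htn⟩)
    have hayt : a (y * t) = autFun Γ (a y) := by
      rw [ha.map_mul (hYN hy) htN, hte, mul_inv_cancel_left]
    refine hayt ▸ mem_img_of_mem a ⟨hyt, _, hgQ σ hσ, fun x hx => ?_⟩
    have hx' := autFun_mem g⁻¹ hx
    have hax : a x ∈ P := mem_img_of_mem a hx
    have hax' : a (autFun g⁻¹ x) ∈ P := mem_img_of_mem a hx'
    have hσx : autFun σ (autFun g⁻¹ x) ∈ D := autFun_mem _ hx'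
    refine ha.inj (hDN (autFun_mem _ hx)) (hDN ((Subgroup.mem_normalizer_iff.mp
      (mem_normalizerIn.mp hyt).2 x).mp hx)) ?_
    have hgx : a x = autFun (e g) (a (autFun g⁻¹ x)) := by
      rw [he g _ hx', autFun_inv_right g hx]
    have hP' : cj (a y) (a (autFun g⁻¹ x)) ∈ P :=
      (Subgroup.mem_normalizer_iff.mp hn2 _).mp hax'
    rw [cj_apply (y * t), ha.map_conj (inf_le_inf_right _ h.R_le hyt) (hDN hx), hayt,
      autFun_mul _ _ hx, autFun_mul _ _ hx', ← he g _ hσx, hσe _ hx', cj_apply y,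
      ha.map_conj (hYN hy) (hDN hx'), ← cj_apply (a y), ← hΓe _ hP', cj_apply (a y),
      hΓm.map_conj hayX (hPX hax'), hΓe _ hax', ← hgx]
  have hcY : HCen S E Y := hq.hcen_mono hH hDY (hYN.trans normalizerIn_le)
  obtain ⟨β, hβ, hβe⟩ := hq.good_restrict hΓ hYX (hq.hcen_img hcY (ha.restrict hYN)) hmaps
  obtain ⟨gi, hgi, hgl, -, hgii⟩ := (ha.restrict hYN).inverse
  obtain ⟨e', he', -, -⟩ := exists_transport hgi hgii
  refine ⟨e' β, hq.good_transport hgi le_rfl hgii he' hβ, fun x hx => ?_⟩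
  have hxY := mem_img_of_mem a (hDY hx)
  have h1 := he' β (a x) hxY
  rw [hgl x (hDY hx), hβe _ hxY, hΓe _ (mem_img_of_mem a hx), he g x hx,
    hgl _ (hDY (autFun_mem g hx))] at h1
  exact h1

section Level

variable {n : ℕ}

/-- An automorphism carrying one group of induced automorphisms into another extends. -/
theorem exists_ext_sys (habove : AboveSat h.sys p n) {D : Subgroup Ω}
    (hD : h.sys.IsFullyNormalized D) (hH : HCen S E D) (hn : Nat.card D = n)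
    {Q : Subgroup (MulAut D)} (hInn : Inn D ≤ Q) (hQ : Q ≤ autInducedBy R D) {θ : MulAut D}
    (hθ : θ ∈ prodAut F E p R D) (hθQ : ∀ q ∈ Q, θ * q * θ⁻¹ ∈ autInducedBy R D) :
    ∃ g, IsMor h.sys (indPre R D Q) g ∧ ∀ x ∈ D, g x = autFun θ x := by
  have hRp := h.rpgroup
  have hDR := hD.1
  have : Finite R := finite_of_le h.R_le
  have := finite_mulAut hDR
  have : Finite D := finite_of_le hDR
  set G := prodAut F E p R D with hG
  have hGsys : G ≤ h.sys.autGroup D := h.prodAut_le_sys hDR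
  obtain ⟨P₀, hP₀⟩ := (exists_sylow_iff (B := G) le_sup_right).mpr (h.isSylIn_prodAut hD hH)
  let Q' : Subgroup G → Subgroup (MulAut D) := fun K => K.map G.subtype ⊔ Inn D
  let Y : Subgroup G → Subgroup Ω := fun K => indPre R D (Q' K)
  have hQ'T : ∀ K, K ≤ (P₀ : Subgroup G) → Q' K ≤ autInducedBy R D := fun K hK =>
    sup_le (by rintro _ ⟨k, hk, rfl⟩; have := hK hk; rw [hP₀] at this; exact this)
      (inn_le_autInducedBy hDR)
  have hDY : ∀ K, D ≤ Y K := fun K => le_indPre hDR le_sup_right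
  have hYR : ∀ K, Y K ≤ R := fun K => indPre_le.trans normalizerIn_le
  -- how an extension acts
  have hact : ∀ {K : Subgroup G} {g : G} {w : Ω → Ω}, IsMor h.sys (Y K) w →
      (∀ x ∈ D, w x = autFun (g : MulAut D) x) →
      ∀ y ∈ Y K, ∃ σ ∈ Q' K, w y ∈ normalizerIn R D ∧
        ∀ x ∈ D, autFun ((g : MulAut D) * σ * (g : MulAut D)⁻¹) x = cj (w y) x := by
    intro K g w hw hwe y hy
    obtain ⟨hyN, σ, hσ, hσe⟩ := id hy
    have hcong : ∀ x ∈ D, autFun ((g : MulAut D) * σ * (g : MulAut D)⁻¹) x = cj (w y) x := by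
      intro x hx
      have hx' := autFun_mem (g : MulAut D)⁻¹ hx
      have hyx : y * autFun (g : MulAut D)⁻¹ x * y⁻¹ ∈ D :=
        (by rw [← cj_apply, ← hσe _ hx']; exact autFun_mem σ hx')
      rw [autFun_mul _ _ hx, autFun_mul _ _ hx', hσe _ hx', cj_apply y,
        ← hwe _ hyx, hw.map_conj hy (hDY K hx'), hwe _ hx',
        autFun_inv_right _ hx, cj_apply]
    refine ⟨σ, hσ, mem_normalizerIn.mpr ⟨hw.mem hy, ?_⟩, hcong⟩
    refine Subgroup.mem_normalizer_fintype fun x hx => ?_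
    show cj (w y) x ∈ D
    rw [← hcong x hx]
    exact autFun_mem _ hx
  have hQ'conj : ∀ {K K' : Subgroup G} {g : G}, (∀ k ∈ K, g * k * g⁻¹ ∈ K') →
      ∀ σ ∈ Q' K, (g : MulAut D) * σ * (g : MulAut D)⁻¹ ∈ Q' K' := by
    intro K K' g h'
    suffices hle : Q' K ≤ (Q' K').comap (MulAut.conj (g : MulAut D)).toMonoidHom from
      fun σ hσ => hle hσ
    refine sup_le ?_ fun σ hσ => Subgroup.mem_sup_right (inn_conj_mem hσ)
    rintro _ ⟨k, hk, rfl⟩
    exact Subgroup.mem_sup_left ⟨g * k * g⁻¹, h' k hk, rfl⟩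
  have hwY : ∀ {K K' : Subgroup G} {g : G} {w : Ω → Ω}, IsMor h.sys (Y K) w →
      (∀ x ∈ D, w x = autFun (g : MulAut D) x) → (∀ k ∈ K, g * k * g⁻¹ ∈ K') →
      ∀ y ∈ Y K, w y ∈ Y K' := fun {K K' g w} hw hwe hgK y hy => by
    obtain ⟨σ, hσ, hn', hc⟩ := hact hw hwe y hy
    exact ⟨hn', _, hQ'conj hgK σ hσ, hc⟩
  have hsurj : ∀ {K K' : Subgroup G} {g : G} {w : Ω → Ω}, K ≤ (P₀ : Subgroup G) →
      IsMor h.sys (Y K) w → (∀ x ∈ D, w x = autFun (g : MulAut D) x) →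
      (∀ k' ∈ K', g⁻¹ * k' * g ∈ K) → Y K' ≤ img (Y K) w := by
    intro K K' g w hKP hw hwe hgK z hz
    obtain ⟨hzN, τ, hτ, hτe⟩ := hz
    have hτ' := hQ'conj (K' := K) (g := g⁻¹) (fun k hk => by
      rw [inv_inv]; exact hgK k hk) τ hτ
    obtain ⟨y, hy, hyn, hye⟩ := mem_autInducedBy.mp (hQ'T K hKP hτ')
    have hyY : y ∈ Y K := ⟨mem_normalizerIn.mpr ⟨hy, hyn⟩, _, hτ', hye⟩
    obtain ⟨σ, -, hwyN, -⟩ := hact hw hwe y hyY
    have hd : (w y)⁻¹ * z ∈ centralizerIn R D := by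
      refine mem_centralizerIn.mpr ⟨R.mul_mem (R.inv_mem (mem_normalizerIn.mp hwyN).1)
        (mem_normalizerIn.mp hzN).1, fun x hx => ?_⟩
      have hx' := autFun_mem (g : MulAut D)⁻¹ hx
      have h2 : cj (w y) x = autFun τ x := by
        have hyx : cj y (autFun (g : MulAut D)⁻¹ x) ∈ D := hye _ hx' ▸ autFun_mem _ hx'
        conv_lhs => rw [← autFun_inv_right (g : MulAut D) hx, ← hwe _ hx', cj_apply,
          ← hw.map_conj hyY (hDY K hx'), ← cj_apply, hwe _ hyx, ← hye _ hx']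
        rw [Subgroup.coe_inv, inv_inv, autFun_mul _ _ hx', autFun_mul _ _ (autFun_mem _ hx'),
            autFun_inv_right (g : MulAut D) hx,
            autFun_inv_right (g : MulAut D) (autFun_mem τ hx)]
      rw [cj_mul, ← hτe x hx, ← h2, cj_inv_cj]
    have hCY : centralizerIn R D ≤ Y K := centralizer_le_indPre
    have hiD : img D w = D := by rw [img_congr hwe, img_autFun]
    have hwC : img (centralizerIn R D) w = centralizerIn R D := by
      refine (hw.restrict hCY).img_eq_self fun c hc => ?_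
      have := mapsTo_centralizerIn hw (hDY K) hCY c hc
      rwa [hiD] at this
    obtain ⟨e, he, hee⟩ := (hw.restrict hCY).mem_img.mp (hwC.ge hd)
    refine hw.mem_img.mpr ⟨y * e, (Y K).mul_mem hyY (hCY he), ?_⟩
    rw [hw.map_mul hyY (hCY he), hee, mul_inv_cancel_left]
  let M : Subgroup G → (G → G) → Prop := fun K f =>
    IsMor (groupFusionSystem (P₀ : Subgroup G)) K f ∧ ∃ g : G, (∀ k ∈ K, f k = cj g k) ∧
      ∃ w, IsMor h.sys (Y K) w ∧ ∀ x ∈ D, w x = autFun (g : MulAut D) x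
  have hM : ∃ E : FusionSystem (P₀ : Subgroup G), ∀ K f, IsMor E K f ↔ M K f := by
    refine ⟨ofPred (P₀ : Subgroup G) M (fun K f h' => ⟨h'.1.le, fun k hk => h'.1.mem hk⟩)
      (fun K f h' x hx y hy e => h'.1.inj hx hy e) ?_ ?_ ?_ ?_, fun K f => ?_⟩
    · rintro K f f' ⟨h1, g, hg, w, hw⟩ e
      exact ⟨h1.congr e, g, fun k hk => (e k hk).symm.trans (hg k hk), w, hw⟩
    · intro K a hK ha
      have ha' := ha
      rw [hP₀] at ha'
      obtain ⟨t, ht, htn, hte⟩ := mem_autInducedBy.mp (Subgroup.mem_subgroupOf.mp ha')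
      exact ⟨isMor_cj _ hK ha, a, fun k _ => rfl, cj t, isMor_cj _ (hYR K) ht,
        fun x hx => (hte x hx).symm⟩
    · rintro K K' f f' ⟨h1, g, hg, w, hw, hwe⟩ ⟨h1', g', hg', w', hw', hwe'⟩ hff'
      have hgK : ∀ k ∈ K, g * k * g⁻¹ ∈ K' := fun k hk => by
        rw [← cj_apply, ← hg k hk]; exact hff' k hk
      refine ⟨h1.comp h1' hff', g' * g, fun k hk => ?_, w' ∘ w, hw.comp hw' (hwY hw hwe hgK),
        fun x hx => ?_⟩
      · rw [Function.comp_apply, hg' _ (hff' k hk), hg k hk, cj_mul]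
      · rw [Function.comp_apply, hwe x hx, hwe' _ (autFun_mem _ hx), Subgroup.coe_mul,
          autFun_mul _ _ hx]
    · rintro K f ⟨h1, g, hg, w, hw, hwe⟩ -
      obtain ⟨fi, hfi, hfl, -, -⟩ := h1.inverse
      obtain ⟨wi, hwi, hwl, -, -⟩ := hw.inverse
      refine ⟨fi, ⟨hfi, g⁻¹, fun k' hk' => ?_, wi, hwi.restrict (hsurj h1.le hw hwe ?_),
        fun x hx => ?_⟩, hfl⟩
      · obtain ⟨k, hk, rfl⟩ := h1.mem_img.mp hk'
        rw [hfl k hk, hg k hk, cj_inv_cj]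
      · intro k' hk'
        obtain ⟨k, hk, rfl⟩ := h1.mem_img.mp hk'
        rw [hg k hk, show g⁻¹ * cj g k * g = k by rw [cj_apply]; group]
        exact hk
      · have hx' := autFun_mem (g : MulAut D)⁻¹ hx
        rw [Subgroup.coe_inv]
        conv_lhs => rw [← autFun_inv_right (g : MulAut D) hx, ← hwe _ hx']
        exact hwl _ (hDY K hx')
    · rw [isMor_ofPred fun h' x hx y hy => h'.1.map_mul hx hy]
  obtain ⟨E', hE⟩ := hM
  have hgood : ∀ {g : G}, (orderOf g).Coprime p → IsGood F E p D (g : MulAut D) := fun {g} hg =>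
    h.sys_coprime_good hDR hH (hGsys g.2) (by rwa [Subgroup.orderOf_coe])
  have hle : groupFusionSystem (P₀ : Subgroup G) ≤ E' := by
    refine le_of_coprime_aut_centric P₀.2 (groupFusion_isSaturated P₀) fun K hK α hα hαc => ?_
    have hKP : K ≤ (P₀ : Subgroup G) := hK.1
    refine (autGroup_eq_set hKP α).mpr ((hE K _).mpr ⟨isMor_autFun hKP hα, ?_⟩)
    rw [autGroup_group hKP] at hα
    obtain ⟨g, -, hgn, hge⟩ := mem_autInducedBy.mp hα
    obtain ⟨j, hj, hj1⟩ := exists_pow_coprime_modEq (p := p) g hαc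
    have hpow : ∀ m : ℕ, ∀ y ∈ K, autFun (α ^ m) y = cj (g ^ m) y := by
      intro m
      induction m with
      | zero => intro y hy; rw [pow_zero, pow_zero, autFun_one hy, cj_one]
      | succ m ih =>
        intro y hy
        rw [pow_succ, pow_succ, autFun_mul _ _ hy, hge y hy, ih _ (hge y hy ▸ autFun_mem α hy),
          ← cj_mul]
    have hαj : α ^ j = α := (pow_eq_pow_iff_modEq.mpr hj1).trans (pow_one α)
    obtain ⟨Γ, hΓ, hΓe⟩ := h.good_extend hD hH (hgood hj) (le_sup_right : Inn D ≤ Q' K) (hQ'T K hKP)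
      fun σ hσ => hQ'conj (fun k hk =>
        (Subgroup.mem_normalizer_iff.mp (Subgroup.pow_mem _ hgn j) k).mp hk) σ hσ
    exact ⟨g ^ j, fun k hk => by rw [← hpow j k hk, hαj], autFun Γ,
      h.isMor_sys.mpr (.good hΓ (hYR K) le_rfl fun _ _ => rfl), hΓe⟩
  have hext : ∀ {K : Subgroup G} {b : G}, K ≤ (P₀ : Subgroup G) →
      (∀ k ∈ K, b * k * b⁻¹ ∈ (P₀ : Subgroup G)) →
      ∃ g : G, (∀ k ∈ K, cj b k = cj g k) ∧
        ∃ w, IsMor h.sys (Y K) w ∧ ∀ x ∈ D, w x = autFun (g : MulAut D) x := by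
    intro K b hK hb
    exact ((hE K _).mp (le_iff_isMor.mp hle K _
      (isMor_group.mpr ⟨hK, fun k hk => hb k hk, b, fun _ _ => rfl⟩))).2
  -- apply it to `Q`
  set K := Q.subgroupOf G with hKdef
  have hKP : K ≤ (P₀ : Subgroup G) := fun k hk => by
    rw [hP₀]
    exact hQ hk
  set θ' : G := ⟨θ, hθ⟩ with hθ'
  obtain ⟨g, hg, w, hw, hwe⟩ := hext hKP (b := θ') fun k hk => by
    rw [hP₀]; exact hθQ k hk
  set z := g⁻¹ * θ' with hzdef
  have hz : ∀ k ∈ K, cj z k = k := fun k hk => by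
    rw [hzdef, cj_mul, hg k hk, cj_inv_cj]
  -- the normalizer of a conjugate of `K` in a good position
  obtain ⟨U, hKU, hU⟩ := exists_isSylIn_of_isPGroup (B := Subgroup.normalizer (K : Set G))
    (isPGroup_of_le hKP P₀.2) Subgroup.le_normalizer
  obtain ⟨Q₁, hQ₁⟩ := hU.2.1.exists_le_sylow
  obtain ⟨b, hb⟩ := MulAction.exists_smul_eq G Q₁ P₀
  have hbU : ∀ u ∈ U, b * u * b⁻¹ ∈ (P₀ : Subgroup G) := fun u hu => by
    rw [← hb, Sylow.coe_subgroup_smul]
    exact ⟨u, hQ₁ hu, rfl⟩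
  obtain ⟨g₀, hg₀, w₀, hw₀, hw₀e⟩ := hext hKP (fun k hk => hbU k (hKU hk))
  set K₁ := K.map (MulAut.conj b).toMonoidHom with hK₁
  have hK₁P : K₁ ≤ (P₀ : Subgroup G) := by
    rintro _ ⟨k, hk, rfl⟩
    exact hbU k (hKU hk)
  have hg₀K : ∀ k ∈ K, g₀ * k * g₀⁻¹ ∈ K₁ := fun k hk => by
    rw [← cj_apply, ← hg₀ k hk]
    exact ⟨k, hk, rfl⟩
  have hg₀K' : ∀ k' ∈ K₁, g₀⁻¹ * k' * g₀ ∈ K := by
    rintro _ ⟨k, hk, rfl⟩
    show g₀⁻¹ * (b * k * b⁻¹) * g₀ ∈ K
    rw [show b * k * b⁻¹ = cj g₀ k from hg₀ k hk, show g₀⁻¹ * cj g₀ k * g₀ = k by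
      rw [cj_apply]; group]
    exact hk
  set N₁ := Subgroup.normalizer (K₁ : Set G) with hN₁
  have hKn1 : ∀ {u : G}, u ∈ Subgroup.normalizer (K : Set G) → b * u * b⁻¹ ∈ N₁ := fun {u} hu => by
    refine Subgroup.mem_normalizer_fintype ?_
    rintro _ ⟨k, hk, rfl⟩
    refine ⟨u * k * u⁻¹, (Subgroup.mem_normalizer_iff.mp hu k).mp hk, ?_⟩
    show b * (u * k * u⁻¹) * b⁻¹ = b * u * b⁻¹ * (b * k * b⁻¹) * (b * u * b⁻¹)⁻¹
    group
  have hsyl₁ : IsSylIn p ((P₀ : Subgroup G) ⊓ N₁) N₁ := by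
    refine ⟨inf_le_right, isPGroup_of_le inf_le_left P₀.2, fun C hC hle' hCN => le_antisymm ?_ hle'⟩
    have h1 : C.comap (MulAut.conj b).toMonoidHom = U := by
      refine hU.2.2 _ (hC.comap_of_injective _ (MulAut.conj b).injective)
        (fun u hu => hle' ⟨hbU u hu, hKn1 (hU.1 hu)⟩) fun u hu => ?_
      refine Subgroup.mem_normalizer_fintype fun k hk => ?_
      have hn' : b * u * b⁻¹ ∈ N₁ := hCN hu
      obtain ⟨k', hk', he'⟩ := (Subgroup.mem_normalizer_iff.mp hn' _).mp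
        (⟨k, hk, rfl⟩ : b * k * b⁻¹ ∈ K₁)
      have : u * k * u⁻¹ = k' := by
        refine (MulAut.conj b).injective (Eq.trans ?_ he'.symm)
        show b * (u * k * u⁻¹) * b⁻¹ = b * u * b⁻¹ * (b * k * b⁻¹) * (b * u * b⁻¹)⁻¹
        group
      rwa [this]
    intro c hc
    have h2 : b⁻¹ * c * b ∈ U := h1 ▸ (show b * (b⁻¹ * c * b) * b⁻¹ ∈ C by
      rwa [show b * (b⁻¹ * c * b) * b⁻¹ = c by group])
    refine ⟨?_, hCN hc⟩
    have := hbU _ h2
    rwa [show b * (b⁻¹ * c * b) * b⁻¹ = c by group] at this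
  let Lset : G → Prop := fun a => (∀ k ∈ K₁, a * k * a⁻¹ ∈ K₁) ∧
    ∃ v, IsMor h.sys (Y K₁) v ∧ ∀ x ∈ D, v x = autFun (a : MulAut D) x
  have hLmul : ∀ {a a'}, Lset a → Lset a' → Lset (a * a') := by
    rintro a a' ⟨hn1, v, hv, hve⟩ ⟨hn2, v', hv', hve'⟩
    refine ⟨fun k hk => ?_, v ∘ v', hv'.comp hv (hwY hv' hve' hn2), fun x hx => ?_⟩
    · have := hn1 _ (hn2 k hk)
      simpa [mul_assoc] using this
    · rw [Function.comp_apply, hve' x hx, hve _ (autFun_mem _ hx), Subgroup.coe_mul,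
        autFun_mul _ _ hx]
  have hLone : Lset 1 := ⟨fun k hk => by simpa using hk, id, isMor_id _ (hYR K₁), fun x hx => by
    rw [Subgroup.coe_one, autFun_one hx]; rfl⟩
  let L : Subgroup G :=
    { carrier := {a | Lset a}
      one_mem' := hLone
      mul_mem' := hLmul
      inv_mem' := fun {a} ha => by
        obtain ⟨m, hm⟩ := Submonoid.mem_powers_iff _ _ |>.mp
          ((mem_powers_iff_mem_zpowers).mpr (Subgroup.inv_mem _ (Subgroup.mem_zpowers a)))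
        show Lset a⁻¹
        rw [← hm]
        clear hm
        induction m with
        | zero => simpa using hLone
        | succ m ih => rw [pow_succ]; exact hLmul ih ha }
  have hN₁L : N₁ ≤ L := by
    refine le_of_sylIn_of_coprime hsyl₁ (fun c hc => ?_) fun c hc hcc => ?_
    · have hc' : c ∈ (P₀ : Subgroup G) := hc.1
      rw [hP₀] at hc'
      obtain ⟨t, ht, -, hte⟩ := mem_autInducedBy.mp (Subgroup.mem_subgroupOf.mp hc')
      exact ⟨fun k hk => (Subgroup.mem_normalizer_iff.mp hc.2 k).mp hk, cj t,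
        isMor_cj _ (hYR K₁) ht, fun x hx => (hte x hx).symm⟩
    · have hn' : ∀ k ∈ K₁, c * k * c⁻¹ ∈ K₁ := fun k hk => (Subgroup.mem_normalizer_iff.mp hc k).mp hk
      obtain ⟨Γ, hΓ, hΓe⟩ := h.good_extend hD hH (hgood hcc) (le_sup_right : Inn D ≤ Q' K₁)
        (hQ'T K₁ hK₁P) fun σ hσ => hQ'conj hn' σ hσ
      exact ⟨hn', autFun Γ, h.isMor_sys.mpr (.good hΓ (hYR K₁) le_rfl fun _ _ => rfl), hΓe⟩
  have hz' : g₀ * z * g₀⁻¹ ∈ N₁ := by
    refine Subgroup.mem_normalizer_fintype fun k' hk' => ?_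
    have h1 := hz _ (hg₀K' k' hk')
    show g₀ * z * g₀⁻¹ * k' * (g₀ * z * g₀⁻¹)⁻¹ ∈ K₁
    rw [show g₀ * z * g₀⁻¹ * k' * (g₀ * z * g₀⁻¹)⁻¹ = g₀ * cj z (g₀⁻¹ * k' * g₀) * g₀⁻¹ by
      rw [cj_apply]; group, h1, show g₀ * (g₀⁻¹ * k' * g₀) * g₀⁻¹ = k' by group]
    exact hk'
  obtain ⟨hnz, v, hv, hve⟩ := hN₁L hz'
  obtain ⟨wi, hwi, hwl, -, hwii⟩ := hw₀.inverse
  have hKsurj := hsurj hKP hw₀ hw₀e hg₀K'
  have hm1 := hw₀.comp hv (hwY hw₀ hw₀e hg₀K)
  have hm2 : ∀ y ∈ Y K, (v ∘ w₀) y ∈ img (Y K) w₀ := fun y hy =>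
    hKsurj (hwY hv hve hnz _ (hwY hw₀ hw₀e hg₀K y hy))
  have hu := hm1.comp hwi hm2
  have huY : ∀ y ∈ Y K, (wi ∘ (v ∘ w₀)) y ∈ Y K := fun y hy =>
    hwii ▸ mem_img_of_mem wi (hm2 y hy)
  have hue : ∀ x ∈ D, (wi ∘ (v ∘ w₀)) x = autFun (z : MulAut D) x := by
    intro x hx
    simp only [Function.comp_apply]
    rw [hw₀e x hx, hve _ (autFun_mem _ hx), ← autFun_mul _ _ hx, ← Subgroup.coe_mul,
      inv_mul_cancel_right, Subgroup.coe_mul, autFun_mul _ _ hx, ← hw₀e _ (autFun_mem _ hx),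
      hwl _ (hDY K (autFun_mem _ hx))]
  have hQG : Q ≤ G := hQ.trans le_sup_right
  have hYQ : indPre R D Q ≤ Y K := indPre_mono
    ((Subgroup.map_subgroupOf_eq_of_le hQG).ge.trans le_sup_left)
  refine ⟨w ∘ (wi ∘ (v ∘ w₀)), (hu.comp hw huY).restrict hYQ, fun x hx => ?_⟩
  rw [Function.comp_apply, hue x hx, hwe _ (autFun_mem _ hx), ← autFun_mul _ _ hx, ← Subgroup.coe_mul,
    hzdef, mul_inv_cancel_left]

/-- Automized and receptive at a fully normalized member of the family. -/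
theorem sys_good (habove : AboveSat h.sys p n) {D : Subgroup Ω} (hD : h.sys.IsFullyNormalized D)
    (hH : HCen S E D) (hn : Nat.card D = n) :
    h.sys.IsFullyAutomized p D ∧ h.sys.IsReceptive D := by
  have heq := h.autGroup_eq_prodAut habove hD hH hn
  have : Finite R := finite_of_le h.R_le
  have hDR := hD.1
  have : Finite D := finite_of_le hDR
  refine ⟨isFullyAutomized_iff.mpr ⟨hDR, heq ▸ h.isSylIn_prodAut hD hH⟩,
    isReceptive_iff.mpr ⟨hDR, fun P f hf hfi => ?_⟩⟩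
  have hfull : Full h.sys P D := by
    rcases eq_or_lt_of_le hDR with e | hlt
    · have hPD : P = R := eq_of_le_of_card le_rfl hf.le (by
        rw [← hf.card_img, hfi, e])
      subst hPD
      exact ⟨f, hf.restrict normalizerIn_le, hfi⟩
    · exact h.exists_full_sys habove hD hn hlt (hfi ▸ isConj_img hf)
  obtain ⟨a, ha, haD⟩ := hfull
  have hPN : P ≤ normalizerIn R P := le_normalizerIn hf.le
  obtain ⟨ai, hai, hal, -, -⟩ := (ha.restrict hPN).inverse
  rw [haD] at hai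
  have haiP : ∀ y ∈ D, ai y ∈ P := fun y hy => by
    obtain ⟨x, hx, rfl⟩ := (ha.restrict hPN).mem_img.mp (haD.ge hy)
    rw [hal x hx]; exact hx
  have hθm : IsMor h.sys D (f ∘ ai) := hai.comp hf haiP
  obtain ⟨θ, hθ, hθe⟩ := exists_aut hθm (hθm.img_eq_self fun y hy =>
    hfi ▸ mem_img_of_mem f (haiP y hy))
  have hθa : ∀ x ∈ P, autFun θ (a x) = f x := fun x hx => by
    rw [hθe _ (haD ▸ mem_img_of_mem a hx), Function.comp_apply, hal x hx]
  set N := nExt R P f with hN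
  have hNN : N ≤ normalizerIn R P := nExt_le f
  set M := img N a with hM
  have hMN : M ≤ normalizerIn R D :=
    img_le fun x hx => haD ▸ mapsTo_normalizerIn ha hPN le_rfl x (hNN hx)
  have hDM : D ≤ M := haD ▸ img_mono a (le_nExt hf)
  set Q := autInducedBy M D with hQ
  have hInn : Inn D ≤ Q := inn_le_autInducedBy hDM
  have hQT : Q ≤ autInducedBy R D := fun σ hσ => by
    obtain ⟨t, ht, htn, hte⟩ := mem_autInducedBy.mp hσ
    exact mem_autInducedBy.mpr ⟨t, (mem_normalizerIn.mp (hMN ht)).1, htn, hte⟩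
  have hθQ : ∀ q ∈ Q, θ * q * θ⁻¹ ∈ autInducedBy R D := by
    intro q hq
    obtain ⟨r, hr, -, hre⟩ := mem_autInducedBy.mp hq
    obtain ⟨x, hx, rfl⟩ := (ha.restrict hNN).mem_img.mp hr
    obtain ⟨-, hxn, s, hs, hse⟩ := id hx
    have key : ∀ y ∈ D, autFun (θ * q * θ⁻¹) y = cj s y := by
      intro y hy
      obtain ⟨w, hw, rfl⟩ : ∃ w ∈ P, f w = y := hf.mem_img.mp (hfi.ge hy)
      have haw : a w ∈ D := haD ▸ mem_img_of_mem a hw
      have hwN : cj x w ∈ P := (Subgroup.mem_normalizer_iff.mp hxn w).mp hw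
      rw [← hθa w hw, autFun_mul _ _ (autFun_mem θ haw), autFun_inv_left θ haw,
        autFun_mul _ _ haw, hre _ haw, cj_apply (a x),
        ← ha.map_conj (hNN hx) (hPN hw), hθa w hw, ← hse w hw]
      exact hθa _ hwN
    refine mem_autInducedBy.mpr ⟨s, hs, Subgroup.mem_normalizer_fintype fun y hy => ?_, key⟩
    show cj s y ∈ D
    rw [← key y hy]
    exact autFun_mem _ hy
  obtain ⟨g, hg, hge⟩ := h.exists_ext_sys habove hD hH hn hInn hQT (heq ▸ hθ) hθQ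
  have hMY : M ≤ indPre R D Q := fun r hr => by
    obtain ⟨σ, hσ, hσe⟩ := exists_autInducedBy (P := D) hr (mem_normalizerIn.mp (hMN hr)).2
    exact ⟨hMN hr, σ, hσ, hσe⟩
  refine ⟨g ∘ a, (ha.restrict hNN).comp hg fun x hx => hMY (mem_img_of_mem a hx), fun x hx => ?_⟩
  rw [Function.comp_apply, hge _ (haD ▸ mem_img_of_mem a hx), hθa x hx]

end Level

/-- A subgroup outside the family is conjugate to one centralized outside itself inside `T`. -/
theorem exists_not_le {P : Subgroup Ω} (hPR : P ≤ R) (hP : ¬ E.IsCentric (P ⊓ T)) :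
    ∃ Q, h.sys.IsConj P Q ∧ ¬ centralizerIn T (Q ⊓ T) ≤ Q ⊓ T := by
  have hq := h.hyp
  have hS := hq.pgroup
  have hTS := hq.le_S
  have hPS := hPR.trans h.R_le
  set W := P ⊓ T with hW
  obtain ⟨U₁, hU₁, hU₁n⟩ : ∃ U₁, E.IsConj W U₁ ∧ ¬ centralizerIn T U₁ ≤ U₁ := by
    by_contra h'
    exact hP ⟨inf_le_right, fun Q hQ => by_contra fun h'' => h' ⟨Q, hQ, h''⟩⟩
  have hU₁F : F.IsConj W U₁ := by
    obtain ⟨f, hf, e⟩ := isConj_iff.mp hU₁
    exact isConj_iff.mpr ⟨f, le_iff_isMor.mp hq.sub _ _ hf, e⟩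
  have hWS : W ≤ S := inf_le_left.trans hPS
  obtain ⟨U₂, hU₂, hU₂n⟩ := exists_fullyNormalized F hWS
  obtain ⟨a₁, ha₁, ha₁U, -⟩ :=
    exists_map_fullyNormalized hS hq.sat hU₂n (isConj_trans (isConj_symm hU₁F) hU₂)
  obtain ⟨a, ha, haU, -⟩ := exists_map_fullyNormalized hS hq.sat hU₂n hU₂
  have hPN : P ≤ normalizerIn S W := by
    intro y hy
    have hfin : Finite W := finite_of_le hWS
    exact mem_normalizerIn.mpr ⟨hPS hy, Subgroup.mem_normalizer_fintype fun u hu =>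
      ⟨P.mul_mem (P.mul_mem hy hu.1) (P.inv_mem hy), hq.conj_T (hPS hy) hu.2⟩⟩
  obtain ⟨d, β, hd, hβ, e⟩ := hq.dec_all (ha.restrict hPN)
  have hdm := h.ggen_sys hd hPR
  obtain ⟨hPf, -⟩ := hq.dec_img hd hβ e
  set Q := img P d with hQ
  have hQM : Q ≤ P ⊔ T := hq.ggen_le hd
  have hQT : img (Q ⊓ T) β = U₂ := by
    rw [hq.img_inf (hβ.restrict hQM), hPf, ← hq.img_inf (ha.restrict hPN)]
    exact haU
  refine ⟨Q, isConj_img hdm, fun hle => ?_⟩
  obtain ⟨c, hc, hcU⟩ := SetLike.not_le_iff_exists.mp hU₁n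
  obtain ⟨hcT, hcc⟩ := mem_centralizerIn.mp hc
  have hU₁S : U₁ ≤ S := (isConj_le hU₁F).2
  have hcN : c ∈ normalizerIn S U₁ :=
    centralizerIn_le_normalizerIn (mem_centralizerIn.mpr ⟨hTS hcT, hcc⟩)
  have hacT : a₁ c ∈ T := hq.mem_T ha₁ hcN hcT
  have hacU : a₁ c ∉ U₂ := fun h' => hcU
    ((ha₁.mem_img_iff (le_normalizerIn hU₁S) hcN).mp (ha₁U.ge h'))
  obtain ⟨t, ht, hte⟩ := (hβ.restrict le_sup_right).mem_img.mp
    ((hq.img_sup_T hβ le_sup_right).ge hacT)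
  have htM : t ∈ P ⊔ T := Subgroup.mem_sup_right ht
  refine hacU (hte ▸ hQT ▸ mem_img_of_mem β (hle (mem_centralizerIn.mpr ⟨ht, fun y hy => ?_⟩)))
  have hyM := hQM hy.1
  refine hβ.inj (Subgroup.mul_mem _ (Subgroup.mul_mem _ htM hyM) (Subgroup.inv_mem _ htM)) hyM ?_
  rw [cj_apply, hβ.map_conj htM hyM, hte]
  obtain ⟨u, hu, hue⟩ := (ha₁.restrict (le_normalizerIn hU₁S)).mem_img.mp
    (ha₁U.ge (hQT ▸ mem_img_of_mem β hy))
  rw [← hue, ← ha₁.map_conj hcN (le_normalizerIn hU₁S hu), ← cj_apply, hcc u hu]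

/-- Some conjugate of a centric subgroup outside the family is not radical. -/
theorem exists_core_not_inn {P : Subgroup Ω} (hPc : h.sys.IsCentric P)
    (hP : ¬ E.IsCentric (P ⊓ T)) :
    ∃ Q, h.sys.IsConj P Q ∧ ¬ (autInducedBy R Q ⊓
      (pCore p ↥(h.sys.autGroup Q)).map (h.sys.autGroup Q).subtype ≤ Inn Q) := by
  have hq := h.hyp
  have hRp := h.rpgroup
  have : Finite R := finite_of_le h.R_le
  obtain ⟨Q, hQ, hQn⟩ := h.exists_not_le hPc.1 hP
  have hQR : Q ≤ R := (isConj_le hQ).2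
  set Z := centralizerIn T (Q ⊓ T) with hZ
  have hZR : Z ≤ R := centralizerIn_le.trans h.le_R
  have hnorm : Q ≤ Subgroup.normalizer (Z : Set Ω) := by
    intro y hy
    have hfinZ : Finite Z := finite_of_le hZR
    refine Subgroup.mem_normalizer_fintype fun z hz => ?_
    obtain ⟨hzT, hzc⟩ := mem_centralizerIn.mp hz
    refine mem_centralizerIn.mpr ⟨hq.conj_T (h.R_le (hQR hy)) hzT, fun u hu => ?_⟩
    have h1 : cj y⁻¹ u ∈ Q ⊓ T :=
      ⟨Q.mul_mem (Q.mul_mem (Q.inv_mem hy) hu.1) (Q.inv_mem (Q.inv_mem hy)),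
        hq.conj_T (S.inv_mem (h.R_le (hQR hy))) hu.2⟩
    show cj (y * z * y⁻¹) u = u
    rw [cj_mul, cj_mul, hzc _ h1, cj_cj_inv]
  obtain ⟨c, hc, hcQ⟩ := SetLike.not_le_iff_exists.mp hQn
  have hlt : Q < Q ⊔ Z := lt_of_le_of_ne le_sup_left fun h' =>
    hcQ ⟨h'.ge (Subgroup.mem_sup_right hc), (mem_centralizerIn.mp hc).1⟩
  have : Finite ↥(Q ⊔ Z) := finite_of_le (sup_le hQR hZR)
  obtain ⟨z, hz, hzQ⟩ := SetLike.exists_of_lt
    (lt_inf_normalizer (isPGroup_of_le (sup_le hQR hZR) hRp) hlt)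
  obtain ⟨hzsup, hzN⟩ := Subgroup.mem_inf.mp hz
  rw [← SetLike.mem_coe, Subgroup.coe_mul_of_left_le_normalizer_right Q Z hnorm] at hzsup
  obtain ⟨v, hv, m, hm, rfl⟩ := hzsup
  have hmQ : m ∉ Q := fun h' => hzQ (Q.mul_mem hv h')
  have hmN : m ∈ Subgroup.normalizer (Q : Set Ω) := by
    have := Subgroup.mul_mem _ (Subgroup.inv_mem _ (Subgroup.le_normalizer hv)) hzN
    rwa [inv_mul_cancel_left] at this
  obtain ⟨hmT, hmc⟩ := mem_centralizerIn.mp hm
  have hmR := h.le_R hmT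
  obtain ⟨α, hα, hαe⟩ := exists_autInducedBy (P := Q) hmR hmN
  have hcore := mem_core_of_stabilizes_series (F := h.sys) hRp hQR (inf_le_left : Q ⊓ T ≤ Q)
    (fun γ hγ u hu => ⟨autFun_mem γ hu.1, hq.mem_T (h.to_F (isMor_autFun hQR hγ)) hu.1 hu.2⟩)
    (autInducedBy_le _ hQR hα) (fun u hu => by rw [hαe u hu.1, hmc u hu]) fun y hy => by
      rw [hαe y hy]
      refine ⟨Q.mul_mem ((Subgroup.mem_normalizer_iff.mp hmN y).mp hy) (Q.inv_mem hy), ?_⟩
      have h1 := T.mul_mem hmT (hq.conj_T (h.R_le (hQR hy)) (T.inv_mem hmT))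
      simpa [cj, mul_assoc] using h1
  refine ⟨Q, hQ, fun hle => hmQ ?_⟩
  obtain ⟨u, hu, hue⟩ := mem_inn.mp (hle ⟨hα, hcore⟩)
  have hcm : u⁻¹ * m ∈ centralizerIn R Q := mem_centralizerIn.mpr
    ⟨R.mul_mem (R.inv_mem (hQR hu)) hmR, fun y hy => by
      rw [cj_mul, ← hαe y hy, hue y hy, cj_inv_cj]⟩
  have := Q.mul_mem hu (hPc.2 Q hQ hcm)
  rwa [mul_inv_cancel_left] at this

/-- **The product system is saturated.** -/
theorem sys_saturated : h.sys.IsSaturated p := by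
  have hRp := h.rpgroup
  have : Finite R := finite_of_le h.R_le
  suffices key : ∀ d, ∀ P : Subgroup Ω, P ≤ R → Nat.card R - Nat.card P = d →
      ∃ Q, h.sys.IsConj P Q ∧ h.sys.IsFullyAutomized p Q ∧ h.sys.IsReceptive Q from
    fun P hP => key _ P hP rfl
  intro d
  induction d using Nat.strong_induction_on with
  | _ d ih =>
  intro P hPR hd
  subst hd
  have habove : AboveSat h.sys p (Nat.card P) := fun X hX hc => by
    refine ih _ ?_ X hX rfl
    have := Subgroup.card_le_of_le hX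
    omega
  by_cases hPH : HCen S E P
  · obtain ⟨Q, hQ, hQn⟩ := exists_fullyNormalized h.sys hPR
    exact ⟨Q, hQ, h.sys_good habove hQn (h.hcen_conj hPH hQ) (isConj_card hQ)⟩
  have hPE : ¬ E.IsCentric (P ⊓ T) := fun h' => hPH ⟨hPR.trans h.R_le, h'⟩
  have hPlt : P < R := lt_of_le_of_ne hPR fun e => hPH (e ▸ h.hyp.hcen_top h.R_le h.le_R)
  have hyp : CritHyp h.sys p P := by
    refine ⟨habove, chain_of_gen (ℋ := {U | U ≤ R ∧ HCen S E U})
      (fun V hV Q hQ => ⟨(isConj_le hQ).2, h.hcen_conj hV.2 hQ⟩) ?_ (fun h' => hPH h'.2) hPlt⟩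
    intro D hD
    refine le_iff_isMor.mpr fun U f hf => ?_
    have hg := h.isMor_sys.mp hf
    clear hf
    induction hg with
    | conj h1 h2 h3 => exact (isMor_cj D h1 h2).congr fun x hx => (h3 x hx).symm
    | @good U V f α hα hV hUV e =>
      obtain ⟨φ, hφ, hφe⟩ := h.isMor_sys.mpr
        (PGen.good (F := F) (E := E) hα hV le_rfl fun _ _ => rfl)
      exact ((show IsMor D V _ from ⟨φ, hD V ⟨hV, hα.cen⟩ hφ, hφe⟩).restrict hUV).congr
        fun x hx => (e x hx).symm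
    | @comp U f g k _ _ e ih1 ih2 =>
      exact (ih1.comp ih2 fun x hx => mem_img_of_mem f hx).congr fun x hx => (e x hx).symm
  by_cases hcen : h.sys.IsCentric P
  · obtain ⟨Q, hQ, hQn⟩ := h.exists_core_not_inn hcen hPE
    refine automized_receptive_of_crit hRp hPlt hyp (OFam.core h.sys p) ⟨Q, hQ, fun hle => hQn ?_⟩
    rintro α ⟨hα, hαO⟩
    obtain ⟨g, hg, hgn, hge⟩ := mem_autInducedBy.mp hα
    exact mem_inn.mpr ⟨g, hle ⟨mem_normalizerIn.mpr ⟨hg, hgn⟩, α, hαO, hge⟩, hge⟩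
  · obtain ⟨Q, hQ, hQn⟩ : ∃ Q, h.sys.IsConj P Q ∧ ¬ centralizerIn R Q ≤ Q := by
      by_contra h'
      exact hcen ⟨hPR, fun Q hQ => by_contra fun h'' => h' ⟨Q, hQ, h''⟩⟩
    refine automized_receptive_of_crit hRp hPlt hyp (OFam.bot h.sys p) ⟨Q, hQ, fun hle => hQn ?_⟩
    intro g hg
    refine hle ⟨centralizerIn_le_normalizerIn hg, 1, Subgroup.one_mem _, fun x hx => ?_⟩
    rw [autFun_one hx, (mem_centralizerIn.mp hg).2 x hx]

end ProdSetup

end CfsgLib.Fusion
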