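import Mathlib
import Cfsg.Agent.Lib.Fusion.ProductSysSaturated
import Cfsg.Agent.Lib.Fusion.NormalizerSaturated
import Cfsg.Agent.Lib.Fusion.PPowerWeakly
import Cfsg.Agent.Lib.Fusion.ResidualNormal
import Cfsg.Agent.S5096

/-!
# Local subsystems of the product of a normal subsystem with a subgroup

For a fully normalized subgroup `X` the normalizer of `X` in the product of `E` with `X T` is weakly
normal in the normalizer of `X`.
-/

set_option autoImplicit false
set_option linter.unusedSectionVars false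
set_option maxHeartbeats 1000000

namespace CfsgLib.Fusion

open Cfsg Cfsg.FusionSystem

variable {Ω : Type*} [Group Ω] {S T : Subgroup Ω} {F : FusionSystem S} {E : FusionSystem T}
  {p : ℕ} [hp : Fact p.Prime] [Finite S] {X : Subgroup Ω}

/-- The hyperfocal subgroup of a weakly normal subsystem is strongly closed. -/
theorem hyp_closed_of_weaklyNormal (hS : IsPGroup p S) (hE : E.IsWeaklyNormalIn F p) :
    F.StronglyClosed (E.hyperfocalSubgroup p) := by
  have hinv := strongInv_of_isWeaklyNormalIn hS hE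
  obtain ⟨hEs, hF, hsub, hT, -⟩ := id hE
  obtain ⟨hTS, hsc⟩ := stronglyClosed_iff.mp hT
  have : Finite T := finite_of_le hTS
  have hTp : IsPGroup p T := isPGroup_of_le hTS hS
  have haut : ∀ {f : Ω → Ω}, IsMor F T f → ∀ x ∈ E.hyperfocalSubgroup p,
      f x ∈ E.hyperfocalSubgroup p := by
    intro f hf
    let K : Subgroup Ω :=
      { carrier := {x | x ∈ T ∧ f x ∈ E.hyperfocalSubgroup p}
        one_mem' := ⟨T.one_mem, by rw [hf.map_one]; exact Subgroup.one_mem _⟩
        mul_mem' := fun {a b} ha hb =>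
          ⟨T.mul_mem ha.1 hb.1, by rw [hf.map_mul ha.1 hb.1]; exact Subgroup.mul_mem _ ha.2 hb.2⟩
        inv_mem' := fun {a} ha =>
          ⟨T.inv_mem ha.1, by rw [hf.map_inv ha.1]; exact Subgroup.inv_mem _ ha.2⟩ }
    have hle : E.hyperfocalSubgroup p ≤ K := hyp_le fun P hP α hα hc x hx => by
      refine ⟨T.mul_mem (T.inv_mem (hP hx)) (hP (autFun_mem α hx)), ?_⟩
      have hfP := hf.restrict hP
      have hPT : img P f ≤ T := img_le fun y hy => hsc T f hf y (hP hy) (hP hy)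
      obtain ⟨α', hα', he⟩ := exists_transport_inv hinv hfP rfl hP hPT hα
      obtain ⟨e, he', -, -⟩ := exists_transport hfP (rfl : img P f = img P f)
      have heq : α' = e α := autFun_inj fun y hy => by
        obtain ⟨z, hz, rfl⟩ := hfP.mem_img.mp hy
        rw [he z hz, he' α z hz]
      have h1 := hyp_gen (F := E) (p := p) hPT hα' (by rw [heq, MulEquiv.orderOf_eq]; exact hc)
        (mem_img_of_mem f hx)
      rw [hf.map_mul (T.inv_mem (hP hx)) (hP (autFun_mem α hx)), hf.map_inv (hP hx)]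
      rwa [he x hx] at h1
    exact fun x hx => (hle hx).2
  refine stronglyClosed_iff.mpr ⟨hyp_le_top.trans hTS, fun P f hf x hx hxH => ?_⟩
  have hxT : x ∈ T := hyp_le_top hxH
  obtain ⟨α, hα, g, hg, hfg⟩ := factors_of_strongInv hS hF hsub hT hinv
    (hf.restrict (inf_le_left : P ⊓ T ≤ P)) inf_le_right
  have hxPT : x ∈ P ⊓ T := Subgroup.mem_inf.mpr ⟨hx, hxT⟩
  obtain ⟨t, ht, hte⟩ := exists_conj_mod_hyp hTp hEs hg
  have h1 := Subgroup.mul_mem _ (hyp_conj_mem ht hxH) (hte x hxPT)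
  rw [mul_inv_cancel_left] at h1
  rw [hfg x hxPT]
  exact haut (isMor_autFun hTS hα) _ h1

namespace ProdHyp

variable (hq : ProdHyp F E p)
include hq

theorem mem_sup_T {A : Subgroup Ω} (hA : A ≤ S) {y : Ω} (hy : y ∈ A ⊔ T) :
    ∃ a ∈ A, ∃ t ∈ T, y = a * t := by
  have hn : A ≤ Subgroup.normalizer (T : Set Ω) := fun a ha =>
    stronglyClosed_le_normalizer hq.closed (hA ha)
  rw [← SetLike.mem_coe, Subgroup.coe_mul_of_left_le_normalizer_right _ _ hn] at hy
  obtain ⟨a, ha, t, ht, rfl⟩ := hy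
  exact ⟨a, ha, t, ht, rfl⟩

theorem normalizer_sup (hX : X ≤ S) : normalizerIn (X ⊔ T) X = X ⊔ normalizerIn T X := by
  refine le_antisymm (fun y hy => ?_)
    (sup_le (le_normalizerIn le_sup_left) (inf_le_inf_right _ le_sup_right))
  obtain ⟨hyR, hyn⟩ := mem_normalizerIn.mp hy
  obtain ⟨a, ha, t, ht, rfl⟩ := hq.mem_sup_T hX hyR
  refine Subgroup.mul_mem _ (Subgroup.mem_sup_left ha)
    (Subgroup.mem_sup_right (mem_normalizerIn.mpr ⟨ht, ?_⟩))
  have := Subgroup.mul_mem _ (Subgroup.inv_mem _ (Subgroup.le_normalizer ha)) hyn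
  rwa [inv_mul_cancel_left] at this

end ProdHyp

namespace ProdSetup

variable {R : Subgroup Ω}

/-- The product is invariant under the maps normalizing its group. -/
theorem sys_transport (h : ProdSetup F E p R) {M : Subgroup Ω} {β : Ω → Ω} (hβ : IsMor F M β)
    (hRM : R ≤ M) (hβR : ∀ x ∈ R, β x ∈ R) {U : Subgroup Ω} {f : Ω → Ω}
    (hf : IsMor h.sys U f) :
    ∃ k, IsMor h.sys (img U β) k ∧ ∀ x ∈ U, k (β x) = β (f x) := by
  have hq := h.hyp
  have hf' := h.isMor_sys.mp hf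
  clear hf
  induction hf' with
  | @conj U r f hU hr e =>
    refine ⟨cj (β r), isMor_cj _ (img_le fun x hx => hβR x (hU hx)) (hβR r hr), fun x hx => ?_⟩
    rw [e x hx, cj_apply r, hβ.map_conj (hRM hr) (hRM (hU hx)), cj_apply]
  | @good U V f α hα hV hUV e =>
    have hβV := hβ.restrict (hV.trans hRM)
    obtain ⟨e', he', -, -⟩ := exists_transport hβV (rfl : img V β = img V β)
    refine ⟨autFun (e' α), h.isMor_sys.mpr (.good
      (hq.good_transport hβ (hV.trans hRM) rfl he' hα) (img_le fun x hx => hβR x (hV hx))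
      (img_mono β hUV) fun _ _ => rfl), fun x hx => ?_⟩
    rw [he' α x (hUV hx), e x hx]
  | @comp U f g k h1 h2 e ih1 ih2 =>
    obtain ⟨k1, hk1, e1⟩ := ih1
    obtain ⟨k2, hk2, e2⟩ := ih2
    have hUR : U ≤ R := (h.pgen_facts h1).2.1
    refine ⟨k2 ∘ k1, hk1.comp hk2 fun y hy => ?_, fun x hx => ?_⟩
    · obtain ⟨x, hx, rfl⟩ := (hβ.restrict (hUR.trans hRM)).mem_img.mp hy
      rw [e1 x hx]
      exact mem_img_of_mem β (mem_img_of_mem f hx)
    · rw [Function.comp_apply, e1 x hx, e2 _ (mem_img_of_mem f hx), e x hx]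

variable (h : ProdSetup F E p (X ⊔ T))
include h

theorem le_S_left : X ≤ S := le_sup_left.trans h.R_le

theorem sys_fullyNormalized (hX : F.IsFullyNormalized X) : h.sys.IsFullyNormalized X := by
  have hq := h.hyp
  refine ⟨le_sup_left, fun Q hQ => ?_⟩
  obtain ⟨f, hf, rfl⟩ := isConj_iff.mp hQ
  obtain ⟨hfF, -, hfR, r, hr, hs⟩ := h.pgen_facts (h.isMor_sys.mp hf)
  have hXS := h.le_S_left
  have hQS : img X f ≤ S := hfF.img_le
  have hrS := h.R_le hr
  set K := img X f ⊔ T with hK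
  have hTn : ∀ {s t : Ω}, s ∈ S → t ∈ T → cj s t ∈ T := fun hs ht => hq.conj_T hs ht
  have hr' : r ∈ K := by
    obtain ⟨a, ha, t, ht, rfl⟩ := hq.mem_sup_T hXS hr
    have h1 : a⁻¹ * cj (a * t)⁻¹ (f a) ∈ T := hs.1 a ha
    set r := a * t with hrdef
    have h2 : r⁻¹ * f a ∈ T := by
      have hrar : r⁻¹ * f a = cj a ((a⁻¹ * cj r⁻¹ (f a)) * t⁻¹) := by
        rw [hrdef, cj_apply, cj_apply]; group
      rw [hrar]
      exact hq.conj_T (hXS ha) (T.mul_mem h1 (T.inv_mem ht))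
    have := Subgroup.mul_mem _ (Subgroup.mem_sup_left (T := T) (mem_img_of_mem f ha))
      (Subgroup.mem_sup_right (S := img X f) (T.inv_mem h2))
    rwa [mul_inv_rev, inv_inv, mul_inv_cancel_left] at this
  have hXK : X ≤ K := fun x hx => by
    have h1 : x⁻¹ * cj r⁻¹ (f x) ∈ T := hs.1 x hx
    have h2 : cj r⁻¹ (f x) ∈ K := by
      rw [cj_apply, inv_inv]
      exact K.mul_mem (K.mul_mem (K.inv_mem hr') (Subgroup.mem_sup_left (mem_img_of_mem f hx))) hr'
    have := K.mul_mem h2 (Subgroup.mem_sup_right (T.inv_mem h1))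
    rwa [mul_inv_rev, inv_inv, mul_inv_cancel_left] at this
  have hRK : X ⊔ T = K := le_antisymm (sup_le hXK le_sup_right)
    (sup_le (img_le fun x hx => hfR x hx) le_sup_right)
  obtain ⟨a, ha, haX, haN⟩ :=
    exists_map_fullyNormalized hq.pgroup hq.sat hX (isConj_symm (isConj_img hfF))
  refine card_le_of_img_le (ha.restrict (inf_le_inf_right _ h.R_le)) (normalizerIn_le.trans h.R_le)
    (img_le fun y hy => ?_)
  have hy' : y ∈ normalizerIn (img X f ⊔ T) (img X f) := by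
    rw [hRK] at hy
    exact hy
  rw [hq.normalizer_sup hQS] at hy'
  have hle : img X f ⊔ normalizerIn T (img X f) ≤ normalizerIn S (img X f) :=
    sup_le (le_normalizerIn hQS) (inf_le_inf_right _ hq.le_S)
  refine mem_normalizerIn.mpr ⟨?_, (mem_normalizerIn.mp (haN (mem_img_of_mem a (hle hy')))).2⟩
  have h1 : a y ∈ img (img X f ⊔ normalizerIn T (img X f)) a := mem_img_of_mem a hy'
  rw [(ha.restrict hle).img_sup, haX] at h1
  refine (sup_le_sup_left (img_le fun z hz => ?_) X :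
    X ⊔ img (normalizerIn T (img X f)) a ≤ X ⊔ T) h1
  exact hq.mem_T ha (hle (Subgroup.mem_sup_right hz)) (mem_normalizerIn.mp hz).1

/-- The normalizer of `X` in the product is weakly normal in the normalizer of `X`. -/
theorem exists_local (hX : F.IsFullyNormalized X) {N : FusionSystem (normalizerIn S X)}
    (hN : F.IsNormalizerSystem X N) :
    ∃ DX : FusionSystem (normalizerIn (X ⊔ T) X), h.sys.IsNormalizerSystem X DX ∧
      DX.IsWeaklyNormalIn N p := by
  have hq := h.hyp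
  have hXS := h.le_S_left
  have : Finite ↥(X ⊔ T) := finite_of_le h.R_le
  have : Finite ↥(normalizerIn S X) := finite_of_le normalizerIn_le
  obtain ⟨DX, hDX⟩ := Cfsg.Agent.S5096.result h.sys X le_sup_left
  refine ⟨DX, hDX, ?_⟩
  have hYN : normalizerIn (X ⊔ T) X ≤ normalizerIn S X := inf_le_inf_right _ h.R_le
  have hDs : DX.IsSaturated p :=
    normalizerSystem_isSaturated h.rpgroup h.sys_saturated (h.sys_fullyNormalized hX) hDX
  have hNs : N.IsSaturated p := normalizerSystem_isSaturated hq.pgroup hq.sat hX hN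
  have hNp : IsPGroup p ↥(normalizerIn S X) := isPGroup_of_le normalizerIn_le hq.pgroup
  have hsub : DX.IsSubsystemOf N := le_iff_isMor.mpr fun P f hf => by
    obtain ⟨hfs, hP, hm, g, hg, hgf, hgX⟩ := (isMor_normalizerSystem hDX).mp hf
    exact (isMor_normalizerSystem hN).mpr
      ⟨h.to_F hfs, hP.trans hYN, fun x hx => hYN (hm x hx), g, h.to_F hg, hgf, hgX⟩
  have hclosed : N.StronglyClosed (normalizerIn (X ⊔ T) X) := by
    refine stronglyClosed_iff.mpr ⟨hYN, fun P f hf x hx hxY => ?_⟩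
    obtain ⟨-, hP, hm, g, hg, hgf, hgX⟩ := (isMor_normalizerSystem hN).mp hf
    refine mem_normalizerIn.mpr ⟨?_, (mem_normalizerIn.mp (hm x hx)).2⟩
    obtain ⟨a, ha, t, ht, rfl⟩ := hq.mem_sup_T hXS (mem_normalizerIn.mp hxY).1
    have hax : a ∈ P ⊔ X := Subgroup.mem_sup_right ha
    have htM : t ∈ P ⊔ X := by
      have := Subgroup.mul_mem _ (Subgroup.inv_mem _ hax) (Subgroup.mem_sup_left (T := X) hx)
      rwa [inv_mul_cancel_left] at this
    rw [← hgf _ hx, hg.map_mul hax htM]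
    exact Subgroup.mul_mem _ (Subgroup.mem_sup_left (hgX.le (mem_img_of_mem g ha)))
      (Subgroup.mem_sup_right (hq.mem_T hg htM ht))
  refine ⟨hDs, hNs,
    (Cfsg.Agent.S5119.result p hNp N hNs DX hsub hclosed).mpr (strongInv_iff.mp ?_)⟩
  intro P Q f g hPQ hQY hf hfQ hg
  obtain ⟨-, hP, hm, fX, hfX, hfXf, hfXX⟩ := (isMor_normalizerSystem hDX).mp hf
  obtain ⟨hgF, hQN, hgm, G, hG, hGg, hGX⟩ := (isMor_normalizerSystem hN).mp hg
  set M := Q ⊔ X with hM
  have hQR : Q ≤ X ⊔ T := hQY.trans normalizerIn_le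
  have hMR : M ≤ X ⊔ T := sup_le hQR le_sup_left
  have hPM : P ⊔ X ≤ M := sup_le_sup_right hPQ X
  have hfXM : ∀ z ∈ P ⊔ X, fX z ∈ M := fun z hz => by
    have h1 := mem_img_of_mem fX hz
    rw [hfX.img_sup, hfXX, img_congr hfXf] at h1
    exact sup_le_sup_right (img_le hfQ) X h1
  obtain ⟨d, β, hd, hβ, hGe⟩ := hq.dec_all hG
  have hdD := h.ggen_sys hd hMR
  obtain ⟨di, hdi, hdl, -, -⟩ := hdD.inverse
  have hRM : X ⊔ T ≤ M ⊔ T := sup_le_sup_right le_sup_right T
  have hβX : ∀ x ∈ X, β x ∈ X ⊔ T := by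
    intro x hx
    have hxM : x ∈ M := Subgroup.mem_sup_right hx
    have ht : x⁻¹ * d x ∈ T := (hq.ggen_isMor hd).2.1 x hxM
    have h2 : d x ∈ M ⊔ T := by
      have := Subgroup.mul_mem _ (Subgroup.mem_sup_left (T := T) hxM)
        (Subgroup.mem_sup_right (S := M) ht)
      rwa [mul_inv_cancel_left] at this
    have h3 : β x = β (d x) * β (x⁻¹ * d x)⁻¹ := by
      rw [← hβ.map_mul h2 (Subgroup.mem_sup_right (T.inv_mem ht)), mul_inv_rev, inv_inv,
        mul_inv_cancel_left]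
    rw [h3, ← hGe x hxM]
    exact Subgroup.mul_mem _ (Subgroup.mem_sup_left (hGX.le (mem_img_of_mem G hx)))
      (Subgroup.mem_sup_right (hq.mem_T hβ (Subgroup.mem_sup_right (T.inv_mem ht))
        (T.inv_mem ht)))
  have hβR : ∀ x ∈ X ⊔ T, β x ∈ X ⊔ T := fun x hx => by
    obtain ⟨a, ha, t, ht, rfl⟩ := hq.mem_sup_T hXS hx
    rw [hβ.map_mul (hRM (Subgroup.mem_sup_left ha)) (Subgroup.mem_sup_right ht)]
    exact Subgroup.mul_mem _ (hβX a ha)
      (Subgroup.mem_sup_right (hq.mem_T hβ (Subgroup.mem_sup_right ht) ht))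
  have hdiP : ∀ y ∈ img (P ⊔ X) d, di y ∈ P ⊔ X := fun y hy => by
    obtain ⟨x, hx, rfl⟩ := (hdD.restrict hPM).mem_img.mp hy
    rw [hdl x (hPM hx)]
    exact hx
  have hm' : IsMor h.sys (img (P ⊔ X) d) (d ∘ fX ∘ di) :=
    ((hdi.restrict (img_mono d hPM)).comp hfX hdiP).comp hdD fun y hy => hfXM _ (hdiP y hy)
  obtain ⟨k, hk, hke⟩ := h.sys_transport hβ hRM hβR hm'
  have hkG : ∀ x ∈ P ⊔ X, k (G x) = G (fX x) := fun x hx => by
    rw [hGe x (hPM hx), hke _ (mem_img_of_mem d hx), hGe _ (hfXM x hx)]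
    simp only [Function.comp_apply]
    rw [hdl x (hPM hx)]
  have hdom : img P g ⊔ X ≤ img (img (P ⊔ X) d) β := by
    rw [(h.to_F hdD |>.restrict hPM).img_comp,
      img_congr (f := β ∘ d) (g := G) fun x hx => (hGe x (hPM hx)).symm,
      (hG.restrict hPM).img_sup, hGX, img_congr fun x hx => hGg x (hPQ hx)]
  have hgY : ∀ x ∈ Q, g x ∈ normalizerIn (X ⊔ T) X := fun x hx =>
    (stronglyClosed_iff.mp hclosed).2 Q g hg x hx (hQY hx)
  refine ⟨k, (isMor_normalizerSystem hDX).mpr ⟨(hk.restrict (le_sup_left.trans hdom)),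
    img_le fun x hx => hgY x (hPQ hx), fun y hy => ?_, k, hk.restrict hdom, fun _ _ => rfl, ?_⟩,
    fun x hx => ?_⟩
  · obtain ⟨x, hx, rfl⟩ := (hgF.restrict hPQ).mem_img.mp hy
    rw [← hGg x (hPQ hx), hkG x (Subgroup.mem_sup_left hx), hfXf x hx, hGg _ (hfQ x hx)]
    exact hgY _ (hfQ x hx)
  · refine (hk.restrict (le_sup_right.trans hdom)).img_eq_self fun y hy => ?_
    obtain ⟨x, hx, rfl⟩ := (hG.restrict le_sup_right).mem_img.mp (hGX.ge hy)
    rw [hkG x (Subgroup.mem_sup_right hx)]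
    exact hGX.le (mem_img_of_mem G (hfXX.le (mem_img_of_mem fX hx)))
  · rw [← hGg x (hPQ hx), hkG x (Subgroup.mem_sup_left hx), hfXf x hx, hGg _ (hfQ x hx)]

end ProdSetup

end CfsgLib.Fusion
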