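import Mathlib
import Cfsg.Agent.Lib.Fusion.PPowerIndex
import Cfsg.Agent.Lib.Fusion.CentralExtension
import Cfsg.Prelude.Def_FusionComponents
import Cfsg.Prelude.Def_FusionReduction

/-!
# The residual limit of a saturated system
-/

set_option autoImplicit false
set_option linter.unusedSectionVars false

namespace CfsgLib.Fusion

open Cfsg Cfsg.FusionSystem

universe u

variable {Ω : Type u} [Group Ω] {p : ℕ} [hp : Fact p.Prime]

/-- A subsystem of `p`-power index has the same hyperfocal subgroup. -/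
theorem hyp_eq_of_pPower {S T : Subgroup Ω} [Finite S] (hS : IsPGroup p S) (hTS : T ≤ S)
    {F : FusionSystem S} {E : FusionSystem T} (hEi : E.HasPPowerIndexIn F p) :
    E.hyperfocalSubgroup p = F.hyperfocalSubgroup p := by
  have : Finite T := finite_of_le hTS
  refine le_antisymm (hyp_le fun P hP α hα hc x hx =>
    hyp_gen (hP.trans hTS) (autGroup_mono hEi.1 hα) hc hx) (hyp_le fun P hP α hα hc x hx => ?_)
  set H := E.hyperfocalSubgroup p with hH
  have hHT : H ≤ T := hyp_le_top
  set d := x⁻¹ * autFun α x with hd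
  have hdT : d ∈ T := hEi.2.1 (hyp_gen hP hα hc hx)
  have hdP : d ∈ P := P.mul_mem (P.inv_mem hx) (autFun_mem α hx)
  set Q := P ⊓ T with hQ
  have hdQ : d ∈ Q := Subgroup.mem_inf.mpr ⟨hdP, hdT⟩
  have key : ∀ n : ℕ, ∀ y ∈ Q, y⁻¹ * autFun (α ^ n) y ∈ H := by
    intro n y hy
    have hγ : α ^ n ∈ F.autGroup P := (F.autGroup P).pow_mem hα n
    have hγc : (orderOf (α ^ n)).Coprime p :=
      Nat.Coprime.coprime_dvd_left (orderOf_pow_dvd n) hc
    have hm := (isMor_autFun hP hγ).restrict (inf_le_left : Q ≤ P)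
    have himg : img Q (autFun (α ^ n)) = Q := by
      refine hm.img_eq_self fun z hz => ?_
      obtain ⟨hzP, hzT⟩ := Subgroup.mem_inf.mp hz
      refine Subgroup.mem_inf.mpr ⟨autFun_mem _ hzP, ?_⟩
      have := T.mul_mem hzT (hEi.2.1 (hyp_gen hP hγ hγc hzP))
      rwa [mul_inv_cancel_left] at this
    obtain ⟨β, hβ, hβe⟩ := exists_aut hm himg
    have hβ1 : β ^ orderOf (α ^ n) = 1 := autFun_inj fun z hz => by
      rw [← autFun_pow_congr (inf_le_left : Q ≤ P) (fun w hw => (hβe w hw).symm) _ z hz,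
        pow_orderOf_eq_one, autFun_one hz, autFun_one (Subgroup.mem_inf.mp hz).1]
    have hβE := mem_autGroup_of_pPower hEi inf_le_right hβ
      (Nat.Coprime.coprime_dvd_left (orderOf_dvd_of_pow_eq_one hβ1) hγc)
    have := hyp_gen inf_le_right hβE
      (Nat.Coprime.coprime_dvd_left (orderOf_dvd_of_pow_eq_one hβ1) hγc) hy
    rwa [hβe y hy] at this
  have hpow : ∀ n : ℕ, ∃ h ∈ H, autFun (α ^ n) x = x * d ^ n * h := by
    intro n
    induction n with
    | zero => exact ⟨1, one_mem _, by simp [autFun_one hx]⟩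
    | succ n ih =>
      obtain ⟨h, hh, e⟩ := ih
      refine ⟨d⁻¹ * h * d * (d⁻¹ * autFun (α ^ n) d), H.mul_mem ?_ (key n d hdQ), ?_⟩
      · have := hyp_conj_mem (F := E) (p := p) (T.inv_mem hdT) hh
        simpa [cj, mul_assoc] using this
      · rw [pow_succ α, autFun_mul _ _ hx,
          show autFun α x = x * d by rw [hd, mul_inv_cancel_left],
          autFun_map_mul _ hx hdP, e, pow_succ]
        simp only [mul_assoc, mul_inv_cancel_left]
  obtain ⟨h, hh, e⟩ := hpow (orderOf α)
  rw [pow_orderOf_eq_one, autFun_one hx, mul_assoc] at e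
  have h1 : d ^ orderOf α ∈ H := by
    have h2 : d ^ orderOf α = h⁻¹ := eq_inv_of_mul_eq_one_left (left_eq_mul.mp e)
    exact h2 ▸ H.inv_mem hh
  obtain ⟨k, hk⟩ := hS ⟨d, hP hdP⟩
  have hk' : d ^ p ^ k = 1 := congrArg Subtype.val hk
  have h3 := H.zpow_mem h1 (Nat.gcdA (orderOf α) (p ^ k))
  have h4 : (d : Ω) = (d ^ orderOf α) ^ Nat.gcdA (orderOf α) (p ^ k) := by
    have hb := Nat.gcd_eq_gcd_ab (orderOf α) (p ^ k)
    rw [(hc.pow_right k).gcd_eq_one] at hb
    calc d = d ^ ((1 : ℕ) : ℤ) := by simp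
      _ = _ := by
        rw [hb, zpow_add, zpow_mul, zpow_mul, zpow_natCast, zpow_natCast, hk', one_zpow, mul_one]
  rw [h4]
  exact h3

/-- The facts about the step to a subgroup equal to the whole group. -/
theorem stable_step {S : Subgroup Ω} [Finite S] (hS : IsPGroup p S) {F : FusionSystem S}
    (hF : F.IsPPrimeResidual p F) : ∀ {H : Subgroup Ω} (D D' : FusionSystem H), H = S →
      D.IsSaturated p → D.HasPPowerIndexIn F p → D.IsPPrimeResidual p D' →
        (∀ P, D'.Hom P = F.Hom P) ∧ D'.hyperfocalSubgroup p = F.hyperfocalSubgroup p ∧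
          D'.IsPPrimeResidual p D' := by
  intro H D D' e hD hDi hD'
  subst e
  have h1 : D = F := pPower_unique hS le_rfl hF.1
    ⟨fun P => le_rfl, hyp_le_top, fun P _ => Subgroup.map_subtype_le _⟩ hD hDi
  subst h1
  have h2 : D' = D := fusion_le_antisymm (hD'.2.2 _ hF.1 hF.2.1) (hF.2.2 _ hD'.1 hD'.2.1)
  subst h2
  exact ⟨fun _ => rfl, rfl, hF⟩

theorem limit_of_stable {U : Subgroup Ω} {A : FusionSystem U} {S : Subgroup Ω}
    {F : FusionSystem S} {q : ℕ} (hA : A.IsResidualLimitOf F q) :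
    ∀ [Fact q.Prime] [Finite S], IsPGroup q S → F.hyperfocalSubgroup q = S →
      F.IsPPrimeResidual q F → ∀ P, A.Hom P = F.Hom P := by
  induction hA with
  | stable F p _ _ => exact fun {_} {_} _ _ _ _ => rfl
  | step F p D D' hD hD' _ ih =>
    intro _ _ hS h1 h2
    obtain ⟨e1, e2, e3⟩ := stable_step hS h2 D D' h1 hD.1 hD.2 hD'
    have : Finite (F.hyperfocalSubgroup p) := finite_of_le hyp_le_top
    intro P
    rw [ih (isPGroup_of_le hyp_le_top hS) e2 e3 P, e1 P]

/-- The residual limit is unique. -/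
theorem limit_unique {U V : Subgroup Ω} {A : FusionSystem U} {B : FusionSystem V}
    {S : Subgroup Ω} {F : FusionSystem S} {q : ℕ} (hA : A.IsResidualLimitOf F q) :
    B.IsResidualLimitOf F q → ∀ [Fact q.Prime] [Finite S], IsPGroup q S →
      ∀ P, A.Hom P = B.Hom P := by
  induction hA with
  | stable F p h1 h2 =>
    intro hB _ _ hS P
    exact (limit_of_stable hB hS h1 h2 P).symm
  | step F p D D' hD hD' hlim ih =>
    intro hB _ _ hS
    cases hB with
    | stable _ _ h1 h2 =>
      exact limit_of_stable (IsResidualLimitOf.step _ _ D D' hD hD' hlim) hS h1 h2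
    | step _ _ D₂ D₂' hD₂ hD₂' hlim₂ =>
      have : Finite (F.hyperfocalSubgroup p) := finite_of_le hyp_le_top
      have e : D₂ = D := pPower_unique hS hyp_le_top hD.1 hD.2 hD₂.1 hD₂.2
      subst e
      have e' : D₂' = D' :=
        fusion_le_antisymm (hD₂'.2.2 _ hD'.1 hD'.2.1) (hD'.2.2 _ hD₂'.1 hD₂'.2.1)
      subst e'
      exact ih hlim₂ (isPGroup_of_le hyp_le_top hS)

/-- A limit reached through a `p`-residual system over an equal subgroup. -/
theorem limit_of_step {U : Subgroup Ω} {A : FusionSystem U} {S : Subgroup Ω}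
    (F : FusionSystem S) : ∀ {H : Subgroup Ω} (D D' : FusionSystem H),
      H = F.hyperfocalSubgroup p → D.IsSaturated p → D.HasPPowerIndexIn F p →
        D.IsPPrimeResidual p D' → A.IsResidualLimitOf D' p → A.IsResidualLimitOf F p := by
  intro H D D' e hD hDi hD' hA
  subst e
  exact IsResidualLimitOf.step F p D D' ⟨hD, hDi⟩ hD' hA

/-- A residual limit of a subsystem of `p`-power index is one of the system. -/
theorem limit_of_pPower {U : Subgroup Ω} {A : FusionSystem U} {S T : Subgroup Ω} [Finite S]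
    (hS : IsPGroup p S) (hTS : T ≤ S) {F : FusionSystem S} {E : FusionSystem T}
    (hE : E.IsSaturated p) (hEi : E.HasPPowerIndexIn F p) (hA : A.IsResidualLimitOf E p) :
    A.IsResidualLimitOf F p := by
  have hh := hyp_eq_of_pPower hS hTS hEi
  cases hA with
  | stable _ _ h1 h2 =>
    exact limit_of_step F A A (h1.symm.trans hh) hE hEi h2 (IsResidualLimitOf.stable A p h1 h2)
  | step _ _ D D' hD hD' hlim =>
    refine limit_of_step F D D' hh hD.1 ⟨fun P => (hD.2.1 P).trans (hEi.1 P), hh.ge, fun P hP => ?_⟩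
      hD' hlim
    rw [pResidual, MonoidHom.map_closure, Subgroup.closure_le]
    rintro _ ⟨α, hα, rfl⟩
    have hc : (orderOf (α : MulAut P)).Coprime p := by rw [Subgroup.orderOf_coe]; exact hα
    exact mem_autGroup_of_pPower hD.2 hP
      (mem_autGroup_of_pPower hEi (hP.trans hyp_le_top) α.2 hc) hc

end CfsgLib.Fusion
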