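import Mathlib
import Cfsg.Agent.Lib.Fusion.ProductKey
import Cfsg.Agent.Lib.Fusion.ResidualLimit
import Cfsg.Agent.Lib.Fusion.ResidualNormal
import Cfsg.Agent.Lib.Fusion.Meet
import Cfsg.Agent.Lib.Fusion.GoodTools
import Cfsg.Agent.S5120

/-!
# The `p`-residual of a normal subsystem is normal
-/

set_option autoImplicit false
set_option linter.unusedSectionVars false
set_option maxHeartbeats 1000000

namespace CfsgLib.Fusion

open Cfsg Cfsg.FusionSystem

variable {Ω : Type*} [Group Ω] {S T : Subgroup Ω} {F : FusionSystem S} {E : FusionSystem T}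
  {p : ℕ} [hp : Fact p.Prime] [Finite S]

/-- If an automorphism of order prime to `p` moves `x` by `d` and the points of a subgroup containing `d`
by elements of `H`, then `d ∈ H`. -/
theorem coprime_diff_mem {P H Q : Subgroup Ω} {α : MulAut P} (hc : (orderOf α).Coprime p)
    {x d : Ω} (hx : x ∈ P) (hd : autFun α x = x * d) {k : ℕ} (hdk : d ^ p ^ k = 1) (hdQ : d ∈ Q)
    (hn : ∀ h ∈ H, d⁻¹ * h * d ∈ H) (key : ∀ n : ℕ, ∀ y ∈ Q, y⁻¹ * autFun (α ^ n) y ∈ H) :
    d ∈ H := by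
  have hdP : d ∈ P := by
    have := P.mul_mem (P.inv_mem hx) (autFun_mem α hx)
    rwa [hd, inv_mul_cancel_left] at this
  have hpow : ∀ n : ℕ, ∃ h ∈ H, autFun (α ^ n) x = x * d ^ n * h := by
    intro n
    induction n with
    | zero => exact ⟨1, H.one_mem, by simp [autFun_one hx]⟩
    | succ n ih =>
      obtain ⟨h, hh, e⟩ := ih
      refine ⟨d⁻¹ * h * d * (d⁻¹ * autFun (α ^ n) d), H.mul_mem (hn h hh) (key n d hdQ), ?_⟩
      rw [pow_succ α, autFun_mul _ _ hx, hd, autFun_map_mul _ hx hdP, e, pow_succ]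
      simp only [mul_assoc, mul_inv_cancel_left]
  obtain ⟨h, hh, e⟩ := hpow (orderOf α)
  rw [pow_orderOf_eq_one, autFun_one hx, mul_assoc] at e
  have h1 : d ^ orderOf α ∈ H := by
    have h2 : d ^ orderOf α = h⁻¹ := eq_inv_of_mul_eq_one_left (left_eq_mul.mp e)
    exact h2 ▸ H.inv_mem hh
  have hcop : (orderOf d).Coprime (orderOf α) :=
    Nat.Coprime.coprime_dvd_left (orderOf_dvd_of_pow_eq_one hdk) (hc.symm.pow_left k)
  obtain ⟨m, hm⟩ := exists_pow_eq_self_of_coprime (x := d) (n := orderOf α) hcop.symm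
  rw [← hm]
  exact H.pow_mem h1 m

namespace ProdHyp

variable (hq : ProdHyp F E p)
include hq

/-- The hyperfocal subgroup of a normal subsystem is preserved by the maps on `T`. -/
theorem hyp_invariant {M : Subgroup Ω} {f : Ω → Ω} (hf : IsMor F M f) (hTM : T ≤ M) :
    ∀ x ∈ E.hyperfocalSubgroup p, f x ∈ E.hyperfocalSubgroup p := by
  have hfT := hf.restrict hTM
  let K : Subgroup Ω :=
    { carrier := {x | x ∈ T ∧ f x ∈ E.hyperfocalSubgroup p}
      one_mem' := ⟨T.one_mem, by rw [hfT.map_one]; exact Subgroup.one_mem _⟩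
      mul_mem' := fun {a b} ha hb =>
        ⟨T.mul_mem ha.1 hb.1, by rw [hfT.map_mul ha.1 hb.1]; exact Subgroup.mul_mem _ ha.2 hb.2⟩
      inv_mem' := fun {a} ha =>
        ⟨T.inv_mem ha.1, by rw [hfT.map_inv ha.1]; exact Subgroup.inv_mem _ ha.2⟩ }
  have hle : E.hyperfocalSubgroup p ≤ K := hyp_le fun P hP α hα hc x hx => by
    refine ⟨T.mul_mem (T.inv_mem (hP hx)) (hP (autFun_mem α hx)), ?_⟩
    have hfP := hfT.restrict hP
    have hPT : img P f ≤ T := img_le fun y hy => hq.mem_T hfT (hP hy) (hP hy)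
    obtain ⟨k, hk, hke⟩ := hq.inv P P (autFun α) f le_rfl hP (isMor_autFun hP hα)
      (fun y hy => autFun_mem α hy) hfP
    obtain ⟨e, he, -, -⟩ := exists_transport hfP (rfl : img P f = img P f)
    have hea : e α ∈ E.autGroup (img P f) := (autGroup_eq_set hPT _).mpr (hk.congr fun y hy => by
      obtain ⟨z, hz, rfl⟩ := hfP.mem_img.mp hy
      rw [hke z hz, he α z hz])
    have h1 := hyp_gen (F := E) (p := p) hPT hea (by rwa [MulEquiv.orderOf_eq])
      (mem_img_of_mem f hx)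
    rw [hfT.map_mul (T.inv_mem (hP hx)) (hP (autFun_mem α hx)), hfT.map_inv (hP hx)]
    rwa [he α x hx] at h1
  exact fun x hx => (hle hx).2

/-- The hyperfocal subgroup of a normal subsystem is strongly closed. -/
theorem hyp_closed : F.StronglyClosed (E.hyperfocalSubgroup p) := by
  have : Finite T := finite_of_le hq.le_S
  refine stronglyClosed_iff.mpr ⟨hyp_le_top.trans hq.le_S, fun P f hf x hx hxH => ?_⟩
  have hxT : x ∈ T := hyp_le_top hxH
  obtain ⟨α, hα, g, hg, hfg⟩ := factors_of_strongInv hq.pgroup hq.sat hq.sub hq.closed hq.inv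
    (hf.restrict (inf_le_left : P ⊓ T ≤ P)) inf_le_right
  have hxPT : x ∈ P ⊓ T := Subgroup.mem_inf.mpr ⟨hx, hxT⟩
  obtain ⟨t, ht, hte⟩ := exists_conj_mod_hyp hq.tpgroup hq.esat hg
  have h1 := Subgroup.mul_mem _ (hyp_conj_mem ht hxH) (hte x hxPT)
  rw [mul_inv_cancel_left] at h1
  rw [hfg x hxPT]
  exact hq.hyp_invariant (isMor_autFun hq.le_S hα) le_rfl _ h1

/-- The `p`-residual of a normal subsystem is normal. -/
theorem exists_pResidual_normal : ∃ E₁ : FusionSystem (E.hyperfocalSubgroup p),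
    E₁.IsSaturated p ∧ E₁.HasPPowerIndexIn E p ∧ E₁.IsNormalIn F p := by
  have hS := hq.pgroup
  have hF := hq.sat
  have hTS := hq.le_S
  have : Finite T := finite_of_le hTS
  have hTp := hq.tpgroup
  set H := E.hyperfocalSubgroup p with hHdef
  have hHT : H ≤ T := hyp_le_top
  have hHS : H ≤ S := hHT.trans hTS
  obtain ⟨E₁, hE₁, hE₁i, -⟩ := exists_pPowerIndex hTp hq.esat hHT le_rfl
  have hsc := hq.hyp_closed
  have hw := weaklyNormal_pPower hS hq.normal.1 hHT hsc hE₁ hE₁i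
  refine ⟨E₁, hE₁, hE₁i, isNormalIn_of_goodExt hw ?_⟩
  have : Finite H := finite_of_le hHS
  have hHp : IsPGroup p H := isPGroup_of_le hHS hS
  have hnH : ∀ s ∈ S, s ∈ Subgroup.normalizer (H : Set Ω) := fun s hs =>
    stronglyClosed_le_normalizer hsc hs
  set C := centralizerIn S H with hC
  set V := H ⊔ centralizerIn T H with hV
  have hHV : H ≤ V := le_sup_left
  have hVT : V ≤ T := sup_le hHT centralizerIn_le
  have hVS : V ≤ S := hVT.trans hTS
  have hVC : V ≤ H ⊔ C := sup_le_sup_left (fun x hx =>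
    mem_centralizerIn.mpr ⟨hTS (mem_centralizerIn.mp hx).1, (mem_centralizerIn.mp hx).2⟩) _
  have : Finite V := finite_of_le hVS
  have hnV : ∀ s ∈ S, s ∈ Subgroup.normalizer (V : Set Ω) := fun s hs => by
    refine Subgroup.mem_normalizer_fintype fun x hx => ?_
    suffices hle : V ≤ V.comap (MulAut.conj s).toMonoidHom from hle hx
    refine sup_le (fun y hy => ?_) fun y hy => ?_
    · exact Subgroup.mem_sup_left ((Subgroup.mem_normalizer_iff.mp (hnH s hs) y).mp hy)
    · refine Subgroup.mem_sup_right (mem_centralizerIn.mpr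
        ⟨hq.conj_T hs (mem_centralizerIn.mp hy).1, fun z hz => ?_⟩)
      have hz' : cj s⁻¹ z ∈ H :=
        (Subgroup.mem_normalizer_iff.mp (hnH s⁻¹ (S.inv_mem hs)) z).mp hz
      have h1 := (mem_centralizerIn.mp hy).2 _ hz'
      show cj (cj s y) z = z
      rw [show cj s y = s * y * s⁻¹ from rfl, cj_mul, cj_mul, h1, cj_cj_inv]
  have hVnF : F.IsFullyNormalized V := isFullyNormalized_of_normal hVS
    (le_antisymm normalizerIn_le fun s hs => mem_normalizerIn.mpr ⟨hs, hnV s hs⟩)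
  have hVnE : E.IsFullyNormalized V := isFullyNormalized_of_normal hVT
    (le_antisymm normalizerIn_le fun s hs => mem_normalizerIn.mpr ⟨hs, hnV s (hTS hs)⟩)
  have hHnE : E.IsFullyNormalized H := isFullyNormalized_of_normal hHT
    (le_antisymm normalizerIn_le fun s hs => mem_normalizerIn.mpr ⟨hs, hnH s (hTS hs)⟩)
  have hHrec := (isFullyAutomized_of_normalized hTp hq.esat hHnE).2
  have himgH : ∀ {M : Subgroup Ω} {g : Ω → Ω}, IsMor E M g → H ≤ M → img H g = H :=
    fun {M g} hg hM => (hg.restrict hM).img_eq_self fun x hx =>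
      (stronglyClosed_iff.mp hsc).2 M g (le_iff_isMor.mp hq.sub _ _ hg) x (hM hx) hx
  have hVcen : E.IsCentric V := by
    refine ⟨hVT, fun R hR => ?_⟩
    obtain ⟨f, hf, rfl⟩ := isConj_iff.mp hR
    have hi := himgH hf hHV
    have hCi : img (centralizerIn T H) f ≤ centralizerIn T H := img_le fun c hc => by
      have := mapsTo_centralizerIn hf hHV le_sup_right c hc
      rwa [hi] at this
    have hCe := (hf.restrict le_sup_right).img_eq_self fun c hc => hCi (mem_img_of_mem f hc)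
    intro c hc
    refine (?_ : centralizerIn T H ≤ img V f) (mem_centralizerIn.mpr
      ⟨(mem_centralizerIn.mp hc).1, fun x hx => ?_⟩)
    · rw [← hCe]
      exact img_mono f le_sup_right
    · exact (mem_centralizerIn.mp hc).2 x ((img_mono f hHV) (hi.ge hx))
  -- the automorphisms of order prime to `p` have extensions
  have hcop : ∀ α ∈ E₁.autGroup H, (orderOf α).Coprime p → GoodExt F H H (autFun α) := by
    intro α hα hαc
    have hαE : α ∈ E.autGroup H := autGroup_mono hE₁i.1 hα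
    obtain ⟨g₀, hg₀, hg₀H, hg₀C⟩ := exists_map_centralizer hHrec (isMor_autFun hHT hαE)
      (img_autFun α)
    have hg₀V := hg₀.restrict (sup_comm (centralizerIn T H) H ▸ le_rfl : V ≤ centralizerIn T H ⊔ H)
    obtain ⟨a₀, ha₀, ha₀e⟩ := exists_aut hg₀V (hg₀V.img_eq_self fun x hx => by
      have hle : img V g₀ ≤ V := by
        rw [hg₀V.img_sup, img_congr hg₀H, img_autFun]
        exact sup_le le_sup_left (hg₀C.trans le_sup_right)
      exact hle (mem_img_of_mem g₀ hx))
    have ha₀H : ∀ x ∈ H, autFun a₀ x = autFun α x := fun x hx =>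
      (ha₀e x (hHV hx)).trans (hg₀H x hx)
    have := finite_mulAut hVS
    let A : Subgroup (MulAut V) :=
      { carrier := {a | a ∈ E.autGroup V ∧ ∀ x ∈ H, autFun a x = x}
        one_mem' := ⟨Subgroup.one_mem _, fun x hx => autFun_one (hHV hx)⟩
        mul_mem' := fun {a b} ha hb => ⟨Subgroup.mul_mem _ ha.1 hb.1, fun x hx => by
          rw [autFun_mul _ _ (hHV hx), hb.2 x hx, ha.2 x hx]⟩
        inv_mem' := fun {a} ha => ⟨Subgroup.inv_mem _ ha.1, fun x hx => by
          conv_lhs => rw [← ha.2 x hx]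
          exact autFun_inv_left a (hHV hx)⟩ }
    set Q₀ := autInducedBy C V with hQ₀
    have hQ₀fix : ∀ q ∈ Q₀, ∀ x ∈ H, autFun q x = x := fun q hq' x hx => by
      obtain ⟨c, hc, -, hce⟩ := mem_autInducedBy.mp hq'
      rw [hce x (hHV hx)]
      exact (mem_centralizerIn.mp hc).2 x hx
    have hQ₀F : Q₀ ≤ F.autGroup V := fun q hq' => by
      obtain ⟨c, hc, hcn, hce⟩ := mem_autInducedBy.mp hq'
      exact autInducedBy_le F hVS (mem_autInducedBy.mpr ⟨c, (mem_centralizerIn.mp hc).1, hcn, hce⟩)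
    have hinvV : ∀ θ ∈ F.autGroup V, ∀ a ∈ E.autGroup V, θ * a * θ⁻¹ ∈ E.autGroup V := by
      intro θ hθ a ha
      obtain ⟨b, hb, hbe⟩ := exists_transport_inv hq.inv (isMor_autFun hVS hθ) (img_autFun θ)
        hVT hVT ha
      rwa [autFun_inj (α := θ * a * θ⁻¹) (β := b) fun x hx => by
        rw [autFun_mul _ _ hx, autFun_mul _ _ (autFun_mem _ hx), ← hbe _ (autFun_mem _ hx),
          autFun_inv_right θ hx]]
    have hAQ : ∀ q ∈ Q₀, ∀ a ∈ A, q * a * q⁻¹ ∈ A := fun q hq' a ha =>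
      ⟨hinvV q (hQ₀F hq') a ha.1, fun x hx => by
        rw [autFun_mul _ _ (hHV hx), hQ₀fix _ (Q₀.inv_mem hq') x hx, autFun_mul _ _ (hHV hx),
          ha.2 x hx, hQ₀fix q hq' x hx]⟩
    have hQA : Q₀ ≤ Subgroup.normalizer (A : Set (MulAut V)) := fun q hq' =>
      Subgroup.mem_normalizer_fintype fun a ha => hAQ q hq' a ha
    have hmemB : ∀ {b}, b ∈ Q₀ ⊔ A → ∃ q ∈ Q₀, ∃ a ∈ A, b = q * a := fun {b} hb => by
      rw [← SetLike.mem_coe, Subgroup.coe_mul_of_left_le_normalizer_right _ _ hQA] at hb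
      obtain ⟨q, hq', a, ha, rfl⟩ := hb
      exact ⟨q, hq', a, ha, rfl⟩
    have hsylA := isSylIn_inf (isFullyAutomized_iff.mp
      (isFullyAutomized_of_normalized hTp hq.esat hVnE).1).2 (N := A) (fun a ha => ha.1)
      (fun b hb a ha => ⟨Subgroup.mul_mem _ (Subgroup.mul_mem _ hb ha.1) (Subgroup.inv_mem _ hb),
        fun x hx => by
          have h1 : autFun b⁻¹ x ∈ H := by
            rw [← himgH (isMor_autFun hVT (Subgroup.inv_mem _ hb)) hHV]
            exact mem_img_of_mem _ hx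
          rw [autFun_mul _ _ (hHV hx), autFun_mul _ _ (autFun_mem _ (hHV hx)), ha.2 _ h1,
            autFun_inv_right b (hHV hx)]⟩)
    have hTA : autInducedBy T V ⊓ A ≤ Q₀ := by
      rintro q ⟨hqT, hqA⟩
      obtain ⟨t, ht, htn, hte⟩ := mem_autInducedBy.mp hqT
      refine mem_autInducedBy.mpr ⟨t, mem_centralizerIn.mpr ⟨hTS ht, fun x hx => ?_⟩, htn, hte⟩
      rw [← hte x (hHV hx)]
      exact hqA.2 x hx
    have hsylB : IsSylIn p Q₀ (Q₀ ⊔ A) := by
      refine ⟨le_sup_left, isPGroup_autInducedBy (isPGroup_of_le centralizerIn_le hS),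
        fun K hK hle hKB => le_antisymm (fun k hk => ?_) hle⟩
      obtain ⟨q, hq', a, ha, rfl⟩ := hmemB (hKB hk)
      have haK : a ∈ K := by
        have := K.mul_mem (K.inv_mem (hle hq')) hk
        rwa [inv_mul_cancel_left] at this
      refine Q₀.mul_mem hq' (hTA ?_)
      have := hsylA.2.2 (K ⊓ A) (isPGroup_of_le inf_le_left hK)
        (fun x hx => ⟨hle (hTA hx), hx.2⟩) inf_le_right
      rw [← this]
      exact ⟨haK, ha⟩
    have ha₀Q : ∀ q ∈ Q₀, a₀ * q * a₀⁻¹ ∈ Q₀ ⊔ A := fun q hq' => by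
      have h1 : a₀ * q * a₀⁻¹ * q⁻¹ ∈ A := by
        refine ⟨?_, fun x hx => ?_⟩
        · rw [show a₀ * q * a₀⁻¹ * q⁻¹ = a₀ * (q * a₀⁻¹ * q⁻¹) by group]
          exact Subgroup.mul_mem _ ha₀ (hinvV q (hQ₀F hq') _ (Subgroup.inv_mem _ ha₀))
        · have hx1 := hQ₀fix _ (Q₀.inv_mem hq') x hx
          have hα' : autFun a₀⁻¹ x = autFun α⁻¹ x := by
            conv_lhs => rw [← autFun_inv_right α hx]
            rw [← ha₀H _ (autFun_mem _ hx)]
            exact autFun_inv_left a₀ (hHV (autFun_mem _ hx))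
          rw [autFun_mul _ _ (hHV hx), hx1, autFun_mul _ _ (hHV hx), hα',
            autFun_mul _ _ (hHV (autFun_mem _ hx)), hQ₀fix q hq' _ (autFun_mem _ hx),
            ha₀H _ (autFun_mem _ hx), autFun_inv_right α hx]
      have h2 := Subgroup.mul_mem _ (Subgroup.mem_sup_right (S := Q₀) h1)
        (Subgroup.mem_sup_left (T := A) hq')
      rwa [inv_mul_cancel_right] at h2
    obtain ⟨b, hb, hbQ⟩ := hsylB.exists_conj_le
      ((isPGroup_autInducedBy (isPGroup_of_le centralizerIn_le hS)).map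
        (MulAut.conj a₀).toMonoidHom : IsPGroup p (Q₀.map (MulAut.conj a₀).toMonoidHom))
      (by rintro _ ⟨q, hq', rfl⟩; exact ha₀Q q hq')
    obtain ⟨q₁, hq₁, a₁, ha₁, rfl⟩ := hmemB hb
    set g₁ := a₁ * a₀ with hg₁def
    have hg₁E : g₁ ∈ E.autGroup V := Subgroup.mul_mem _ ha₁.1 ha₀
    have hg₁H : ∀ x ∈ H, autFun g₁ x = autFun α x := fun x hx => by
      rw [autFun_mul _ _ (hHV hx), ha₀H x hx, ha₁.2 _ (autFun_mem α hx)]
    have hg₁n : g₁ ∈ Subgroup.normalizer (Q₀ : Set (MulAut V)) :=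
      Subgroup.mem_normalizer_fintype fun q hq' => by
        have h1 := hbQ _ ⟨q, hq', rfl⟩
        have h2 := Q₀.mul_mem (Q₀.mul_mem (Q₀.inv_mem hq₁) h1) hq₁
        have e : q₁⁻¹ * (q₁ * a₁ * (a₀ * q * a₀⁻¹) * (q₁ * a₁)⁻¹) * q₁ =
            g₁ * q * g₁⁻¹ := by rw [hg₁def]; group
        exact e ▸ h2
    obtain ⟨j, hj, hj1⟩ := exists_pow_coprime_modEq (p := p) g₁ hαc
    set g := g₁ ^ j with hgdef
    have hgE : g ∈ E.autGroup V := Subgroup.pow_mem _ hg₁E j
    have hgH : ∀ x ∈ H, autFun g x = autFun α x := fun x hx => by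
      rw [hgdef, autFun_pow_congr hHV hg₁H j x hx, pow_eq_pow_iff_modEq.mpr hj1, pow_one]
    have hgood : IsGood F E p V g := by
      refine ⟨⟨hVS, ?_⟩, autGroup_mono hq.sub hgE, ⟨fun x hx => ?_, ?_⟩, hj⟩
      · rw [inf_eq_left.mpr hVT]; exact hVcen
      · exact T.mul_mem (T.inv_mem (hVT hx)) (hVT (autFun_mem g hx))
      · rw [inf_eq_left.mpr hVT]; exact isMor_autFun hVT hgE
    set Q := Inn V ⊔ Q₀ with hQ
    have hQS : Q ≤ autInducedBy S V := sup_le (inn_le_autInducedBy hVS) fun q hq' => by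
      obtain ⟨c, hc, hcn, hce⟩ := mem_autInducedBy.mp hq'
      exact mem_autInducedBy.mpr ⟨c, (mem_centralizerIn.mp hc).1, hcn, hce⟩
    have hgQ : ∀ q ∈ Q, g * q * g⁻¹ ∈ Q := by
      suffices hle : Q ≤ Q.comap (MulAut.conj g).toMonoidHom from fun q hq' => hle hq'
      refine sup_le (fun q hq' => Subgroup.mem_sup_left (inn_conj_mem hq')) fun q hq' =>
        Subgroup.mem_sup_right ((Subgroup.mem_normalizer_iff.mp
          (Subgroup.pow_mem _ hg₁n j) q).mp hq')
    obtain ⟨Γ, hΓ, hΓe⟩ := hq.exists_good_ext hVnF (by rwa [inf_eq_left.mpr hVT]) hgood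
      (le_sup_left : Inn V ≤ Q) hQS hgQ
    have hVX : V ≤ indPre S V Q := le_indPre hVS le_sup_left
    have hCX : C ≤ indPre S V Q := fun c hc => by
      have hcS := (mem_centralizerIn.mp hc).1
      obtain ⟨τ, hτ, hτe⟩ := exists_autInducedBy (K := C) (P := V) hc (hnV c hcS)
      exact ⟨mem_normalizerIn.mpr ⟨hcS, hnV c hcS⟩, τ, Subgroup.mem_sup_right hτ, hτe⟩
    have hΓm := isMor_autFun hΓ.cen.1 hΓ.mem
    refine ⟨autFun Γ, hΓm.restrict (sup_le (hHV.trans hVX) hCX),
      fun x hx => (hΓe x (hHV hx)).trans (hgH x hx), fun c hc => ?_⟩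
    set d := c⁻¹ * autFun Γ c with hd
    have hcX := hCX hc
    have hdT : d ∈ T := hΓ.strict.1 c hcX
    have hdC : d ∈ centralizerIn T H := by
      refine mem_centralizerIn.mpr ⟨hdT, fun x hx => ?_⟩
      have hy : autFun α⁻¹ x ∈ H := autFun_mem _ hx
      have hΓy : autFun Γ (autFun α⁻¹ x) = x := by
        rw [hΓe _ (hHV hy), hgH _ hy, autFun_inv_right α hx]
      have h1 := hΓm.map_conj hcX (hVX (hHV hy))
      have h2 : cj c (autFun α⁻¹ x) = autFun α⁻¹ x := (mem_centralizerIn.mp hc).2 _ hy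
      rw [show c * autFun α⁻¹ x * c⁻¹ = autFun α⁻¹ x from h2, hΓy] at h1
      rw [hd, cj_mul, cj_apply (autFun Γ c), ← h1]
      exact (mem_centralizerIn.mp (C.inv_mem hc)).2 x hx
    obtain ⟨k, hk⟩ := hS ⟨d, hTS hdT⟩
    refine coprime_diff_mem (Q := V) hΓ.coprime hcX (mul_inv_cancel_left c _).symm
      (congrArg Subtype.val hk : d ^ p ^ k = 1) (Subgroup.mem_sup_right hdC) (fun h hh => ?_) ?_
    · have := hyp_conj_mem (F := E) (p := p) (T.inv_mem hdT) hh
      simpa [cj] using this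
    · intro n y hy
      rw [autFun_pow_congr hVX hΓe n y hy]
      exact hyp_gen hVT (Subgroup.pow_mem _ hgE n)
        (Nat.Coprime.coprime_dvd_left (orderOf_pow_dvd n) hj) hy
  intro α hα
  refine (autGroup_le_of_coprime hHp hE₁ (isFullyNormalized_self E₁) (K := goodExtAut F H hsc)
    (fun σ hσ => ?_) fun a ha hc => hcop a ha hc) hα
  obtain ⟨h, hh, hhn, hhe⟩ := mem_autInducedBy.mp hσ
  refine ⟨cj h, isMor_cj F (sup_le hHS centralizerIn_le) (hHS hh),
    fun x hx => (hhe x hx).symm, fun c hc => ?_⟩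
  have h1 : cj c h = h := (mem_centralizerIn.mp hc).2 h hh
  have h2 : cj h c = c := by
    rw [cj_apply, cj_fixed_iff] at *
    exact h1.symm
  rw [h2, inv_mul_cancel]
  exact H.one_mem

end ProdHyp

end CfsgLib.Fusion
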