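import Mathlib
import Cfsg.Agent.Lib.Fusion.ProductSysSaturated
import Cfsg.Agent.Lib.Fusion.PResidualNormal
import Cfsg.Agent.Lib.Fusion.ResidualSolvable

/-!
# The product system is determined by the `p`-residual
-/

set_option autoImplicit false
set_option linter.unusedSectionVars false
set_option maxHeartbeats 1000000

namespace CfsgLib.Fusion

open Cfsg Cfsg.FusionSystem

variable {Ω : Type*} [Group Ω] {S T : Subgroup Ω} {F : FusionSystem S} {E : FusionSystem T}
  {p : ℕ} [hp : Fact p.Prime] [Finite S] {R : Subgroup Ω}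

theorem hom_eq_of_pPower {H H' : Subgroup Ω} (e : H' = H) [Finite R] (hRp : IsPGroup p R)
    (hHR : H ≤ R) {D : FusionSystem R} {D₁ : FusionSystem H'} {E₁ : FusionSystem H}
    (h1 : D₁.IsSaturated p) (h2 : D₁.HasPPowerIndexIn D p) (h3 : E₁.IsSaturated p)
    (h4 : E₁.HasPPowerIndexIn D p) : ∀ P, D₁.Hom P = E₁.Hom P := by
  subst e
  obtain rfl := pPower_unique hRp hHR h3 h4 h1 h2
  exact fun _ => rfl

theorem pPower_congr {H H' : Subgroup Ω} (e : H' = H) {D : FusionSystem R}
    {D₁ : FusionSystem H'} {E₁ : FusionSystem H} (h : ∀ P, D₁.Hom P = E₁.Hom P)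
    (h1 : D₁.HasPPowerIndexIn D p) : E₁.HasPPowerIndexIn D p := by
  subst e
  obtain rfl : D₁ = E₁ := fusion_le_antisymm (fun P => (h P).le) (fun P => (h P).ge)
  exact h1

namespace ProdSetup

variable (h : ProdSetup F E p R)
include h

/-- Automorphisms of order prime to `p` of the product are strict. -/
theorem sys_coprime_strict {V : Subgroup Ω} (hV : V ≤ R) {α : MulAut V}
    (hα : α ∈ h.sys.autGroup V) (hαc : (orderOf α).Coprime p) : Strict E V (autFun α) := by
  have hVS := hV.trans h.R_le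
  have hm := isMor_autFun hV hα
  obtain ⟨-, -, -, r, hr, hs⟩ := h.pgen_facts (h.isMor_sys.mp hm)
  have hαF : α ∈ F.autGroup V := autGroup_mono h.sys_le hα
  have key : ∀ m : ℕ, Strict E V (cj (r ^ m)⁻¹ ∘ autFun (α ^ m)) := by
    intro m
    induction m with
    | zero =>
      exact strict_congr h.hyp.strict_id fun x hx => by simp [autFun_one hx, cj_one]
    | succ m ih =>
      have hfm := isMor_autFun hVS (Subgroup.pow_mem _ hαF m)
      have hfi : img V (autFun (α ^ m)) = V := img_autFun _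
      have h1 := h.twist_comp hfm (g := autFun α) (by rw [hfi]; exact isMor_autFun hVS hαF) hV
        (by rw [hfi]; exact hV) (fun y hy => hm.mem (hfi.le hy)) (R.pow_mem hr m) hr ih
        (by rw [hfi]; exact hs)
      refine strict_congr h1 fun x hx => ?_
      simp only [Function.comp_apply, pow_succ', autFun_mul _ _ hx]
  obtain ⟨k, hk⟩ := h.rpgroup ⟨r, hr⟩
  have hk' : r ^ p ^ k = 1 := congrArg Subtype.val hk
  have h1 : α ^ p ^ k ∈ bAut F E V :=
    (h.hyp.mem_bAut_iff hVS).mpr ⟨Subgroup.pow_mem _ hαF _,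
      strict_congr (key (p ^ k)) fun x _ => by rw [Function.comp_apply, hk', inv_one, cj_one]⟩
  exact ((h.hyp.mem_bAut_iff hVS).mp (mem_of_pPow_mem hαc h1)).2

/-- The product contains the normal subsystem. -/
theorem sub_sys : E.IsSubsystemOf h.sys := by
  have : Finite T := finite_of_le h.hyp.le_S
  refine sub_of_coprime h.hyp.tpgroup h.le_R h.hyp.esat fun P hP a ha hc => ?_
  have hPS : P ≤ S := hP.1.trans h.hyp.le_S
  have hgood : IsGood F E p P a := by
    refine ⟨⟨hPS, by rw [inf_eq_left.mpr hP.1]; exact hP⟩, autGroup_mono h.hyp.sub ha,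
      ⟨fun x hx => ?_, ?_⟩, hc⟩
    · exact T.mul_mem (T.inv_mem (hP.1 hx)) (hP.1 (autFun_mem a hx))
    · rw [inf_eq_left.mpr hP.1]; exact isMor_autFun hP.1 ha
  exact h.goodK_le_sys (hP.1.trans h.le_R) (Subgroup.subset_closure hgood)

theorem sys_hyp (hE : E.hyperfocalSubgroup p = T) : h.sys.hyperfocalSubgroup p = T := by
  have : Finite R := finite_of_le h.R_le
  refine le_antisymm (hyp_le fun P hP α hα hc x hx => (h.sys_coprime_strict hP hα hc).1 x hx) ?_
  conv_lhs => rw [← hE]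
  exact hyperfocal_le_of_sub h.le_R h.sub_sys

theorem sys_pPower (hE : E.hyperfocalSubgroup p = T) : E.HasPPowerIndexIn h.sys p := by
  refine ⟨h.sub_sys, (h.sys_hyp hE).le, fun P hP => ?_⟩
  rw [pResidual, MonoidHom.map_closure]
  refine (Subgroup.closure_le _).mpr ?_
  rintro _ ⟨a, ha, rfl⟩
  have hc : (orderOf (a : MulAut P)).Coprime p := by rw [Subgroup.orderOf_coe]; exact ha
  have h1 := (h.sys_coprime_strict (hP.trans h.le_R) a.2 hc).2
  rw [inf_eq_left.mpr hP] at h1
  exact (autGroup_eq_set hP _).mpr h1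

/-- Strict automorphisms fixing the intersection with `T` are induced by it. -/
theorem goodK_fix_le {V : Subgroup Ω} (hVR : V ≤ R) (hc : HCen S E V) {δ : MulAut V}
    (hδ : δ ∈ goodK F E p V) (hfix : ∀ x ∈ V ⊓ T, autFun δ x = x) :
    δ ∈ autInducedBy (V ⊓ T) V := by
  have hq := h.hyp
  have : Finite R := finite_of_le h.R_le
  obtain ⟨D, hVD, hD⟩ := exists_fullyNormalized h.sys hVR
  obtain ⟨f, hf, rfl⟩ := isConj_iff.mp hVD
  have hfF := h.to_F hf
  have hDS : img V f ≤ S := hfF.img_le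
  have hcD : HCen S E (img V f) := hq.hcen_img hc hfF
  set D := img V f with hDdef
  set W' := D ⊓ T with hW'
  have := finite_mulAut hDS
  obtain ⟨e, he, -, -⟩ := exists_transport hfF (rfl : img V f = D)
  let C : Subgroup (MulAut D) :=
    { carrier := {k | k ∈ goodK F E p D ∧ ∀ x ∈ W', autFun k x = x}
      one_mem' := ⟨Subgroup.one_mem _, fun x hx => autFun_one hx.1⟩
      mul_mem' := fun {a b} ha hb => ⟨Subgroup.mul_mem _ ha.1 hb.1, fun x hx => by
        rw [autFun_mul _ _ hx.1, hb.2 x hx, ha.2 x hx]⟩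
      inv_mem' := fun {a} ha => ⟨Subgroup.inv_mem _ ha.1, fun x hx => by
        conv_lhs => rw [← ha.2 x hx]
        exact autFun_inv_left a hx.1⟩ }
  have hCp : IsPGroup p C := by
    intro k
    obtain ⟨a, m, hm, hord⟩ :=
      Nat.exists_eq_pow_mul_and_not_dvd (orderOf_pos (k : MulAut D)).ne' p hp.out.ne_one
    refine ⟨a, Subtype.ext ?_⟩
    set k' := (k : MulAut D) ^ p ^ a with hk'
    have hk'C : k' ∈ C := C.pow_mem k.2 _
    have hk'm : k' ^ m = 1 := by rw [hk', ← pow_mul, ← hord, pow_orderOf_eq_one]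
    have hcop : (orderOf k').Coprime p :=
      Nat.Coprime.coprime_dvd_left (orderOf_dvd_of_pow_eq_one hk'm)
        ((hp.out.coprime_iff_not_dvd.mpr hm).symm)
    show k' = 1
    refine autFun_inj fun x hx => ?_
    rw [autFun_one hx]
    exact coprime_fixes_coset hq.pgroup (inf_le_left.trans hDS) inf_le_left hcop hk'C.2 hx
      (Subgroup.mem_inf.mpr ⟨D.mul_mem (D.inv_mem hx) (autFun_mem k' hx),
        (hq.strict_goodK hDS hk'C.1).1 x hx⟩)
  have hle : C ≤ autInducedBy T D ⊓ goodK F E p D := by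
    obtain ⟨b, hb, hbC⟩ := (h.isSylIn_goodK hD hcD).exists_conj_le hCp fun k hk => hk.1
    intro k hk
    have hk2 : b⁻¹ * k * b ∈ C := by
      refine ⟨Subgroup.mul_mem _ (Subgroup.mul_mem _ (Subgroup.inv_mem _ hb) hk.1) hb,
        fun x hx => ?_⟩
      have hbx : autFun b x ∈ W' := by
        refine Subgroup.mem_inf.mpr ⟨autFun_mem b hx.1, ?_⟩
        have := T.mul_mem hx.2 ((hq.strict_goodK hDS hb).1 x hx.1)
        rwa [mul_inv_cancel_left] at this
      rw [autFun_mul _ _ hx.1, autFun_mul _ _ (autFun_mem _ hx.1), hk.2 _ hbx,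
        autFun_inv_left b hx.1]
    have h1 := hbC _ hk2
    rwa [show b * (b⁻¹ * k * b) * b⁻¹ = k by group] at h1
  have hmaps : ∀ {y}, y ∈ D ⊓ T → ∃ x ∈ V ⊓ T, f x = y := fun {y} hy => by
    rw [hDdef, ← hq.img_inf hfF] at hy
    exact (hfF.restrict inf_le_left).mem_img.mp hy
  have heC : e δ ∈ C := ⟨hq.goodK_transport hfF le_rfl rfl he hδ, fun y hy => by
    obtain ⟨x, hx, rfl⟩ := hmaps hy
    rw [he δ x hx.1, hfix x hx]⟩
  obtain ⟨t, ht, htn, hte⟩ := mem_autInducedBy.mp (hle heC).1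
  have htW : t ∈ W' := hcD.2.2 _ (isConj_refl E inf_le_right) (mem_centralizerIn.mpr
    ⟨ht, fun x hx => by rw [← hte x hx.1]; exact heC.2 x hx⟩)
  obtain ⟨w, hw, rfl⟩ := hmaps htW
  refine mem_autInducedBy.mpr ⟨w, hw, Subgroup.le_normalizer hw.1, fun x hx => ?_⟩
  refine hfF.inj (autFun_mem δ hx) (V.mul_mem (V.mul_mem hw.1 hx) (V.inv_mem hw.1)) ?_
  rw [← he δ x hx, hte _ (mem_img_of_mem f hx), cj_apply (f w), ← hfF.map_conj hw.1 hx]
  rfl

section Unique

variable {D' : FusionSystem R} (hD' : D'.IsSaturated p) (hsub : D'.IsSubsystemOf F)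
  (hhyp : D'.hyperfocalSubgroup p = T) (hEs : E.IsSaturated p) (hEi : E.HasPPowerIndexIn D' p)

include hD' hsub hhyp hEs hEi

theorem prodHyp_sub : ProdHyp D' E p := by
  have : Finite R := finite_of_le h.R_le
  refine ⟨h.rpgroup, hD', Cfsg.Agent.S5120.result p h.rpgroup D' hD' T h.le_R ?_ hhyp.le E hEs hEi⟩
  exact ⟨fun n hn g => Subgroup.mem_subgroupOf.mpr
    (h.hyp.conj_T (h.R_le g.2) (Subgroup.mem_subgroupOf.mp hn))⟩

theorem coprime_strict_sub {P : Subgroup Ω} (hP : P ≤ R) {α : MulAut P} (hα : α ∈ D'.autGroup P)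
    (hc : (orderOf α).Coprime p) : Strict E P (autFun α) := by
  have h1 : ∀ x ∈ P, x⁻¹ * autFun α x ∈ T := fun x hx => hhyp ▸ hyp_gen hP hα hc hx
  refine ⟨h1, ?_⟩
  have : Finite R := finite_of_le h.R_le
  have hm := (isMor_autFun hP hα).restrict (inf_le_left : P ⊓ T ≤ P)
  have hmaps : ∀ x ∈ P ⊓ T, autFun α x ∈ P ⊓ T := fun x hx => by
    refine Subgroup.mem_inf.mpr ⟨autFun_mem α hx.1, ?_⟩
    have := T.mul_mem hx.2 (h1 x hx.1)
    rwa [mul_inv_cancel_left] at this
  have : Finite ↥(P ⊓ T) := finite_of_le (inf_le_right.trans h.hyp.le_S)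
  obtain ⟨β, hβ, hβe⟩ := exists_aut hm (hm.img_eq_self hmaps)
  have hβ1 : β ^ orderOf α = 1 := autFun_inj fun z hz => by
    rw [← autFun_pow_congr (inf_le_left : P ⊓ T ≤ P) (fun w hw => (hβe w hw).symm) _ z hz,
      pow_orderOf_eq_one, autFun_one hz, autFun_one hz.1]
  exact (isMor_autFun inf_le_right (mem_autGroup_of_pPower hEi inf_le_right hβ
    (Nat.Coprime.coprime_dvd_left (orderOf_dvd_of_pow_eq_one hβ1) hc))).congr hβe

theorem above_le_sys : ∀ (n : ℕ) {M : Subgroup Ω} {f : Ω → Ω}, Nat.card R - Nat.card M = n →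
    T ≤ M → IsMor D' M f → IsMor h.sys M f := by
  intro n
  induction n using Nat.strong_induction_on with
  | _ n ih =>
    intro M f hn hTM hf
    have : Finite R := finite_of_le h.R_le
    have hMR := hf.le
    have hq' := h.prodHyp_sub hD' hsub hhyp hEs hEi
    have haut : ∀ {N : Subgroup Ω}, D'.IsFullyNormalized N → T ≤ N →
        D'.autGroup N ≤ h.sys.autGroup N := fun {N} hN hTN =>
      autGroup_le_of_coprime h.rpgroup hD' hN (autInducedBy_le _ hN.1) fun a ha hc =>
        h.goodK_le_sys hN.1 (Subgroup.subset_closure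
          ⟨h.hyp.hcen_top (hN.1.trans h.R_le) hTN, autGroup_mono hsub ha,
            h.coprime_strict_sub hD' hsub hhyp hEs hEi hN.1 ha hc, hc⟩)
    by_cases hMeq : M = R
    · obtain ⟨a, ha, hae⟩ := exists_aut hf (hf.img_eq_self fun x hx => hMeq.ge (hf.mem hx))
      exact (isMor_autFun hMR (haut (hMeq ▸ isFullyNormalized_self D') hTM ha)).congr hae
    obtain ⟨M', hMM', hM'⟩ := exists_fullyNormalized D' hMR
    obtain ⟨a, ha, haM, -⟩ := exists_map_fullyNormalized h.rpgroup hD' hM' hMM'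
    obtain ⟨b, hb, hbM, -⟩ := exists_map_fullyNormalized h.rpgroup hD' hM'
      (isConj_trans (isConj_symm (isConj_img hf)) hMM')
    have hbig : ∀ {N : Subgroup Ω} {g : Ω → Ω}, N < R → Nat.card N = Nat.card M → T ≤ N →
        IsMor D' (normalizerIn R N) g → IsMor h.sys N g := fun {N g} hN hcard hTN hg => by
      have hlt : N < normalizerIn R N := lt_inf_normalizer h.rpgroup hN
      have : Finite ↥(normalizerIn R N) := finite_of_le normalizerIn_le
      have hc1 : Nat.card N < Nat.card (normalizerIn R N) :=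
        card_lt_of_lt normalizerIn_le hlt
      have hc2 := Subgroup.card_le_of_le (normalizerIn_le : normalizerIn R N ≤ R)
      exact (ih _ (by omega) rfl (hTN.trans (le_normalizerIn hN.le)) hg).restrict
        (le_normalizerIn hN.le)
    have hMlt : M < R := lt_of_le_of_ne hMR hMeq
    have hTM2 : T ≤ img M f := by
      rw [← hq'.img_sup_T hf hTM]
      exact img_mono f hTM
    have hM2lt : img M f < R := lt_of_le_of_ne hf.img_le fun e => hMeq
      (eq_of_le_of_card le_rfl hMR (by rw [← hf.card_img, e]))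
    have ha' := hbig hMlt rfl hTM ha
    have hb' := hbig hM2lt hf.card_img hTM2 hb
    have haM' : T ≤ M' := by
      rw [← haM, ← h.hyp.img_sup_T (h.to_F ha') hTM]
      exact img_mono a hTM
    have haD := ha.restrict (le_normalizerIn hMR)
    have hbD := hb.restrict (le_normalizerIn hf.img_le)
    obtain ⟨ai, hai, hal, -, haii⟩ := haD.inverse
    rw [haM] at hai
    have hc : ∀ y ∈ M', ai y ∈ M := fun y hy => by
      rw [← haM] at hy
      obtain ⟨x, hx, rfl⟩ := haD.mem_img.mp hy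
      rw [hal x hx]; exact hx
    have hg := (hai.comp hf hc).comp hbD fun y hy => mem_img_of_mem f (hc y hy)
    obtain ⟨γ, hγ, hγe⟩ := exists_aut hg (hg.img_eq_self fun y hy => by
      rw [← hbM]; exact mem_img_of_mem b (mem_img_of_mem f (hc y hy)))
    have hγ' := isMor_autFun hM'.1 (haut hM' haM' hγ)
    obtain ⟨bi, hbi, hbl, -, -⟩ := hb'.inverse
    rw [hbM] at hbi
    refine ((ha'.comp hγ' fun x hx => haM ▸ mem_img_of_mem a hx).comp hbi fun x hx =>
      autFun_mem γ (haM ▸ mem_img_of_mem a hx)).congr fun x hx => ?_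
    have hax : a x ∈ M' := haM ▸ mem_img_of_mem a hx
    simp only [Function.comp_apply]
    rw [hγe _ hax]
    simp only [Function.comp_apply]
    rw [hal x hx, hbl _ (mem_img_of_mem f hx)]

/-- A system with the same `p`-residual lies in the product. -/
theorem sub_le_sys : D' ≤ h.sys := by
  have : Finite R := finite_of_le h.R_le
  have hq' := h.prodHyp_sub hD' hsub hhyp hEs hEi
  refine le_iff_isMor.mpr fun P f hf => ?_
  obtain ⟨d, β, hd, hβ, e⟩ := hq'.dec_all hf
  have hgood : ∀ {U : Subgroup Ω} {g : Ω → Ω}, GGen D' E p U g → IsMor h.sys U g := by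
    intro U g hg
    refine h.isMor_sys.mpr ?_
    induction hg with
    | @step U V g α hα hUV e =>
      exact .good ⟨⟨hα.cen.1.trans h.R_le, hα.cen.2⟩, autGroup_mono hsub hα.mem, hα.strict,
        hα.coprime⟩ hα.cen.1 hUV e
    | comp h1 h2 e ih1 ih2 => exact .comp ih1 ih2 e
  have hβ' := h.above_le_sys hD' hsub hhyp hEs hEi _ rfl le_sup_right hβ
  exact ((hgood hd).comp hβ' fun x hx => hq'.ggen_le hd (mem_img_of_mem d hx)).congr
    fun x hx => (e x hx).symm

theorem good_mem_sub {V : Subgroup Ω} (hVR : V ≤ R) {α : MulAut V} (hα : IsGood F E p V α)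
    (hW : D'.IsFullyNormalized (V ⊓ T)) : α ∈ D'.autGroup V := by
  have : Finite R := finite_of_le h.R_le
  have hq := h.hyp
  have hq' := h.prodHyp_sub hD' hsub hhyp hEs hEi
  set W := V ⊓ T with hWdef
  have hWV : W ≤ V := inf_le_left
  have hWT : W ≤ T := inf_le_right
  have hWS : W ≤ S := hWT.trans hq.le_S
  have hWc : E.IsCentric W := hα.cen.2
  have hWW : W ⊓ T = W := inf_eq_left.mpr hWT
  have hmaps : ∀ x ∈ W, autFun α x ∈ W := fun x hx => by
    refine Subgroup.mem_inf.mpr ⟨autFun_mem α hx.1, ?_⟩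
    have := T.mul_mem hx.2 (hα.strict.1 x hx.1)
    rwa [mul_inv_cancel_left] at this
  obtain ⟨g, hg, hge⟩ := hq.good_restrict hα hWV ⟨hWS, by rw [hWW]; exact hWc⟩ hmaps
  have hgE : g ∈ E.autGroup W := by
    have := hg.strict.2
    rw [hWW] at this
    exact (autGroup_eq_set hWT _).mpr this
  have hg' : IsGood D' E p W g :=
    ⟨⟨hW.1, by rw [hWW]; exact hWc⟩, autGroup_mono hEi.1 hgE, hg.strict, hg.coprime⟩
  have hnW : ∀ v ∈ V, v ∈ Subgroup.normalizer (W : Set Ω) := fun v hv => by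
    have : Finite W := finite_of_le hWS
    exact Subgroup.mem_normalizer_fintype fun x hx =>
      ⟨V.mul_mem (V.mul_mem hv hx.1) (V.inv_mem hv), hq.conj_T (hα.cen.1 hv) hx.2⟩
  set Q := autInducedBy V W with hQ
  have hQR : Q ≤ autInducedBy R W := fun q hq' => by
    obtain ⟨v, hv, hvn, hve⟩ := mem_autInducedBy.mp hq'
    exact mem_autInducedBy.mpr ⟨v, hVR hv, hvn, hve⟩
  have hαm := isMor_autFun hα.cen.1 hα.mem
  obtain ⟨Γ, hΓ, hΓe⟩ := hq'.exists_good_ext hW (by rwa [hWW]) hg' (inn_le_autInducedBy hWV) hQR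
    fun q hq'' => by
      obtain ⟨v, hv, hvn, hve⟩ := mem_autInducedBy.mp hq''
      refine mem_autInducedBy.mpr ⟨autFun α v, autFun_mem α hv, hnW _ (autFun_mem α hv),
        fun x hx => ?_⟩
      have hx' := autFun_mem g⁻¹ hx
      have hvx : cj v (autFun g⁻¹ x) ∈ W :=
        (Subgroup.mem_normalizer_iff.mp hvn _).mp hx'
      rw [autFun_mul _ _ hx, autFun_mul _ _ hx', hve _ hx', hge _ hvx, cj_apply v,
        hαm.map_conj hv (hWV hx'), ← hge _ hx', autFun_inv_right g hx, cj_apply]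
  have hVX : V ≤ indPre R W Q := fun v hv => by
    obtain ⟨τ, hτ, hτe⟩ := exists_autInducedBy (K := V) (P := W) hv (hnW v hv)
    exact ⟨mem_normalizerIn.mpr ⟨hVR hv, hnW v hv⟩, τ, hτ, hτe⟩
  have hΓm := isMor_autFun hΓ.cen.1 hΓ.mem
  have hΓV : ∀ v ∈ V, autFun Γ v ∈ V := fun v hv => by
    set z := (autFun α v)⁻¹ * autFun Γ v with hz
    have hzT : z ∈ T := by
      have := T.mul_mem (T.inv_mem (hα.strict.1 v hv)) (hΓ.strict.1 v (hVX hv))
      rw [hz]
      simpa [mul_assoc] using this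
    have hzW : z ∈ W := hWc.2 _ (isConj_refl E hWT) (mem_centralizerIn.mpr ⟨hzT, fun x hx => by
      have hy : autFun g⁻¹ x ∈ W := autFun_mem _ hx
      have hgy : autFun α (autFun g⁻¹ x) = x := by rw [← hge _ hy, autFun_inv_right g hx]
      have hvy : cj v (autFun g⁻¹ x) ∈ W :=
        (Subgroup.mem_normalizer_iff.mp (hnW v hv) _).mp hy
      have h1 : cj (autFun Γ v) x = autFun α (cj v (autFun g⁻¹ x)) := by
        conv_lhs => rw [← hgy, ← hge _ hy, ← hΓe _ hy]
        rw [cj_apply, ← hΓm.map_conj (hVX hv) (hVX (hWV hy)), ← cj_apply, hΓe _ hvy, hge _ hvy]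
      have h2 : cj (autFun α v) x = autFun α (cj v (autFun g⁻¹ x)) := by
        conv_lhs => rw [← hgy]
        rw [cj_apply, ← hαm.map_conj hv (hWV hy), ← cj_apply]
      rw [hz, cj_mul, h1, ← h2, cj_inv_cj]⟩)
    have := V.mul_mem (autFun_mem α hv) hzW.1
    rwa [hz, mul_inv_cancel_left] at this
  obtain ⟨β, hβ, hβe⟩ := hq'.good_restrict hΓ hVX ⟨hVR, hα.cen.2⟩ hΓV
  have hβF : IsGood F E p V β := ⟨hα.cen, autGroup_mono hsub hβ.mem, hβ.strict, hβ.coprime⟩
  have hδ : β⁻¹ * α ∈ goodK F E p V := Subgroup.mul_mem _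
    (Subgroup.inv_mem _ (Subgroup.subset_closure hβF)) (Subgroup.subset_closure hα)
  have hδfix : ∀ x ∈ W, autFun (β⁻¹ * α) x = x := fun x hx => by
    have hαβ : autFun α x = autFun β x := by
      rw [hβe x (hWV hx), hΓe x hx, hge x hx]
    rw [autFun_mul _ _ (hWV hx), hαβ, autFun_inv_left β (hWV hx)]
  obtain ⟨w, hw, hwn, hwe⟩ := mem_autInducedBy.mp (h.goodK_fix_le hVR hα.cen hδ hδfix)
  have hδD : β⁻¹ * α ∈ D'.autGroup V := autInducedBy_le D' hVR
    (mem_autInducedBy.mpr ⟨w, hVR (hWV hw), hwn, hwe⟩)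
  have := Subgroup.mul_mem _ hβ.mem hδD
  rwa [mul_inv_cancel_left] at this

/-- The product lies in every system with the same `p`-residual. -/
theorem sys_le_sub : h.sys ≤ D' := by
  have : Finite R := finite_of_le h.R_le
  have hq := h.hyp
  refine le_iff_isMor.mpr fun P f hf => ?_
  have hf' := h.isMor_sys.mp hf
  clear hf
  induction hf' with
  | conj hU hr e => exact (isMor_cj D' hU hr).congr fun x hx => (e x hx).symm
  | @good U V f α hα hV hUV e =>
    suffices hmem : α ∈ D'.autGroup V from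
      ((isMor_autFun hV hmem).restrict hUV).congr fun x hx => (e x hx).symm
    obtain ⟨W₁, hWW₁, hW₁⟩ := exists_fullyNormalized D' (inf_le_right.trans h.le_R : V ⊓ T ≤ R)
    obtain ⟨a, ha, haW, -⟩ := exists_map_fullyNormalized h.rpgroup hD' hW₁ hWW₁
    have hVN : V ≤ normalizerIn R (V ⊓ T) := fun v hv => by
      have : Finite ↥(V ⊓ T) := finite_of_le (inf_le_right.trans h.le_R)
      exact mem_normalizerIn.mpr ⟨hV hv, Subgroup.mem_normalizer_fintype fun x hx =>
        ⟨V.mul_mem (V.mul_mem hv hx.1) (V.inv_mem hv), hq.conj_T (h.R_le (hV hv)) hx.2⟩⟩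
    have haF : IsMor F (normalizerIn R (V ⊓ T)) a := le_iff_isMor.mp hsub _ _ ha
    obtain ⟨e', he', hee', -⟩ := exists_transport (ha.restrict hVN) (rfl : img V a = img V a)
    refine (hee' α).mpr (h.good_mem_sub hD' hsub hhyp hEs hEi (ha.restrict hVN).img_le
      (hq.good_transport haF hVN rfl he' hα) ?_)
    rw [← hq.img_inf (haF.restrict hVN), haW]
    exact hW₁
  | comp h1 h2 e ih1 ih2 =>
    exact (ih1.comp ih2 fun x hx => mem_img_of_mem _ hx).congr fun x hx => (e x hx).symm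

end Unique

end ProdSetup

end CfsgLib.Fusion
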