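import Mathlib
import Cfsg.Agent.Lib.Fusion.ProductLocal
import Cfsg.Agent.Lib.Fusion.ProductUnique
import Cfsg.Agent.Lib.Fusion.ComponentMeet
import Cfsg.Agent.Lib.Fusion.Components
import Cfsg.Agent.Lib.Fusion.ConstrainedLocal
import Cfsg.Agent.Lib.Fusion.NormalCentralizerSystem
import Cfsg.Agent.Lib.Fusion.LayerExists

/-!
# Automorphisms fixing the Sylow group of a normal subsystem, and components centralizing it
-/

set_option autoImplicit false
set_option linter.unusedSectionVars false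
set_option maxHeartbeats 1000000

namespace CfsgLib.Fusion

open Cfsg Cfsg.FusionSystem

variable {Ω : Type*} [Group Ω] {S T : Subgroup Ω} {F : FusionSystem S} {E : FusionSystem T}
  {p : ℕ} [hp : Fact p.Prime] [Finite S]

theorem fixExt_of_centralizerHom {U Y : Subgroup Ω} {D : FusionSystem U}
    (h : ∀ P, D.Hom P ⊆ F.centralizerHom Y P) : FixExt F D Y := by
  intro P f hf
  obtain ⟨φ, hφ, hφf⟩ := id hf
  obtain ⟨-, -, -, g, hg, hge, hgY⟩ := mem_centralizerHom.mp (h P hφ)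
  exact ⟨g, hg, fun x hx => by rw [hge x hx, toFun_of_mem φ hx]; exact hφf ⟨x, hx⟩, hgY⟩

theorem constrained_of_residual {H : Subgroup Ω} (e : F.hyperfocalSubgroup p = H)
    (hS : IsPGroup p S) (hF : F.IsSaturated p) {D : FusionSystem H} (hD : D.IsNormalIn F p)
    (hc : D.IsConstrained p) : F.IsConstrained p := by
  subst e
  exact constrained_of_hyperfocal_constrained hS hF hD hc

/-- A map fixing `T` moves the elements centralizing `T` within their cosets of `cElts`. -/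
theorem ProdHyp.diff_mem_cElts (hq : ProdHyp F E p) {M : Subgroup Ω} (hM : M ≤ S) (hTM : T ≤ M)
    {γ : MulAut M} (hγ : γ ∈ F.autGroup M) (hfix : ∀ t ∈ T, autFun γ t = t) {x : Ω} (hx : x ∈ M)
    (hxC : x ∈ centralizerIn S T) : x⁻¹ * autFun γ x ∈ cElts F E p := by
  have hS := hq.pgroup
  have hTS := hq.le_S
  have hset : ProdSetup F E p S := ⟨hq, hTS, le_rfl⟩
  set P := M ⊓ centralizerIn S T with hP
  have hγm := isMor_autFun hM hγ
  have hγP : ∀ y ∈ P, autFun γ y ∈ P := fun y hy => by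
    refine Subgroup.mem_inf.mpr
      ⟨autFun_mem γ hy.1, mem_centralizerIn.mpr ⟨hM (autFun_mem γ hy.1), fun t ht => ?_⟩⟩
    have h1 := hγm.map_conj hy.1 (hTM ht)
    rw [hfix t ht, show y * t * y⁻¹ = t from (mem_centralizerIn.mp hy.2).2 t ht, hfix t ht] at h1
    exact h1.symm
  have hxP : x ∈ P := Subgroup.mem_inf.mpr ⟨hx, hxC⟩
  have hdP : x⁻¹ * autFun γ x ∈ P := P.mul_mem (P.inv_mem hxP) (hγP x hxP)
  refine ⟨hdP.2, fun R R' hh β hR hhm hi hn hβ hc hβE hβR hβC => ?_⟩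
  have hR'T : R' ≤ T := hβE.le
  have hR'S : R' ≤ S := hn.1
  have hCS : R' ⊔ centralizerIn S R' ≤ S := sup_le hR'S centralizerIn_le
  set P' := img P hh with hP'
  have hPC : P ≤ centralizerIn S T := inf_le_right
  have hhP := hhm.restrict (hPC.trans le_sup_right : P ≤ R ⊔ centralizerIn S T)
  have hP'C : P' ≤ centralizerIn S R' := by
    rw [← hi]
    exact img_le fun y hy => map_mem_centralizerIn hhm hR.1 (hPC hy)
  set U := R ⊔ P with hU
  have hUD : U ≤ R ⊔ centralizerIn S T := sup_le_sup_left hPC R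
  have hUM : U ≤ M := sup_le (hR.1.trans hTM) inf_le_left
  have hUS : U ≤ S := hUM.trans hM
  set V := R' ⊔ P' with hV
  have hhU := hhm.restrict hUD
  have hUi : img U hh = V := by rw [hU, hhU.img_sup, hi]
  have hVS : V ≤ S := sup_le hR'S (hP'C.trans centralizerIn_le)
  obtain ⟨γU, hγU, hγUe⟩ := exists_aut (hγm.restrict hUM)
    ((hγm.restrict hUM).img_eq_self fun y hy => by
      have h1 := mem_img_of_mem (autFun γ) hy
      rw [(hγm.restrict hUM).img_sup] at h1
      refine (sup_le_sup (img_le fun r hr => ?_) (img_le hγP) :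
        img R (autFun γ) ⊔ img P (autFun γ) ≤ R ⊔ P) h1
      rw [hfix r (hR.1 hr)]
      exact hr)
  obtain ⟨e, he, heA, -⟩ := exists_transport hhU hUi
  set γ' := e γU with hγ'
  have hγ'F : γ' ∈ F.autGroup V := (heA γU).mp hγU
  have hγ'R : ∀ r ∈ R', autFun γ' r = r := fun r hr => by
    rw [← hi] at hr
    obtain ⟨r₀, hr₀, rfl⟩ := (hhm.restrict le_sup_left).mem_img.mp hr
    rw [he γU r₀ (Subgroup.mem_sup_left hr₀), hγUe r₀ (Subgroup.mem_sup_left hr₀),
      hfix r₀ (hR.1 hr₀)]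
  have hγ'P : ∀ y ∈ P, autFun γ' (hh y) = hh (autFun γ y) := fun y hy => by
    rw [he γU y (Subgroup.mem_sup_right hy), hγUe y (Subgroup.mem_sup_right hy)]
  have hR'c : E.IsCentric R' := by
    rw [← hi]
    exact centric_img_of_invariant hS hq.sat hq.sub hq.closed hq.inv hR (hhm.restrict le_sup_left)
  have hmul : ∀ {A : Subgroup Ω}, A ≤ centralizerIn S R' → ∀ y ∈ R' ⊔ A,
      ∃ r ∈ R', ∃ c ∈ A, y = r * c := fun {A} hA y hy => by
    have hn' : A ≤ Subgroup.normalizer (R' : Set Ω) := fun c hc => by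
      have : Finite R' := finite_of_le hR'S
      refine Subgroup.mem_normalizer_fintype fun r hr => ?_
      have h1 : cj c r = r := (mem_centralizerIn.mp (hA hc)).2 r hr
      show cj c r ∈ R'
      rw [h1]
      exact hr
    rw [← SetLike.mem_coe, Subgroup.coe_mul_of_right_le_normalizer_left _ _ hn'] at hy
    obtain ⟨r, hr, c, hc, rfl⟩ := hy
    exact ⟨r, hr, c, hc, rfl⟩
  have hinf : ∀ {A : Subgroup Ω}, A ≤ centralizerIn S R' → (R' ⊔ A) ⊓ T = R' := fun {A} hA => by
    refine le_antisymm (fun y hy => ?_) (le_inf le_sup_left hR'T)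
    obtain ⟨hyA, hyT⟩ := Subgroup.mem_inf.mp hy
    obtain ⟨r, hr, c, hc, rfl⟩ := hmul hA y hyA
    refine R'.mul_mem hr (hR'c.2 R' (isConj_refl E hR'T) (mem_centralizerIn.mpr
      ⟨?_, fun z hz => (mem_centralizerIn.mp (hA hc)).2 z hz⟩))
    have := T.mul_mem (T.inv_mem (hR'T hr)) hyT
    rwa [inv_mul_cancel_left] at this
  have hβgood : IsGood F E p (R' ⊔ centralizerIn S R') β := by
    refine ⟨⟨hCS, by rw [hinf le_rfl]; exact hR'c⟩, hβ, ⟨fun y hy => ?_, ?_⟩, hc⟩
    · obtain ⟨r, hr, c, hc', rfl⟩ := hmul le_rfl y hy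
      rw [autFun_map_mul β (Subgroup.mem_sup_left hr) (Subgroup.mem_sup_right hc'),
        show (r * c)⁻¹ * (autFun β r * autFun β c) =
          cj c⁻¹ (r⁻¹ * autFun β r) * (c⁻¹ * autFun β c) by rw [cj_apply]; group]
      exact T.mul_mem (hq.conj_T (S.inv_mem (centralizerIn_le hc'))
        (hR'T (R'.mul_mem (R'.inv_mem hr) (hβR r hr)))) (hR'T (hβC c hc'))
    · rw [hinf le_rfl]
      exact hβE
  have hVW : V ≤ R' ⊔ centralizerIn S R' := sup_le_sup_left hP'C R'
  obtain ⟨b, hb, hbe⟩ := hq.good_restrict hβgood hVW ⟨hVS, by rw [hV, hinf hP'C]; exact hR'c⟩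
    fun y hy => by
      obtain ⟨r, hr, c, hc', rfl⟩ := hmul hP'C y hy
      rw [autFun_map_mul β (Subgroup.mem_sup_left hr) (Subgroup.mem_sup_right (hP'C hc'))]
      refine V.mul_mem (Subgroup.mem_sup_left (hβR r hr)) ?_
      have := V.mul_mem (Subgroup.mem_sup_right hc') (Subgroup.mem_sup_left (hβC c (hP'C hc')))
      rwa [mul_inv_cancel_left] at this
  have hK : (γ' * b * γ'⁻¹)⁻¹ * b ∈ goodK F E p V := Subgroup.mul_mem _
    (Subgroup.inv_mem _ (hq.goodK_conj hVS hγ'F (Subgroup.subset_closure hb)))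
    (Subgroup.subset_closure hb)
  have hR'V : R' ≤ V := le_sup_left
  have hγ'iR : ∀ r ∈ R', autFun γ'⁻¹ r = r := fun r hr => by
    conv_lhs => rw [← hγ'R r hr]
    exact autFun_inv_left γ' (hR'V hr)
  have hbR : ∀ r ∈ R', autFun b r ∈ R' := fun r hr => by
    rw [hbe r (hR'V hr)]; exact hβR r hr
  have hconjR : ∀ r ∈ R', autFun (γ' * b * γ'⁻¹) r = autFun b r := fun r hr => by
    rw [autFun_mul _ _ (hR'V hr), autFun_mul _ _ (autFun_mem _ (hR'V hr)), hγ'iR r hr,
      hγ'R _ (hbR r hr)]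
  have hKfix : ∀ r ∈ V ⊓ T, autFun ((γ' * b * γ'⁻¹)⁻¹ * b) r = r := fun r hr => by
    rw [hV, hinf hP'C] at hr
    rw [autFun_mul _ _ (hR'V hr), ← hconjR r hr, autFun_inv_left _ (hR'V hr)]
  obtain ⟨w, hw, -, hwe⟩ := mem_autInducedBy.mp
    (hset.goodK_fix_le hVS ⟨hVS, by rw [hV, hinf hP'C]; exact hR'c⟩ hK hKfix)
  rw [hV, hinf hP'C] at hw
  -- the two automorphisms commute on `P'`
  have hcomm : ∀ y ∈ P', autFun b (autFun γ' y) = autFun γ' (autFun b y) := by
    intro y hy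
    have hy' : y ∈ V := Subgroup.mem_sup_right hy
    have hγy : autFun γ' y ∈ P' := by
      obtain ⟨y₀, hy₀, rfl⟩ := hhP.mem_img.mp hy
      rw [hγ'P y₀ hy₀]
      exact mem_img_of_mem hh (hγP y₀ hy₀)
    have hγyV : autFun γ' y ∈ V := Subgroup.mem_sup_right hγy
    have h1 := hwe _ hγyV
    have h2 : cj w (autFun γ' y) = autFun γ' y := by
      have h3 : cj (autFun γ' y) w = w := (mem_centralizerIn.mp (hP'C hγy)).2 w hw
      rw [cj_apply, cj_fixed_iff] at h3 ⊢
      exact h3.symm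
    rw [h2, autFun_mul _ _ hγyV] at h1
    have h4 := congrArg (autFun (γ' * b * γ'⁻¹)) h1
    rw [autFun_inv_right _ (autFun_mem b hγyV)] at h4
    rw [h4, autFun_mul _ _ hγyV, autFun_mul _ _ (autFun_mem _ hγyV), autFun_inv_left γ' hy']
  set z := hh x with hz
  have hzP : z ∈ P' := mem_img_of_mem hh hxP
  have hzV : z ∈ V := Subgroup.mem_sup_right hzP
  set r := z⁻¹ * autFun β z with hr
  have hrR : r ∈ R' := hβC z (hP'C hzP)
  have hβz : autFun β z = z * r := (mul_inv_cancel_left z _).symm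
  have hbz : autFun b z = z * r := by rw [hbe z hzV, hβz]
  have hγz : autFun γ' z ∈ V := autFun_mem γ' hzV
  have hγz' : autFun γ' z = hh (autFun γ x) := hγ'P x hxP
  have hbγ : autFun β (autFun γ' z) = autFun γ' z * r := by
    rw [← hbe _ hγz, hcomm z hzP, hbz, autFun_map_mul γ' hzV (hR'V hrR), hγ'R r hrR]
  have hd : hh (x⁻¹ * autFun γ x) = z⁻¹ * autFun γ' z := by
    rw [hhP.map_mul (P.inv_mem hxP) (hγP x hxP), hhP.map_inv hxP, hγz']
  have hdC : hh (x⁻¹ * autFun γ x) ∈ centralizerIn S R' := hP'C (mem_img_of_mem hh hdP)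
  rw [hd] at hdC ⊢
  have hzM := hVW hzV
  rw [autFun_map_mul β (Subgroup.inv_mem _ hzM) (hVW hγz), autFun_inv_map β hzM, hβz, hbγ]
  have h5 : cj (z⁻¹ * autFun γ' z) r = r := (mem_centralizerIn.mp hdC).2 r hrR
  rw [cj_apply, cj_fixed_iff] at h5
  calc (z * r)⁻¹ * (autFun γ' z * r) = r⁻¹ * ((z⁻¹ * autFun γ' z) * r) := by group
    _ = z⁻¹ * autFun γ' z := by rw [h5, inv_mul_cancel_left]

/-- A component of the normalizer of `X` cannot centralize the group of the layer. -/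
theorem not_fixExt_layer (hS : IsPGroup p S) (hF : F.IsSaturated p) (hE : E.IsLayerOf F p)
    {X : Subgroup Ω} (hX : F.IsFullyNormalized X) {N : FusionSystem (normalizerIn S X)}
    (hN : F.IsNormalizerSystem X N) {TC : Subgroup Ω} {C : FusionSystem TC}
    (hC : C.IsComponentIn N p) (hTC : TC ≤ centralizerIn S T) : ¬ FixExt F C T := by
  intro hfix
  have hq : ProdHyp F E p := ⟨hS, hF, hE.1⟩
  have hTS := hq.le_S
  set W := cElts F E p with hW
  have hTCN : TC ≤ normalizerIn S X := subnormal_le hC.1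
  have hTCS : TC ≤ S := hTCN.trans normalizerIn_le
  have : Finite TC := finite_of_le hTCS
  have hTW : TC ≤ W := by
    rw [← hC.2.2.1]
    refine hyp_le fun P hP α hα _ x hx => ?_
    obtain ⟨g, hg, hgα, hgT⟩ := hfix P _ (isMor_autFun hP hα)
    have hmaps : ∀ y ∈ P ⊔ T, g y ∈ P ⊔ T := fun y hy => by
      have h1 := mem_img_of_mem g hy
      rw [hg.img_sup] at h1
      exact (sup_le_sup (img_le fun z hz => hgα z hz ▸ autFun_mem α hz)
        (img_le fun t ht => by rw [hgT t ht]; exact ht) : img P g ⊔ img T g ≤ P ⊔ T) h1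
    obtain ⟨γ, hγ, hγe⟩ := exists_aut hg (hg.img_eq_self hmaps)
    have := hq.diff_mem_cElts hg.le le_sup_right hγ
      (fun t ht => by rw [hγe t (Subgroup.mem_sup_right ht), hgT t ht])
      (Subgroup.mem_sup_left hx) (hTC (hP hx))
    rwa [hγe x (Subgroup.mem_sup_left hx), hgα x hx] at this
  obtain ⟨K₀, hK₀, hK₀hom⟩ := exists_centralizer_normal hS hF hE.1
  have hK₀fix := fixExt_of_centralizerHom hK₀hom
  have hWS : W ≤ S := cElts_le'
  have : Finite W := finite_of_le hWS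
  have hWp : IsPGroup p W := isPGroup_of_le hWS hS
  have hK₀c : K₀.IsConstrained p := by
    refine (constrained_iff_no_component hWp hK₀.1.1).mpr ?_
    rintro ⟨T₀, C₀, hC₀⟩
    have hC₀F : C₀.IsComponentIn F p := ⟨.step hC₀.1 hK₀, hC₀.2⟩
    have hT₀T : T₀ ≤ T := isSubsystemOf_support (hE.2.1 T₀ C₀ hC₀F)
    have hC₀K := component_isSubsystemOf hK₀.1.1 hC₀
    have hbot : C₀.hyperfocalSubgroup p ≤ ⊥ := hyp_le fun P hP α hα _ x hx => by
      obtain ⟨g, -, hgα, hgT⟩ := hK₀fix P _ (le_iff_isMor.mp hC₀K P _ (isMor_autFun hP hα))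
      rw [← hgα x hx, hgT x (hT₀T (hP hx)), inv_mul_cancel]
      exact Subgroup.one_mem _
    exact component_not_le_center hWp hC₀ ((hC₀.2.2.1.ge.trans hbot).trans bot_le)
  have hq₀ : ProdHyp F K₀ p := ⟨hS, hF, hK₀⟩
  obtain ⟨K₁, hK₁, hK₁i, hK₁n⟩ := hq₀.exists_pResidual_normal
  have hHW : K₀.hyperfocalSubgroup p ≤ W := hyp_le_top
  have hK₁K₀ : K₁.IsNormalIn K₀ p := Cfsg.Agent.S5120.result p hWp K₀ hK₀.1.1 _ hHW
    ⟨fun n hn g => Subgroup.mem_subgroupOf.mpr
      (hyp_conj_mem g.2 (Subgroup.mem_subgroupOf.mp hn))⟩ le_rfl K₁ hK₁ hK₁i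
  have hK₁c : K₁.IsConstrained p :=
    subnormal_constrained (.step (.refl K₁ p) hK₁K₀) hp inferInstance hWp hK₀c
  have hXS := hX.1
  have h : ProdSetup F K₀ p (X ⊔ W) := ⟨hq₀, le_sup_right, sup_le hXS hWS⟩
  have : Finite ↥(X ⊔ W) := finite_of_le h.R_le
  have hstr : ∀ {P : Subgroup Ω}, P ≤ X ⊔ W → ∀ {α : MulAut P}, α ∈ h.sys.autGroup P →
      (orderOf α).Coprime p → ∀ x ∈ P, x⁻¹ * autFun α x ∈ K₀.hyperfocalSubgroup p := by
    intro P hP α hα hc x hx
    have hPS : P ≤ S := hP.trans h.R_le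
    have hs := h.sys_coprime_strict hP hα hc
    set d := x⁻¹ * autFun α x with hd
    have hdW : d ∈ W := hs.1 x hx
    obtain ⟨k, hk⟩ := hS ⟨d, hWS hdW⟩
    refine coprime_diff_mem (Q := P ⊓ W) hc hx (mul_inv_cancel_left x _).symm
      (congrArg Subtype.val hk : d ^ p ^ k = 1)
      (Subgroup.mem_inf.mpr ⟨P.mul_mem (P.inv_mem hx) (autFun_mem α hx), hdW⟩) (fun z hz => ?_)
      fun n y hy => ?_
    · have := hyp_conj_mem (F := K₀) (p := p) (W.inv_mem hdW) hz
      simpa [cj] using this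
    · have hcn := Nat.Coprime.coprime_dvd_left (orderOf_pow_dvd (x := α) n) hc
      have hsn := h.sys_coprime_strict hP (Subgroup.pow_mem _ hα n) hcn
      have : Finite ↥(P ⊓ W) := finite_of_le (inf_le_left.trans hPS)
      have hmn := hsn.2
      obtain ⟨b, hb, hbe⟩ := exists_aut hmn (hmn.img_eq_self fun z hz =>
        Subgroup.mem_inf.mpr ⟨autFun_mem _ hz.1, hmn.mem hz⟩)
      have hb1 : b ^ orderOf (α ^ n) = 1 := autFun_inj fun z hz => by
        rw [← autFun_pow_congr (inf_le_left : P ⊓ W ≤ P) (fun w hw => (hbe w hw).symm) _ z hz,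
          pow_orderOf_eq_one, autFun_one hz, autFun_one hz.1]
      rw [← hbe y hy]
      exact hyp_gen inf_le_right hb
        (Nat.Coprime.coprime_dvd_left (orderOf_dvd_of_pow_eq_one hb1) hcn) hy
  have hhyp : h.sys.hyperfocalSubgroup p = K₀.hyperfocalSubgroup p :=
    le_antisymm (hyp_le fun P hP α hα hc => hstr hP hα hc)
      (hyperfocal_le_of_sub le_sup_right h.sub_sys)
  have hK₁D : K₁.HasPPowerIndexIn h.sys p := by
    refine ⟨fun P => (hK₁i.1 P).trans (h.sub_sys P), hhyp.le, fun P hP => ?_⟩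
    rw [pResidual, MonoidHom.map_closure]
    refine (Subgroup.closure_le _).mpr ?_
    rintro _ ⟨a, ha, rfl⟩
    have hc : (orderOf (a : MulAut P)).Coprime p := by rw [Subgroup.orderOf_coe]; exact ha
    have h1 := (h.sys_coprime_strict (hP.trans (hHW.trans le_sup_right)) a.2 hc).2
    rw [inf_eq_left.mpr (hP.trans hHW)] at h1
    exact mem_autGroup_of_pPower hK₁i hP ((autGroup_eq_set (hP.trans hHW) _).mpr h1) hc
  have hDc : h.sys.IsConstrained p := constrained_of_residual hhyp h.rpgroup h.sys_saturated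
    (Cfsg.Agent.S5120.result p h.rpgroup h.sys h.sys_saturated _ (hHW.trans le_sup_right)
      ⟨fun n hn g => Subgroup.mem_subgroupOf.mpr ((stronglyClosed_le_normalizer hq₀.hyp_closed
        (h.R_le g.2) |> Subgroup.mem_normalizer_iff.mp) _ |>.mp (Subgroup.mem_subgroupOf.mp hn))⟩
      hhyp.le K₁ hK₁ hK₁D) hK₁c
  obtain ⟨DX, hDX, hDXw⟩ := h.exists_local hX hN
  have hDXc : DX.IsConstrained p :=
    constrained_normalizer h.rpgroup hDc (h.sys_fullyNormalized hX) hDX
  have : Finite ↥(normalizerIn (X ⊔ W) X) := finite_of_le normalizerIn_le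
  have hYp : IsPGroup p ↥(normalizerIn (X ⊔ W) X) := isPGroup_of_le normalizerIn_le h.rpgroup
  have hres := residual_isPPrimeResidual hYp hDXw.1
  have : Finite ↥(normalizerIn S X) := finite_of_le normalizerIn_le
  have hNp : IsPGroup p ↥(normalizerIn S X) := isPGroup_of_le normalizerIn_le hS
  rcases component_or_central hNp hDXw.2.1 hC (residual_normal hNp hDXw.2.1 hDXw hres) with
    hC' | hC'
  · exact (constrained_iff_no_component hYp hDXw.1).mp hDXc ⟨TC, C,
      .step hC'.1 (residual_normal hYp hDXw.1 (isWeaklyNormalIn_self hYp hDXw.1) hres), hC'.2⟩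
  · refine component_not_le_center hNp hC ((le_inf le_rfl fun x hx => ?_).trans hC')
    exact mem_normalizerIn.mpr
      ⟨Subgroup.mem_sup_right (hTW hx), (mem_normalizerIn.mp (hTCN hx)).2⟩

end CfsgLib.Fusion
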