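import Mathlib
import Cfsg.Agent.Lib.Fusion.LayerBalanceAux
import Cfsg.Agent.Lib.Fusion.IsoMor
import Cfsg.Agent.Lib.Fusion.GeneralizedFitting

/-!
# The layer of a normalizer system lies in the layer
-/

set_option autoImplicit false
set_option linter.unusedSectionVars false
set_option maxHeartbeats 1000000

namespace CfsgLib.Fusion

open Cfsg Cfsg.FusionSystem

variable {Ω : Type*} [Group Ω] {p : ℕ} [hp : Fact p.Prime] {S T : Subgroup Ω} {F : FusionSystem S}
  {E : FusionSystem T} [Finite S]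

theorem sysSize_lt_of_cast (hS : IsPGroup p S) (hF : F.IsSaturated p) {S' : Subgroup Ω}
    (e : S' = S) {F' : FusionSystem S'} (hsub : F'.IsSubsystemOf F) (hne : ¬ F.IsSubsystemOf F') :
    sysSize F' < sysSize F := by
  subst e
  exact sysSize_lt hS hF hsub hne

/-- A normal subsystem of the normalizer of `X` inside the layer, and the two possibilities for a
component. -/
theorem exists_container (hS : IsPGroup p S) (hF : F.IsSaturated p) (hE : E.IsLayerOf F p)
    {X : Subgroup Ω} (hX : F.IsFullyNormalized X) {N : FusionSystem (normalizerIn S X)}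
    (hN : F.IsNormalizerSystem X N) :
    ∃ (H : Subgroup Ω) (M : FusionSystem H), M.IsNormalIn N p ∧ M.IsSubsystemOf E ∧
      ∀ (TC : Subgroup Ω) (C : FusionSystem TC), C.IsComponentIn N p →
        C.IsSubsystemOf M ∨ ¬ C.IsSubsystemOf E ∧
          ∃ (U : Subgroup Ω) (K : FusionSystem U), K.IsNormalIn N p ∧ C.IsComponentIn K p ∧
            U ≤ centralizerIn (normalizerIn S X) (normalizerIn (X ⊔ T) X) ∧
            FixExt N K (normalizerIn (X ⊔ T) X) := by
  have hq : ProdHyp F E p := ⟨hS, hF, hE.1⟩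
  have h : ProdSetup F E p (X ⊔ T) := ⟨hq, le_sup_right, sup_le hX.1 hq.le_S⟩
  have : Finite ↥(X ⊔ T) := finite_of_le h.R_le
  obtain ⟨DX, hDX, hDXw⟩ := h.exists_local hX hN
  have hYp : IsPGroup p (normalizerIn (X ⊔ T) X) := isPGroup_of_le normalizerIn_le h.rpgroup
  have : Finite (normalizerIn (X ⊔ T) X) := finite_of_le (normalizerIn_le.trans h.R_le)
  have : Finite ↥(normalizerIn S X) := finite_of_le normalizerIn_le
  have hNp : IsPGroup p ↥(normalizerIn S X) := isPGroup_of_le normalizerIn_le hS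
  have hNs := hDXw.2.1
  have hHY : (DX.hyperfocalSubgroup p) ≤ (normalizerIn (X ⊔ T) X) := hyp_le_top
  obtain ⟨G', hG's, hG'i, -⟩ := exists_pPowerIndex hYp hDXw.1 hHY le_rfl
  have hG'w := weaklyNormal_pPower hNp hDXw hHY (hyp_closed_of_weaklyNormal hNp hDXw) hG's hG'i
  have : Finite (DX.hyperfocalSubgroup p) := finite_of_le (hHY.trans (normalizerIn_le.trans h.R_le))
  have hHp : IsPGroup p (DX.hyperfocalSubgroup p) := isPGroup_of_le (hHY.trans (normalizerIn_le.trans h.R_le)) hS
  have hresM := residual_isPPrimeResidual hHp hG's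
  have hMn := residual_normal hNp hNs hG'w hresM
  have hDXsys : DX.IsSubsystemOf h.sys := le_iff_isMor.mpr fun P f hf =>
    ((isMor_normalizerSystem hDX).mp hf).1
  have hHT : (DX.hyperfocalSubgroup p) ≤ T := hyp_le fun P hP α hα hc x hx =>
    (h.sys_coprime_strict (hP.trans normalizerIn_le) (autGroup_mono hDXsys hα) hc).1 x hx
  have hG'E : G'.IsSubsystemOf E := by
    refine sub_of_coprime hHp hHT hG's fun P hP a ha hc => ?_
    have h1 := (h.sys_coprime_strict (hP.1.trans (hHY.trans normalizerIn_le))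
      (autGroup_mono hDXsys (autGroup_mono hG'i.1 ha)) hc).2
    rw [inf_eq_left.mpr (hP.1.trans hHT)] at h1
    exact (autGroup_eq_set (hP.1.trans hHT) _).mpr h1
  have hME : (residual hHp hG's).IsSubsystemOf E :=
    fun P => (residual_sub hHp hG's P).trans (hG'E P)
  refine ⟨(DX.hyperfocalSubgroup p), residual hHp hG's, hMn, hME, fun TC C hC => ?_⟩
  have hTCN : TC ≤ normalizerIn S X := subnormal_le hC.1
  have hres := residual_isPPrimeResidual hYp hDXw.1
  have hWn := residual_normal hNp hNs hDXw hres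
  have hinM : TC ≤ (DX.hyperfocalSubgroup p) → C.IsSubsystemOf (residual hHp hG's) := fun hle =>
    (subnormal_saturated (component_of_le hNp hNs hC hMn hle).1 hMn.1.1).2
  rcases component_or_central hNp hNs hC hWn with hC' | hC'
  · refine Or.inl (hinM ?_)
    have hCW := (subnormal_saturated hC'.1 hWn.1.1).2
    have hTY : TC ≤ (normalizerIn (X ⊔ T) X) := subnormal_le hC'.1
    have : Finite TC := finite_of_le (hTY.trans (normalizerIn_le.trans h.R_le))
    rw [← hC.2.2.1]
    exact hyperfocal_le_of_sub hTY fun P => (hCW P).trans (residual_sub hYp hDXw.1 P)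
  · refine Or.inr ⟨fun hsub => component_not_le_center hNp hC
      ((le_inf le_rfl fun x hx => ?_).trans hC'), ?_⟩
    · exact mem_normalizerIn.mpr ⟨Subgroup.mem_sup_right (isSubsystemOf_support hsub hx),
        (mem_normalizerIn.mp (hTCN hx)).2⟩
    · obtain ⟨K, hK, hKhom⟩ := exists_centralizer_normal hNp hNs hWn
      exact ⟨_, K, hK, component_of_le hNp hNs hC hK (component_le_cElts hNp hNs hC hWn hC'),
        cElts_le, fixExt_of_centralizerHom hKhom⟩

/-- If the components of the normalizer lie in the layer, so does its layer. -/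
theorem layer_le_of_components (hS : IsPGroup p S) (hF : F.IsSaturated p) (hE : E.IsLayerOf F p)
    {X : Subgroup Ω} (hX : F.IsFullyNormalized X) {N : FusionSystem (normalizerIn S X)}
    (hN : F.IsNormalizerSystem X N)
    (h : ∀ (TC : Subgroup Ω) (C : FusionSystem TC), C.IsComponentIn N p → C.IsSubsystemOf E)
    {U : Subgroup Ω} {EN : FusionSystem U} (hEN : EN.IsLayerOf N p) : EN.IsSubsystemOf E := by
  obtain ⟨H, M, hM, hME, hall⟩ := exists_container hS hF hE hX hN
  have h1 := hEN.2.2 H M hM fun TC C hC =>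
    (hall TC C hC).resolve_right fun h' => h'.1 (h TC C hC)
  exact fun P => (h1 P).trans (hME P)

/-- Every component of the normalizer of a fully normalized subgroup lies in the layer. -/
theorem component_le_layer : ∀ {S : Subgroup Ω} [Finite S], IsPGroup p S →
    ∀ {F : FusionSystem S}, F.IsSaturated p → ∀ {T : Subgroup Ω} {E : FusionSystem T},
      E.IsLayerOf F p → ∀ {X : Subgroup Ω}, F.IsFullyNormalized X →
      ∀ {N : FusionSystem (normalizerIn S X)}, F.IsNormalizerSystem X N →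
      ∀ {TC : Subgroup Ω} {C : FusionSystem TC}, C.IsComponentIn N p → C.IsSubsystemOf E := by
  suffices hind : ∀ n m k, ∀ {S : Subgroup Ω} [Finite S], Nat.card S = n → IsPGroup p S →
      ∀ {F : FusionSystem S}, sysSize F = m → F.IsSaturated p →
      ∀ {T : Subgroup Ω} {E : FusionSystem T},
      E.IsLayerOf F p → ∀ {X : Subgroup Ω}, F.IsFullyNormalized X → n - Nat.card X = k →
      ∀ {N : FusionSystem (normalizerIn S X)}, F.IsNormalizerSystem X N →
      ∀ {TC : Subgroup Ω} {C : FusionSystem TC}, C.IsComponentIn N p → C.IsSubsystemOf E from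
    fun {S} _ hS {F} hF {T E} hE {X} hX {N} hN {TC C} hC =>
      hind _ _ _ rfl hS rfl hF hE hX rfl hN hC
  intro n
  induction n using Nat.strong_induction_on with
  | _ n ihn =>
  intro m
  induction m using Nat.strong_induction_on with
  | _ m ihm =>
  intro k
  induction k using Nat.strong_induction_on with
  | _ k ihk =>
  intro S _ hn hS F hm hF T E hE X hX hk N hN TC C hC
  have hq : ProdHyp F E p := ⟨hS, hF, hE.1⟩
  have hTS := hq.le_S
  have hXS := hX.1
  have hRS : X ⊔ T ≤ S := sup_le hXS hTS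
  have : Finite ↥(normalizerIn S X) := finite_of_le normalizerIn_le
  have hNp : IsPGroup p ↥(normalizerIn S X) := isPGroup_of_le normalizerIn_le hS
  have hNs := normalizerSystem_isSaturated hS hF hX hN
  by_contra hnot
  -- move `N_R(X)` to a fully normalized position
  set Y := normalizerIn (X ⊔ T) X with hY
  have hYS : Y ≤ S := normalizerIn_le.trans hRS
  obtain ⟨Y', hYY', hY'⟩ := exists_fullyNormalized F hYS
  obtain ⟨a, ha, haY, haN⟩ := exists_map_fullyNormalized hS hF hY' hYY'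
  have hYeq : Y = X ⊔ normalizerIn T X := hq.normalizer_sup hXS
  have hNN : normalizerIn S X ≤ normalizerIn S Y := fun s hs => by
    obtain ⟨hsS, hsn⟩ := mem_normalizerIn.mp hs
    have : Finite Y := finite_of_le hYS
    refine mem_normalizerIn.mpr ⟨hsS, Subgroup.mem_normalizer_fintype fun y hy => ?_⟩
    obtain ⟨hyR, hyn⟩ := mem_normalizerIn.mp hy
    refine mem_normalizerIn.mpr ⟨?_, Subgroup.mul_mem _ (Subgroup.mul_mem _ hsn hyn)
      (Subgroup.inv_mem _ hsn)⟩
    obtain ⟨b, hb, t, ht, rfl⟩ := hq.mem_sup_T hXS hyR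
    rw [show s * (b * t) * s⁻¹ = s * b * s⁻¹ * cj s t by rw [cj_apply]; group]
    exact Subgroup.mul_mem _
      (Subgroup.mem_sup_left ((Subgroup.mem_normalizer_iff.mp hsn b).mp hb))
      (Subgroup.mem_sup_right (hq.conj_T hsS ht))
  have haX := ha.restrict hNN
  have hXN : X ≤ normalizerIn S X := le_normalizerIn hXS
  set X' := img X a with hX'
  have hX'S : X' ≤ S := (haX.restrict hXN).img_le
  have hXX' : F.IsConj X X' := isConj_img (haX.restrict hXN)
  have hmaps : img (normalizerIn S X) a ≤ normalizerIn S X' :=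
    img_le fun s hs => mapsTo_normalizerIn haX hXN le_rfl s hs
  have hNeq : img (normalizerIn S X) a = normalizerIn S X' :=
    eq_of_le_of_card normalizerIn_le hmaps ((hX.2 X' hXX').trans haX.card_img.ge)
  have hX'n : F.IsFullyNormalized X' := ⟨hX'S, fun Q hQ => by
    rw [← hNeq, haX.card_img]
    exact hX.2 Q (isConj_trans hXX' hQ)⟩
  obtain ⟨N', hN'⟩ := Cfsg.Agent.S5096.result F X' hX'S
  have hiso : IsIso N a N' := normalizer_isIso hX hX'S haX rfl hmaps hN hN'
  have hTCN : TC ≤ normalizerIn S X := subnormal_le hC.1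
  obtain ⟨C', hC'⟩ := exists_isIso_sub (D := C) hiso hTCN
  have : Finite TC := finite_of_le hTCN
  have hC'comp : C'.IsComponentIn N' p :=
    ⟨iso_subnormal hC.1 hp inferInstance hNp hiso hC',
      hC'.quasisimple (isPGroup_of_le hTCN hNp) hC.2⟩
  have hnot' : ¬ C'.IsSubsystemOf E := by
    intro hsub
    refine hnot (le_iff_isMor.mpr fun P f hf => ?_)
    obtain ⟨f', hf', e⟩ := hC'.push P f hf
    have hf'E : IsMor E (img P a) f' := le_iff_isMor.mp hsub _ _ hf'
    have hPN : P ≤ normalizerIn S X := hf.le.trans hTCN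
    obtain ⟨ai, hai, hal, -, -⟩ := haX.inverse
    have hTN : img (normalizerIn S X) a ⊓ T ≤ img (normalizerIn S X) a := inf_le_left
    obtain ⟨k', hk', hke⟩ := hq.inv (img P a) (img (normalizerIn S X) a ⊓ T) f' ai
      (le_inf (img_mono a hPN) hf'E.le) inf_le_right hf'E
      (fun y hy => by
        obtain ⟨x, hx, rfl⟩ := (haX.restrict hPN).mem_img.mp hy
        exact Subgroup.mem_inf.mpr ⟨e x hx ▸ mem_img_of_mem a (hTCN (hf.mem hx)), hf'E.mem hy⟩)
      (hai.restrict hTN)
    rw [(haX.restrict hPN).img_comp, img_congr (f := ai ∘ a) (g := id) fun x hx => hal x (hPN hx), img_id] at hk'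
    refine hk'.congr fun x hx => ?_
    have h1 := hke (a x) (mem_img_of_mem a hx)
    rw [hal x (hPN hx), e x hx, hal _ (hTCN (hf.mem hx))] at h1
    exact h1
  have : Finite ↥(normalizerIn S X') := finite_of_le normalizerIn_le
  obtain ⟨H', M', -, hM'E, hall'⟩ := exists_container hS hF hE hX'n hN'
  obtain ⟨-, U, K, hK, hCK, hUcen, hKfix⟩ :=
    (hall' _ C' hC'comp).resolve_left fun h1 => hnot' fun P => (h1 P).trans (hM'E P)
  -- the image of `N_R(X)`
  have hNT' : img (normalizerIn T X) a = normalizerIn T X' := by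
    refine le_antisymm (img_le fun t ht => ?_) fun y hy => ?_
    · obtain ⟨htT, htn⟩ := mem_normalizerIn.mp ht
      have htN : t ∈ normalizerIn S X := mem_normalizerIn.mpr ⟨hTS htT, htn⟩
      exact mem_normalizerIn.mpr
        ⟨hq.mem_T haX htN htT, (mem_normalizerIn.mp (hmaps (mem_img_of_mem a htN))).2⟩
    · obtain ⟨hyT, hyn⟩ := mem_normalizerIn.mp hy
      obtain ⟨t, ht, rfl⟩ := haX.mem_img.mp
        (hNeq.ge (mem_normalizerIn.mpr ⟨hTS hyT, hyn⟩))
      exact mem_img_of_mem a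
        (mem_normalizerIn.mpr ⟨(hq.mem_T_iff haX ht).mp hyT, (mem_normalizerIn.mp ht).2⟩)
  have hYN : Y ≤ normalizerIn S X := inf_le_inf_right _ hRS
  have hY'eq : normalizerIn (X' ⊔ T) X' = Y' := by
    rw [hq.normalizer_sup hX'S, ← haY, hYeq, (haX.restrict (hYeq ▸ hYN)).img_sup, hNT']
  rw [hY'eq] at hUcen hKfix
  have : Finite U := finite_of_le hK.1.2.2.2.1.1
  have hTC'U : (imgT TC a) ≤ U := subnormal_le hCK.1
  have hCK' := component_isSubsystemOf hK.1.1 hCK
  have hfixC : FixExt N' C' Y' := fun P f hf => hKfix P f (le_iff_isMor.mp hCK' P f hf)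
  have hN'mor : ∀ {P f}, IsMor N' P f → IsMor F P f := fun hf =>
    ((isMor_normalizerSystem hN').mp hf).1
  have hX'Y' : X' ≤ Y' := hY'eq ▸ le_normalizerIn le_sup_left
  by_cases hTY : T ≤ Y'
  · refine not_fixExt_layer hS hF hE hX'n hN' hC'comp (fun x hx => ?_) fun P f hf => ?_
    · obtain ⟨hxS, hxc⟩ := mem_centralizerIn.mp (hUcen (hTC'U hx))
      exact mem_centralizerIn.mpr ⟨normalizerIn_le hxS, fun t ht => hxc t (hTY ht)⟩
    · obtain ⟨g, hg, hgf, hgY⟩ := hfixC P f hf
      exact ⟨g, hN'mor (hg.restrict (sup_le_sup_left hTY P)), hgf, fun t ht => hgY t (hTY ht)⟩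
  have hlt : X' < Y' := by
    refine lt_of_le_of_ne hX'Y' fun heq => hTY ?_
    by_contra hT'
    have h1 : X' < X' ⊔ T := lt_of_le_of_ne le_sup_left fun e2 => hT' <| by
      rw [← heq, e2]; exact le_sup_right
    have : Finite ↥(X' ⊔ T) := finite_of_le (sup_le hX'S hTS)
    have h2 := lt_inf_normalizer (isPGroup_of_le (sup_le hX'S hTS) hS) h1
    have h3 : X' < normalizerIn (X' ⊔ T) X' := h2
    rw [hY'eq] at h3
    exact absurd heq h3.ne
  obtain ⟨F₁, hF₁⟩ := Cfsg.Agent.S5096.result F Y' hY'.1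
  have : Finite (normalizerIn S Y') := finite_of_le normalizerIn_le
  have hS₁p : IsPGroup p (normalizerIn S Y') := isPGroup_of_le normalizerIn_le hS
  have hF₁s := normalizerSystem_isSaturated hS hF hY' hF₁
  have hF₁F : F₁.IsSubsystemOf F :=
    le_iff_isMor.mpr fun P f hf => ((isMor_normalizerSystem hF₁).mp hf).1
  have hne : ¬ F.IsSubsystemOf F₁ := by
    intro hall
    have hnorm : F.IsNormal Y' := isNormal_iff.mpr ⟨hY'.1, fun P f hf => by
      obtain ⟨-, -, -, g, hg, hgf, hgY⟩ :=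
        (isMor_normalizerSystem hF₁).mp (le_iff_isMor.mp hall P f hf)
      exact ⟨g, hg, hgf, hgY⟩⟩
    refine hTY fun t ht => ?_
    rw [← hY'eq]
    refine mem_normalizerIn.mpr ⟨Subgroup.mem_sup_right ht, ?_⟩
    have : Finite X' := finite_of_le hX'S
    refine Subgroup.mem_normalizer_fintype fun x hx => ?_
    have h1 : cj x t = t := (mem_centralizerIn.mp
      (layer_le_centralizer_core hS hF hE ht)).2 x (le_core hnorm (hX'Y' hx)) |> fun h2 => by
        rw [cj_apply, cj_fixed_iff] at h2 ⊢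
        exact h2.symm
    rw [cj_apply, cj_fixed_iff] at h1
    rw [show t * x * t⁻¹ = x by rw [← h1, mul_inv_cancel_right]]
    exact hx
  have hS₁le : normalizerIn S X' ≤ (normalizerIn S Y') := by
    intro s hs
    rw [← hNeq] at hs
    obtain ⟨s₀, hs₀, rfl⟩ := haX.mem_img.mp hs
    exact haN (mem_img_of_mem a (hNN hs₀))
  have hN1eq : normalizerIn (normalizerIn S Y') X' = normalizerIn S X' :=
    le_antisymm (inf_le_inf_right _ normalizerIn_le)
      fun s hs => mem_normalizerIn.mpr ⟨hS₁le hs, (mem_normalizerIn.mp hs).2⟩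
  have hX'S₁ : X' ≤ (normalizerIn S Y') := (le_normalizerIn hX'S).trans hS₁le
  have hX'n₁ : F₁.IsFullyNormalized X' := ⟨hX'S₁, fun Q hQ => by
    rw [hN1eq]
    obtain ⟨g, hg, hgQ⟩ := isConj_iff.mp hQ
    have hQF : F.IsConj X' Q := hgQ ▸ isConj_img (le_iff_isMor.mp hF₁F _ _ hg)
    have : Finite ↥(S ⊓ Subgroup.normalizer (Q : Set Ω)) := finite_of_le inf_le_left
    exact (Subgroup.card_le_of_le (inf_le_inf_right _ normalizerIn_le)).trans (hX'n.2 Q hQF)⟩
  obtain ⟨N₁, hN₁⟩ := Cfsg.Agent.S5096.result F₁ X' hX'S₁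
  have : Finite ↥(normalizerIn (normalizerIn S Y') X') := finite_of_le normalizerIn_le
  have hN₁p : IsPGroup p ↥(normalizerIn (normalizerIn S Y') X') := isPGroup_of_le normalizerIn_le hS₁p
  have hN₁s := normalizerSystem_isSaturated hS₁p hF₁s hX'n₁ hN₁
  have hN₁N : ∀ {P f}, IsMor N₁ P f → IsMor N' P f := by
    intro P f hf
    obtain ⟨hf1, hP, hm', g, hg, hgf, hgX⟩ := (isMor_normalizerSystem hN₁).mp hf
    exact (isMor_normalizerSystem hN').mpr ⟨le_iff_isMor.mp hF₁F _ _ hf1, hN1eq ▸ hP,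
      fun x hx => hN1eq ▸ hm' x hx, g, le_iff_isMor.mp hF₁F _ _ hg, hgf, hgX⟩
  have hcrit : ∀ {P g}, IsMor N' P g → Y' ≤ P → (∀ y ∈ Y', g y ∈ Y') → IsMor N₁ P g := by
    intro P g hg hYP hgY
    obtain ⟨hgF, hP, hgm, G, hG, hGg, hGX⟩ := (isMor_normalizerSystem hN').mp hg
    have hXP : X' ≤ P := hX'Y'.trans hYP
    have hgS₁ : IsMor F₁ P g := (isMor_normalizerSystem hF₁).mpr ⟨hgF, hP.trans hS₁le,
      fun x hx => hS₁le (hgm x hx), g, hgF.restrict (sup_le le_rfl hYP), fun _ _ => rfl,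
      (hgF.restrict hYP).img_eq_self hgY⟩
    refine (isMor_normalizerSystem hN₁).mpr ⟨hgS₁, hN1eq.symm ▸ hP,
      fun x hx => hN1eq.symm ▸ hgm x hx, g, hgS₁.restrict (sup_le le_rfl hXP), fun _ _ => rfl, ?_⟩
    rw [← img_congr fun x hx => hGg x (hXP hx)]
    exact hGX
  obtain ⟨hKw, -⟩ := id hK
  have hKN := hKw.2.2.1
  have hUN' : U ≤ normalizerIn S X' := hKw.2.2.2.1.1
  have hY'N' : Y' ≤ normalizerIn S X' := by
    rw [← hY'eq]; exact inf_le_inf_right _ (sup_le hX'S hTS)
  have hKN₁ : K.IsSubsystemOf N₁ := le_iff_isMor.mpr fun P f hf => by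
    obtain ⟨g, hg, hgf, hgY⟩ := hKfix P f hf
    exact ((hcrit hg le_sup_right fun y hy => by rw [hgY y hy]; exact hy).restrict
      le_sup_left).congr hgf
  have hclosed : N₁.StronglyClosed U := stronglyClosed_iff.mpr ⟨hN1eq.symm ▸ hUN',
    fun P f hf x hx hxU => (stronglyClosed_iff.mp hKw.2.2.2.1).2 P f (hN₁N hf) x hx hxU⟩
  have : Finite ↥(normalizerIn S X') := finite_of_le normalizerIn_le
  have hN'p : IsPGroup p ↥(normalizerIn S X') := isPGroup_of_le normalizerIn_le hS
  have hKinv := strongInv_of_isWeaklyNormalIn hN'p hKw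
  have hK₁w : K.IsWeaklyNormalIn N₁ p := ⟨hKw.1, hN₁s,
    (Cfsg.Agent.S5119.result p hN₁p N₁ hN₁s K hKN₁ hclosed).mpr (strongInv_iff.mp
      fun P Q f g hPQ hQU hf hfQ hg => hKinv P Q f g hPQ hQU hf hfQ (hN₁N hg))⟩
  have hYC : Y' ≤ centralizerIn (normalizerIn S X') U := fun y hy => by
    refine mem_centralizerIn.mpr ⟨hY'N' hy, fun u hu => ?_⟩
    have h1 : cj u y = y := (mem_centralizerIn.mp (hUcen hu)).2 y hy
    rw [cj_apply, cj_fixed_iff] at h1 ⊢
    exact h1.symm
  have hK₁n : K.IsNormalIn N₁ p := isNormalIn_of_goodExt hK₁w fun α hα => by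
    obtain ⟨g, hg, hgα, hgC⟩ := goodExt_of_normal hK hα
    have hgY : ∀ y ∈ Y', g y ∈ Y' := fun y hy => by
      have hyM : y ∈ U ⊔ centralizerIn (normalizerIn S X') U := Subgroup.mem_sup_right (hYC hy)
      have hYcl : ∀ z ∈ Y', ∀ {P : Subgroup Ω} {f : Ω → Ω}, IsMor N' P f → z ∈ P → f z ∈ Y' := by
        intro z hz P f hf hzP
        obtain ⟨-, hP, hm', G, hG, hGf, hGX⟩ := (isMor_normalizerSystem hN').mp hf
        rw [← hY'eq] at hz ⊢
        refine mem_normalizerIn.mpr ⟨?_, (mem_normalizerIn.mp (hm' z hzP)).2⟩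
        obtain ⟨b, hb, t, ht, rfl⟩ := hq.mem_sup_T hX'S (mem_normalizerIn.mp hz).1
        have hbM : b ∈ P ⊔ X' := Subgroup.mem_sup_right hb
        have htM : t ∈ P ⊔ X' := by
          have := Subgroup.mul_mem _ (Subgroup.inv_mem _ hbM)
            (Subgroup.mem_sup_left (T := X') hzP)
          rwa [inv_mul_cancel_left] at this
        rw [← hGf _ hzP, hG.map_mul hbM htM]
        exact Subgroup.mul_mem _ (Subgroup.mem_sup_left (hGX.le (mem_img_of_mem G hb)))
          (Subgroup.mem_sup_right (hq.mem_T hG htM ht))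
      exact hYcl y hy hg hyM
    have hC2 : centralizerIn (normalizerIn (normalizerIn S Y') X') U =
        centralizerIn (normalizerIn S X') U := by rw [hN1eq]
    rw [GoodExt, hC2]
    exact ⟨g, hcrit hg (hYC.trans le_sup_right) hgY, hgα, hgC⟩
  have hC₁ : C'.IsComponentIn N₁ p := ⟨.step hCK.1 hK₁n, hCK.2⟩
  obtain ⟨T₁, E₁, hE₁⟩ := exists_layer hS₁p hF₁s
  have hC₁E₁ : C'.IsSubsystemOf E₁ := by
    rcases Nat.lt_or_ge (Nat.card (normalizerIn S Y')) n with hlt' | hge
    · exact ihn _ hlt' _ _ rfl hS₁p rfl hF₁s hE₁ hX'n₁ rfl hN₁ hC₁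
    · have heq : (normalizerIn S Y') = S := eq_of_le_of_card le_rfl normalizerIn_le (hn ▸ hge)
      have hsz : sysSize F₁ < m := hm ▸ sysSize_lt_of_cast hS hF heq hF₁F hne
      exact ihm _ hsz _ (by rw [heq, hn]) hS₁p rfl hF₁s hE₁ hX'n₁ rfl hN₁ hC₁
  refine hnot' fun P => (hC₁E₁ P).trans (layer_le_of_components hS hF hE hY' hF₁ ?_ hE₁ P)
  intro T₂ C₂ hC₂
  refine ihk (n - Nat.card Y') ?_ hn hS hm hF hE hY' rfl hF₁ hC₂
  have h1 := card_lt_of_lt hY'.1 hlt
  have h2 : Nat.card X' = Nat.card X := (haX.restrict hXN).card_img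
  have h3 := Subgroup.card_le_of_le hY'.1
  omega

end CfsgLib.Fusion
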