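import Mathlib
import Cfsg.Agent.Lib.Fusion.ResidualLimit
import Cfsg.Agent.Lib.Fusion.PPrimeResidual
import Cfsg.Agent.Lib.Fusion.ResidualNormal
import Cfsg.Agent.Lib.Fusion.ResidualSolvable
import Cfsg.Agent.Lib.Fusion.PPowerWeakly
import Cfsg.Agent.Lib.Fusion.MeetAut
import Cfsg.Agent.S5120

/-!
# Existence of residual limits, and systems with the same residual limit
-/

set_option autoImplicit false
set_option linter.unusedSectionVars false

namespace CfsgLib.Fusion

open Cfsg Cfsg.FusionSystem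

universe u

variable {Ω : Type u} [Group Ω] {p : ℕ} [hp : Fact p.Prime]

/-- All residual limits of `X` have the maps of all residual limits of `Y`. -/
def SameLim (p : ℕ) {S T : Subgroup Ω} (X : FusionSystem S) (Y : FusionSystem T) : Prop :=
  ∀ ⦃U V : Subgroup Ω⦄ (A : FusionSystem U) (B : FusionSystem V),
    A.IsResidualLimitOf X p → B.IsResidualLimitOf Y p → ∀ P, A.Hom P = B.Hom P

theorem residual_isPPrimeResidual_self {H : Subgroup Ω} {D D' : FusionSystem H}
    (hD' : D.IsPPrimeResidual p D') : D'.IsPPrimeResidual p D' := by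
  refine ⟨hD'.1, ⟨fun P => le_rfl, fun P _ => Subgroup.map_subtype_le _⟩, fun D'' hs hi => ?_⟩
  refine hD'.2.2 D'' hs ⟨fun P => (hi.1 P).trans (hD'.2.1.1 P), fun P hP => ?_⟩
  rw [MonoidHom.map_closure, Subgroup.closure_le]
  rintro _ ⟨α, ⟨k, hk⟩, rfl⟩
  have h1 : (α : MulAut P) ∈ D'.autGroup P :=
    hD'.2.1.2 P hP ⟨α, Subgroup.subset_closure ⟨k, hk⟩, rfl⟩
  refine hi.2 P hP ⟨⟨α, h1⟩, Subgroup.subset_closure ⟨k, ?_⟩, rfl⟩
  rw [Subgroup.orderOf_mk]
  rwa [Subgroup.orderOf_coe]

/-- Residual limits exist. -/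
theorem exists_limit : ∀ {S : Subgroup Ω} [Finite S], IsPGroup p S → ∀ {F : FusionSystem S},
    F.IsSaturated p → ∃ (U : Subgroup Ω) (A : FusionSystem U), A.IsResidualLimitOf F p := by
  suffices h : ∀ n, ∀ {S : Subgroup Ω} [Finite S], Nat.card S = n → IsPGroup p S →
      ∀ {F : FusionSystem S}, F.IsSaturated p →
        ∃ (U : Subgroup Ω) (A : FusionSystem U), A.IsResidualLimitOf F p from
    fun {S} _ hS {F} hF => h _ rfl hS hF
  intro n
  induction n using Nat.strong_induction_on with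
  | _ n ih =>
  intro S _ hn hS F hF
  subst hn
  obtain ⟨D, hDs, hDi, -⟩ := exists_pPowerIndex hS hF hyp_le_top (le_refl (F.hyperfocalSubgroup p))
  have : Finite (F.hyperfocalSubgroup p) := finite_of_le hyp_le_top
  have hHp : IsPGroup p (F.hyperfocalSubgroup p) := isPGroup_of_le hyp_le_top hS
  have hR := residual_isPPrimeResidual hHp hDs
  set D' := residual hHp hDs
  by_cases e : F.hyperfocalSubgroup p = S
  · by_cases e' : D'.hyperfocalSubgroup p = F.hyperfocalSubgroup p
    · exact ⟨_, D', IsResidualLimitOf.step F p D D' ⟨hDs, hDi⟩ hR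
        (IsResidualLimitOf.stable D' p e' (residual_isPPrimeResidual_self hR))⟩
    · have hlt : D'.hyperfocalSubgroup p < S :=
        lt_of_lt_of_le (lt_of_le_of_ne hyp_le_top e') hyp_le_top
      have hD's := hR.1
      obtain ⟨D₂, hD₂, hD₂i, -⟩ :=
        exists_pPowerIndex hHp hD's hyp_le_top (le_refl (D'.hyperfocalSubgroup p))
      have : Finite (D'.hyperfocalSubgroup p) := finite_of_le hlt.le
      have hK : IsPGroup p (D'.hyperfocalSubgroup p) := isPGroup_of_le hlt.le hS
      obtain ⟨U, A, hA⟩ := ih _ (card_lt_of_lt le_rfl hlt) rfl hK (residual_saturated hK hD₂)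
      exact ⟨U, A, IsResidualLimitOf.step F p D D' ⟨hDs, hDi⟩ hR
        (IsResidualLimitOf.step D' p D₂ _ ⟨hD₂, hD₂i⟩ (residual_isPPrimeResidual hK hD₂) hA)⟩
  · obtain ⟨U, A, hA⟩ := ih _ (card_lt_of_lt le_rfl (lt_of_le_of_ne hyp_le_top e)) rfl hHp hR.1
    exact ⟨U, A, IsResidualLimitOf.step F p D D' ⟨hDs, hDi⟩ hR hA⟩

theorem SameLim.symm {S T : Subgroup Ω} {X : FusionSystem S} {Y : FusionSystem T}
    (h : SameLim p X Y) : SameLim p Y X :=
  fun _ _ A B hA hB P => (h B A hB hA P).symm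

theorem sameLim_refl {S : Subgroup Ω} [Finite S] (hS : IsPGroup p S) (X : FusionSystem S) :
    SameLim p X X :=
  fun _ _ _ _ hA hB P => limit_unique hA hB hS P

theorem SameLim.trans {R S T : Subgroup Ω} [Finite S] (hS : IsPGroup p S) {X : FusionSystem R}
    {Y : FusionSystem S} {Z : FusionSystem T} (hY : Y.IsSaturated p) (h₁ : SameLim p X Y)
    (h₂ : SameLim p Y Z) : SameLim p X Z := by
  intro U V A C hA hC P
  obtain ⟨W, B, hB⟩ := exists_limit hS hY
  exact (h₁ A B hA hB P).trans (h₂ B C hB hC P)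

/-- A subsystem of `p`-power index has the same residual limit. -/
theorem sameLim_pPower {S T : Subgroup Ω} [Finite S] (hS : IsPGroup p S) (hTS : T ≤ S)
    {F : FusionSystem S} {E : FusionSystem T} (hE : E.IsSaturated p)
    (hEi : E.HasPPowerIndexIn F p) : SameLim p F E :=
  fun _ _ _ _ hA hB P => limit_unique hA (limit_of_pPower hS hTS hE hEi hB) hS P

/-- Saturated subsystems of index prime to `p` have the same residual limit. -/
theorem sameLim_pPrime : ∀ {S : Subgroup Ω} [Finite S], IsPGroup p S →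
    ∀ {F E : FusionSystem S}, F.IsSaturated p → E.IsSaturated p → E.HasPrimeToPIndexIn F p →
      SameLim p F E := by
  suffices h : ∀ n, ∀ {S : Subgroup Ω} [Finite S], Nat.card S = n → IsPGroup p S →
      ∀ {F E : FusionSystem S}, F.IsSaturated p → E.IsSaturated p → E.HasPrimeToPIndexIn F p →
        SameLim p F E from fun {S} _ hS {F E} => h _ rfl hS
  intro n
  induction n using Nat.strong_induction_on with
  | _ n ih =>
  intro S _ hn hS
  subst hn
  suffices key : ∀ {F : FusionSystem S}, F.IsSaturated p → ∀ R, F.IsPPrimeResidual p R →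
      SameLim p F R by
    intro F E hF hE hi
    have hR := residual_isPPrimeResidual hS hF
    have hRE : E.IsPPrimeResidual p (residual hS hF) := by
      have hsub : (residual hS hF).IsSubsystemOf E := hR.2.2 E hE hi
      refine ⟨hR.1, ⟨hsub, fun P hP => ?_⟩, fun D hD hDi => hR.2.2 D hD
        ⟨fun P => (hDi.1 P).trans (hi.1 P), fun P hP => ?_⟩⟩
      · rw [MonoidHom.map_closure, Subgroup.closure_le]
        rintro _ ⟨α, ⟨k, hk⟩, rfl⟩
        refine hR.2.1.2 P hP ⟨⟨α, autGroup_mono hi.1 α.2⟩, Subgroup.subset_closure ⟨k, ?_⟩, rfl⟩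
        rw [Subgroup.orderOf_mk]
        rwa [Subgroup.orderOf_coe]
      · rw [MonoidHom.map_closure, Subgroup.closure_le]
        rintro _ ⟨α, ⟨k, hk⟩, rfl⟩
        have h1 : (α : MulAut P) ∈ E.autGroup P :=
          hi.2 P hP ⟨α, Subgroup.subset_closure ⟨k, hk⟩, rfl⟩
        refine hDi.2 P hP ⟨⟨α, h1⟩, Subgroup.subset_closure ⟨k, ?_⟩, rfl⟩
        rw [Subgroup.orderOf_mk]
        rwa [Subgroup.orderOf_coe]
    exact (key hF _ hR).trans hS hR.1 (key hE _ hRE).symm
  intro F hF R hR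
  have hRF := hR.2.1
  by_cases e : F.hyperfocalSubgroup p = S
  · intro U V A B hA hB P
    exact limit_unique hA (limit_of_step F F R e.symm hF
      ⟨fun _ => le_rfl, hyp_le_top, fun P _ => Subgroup.map_subtype_le _⟩ hR hB) hS P
  set H := F.hyperfocalSubgroup p with hHdef
  have hHS : H ≤ S := hyp_le_top
  have : Finite H := finite_of_le hHS
  have hHp : IsPGroup p H := isPGroup_of_le hHS hS
  obtain ⟨D, hDs, hDi, -⟩ := exists_pPowerIndex hS hF hHS (le_refl H)
  have hRh : R.hyperfocalSubgroup p ≤ H := hyperfocal_le_of_sub le_rfl hRF.1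
  obtain ⟨G, hGs, hGi, -⟩ := exists_pPowerIndex hS hR.1 hHS hRh
  have hHn : (H.subgroupOf S).Normal := ⟨fun m hm s => Subgroup.mem_subgroupOf.mpr
    (hyp_conj_mem s.2 (Subgroup.mem_subgroupOf.mp hm))⟩
  have hDn : D.IsNormalIn F p := Cfsg.Agent.S5120.result p hS F hF H hHS hHn le_rfl D hDs hDi
  have hHsc : F.StronglyClosed H := hDn.1.2.2.2.1
  have hGw : G.IsWeaklyNormalIn F p := weaklyNormal_pPower hS
    (residual_normal hS hF (isWeaklyNormalIn_self hS hF) hR).1 hHS hHsc hGs hGi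
  have hinv := strongInv_of_isWeaklyNormalIn hS hGw
  have hGD : G.IsSubsystemOf D := sub_of_coprime hHp le_rfl hGs fun P hP a ha hc =>
    mem_autGroup_of_pPower hDi hP.1 (autGroup_mono hRF.1 (autGroup_mono hGi.1 ha)) hc
  have hidx : G.HasPrimeToPIndexIn D p := by
    refine ⟨hGD, fun P hP => ?_⟩
    rw [MonoidHom.map_closure, Subgroup.closure_le]
    rintro _ ⟨α₀, ⟨k, hk⟩, rfl⟩
    set α : MulAut P := (α₀ : MulAut P)
    have hα : α ∈ D.autGroup P := α₀.2
    have hk' : orderOf α = p ^ k := by rw [Subgroup.orderOf_coe]; exact hk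
    obtain ⟨Q, hPQ, hQn⟩ := exists_fullyNormalized D hP
    obtain ⟨f, hf, hfi⟩ := isConj_iff.mp hPQ
    have hQH : Q ≤ H := hQn.1
    obtain ⟨e, he, heD, -⟩ := exists_transport hf hfi
    have heF : e α ∈ F.autGroup Q := autGroup_mono hDi.1 ((heD α).mp hα)
    have heR : e α ∈ R.autGroup Q := hRF.2 Q (hQH.trans hHS)
      ⟨⟨e α, heF⟩, Subgroup.subset_closure ⟨k, by
        rw [Subgroup.orderOf_mk, MulEquiv.orderOf_eq, hk']⟩, rfl⟩
    have hfin := finite_mulAut hQH
    have hA := (isFullyAutomized_iff.mp (isFullyAutomized_of_normalized hHp hDs hQn).1).2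
    have hHR : autInducedBy H Q ≤ R.autGroup Q :=
      (autInducedBy_le G hQH).trans (autGroup_mono hGi.1)
    have hM : IsSylIn p (autInducedBy H Q) (D.autGroup Q ⊓ R.autGroup Q) :=
      ⟨le_inf hA.1 hHR, hA.2.1, fun C hC hle hC' => hA.2.2 C hC hle (hC'.trans inf_le_left)⟩
    have heG : e α ∈ G.autGroup Q := le_of_sylIn_of_coprime hM (autInducedBy_le G hQH)
      (fun b hb hc => mem_autGroup_of_pPower hGi hQH hb.2 hc) ⟨(heD α).mp hα, heR⟩
    obtain ⟨g, hg, hgl, -, hgi⟩ := hf.inverse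
    rw [hfi] at hg hgi
    obtain ⟨k', hk'', hke⟩ := hinv Q Q (autFun (e α)) g le_rfl hQH (isMor_autFun hQH heG)
      (fun x hx => autFun_mem _ hx) (le_iff_isMor.mp hDi.1 _ _ hg)
    rw [hgi] at hk''
    refine (autGroup_eq_set hP α).mpr (hk''.congr fun x hx => ?_)
    have h1 := hke (f x) (hfi.le (mem_img_of_mem f hx))
    rw [hgl x hx, he α x hx, hgl _ (autFun_mem α hx)] at h1
    exact h1
  exact ((sameLim_pPower hS hHS hDs hDi).trans hHp hDs
    (ih _ (card_lt_of_lt le_rfl (lt_of_le_of_ne hHS e)) rfl hHp hDs hGs hidx)).trans hHp hGs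
      (sameLim_pPower hS hHS hGs hGi).symm

end CfsgLib.Fusion

namespace CfsgLib.Fusion

open Cfsg Cfsg.FusionSystem

variable {Ω : Type*} [Group Ω]

/-- A residual limit is a subsystem. -/
theorem limit_sub {U S : Subgroup Ω} {A : FusionSystem U} {F : FusionSystem S} {q : ℕ}
    (hA : A.IsResidualLimitOf F q) : A.IsSubsystemOf F := by
  induction hA with
  | stable => exact fun _ => le_rfl
  | step F p D D' hD hD' _ ih => exact fun P => ((ih P).trans (hD'.2.1.1 P)).trans (hD.2.1 P)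

end CfsgLib.Fusion
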