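import Mathlib
import Cfsg.Agent.Lib.Fusion.MaxClassSmallEssential

/-!
# No elementary essential subgroup of order `p ^ 3` over a large group of maximal class
-/

set_option autoImplicit false
set_option linter.unusedSectionVars false

namespace CfsgLib.Fusion.MaxClassSmall

open Cfsg Cfsg.FusionSystem CfsgLib.Fusion
open CfsgLib.PGroups.Pearl CfsgLib.FgsC.MaxClassSection
open CfsgLib.PGroups CfsgLib.PGroups.TwoStepConst CfsgLib.PGroups.MaxClassWeights
open scoped commutatorElement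

universe u

variable {Ω : Type u} [Group Ω] {S : Subgroup Ω} [Finite S] {p n : ℕ} [hp : Fact p.Prime]
  {F : FusionSystem S}

/-- Exponents only matter modulo the order. -/
theorem zpow_eq {y : Ω} (hy : y ^ p = 1) {a b : ℤ} (h : (a : ZMod p) = b) : y ^ a = y ^ b := by
  obtain ⟨k, hk⟩ := (ZMod.intCast_eq_intCast_iff_dvd_sub a b p).1 h
  rw [show b = a + p * k by omega, zpow_add, zpow_mul, zpow_natCast, hy, one_zpow, mul_one]

theorem cast_eq_zero {k : ℤ} {y : Ω} (hy : y ^ p = 1) (hk : y ^ k ≠ 1) : (k : ZMod p) ≠ 0 :=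
  fun h => hk (by rw [zpow_eq hy (b := 0) (by simpa using h), zpow_zero])

/-- An abelian group over a subgroup of index `p`. -/
theorem span_two {U B : Subgroup Ω} {k : ℕ} (hUB : U ≤ B)
    (hBc : ∀ a ∈ B, ∀ b ∈ B, a * b = b * a) (hU : Nat.card U = p ^ k)
    (hB : Nat.card B = p ^ (k + 1)) {c : Ω} (hc : c ∈ B) (hcU : c ∉ U) :
    ∀ y ∈ B, ∃ u ∈ U, ∃ j : ℤ, y = u * c ^ j := by
  intro y hy
  have : Finite B := Nat.finite_of_card_ne_zero (hB ▸ pow_ne_zero _ hp.1.ne_zero)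
  letI : CommGroup B :=
    { (inferInstance : Group B) with mul_comm := fun a b => Subtype.ext (hBc a a.2 b b.2) }
  set T := U.subgroupOf B ⊔ Subgroup.zpowers (⟨c, hc⟩ : B)
  have hT : T = ⊤ := by
    refine Subgroup.eq_top_of_le_card _ ?_
    obtain ⟨j, hj, hjc⟩ := (Nat.dvd_prime_pow hp.1).1
      (hB ▸ Subgroup.card_subgroup_dvd_card T)
    have h1 : Nat.card (U.subgroupOf B) < Nat.card T := by
      refine lt_of_le_of_ne (Subgroup.card_le_of_le le_sup_left) fun h => hcU ?_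
      have h2 : (⟨c, hc⟩ : B) ∈ U.subgroupOf B := by
        rw [Subgroup.eq_of_le_of_card_ge le_sup_left h.ge]
        exact Subgroup.mem_sup_right (Subgroup.mem_zpowers _)
      exact h2
    rw [Nat.card_congr (Subgroup.subgroupOfEquivOfLe hUB).toEquiv, hU, hjc,
      Nat.pow_lt_pow_iff_right hp.1.one_lt] at h1
    rw [hB, hjc, show j = k + 1 by omega]
  obtain ⟨u, hu, _, ⟨j, rfl⟩, huj⟩ := Subgroup.mem_sup.1 (hT ▸ Subgroup.mem_top (⟨y, hy⟩ : B))
  exact ⟨u, hu, j, (congrArg Subtype.val huj).symm.trans (by simp)⟩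

/-- The setting: an elementary abelian essential subgroup of order `p ^ 3`. -/
structure Setting (F : FusionSystem S) (p n : ℕ) (E : Subgroup Ω) : Prop where
  p5 : 5 ≤ p
  pgroup : IsPGroup p S
  sat : F.IsSaturated p
  mc : MC ↥S p n
  n5 : 5 ≤ n
  ess : F.IsEssential p E
  card : Nat.card E = p ^ 3
  elem : Cfsg.IsElementaryAbelian p E

variable {E : Subgroup Ω} (T : Setting F p n E)
include T

theorem Setting.cardS : Nat.card S = p ^ n := T.mc.card

theorem Setting.comm : ∀ a ∈ E, ∀ b ∈ E, a * b = b * a := fun a ha b hb =>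
  congrArg Subtype.val (T.elem.1.is_comm.comm ⟨a, ha⟩ ⟨b, hb⟩)

theorem Setting.commute_bot {k : ℕ} (hk : n - 1 ≤ k) {x y : Ω} (h : ⁅x, y⁆ ∈ lay S k) :
    Commute x y :=
  commutatorElement_eq_one_iff_commute.1 (Subgroup.mem_bot.1 (lay_bot T.mc hk ▸ h))

theorem Setting.center_le : lay S (n - 2) ≤ E := fun z hz =>
  centric_centralizer_le T.ess.1 (mem_centralizerIn.2 ⟨lay_le _ hz, fun y hy =>
    cj_fixed_iff.2 (T.commute_bot (k := n - 2 + 1) (by omega) (lay_comm hz (T.ess.1.1 hy))).eq⟩)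

theorem Setting.X_comm : ∀ a ∈ lay S (n - 4), ∀ b ∈ lay S (n - 4), a * b = b * a := by
  rintro _ ⟨a, ha, rfl⟩ _ ⟨b, hb, rfl⟩
  have h5 := T.n5
  obtain ⟨y, hy, hy'⟩ := exists_layer T.mc (i := n - 4) (by omega)
  have hdeep : ∀ u ∈ lcsT ↥S (n - 4), ∀ v ∈ lcsT ↥S (n - 4 + 1), v * u = u * v :=
    fun u hu v hv => by
      refine commutatorElement_eq_one_iff_mul_comm.1 (Subgroup.mem_bot.1 ?_)
      rw [← T.mc.lcs_eq_bot (i := n - 1) le_rfl]
      exact comm_add hv hu (by omega)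
  have hCy : lcsT ↥S (n - 4) ≤ Subgroup.centralizer ({y} : Set ↥S) :=
    T.mc.layer_le (by omega) (by omega)
      (fun v hv => Subgroup.mem_centralizer_singleton_iff.2 (hdeep y hy v hv)) hy hy'
      (Subgroup.mem_centralizer_singleton_iff.2 rfl)
  have hCa : lcsT ↥S (n - 4) ≤ Subgroup.centralizer ({a} : Set ↥S) :=
    T.mc.layer_le (by omega) (by omega)
      (fun v hv => Subgroup.mem_centralizer_singleton_iff.2 (hdeep a ha v hv)) hy hy'
      (Subgroup.mem_centralizer_singleton_iff.2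
        (Subgroup.mem_centralizer_singleton_iff.1 (hCy ha)).symm)
  exact congrArg Subtype.val (Subgroup.mem_centralizer_singleton_iff.1 (hCa hb)).symm

theorem Setting.IC_or (y : Ω) (hy : y ∈ E) : IC S (n - 3) y ∨ IC S 1 y := by
  have h5 := T.n5
  by_contra hcon
  push Not at hcon
  obtain ⟨hM, hA⟩ := hcon
  have hyS := T.ess.1.1 hy
  set s : S := ⟨y, hyS⟩
  have hMs : s ∉ twoStepCentralizer ↥S (n - 3) := fun h => hM ⟨hyS, h⟩
  have hs1 : s ∉ lcsT ↥S 1 := fun h => hMs (lcs_one_le _ h)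
  have hE : Elt p n s := CfsgLib.PGroups.MaxClassPower.elt_of_avoid T.mc hs1 fun j hj hjn h => by
    rcases Nat.lt_or_ge j (n - 3) with h' | h'
    · exact hA ⟨hyS, twoStep_const j T.mc hj (by omega) ▸ h⟩
    · exact hMs ((show j = n - 3 by omega) ▸ h)
  have hle : E.subgroupOf S ≤ Subgroup.centralizer ({s} : Set ↥S) := fun a ha =>
    Subgroup.mem_centralizer_singleton_iff.2 (Subtype.ext (T.comm a ha y hy))
  have h1 := Subgroup.card_le_of_le hle
  rw [hE.cent, Nat.card_congr (Subgroup.subgroupOfEquivOfLe T.ess.1.1).toEquiv, T.card] at h1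
  exact absurd ((Nat.pow_le_pow_iff_right hp.1.one_lt).1 h1) (by omega)

theorem Setting.cases : (∀ y ∈ E, IC S (n - 3) y) ∨
    ((∀ y ∈ E, IC S 1 y) ∧ ∃ e ∈ E, ¬ IC S (n - 3) e) := by
  by_cases h : ∀ y ∈ E, IC S (n - 3) y
  · exact Or.inl h
  push Not at h
  obtain ⟨e, he, heM⟩ := h
  refine Or.inr ⟨fun y hy => ?_, e, he, heM⟩
  have heA := (T.IC_or e he).resolve_left heM
  rcases T.IC_or y hy with hM | hA
  · have hye : ¬ IC S (n - 3) (y * e) := fun ⟨h, h'⟩ => heM ⟨T.ess.1.1 he, by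
      have h2 := Subgroup.mul_mem _ (Subgroup.inv_mem _ hM.2) h'
      rwa [show (⟨y, hM.1⟩ : S)⁻¹ * ⟨y * e, h⟩ = ⟨e, T.ess.1.1 he⟩ from
        Subtype.ext (inv_mul_cancel_left y e)] at h2⟩
    obtain ⟨h, h'⟩ := (T.IC_or _ (E.mul_mem hy he)).resolve_left hye
    refine ⟨T.ess.1.1 hy, ?_⟩
    have h2 := Subgroup.mul_mem _ h' (Subgroup.inv_mem _ heA.2)
    rwa [show (⟨y * e, h⟩ : S) * ⟨e, heA.1⟩⁻¹ = ⟨y, T.ess.1.1 hy⟩ from
      Subtype.ext (mul_inv_cancel_right y e)] at h2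
  · exact hA

theorem Setting.second_le (h : ∀ y ∈ E, IC S (n - 3) y) : lay S (n - 3) ≤ E := fun z hz =>
  centric_centralizer_le T.ess.1 (mem_centralizerIn.2 ⟨lay_le _ hz, fun y hy =>
    cj_fixed_iff.2 (T.commute_bot (k := n - 3 + 2) (by omega) (lay_comm_IC hz (h y hy))).eq⟩)

theorem Setting.normalizer_le : Nat.card (normalizerIn S E) ≤ p ^ 4 := by
  have h5 := T.n5
  have hZc : Nat.card (lay S (n - 2)) = p := by
    rw [lay_card T.mc (by omega) (by omega), show n - 1 - (n - 2) = 1 by omega, pow_one]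
  have hnorm : ∀ g ∈ normalizerIn S E, ∀ x ∈ E, cj g x ∈ E := fun g hg x hx =>
    (Subgroup.mem_normalizer_iff.1 (mem_normalizerIn.1 hg).2 x).1 hx
  rcases T.cases with h | ⟨h, e, he, heM⟩
  · refine card_normalizer_le T.pgroup T.sat T.ess T.card T.elem
      (lay_anti (by omega : n - 3 ≤ n - 2)) (T.second_le h) hZc ?_
      (fun g hg x hx => lay_conj (normalizerIn_le hg) hx)
      (fun g hg x hx => lay_conj (normalizerIn_le hg) hx)
    rw [lay_card T.mc (by omega) (by omega), show n - 1 - (n - 3) = 2 by omega]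
  · refine card_normalizer_le T.pgroup T.sat T.ess T.card T.elem
      (U₂ := E ⊓ lay S 1) (le_inf T.center_le (lay_anti (by omega))) inf_le_left hZc ?_
      (fun g hg x hx => lay_conj (normalizerIn_le hg) hx)
      (fun g hg x hx => ⟨hnorm g hg x hx.1, lay_conj (normalizerIn_le hg) hx.2⟩)
    set A := (twoStepCentralizer ↥S 1).map S.subtype
    have hEA : E ≤ A := fun y hy => by
      obtain ⟨hyS, hy'⟩ := h y hy
      exact ⟨_, hy', rfl⟩
    have hL : lay S 1 ≤ A := Subgroup.map_mono (lcs_one_le 1)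
    have hAS : A ≤ S := Subgroup.map_subtype_le _
    have := finite_of_le hAS
    have := finite_of_le T.ess.1.1
    have e1 := Subgroup.relIndex_mul_relIndex ⊥ (lay S 1) A bot_le hL
    rw [Subgroup.relIndex_bot_left, Subgroup.relIndex_bot_left, lay_card T.mc le_rfl (by omega),
      Subgroup.card_map_of_injective S.subtype_injective, card_twoStep T.mc le_rfl (by omega),
      show p ^ (n - 1) = p ^ (n - 1 - 1) * p by rw [← pow_succ]; congr 1; omega] at e1
    have e2 : (lay S 1).relIndex A = p := Nat.eq_of_mul_eq_mul_left (pow_pos hp.1.pos _) e1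
    have e3 := Subgroup.relIndex_le_of_le_right (H := lay S 1) hEA (by rw [e2]; exact hp.1.ne_zero)
    have e4 := Subgroup.relIndex_mul_relIndex ⊥ (E ⊓ lay S 1) E bot_le inf_le_left
    rw [Subgroup.relIndex_bot_left, Subgroup.relIndex_bot_left, T.card, inf_comm,
      Subgroup.inf_relIndex_right] at e4
    obtain ⟨j, hj, hjc⟩ := dvd_pow_cases (inf_le_left : E ⊓ lay S 1 ≤ E) T.card
    have hj3 : j ≠ 3 := fun hj3 => by
      have heq := eq_of_le_of_card T.ess.1.1 (inf_le_left : E ⊓ lay S 1 ≤ E)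
        (by rw [T.card, hjc, hj3])
      obtain ⟨hs, hs'⟩ := mem_lay'.1 (heq.ge he).2
      exact heM ⟨hs, lcs_one_le _ hs'⟩
    rw [inf_comm, hjc] at e4
    have e5 : p ^ 3 ≤ p ^ j * p := e4 ▸ Nat.mul_le_mul_left _ (e3.trans e2.le)
    rw [← pow_succ, Nat.pow_le_pow_iff_right hp.1.one_lt] at e5
    rw [hjc, show j = 2 by omega]

theorem Setting.X_le : lay S (n - 4) ≤ normalizerIn S E := by
  have h5 := T.n5
  intro x hx
  refine mem_norm T.ess.1.1 (lay_le _ hx) fun y hy => ?_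
  rcases T.cases with h | ⟨h, -⟩
  · refine T.second_le h ?_
    rw [show n - 3 = n - 4 + 1 by omega]
    exact lay_comm hx (T.ess.1.1 hy)
  · refine T.center_le ?_
    rw [show n - 2 = n - 4 + 2 by omega]
    refine lay_comm_IC hx ?_
    obtain ⟨hyS, hy'⟩ := h y hy
    exact ⟨hyS, (twoStep_const (n - 4) T.mc (by omega) (by omega)).symm ▸ hy'⟩

/-- The shape of the normaliser of a conjugate. -/
theorem Setting.shape {E' : Subgroup Ω} (hconj : F.IsConj E E')
    (hX : lay S (n - 4) ≤ normalizerIn S E') :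
    Nat.card ↥(E' ⊓ lay S (n - 4)) = p ^ 2 ∧ normalizerIn S E' = E' ⊔ lay S (n - 4) ∧
      Nat.card (normalizerIn S E') = p ^ 4 ∧
      ∀ Q, F.IsConj E' Q → Nat.card (normalizerIn S Q) ≤ p ^ 4 := by
  have h5 := T.n5
  have hmax : ∀ Q, F.IsConj E' Q → Nat.card (normalizerIn S Q) ≤ p ^ 4 := fun Q hQ =>
    (T.ess.2.1.2 Q (isConj_trans hconj hQ)).trans T.normalizer_le
  have hE'S := (isConj_le hconj).2
  have hcX : Nat.card (lay S (n - 4)) = p ^ 3 := by
    rw [lay_card T.mc (by omega) (by omega), show n - 1 - (n - 4) = 3 by omega]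
  have hne : E' ≠ lay S (n - 4) := fun h => by
    have h1 := hmax E' (isConj_refl F hE'S)
    rw [h, lay_normalizer, T.cardS] at h1
    exact absurd ((Nat.pow_le_pow_iff_right hp.1.one_lt).1 h1) (by omega)
  obtain ⟨h1, h2, h3⟩ := card_inf_of_sup T.pgroup ((isConj_card hconj).trans T.card) hcX
    normalizerIn_le (le_normalizerIn hE'S) hX (hmax E' (isConj_refl F hE'S))
    (fun g hg => (mem_normalizerIn.1 ((lay_normalizer (S := S) (n - 4)).symm ▸
      normalizerIn_le hg : g ∈ normalizerIn S (lay S (n - 4)))).2) hne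
  exact ⟨h1, h2.symm, h3, hmax⟩

theorem Setting.exists_x : ∃ x ∈ lay S (n - 4), x ∉ E ∧
    normalizerIn S E ≤ E ⊔ Subgroup.zpowers x := by
  obtain ⟨-, hN, hNc, -⟩ := T.shape (isConj_refl F T.ess.1.1) T.X_le
  obtain ⟨x, hx, hxE⟩ : ∃ x ∈ lay S (n - 4), x ∉ E := by
    by_contra! h
    rw [hN, sup_eq_left.2 h, T.card] at hNc
    exact absurd (Nat.pow_right_injective hp.1.two_le hNc) (by omega)
  refine ⟨x, hx, hxE, ?_⟩
  have hle : E ⊔ Subgroup.zpowers x ≤ normalizerIn S E :=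
    sup_le (le_normalizerIn T.ess.1.1) (Subgroup.zpowers_le.2 (T.X_le hx))
  have hsS : E ⊔ Subgroup.zpowers x ≤ S := hle.trans normalizerIn_le
  have := finite_of_le hsS
  have hlt : E < E ⊔ Subgroup.zpowers x := lt_of_le_of_ne le_sup_left fun h =>
    hxE (h ▸ Subgroup.mem_sup_right (Subgroup.mem_zpowers x))
  refine (eq_of_le_of_card normalizerIn_le hle ?_).ge
  rw [hNc]
  exact pow_succ_le hsS T.pgroup (k := 3) (T.card ▸ card_lt_of_lt hsS hlt)

theorem Setting.pow_p {y : Ω} (hy : y ∈ E) : y ^ p = 1 := T.elem.2 y hy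

/-- The case where the bottom of the normaliser is central. -/
theorem Setting.false_of_central
    (hZ : ∀ y ∈ E, ∀ x ∈ lay S (n - 4), ⁅x, y⁆ ∈ lay S (n - 2)) : False := by
  have h5 := T.n5
  have hp5 := T.p5
  set X := lay S (n - 4) with hX
  set Z := lay S (n - 2) with hZdef
  obtain ⟨hWc, hN, hNc, hmax⟩ := T.shape (isConj_refl F T.ess.1.1) T.X_le
  obtain ⟨x, hx, hxE, hNle⟩ := T.exists_x
  have hZc : Nat.card Z = p := by
    rw [lay_card T.mc (by omega) (by omega), show n - 1 - (n - 2) = 1 by omega, pow_one]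
  have hZW : Z ≤ E ⊓ X := le_inf T.center_le (lay_anti (by omega))
  have hmem : ∀ y ∈ E, y⁻¹ * cj x y ∈ Z := fun y hy => by
    have h1 := hZ y hy x hx
    have h2 : ⁅x, y⁆ * y = y * ⁅x, y⁆ := (T.commute_bot (k := n - 2 + 1) (by omega)
      (lay_comm h1 (T.ess.1.1 hy))).eq
    have h3 : cj x y = ⁅x, y⁆ * y := by rw [cj_apply, commutatorElement_def]; group
    rw [h3, h2, inv_mul_cancel_left]
    exact h1
  obtain ⟨f, hf, hfE, c, hc, hcZ, hfc, hfz, hfy, hfx⟩ := exists_inv T.pgroup T.sat T.ess T.card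
    T.elem (T.X_le hx) hxE (U₁ := Z) (U₂ := E ⊓ X) hZW inf_le_left hZc hWc
    (fun y hy => by rw [cj_apply, T.X_comm x hx y hy.2, mul_inv_cancel_right]) hmem
  have hWspan := span_two hZW (fun a ha b hb => T.comm a ha.1 b hb.1)
    (k := 1) (by rw [hZc, pow_one]) hWc hc hcZ
  obtain ⟨ψ, hψ, hψe, hψN⟩ :=
    exists_ext T.pgroup T.sat T.ess T.comm (T.X_le hx) hNle hf hfE hfx
  have hψc : ψ c = c := by rw [hψe c hc.1, hfc]
  have hψz : ∀ z ∈ Z, ψ z = z⁻¹ := fun z hz => by rw [hψe z (T.center_le hz), hfz z hz]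
  have hXN : X ≤ normalizerIn S E := T.X_le
  have hψX' : IsMor F X ψ := hψ.restrict hXN
  have hψW : ∀ w ∈ E ⊓ X, ψ w ∈ E ⊓ X := fun w hw => by
    obtain ⟨u, hu, j, rfl⟩ := hWspan w hw
    rw [hψX'.map_mul (hZW hu).2 (X.zpow_mem hc.2 j), hψX'.map_zpow hc.2, hψc, hψz u hu]
    exact mul_mem (inv_mem (hZW hu)) (zpow_mem hc j)
  have hψX : ∀ y ∈ X, ψ y ∈ X := fix_X T.pgroup T.cardS h5 T.ess.1.1
    (centric_centralizer_le T.ess.1) T.comm T.card (lay_le _) (fun g hg y hy => lay_conj hg hy)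
    T.X_comm (by rw [lay_card T.mc (by omega) (by omega), show n - 1 - (n - 4) = 3 by omega])
    hN hNc hWc hmax hψ (fun y hy => (hψN y hy).1) hψW
  -- iterate to kill the fixed part
  have hit : ∀ m : ℕ, IsMor F X (ψ^[m]) ∧ (∀ y ∈ X, ψ^[m] y ∈ X) ∧
      ∀ z ∈ Z, ψ^[m] z = z ^ ((-1 : ℤ) ^ m) := by
    intro m
    induction m with
    | zero => exact ⟨(isMor_id F (lay_le _)).congr fun _ _ => rfl, fun y hy => hy,
        fun z _ => by simp⟩
    | succ m ih =>
      obtain ⟨h1, h2, h3⟩ := ih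
      refine ⟨(h1.comp hψX' h2).congr fun y _ => (Function.iterate_succ_apply' ψ m y).symm,
        fun y hy => ?_, fun z hz => ?_⟩
      · rw [Function.iterate_succ_apply']
        exact hψX _ (h2 y hy)
      · rw [Function.iterate_succ_apply', h3 z hz, hψX'.map_zpow (hZW hz).2, hψz z hz,
          inv_zpow', pow_succ, mul_neg_one]
  have key : ∀ y ∈ X, y⁻¹ * ψ^[p] y ∈ Z := by
    intro y hy
    obtain ⟨u₀, hu₀, j, hw⟩ := hWspan (y⁻¹ * ψ y)
      ⟨(hψN y (hXN hy)).2, X.mul_mem (X.inv_mem hy) (hψX y hy)⟩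
    have hψy : ψ y = y * (u₀ * c ^ j) := by rw [← hw, mul_inv_cancel_left]
    have hcl : ∀ m : ℕ, ∃ u ∈ Z, ψ^[m] y = y * u * c ^ (j * m) := by
      intro m
      induction m with
      | zero => exact ⟨1, one_mem _, by simp⟩
      | succ m ih =>
        obtain ⟨u, hu, hm⟩ := ih
        refine ⟨u₀ * u⁻¹, mul_mem hu₀ (inv_mem hu), ?_⟩
        have hcu : c ^ j * u⁻¹ = u⁻¹ * c ^ j :=
          T.comm _ (E.zpow_mem hc.1 j) _ (E.inv_mem (hZW hu).1)
        rw [Function.iterate_succ_apply', hm,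
          hψX'.map_mul (X.mul_mem hy (hZW hu).2) (X.zpow_mem hc.2 _),
          hψX'.map_mul hy (hZW hu).2, hψX'.map_zpow hc.2, hψc, hψz u hu, hψy]
        push_cast
        rw [mul_add, mul_one, add_comm (j * (m : ℤ)), zpow_add]
        simp only [mul_assoc]
        rw [← mul_assoc (c ^ j) u⁻¹, hcu]
        simp only [mul_assoc]
    obtain ⟨u, hu, hm⟩ := hcl p
    rw [hm, mul_comm j, zpow_mul, zpow_natCast, T.pow_p hc.1, one_zpow, mul_one,
      inv_mul_cancel_left]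
    exact hu
  have hflag : ∀ k, n - 4 ≤ k → k ≤ n - 2 → ∀ y ∈ lay S k, ψ^[p] y ∈ lay S k := by
    intro k hk hk' y hy
    have h1 := (lay S k).mul_mem hy (lay_anti hk' (key y (lay_anti hk hy)))
    rwa [mul_inv_cancel_left] at h1
  obtain ⟨Ψ, hΨ⟩ := exists_ext_S T.pgroup T.sat T.mc h5 (hit p).1
    (hflag _ le_rfl (by omega)) (hflag _ (by omega) (by omega)) (hflag _ (by omega) le_rfl)
  have hp2 : p ≠ 2 := by omega
  refine weights_false T.mc hp2 h5 Ψ (a₃ := 1) (a₂ := 1) (a₁ := -1) ?_ ?_ ?_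
    (Or.inl ⟨rfl, rfl, rfl⟩)
  · intro y hy
    rw [← mem_lay]
    refine lay_anti (by omega : n - 4 + 1 ≤ n - 2) ?_
    simpa [hΨ y (mem_lay.2 hy)] using key y (mem_lay.2 hy)
  · intro y hy
    rw [← mem_lay]
    refine lay_anti (by omega : n - 3 + 1 ≤ n - 2) ?_
    have hy' : (y : Ω) ∈ X := lay_anti (by omega) (mem_lay.2 hy)
    simpa [hΨ y hy'] using key y hy'
  · intro y hy
    rw [← mem_lay]
    have hy' : (y : Ω) ∈ X := lay_anti (by omega) (mem_lay.2 hy)
    have hodd : Odd p := hp.1.odd_of_ne_two hp2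
    rw [Subgroup.coe_mul, hΨ y hy', (hit p).2.2 _ (mem_lay.2 hy), hodd.neg_one_pow]
    simp

/-- The exceptional case: the bottom of the normaliser is the second centre. -/
theorem Setting.false_of_exceptional (hM : ∀ y ∈ E, IC S (n - 3) y)
    (hne : twoStepCentralizer ↥S (n - 3) ≠ twoStepCentralizer ↥S 1) (hn6 : 6 ≤ n)
    {y₀ x : Ω} (hy₀ : y₀ ∈ E) (hx : x ∈ lay S (n - 4))
    (hxy : ⁅x, y₀⁆ ∉ lay S (n - 2)) : False := by
  have h5 := T.n5
  have hp5 := T.p5
  set X := lay S (n - 4) with hX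
  set Z := lay S (n - 2) with hZdef
  set W := lay S (n - 3) with hWdef
  obtain ⟨hWc', hN, hNc, hmax⟩ := T.shape (isConj_refl F T.ess.1.1) T.X_le
  have hW2 : Nat.card W = p ^ 2 := by
    rw [lay_card T.mc (by omega) (by omega), show n - 1 - (n - 3) = 2 by omega]
  have hcX : Nat.card X = p ^ 3 := by
    rw [lay_card T.mc (by omega) (by omega), show n - 1 - (n - 4) = 3 by omega]
  have hZc : Nat.card Z = p := by
    rw [lay_card T.mc (by omega) (by omega), show n - 1 - (n - 2) = 1 by omega, pow_one]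
  have hWX : W ≤ X := lay_anti (by omega)
  have hWE : W ≤ E := T.second_le hM
  have hES := T.ess.1.1
  have := finite_of_le hES
  have hWeq : E ⊓ X = W := (eq_of_le_of_card ((inf_le_left : E ⊓ X ≤ E).trans hES)
    (le_inf hWE hWX) (by rw [hWc', hW2])).symm
  have hcomm := T.comm
  have hXN : X ≤ normalizerIn S E := T.X_le
  have hxE : x ∉ E := fun h => hxy (by
    rw [commutatorElement_eq_one_iff_commute.2 (hcomm x h y₀ hy₀)]
    exact one_mem _)
  set z1 := ⁅x, y₀⁆ with hz1def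
  have hz1W : z1 ∈ W := by
    rw [hWdef, show n - 3 = n - 4 + 1 by omega]
    exact lay_comm hx (hES hy₀)
  have hcjy : cj x y₀ = y₀ * z1 := by
    rw [hcomm y₀ hy₀ z1 (hWE hz1W), hz1def, commutatorElement_def, cj_apply]; group
  have hfixW : ∀ w ∈ W, cj x w = w := fun w hw => by
    rw [cj_apply, T.X_comm x hx w (hWX hw), mul_inv_cancel_right]
  set U := Subgroup.zpowers z1 with hUdef
  have hUc : Nat.card U = p := by
    rw [Nat.card_zpowers, orderOf_eq_prime (T.pow_p (hWE hz1W))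
      fun h => hxy (h ▸ one_mem _)]
  have hy₀W : y₀ ∉ W := fun h => hxy (by
    rw [hz1def, commutatorElement_eq_one_iff_commute.2 (T.X_comm x hx y₀ (hWX h))]
    exact one_mem _)
  have hEspan := span_two hWE hcomm hW2 T.card hy₀ hy₀W
  have hNle : normalizerIn S E ≤ E ⊔ Subgroup.zpowers x := by
    have hle : E ⊔ Subgroup.zpowers x ≤ normalizerIn S E :=
      sup_le (le_normalizerIn hES) (Subgroup.zpowers_le.2 (hXN hx))
    have hsS : E ⊔ Subgroup.zpowers x ≤ S := hle.trans normalizerIn_le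
    have := finite_of_le hsS
    have hlt : E < E ⊔ Subgroup.zpowers x := lt_of_le_of_ne le_sup_left fun h =>
      hxE (h ▸ Subgroup.mem_sup_right (Subgroup.mem_zpowers x))
    refine (eq_of_le_of_card normalizerIn_le hle ?_).ge
    rw [hNc]
    exact pow_succ_le hsS T.pgroup (k := 3) (T.card ▸ card_lt_of_lt hsS hlt)
  obtain ⟨f, hf, hfE, c, hc, hcU, hfc, hfz, hfy, hfx⟩ := exists_inv T.pgroup T.sat T.ess T.card
    T.elem (hXN hx) hxE (U₁ := U) (U₂ := W) (Subgroup.zpowers_le.2 hz1W) hWE hUc hW2 hfixW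
    (fun y hy => by
      obtain ⟨w, hw, j, rfl⟩ := hEspan y hy
      have h1 : cj x (y₀ ^ j) = y₀ ^ j * z1 ^ j := by
        have h2 : (MulAut.conj x) (y₀ ^ j) = (MulAut.conj x y₀) ^ j := map_zpow _ _ _
        show (MulAut.conj x) (y₀ ^ j) = _
        rw [h2, show (MulAut.conj x) y₀ = y₀ * z1 from hcjy,
          Commute.mul_zpow (hcomm y₀ hy₀ z1 (hWE hz1W))]
      rw [cj_map_mul, hfixW w hw, h1, ← mul_assoc w, inv_mul_cancel_left]
      exact zpow_mem (Subgroup.mem_zpowers z1) j)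
  have hWspan := span_two (Subgroup.zpowers_le.2 hz1W : U ≤ W)
    (fun a ha b hb => hcomm a (hWE ha) b (hWE hb)) (k := 1) (by rw [hUc, pow_one]) hW2 hc hcU
  obtain ⟨ψ, hψ, hψe, hψN⟩ := exists_ext T.pgroup T.sat T.ess hcomm (hXN hx) hNle hf hfE hfx
  have hfW : IsMor F W f := hf.restrict hWE
  have hfWm : ∀ w ∈ W, f w ∈ W := fun w hw => by
    obtain ⟨u, hu, j, rfl⟩ := hWspan w hw
    have huE : u ∈ E := hWE ((Subgroup.zpowers_le.2 hz1W : U ≤ W) hu)
    rw [hf.map_mul huE (E.zpow_mem (hWE hc) j), hf.map_zpow (hWE hc), hfc, hfz u hu]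
    exact mul_mem (inv_mem ((Subgroup.zpowers_le.2 hz1W : U ≤ W) hu)) (zpow_mem hc j)
  -- move the fixed line onto the centre
  obtain ⟨φ, hφ, hφW, hφz1, hφc⟩ : ∃ φ, IsMor F W φ ∧ (∀ w ∈ W, φ w ∈ W) ∧
      φ z1 = z1 ∧ φ c ∈ Z := by
    by_cases hcZ : c ∈ Z
    · exact ⟨id, isMor_id F (lay_le _), fun w hw => hw, rfl, hcZ⟩
    haveI : NeZero p := ⟨hp.1.ne_zero⟩
    obtain ⟨z, hz, hz1⟩ : ∃ z ∈ Z, z ≠ 1 := by
      by_contra! h
      rw [(Subgroup.eq_bot_iff_forall _).2 h, Subgroup.card_bot] at hZc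
      exact hp.1.ne_one hZc.symm
    have hzgen : Subgroup.zpowers z = Z := by
      refine eq_of_le_of_card (lay_le _) (Subgroup.zpowers_le.2 hz) ?_
      rw [hZc, Nat.card_zpowers, orderOf_eq_prime (T.pow_p (T.center_le hz)) hz1]
    have hzW : z ∈ W := lay_anti (by omega) hz
    obtain ⟨u, hu, α, hzc⟩ := hWspan z hzW
    obtain ⟨β, rfl⟩ := Subgroup.mem_zpowers_iff.1 hu
    have hpz := T.pow_p (hWE hzW)
    have hpz1 := T.pow_p (hWE hz1W)
    have hpc := T.pow_p (hWE hc)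
    have hα : (α : ZMod p) ≠ 0 := by
      refine cast_eq_zero hpc fun h => ?_
      rw [h, mul_one] at hzc
      have hβ1 : z1 ^ β ≠ 1 := hzc ▸ hz1
      haveI : Fact (Nat.card U).Prime := ⟨hUc.symm ▸ hp.1⟩
      have h2 : Subgroup.zpowers z = U := by
        refine eq_of_le_of_card ((Subgroup.zpowers_le.2 hz1W : U ≤ W).trans (lay_le _))
          (Subgroup.zpowers_le.2 (hzc ▸ hu)) ?_
        rw [hUc, Nat.card_zpowers, orderOf_eq_prime hpz hz1]
      exact hxy (hzgen ▸ h2 ▸ Subgroup.mem_zpowers z1)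
    have hcα : c = (c ^ α) ^ (((α : ZMod p)⁻¹).val : ℤ) := by
      rw [← zpow_mul]
      conv_lhs => rw [← zpow_one c]
      refine zpow_eq hpc ?_
      push_cast [ZMod.natCast_zmod_val]
      rw [mul_inv_cancel₀ hα]
    have hβ : (β : ZMod p) ≠ 0 := by
      refine cast_eq_zero hpz1 fun h => hcZ ?_
      rw [h, one_mul] at hzc
      rw [hcα, ← hzc]
      exact zpow_mem hz _
    obtain ⟨g, hg, k₀, hk₀, hgz1⟩ : ∃ g ∈ S, ∃ k : ℤ, (k : ZMod p) ≠ 0 ∧
        cj g z1 = z1 * z ^ k := by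
      obtain ⟨g, hg, hgne⟩ : ∃ g ∈ S, ⁅z1, g⁆ ≠ 1 := by
        by_contra! h
        obtain ⟨hz1S, hz1L⟩ := mem_lay'.1 hz1W
        have hc1 : (⟨z1, hz1S⟩ : S) ∈ Subgroup.center ↥S :=
          Subgroup.mem_center_iff.2 fun g => Subtype.ext
            (commutatorElement_eq_one_iff_mul_comm.1 (h g g.2)).symm
        have hle : lcsT ↥S (n - 2) ≤ Subgroup.center ↥S := fun w hw => by
          refine Subgroup.mem_center_iff.2 fun g => ?_
          refine (commutatorElement_eq_one_iff_mul_comm.1 (Subgroup.mem_bot.1 ?_)).symm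
          rw [← T.mc.lcs_eq_bot (i := n - 2 + 1) (by omega)]
          exact comm_succ hw g
        have heq := Subgroup.eq_of_le_of_card_ge hle (by
          rw [T.mc.card_lcs (by omega) (by omega), (CfsgLib.PGroups.center_of_maximalClass
            (p := p) T.mc.three T.mc.card T.mc.cls).1, show n - 1 - (n - 2) = 1 by omega, pow_one])
        exact hxy (mem_lay.2 (heq ▸ hc1))
      have hm : z1⁻¹ * cj g z1 ∈ Z := by
        have h1 := lay_comm (y := g) ((lay S _).inv_mem hz1W) hg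
        rw [commutatorElement_def, inv_inv, show n - 3 + 1 = n - 2 by omega] at h1
        simpa [cj_apply, mul_assoc] using h1
      obtain ⟨k, hk⟩ := Subgroup.mem_zpowers_iff.1 (hzgen.ge hm)
      have hgz : cj g z1 = z1 * z ^ k := by rw [hk, mul_inv_cancel_left]
      refine ⟨g, hg, k, cast_eq_zero hpz fun hk1 => hgne ?_, hgz⟩
      rw [hk1, mul_one, cj_apply, mul_inv_eq_iff_eq_mul] at hgz
      exact commutatorElement_eq_one_iff_mul_comm.2 hgz.symm
    have hzfix : ∀ g ∈ S, cj g z = z := fun g hg => cj_fixed_iff.2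
      (T.commute_bot (k := n - 2 + 1) (by omega) (lay_comm hz hg)).eq.symm
    have hT : ∀ r : ZMod p, ∃ g' ∈ S, cj g' z1 = z1 * z ^ (r.val : ℤ) := by
      intro r
      have hpow : ∀ m : ℕ, cj (g ^ m) z1 = z1 * z ^ (k₀ * m) := by
        intro m
        induction m with
        | zero => simp [cj_one]
        | succ m ih =>
          rw [pow_succ', cj_mul, ih, cj_map_mul, hgz1,
            show cj g (z ^ (k₀ * (m : ℤ))) = z ^ (k₀ * (m : ℤ)) by
              rw [show cj g (z ^ (k₀ * (m : ℤ))) = (cj g z) ^ (k₀ * (m : ℤ)) from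
                map_zpow (MulAut.conj g) z _, hzfix g hg],
            mul_assoc, ← zpow_add]
          push_cast
          ring_nf
      refine ⟨g ^ (r / (k₀ : ZMod p)).val, S.pow_mem hg _, ?_⟩
      rw [hpow]
      congr 1
      refine zpow_eq hpz ?_
      push_cast [ZMod.natCast_zmod_val]
      rw [mul_div_cancel₀ r hk₀]
    have h2 : (2 : ZMod p) ≠ 0 := by
      intro h
      rw [← Nat.cast_ofNat (R := ZMod p), ZMod.natCast_eq_zero_iff] at h
      have := Nat.le_of_dvd two_pos h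
      omega
    obtain ⟨gi, hgi, hgiz⟩ := hT (2 * (β : ZMod p))⁻¹
    set i : ℤ := (((2 * (β : ZMod p))⁻¹).val : ℤ) with hi
    have hicast : (i : ZMod p) = (2 * (β : ZMod p))⁻¹ := by rw [hi]; simp
    obtain ⟨gj, hgj, hgjz⟩ := hT (4 * (β : ZMod p))⁻¹
    set j : ℤ := (((4 * (β : ZMod p))⁻¹).val : ℤ) with hj
    have hjcast : (j : ZMod p) = (4 * (β : ZMod p))⁻¹ := by rw [hj]; simp
    have hWcj : ∀ g ∈ S, IsMor F W (cj g) ∧ ∀ w ∈ W, cj g w ∈ W := fun g hg =>
      ⟨isMor_cj F (lay_le _) hg, fun w hw => lay_conj hg hw⟩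
    have hc12 : Commute z1 z := hcomm z1 (hWE hz1W) z (hWE hzW)
    set M := cj gi ∘ f with hMdef
    have hMm : IsMor F W M := hfW.comp (hWcj gi hgi).1 hfWm
    have hMW : ∀ w ∈ W, M w ∈ W := fun w hw => lay_conj hgi (hfWm w hw)
    have hcjz1 : ∀ g ∈ S, ∀ {a : ℤ}, cj g z1 = z1 * z ^ a → ∀ r : ℤ,
        cj g (z1 ^ r) = z1 ^ r * z ^ (a * r) := fun g _ a h r => by
      rw [show cj g (z1 ^ r) = (cj g z1) ^ r from map_zpow (MulAut.conj g) z1 r, h,
        (hc12.zpow_right a).mul_zpow, zpow_mul]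
    have hMz1 : M z1 = z1⁻¹ * z ^ (-i) := by
      show cj gi (f z1) = _
      rw [hfz z1 (Subgroup.mem_zpowers z1), ← zpow_neg_one, hcjz1 gi hgi hgiz (-1), mul_neg_one]
    have hfzz : f z = z * z1 ^ (-2 * β) := by
      conv_lhs => rw [hzc]
      rw [hfW.map_mul (W.zpow_mem hz1W β) (W.zpow_mem hc α), hfW.map_zpow hz1W,
        hfW.map_zpow hc, hfc, hfz z1 (Subgroup.mem_zpowers z1)]
      conv_rhs => rw [hzc]
      rw [inv_zpow', mul_assoc (z1 ^ β), hcomm _ (E.zpow_mem (hWE hc) α) _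
        (E.zpow_mem (hWE hz1W) (-2 * β)), ← mul_assoc, ← zpow_add]
      congr 2
      ring
    have hMz : M z = z1 ^ (-2 * β) := by
      show cj gi (f z) = _
      rw [hfzz, cj_map_mul, hzfix gi hgi, hcjz1 gi hgi hgiz, (hc12.symm.zpow_right _).left_comm]
      conv_rhs => rw [← mul_one (z1 ^ (-2 * β))]
      congr 1
      conv_lhs => arg 1; rw [← zpow_one z]
      rw [← zpow_add, ← zpow_zero z]
      refine zpow_eq hpz ?_
      push_cast
      rw [hicast]
      field_simp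
      ring
    obtain ⟨m, hm, hml, -, hmi⟩ := hMm.inverse
    rw [hMm.img_eq_self hMW] at hm hmi
    have hmW : ∀ w ∈ W, m w ∈ W := fun w hw => hmi ▸ mem_img_of_mem m hw
    set φ := M ∘ cj gj ∘ m with hφdef
    have hφm : IsMor F W φ := (hm.comp (hWcj gj hgj).1 hmW).comp hMm
      (fun w hw => lay_conj hgj (hmW w hw))
    have hφM : ∀ w ∈ W, φ (M w) = M (cj gj w) := fun w hw => by
      show M (cj gj (m (M w))) = _
      rw [hml w hw]
    -- the fixed vector
    set a : ℤ := ((-(2 * (β : ZMod p))⁻¹).val : ℤ) with ha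
    have hacast : (a : ZMod p) = -(2 * (β : ZMod p))⁻¹ := by rw [ha]; simp
    have hz1a : M (z ^ a) = z1 := by
      rw [hMm.map_zpow hzW, hMz, ← zpow_mul]
      conv_rhs => rw [← zpow_one z1]
      refine zpow_eq hpz1 ?_
      push_cast
      rw [hacast]
      field_simp
    have hφz1 : φ z1 = z1 := by
      conv_lhs => rw [← hz1a]
      rw [hφM _ (W.zpow_mem hzW a), show cj gj (z ^ a) = z ^ a by
        rw [show cj gj (z ^ a) = (cj gj z) ^ a from map_zpow (MulAut.conj gj) z a, hzfix gj hgj],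
        hz1a]
    refine ⟨φ, hφm, fun w hw => hMW _ (lay_conj hgj (hmW w hw)), hφz1, ?_⟩
    have h6 : φ (z ^ (-i)) = z ^ (-i) * z1 ^ (-2 * β * j) := by
      have h7 := hφM z1 hz1W
      rw [hgjz, hMm.map_mul hz1W (W.zpow_mem hzW j), hMm.map_zpow hzW, hMz, hMz1,
        hφm.map_mul (W.inv_mem hz1W) (W.zpow_mem hzW _), hφm.map_inv hz1W, hφz1, ← zpow_mul,
        mul_assoc] at h7
      exact mul_left_cancel h7
    have h7 : φ z = z * z1 ^ (4 * β * β * j) := by
      have hzi : z = (z ^ (-i)) ^ (-2 * β) := by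
        rw [← zpow_mul]
        conv_lhs => rw [← zpow_one z]
        refine zpow_eq hpz ?_
        push_cast
        rw [hicast]
        field_simp
      conv_lhs => rw [hzi]
      rw [hφm.map_zpow (W.zpow_mem hzW _), h6,
        ((hc12.zpow_zpow _ _).symm).mul_zpow, ← hzi, ← zpow_mul]
      congr 2
      ring
    have h8 : φ (c ^ α) = z := by
      have hca : c ^ α = z1 ^ (-β) * z := by
        conv_rhs => rw [hzc]
        rw [← mul_assoc, ← zpow_add, neg_add_cancel, zpow_zero, one_mul]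
      rw [hca, hφm.map_mul (W.zpow_mem hz1W _) hzW, hφm.map_zpow hz1W, hφz1, h7,
        (hc12.zpow_left _).left_comm, ← zpow_add]
      conv_rhs => rw [← mul_one z]
      congr 1
      rw [← zpow_zero z1]
      refine zpow_eq hpz1 ?_
      push_cast
      rw [hjcast]
      have h4 : (4 : ZMod p) ≠ 0 := by
        rw [show (4 : ZMod p) = 2 * 2 by norm_num]
        exact mul_ne_zero h2 h2
      field_simp
      ring
    rw [hcα, hφm.map_zpow (W.zpow_mem hc α), h8]
    exact zpow_mem hz _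
  -- extend to the centraliser
  have hWn : normalizerIn S W = S := lay_normalizer _
  have hWfn : F.IsFullyNormalized W := ⟨lay_le _, fun Q _ => by
    rw [hWn]; exact Subgroup.card_le_of_le normalizerIn_le⟩
  obtain ⟨G, hG, hGφ⟩ := (isReceptive_iff.mp
    (isFullyAutomized_of_normalized T.pgroup T.sat hWfn).2).2 W φ hφ (hφ.img_eq_self hφW)
  have hNC : normalizerIn S E ≤ nExt S W φ := by
    refine le_trans ?_ (centralizerIn_le_nExt φ)
    rw [hN]
    refine sup_le (fun e he => mem_centralizerIn.2 ⟨hES he, fun w hw => ?_⟩)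
      (fun e he => mem_centralizerIn.2 ⟨lay_le _ he, fun w hw => ?_⟩)
    · rw [cj_apply, hcomm e he w (hWE hw), mul_inv_cancel_right]
    · rw [cj_apply, T.X_comm e he w (hWX hw), mul_inv_cancel_right]
  have hGN : IsMor F (normalizerIn S E) G := hG.restrict hNC
  have hEN : E ≤ normalizerIn S E := le_normalizerIn hES
  have hGE : IsMor F E G := hGN.restrict hEN
  set E' := img E G with hE'
  have hconj : F.IsConj E E' := isConj_img hGE
  have hWimg : img W G = W := (img_congr hGφ).trans (hφ.img_eq_self hφW)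
  have hWE' : W ≤ E' := hWimg.ge.trans (img_mono G hWE)
  have hE'S : E' ≤ S := (isConj_le hconj).2
  have hXN' : X ≤ normalizerIn S E' := fun w hw => mem_norm hE'S (lay_le _ hw) fun y hy => by
    refine hWE' ?_
    rw [hWdef, show n - 3 = n - 4 + 1 by omega]
    exact lay_comm hw (hE'S hy)
  obtain ⟨hW'c, hN', hN'c, hmax'⟩ := T.shape hconj hXN'
  have hGmap : ∀ y ∈ normalizerIn S E, G y ∈ normalizerIn S E' :=
    mapsTo_normalizerIn hGN hEN le_rfl
  have hN'eq : img (normalizerIn S E) G = normalizerIn S E' :=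
    eq_of_le_of_card normalizerIn_le (img_le hGmap) (by rw [hGN.card_img, hNc, hN'c])
  obtain ⟨m, hm, hml, -, hmi⟩ := hGN.inverse
  rw [hN'eq] at hm hmi
  have hmN : ∀ y ∈ normalizerIn S E', m y ∈ normalizerIn S E := fun y hy =>
    hmi ▸ mem_img_of_mem m hy
  set Θ := G ∘ ψ ∘ m with hΘ
  have hΘm : IsMor F (normalizerIn S E') Θ :=
    (hm.comp hψ hmN).comp hGN fun y hy => (hψN _ (hmN y hy)).1
  have hΘG : ∀ y ∈ normalizerIn S E, Θ (G y) = G (ψ y) := fun y hy => by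
    show G (ψ (m (G y))) = _
    rw [hml y hy]
  have hWN : W ≤ normalizerIn S E := hWE.trans hEN
  have hGW : ∀ w ∈ W, ∃ v ∈ W, G v = w := fun w hw =>
    (hGN.restrict hWN).mem_img.1 (hWimg.ge hw)
  have hΘW : ∀ w ∈ W, Θ w ∈ W := fun w hw => by
    obtain ⟨v, hv, rfl⟩ := hGW w hw
    rw [hΘG v (hWN hv), hψe v (hWE hv)]
    exact hWimg ▸ mem_img_of_mem G (hfWm v hv)
  have hW'eq : E' ⊓ X = W := (eq_of_le_of_card ((inf_le_left : E' ⊓ X ≤ E').trans hE'S)
    (le_inf hWE' hWX) (by rw [hW'c, hW2])).symm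
  have hE'comm : ∀ a ∈ E', ∀ b ∈ E', a * b = b * a := by
    intro a ha b hb
    obtain ⟨u, hu, rfl⟩ := hGE.mem_img.1 ha
    obtain ⟨v, hv, rfl⟩ := hGE.mem_img.1 hb
    rw [← hGE.map_mul hu hv, ← hGE.map_mul hv hu, hcomm u hu v hv]
  have hΘX : ∀ y ∈ X, Θ y ∈ X := fix_X T.pgroup T.cardS h5 hE'S (T.ess.1.2 E' hconj) hE'comm
    ((isConj_card hconj).trans T.card) (lay_le _) (fun g hg y hy => lay_conj hg hy) T.X_comm hcX
    hN' hN'c hW'c hmax' hΘm
    (fun y hy => hGmap _ (hψN _ (hmN y hy)).1)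
    (fun w hw => by rw [hW'eq] at hw ⊢; exact hΘW w hw)
  have key : ∀ y ∈ X, y⁻¹ * Θ y ∈ W := by
    intro y hy
    rw [← hW'eq]
    obtain ⟨v, hv, rfl⟩ := hGN.mem_img.1 (hN'eq.ge (hXN' hy))
    refine ⟨?_, X.mul_mem (X.inv_mem hy) (hΘX _ hy)⟩
    obtain ⟨hψv, hve⟩ := hψN v hv
    rw [hΘG v hv, ← hGN.map_inv hv, ← hGN.map_mul (inv_mem hv) hψv]
    exact mem_img_of_mem G hve
  have hGc : G c ∈ Z := by rw [hGφ c hc]; exact hφc
  have hcN := hWN hc
  have hc1 : c ≠ 1 := fun h => hcU (h ▸ one_mem _)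
  have hGgen : Subgroup.zpowers (G c) = Z := by
    refine eq_of_le_of_card (lay_le _) (Subgroup.zpowers_le.2 hGc) ?_
    rw [hZc, Nat.card_zpowers, hGN.orderOf_eq hcN, orderOf_eq_prime (T.pow_p (hWE hc)) hc1]
  have hfix : ∀ y ∈ Z, Θ y = y := fun y hy => by
    obtain ⟨k, rfl⟩ := Subgroup.mem_zpowers_iff.1 (hGgen.ge hy)
    rw [← hGN.map_zpow hcN, hΘG _ (zpow_mem hcN k), hψe _ (E.zpow_mem (hWE hc) k),
      hf.map_zpow (hWE hc), hfc]
  have hinv : ∀ y ∈ W, y * Θ y ∈ Z := fun y hy => by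
    obtain ⟨v, hv, rfl⟩ := hGW y hy
    obtain ⟨u, hu, k, rfl⟩ := hWspan v hv
    have huW : u ∈ W := (Subgroup.zpowers_le.2 hz1W : U ≤ W) hu
    rw [hΘG _ (hWN hv), hψe _ (hWE hv), hf.map_mul (hWE huW) (E.zpow_mem (hWE hc) k),
      hf.map_zpow (hWE hc), hfc, hfz u hu,
      ← hGN.map_mul (hWN hv) (mul_mem (inv_mem (hWN huW)) (zpow_mem hcN k)),
      hcomm u (hWE huW) _ (E.zpow_mem (hWE hc) k), mul_assoc, mul_inv_cancel_left,
      ← zpow_add, hGN.map_zpow hcN]
    exact zpow_mem hGc _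
  obtain ⟨Ψ, hΨ⟩ := exists_ext_S T.pgroup T.sat T.mc h5 (hΘm.restrict hXN') hΘX hΘW
    (fun y hy => by rw [hfix y hy]; exact hy)
  refine weights_false T.mc (by omega) h5 Ψ (a₃ := 1) (a₂ := -1) (a₁ := 1) ?_ ?_ ?_
    (Or.inr ⟨rfl, rfl, rfl, hne, hn6⟩)
  · intro y hy
    rw [← mem_lay, show n - 4 + 1 = n - 3 by omega]
    simpa [hΨ y (mem_lay.2 hy)] using key y (mem_lay.2 hy)
  · intro y hy
    rw [← mem_lay, show n - 3 + 1 = n - 2 by omega]
    simpa [hΨ y (hWX (mem_lay.2 hy))] using hinv y (mem_lay.2 hy)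
  · intro y hy
    rw [← mem_lay, lay_bot T.mc (by omega), Subgroup.mem_bot]
    simp [hΨ y (lay_anti (by omega) (mem_lay.2 hy)), hfix y (mem_lay.2 hy)]

theorem Setting.absurd : False := by
  have h5 := T.n5
  by_cases hZ : ∀ y ∈ E, ∀ x ∈ lay S (n - 4), ⁅x, y⁆ ∈ lay S (n - 2)
  · exact T.false_of_central hZ
  push Not at hZ
  obtain ⟨y₀, hy₀, x, hx, hxy⟩ := hZ
  have hA : ¬ IC S 1 y₀ := fun ⟨h, h'⟩ => hxy (by
    rw [show n - 2 = n - 4 + 2 by omega]
    exact lay_comm_IC hx ⟨h, (twoStep_const (n - 4) T.mc (by omega) (by omega)).symm ▸ h'⟩)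
  have hM : ∀ y ∈ E, IC S (n - 3) y := T.cases.resolve_right fun h => hA (h.1 y₀ hy₀)
  have hne : twoStepCentralizer ↥S (n - 3) ≠ twoStepCentralizer ↥S 1 := fun h =>
    hA ⟨(hM y₀ hy₀).1, h ▸ (hM y₀ hy₀).2⟩
  obtain ⟨k, hk⟩ := even_of_twoStep_ne T.mc h5 hne
  exact T.false_of_exceptional hM hne (by omega) hy₀ hx hxy

end CfsgLib.Fusion.MaxClassSmall
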