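import Cfsg.Agent.Lib.Fusion.Supersoluble
import Cfsg.Agent.Lib.PGroups.MetacyclicTwoAut
import Cfsg.Agent.Lib.OddOrder.MetacyclicDerived
import Cfsg.Agent.Lib.OddOrder.MetacyclicAction

/-!
# Automorphisms of order prime to `p` of a nonabelian metacyclic `p`-group, `p` odd
-/

set_option autoImplicit false
set_option linter.style.haveILetI false

namespace CfsgLib.Fusion.MetacyclicAbelian

open Cfsg Subgroup CfsgLib.PGroups.MetacyclicTwoAut
open scoped commutatorElement

variable {p : ℕ} [hp : Fact p.Prime] {X : Type*} [Group X] [Finite X]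

/-- An automorphism of prime order `r ≠ p` trivial modulo the Frattini subgroup is trivial. -/
theorem eq_one_of_trivial_mod (hX : IsPGroup p X) {r : ℕ} [hr : Fact r.Prime] (hrp : r ≠ p)
    {α : MulAut X} (hα : α ^ r = 1) (h : ∀ x : X, x⁻¹ * α x ∈ frattini X) : α = 1 := by
  classical
  let F : Subgroup X := α.toMonoidHom.eqLocus (MonoidHom.id X)
  have hF : F ⊔ frattini X = ⊤ := by
    rw [eq_top_iff]
    intro x _
    haveI := Fintype.ofFinite {y : X // x⁻¹ * y ∈ frattini X}
    have hmem : ∀ y : X, x⁻¹ * y ∈ frattini X → x⁻¹ * α y ∈ frattini X := fun y hy => by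
      have := mul_mem hy (h y)
      simpa [mul_assoc] using this
    have hpow : ∀ (i : ℕ) (y : X), x⁻¹ * y ∈ frattini X → x⁻¹ * (α ^ i) y ∈ frattini X := by
      intro i
      induction i with
      | zero => exact fun y hy => hy
      | succ i ih =>
        intro y hy
        rw [pow_succ', MulAut.mul_apply]
        exact hmem _ (ih y hy)
    let σ : Equiv.Perm {y : X // x⁻¹ * y ∈ frattini X} :=
      { toFun := fun y => ⟨α y, hmem _ y.2⟩
        invFun := fun y => ⟨(α ^ (r - 1)) y, hpow _ _ y.2⟩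
        left_inv := fun y => Subtype.ext (by
          show (α ^ (r - 1)) (α y) = y
          rw [← MulAut.mul_apply, ← pow_succ, Nat.sub_add_cancel hr.out.one_le, hα]
          rfl)
        right_inv := fun y => Subtype.ext (by
          show α ((α ^ (r - 1)) y) = y
          rw [← MulAut.mul_apply, ← pow_succ', Nat.sub_add_cancel hr.out.one_le, hα]
          rfl) }
    have hσi : ∀ (i : ℕ) (y), ((σ ^ i) y : X) = (α ^ i) y := by
      intro i
      induction i with
      | zero => exact fun y => rfl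
      | succ i ih =>
        intro y
        rw [pow_succ', Equiv.Perm.mul_apply, pow_succ', MulAut.mul_apply, ← ih y]
        rfl
    have hσ : σ ^ r ^ 1 = 1 := Equiv.ext fun y => Subtype.ext (by
      rw [pow_one, hσi, hα]; rfl)
    have hcard : ¬ r ∣ Fintype.card {y : X // x⁻¹ * y ∈ frattini X} := by
      rw [← Nat.card_eq_fintype_card]
      have e : {y : X // x⁻¹ * y ∈ frattini X} ≃ frattini X :=
        { toFun := fun y => ⟨x⁻¹ * y, y.2⟩
          invFun := fun f => ⟨x * f, by simp⟩
          left_inv := fun y => Subtype.ext (mul_inv_cancel_left x _)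
          right_inv := fun f => Subtype.ext (inv_mul_cancel_left x _) }
      obtain ⟨k, hk⟩ := IsPGroup.iff_card.1 (hX.to_subgroup (frattini X))
      rw [Nat.card_congr e, hk]
      exact fun hd => hrp ((Nat.prime_dvd_prime_iff_eq hr.out hp.out).1
        (hr.out.dvd_of_dvd_pow hd))
    obtain ⟨y, hy⟩ := Equiv.Perm.exists_fixed_point_of_prime (p := r) hcard hσ
    have hyF : (y : X) ∈ F := congrArg Subtype.val hy
    have := mul_mem (mem_sup_left hyF : _ ∈ F ⊔ frattini X) (mem_sup_right (inv_mem y.2))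
    simpa using this
  have hF' := frattini_nongenerating hF
  exact MulEquiv.ext fun x => (hF' ▸ mem_top x : x ∈ F)

/-- The action on the Frattini quotient. -/
noncomputable def frattiniAction : MulAut X →* MulAut (X ⧸ frattini X) where
  toFun := quotAut (frattini X)
  map_one' := MulEquiv.ext fun v => by
    induction v using QuotientGroup.induction_on with | H x => rw [quotAut_mk]; rfl
  map_mul' α β := MulEquiv.ext fun v => by
    induction v using QuotientGroup.induction_on with
    | H x => rw [quotAut_mk, MulAut.mul_apply, MulAut.mul_apply, quotAut_mk, quotAut_mk]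

/-- Coprime automorphisms act faithfully on the Frattini quotient. -/
theorem eq_one_of_action (hX : IsPGroup p X) (H : Subgroup (MulAut X))
    (hH : (Nat.card H).Coprime p) {h : MulAut X} (hh : h ∈ H) (e : frattiniAction h = 1) :
    h = 1 := by
  haveI : Finite (MulAut X) := Finite.of_injective (fun β : MulAut X => (β : X → X))
    DFunLike.coe_injective
  by_contra hne
  set K := H ⊓ (frattiniAction (X := X)).ker
  have hK : Nat.card K ≠ 1 := fun h1 => hne (by
    have : h ∈ K := ⟨hh, e⟩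
    rw [Subgroup.card_eq_one.1 h1] at this
    exact Subgroup.mem_bot.1 this)
  obtain ⟨r, hr, hrd⟩ := Nat.exists_prime_and_dvd hK
  haveI := Fact.mk hr
  obtain ⟨α, hα⟩ := exists_prime_orderOf_dvd_card' r hrd
  have hrp : r ≠ p := fun h1 => hp.out.ne_one (Nat.eq_one_of_dvd_coprimes hH
    (h1 ▸ hrd.trans (Subgroup.card_dvd_of_le inf_le_left)) dvd_rfl)
  have h1 := eq_one_of_trivial_mod hX hrp (α := (α : MulAut X))
    (by rw [← hα, ← Subgroup.orderOf_coe, pow_orderOf_eq_one]) fun x => by
      have h2 := DFunLike.congr_fun (α.2.2 : frattiniAction (α : MulAut X) = 1)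
        (x : X ⧸ frattini X)
      rw [show frattiniAction (α : MulAut X) (x : X ⧸ frattini X) =
        (((α : MulAut X) x : X) : X ⧸ frattini X) from quotAut_mk _ _ x, MulAut.one_apply] at h2
      exact QuotientGroup.eq.1 h2.symm
  have h3 : α = 1 := Subtype.ext h1
  rw [h3, orderOf_one] at hα
  exact hr.one_lt.ne hα

/-- The Frattini quotient of a metacyclic `p`-group has order at most `p ^ 2`. -/
theorem card_quotient_le (hX : IsPGroup p X) (hm : IsMetacyclic X) :
    Nat.card (X ⧸ frattini X) ≤ p ^ 2 := by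
  obtain ⟨N, hN, hNc, hQc⟩ :=
    OddOrder.isMetacyclic_of_surjective (QuotientGroup.mk' (frattini X))
      (QuotientGroup.mk'_surjective _) hm
  have hexp : ∀ v : X ⧸ frattini X, v ^ p = 1 := fun v => by
    induction v using QuotientGroup.induction_on with
    | H x => exact (QuotientGroup.eq_one_iff _).2 (PGroups.pow_mem_frattini hX x)
  have hle : ∀ (C : Type _) [Group C] [Finite C] [IsCyclic C], (∀ x : C, x ^ p = 1) →
      Nat.card C ≤ p := fun C _ _ _ h => by
    obtain ⟨g, hg⟩ := IsCyclic.exists_ofOrder_eq_natCard (α := C)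
    rw [← hg]
    exact Nat.le_of_dvd hp.out.pos (orderOf_dvd_of_pow_eq_one (h g))
  rw [Subgroup.card_eq_card_quotient_mul_card_subgroup N, sq]
  refine Nat.mul_le_mul (hle _ fun x => ?_) (hle _ fun x => Subtype.ext (hexp x.1))
  induction x using QuotientGroup.induction_on with
  | H v => rw [← QuotientGroup.mk_pow, hexp, QuotientGroup.mk_one]

/-- A nonabelian metacyclic `p`-group, `p` odd, has a characteristic maximal subgroup. -/
theorem exists_char_maximal (hp2 : p ≠ 2) (hX : IsPGroup p X) (hm : IsMetacyclic X)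
    (hnab : ¬ IsMulCommutative X) :
    ∃ M : Subgroup X, frattini X ≤ M ∧ M ≠ ⊤ ∧ M ≠ frattini X ∧
      ∀ α : MulAut X, ∀ x ∈ M, α x ∈ M := by
  classical
  set C := commutator X with hC
  have hCinv : ∀ (α : MulAut X) (x : X), x ∈ C → α x ∈ C := fun α x hx =>
    (characteristic_iff_comap_eq.1 (inferInstance : C.Characteristic) α).ge hx
  have hCne : C ≠ ⊥ := fun h => hnab ⟨⟨fun a b => commutatorElement_eq_one_iff_mul_comm.1 (by
    have := commutator_mem_commutator (G := X) (mem_top a) (mem_top b)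
    rwa [← commutator_def, ← hC, h, mem_bot] at this)⟩⟩
  have hnc : ∀ g : X, frattini X ⊔ zpowers g ≠ ⊤ := fun g hg => hnab (by
    rw [sup_comm] at hg
    have h1 := frattini_nongenerating hg
    haveI : IsCyclic X := ⟨⟨g, fun x => h1.ge (mem_top x)⟩⟩
    exact IsCyclic.isMulCommutative)
  have hex : ∃ c : ℕ, ∀ g : X, g ^ p ^ c ∈ C := by
    obtain ⟨n, hn⟩ := IsPGroup.iff_card.1 hX
    exact ⟨n, fun g => by rw [← hn, pow_card_eq_one']; exact C.one_mem⟩
  set c := Nat.find hex with hc
  have hcspec : ∀ g : X, g ^ p ^ c ∈ C := Nat.find_spec hex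
  have hCΦ : C ≤ frattini X := PGroups.commutator_le_frattini hX
  haveI : Nontrivial X := by
    by_contra h
    rw [not_nontrivial_iff_subsingleton] at h
    exact hnab ⟨⟨fun a b => Subsingleton.elim _ _⟩⟩
  have hc1 : 1 ≤ c := by
    by_contra h
    have h0 : c = 0 := by omega
    refine PGroups.frattini_ne_top (G := X) (eq_top_iff.2 fun g _ => hCΦ ?_)
    simpa [h0] using hcspec g
  -- the elements of smaller exponent modulo the derived group
  have hab : ∀ (m : ℕ) (x y : X), x ^ m ∈ C → y ^ m ∈ C → (x * y) ^ m ∈ C := by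
    intro m x y hx hy
    rw [← QuotientGroup.eq_one_iff] at hx hy ⊢
    rw [QuotientGroup.mk_pow] at hx hy ⊢
    rw [QuotientGroup.mk_mul, Commute.mul_pow (show Commute ((x : X ⧸ C)) (y : X ⧸ C) from
      (Subgroup.Normal.quotient_commutative_iff_commutator_le.2 le_rfl).is_comm.comm _ _), hx, hy, one_mul]
  let M₂ : Subgroup X :=
    { carrier := {g | g ^ p ^ (c - 1) ∈ C}
      one_mem' := by rw [Set.mem_setOf_eq, one_pow]; exact C.one_mem
      mul_mem' := fun {x y} => hab _ x y
      inv_mem' := fun {x} hx => by rw [Set.mem_setOf_eq, inv_pow]; exact C.inv_mem hx }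
  have hM₂ : frattini X ≤ M₂ := by
    rw [PGroups.frattini_eq_derivedPow (p := p) hX]
    refine sup_le (fun x hx => C.pow_mem hx _) ((closure_le _).2 ?_)
    rintro _ ⟨g, rfl⟩
    show (g ^ p) ^ p ^ (c - 1) ∈ C
    rw [← pow_mul, ← pow_succ', show c - 1 + 1 = c by omega]
    exact hcspec g
  have hM₂top : M₂ ≠ ⊤ := fun h => by
    refine Nat.find_min hex (show c - 1 < c by omega) fun g => ?_
    exact (h ▸ mem_top g : g ∈ M₂)
  by_cases hM₂Φ : M₂ = frattini X
  swap
  · exact ⟨M₂, hM₂, hM₂top, hM₂Φ, fun α x hx => by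
      show (α x) ^ p ^ (c - 1) ∈ C
      rw [← map_pow]; exact hCinv α _ hx⟩
  obtain ⟨N, hN, hNc, hQc⟩ := hm
  have hCN : C ≤ N :=
    Subgroup.Normal.quotient_commutative_iff_commutator_le.1 hQc.isMulCommutative
  obtain ⟨a, hgen⟩ := hNc.exists_generator
  have haN : ∀ x ∈ N, ∃ i : ℤ, (a : X) ^ i = x := fun x hx => by
    obtain ⟨i, hi⟩ := hgen ⟨x, hx⟩
    exact ⟨i, congrArg Subtype.val hi⟩
  have haΦ : (a : X) ∉ frattini X := fun ha => by
    obtain ⟨b, hb⟩ := hQc.exists_generator
    obtain ⟨b, rfl⟩ := QuotientGroup.mk_surjective b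
    refine hnc b (eq_top_iff.2 fun x _ => ?_)
    obtain ⟨i, hi⟩ := hb (x : X ⧸ N)
    have h1 : (b ^ i)⁻¹ * x ∈ N := QuotientGroup.eq.1 hi
    obtain ⟨j, hj⟩ := haN _ h1
    have h2 := mul_mem (mem_sup_right (zpow_mem (mem_zpowers b) i) : b ^ i ∈ frattini X ⊔ zpowers b)
      (mem_sup_left (zpow_mem ha j))
    rwa [hj, mul_inv_cancel_left] at h2
  have haM : (a : X) ^ p ^ (c - 1) ∉ C := fun h => haΦ (hM₂Φ ▸ (h : (a : X) ∈ M₂))
  -- the derived group is generated by `a ^ p ^ c`
  have hCgen : ∀ x ∈ C, x ∈ zpowers ((a : X) ^ p ^ c) := by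
    intro x hx
    obtain ⟨i, rfl⟩ := haN x (hCN hx)
    suffices hd : ((p ^ c : ℕ) : ℤ) ∣ i by
      obtain ⟨j, rfl⟩ := hd
      exact ⟨j, by rw [zpow_mul, zpow_natCast]⟩
    set o := orderOf ((a : X) : X ⧸ C) with ho
    have h1 : o ∣ p ^ c := orderOf_dvd_of_pow_eq_one (by
      rw [← QuotientGroup.mk_pow, QuotientGroup.eq_one_iff]; exact hcspec a)
    obtain ⟨s, hs, hso⟩ := (Nat.dvd_prime_pow hp.out).1 h1
    have hsc : s = c := by
      by_contra hne
      refine haM ((QuotientGroup.eq_one_iff _).1 ?_)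
      rw [QuotientGroup.mk_pow, ← orderOf_dvd_iff_pow_eq_one, ← ho, hso]
      exact pow_dvd_pow p (by omega)
    rw [← hsc, ← hso, ho, orderOf_dvd_iff_zpow_eq_one, ← QuotientGroup.mk_zpow,
      QuotientGroup.eq_one_iff]
    exact hx
  have hCcomm : ∀ x ∈ C, ∀ y ∈ C, x * y = y * x := fun x hx y hy => by
    obtain ⟨i, rfl⟩ := hCgen x hx
    obtain ⟨j, rfl⟩ := hCgen y hy
    exact Commute.zpow_zpow_self _ i j
  let D : Subgroup X :=
    { carrier := {y | ∃ z ∈ C, z ^ p = y}
      one_mem' := ⟨1, C.one_mem, one_pow p⟩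
      mul_mem' := by
        rintro _ _ ⟨z, hz, rfl⟩ ⟨w, hw, rfl⟩
        exact ⟨z * w, C.mul_mem hz hw, Commute.mul_pow (hCcomm z hz w hw) p⟩
      inv_mem' := by
        rintro _ ⟨z, hz, rfl⟩
        exact ⟨z⁻¹, C.inv_mem hz, inv_pow z p⟩ }
  have hDC : D ≤ C := by rintro _ ⟨z, hz, rfl⟩; exact C.pow_mem hz p
  have hDinv : ∀ (α : MulAut X) (x : X), x ∈ D → α x ∈ D := by
    rintro α _ ⟨z, hz, rfl⟩
    exact ⟨α z, hCinv α z hz, (map_pow α z p).symm⟩
  haveI : D.Normal := ⟨fun x hx g => hDinv (MulAut.conj g) x hx⟩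
  have hz : (a : X) ^ p ^ c ∉ D := by
    rintro ⟨z, hzC, hze⟩
    obtain ⟨k, rfl⟩ := hCgen z hzC
    simp only at hze
    set w := (a : X) ^ p ^ c with hw
    have h1 : w ^ (k * p - 1) = 1 := by
      rw [zpow_sub, zpow_mul, zpow_natCast, hze, zpow_one, mul_inv_cancel]
    have hw1 : w = 1 := by
      obtain ⟨e, he⟩ := IsPGroup.iff_orderOf.1 hX w
      rw [← orderOf_dvd_iff_zpow_eq_one, he] at h1
      rcases e with _ | e
      · rwa [pow_zero, orderOf_eq_one_iff] at he
      · exfalso
        have h2 : (p : ℤ) ∣ k * p - 1 := (dvd_pow_self (p : ℤ) e.succ_ne_zero).trans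
          (by exact_mod_cast h1)
        have h3 : (p : ℤ) ∣ 1 := by simpa using dvd_sub (dvd_mul_left (p : ℤ) k) h2
        exact hp.out.ne_one (Nat.dvd_one.1 (by exact_mod_cast h3))
    exact hCne (eq_bot_iff.2 fun x hx => by
      obtain ⟨i, rfl⟩ := hCgen x hx
      simp [hw1])
  set π := QuotientGroup.mk' D with hπ
  have hQ : OddOrder.CentralDerived p (X ⧸ D) := by
    refine ⟨hp2, hX.to_quotient D, ?_⟩
    have h1 : commutator (X ⧸ D) = C.map π := by
      rw [hC, _root_.commutator_def, _root_.commutator_def, Subgroup.map_commutator,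
        Subgroup.map_top_of_surjective π (QuotientGroup.mk'_surjective D)]
    have h2 : C.map π = zpowers (π ((a : X) ^ p ^ c)) := by
      refine le_antisymm ?_ (zpowers_le.2 (mem_map_of_mem π (hcspec a)))
      rintro _ ⟨x, hx, rfl⟩
      obtain ⟨i, rfl⟩ := hCgen x hx
      exact ⟨i, (map_zpow π _ i).symm⟩
    rw [h1, h2, Nat.card_zpowers]
    refine orderOf_eq_prime ?_ fun h => hz ((QuotientGroup.eq_one_iff _).1 h)
    rw [← map_pow]
    exact (QuotientGroup.eq_one_iff _).2 ⟨_, hcspec a, rfl⟩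
  let θ : X →* X ⧸ D := MonoidHom.mk' (fun x => π x ^ p ^ c) fun x y => by
    show π (x * y) ^ p ^ c = _
    rw [map_mul, hQ.mul_pow_pow]
  have hθ : ∀ x : X, x ∈ θ.ker ↔ x ^ p ^ c ∈ D := fun x => by
    rw [MonoidHom.mem_ker, MonoidHom.mk'_apply, ← map_pow]
    exact QuotientGroup.eq_one_iff _
  have haker : (a : X) ∉ θ.ker := fun h => hz ((hθ _).1 h)
  refine ⟨θ.ker, ?_, fun h => haker (h ▸ mem_top _), fun h => ?_, fun α x hx => ?_⟩
  · rw [PGroups.frattini_eq_derivedPow (p := p) hX]
    refine sup_le (fun x hx => (hθ x).2 ⟨x ^ p ^ (c - 1), C.pow_mem hx _, ?_⟩)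
      ((closure_le _).2 ?_)
    · rw [← pow_mul, ← pow_succ, show c - 1 + 1 = c by omega]
    · rintro _ ⟨g, rfl⟩
      exact (hθ _).2 ⟨g ^ p ^ c, hcspec g, by rw [← pow_mul, ← pow_mul, mul_comm]⟩
  · -- a homomorphism onto a group of order `p` has a kernel of index `p`
    have h1 : θ.range ≤ (commutator X).map π := by
      rintro _ ⟨x, rfl⟩
      exact ⟨x ^ p ^ c, hcspec x, map_pow π x _⟩
    have h2 : (commutator X).map π = commutator (X ⧸ D) := by
      rw [_root_.commutator_def, _root_.commutator_def, Subgroup.map_commutator,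
        Subgroup.map_top_of_surjective π (QuotientGroup.mk'_surjective D)]
    have h3 : θ.ker.index ≤ p := by
      rw [Subgroup.index_ker, ← hQ.card_derived, ← h2]
      exact Subgroup.card_le_of_le h1
    rw [h] at h3
    obtain ⟨b, hb⟩ := SetLike.exists_of_lt
      (lt_top_iff_ne_top.2 (PGroups.frattini_ne_top (G := X)))
    refine hnc b (Subgroup.index_eq_one.1 ?_)
    have h4 : frattini X < frattini X ⊔ zpowers b :=
      lt_of_le_of_ne le_sup_left fun e => hb.2 (e ▸ mem_sup_right (mem_zpowers b))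
    obtain ⟨k, hk⟩ := hX.index (frattini X ⊔ zpowers b)
    rcases k with _ | k
    · simpa using hk
    · exfalso
      have h5 := Subgroup.index_dvd_of_le h4.le
      have h6 : (frattini X ⊔ zpowers b).index < (frattini X).index :=
        Subgroup.index_strictAnti h4
      have h7 : p ≤ p ^ (k + 1) := Nat.le_self_pow k.succ_ne_zero p
      omega
  · rw [hθ] at hx ⊢
    rw [← map_pow]
    exact hDinv α _ hx

/-- The automorphism groups of order prime to `p` of a nonabelian metacyclic `p`-group, `p` odd,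
are abelian of exponent dividing `p - 1`. -/
theorem abelian_of_metacyclic (hp2 : p ≠ 2) (hX : IsPGroup p X) (hm : IsMetacyclic X)
    (hnab : ¬ IsMulCommutative X) (H : Subgroup (MulAut X)) (hH : (Nat.card H).Coprime p) :
    IsMulCommutative H ∧ ∀ h ∈ H, h ^ (p - 1) = 1 := by
  classical
  obtain ⟨M, hΦM, hMtop, hMΦ, hMinv⟩ := exists_char_maximal hp2 hX hm hnab
  haveI : Finite (MulAut X) := Finite.of_injective (fun β : MulAut X => (β : X → X))
    DFunLike.coe_injective
  set π := QuotientGroup.mk' (frattini X) with hπ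
  haveI : M.Normal := ⟨fun x hx g => hMinv (MulAut.conj g) x hx⟩
  set V := M.map π with hV
  haveI : V.Normal := Subgroup.Normal.map inferInstance π (QuotientGroup.mk'_surjective _)
  have hVM : V.comap π = M := by
    rw [hV, Subgroup.comap_map_eq, QuotientGroup.ker_mk', sup_eq_left.2 hΦM]
  have hcard := card_quotient_le hX hm
  obtain ⟨k, hk⟩ := IsPGroup.iff_card.1 (hX.to_quotient (frattini X))
  have hVbot : V ≠ ⊥ := fun h => hMΦ (by
    rw [← hVM, h, MonoidHom.comap_bot, QuotientGroup.ker_mk'])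
  have hVtop : V ≠ ⊤ := fun h => hMtop (by rw [← hVM, h, Subgroup.comap_top])
  have hcards : Nat.card V = p ∧ V.index = p := by
    have h1 := V.card_mul_index
    obtain ⟨i, hi⟩ := IsPGroup.iff_card.1 ((hX.to_quotient (frattini X)).to_subgroup V)
    obtain ⟨j, hj⟩ := (hX.to_quotient (frattini X)).index V
    rw [hi, hj, hk, ← pow_add] at h1
    have hij := Nat.pow_right_injective hp.out.two_le h1
    have hk2 : k ≤ 2 := (Nat.pow_le_pow_iff_right hp.out.one_lt).1 (hk ▸ hcard)
    have hi0 : i ≠ 0 := fun h => hVbot (Subgroup.card_eq_one.1 (by rw [hi, h, pow_zero]))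
    have hj0 : j ≠ 0 := fun h => hVtop (Subgroup.index_eq_one.1 (by rw [hj, h, pow_zero]))
    rw [hi, hj, show i = 1 by omega, show j = 1 by omega, pow_one]
    exact ⟨rfl, rfl⟩
  set ψ := frattiniAction (X := X)
  have hcop : (Nat.card (H.map ψ)).Coprime p :=
    Nat.Coprime.coprime_dvd_left (Subgroup.card_map_dvd H ψ) hH
  obtain ⟨hc, he⟩ := abelian_of_cyclic_series (hX.to_quotient (frattini X)) (H.map ψ) hcop 2
    (fun i => if i = 0 then ⊥ else if i = 1 then V else ⊤)
    (fun i => by split_ifs <;> infer_instance) rfl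
    (fun h hh i hi x hx => by
      obtain ⟨α, -, rfl⟩ := hh
      obtain rfl | rfl | rfl : i = 0 ∨ i = 1 ∨ i = 2 := by omega
      · simp only [if_true, Subgroup.mem_bot] at hx ⊢
        rw [hx, map_one]
      · simp only [one_ne_zero, if_false, if_true] at hx ⊢
        obtain ⟨m, hm', rfl⟩ := hx
        exact ⟨α m, hMinv α m hm', (quotAut_mk _ α m).symm⟩
      · simp)
    (fun i hi => by
      obtain rfl | rfl : i = 0 ∨ i = 1 := by omega
      · haveI := isCyclic_of_prime_card (α := V) hcards.1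
        obtain ⟨g, hg⟩ := IsCyclic.exists_generator (α := V)
        refine ⟨g, by simp, fun x hx => ?_⟩
        simp only [zero_add, one_ne_zero, if_false, if_true] at hx
        obtain ⟨j, hj⟩ := hg ⟨x, hx⟩
        exact Subgroup.mem_sup_right ⟨j, congrArg Subtype.val hj⟩
      · obtain ⟨g, hg⟩ := SetLike.exists_of_lt (lt_top_iff_ne_top.2 hVtop)
        refine ⟨g, by simp, ?_⟩
        simp only [one_ne_zero, if_false, if_true]
        have hlt : V < V ⊔ zpowers g :=
          lt_of_le_of_ne le_sup_left fun e => hg.2 (e ▸ mem_sup_right (mem_zpowers g))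
        rw [(PGroups.isCoatom_of_index_eq_prime hcards.2).2 _ hlt]
        exact le_top)
    (fun h _ hfix => MulEquiv.ext fun x => hfix x (by simp))
  refine ⟨⟨⟨fun a b => Subtype.ext ?_⟩⟩, fun h hh => ?_⟩
  · have h1 : ψ (((b : MulAut X) * a)⁻¹ * ((a : MulAut X) * b)) = 1 := by
      rw [map_mul, map_inv, map_mul, map_mul, inv_mul_eq_one]
      exact (congrArg Subtype.val (hc.is_comm.comm (⟨ψ a, mem_map_of_mem ψ a.2⟩ : H.map ψ)
        ⟨ψ b, mem_map_of_mem ψ b.2⟩)).symm
    exact (inv_mul_eq_one.1 (eq_one_of_action hX H hH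
      (H.mul_mem (H.inv_mem (H.mul_mem b.2 a.2)) (H.mul_mem a.2 b.2)) h1)).symm
  · refine eq_one_of_action hX H hH (H.pow_mem hh _) ?_
    rw [map_pow]
    exact he _ (mem_map_of_mem ψ hh)

end CfsgLib.Fusion.MetacyclicAbelian
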