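import Mathlib
import Cfsg.Agent.Lib.Fusion.Solvable
import Cfsg.Agent.Lib.Fusion.Control
import Cfsg.Agent.Lib.PLocal.CyclicMaxApps
import Cfsg.Agent.Lib.OddOrder.MetacyclicAction
import Cfsg.Agent.Lib.BlockOrth.OrderPFour

/-! A strongly closed metacyclic subgroup for an odd prime is normal in a saturated system. -/
set_option autoImplicit false

universe u v

namespace CfsgLib.Fusion.Metacyclic

open Cfsg Cfsg.FusionSystem
open scoped commutatorElement

/-! ### Transvections on a group of order `p²` -/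

section Plane

variable {p : ℕ} [hp : Fact p.Prime] {A : Type*} [CommGroup A] [Finite A]

theorem zpowers_eq_of_mem (hA : ∀ x : A, x ^ p = 1) {e d : A} (he : e ≠ 1) (hd : d ≠ 1)
    (h : d ∈ Subgroup.zpowers e) : Subgroup.zpowers d = Subgroup.zpowers e := by
  refine Subgroup.eq_of_le_of_card_ge (Subgroup.zpowers_le.2 h) ?_
  rw [Nat.card_zpowers, Nat.card_zpowers, orderOf_eq_prime (hA e) he, orderOf_eq_prime (hA d) hd]

theorem sup_zpowers_eq_top (hA : ∀ x : A, x ^ p = 1) (hc : Nat.card A = p ^ 2) {e f : A}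
    (he : e ≠ 1) (hf : f ∉ Subgroup.zpowers e) :
    Subgroup.zpowers e ⊔ Subgroup.zpowers f = ⊤ := by
  set H := Subgroup.zpowers e ⊔ Subgroup.zpowers f
  have hle : Subgroup.zpowers e ≤ H := le_sup_left
  have h1 : Nat.card H ∣ p ^ 2 := hc ▸ Subgroup.card_subgroup_dvd_card H
  obtain ⟨i, hi, hiH⟩ := (Nat.dvd_prime_pow hp.1).1 h1
  have h2 : p ∣ Nat.card H := by
    have h3 := Subgroup.card_dvd_of_le hle
    rwa [Nat.card_zpowers, orderOf_eq_prime (hA e) he] at h3
  refine Subgroup.eq_top_of_card_eq _ (hc.symm ▸ ?_)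
  rcases i with _ | _ | i
  · rw [hiH, pow_zero] at h2
    exact absurd (Nat.dvd_one.1 h2) hp.1.ne_one
  · exfalso
    have h3 : Subgroup.zpowers e = H := Subgroup.eq_of_le_of_card_ge hle (by
      rw [hiH, pow_one, Nat.card_zpowers, orderOf_eq_prime (hA e) he])
    exact hf (h3 ▸ (le_sup_right : Subgroup.zpowers f ≤ H) (Subgroup.mem_zpowers f))
  · obtain rfl : i = 0 := by omega
    exact hiH

theorem eq_of_eqOn_plane (hA : ∀ x : A, x ^ p = 1) (hc : Nat.card A = p ^ 2) {e f : A}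
    (he : e ≠ 1) (hf : f ∉ Subgroup.zpowers e) {g h : A →* A} (h1 : g e = h e) (h2 : g f = h f)
    (x : A) : g x = h x := by
  have hle : Subgroup.zpowers e ⊔ Subgroup.zpowers f ≤ g.eqLocus h :=
    sup_le (Subgroup.zpowers_le.2 h1) (Subgroup.zpowers_le.2 h2)
  exact hle ((sup_zpowers_eq_top hA hc he hf).ge (Subgroup.mem_top x))

/-- A transvection has a power moving `f` by a prescribed element of its centre. -/
theorem exists_pow_transvection (hA : ∀ x : A, x ^ p = 1) (hc : Nat.card A = p ^ 2) {τ : MulAut A}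
    {e f c : A} (he : e ≠ 1) (hf : f ∉ Subgroup.zpowers e) (hfix : τ e = e)
    (hmov : ∀ x, x⁻¹ * τ x ∈ Subgroup.zpowers e) (hne : τ ≠ 1) (hcm : c ∈ Subgroup.zpowers e) :
    ∃ k : ℕ, (τ ^ k) e = e ∧ (τ ^ k) f = f * c := by
  set d := f⁻¹ * τ f with hd
  have hd1 : d ≠ 1 := by
    intro h
    refine hne (MulEquiv.ext fun x => ?_)
    exact eq_of_eqOn_plane hA hc he hf (g := τ.toMonoidHom) (h := MonoidHom.id A) hfix
      (inv_mul_eq_one.1 h).symm x
  rw [← zpowers_eq_of_mem hA he hd1 (hmov f)] at hcm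
  obtain ⟨k, hk⟩ := mem_powers_iff_mem_zpowers.2 hcm
  have hde : τ d = d := by
    obtain ⟨j, hj⟩ := Subgroup.mem_zpowers_iff.1 (hmov f)
    rw [hd, ← hj, map_zpow, hfix]
  refine ⟨k, ?_, ?_⟩
  · clear hk
    induction k with
    | zero => rfl
    | succ k ih => rw [pow_succ', MulAut.mul_apply, ih, hfix]
  · have key : ∀ m : ℕ, (τ ^ m) f = f * d ^ m := by
      intro m
      induction m with
      | zero => rw [pow_zero, pow_zero, mul_one]; rfl
      | succ m ih =>
        rw [pow_succ', MulAut.mul_apply, ih, map_mul, map_pow, hde,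
          show τ f = f * d from (mul_inv_cancel_left f (τ f)).symm, pow_succ', mul_assoc]
    rw [key k]
    exact congrArg (f * ·) hk

/-- Two transvections with different centres generate a group containing the inversion. -/
theorem exists_inversion (hA : ∀ x : A, x ^ p = 1) (hc : Nat.card A = p ^ 2)
    (H : Subgroup (MulAut A)) {τ α : MulAut A} (hτ : τ ∈ H) (hα : α ∈ H) {e : A} (he : e ≠ 1)
    (hfix : τ e = e) (hmov : ∀ x, x⁻¹ * τ x ∈ Subgroup.zpowers e) (hne : τ ≠ 1)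
    (hnot : α e ∉ Subgroup.zpowers e) : ∃ ι ∈ H, ∀ x, ι x = x⁻¹ := by
  set σ := α * τ * α⁻¹ with hσdef
  set f := α e with hfdef
  have hf1 : f ≠ 1 := fun h => he (α.injective (h.trans (map_one α).symm))
  have hef : e ∉ Subgroup.zpowers f := fun h =>
    hnot ((zpowers_eq_of_mem hA hf1 he h).ge (Subgroup.mem_zpowers f))
  have hσfix : σ f = f := by
    rw [hσdef, hfdef, MulAut.mul_apply, MulAut.mul_apply, MulAut.inv_apply_self, hfix]
  have hσmov : ∀ x, x⁻¹ * σ x ∈ Subgroup.zpowers f := by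
    intro x
    obtain ⟨j, hj⟩ := Subgroup.mem_zpowers_iff.1 (hmov (α⁻¹ x))
    refine Subgroup.mem_zpowers_iff.2 ⟨j, ?_⟩
    rw [hfdef, ← map_zpow, hj, map_mul, map_inv, MulAut.apply_inv_self]
    rfl
  have hσne : σ ≠ 1 := fun h => hne (conj_eq_one_iff.1 h)
  obtain ⟨i, hie, hif⟩ := exists_pow_transvection hA hc he hnot hfix hmov hne
    (Subgroup.mem_zpowers e)
  obtain ⟨j, hjf, hje⟩ := exists_pow_transvection hA hc hf1 hef hσfix hσmov hσne
    (Subgroup.inv_mem _ (Subgroup.mem_zpowers f))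
  set w := τ ^ i * σ ^ j * τ ^ i with hwdef
  have hw1 : w e = f⁻¹ := by
    rw [hwdef, MulAut.mul_apply, hie, MulAut.mul_apply, hje, map_mul, hie, map_inv, hif,
      mul_inv_rev, mul_inv_cancel_left]
  have hw2 : w f = e := by
    rw [hwdef, MulAut.mul_apply, hif, MulAut.mul_apply, map_mul, hjf, hje, mul_left_comm,
      mul_inv_cancel, mul_one, hie]
  have hwH : w ∈ H := by
    have hσ : σ ∈ H := H.mul_mem (H.mul_mem hα hτ) (H.inv_mem hα)
    exact H.mul_mem (H.mul_mem (H.pow_mem hτ i) (H.pow_mem hσ j)) (H.pow_mem hτ i)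
  refine ⟨w * w, H.mul_mem hwH hwH, fun x => ?_⟩
  refine eq_of_eqOn_plane hA hc he hnot (g := (w * w).toMonoidHom)
    (h := (invMonoidHom : A →* A)) ?_ ?_ x
  · show w (w e) = e⁻¹
    rw [hw1, map_inv, hw2]
  · show w (w f) = f⁻¹
    rw [hw2, hw1]

end Plane

variable {p : ℕ} [hp : Fact p.Prime]

/-! ### Lifting normality through a central strongly closed subgroup -/

theorem isNormal_of_factor {Ω : Type u} [Group Ω] {S : Subgroup Ω} [Finite S]
    {F : FusionSystem S} {Ω' : Type v} [Group Ω'] {S' : Subgroup Ω'} {E : FusionSystem S'}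
    {θ : S →* Ω'} {L P : Subgroup Ω} (hS : IsPGroup p S) (hF : F.IsSaturated p)
    (hP : F.StronglyClosed P) (hL : F.StronglyClosed L) (hLP : L ≤ P)
    (hc : ⁅P, L⁆ = ⊥) (hE : F.IsFactorSystem L θ E) (hN : E.IsNormal (imageAlong θ P)) :
    F.IsNormal P := by
  obtain ⟨hLS, hker, hrange, -⟩ := id hE
  have : Finite S' := by
    rw [← hrange]
    exact Finite.of_surjective _ θ.rangeRestrict_surjective
  have hS' : IsPGroup p S' := by
    rw [← hrange]
    exact hS.of_surjective _ θ.rangeRestrict_surjective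
  obtain ⟨n, Qs, h0, hn, -, hsc, hcomm⟩ := exists_chain_of_isNormal hS' hN
  refine isNormal_of_chain hS hF (n + 1)
    (fun i => if i = 0 then ⊥ else preimageAlong θ (Qs (i - 1))) rfl ?_ (fun i _ => ?_)
    fun i hi => ?_
  · simp only [Nat.succ_ne_zero, if_false, Nat.add_sub_cancel, hn]
    rw [preimage_image hker hLS hP.1, sup_eq_left.2 hLP]
  · by_cases h : i = 0
    · simp only [h, if_true]
      exact stronglyClosed_iff.mpr ⟨bot_le, fun P f hf x hxP hx => by
        rw [Subgroup.mem_bot.mp hx]; exact Subgroup.mem_bot.mpr hf.map_one⟩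
    · simp only [h, if_false]
      exact stronglyClosed_preimage hS hF hL hE (hsc _)
  · rcases i with _ | i
    · simp only [Nat.zero_add, one_ne_zero, if_false, if_true, Nat.sub_self, h0]
      refine (Subgroup.commutator_mono le_rfl fun x hx => ?_).trans hc.le
      obtain ⟨hxS, hx'⟩ := mem_preimageAlong.1 hx
      exact (hker _).1 (Subgroup.mem_bot.1 hx')
    · simp only [Nat.succ_ne_zero, if_false, Nat.add_sub_cancel]
      refine Subgroup.commutator_le.2 fun a ha b hb => ?_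
      obtain ⟨hbS, hb'⟩ := mem_preimageAlong.1 hb
      have haS := hP.1 ha
      refine mem_preimageAlong.2
        ⟨(⁅(⟨a, haS⟩ : S), (⟨b, hbS⟩ : S)⁆ : S).2, ?_⟩
      show θ ⁅(⟨a, haS⟩ : S), (⟨b, hbS⟩ : S)⁆ ∈ _
      rw [map_commutatorElement]
      refine hcomm i (by omega) (Subgroup.commutator_mem_commutator ?_ hb')
      exact ⟨⟨a, haS⟩, ha, rfl⟩

variable {Ω : Type u} [Group Ω] {S : Subgroup Ω} [Finite S] {F : FusionSystem S}
  {P E : Subgroup Ω}

/-- The inversion of `E = Ω₁(P)` is not induced by `F` unless `P` centralises `E`. -/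
theorem no_inversion (hS : IsPGroup p S) (hF : F.IsSaturated p) (hp2 : p ≠ 2)
    (hP : F.StronglyClosed P) (hE : F.StronglyClosed E) (hEP : E ≤ P)
    (hmem : ∀ x ∈ P, x ^ p = 1 → x ∈ E) {y₀ : Ω} (hy₀ : y₀ ∈ P)
    (hy₀E : ∃ x ∈ E, y₀ * x ≠ x * y₀)
    {ι : MulAut E} (hι : ι ∈ F.autGroup E) (hinv : ∀ x, ι x = x⁻¹) : False := by
  classical
  have : Finite P := finite_of_le hP.1
  have hES := hE.1
  have hN : normalizerIn S E = S :=
    le_antisymm normalizerIn_le (le_inf le_rfl (stronglyClosed_le_normalizer hE))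
  have hrec := (isFullyAutomized_of_normalized hS hF
    (isFullyNormalized_of_normal (F := F) hES hN)).2
  have hιe : ∀ x ∈ E, autFun ι x = x⁻¹ := fun x hx => by
    rw [autFun_of_mem ι hx]
    exact congrArg Subtype.val (hinv ⟨x, hx⟩)
  obtain ⟨g, hg, hge⟩ := (isReceptive_iff.1 hrec).2 E _ (isMor_autFun hES hι) (img_autFun ι)
  have hSN : S ≤ nExt S E (autFun ι) := by
    intro s hs
    have hsn := stronglyClosed_le_normalizer hE hs
    refine mem_nExt.2 ⟨hs, hsn, s, hs, fun x hx => ?_⟩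
    rw [hιe x hx, hιe (cj s x) ((Subgroup.mem_normalizer_iff.1 hsn x).1 hx)]
    simp [cj, mul_assoc]
  have hgP : IsMor F P g := hg.restrict (hP.1.trans hSN)
  obtain ⟨β, -, hβe⟩ := exists_aut hgP
    (hgP.img_eq_self fun x hx => (stronglyClosed_iff.1 hP).2 P g hgP x hx hx)
  have hβE : ∀ (x : P), (x : Ω) ∈ E → β x = x⁻¹ := fun x hx => Subtype.ext <| by
    rw [← autFun_coe β x, hβe _ x.2, hge _ hx, hιe _ hx]
    rfl
  have : Finite (MulAut P) := finite_mulAut hP.1
  obtain ⟨k, m, hm, hkm⟩ := Nat.exists_eq_pow_mul_and_not_dvd (orderOf_pos β).ne' 2 (by decide)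
  have hsq : ∀ (x : P), (x : Ω) ∈ E → ∀ j : ℕ, (β ^ (2 * j)) x = x := by
    intro x hx j
    induction j with
    | zero => rfl
    | succ j ih =>
      rw [show 2 * (j + 1) = 1 + 1 + 2 * j by omega, pow_add, MulAut.mul_apply, ih, pow_add,
        pow_one, MulAut.mul_apply, hβE x hx, map_inv, hβE x hx, inv_inv]
  obtain ⟨γ, hγk, hγE⟩ : ∃ γ : MulAut P, γ ^ 2 ^ k = 1 ∧
      ∀ x : P, (x : Ω) ∈ E → γ x = x⁻¹ := by
    refine ⟨β ^ m, ?_, fun x hx => ?_⟩
    · rw [← pow_mul, mul_comm, ← hkm, pow_orderOf_eq_one]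
    · rw [show m = 1 + 2 * (m / 2) by omega, pow_add, pow_one, MulAut.mul_apply, hsq x hx,
        hβE x hx]
  -- `γ` stabilises the coset of `y₀` modulo the centraliser of `E`
  set C : Subgroup P := Subgroup.centralizer ((E.subgroupOf P : Subgroup P) : Set P) with hC
  have hEN : (E.subgroupOf P).Normal :=
    (Subgroup.normal_subgroupOf_iff_le_normalizer hEP).2
      (hP.1.trans (stronglyClosed_le_normalizer hE))
  have hcong : ∀ y : P, y⁻¹ * γ y ∈ C := by
    intro y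
    refine Subgroup.mem_centralizer_iff.2 fun x hx => ?_
    have hx' : (x : Ω) ∈ E := hx
    have h1 : y * x * y⁻¹ ∈ E.subgroupOf P := hEN.conj_mem x hx y
    have h2 := hγE _ (Subgroup.mem_subgroupOf.1 h1)
    rw [map_mul, map_mul, map_inv, hγE x hx'] at h2
    have h3 : γ y * x * (γ y)⁻¹ = y * x * y⁻¹ := by
      have h4 := congrArg Inv.inv h2
      simpa [mul_assoc] using h4
    calc x * (y⁻¹ * γ y) = y⁻¹ * (y * x * y⁻¹) * γ y := by group
      _ = y⁻¹ * (γ y * x * (γ y)⁻¹) * γ y := by rw [h3]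
      _ = y⁻¹ * γ y * x := by group
  have hinvar : ∀ y : P, (⟨y₀, hy₀⟩⁻¹ * γ y ∈ C) ↔ (⟨y₀, hy₀⟩⁻¹ * y ∈ C) := by
    intro y
    rw [show (⟨y₀, hy₀⟩ : P)⁻¹ * γ y = (⟨y₀, hy₀⟩⁻¹ * y) * (y⁻¹ * γ y) by group]
    exact Subgroup.mul_mem_cancel_right C (hcong y)
  letI : Fintype P := Fintype.ofFinite _
  have hodd : ¬ 2 ∣ Fintype.card {y : P // (⟨y₀, hy₀⟩ : P)⁻¹ * y ∈ C} := by
    have hcard : Nat.card {y : P // (⟨y₀, hy₀⟩ : P)⁻¹ * y ∈ C} = Nat.card C :=
      Nat.card_congr ((Equiv.mulLeft (⟨y₀, hy₀⟩ : P)⁻¹).subtypeEquiv fun _ => Iff.rfl)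
    rw [← Nat.card_eq_fintype_card, hcard]
    obtain ⟨a, ha⟩ := ((isPGroup_of_le hP.1 hS).to_subgroup C).exists_card_eq
    rw [ha]
    intro h
    exact hp2 ((Nat.prime_dvd_prime_iff_eq Nat.prime_two hp.1).1
      (Nat.prime_two.dvd_of_dvd_pow h)).symm
  set σ := Equiv.Perm.subtypePerm (p := fun y => (⟨y₀, hy₀⟩ : P)⁻¹ * y ∈ C) γ.toEquiv hinvar
    with hσ
  haveI : Fact (Nat.Prime 2) := ⟨Nat.prime_two⟩
  have hpow : ∀ (j : ℕ) (y), ((σ ^ j) y).1 = (γ ^ j) y.1 := by
    intro j y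
    induction j with
    | zero => rfl
    | succ j ih =>
      rw [pow_succ', pow_succ', Equiv.Perm.mul_apply, MulAut.mul_apply, ← ih]
      rfl
  obtain ⟨⟨y, hy⟩, hfix⟩ := Equiv.Perm.exists_fixed_point_of_prime (p := 2) (n := k) hodd
    (σ := σ) (Equiv.ext fun y => Subtype.ext (by rw [hpow, hγk]; rfl))
  have hyfix : γ y = y := congrArg Subtype.val hfix
  have hy1 : y ≠ 1 := by
    rintro rfl
    obtain ⟨x, hx, hne⟩ := hy₀E
    rw [mul_one] at hy
    have h1 : (⟨y₀, hy₀⟩ : P) ∈ C := by simpa using C.inv_mem hy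
    exact hne (congrArg Subtype.val
      (Subgroup.mem_centralizer_iff.1 h1 ⟨x, hEP hx⟩ hx)).symm
  -- a power of `y` of order `p` is both fixed and inverted
  obtain ⟨a, ha⟩ := isPGroup_of_le hP.1 hS y
  obtain ⟨b, -, hb⟩ := (Nat.dvd_prime_pow hp.1).1 (orderOf_dvd_of_pow_eq_one ha)
  rcases b with _ | b
  · exact hy1 (orderOf_eq_one_iff.1 (by rw [hb, pow_zero]))
  set z := y ^ p ^ b with hz
  have hzo : orderOf z = p := by
    rw [hz, orderOf_pow_of_dvd (pow_ne_zero _ hp.1.ne_zero) (hb ▸ pow_dvd_pow p b.le_succ), hb,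
      pow_succ, Nat.mul_div_cancel_left _ (pow_pos hp.1.pos b)]
  have hzE : (z : Ω) ∈ E :=
    hmem _ z.2 (congrArg Subtype.val (hzo ▸ pow_orderOf_eq_one z : z ^ p = 1))
  have h1 : z = z⁻¹ := by rw [← hγE z hzE, hz, map_pow, hyfix]
  have h2 : z ^ 2 = 1 := by
    rw [sq]
    nth_rewrite 1 [h1]
    exact inv_mul_cancel z
  have h3 := orderOf_dvd_of_pow_eq_one h2
  rw [hzo] at h3
  exact hp2 ((Nat.prime_dvd_prime_iff_eq hp.1 Nat.prime_two).1 h3)

/-- The nonabelian case: a central line of `Ω₁(P)` strongly closed in `F`. -/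
theorem exists_line (hS : IsPGroup p S) (hF : F.IsSaturated p) (hp2 : p ≠ 2)
    (hP : F.StronglyClosed P) (hE : F.StronglyClosed E) (hEP : E ≤ P)
    (hmem : ∀ x ∈ P, x ^ p = 1 → x ∈ E) (hEp : ∀ x ∈ E, x ^ p = 1)
    (hab : ∀ x ∈ E, ∀ y ∈ E, x * y = y * x) (hcard : Nat.card E = p ^ 2) :
    ∃ L : Subgroup Ω, F.StronglyClosed L ∧ L ≤ P ∧ L ≠ ⊥ ∧ ⁅P, L⁆ = ⊥ := by
  classical
  have : Finite P := finite_of_le hP.1
  have : Finite E := finite_of_le hE.1
  set L := E ⊓ Subgroup.centralizer (P : Set Ω) with hLdef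
  have hLE : L ≤ E := inf_le_left
  have hPp : IsPGroup p P := isPGroup_of_le hP.1 hS
  have hEN : (E.subgroupOf P).Normal :=
    (Subgroup.normal_subgroupOf_iff_le_normalizer hEP).2
      (hP.1.trans (stronglyClosed_le_normalizer hE))
  have hne : E.subgroupOf P ≠ ⊥ := by
    intro h
    have h1 := Nat.card_congr (Subgroup.subgroupOfEquivOfLe hEP).toEquiv
    rw [h, Subgroup.card_bot, hcard] at h1
    exact absurd h1.symm (Nat.one_lt_pow two_ne_zero hp.1.one_lt).ne'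
  obtain ⟨z, hz, hz1⟩ := (Subgroup.bot_or_exists_ne_one _).resolve_left
    (CfsgLib.PGroups.inf_center_ne_bot hPp hne)
  have hzL : (z : Ω) ∈ L := ⟨(Subgroup.mem_inf.1 hz).1, fun y hy =>
    congrArg Subtype.val (Subgroup.mem_center_iff.1 (Subgroup.mem_inf.1 hz).2 ⟨y, hy⟩)⟩
  have hz1' : (z : Ω) ≠ 1 := fun h => hz1 (Subtype.ext h)
  have hcomm : ⁅P, L⁆ = ⊥ := Subgroup.commutator_eq_bot_iff_le_centralizer.2 fun x hx y hy =>
    ((Subgroup.mem_centralizer_iff.1 (Subgroup.mem_inf.1 hy).2 x hx).symm)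
  refine ⟨L, ?_, hLE.trans hEP, fun h => hz1' (Subgroup.mem_bot.1 (h ▸ hzL)), hcomm⟩
  by_cases hcen : E ≤ Subgroup.centralizer (P : Set Ω)
  · rw [hLdef, inf_eq_left.2 hcen]
    exact hE
  obtain ⟨x₀, hx₀, hx₀c⟩ := SetLike.not_le_iff_exists.1 hcen
  obtain ⟨y₀, hy₀, hne₀⟩ : ∃ y ∈ P, y * x₀ ≠ x₀ * y := by
    by_contra h
    exact hx₀c fun y hy => not_not.1 fun h' => h ⟨y, hy, h'⟩
  have hLcard : Nat.card L = p := by
    obtain ⟨i, hi, hiL⟩ := (Nat.dvd_prime_pow hp.1).1 (hcard ▸ Subgroup.card_dvd_of_le hLE)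
    rcases i with _ | _ | i
    · exact absurd (Subgroup.mem_bot.1 ((Subgroup.card_eq_one.1 hiL) ▸ hzL)) hz1'
    · rw [hiL, pow_one]
    · exfalso
      obtain rfl : i = 0 := by omega
      have h1 : L = E := Subgroup.eq_of_le_of_card_ge hLE (by rw [hiL, hcard])
      exact hx₀c (inf_eq_left.1 h1 hx₀)
  have hLeq : ∀ x, x ∈ L ↔ x ∈ Subgroup.zpowers (z : Ω) := by
    have h1 : Subgroup.zpowers (z : Ω) = L := by
      haveI : Finite L := finite_of_le (hLE.trans hE.1)
      refine Subgroup.eq_of_le_of_card_ge (Subgroup.zpowers_le.2 hzL) ?_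
      rw [hLcard, Nat.card_zpowers, orderOf_eq_prime (hEp _ (hLE hzL)) hz1']
    exact fun x => by rw [h1]
  -- `P` moves `E` into `L`
  have hmov : ∀ x ∈ E, x⁻¹ * (y₀ * x * y₀⁻¹) ∈ L := by
    intro x hx
    set L' := L.subgroupOf P with hL'
    have hL'c : L' ≤ Subgroup.center P := fun a ha => Subgroup.mem_center_iff.2 fun b =>
      Subtype.ext (Subgroup.mem_centralizer_iff.1 (Subgroup.mem_inf.1 ha).2 b b.2)
    have : L'.Normal := CfsgLib.PGroups.normal_of_le_center hL'c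
    set π := QuotientGroup.mk' L' with hπ
    have : ((E.subgroupOf P).map π).Normal := hEN.map π (QuotientGroup.mk'_surjective _)
    have hc1 : Nat.card ((E.subgroupOf P).map π) = p := by
      have h1 := Subgroup.relIndex_ker (f := π) (E.subgroupOf P)
      rw [QuotientGroup.ker_mk'] at h1
      have h2 := Subgroup.relIndex_mul_relIndex (⊥ : Subgroup P) L' (E.subgroupOf P) bot_le
        (Subgroup.comap_mono hLE)
      rw [Subgroup.relIndex_bot_left, Subgroup.relIndex_bot_left,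
        Nat.card_congr (Subgroup.subgroupOfEquivOfLe (hLE.trans hEP)).toEquiv,
        Nat.card_congr (Subgroup.subgroupOfEquivOfLe hEP).toEquiv, hLcard, hcard, sq] at h2
      rw [← h1]
      exact Nat.eq_of_mul_eq_mul_left hp.1.pos h2
    have h3 := CfsgLib.BlockOrth.le_center_of_card_eq_prime (hPp.to_quotient L') hc1
      ⟨⟨x, hEP hx⟩, hx, rfl⟩
    have h4 := Subgroup.mem_center_iff.1 h3 (π ⟨y₀, hy₀⟩)
    have h5 : (⟨x, hEP hx⟩ : P)⁻¹ * (⟨y₀, hy₀⟩ * ⟨x, hEP hx⟩ * (⟨y₀, hy₀⟩ : P)⁻¹) ∈ L' := by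
      refine (QuotientGroup.eq_one_iff _).1 ?_
      show π _ = 1
      rw [map_mul, map_inv, map_mul, map_mul, map_inv, h4, mul_inv_cancel_right, inv_mul_cancel]
    exact h5
  have hy₀n := stronglyClosed_le_normalizer hE (hP.1 hy₀)
  obtain ⟨τ, hτ, hτe⟩ := exists_autInducedBy (P := E) (hP.1 hy₀) hy₀n
  have hτF := autInducedBy_le F hE.1 hτ
  refine stronglyClosed_iff.2 ⟨hLE.trans hE.1, fun R f hf x hxR hxL => ?_⟩
  obtain ⟨g, hg, hgf, hgE⟩ := (isNormal_iff.1 (isNormal_of_abelian hS hF hE hab)).2 R f hf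
  rw [← hgf x hxR]
  obtain ⟨α, hα, hαe⟩ := exists_aut (hg.restrict le_sup_right) hgE
  rw [← hαe x (hLE hxL)]
  by_contra hnot
  letI : CommGroup E := { (inferInstance : Group E) with
    mul_comm := fun a b => Subtype.ext (hab a a.2 b b.2) }
  set e : E := ⟨x, hLE hxL⟩ with he
  have he1 : e ≠ 1 := by
    intro h
    apply hnot
    have hx1 : x = 1 := congrArg Subtype.val h
    rw [autFun_of_mem α (hLE hxL), show (⟨x, hLE hxL⟩ : E) = 1 from h, map_one]
    exact L.one_mem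
  have hez : Subgroup.zpowers (x : Ω) = Subgroup.zpowers (z : Ω) := by
    have : Finite (Subgroup.zpowers (z : Ω)) :=
      finite_of_le (Subgroup.zpowers_le.2 (hE.1 (hLE hzL)))
    refine Subgroup.eq_of_le_of_card_ge (Subgroup.zpowers_le.2 ((hLeq x).1 hxL)) ?_
    rw [Nat.card_zpowers, Nat.card_zpowers, orderOf_eq_prime (hEp _ (hLE hzL)) hz1',
      orderOf_eq_prime (hEp _ (hLE hxL)) fun h => he1 (Subtype.ext h)]
  have hzp : ∀ a : E, a ∈ Subgroup.zpowers e ↔ (a : Ω) ∈ L := fun a => by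
    rw [hLeq, ← hez, Subgroup.mem_zpowers_iff, Subgroup.mem_zpowers_iff]
    exact exists_congr fun j => Subtype.ext_iff.trans (by rw [Subgroup.coe_zpow])
  have hτap : ∀ a : E, ((τ a : E) : Ω) = y₀ * a * y₀⁻¹ := fun a => by
    rw [← autFun_coe τ a, hτe _ a.2]
    rfl
  obtain ⟨ι, hι, hinv⟩ := exists_inversion (A := E) (p := p)
    (fun a => Subtype.ext (hEp _ a.2)) hcard (F.autGroup E) hτF hα he1
    (Subtype.ext <| by
      rw [hτap, mul_inv_eq_iff_eq_mul]
      exact Subgroup.mem_centralizer_iff.1 (Subgroup.mem_inf.1 hxL).2 y₀ hy₀)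
    (fun a => (hzp _).2 (by
      show (a : Ω)⁻¹ * ((τ a : E) : Ω) ∈ L
      rw [hτap]
      exact hmov _ a.2))
    (fun h => hne₀ (by
      have h1 := hτap ⟨x₀, hx₀⟩
      rw [h] at h1
      exact (mul_inv_eq_iff_eq_mul.1 h1.symm)))
    (fun h => hnot (by
      rw [autFun_of_mem α (hLE hxL)]
      exact (hzp _).1 h))
  exact no_inversion hS hF hp2 hP hE hEP hmem hy₀ ⟨x₀, hx₀, hne₀⟩ hι hinv

omit [Finite S] in
theorem isMetacyclic_imageAlong {Ω' : Type v} [Group Ω'] (θ : S →* Ω') (hPS : P ≤ S)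
    (hm : IsMetacyclic P) : IsMetacyclic ↥(imageAlong θ P) :=
  CfsgLib.OddOrder.isMetacyclic_of_surjective
    ((θ.subgroupMap (P.subgroupOf S)).comp (Subgroup.subgroupOfEquivOfLe hPS).symm.toMonoidHom)
    ((θ.subgroupMap_surjective _).comp (Subgroup.subgroupOfEquivOfLe hPS).symm.surjective) hm

omit hp in
theorem card_imageAlong_lt {Ω' : Type v} [Group Ω'] {θ : S →* Ω'} {L : Subgroup Ω}
    (hPS : P ≤ S) (hLP : L ≤ P) (hker : ∀ s : S, θ s = 1 ↔ (s : Ω) ∈ L) (hL : L ≠ ⊥) :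
    Nat.card ↥(imageAlong θ P) < Nat.card P := by
  have : Finite P := finite_of_le hPS
  have : Finite L := finite_of_le (hLP.trans hPS)
  have hk : θ.ker = L.subgroupOf S := Subgroup.ext fun s => hker s
  have h1 : (L.subgroupOf S).relIndex (P.subgroupOf S) = Nat.card ↥(imageAlong θ P) :=
    hk ▸ Subgroup.relIndex_ker (f := θ) (P.subgroupOf S)
  have h2 := Subgroup.relIndex_mul_relIndex (⊥ : Subgroup S) (L.subgroupOf S) (P.subgroupOf S)
    bot_le (Subgroup.comap_mono hLP)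
  rw [Subgroup.relIndex_bot_left, Subgroup.relIndex_bot_left, h1,
    Nat.card_congr (Subgroup.subgroupOfEquivOfLe (hLP.trans hPS)).toEquiv,
    Nat.card_congr (Subgroup.subgroupOfEquivOfLe hPS).toEquiv] at h2
  have h3 : 1 < Nat.card L := Finite.one_lt_card_iff_nontrivial.2
    ((Subgroup.nontrivial_iff_ne_bot L).2 hL)
  have h4 : 0 < Nat.card P := Nat.card_pos
  rw [← h2] at h4 ⊢
  exact lt_mul_of_one_lt_left (Nat.pos_of_mul_pos_left h4) h3

theorem isNormal_aux (hp2 : p ≠ 2) (n : ℕ) :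
    ∀ {Ω : Type u} [Group Ω] {S : Subgroup Ω} [Finite S], IsPGroup p S →
      ∀ (F : FusionSystem S), F.IsSaturated p → ∀ P : Subgroup Ω, F.StronglyClosed P →
        IsMetacyclic P → Nat.card P ≤ n → F.IsNormal P := by
  induction n with
  | zero =>
    intro Ω _ S _ _ F _ P hP _ hn
    have : Finite P := finite_of_le hP.1
    exact absurd hn (Nat.card_pos (α := P)).not_ge
  | succ n ih =>
    intro Ω _ S _ hS F hF P hP hm hn
    by_cases hab : ∀ x ∈ P, ∀ y ∈ P, x * y = y * x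
    · exact isNormal_of_abelian hS hF hP hab
    have : Finite P := finite_of_le hP.1
    have hnc : ¬ IsCyclic P := fun h => hab fun x hx y hy => by
      letI := h.commGroup
      exact congrArg Subtype.val (mul_comm (⟨x, hx⟩ : P) ⟨y, hy⟩)
    obtain ⟨⟨hc, hpow⟩, hcard⟩ :=
      CfsgLib.PLocal.omegaOne_metacyclic hp2 (isPGroup_of_le hP.1 hS) hm hnc
    set E := (omegaOne p (⊤ : Subgroup P)).map P.subtype with hEdef
    have hEP : E ≤ P := Subgroup.map_subtype_le _
    have hEp : ∀ x ∈ E, x ^ p = 1 := by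
      rintro _ ⟨a, ha, rfl⟩
      exact congrArg Subtype.val (hpow a ha)
    have hmem : ∀ x ∈ P, x ^ p = 1 → x ∈ E := fun x hx h =>
      ⟨⟨x, hx⟩, Subgroup.subset_closure ⟨Subgroup.mem_top _, Subtype.ext h⟩, rfl⟩
    have hEab : ∀ x ∈ E, ∀ y ∈ E, x * y = y * x := by
      rintro _ ⟨a, ha, rfl⟩ _ ⟨b, hb, rfl⟩
      rw [← map_mul, ← map_mul, show a * b = b * a from
        congrArg Subtype.val (hc.1.comm ⟨a, ha⟩ ⟨b, hb⟩)]
    have hEsc : F.StronglyClosed E := stronglyClosed_iff.2 ⟨hEP.trans hP.1,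
      fun R f hf x hxR hx => hmem _ ((stronglyClosed_iff.1 hP).2 R f hf x hxR (hEP hx))
        (by rw [← hf.map_pow hxR, hEp x hx, hf.map_one])⟩
    have hEcard : Nat.card E = p ^ 2 := by
      rw [← hcard]
      exact (Nat.card_congr ((omegaOne p (⊤ : Subgroup P)).equivMapOfInjective _
        P.subtype_injective).toEquiv).symm
    obtain ⟨L, hL, hLP, hL1, hLc⟩ :=
      exists_line hS hF hp2 hP hEsc hEP hmem hEp hEab hEcard
    have hn' : (L.subgroupOf S).Normal :=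
      (Subgroup.normal_subgroupOf_iff_le_normalizer hL.1).2 (stronglyClosed_le_normalizer hL)
    have hker : ∀ s : S, QuotientGroup.mk' (L.subgroupOf S) s = 1 ↔ (s : Ω) ∈ L :=
      fun s => QuotientGroup.eq_one_iff s
    obtain ⟨E', hE'⟩ := exists_factorSystem hL (θ := QuotientGroup.mk' (L.subgroupOf S)) hker
      (S' := ⊤) (MonoidHom.range_eq_top.mpr (QuotientGroup.mk'_surjective _))
    refine isNormal_of_factor hS hF hP hL hLP hLc hE' (ih ?_ E' (factor_isSaturated hS hF hL hE')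
      _ (stronglyClosed_image hE' hP hLP) (isMetacyclic_imageAlong _ hP.1 hm) ?_)
    · exact (hS.to_quotient _).to_subgroup _
    · have := card_imageAlong_lt hP.1 hLP hker hL1
      omega

end CfsgLib.Fusion.Metacyclic
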