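import Mathlib
import Cfsg.Agent.Lib.Fusion.LimitSame
import Cfsg.Agent.Lib.Fusion.NormalLabel
import Cfsg.Agent.Lib.Fusion.Morphism
import Cfsg.Prelude.Def_Local

/-!
# Descending along a normal series of the automizer of the base of a normal subsystem
-/

set_option autoImplicit false
set_option linter.unusedSectionVars false
set_option maxHeartbeats 800000

namespace CfsgLib.Fusion

open Cfsg Cfsg.FusionSystem

variable {Ω : Type*} [Group Ω] {S T : Subgroup Ω} {F : FusionSystem S} {E : FusionSystem T}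
  {p : ℕ} [hp : Fact p.Prime]

/-- The elements of `SG` acting on `T` as elements of `N`. -/
def inducingIn (SG T : Subgroup Ω) (N : Subgroup (MulAut T)) : Subgroup Ω where
  carrier := {s | s ∈ SG ∧ ∃ a ∈ N, ∀ t ∈ T, autFun a t = cj s t}
  one_mem' := ⟨SG.one_mem, 1, N.one_mem, fun t ht => by rw [autFun_one ht, cj_one]⟩
  mul_mem' := by
    rintro s s' ⟨hs, a, ha, e⟩ ⟨hs', a', ha', e'⟩
    refine ⟨SG.mul_mem hs hs', a * a', N.mul_mem ha ha', fun t ht => ?_⟩
    rw [autFun_mul _ _ ht, e _ (autFun_mem a' ht), e' t ht, cj_mul]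
  inv_mem' := by
    rintro s ⟨hs, a, ha, e⟩
    refine ⟨SG.inv_mem hs, a⁻¹, N.inv_mem ha, fun t ht => ?_⟩
    conv_rhs => rw [← autFun_inv_right a ht, e _ (autFun_mem a⁻¹ ht), cj_inv_cj]

theorem mem_inducingIn {SG : Subgroup Ω} {N : Subgroup (MulAut T)} {s : Ω} :
    s ∈ inducingIn SG T N ↔ s ∈ SG ∧ ∃ a ∈ N, ∀ t ∈ T, autFun a t = cj s t := Iff.rfl

/-- Carrying an inner action on `T` along a map whose source contains `T`. -/
theorem cj_transport {U X : Subgroup Ω} {G : FusionSystem U} {g : Ω → Ω} (hg : IsMor G X g)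
    (hTX : T ≤ X) {ω a : MulAut T} (hω : ∀ t ∈ T, autFun ω t = g t) {x : Ω} (hx : x ∈ X)
    (ha : ∀ t ∈ T, autFun a t = cj x t) : ∀ t ∈ T, autFun (ω * a * ω⁻¹) t = cj (g x) t := by
  intro t ht
  have hu := autFun_mem ω⁻¹ ht
  rw [autFun_mul _ _ ht, autFun_mul _ _ hu, hω _ (autFun_mem a hu), ha _ hu]
  refine (hg.map_conj hx (hTX hu)).trans ?_
  rw [← hω _ hu, autFun_inv_right ω ht]
  rfl

variable [Finite S]

theorem fullyNormalized_of_stronglyClosed (hT : F.StronglyClosed T) : F.IsFullyNormalized T := by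
  refine ⟨hT.1, fun Q hQ => ?_⟩
  obtain ⟨f, hf, rfl⟩ := isConj_iff.mp hQ
  rw [hf.img_eq_self fun x hx => (stronglyClosed_iff.mp hT).2 T f hf x hx hx]


/-- A weakly normal subsystem over a subgroup containing its centralizer is normal. -/
theorem isNormalIn_of_centralizer_le {U : Subgroup Ω} {G : FusionSystem U}
    (hG : G.IsWeaklyNormalIn F p) (hC : centralizerIn S U ≤ U) : G.IsNormalIn F p := by
  refine ⟨hG, fun α hα => ?_⟩
  have hUS : U ≤ S := hG.2.2.2.1.1
  have hW : U ⊔ centralizerIn S U = U := sup_eq_left.mpr hC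
  have hm := isMor_autFun hUS (autGroup_mono hG.2.2.1 hα)
  have hi : img (U ⊔ centralizerIn S U) (autFun α) = U ⊔ centralizerIn S U := by
    rw [hW, img_autFun]
  obtain ⟨β, hβ, hβe⟩ := exists_aut (hm.restrict hW.le) hi
  refine ⟨β, hβ, fun x => ?_, fun c hc => ?_⟩
  · rw [← autFun_coe β, ← autFun_coe α]
    exact hβe _ (Subgroup.mem_sup_left x.2)
  · rw [← autFun_coe β, hβe _ c.2]
    have hcU := hC hc
    have hz : autFun α (c : Ω) ∈ Subgroup.centralizer (U : Set Ω) := by
      refine Subgroup.mem_centralizer_iff.mpr fun y hy => ?_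
      have hy' := autFun_mem α⁻¹ hy
      have h1 := Subgroup.mem_centralizer_iff.mp (Subgroup.mem_inf.mp hc).2 _ hy'
      have h2 := congrArg (autFun α) h1
      rwa [autFun_map_mul α hy' hcU, autFun_map_mul α hcU hy', autFun_inv_right α hy] at h2
    exact ⟨U.mul_mem (U.inv_mem hcU) (autFun_mem α hcU),
      Subgroup.mul_mem _ (Subgroup.inv_mem _ (Subgroup.mem_inf.mp hc).2) hz⟩

/-- A subsystem of `F` reached on the way down: its automizer of `T` is `N`. -/
def EnvStage (F : FusionSystem S) (E : FusionSystem T) (p : ℕ) (N : Subgroup (MulAut T)) : Prop :=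
  ∃ (SG : Subgroup Ω) (G : FusionSystem SG), G.IsWeaklyNormalIn F p ∧
    T ⊔ centralizerIn S T ≤ SG ∧ E.IsSubsystemOf G ∧ G.autGroup T = N ∧ SameLim p F G

variable (hS : IsPGroup p S) (hE : E.IsWeaklyNormalIn F p) {N N' : Subgroup (MulAut T)}
  (hst : EnvStage F E p N) (hN : N' ≤ N) (hB : E.autGroup T ≤ N')
  (hn : ∀ θ ∈ F.autGroup T, ∀ a ∈ N', θ * a * θ⁻¹ ∈ N')

include hS hE hst hN hB hn

/-- A step of `p`-power index. -/
theorem envStage_pPower (hk : ∀ a ∈ N, ∃ k : ℕ, a ^ p ^ k ∈ N') : EnvStage F E p N' := by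
  obtain ⟨SG, G, hG, hle, hEG, hAut, hsame⟩ := hst
  subst hAut
  obtain ⟨hEs, hF, hsub, hT, -⟩ := id hE
  obtain ⟨hGs, -, hGsub, hSG, -⟩ := id hG
  obtain ⟨hTS, hsc⟩ := stronglyClosed_iff.mp hT
  obtain ⟨hGS, hGsc⟩ := stronglyClosed_iff.mp hSG
  have hTG : T ≤ SG := le_sup_left.trans hle
  have : Finite SG := finite_of_le hGS
  have : Finite T := finite_of_le hTS
  have hGp : IsPGroup p SG := isPGroup_of_le hGS hS
  have hTp : IsPGroup p T := isPGroup_of_le hTS hS
  have := finite_mulAut hTS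
  have hGT : G.StronglyClosed T :=
    stronglyClosed_iff.mpr ⟨hTG, fun P f hf => hsc P f (le_iff_isMor.mp hGsub _ _ hf)⟩
  have hNA : G.autGroup T ≤ F.autGroup T := autGroup_mono hGsub
  have hSN := stronglyClosed_le_normalizer hT
  set U := inducingIn SG T N' with hUdef
  have hUG : U ≤ SG := fun s hs => hs.1
  have hinner : ∀ t₀ ∈ T, ∃ b ∈ N', ∀ t ∈ T, autFun b t = cj t₀ t := by
    intro t₀ ht₀
    obtain ⟨b, hb, hbe⟩ := exists_autInducedBy (K := T) ht₀ (Subgroup.le_normalizer ht₀)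
    exact ⟨b, hB (autInducedBy_le E le_rfl hb), hbe⟩
  have hTU : T ≤ U := fun t ht => ⟨hTG ht, hinner t ht⟩
  have hCU : centralizerIn S T ≤ U := fun c hc => ⟨hle (Subgroup.mem_sup_right hc), 1, one_mem _,
    fun t ht => by rw [autFun_one ht, (mem_centralizerIn.mp hc).2 t ht]⟩
  have hUS : U ≤ S := hUG.trans hGS
  have : Finite U := finite_of_le hUS
  have hUp : IsPGroup p U := isPGroup_of_le hUS hS
  have hUsc : F.StronglyClosed U := by
    refine stronglyClosed_iff.mpr ⟨hUS, fun P f hf x hx hxU => ?_⟩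
    obtain ⟨hxG, a, ha, hae⟩ := hxU
    obtain ⟨g, hg, hge⟩ := exists_map_sup hS hF hT hf
    obtain ⟨ω, hω, hωe⟩ := exists_aut (hg.restrict le_sup_right)
      ((hg.restrict le_sup_right).img_eq_self fun t ht => hsc _ g hg t (Subgroup.mem_sup_right ht) ht)
    obtain ⟨b, hb, hbe⟩ := hinner _ (T.inv_mem (hge x hx))
    refine ⟨hGsc P f hf x hx hxG, ω * a * ω⁻¹ * b, N'.mul_mem (hn ω hω a ha) hb, fun t ht => ?_⟩
    rw [autFun_mul _ _ ht,
      cj_transport hg le_sup_right hωe (Subgroup.mem_sup_left hx) hae _ (autFun_mem b ht),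
      hbe t ht, ← cj_mul, mul_inv_rev, inv_inv, mul_inv_cancel_left]
  have hyp : G.hyperfocalSubgroup p ≤ U := by
    refine hyp_le fun P hP α hα hc x hx => ?_
    have hαm := isMor_autFun hP hα
    obtain ⟨g, hg, hge⟩ := exists_map_sup hGp hGs hGT hαm
    obtain ⟨ω, hω, hωe⟩ := exists_aut (hg.restrict le_sup_right)
      ((hg.restrict le_sup_right).img_eq_self fun t ht =>
        (stronglyClosed_iff.mp hGT).2 _ g hg t (Subgroup.mem_sup_right ht) ht)
    have hωA := hNA hω
    obtain ⟨a, ha, hae⟩ := exists_autInducedBy (K := SG) (P := T) (hP hx) (hSN (hGS (hP hx)))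
    have haN : a ∈ G.autGroup T := autInducedBy_le G hTG ha
    have hall : ∀ i : ℕ, ∃ a' : MulAut T, (∀ t ∈ T, autFun a' t = cj (autFun (α ^ i) x) t) ∧
        a'⁻¹ * (ω ^ i * a * (ω ^ i)⁻¹) ∈ N' := by
      intro i
      induction i with
      | zero => exact ⟨a, fun t ht => by rw [pow_zero, autFun_one hx]; exact hae t ht, by simp⟩
      | succ i ih =>
        obtain ⟨a', ha', hd⟩ := ih
        set y := autFun (α ^ i) x with hy
        have hyP : y ∈ P := autFun_mem _ hx
        obtain ⟨b, hb, hbe⟩ := hinner _ (T.inv_mem (hge y hyP))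
        refine ⟨ω * a' * ω⁻¹ * b, fun t ht => ?_, ?_⟩
        · rw [autFun_mul _ _ ht,
            cj_transport hg le_sup_right hωe (Subgroup.mem_sup_left hyP) ha' _ (autFun_mem b ht),
            hbe t ht, ← cj_mul, mul_inv_rev, inv_inv, mul_inv_cancel_left, pow_succ',
            autFun_mul _ _ hx]
        · have h := N'.mul_mem (N'.inv_mem hb) (hn ω hωA _ hd)
          convert h using 1
          rw [pow_succ']
          group
    obtain ⟨k, hωk⟩ := hk ω hω
    obtain ⟨j, hj⟩ := exists_pow_eq_self_of_coprime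
      (n := p ^ k) (x := α) (Nat.Coprime.pow_left k hc.symm)
    obtain ⟨a', ha', hd⟩ := hall (p ^ k * j)
    rw [pow_mul α, hj] at ha'
    have hωi : ω ^ (p ^ k * j) ∈ N' := by rw [pow_mul]; exact N'.pow_mem hωk j
    have h1 : a⁻¹ * (ω ^ (p ^ k * j) * a * (ω ^ (p ^ k * j))⁻¹) ∈ N' := by
      have := N'.mul_mem (hn a⁻¹ (hNA (Subgroup.inv_mem _ haN)) _ hωi) (N'.inv_mem hωi)
      simpa [mul_assoc] using this
    have h2 := N'.mul_mem h1 (N'.inv_mem hd)
    refine ⟨SG.mul_mem (SG.inv_mem (hP hx)) (hP (autFun_mem α hx)), a⁻¹ * a', ?_, fun t ht => ?_⟩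
    · simpa [mul_assoc] using h2
    · rw [autFun_mul _ _ ht, ha' t ht, cj_mul]
      have hu : cj (autFun α x) t ∈ T := ha' t ht ▸ autFun_mem a' ht
      conv_rhs => rw [← autFun_inv_right a hu, hae _ (autFun_mem a⁻¹ hu), cj_inv_cj]
  obtain ⟨G', hG's, hG'i, -⟩ := exists_pPowerIndex hGp hGs hUG hyp
  have hG'F : G'.IsSubsystemOf F := fun P => (hG'i.1 P).trans (hGsub P)
  have hG'T : G'.StronglyClosed T :=
    stronglyClosed_iff.mpr ⟨hTU, fun P f hf => hsc P f (le_iff_isMor.mp hG'F _ _ hf)⟩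
  refine ⟨U, G', weaklyNormal_pPower hS hG hUG hUsc hG's hG'i, sup_le hTU hCU,
    sub_of_coprime hTp hTU hEs fun P hP a ha hc =>
      mem_autGroup_of_pPower hG'i (hP.1.trans hTU) (autGroup_mono hEG ha) hc, ?_,
    hsame.trans hGp hGs (sameLim_pPower hGp hUG hG's hG'i)⟩
  refine le_antisymm ?_ ?_
  · refine le_of_sylIn_of_coprime (isFullyAutomized_iff.mp
      (isFullyAutomized_of_normalized hUp hG's (fullyNormalized_of_stronglyClosed hG'T)).1).2
      (fun a ha => ?_) fun a ha hc => ?_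
    · obtain ⟨s, ⟨-, b, hb, hbe⟩, -, hae⟩ := mem_autInducedBy.mp ha
      rwa [show a = b from autFun_inj fun t ht => (hae t ht).trans (hbe t ht).symm]
    · obtain ⟨k, hak⟩ := hk a (autGroup_mono hG'i.1 ha)
      obtain ⟨j, hj⟩ := exists_pow_eq_self_of_coprime
        (n := p ^ k) (x := a) (Nat.Coprime.pow_left k hc.symm)
      exact hj ▸ N'.pow_mem hak j
  · refine le_of_sylIn_of_coprime (isSylIn_inf (isFullyAutomized_iff.mp
      (isFullyAutomized_of_normalized hGp hGs (fullyNormalized_of_stronglyClosed hGT)).1).2 hN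
      fun b hb a ha => hn b (hNA hb) a ha) (fun a ha => ?_) fun a ha hc =>
        mem_autGroup_of_pPower hG'i hTU (hN ha) hc
    obtain ⟨s, hs, -, hae⟩ := mem_autInducedBy.mp ha.1
    have hsU : s ∈ U := ⟨hs, a, ha.2, hae⟩
    exact (autGroup_eq_set hTU a).mpr ((isMor_cj G' hTU hsU).congr fun t ht => (hae t ht).symm)

/-- A step of index prime to `p`. -/
theorem envStage_pPrime (hco : (N'.relIndex N).Coprime p) : EnvStage F E p N' := by
  obtain ⟨SG, G, hG, hle, hEG, hAut, hsame⟩ := hst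
  subst hAut
  obtain ⟨hEs, hF, hsub, hT, -⟩ := id hE
  obtain ⟨hGs, -, hGsub, hSG, -⟩ := id hG
  obtain ⟨hTS, hsc⟩ := stronglyClosed_iff.mp hT
  obtain ⟨hGS, hGsc⟩ := stronglyClosed_iff.mp hSG
  have hTG : T ≤ SG := le_sup_left.trans hle
  have : Finite SG := finite_of_le hGS
  have : Finite T := finite_of_le hTS
  have hGp : IsPGroup p SG := isPGroup_of_le hGS hS
  have hTp : IsPGroup p T := isPGroup_of_le hTS hS
  have := finite_mulAut hTS
  have hGT : G.StronglyClosed T :=
    stronglyClosed_iff.mpr ⟨hTG, fun P f hf => hsc P f (le_iff_isMor.mp hGsub _ _ hf)⟩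
  have hinvE := strongInv_of_isWeaklyNormalIn hS hE
  have hinvG := strongInv_of_isWeaklyNormalIn hS hG
  have hNA : G.autGroup T ≤ F.autGroup T := autGroup_mono hGsub
  haveI : (N'.subgroupOf (G.autGroup T)).Normal := ⟨fun a ha θ => hn θ (hNA θ.2) _ ha⟩
  set χ := QuotientGroup.mk' (N'.subgroupOf (G.autGroup T)) with hχdef
  have hinvI : E.IsInvariantIn G :=
    (Cfsg.Agent.S5119.result p hGp G hGs E hEG hGT).mpr (strongInv_iff.mp
      fun P Q f g hPQ hQT hf hfQ hg =>
        hinvE P Q f g hPQ hQT hf hfQ (le_iff_isMor.mp hGsub _ _ hg))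
  have hker : (E.autGroup T).subgroupOf (G.autGroup T) ≤ χ.ker := fun a ha => by
    rw [hχdef, QuotientGroup.ker_mk']
    exact hB ha
  have hΔ : (Nat.card (↥(G.autGroup T) ⧸ N'.subgroupOf (G.autGroup T))).Coprime p := hco
  let L := normalLabel χ hGp hGs hEs hinvI hΔ (QuotientGroup.mk'_surjective _) hker
  have hrad : ∀ P : Subgroup Ω, G.IsCentric P → G.IsRadical p P →
      P ∈ {P : Subgroup Ω | E.IsCentric (P ⊓ T)} := fun P hP hPr =>
    by_contra fun h => not_radical_of_inf_not_centric hGp hGs hGT hEG hP h hPr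
  have hsat := L.sys_saturated hGp hΔ hGs hrad fun P hP hP' =>
    exists_conj_core_of_inf_not_centric hGp hGs hGT hEG hP.1 hP'
  set G' := L.sys hGp hΔ
  have hG'F : G'.IsSubsystemOf F := fun P => (L.sys_sub hGp hΔ P).trans (hGsub P)
  have hT𝒳 : T ∈ {P : Subgroup Ω | E.IsCentric (P ⊓ T)} := by
    show E.IsCentric (T ⊓ T)
    rw [inf_idem]
    exact centric_self E
  have hsym : ∀ θ ∈ F.autGroup SG, Sym G' θ := by
    intro θ hθ P f hf
    have hθG := sym_of_invariant hGS hinvG hθ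
    have hθm := isMor_autFun hGS hθ
    have hθi := isMor_autFun hGS ((F.autGroup SG).inv_mem hθ)
    obtain ⟨ω, hω, hωe⟩ := exists_aut (hθm.restrict hTG)
      ((hθm.restrict hTG).img_eq_self fun t ht => hsc _ _ hθm t (hTG ht) ht)
    rw [L.isMor_sys hGp hΔ] at hf ⊢
    induction hf with
    | @step P R g f hR hg ht hPR e =>
      obtain ⟨γ, hγ, e₀, he₀, hge⟩ := ht
      have hRS : R ≤ SG := hg.le
      have hRi : img R (autFun θ) ⊓ T = img (R ⊓ T) (autFun θ) := by
        refine le_antisymm ?_ (img_le fun x hx =>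
          ⟨mem_img_of_mem _ hx.1, hsc SG _ hθm x (hRS hx.1) hx.2⟩)
        rintro y ⟨hy, hyT⟩
        obtain ⟨x, hx, rfl⟩ := (mem_img_autFun hRS).mp hy
        refine mem_img_of_mem _ ⟨hx, ?_⟩
        have h1 := hsc SG _ hθi _ (autFun_mem θ (hRS hx)) hyT
        rwa [autFun_inv_left θ (hRS hx)] at h1
      have hR' : E.IsCentric (img R (autFun θ) ⊓ T) := by
        rw [hRi]
        exact centric_img_of_invariant hS hF hsub hT hinvE hR
          (hθm.restrict (inf_le_left.trans hRS))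
      obtain ⟨k, hk, hke⟩ := hinvE (R ⊓ T) T e₀ (autFun ω) inf_le_right le_rfl he₀
        (fun x hx => he₀.mem hx) (isMor_autFun hTS hω)
      have hγN : (γ : MulAut T) ∈ N' := by
        rw [← MonoidHom.mem_ker, hχdef, QuotientGroup.ker_mk'] at hγ
        exact hγ
      refine .step hR' (hθG R g hg)
        ⟨⟨ω * γ * ω⁻¹, hN (hn ω hω _ hγN)⟩, ?_, k, ?_, fun y hy => ?_⟩
        (img_mono _ hPR) fun y hy => ?_
      · rw [← MonoidHom.mem_ker, hχdef, QuotientGroup.ker_mk']
        exact hn ω hω _ hγN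
      · rw [hRi, img_congr (g := autFun ω) fun x (hx : x ∈ R ⊓ T) => (hωe x hx.2).symm]
        exact hk
      · rw [hRi] at hy
        obtain ⟨x, hx, rfl⟩ := (mem_img_autFun (inf_le_left.trans hRS)).mp hy
        have hk' := hke x hx
        rw [hωe x hx.2] at hk'
        show autFun θ (g (autFun θ⁻¹ (autFun θ x))) = _
        rw [autFun_inv_left θ (hRS hx.1), hge x hx, hk']
        have hxe := he₀.mem hx
        rw [autFun_mul _ _ (autFun_mem ω hxe), autFun_mul _ _ (autFun_mem _ (autFun_mem ω hxe)),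
          autFun_inv_left ω hxe, hωe _ (autFun_mem _ hxe)]
      · simp only [Function.comp_apply]
        rw [e _ ((img_autFun_cancel (hPR.trans hRS) θ).le (mem_img_of_mem _ hy))]
    | @comp P g h f h₁ h₂ e ih₁ ih₂ =>
      have hg := Label.Gen.isMor _ h₁
      have hPS := hg.le
      have hi : img (img P (autFun θ)) (autFun θ ∘ g ∘ autFun θ⁻¹) = img (img P g) (autFun θ) := by
        refine le_antisymm (img_le fun y hy => ?_) (img_le fun z hz => ?_)
        · exact mem_img_of_mem _ (mem_img_of_mem g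
            ((img_autFun_cancel hPS θ).le (mem_img_of_mem _ hy)))
        · obtain ⟨x, hx, rfl⟩ := hg.mem_img.mp hz
          have := mem_img_of_mem (autFun θ ∘ g ∘ autFun θ⁻¹) (mem_img_of_mem (autFun θ) hx)
          simpa [autFun_inv_left θ (hPS hx)] using this
      refine .comp ih₁ (hi.symm ▸ ih₂) fun y hy => ?_
      have hy' := (img_autFun_cancel hPS θ).le (mem_img_of_mem _ hy)
      simp only [Function.comp_apply]
      rw [autFun_inv_left θ (hg.mem hy'), e _ hy']
  refine ⟨SG, G', ⟨hsat, hF, hG'F, hSG, ?_, fun P hP φ hφ => ?_⟩, hle,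
    sub_of_coprime hTp hTG hEs fun P hP a ha _ => ?_, ?_,
    hsame.trans hGp hGs (sameLim_pPrime hGp hGs hsat (L.sys_hasPrimeToPIndexIn hGp hΔ hGs hrad))⟩
  · intro P hPG φ hφ α hα
    have h1 := hsym α hα P (toFun φ) (isMor_of_mem hφ)
    rw [← map_subgroupOf_eq_img (ψ := SG.subtype.comp α.toMonoidHom) (f := autFun α)
      (fun x => (autFun_coe α x).symm) hPG] at h1
    obtain ⟨ψ, hψ, hψe⟩ := h1
    refine ⟨ψ, hψ, fun x hφx hαx => ?_⟩
    rw [hψe]
    simp only [Function.comp_apply]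
    rw [← autFun_coe α ⟨x, hPG x.2⟩, ← autFun_coe α ⟨φ x, hφx⟩, autFun_inv_left α (hPG x.2),
      toFun_coe]
  · obtain ⟨α, hα, g, hg, hfg⟩ :=
      factors_of_strongInv hS hF hGsub hSG hinvG (isMor_of_mem hφ) hP
    obtain ⟨β, hβ, d, ⟨φ₀, hφ₀, hd⟩, hed⟩ := L.sys_fac hGp hΔ hGs hrad P g hg
    refine ⟨α * β, (F.autGroup SG).mul_mem hα (autGroup_mono hGsub hβ), φ₀, hφ₀, fun x hx => ?_⟩
    rw [← toFun_coe φ x, hfg x x.2, ← autFun_coe (α * β) ⟨φ₀ x, hx⟩, autFun_mul _ _ hx,
      hed x x.2, hd x]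
  · have hPi : P ⊓ T = P := inf_eq_left.mpr hP.1
    have hP𝒳 : P ∈ {P : Subgroup Ω | E.IsCentric (P ⊓ T)} := by
      show E.IsCentric (P ⊓ T)
      rw [hPi]; exact hP
    refine (autGroup_eq_set (hP.1.trans hTG) a).mpr (L.isMor_sys_of_th hGp hΔ hP𝒳
      (isMor_autFun (hP.1.trans hTG) (autGroup_mono hEG ha)) ?_)
    exact nth_of_isMor χ hTG ((isMor_autFun hP.1 ha).restrict inf_le_left)
  · ext a
    rw [autGroup_eq_set hTG, L.isMor_sys_iff hGp hΔ hT𝒳]
    constructor
    · rintro ⟨-, γ, hγ, e, he, hfe⟩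
      rw [inf_idem] at he hfe
      obtain ⟨b, hb, hbe⟩ := exists_aut he (he.img_eq_self fun x hx => he.mem hx)
      rw [← MonoidHom.mem_ker, hχdef, QuotientGroup.ker_mk'] at hγ
      rw [show a = (γ : MulAut T) * b from autFun_inj fun t ht => by
        rw [autFun_mul _ _ ht, hbe t ht, hfe t ht]]
      exact N'.mul_mem hγ (hB hb)
    · intro ha
      refine ⟨isMor_autFun hTG (hN ha), ⟨a, hN ha⟩, ?_, id, isMor_id E inf_le_right, fun x _ => rfl⟩
      rw [← MonoidHom.mem_ker, hχdef, QuotientGroup.ker_mk']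
      exact ha

omit hst hN hB hn in
/-- The bottom of a `p`-solvable series: the envelope. -/
theorem exists_envelope [hnorm : ((E.autGroup T).subgroupOf (F.autGroup T)).Normal]
    (hsolv : IsPSolvable p (↥(F.autGroup T) ⧸ (E.autGroup T).subgroupOf (F.autGroup T))) :
    ∃ G : FusionSystem (T ⊔ centralizerIn S T), G.IsNormalIn F p ∧ E.IsSubsystemOf G ∧
      G.autGroup T = E.autGroup T ∧ SameLim p F G := by
  obtain ⟨hEs, hF, hsub, hT, -⟩ := id hE
  obtain ⟨hTS, hsc⟩ := stronglyClosed_iff.mp hT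
  have hBA : E.autGroup T ≤ F.autGroup T := autGroup_mono hsub
  obtain ⟨n, H, h0, hlast, hmono, hHn, hstep⟩ := hsolv
  set π := QuotientGroup.mk' ((E.autGroup T).subgroupOf (F.autGroup T))
  let N : Fin (n + 1) → Subgroup (MulAut T) := fun i =>
    ((H i).comap π).map (F.autGroup T).subtype
  have hNn : ∀ i, ∀ θ ∈ F.autGroup T, ∀ a ∈ N i, θ * a * θ⁻¹ ∈ N i := by
    rintro i θ hθ _ ⟨a, ha, rfl⟩
    exact ⟨⟨θ, hθ⟩ * a * ⟨θ, hθ⟩⁻¹, ((hHn i).comap π).conj_mem a ha ⟨θ, hθ⟩, rfl⟩
  have hN0 : N 0 = E.autGroup T := by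
    show ((H 0).comap π).map (F.autGroup T).subtype = _
    rw [h0, MonoidHom.comap_bot, QuotientGroup.ker_mk', Subgroup.map_subgroupOf_eq_of_le hBA]
  have hNB : ∀ i, E.autGroup T ≤ N i := fun i => hN0.ge.trans
    (Subgroup.map_mono (Subgroup.comap_mono (hmono (Fin.zero_le i))))
  have hall : ∀ i, EnvStage F E p (N i) := by
    intro i
    induction i using Fin.reverseInduction with
    | last =>
      refine ⟨S, F, isWeaklyNormalIn_self hS hF, sup_le hTS centralizerIn_le, hsub, ?_,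
        sameLim_refl hS F⟩
      show _ = ((H (Fin.last n)).comap π).map (F.autGroup T).subtype
      rw [hlast, Subgroup.comap_top, ← MonoidHom.range_eq_map, Subgroup.range_subtype]
    | cast i ih =>
      have hle : N i.castSucc ≤ N i.succ :=
        Subgroup.map_mono (Subgroup.comap_mono (hmono Fin.castSucc_lt_succ.le))
      have hrel : (N i.castSucc).relIndex (N i.succ) = (H i.castSucc).relIndex (H i.succ) := by
        show (((H i.castSucc).comap π).map _).relIndex (((H i.succ).comap π).map _) = _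
        rw [Subgroup.relIndex_map_map_of_injective _ _ (Subgroup.subtype_injective _),
          Subgroup.relIndex_comap,
          Subgroup.map_comap_eq_self_of_surjective (QuotientGroup.mk'_surjective _)]
      rcases hstep i with ⟨m, hm⟩ | hco
      · refine envStage_pPower hS hE ih hle (hNB _) (hNn _) fun a ha => ⟨m, ?_⟩
        haveI : ((N i.castSucc).subgroupOf (N i.succ)).Normal := ⟨fun b hb θ =>
          hNn _ _ (Subgroup.map_subtype_le _ θ.2) _ hb⟩
        have h := Subgroup.pow_index_mem ((N i.castSucc).subgroupOf (N i.succ)) ⟨a, ha⟩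
        rwa [show ((N i.castSucc).subgroupOf (N i.succ)).index = p ^ m from hrel.trans hm] at h
      · exact envStage_pPrime hS hE ih hle (hNB _) (hNn _) (hrel ▸ hco)
  obtain ⟨SG, G, hG, hle, hEG, hAut, hsame⟩ := hall 0
  rw [hN0] at hAut
  have hSG : SG = T ⊔ centralizerIn S T := by
    refine le_antisymm (fun s hs => ?_) hle
    have hTG : T ≤ SG := le_sup_left.trans hle
    have hGS : SG ≤ S := hG.2.2.2.1.1
    have : Finite T := finite_of_le hTS
    have hTp : IsPGroup p T := isPGroup_of_le hTS hS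
    obtain ⟨a, ha, hae⟩ := exists_autInducedBy (K := SG) (P := T) hs
      (stronglyClosed_le_normalizer hT (hGS hs))
    obtain ⟨-, -, hmax⟩ := (isFullyAutomized_iff.mp
      (isFullyAutomized_of_normalized hTp hEs (isFullyNormalized_self E)).1).2
    have hle' : autInducedBy T T ≤ autInducedBy SG T := fun b hb => by
      obtain ⟨t, ht, htn, hbe⟩ := mem_autInducedBy.mp hb
      exact mem_autInducedBy.mpr ⟨t, hTG ht, htn, hbe⟩
    have heq := hmax (autInducedBy SG T) (isPGroup_autInducedBy (isPGroup_of_le hGS hS)) hle'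
      (fun b hb => hAut ▸ autInducedBy_le G hTG hb)
    obtain ⟨t, ht, -, hte⟩ := mem_autInducedBy.mp (heq ▸ ha)
    have hc : t⁻¹ * s ∈ centralizerIn S T := mem_centralizerIn.mpr
      ⟨S.mul_mem (S.inv_mem (hTS ht)) (hGS hs), fun x hx => by
        rw [cj_mul, ← hae x hx, hte x hx, cj_inv_cj]⟩
    have := Subgroup.mul_mem _ (Subgroup.mem_sup_left (T := centralizerIn S T) ht)
      (Subgroup.mem_sup_right hc)
    rwa [mul_inv_cancel_left] at this
  subst hSG
  refine ⟨G, isNormalIn_of_centralizer_le hG fun c hc => ?_, hEG, hAut, hsame⟩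
  exact Subgroup.mem_sup_right (mem_centralizerIn.mpr ⟨(mem_centralizerIn.mp hc).1,
    fun x hx => (mem_centralizerIn.mp hc).2 x (Subgroup.mem_sup_left hx)⟩)

end CfsgLib.Fusion
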