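import Mathlib
import Cfsg.Agent.Lib.Base.Cores
import Cfsg.Agent.Lib.Fusion.AlperinFrattini
import Cfsg.Agent.Lib.Fusion.HyperfocalGroup
import Cfsg.Agent.Lib.Fusion.ResidualMinimal
import Cfsg.Agent.Lib.Fusion.GroupSub
import Cfsg.Agent.Lib.Fusion.GroupNormal
import Cfsg.Agent.Lib.Fusion.Normal
import Cfsg.Agent.S5119

/-! Normal subsystems of the fusion system of a model come from normal subgroups. -/

set_option autoImplicit false

universe u

namespace CfsgLib.Fusion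

open Cfsg Cfsg.FusionSystem

variable {p : ℕ} [hp : Fact p.Prime]

theorem mem_of_pow_coprime {M : Type*} [Group M] {C : Subgroup M} {x : M} {a b : ℕ}
    (h : Nat.Coprime a b) (ha : x ^ a ∈ C) (hb : x ^ b ∈ C) : x ∈ C := by
  have e : (1 : ℤ) = (a : ℤ) * Nat.gcdA a b + (b : ℤ) * Nat.gcdB a b := by
    rw [← Nat.gcd_eq_gcd_ab, h]
    rfl
  rw [← zpow_one x, e, zpow_add, zpow_mul, zpow_mul, zpow_natCast, zpow_natCast]
  exact C.mul_mem (C.zpow_mem ha _) (C.zpow_mem hb _)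

theorem exists_pow_coprime_order {M : Type*} [Group M] [Finite M] (x : M) :
    ∃ a c : ℕ, (p ^ a).Coprime c ∧ (orderOf (x ^ p ^ a)).Coprime p ∧ ∃ k, (x ^ c) ^ p ^ k = 1 := by
  obtain ⟨a, c, hc', hn'⟩ := Nat.exists_eq_pow_mul_and_not_dvd (orderOf_pos x).ne' p hp.out.ne_one
  have hpc : Nat.Coprime p c := (hp.out.coprime_iff_not_dvd).mpr hc'
  refine ⟨a, c, hpc.pow_left a, ?_, a, ?_⟩
  · rw [orderOf_pow_of_dvd (pow_ne_zero a hp.out.ne_zero) (hn' ▸ dvd_mul_right _ _), hn',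
      Nat.mul_div_cancel_left _ (pow_pos hp.out.pos a)]
    exact hpc.symm
  · rw [← pow_mul, mul_comm, ← hn', pow_orderOf_eq_one]

section Groups

variable {G : Type u} [Group G] [Finite G]

/-- A normal subgroup is generated by a Sylow subgroup and its elements of order prime to `p`. -/
theorem le_coprime_closure_sup {X P : Subgroup G} (hX : X.Normal) (h : IsSylIn p P X) :
    X ≤ Subgroup.closure {g : G | g ∈ X ∧ (orderOf g).Coprime p} ⊔ P := by
  set N := Subgroup.closure {g : G | g ∈ X ∧ (orderOf g).Coprime p} with hN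
  have hNX : N ≤ X := (Subgroup.closure_le _).mpr fun g hg => hg.1
  set L := N ⊔ P with hL
  have hLX : L ≤ X := sup_le hNX h.1
  obtain ⟨R, hR⟩ := (exists_sylow_iff h.1).mpr h
  have hdvd : (L.subgroupOf X).index ∣ (R : Subgroup X).index :=
    Subgroup.index_dvd_of_le (hR ▸ Subgroup.comap_mono le_sup_right)
  have hNn : (N.subgroupOf X).Normal := by
    refine ⟨fun z hz x => Subgroup.mem_subgroupOf.mpr ?_⟩
    have hle : N ≤ N.comap (MulAut.conj (x : G)).toMonoidHom := by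
      refine (Subgroup.closure_le _).mpr fun g hg => ?_
      refine Subgroup.subset_closure ⟨hX.conj_mem g hg.1 _, ?_⟩
      exact ((orderOf_injective (MulAut.conj (x : G)).toMonoidHom (MulAut.conj (x : G)).injective g).symm ▸ hg.2)
    exact hle (Subgroup.mem_subgroupOf.mp hz)
  have hq : IsPGroup p (X ⧸ N.subgroupOf X) := by
    intro y
    obtain ⟨x, rfl⟩ := QuotientGroup.mk'_surjective (N.subgroupOf X) y
    obtain ⟨a, c, -, hc, -⟩ := exists_pow_coprime_order (p := p) (x : G)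
    refine ⟨a, ?_⟩
    rw [← map_pow]
    exact (QuotientGroup.eq_one_iff _).mpr (Subgroup.mem_subgroupOf.mpr
      (Subgroup.subset_closure ⟨X.pow_mem x.2 _, hc⟩))
  obtain ⟨e, he⟩ := IsPGroup.iff_card.mp hq
  rw [← Subgroup.index_eq_card] at he
  have hdvd' : (L.subgroupOf X).index ∣ (N.subgroupOf X).index :=
    Subgroup.index_dvd_of_le (Subgroup.comap_mono le_sup_left)
  rw [he] at hdvd'
  obtain ⟨i, -, hi⟩ := (Nat.dvd_prime_pow hp.out).mp hdvd'
  have hi0 : i = 0 := by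
    by_contra h0
    exact R.not_dvd_index ((hi ▸ dvd_pow_self p h0).trans hdvd)
  rw [hi0, pow_zero, Subgroup.index_eq_one, Subgroup.subgroupOf_eq_top] at hi
  exact hi

variable (S : Sylow p G) {T : Subgroup G} {E : FusionSystem T}

/-- The elements trivial on `Q/U` acting on `U` as elements of `E`. -/
def modelSub (hQ : (pCore p G).Normal) (U : Subgroup G) (hU : U.Normal) (hUT : U ≤ T)
    (E : FusionSystem T) : Subgroup G where
  carrier := {g | (∀ q ∈ pCore p G, q⁻¹ * cj g q ∈ U) ∧ IsMor E U (cj g)}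
  one_mem' := ⟨fun q _ => by simp [cj], (isMor_id E hUT).congr fun x _ => (cj_one x).symm⟩
  mul_mem' := by
    rintro g h ⟨hg, hgE⟩ ⟨hh, hhE⟩
    refine ⟨fun q hq => ?_, (hhE.comp hgE fun x hx => hU.conj_mem x hx h).congr
      fun x _ => (cj_mul g h x).symm⟩
    have h1 := U.mul_mem (hh q hq) (hg _ (hQ.conj_mem q hq h))
    rw [cj_mul]
    simpa [cj, mul_assoc] using h1
  inv_mem' := by
    rintro g ⟨hg, hgE⟩
    refine ⟨fun q hq => ?_, ?_⟩
    · have h1 := U.inv_mem (hg _ (hQ.conj_mem q hq g⁻¹))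
      rw [show g⁻¹ * q * g⁻¹⁻¹ = cj g⁻¹ q from rfl, cj_cj_inv] at h1
      simpa [mul_assoc] using h1
    · obtain ⟨k, hk, hkl, -, -⟩ := hgE.inverse
      have hi : img U (cj g) = U :=
        img_cj_of_normalizer (by rw [Subgroup.normalizer_eq_top_iff.mpr hU]; trivial)
      rw [hi] at hk
      refine hk.congr fun x hx => ?_
      have := hkl (cj g⁻¹ x) (hU.conj_mem x hx g⁻¹)
      rwa [cj_cj_inv] at this

omit [Finite G] hp in
theorem mem_modelSub {hQ : (pCore p G).Normal} {U : Subgroup G} {hU : U.Normal} {hUT : U ≤ T} {g : G} :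
    g ∈ modelSub hQ U hU hUT E ↔ (∀ q ∈ pCore p G, q⁻¹ * cj g q ∈ U) ∧ IsMor E U (cj g) := Iff.rfl

/-- A normal subsystem of a group with self-centralising `O_p` is realised by one normal subgroup. -/
theorem exists_unique_normal_subgroup
    (hG : Subgroup.centralizer ((pCore p G : Subgroup G) : Set G) ≤ pCore p G)
    (hTS : T ≤ (S : Subgroup G)) (hE : E.IsNormalIn (groupFusionSystem (S : Subgroup G)) p) :
    ∃ H : Subgroup G,
      (∃ hTH : T ≤ H, H.Normal ∧ (∃ R : Sylow p H, (R : Subgroup H) = T.subgroupOf H) ∧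
        ∀ P : Subgroup G, E.Hom P = (fusionSystemOfSubgroup H T hTH).Hom P) ∧
      ∀ H' : Subgroup G, (∃ hTH' : T ≤ H', H'.Normal ∧
        (∃ R : Sylow p H', (R : Subgroup H') = T.subgroupOf H') ∧
        ∀ P : Subgroup G, E.Hom P = (fusionSystemOfSubgroup H' T hTH').Hom P) → H' = H := by
  classical
  set F := groupFusionSystem (S : Subgroup G) with hFdef
  obtain ⟨⟨hEs, hF, hinvI⟩, hext⟩ := hE
  obtain ⟨hsub, hTc, -, -⟩ := id hinvI
  have hS : IsPGroup p (S : Subgroup G) := S.2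
  have hinv : StrongInv E F :=
    strongInv_iff.mpr ((Cfsg.Agent.S5119.result p hS F hF E hsub hTc).mp hinvI)
  have hTp : IsPGroup p T := isPGroup_of_le hTS hS
  set Q := pCore p G with hQdef
  have hQn : Q.Normal := pCore_normal p G
  have hQS : Q ≤ (S : Subgroup G) := CfsgLib.Base.pCore_le_sylow S
  have hclosed : ∀ x ∈ T, ∀ g : G, cj g x ∈ (S : Subgroup G) → cj g x ∈ T := by
    intro x hx g hg
    refine (stronglyClosed_iff.mp hTc).2 (Subgroup.zpowers x) (cj g) (isMor_group.mpr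
      ⟨Subgroup.zpowers_le.mpr (hTS hx), fun y hy => ?_, g, fun _ _ => rfl⟩) x
      (Subgroup.mem_zpowers x) hx
    obtain ⟨i, rfl⟩ := hy
    rw [show cj g (x ^ i) = (cj g x) ^ i from map_zpow (MulAut.conj g) x i]
    exact (S : Subgroup G).zpow_mem hg i
  have hTn : ∀ s ∈ (S : Subgroup G), ∀ x ∈ T, cj s x ∈ T := fun s hs x hx =>
    hclosed x hx s ((S : Subgroup G).mul_mem ((S : Subgroup G).mul_mem hs (hTS hx))
      ((S : Subgroup G).inv_mem hs))
  set U := T ⊓ Q with hUdef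
  have hUT : U ≤ T := inf_le_left
  have hU : U.Normal := ⟨fun x hx g =>
    ⟨hclosed x hx.1 g (hQS (hQn.conj_mem x hx.2 g)), hQn.conj_mem x hx.2 g⟩⟩
  have hUS : U ≤ (S : Subgroup G) := hUT.trans hTS
  have hUmor : ∀ g : G, IsMor F U (cj g) := fun g =>
    isMor_group.mpr ⟨hUS, fun x hx => hUS (hU.conj_mem x hx g), g, fun _ _ => rfl⟩
  have hUnorm : ∀ g : G, g ∈ Subgroup.normalizer (U : Set G) := fun g => by
    rw [Subgroup.normalizer_eq_top_iff.mpr hU]; trivial
  have hAutE : ∀ g : G, IsMor E U (cj g) → ∃ α ∈ E.autGroup U, ∀ x ∈ U, autFun α x = cj g x :=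
    fun g hg => exists_aut hg (img_cj_of_normalizer (hUnorm g))
  set M := modelSub hQn U hU hUT E with hMdef
  have hM : M.Normal := by
    refine ⟨fun g hg a => ⟨fun q hq => ?_, ?_⟩⟩
    · have h1 := hU.conj_mem _ (hg.1 _ (hQn.conj_mem q hq a⁻¹)) a
      simpa [cj, mul_assoc] using h1
    · obtain ⟨k, hk, hke⟩ := hinv U U (cj g) (cj a) le_rfl hUT hg.2
        (fun x hx => hU.conj_mem x hx g) (hUmor a)
      rw [img_cj_of_normalizer (hUnorm a)] at hk
      refine hk.congr fun y hy => ?_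
      have h1 := hke (cj a⁻¹ y) (hU.conj_mem y hy a⁻¹)
      rw [cj_cj_inv] at h1
      rw [h1, cj_mul, cj_mul]
  have hTM : T ≤ M := fun t ht => by
    refine ⟨fun q hq => ⟨?_, ?_⟩, isMor_cj E hUT ht⟩
    · have := T.mul_mem (hTn q⁻¹ ((S : Subgroup G).inv_mem (hQS hq)) t ht) (T.inv_mem ht)
      simpa [cj, mul_assoc] using this
    · exact Q.mul_mem (Q.inv_mem hq) (hQn.conj_mem q hq t)
  -- elements of `M` centralising `U`
  set K := M ⊓ Subgroup.centralizer (U : Set G) with hK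
  have hKfix : ∀ k ∈ K, ∀ u ∈ U, cj k u = u := fun k hk u hu =>
    cj_fixed_iff.mpr (Subgroup.mem_centralizer_iff.mp hk.2 u hu).symm
  have hKQ : K ≤ Q := by
    have hKn : K.Normal := by
      refine ⟨fun k hk a => ⟨hM.conj_mem k hk.1 a, Subgroup.mem_centralizer_iff.mpr fun u hu => ?_⟩⟩
      refine (cj_fixed_iff.mp (show cj (a * k * a⁻¹) u = u from ?_)).symm
      rw [cj_mul, cj_mul, hKfix k hk (cj a⁻¹ u) (hU.conj_mem u hu a⁻¹), cj_cj_inv]
    refine CfsgLib.Base.le_pCore fun k => ?_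
    let W : ℕ → Subgroup G := fun i => if i = 0 then ⊥ else if i = 1 then U else ⊤
    have hW : ∀ α ∈ F.autGroup Q, ∀ i, ∀ x ∈ Q, x ∈ W i → autFun α x ∈ W i := by
      intro α hα i x hx hxW
      simp only [W] at hxW ⊢
      split_ifs at hxW ⊢ with h0 h1
      · rw [Subgroup.mem_bot] at hxW ⊢
        subst hxW
        rw [autFun_of_mem α Q.one_mem]
        exact congrArg Subtype.val (map_one α)
      · obtain ⟨-, -, g, hg⟩ := isMor_group.mp (isMor_autFun hQS hα)
        rw [hg x hx]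
        exact hU.conj_mem x hxW g
      · trivial
    let A := seriesStab (F.autGroup Q) 2 W hW
    have hAp : IsPGroup p A :=
      isPGroup_stabilizing hS hQS 2 (fun i => ((Q ⊓ W i : Subgroup G) : Set G)) (by simp [W])
        (fun x hx => ⟨hx, by simp [W]⟩) fun α (hα : α ∈ A) i hi x hx hxW =>
          ⟨Q.mul_mem (Q.inv_mem hx) (autFun_mem α hx), hα.2 i hi x hx hxW.2⟩
    have hkn : (k : G) ∈ Subgroup.normalizer (Q : Set G) := by
      rw [Subgroup.normalizer_eq_top_iff.mpr hQn]; trivial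
    obtain ⟨α, hα, hαe⟩ := exists_autInducedBy (K := (⊤ : Subgroup G)) (g := (k : G)) trivial hkn
    have hαA : α ∈ A := by
      refine ⟨(autGroup_group hQS).symm ▸ hα, fun i hi x hx hxW => ?_⟩
      rw [hαe x hx]
      interval_cases i
      · simp only [W, zero_add, one_ne_zero, if_false, if_true] at hxW ⊢
        rw [hKfix k k.2 x hxW, inv_mul_cancel]
        exact one_mem _
      · simp only [W, one_ne_zero, if_false, if_true]
        exact k.2.1.1 x hx
    obtain ⟨a, ha⟩ := hAp ⟨α, hαA⟩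
    have ha' : α ^ p ^ a = 1 := congrArg Subtype.val ha
    have hpow : ∀ m : ℕ, ∀ x ∈ Q, autFun (α ^ m) x = cj ((k : G) ^ m) x := by
      intro m
      induction m with
      | zero => intro x hx; rw [pow_zero, pow_zero, autFun_one hx, cj_one]
      | succ m ih =>
        intro x hx
        rw [pow_succ', pow_succ', autFun_mul _ _ hx, ih x hx, cj_mul]
        exact hαe _ (hQn.conj_mem x hx _)
    have hc : (k : G) ^ p ^ a ∈ Q := hG (Subgroup.mem_centralizer_iff.mpr fun x hx => by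
      have h1 := hpow (p ^ a) x hx
      rw [ha', autFun_one hx] at h1
      exact (cj_fixed_iff.mp h1.symm).symm)
    obtain ⟨b, hb⟩ := CfsgLib.Base.isPGroup_pCore p G ⟨_, hc⟩
    refine ⟨a + b, Subtype.ext ?_⟩
    have hb' : ((k : G) ^ p ^ a) ^ p ^ b = 1 := congrArg Subtype.val hb
    show (k : G) ^ p ^ (a + b) = 1
    rw [pow_add, pow_mul]
    exact hb'
  have hKS : K ≤ (S : Subgroup G) := hKQ.trans hQS
  -- the Sylow subgroup of `Aut_E(U)`
  have hTN : normalizerIn T U = T := le_antisymm normalizerIn_le fun t ht =>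
    mem_normalizerIn.mpr ⟨ht, hUnorm t⟩
  have hUn : E.IsFullyNormalized U :=
    ⟨hUT, fun R _ => by rw [hTN]; exact Subgroup.card_le_of_le normalizerIn_le⟩
  have hUrec : E.IsReceptive U :=
    isReceptive_of_centralized hTp hEs (isFullyCentralized_of_normalized hTp hEs hUn)
  have hUsyl : IsSylIn p (autInducedBy T U) (E.autGroup U) :=
    (isFullyAutomized_iff.mp (isFullyAutomized_of_normalized hTp hEs hUn).1).2
  have hSM : ∀ s ∈ (S : Subgroup G), s ∈ M → ∃ t ∈ T, ∃ k ∈ K, s = t * k := by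
    intro s hs hsM
    obtain ⟨α, hα, hαe⟩ := hAutE s hsM.2
    have hC : autInducedBy (S : Subgroup G) U ⊓ E.autGroup U = autInducedBy T U :=
      hUsyl.2.2 _ (isPGroup_of_le inf_le_left (isPGroup_autInducedBy hS))
        (le_inf (fun β hβ => by
          obtain ⟨t, ht, htn, e⟩ := mem_autInducedBy.mp hβ
          exact mem_autInducedBy.mpr ⟨t, hTS ht, htn, e⟩) (autInducedBy_le E hUT)) inf_le_right
    obtain ⟨t, ht, -, hte⟩ := mem_autInducedBy.mp
      (hC.le ⟨mem_autInducedBy.mpr ⟨s, hs, hUnorm s, hαe⟩, hα⟩)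
    refine ⟨t, ht, t⁻¹ * s, ⟨M.mul_mem (M.inv_mem (hTM ht)) hsM,
      Subgroup.mem_centralizer_iff.mpr fun u hu => ?_⟩, by rw [mul_inv_cancel_left]⟩
    refine (cj_fixed_iff.mp (show cj (t⁻¹ * s) u = u from ?_)).symm
    rw [cj_mul, ← hαe u hu, hte u hu, cj_inv_cj]
  -- the residual
  set N := Subgroup.closure {g : G | g ∈ M ∧ (orderOf g).Coprime p} with hN
  have hNM : N ≤ M := (Subgroup.closure_le _).mpr fun g hg => hg.1
  have hNn : N.Normal := by
    refine ⟨fun z hz a => ?_⟩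
    have hle : N ≤ N.comap (MulAut.conj a).toMonoidHom := by
      refine (Subgroup.closure_le _).mpr fun g hg => ?_
      refine Subgroup.subset_closure ⟨hM.conj_mem g hg.1 a, ?_⟩
      exact ((orderOf_injective (MulAut.conj a).toMonoidHom (MulAut.conj a).injective g).symm ▸ hg.2)
    exact hle hz
  have hNS : N ⊓ (S : Subgroup G) ≤ T := by
    have hMsyl := isSylIn_inf_subnormal S (H := M) hM.isSubnormal
    obtain ⟨R, hR⟩ := exists_sylow_subgroupOf S (H := M) hM.isSubnormal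
    intro x hx
    obtain ⟨hxN, hxS⟩ := Subgroup.mem_inf.mp hx
    have hxM := hNM hxN
    have h1 : (⟨x, hxM⟩ : M) ∈ (R : Subgroup M) ⊓ pResidual p M := by
      refine ⟨hR ▸ (hxS : (⟨x, hxM⟩ : M) ∈ (S : Subgroup G).subgroupOf M), ?_⟩
      have hle : N ≤ (pResidual p M).map M.subtype := by
        refine (Subgroup.closure_le _).mpr fun g hg => ⟨⟨g, hg.1⟩, Subgroup.subset_closure ?_, rfl⟩
        show Nat.Coprime (orderOf (⟨g, hg.1⟩ : M)) p
        rw [Subgroup.orderOf_mk]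
        exact hg.2
      obtain ⟨y, hy, e⟩ := hle hxN
      rwa [show (⟨x, hxM⟩ : M) = y from Subtype.ext e.symm]
    rw [← hyp_group_eq R] at h1
    have h2 : (groupFusionSystem (R : Subgroup M)).hyperfocalSubgroup p ≤ T.subgroupOf M := by
      refine hyp_le fun P hP α hα _ y hy => Subgroup.mem_subgroupOf.mpr ?_
      obtain ⟨-, hmS, g, hg⟩ := isMor_group.mp (isMor_autFun hP hα)
      have hyS : (y : G) ∈ (S : Subgroup G) := by
        have := hP hy
        rw [hR] at this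
        exact this
      have hgy : cj (g : G) y ∈ (S : Subgroup G) := by
        have h3 := hmS y hy
        rw [hR, hg y hy] at h3
        exact h3
      rw [Subgroup.coe_mul, Subgroup.coe_inv, hg y hy]
      show (y : G)⁻¹ * cj (g : G) y ∈ T
      obtain ⟨t, ht, k, hk, e⟩ := hSM y hyS y.2
      rw [e, cj_map_mul] at hgy ⊢
      have hgk : cj (g : G) k ∈ Q := hQn.conj_mem k (hKQ hk) g
      have hgt : cj (g : G) t ∈ T := hclosed t ht g (by
        have := (S : Subgroup G).mul_mem hgy ((S : Subgroup G).inv_mem (hQS hgk))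
        rwa [mul_inv_cancel_right] at this)
      have h4 := T.mul_mem (hTn k⁻¹ ((S : Subgroup G).inv_mem (hKS hk)) _ (T.mul_mem (T.inv_mem ht) hgt))
        (hUT (g.2.1 k (hKQ hk)))
      simpa [cj, mul_assoc] using h4
    exact Subgroup.mem_subgroupOf.mp (h2 h1)
  set H := N ⊔ T with hHdef
  have hTH : T ≤ H := le_sup_right
  have hHM : H ≤ M := sup_le hNM hTM
  have hNmem : ∀ {h : G}, h ∈ H → ∃ n ∈ N, ∃ t ∈ T, h = n * t := by
    intro h hh
    have hh' : h ∈ ((N ⊔ T : Subgroup G) : Set G) := hh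
    rw [Subgroup.normal_mul] at hh'
    obtain ⟨n, hn, t, ht, rfl⟩ := hh'
    exact ⟨n, hn, t, ht, rfl⟩
  have hHS : (S : Subgroup G) ⊓ H = T := by
    refine le_antisymm (fun h hh => ?_) (le_inf hTS hTH)
    obtain ⟨n, hn, t, ht, rfl⟩ := hNmem hh.2
    refine T.mul_mem (hNS ⟨hn, ?_⟩) ht
    have := (S : Subgroup G).mul_mem hh.1 ((S : Subgroup G).inv_mem (hTS ht))
    rwa [mul_inv_cancel_right] at this
  have hMsup : M ≤ N ⊔ ((S : Subgroup G) ⊓ M) :=
    le_coprime_closure_sup hM (isSylIn_inf_subnormal S hM.isSubnormal)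
  have hHn : H.Normal := by
    have hMT : ∀ m ∈ M, ∀ x ∈ T, cj m x ∈ H := by
      intro m hm x hx
      have hm' : m ∈ ((N ⊔ ((S : Subgroup G) ⊓ M) : Subgroup G) : Set G) := hMsup hm
      rw [Subgroup.normal_mul] at hm'
      obtain ⟨n, hn, s, hs, rfl⟩ := hm'
      have hy := hTn s hs.1 x hx
      have h1 := H.mul_mem (Subgroup.mem_sup_left (hNn.conj_mem n hn 1))
        (H.mul_mem (Subgroup.mem_sup_right hy) (Subgroup.mem_sup_left (N.inv_mem hn)))
      simpa [cj, mul_assoc] using h1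
    refine ⟨fun z hz a => ?_⟩
    obtain ⟨n, hn, t, ht, rfl⟩ := hNmem hz
    rw [show a * (n * t) * a⁻¹ = (a * n * a⁻¹) * (a * t * a⁻¹) by group]
    refine H.mul_mem (Subgroup.mem_sup_left (hNn.conj_mem n hn a)) ?_
    have hyM : a * t * a⁻¹ ∈ M := hM.conj_mem t (hTM ht) a
    obtain ⟨m, hm, hms⟩ := (isSylIn_inf_subnormal S (H := M) hM.isSubnormal).exists_conj_le
      ((hTp.map (MulAut.conj a).toMonoidHom))
      (by rintro _ ⟨w, hw, rfl⟩; exact hM.conj_mem w (hTM hw) a)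
    have h1 := hms _ ⟨t, ht, rfl⟩
    have h2 : cj (m * a) t ∈ T := hclosed t ht _ (by rw [cj_mul]; exact h1.1)
    have h3 := hMT m⁻¹ (M.inv_mem hm) _ h2
    rwa [cj_mul, cj_inv_cj] at h3
  obtain ⟨R₀, hR₀⟩ := exists_sylow_subgroupOf S (H := H) hHn.isSubnormal
  have hR₀T : (R₀ : Subgroup H) = T.subgroupOf H := by
    rw [hR₀]
    ext x
    rw [Subgroup.mem_subgroupOf, Subgroup.mem_subgroupOf]
    exact ⟨fun h => hHS.le ⟨h, x.2⟩, fun h => hTS h⟩
  have hHsyl : IsSylIn p T H := (exists_sylow_iff hTH).mp ⟨R₀, hR₀T⟩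
  set D := fusionSystemOfSubgroup H T hTH with hD
  have hDs : D.IsSaturated p := subgroupFusion_isSaturated hTH hHsyl
  have hDsub : D.IsSubsystemOf F := le_iff_isMor.mpr fun P f hf => by
    obtain ⟨hP, hfT, g, -, hg⟩ := isMor_fusionSystemOfSubgroup.mp hf
    exact isMor_group.mpr ⟨hP.trans hTS, fun x hx => hTS (hfT x hx), g, hg⟩
  have hDinv : StrongInv D F := by
    intro P R f g hPR hRT hf hfR hg
    obtain ⟨hP, hfT, h, hh, hhe⟩ := isMor_fusionSystemOfSubgroup.mp hf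
    obtain ⟨-, -, a, ha⟩ := isMor_group.mp hg
    have hval : ∀ x ∈ P, cj (a * h * a⁻¹) (g x) = g (f x) := fun x hx => by
      rw [ha x (hPR hx), ha _ (hfR x hx), hhe x hx]
      simp [cj, mul_assoc]
    have hgT : ∀ x ∈ R, g x ∈ T := fun x hx =>
      (stronglyClosed_iff.mp hTc).2 R g hg x hx (hRT hx)
    refine ⟨cj (a * h * a⁻¹), isMor_fusionSystemOfSubgroup.mpr
      ⟨img_le fun x hx => hgT x (hPR hx), fun y hy => ?_, _, hHn.conj_mem h hh a, fun _ _ => rfl⟩, hval⟩
    obtain ⟨x, hx, rfl⟩ := (hg.restrict hPR).mem_img.mp hy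
    rw [hval x hx]
    exact hgT _ (hfR x hx)
  have hST : ∀ s ∈ (S : Subgroup G), s ∈ Subgroup.normalizer (T : Set G) := fun s hs =>
    Subgroup.mem_normalizer_iff.mpr fun x => ⟨hTn s hs x, fun hx => by
      have := hTn s⁻¹ ((S : Subgroup G).inv_mem hs) _ hx
      rwa [show cj s⁻¹ (s * x * s⁻¹) = x from cj_inv_cj s x] at this⟩
  -- `Aut_E(T) ≤ Aut_H(T)`
  have hA : ∀ γ ∈ E.autGroup T, γ ∈ D.autGroup T := by
    have := finite_mulAut (P := T) hTS
    have hInn : autInducedBy T T ≤ D.autGroup T := autInducedBy_le D le_rfl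
    have hsylT : IsSylIn p (autInducedBy T T) (E.autGroup T) :=
      (isFullyAutomized_iff.mp
        (isFullyAutomized_of_normalized hTp hEs (isFullyNormalized_self E)).1).2
    have hIS : autInducedBy (S : Subgroup G) T ⊓ E.autGroup T = autInducedBy T T :=
      hsylT.2.2 _ (isPGroup_of_le inf_le_left (isPGroup_autInducedBy hS))
        (le_inf (fun β hβ => by
          obtain ⟨t, ht, htn, e⟩ := mem_autInducedBy.mp hβ
          exact mem_autInducedBy.mpr ⟨t, hTS ht, htn, e⟩) hsylT.1) inf_le_right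
    intro γ₁ hγ₁
    obtain ⟨a₁, c₁, hac, hcop, k₁, hk₁⟩ := exists_pow_coprime_order (p := p) γ₁
    refine mem_of_pow_coprime hac ?_ ?_
    swap
    · obtain ⟨b, -, hbc⟩ := hsylT.exists_conj_le (C := Subgroup.zpowers (γ₁ ^ c₁)) (fun ⟨c, hc⟩ => by
          obtain ⟨z, rfl⟩ := Subgroup.mem_zpowers_iff.mp hc
          refine ⟨k₁, Subtype.ext ?_⟩
          show ((γ₁ ^ c₁) ^ z) ^ p ^ k₁ = 1
          rw [← zpow_natCast, ← zpow_mul, mul_comm, zpow_mul, zpow_natCast, hk₁, one_zpow])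
        (Subgroup.zpowers_le.mpr ((E.autGroup T).pow_mem hγ₁ _))
      have h1 := hbc _ (Subgroup.mem_zpowers _)
      rw [← inn_eq_autInducedBy] at h1 hInn
      have h2 := hInn (inn_conj_mem (a := b⁻¹) h1)
      simpa [mul_assoc] using h2
    generalize hγdef : γ₁ ^ p ^ a₁ = γ at hcop ⊢
    have hγ : γ ∈ E.autGroup T := hγdef ▸ (E.autGroup T).pow_mem hγ₁ _
    obtain ⟨β, hβ, hβT, hβC⟩ := hext γ hγ
    have hWS : T ⊔ centralizerIn (S : Subgroup G) T ≤ (S : Subgroup G) := sup_le hTS centralizerIn_le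
    obtain ⟨-, -, g₀, hg₀⟩ := isMor_group.mp (isMor_autFun hWS hβ)
    set Z := T ⊓ Subgroup.centralizer (T : Set G) with hZ
    have hgT₀ : ∀ x ∈ T, cj g₀ x = autFun γ x := fun x hx => by
      rw [← hg₀ x (Subgroup.mem_sup_left hx), autFun_of_mem γ hx,
        autFun_of_mem β (Subgroup.mem_sup_left hx)]
      exact hβT ⟨x, hx⟩
    have hgC₀ : ∀ c ∈ centralizerIn (S : Subgroup G) T, c⁻¹ * cj g₀ c ∈ Z := fun c hc => by
      rw [← hg₀ c (Subgroup.mem_sup_right hc), autFun_of_mem β (Subgroup.mem_sup_right hc)]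
      exact hβC ⟨c, Subgroup.mem_sup_right hc⟩ hc
    have hgZ₀ : ∀ z ∈ Z, cj g₀ z ∈ Z := fun z hz => by
      refine ⟨(hgT₀ z hz.1).symm ▸ autFun_mem γ hz.1, Subgroup.mem_centralizer_iff.mpr fun x hx => ?_⟩
      rw [← autFun_inv_right γ hx, ← hgT₀ _ (autFun_mem γ⁻¹ hx), ← cj_map_mul, ← cj_map_mul,
        Subgroup.mem_centralizer_iff.mp hz.2 _ (autFun_mem γ⁻¹ hx)]
    have hpw : ∀ n : ℕ, (∀ x ∈ T, cj (g₀ ^ n) x = autFun (γ ^ n) x) ∧
        ∀ c ∈ centralizerIn (S : Subgroup G) T, c⁻¹ * cj (g₀ ^ n) c ∈ Z := by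
      intro n
      induction n with
      | zero =>
        exact ⟨fun x hx => by rw [pow_zero, pow_zero, autFun_one hx, cj_one], fun c _ => by simp [cj]⟩
      | succ n ih =>
        refine ⟨fun x hx => ?_, fun c hc => ?_⟩
        · rw [pow_succ' g₀, pow_succ' γ, autFun_mul _ _ hx, cj_mul, ih.1 x hx,
            hgT₀ _ (autFun_mem _ hx)]
        · rw [pow_succ' g₀, cj_mul,
            show cj (g₀ ^ n) c = c * (c⁻¹ * cj (g₀ ^ n) c) from (mul_inv_cancel_left _ _).symm,
            cj_map_mul, ← mul_assoc]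
          exact Z.mul_mem (hgC₀ c hc) (hgZ₀ _ (ih.2 c hc))
    obtain ⟨a, c₀, -, hgcop, -⟩ := exists_pow_coprime_order (p := p) g₀
    refine mem_of_pow_coprime (a := p ^ a) (b := orderOf γ) (hcop.symm.pow_left a) ?_
      (by rw [pow_orderOf_eq_one]; exact one_mem _)
    obtain ⟨hgT, hgC⟩ := hpw (p ^ a)
    have hγ' : γ ^ p ^ a ∈ E.autGroup T := (E.autGroup T).pow_mem hγ _
    generalize γ ^ p ^ a = γ' at hgT hγ' ⊢
    generalize g₀ ^ p ^ a = g at hgT hgC hgcop
    have hgU : IsMor E U (cj g) :=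
      ((isMor_autFun le_rfl hγ').restrict hUT).congr fun x hx => (hgT x (hUT hx)).symm
    have hgM : g ∈ M := by
      refine ⟨fun q hq => ?_, hgU⟩
      set y := q⁻¹ * cj g q with hy
      have hyQ : y ∈ Q := Q.mul_mem (Q.inv_mem hq) (hQn.conj_mem q hq g)
      obtain ⟨δ, hδ, hδe⟩ := exists_autInducedBy (P := T) (hQS hq) (hST q (hQS hq))
      have hθ : δ⁻¹ * γ' * δ⁻¹⁻¹ * γ'⁻¹ ∈ E.autGroup T :=
        (E.autGroup T).mul_mem (autGroup_conj_of_strongInv hTS hinv le_rfl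
          ((F.autGroup T).inv_mem (autInducedBy_le F hTS hδ)) hγ') ((E.autGroup T).inv_mem hγ')
      rw [inv_inv] at hθ
      obtain ⟨θ, hθS, hθe⟩ := exists_autInducedBy (P := T) (hQS hyQ) (hST y (hQS hyQ))
      have hδi : ∀ v ∈ T, autFun δ⁻¹ v = cj q⁻¹ v := fun v hv => by
        conv_rhs => rw [← autFun_inv_right δ hv, hδe _ (autFun_mem _ hv), cj_inv_cj]
      have hθeq : θ = δ⁻¹ * γ' * δ * γ'⁻¹ := autFun_inj fun x hx => by
        rw [hθe x hx, autFun_mul _ _ hx, autFun_mul _ _ (autFun_mem _ hx),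
          autFun_mul _ _ (autFun_mem _ (autFun_mem _ hx))]
        conv_lhs => rw [← autFun_inv_right γ' hx, ← hgT _ (autFun_mem _ hx)]
        have hw := autFun_mem γ'⁻¹ hx
        generalize autFun γ'⁻¹ x = w at hw ⊢
        rw [hδi _ (autFun_mem _ (autFun_mem _ hw)), ← hgT _ (autFun_mem _ hw), hδe w hw, hy]
        simp [cj, mul_assoc]
      obtain ⟨t, ht, -, hte⟩ := mem_autInducedBy.mp (hIS.le ⟨hθS, hθeq ▸ hθ⟩)
      set c := t⁻¹ * y with hcdef
      have hc : c ∈ centralizerIn (S : Subgroup G) T := mem_centralizerIn.mpr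
        ⟨(S : Subgroup G).mul_mem ((S : Subgroup G).inv_mem (hTS ht)) (hQS hyQ), fun x hx => by
          show cj c x = x
          rw [hcdef, cj_mul, ← hθe x hx, hte x hx, cj_inv_cj]⟩
      have hyU : y⁻¹ * cj g y ∈ U := by
        refine ⟨?_, Q.mul_mem (Q.inv_mem hyQ) (hQn.conj_mem y hyQ g)⟩
        have hyc : y = t * c := (mul_inv_cancel_left t y).symm
        have h1 : cj g c = c * (c⁻¹ * cj g c) := (mul_inv_cancel_left _ _).symm
        have hw : t⁻¹ * cj g t ∈ T := T.mul_mem (T.inv_mem ht) (hgT t ht ▸ autFun_mem γ' ht)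
        have h2 : c⁻¹ * (t⁻¹ * cj g t) * c = t⁻¹ * cj g t := by
          have h3 : c * (t⁻¹ * cj g t) * c⁻¹ = t⁻¹ * cj g t := (mem_centralizerIn.mp hc).2 _ hw
          rw [cj_fixed_iff] at h3
          rw [mul_assoc, ← h3, inv_mul_cancel_left]
        rw [hyc, cj_map_mul, h1]
        have h4 := T.mul_mem hw (hgC c hc).1
        rw [← h2] at h4
        simpa [mul_assoc] using h4
      -- modulo `U`
      let ρ := QuotientGroup.mk' U
      have hρU : ∀ {u v : G}, u⁻¹ * v ∈ U → ρ v = ρ u := fun {u v} h =>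
        (QuotientGroup.eq.mpr h).symm
      have hpowy : ∀ n : ℕ, ρ (cj (g ^ n) q) = ρ q * ρ y ^ n := by
        intro n
        induction n with
        | zero => rw [pow_zero, pow_zero, cj_one, mul_one]
        | succ n ih =>
          have h1 : (q * y ^ n)⁻¹ * cj (g ^ n) q ∈ U :=
            QuotientGroup.eq.mp (show ρ (q * y ^ n) = ρ (cj (g ^ n) q) by rw [ih, map_mul, map_pow])
          have h2 : ρ (cj g (cj (g ^ n) q)) = ρ (cj g (q * y ^ n)) := hρU (by
            have := hU.conj_mem _ h1 g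
            simpa [cj, mul_assoc] using this)
          rw [pow_succ', cj_mul, h2]
          show (ρ.comp (MulAut.conj g).toMonoidHom) (q * y ^ n) = _
          rw [map_mul, map_pow]
          show ρ (cj g q) * ρ (cj g y) ^ n = _
          rw [hρU hyU, show cj g q = q * y from (mul_inv_cancel_left _ _).symm, map_mul,
            pow_succ' (ρ y), mul_assoc]
      have h5 := hpowy (orderOf g)
      rw [pow_orderOf_eq_one, cj_one] at h5
      have h6 : y ^ orderOf g ∈ U := (QuotientGroup.eq_one_iff _).mp (by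
        show ρ (y ^ orderOf g) = 1
        rw [map_pow]
        exact mul_eq_left.mp h5.symm)
      obtain ⟨k, hk⟩ := CfsgLib.Base.isPGroup_pCore p G ⟨y, hyQ⟩
      exact mem_of_pow_coprime (a := p ^ k) (hgcop.symm.pow_left k)
        (by rw [show y ^ p ^ k = 1 from congrArg Subtype.val hk]; exact one_mem _) h6
    have hgH : g ∈ H := Subgroup.mem_sup_left (Subgroup.subset_closure ⟨hgM, hgcop⟩)
    exact (autGroup_eq_set le_rfl _).mpr (isMor_fusionSystemOfSubgroup.mpr
      ⟨le_rfl, fun x hx => autFun_mem γ' hx, g, hgH, fun x hx => (hgT x hx).symm⟩)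
  -- extending from `U` to `T`
  have hExt : ∀ f, IsMor E U f → (∀ x ∈ U, f x ∈ U) →
      (∀ t ∈ T, ∃ w ∈ T, ∀ x ∈ U, f (cj t x) = cj w (f x)) →
      ∃ γ ∈ E.autGroup T, ∀ x ∈ U, autFun γ x = f x := by
    intro f hf hfU hft
    obtain ⟨g, hg, hge⟩ := (isReceptive_iff.mp hUrec).2 U f hf (hf.img_eq_self hfU)
    have hT' : T ≤ nExt T U f := fun t ht => mem_nExt.mpr ⟨ht, hUnorm t, hft t ht⟩
    have hg' := hg.restrict hT'
    obtain ⟨γ, hγ, hγe⟩ := exists_aut hg' (hg'.img_eq_self fun x hx => hg'.mem hx)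
    exact ⟨γ, hγ, fun x hx => by rw [hγe x (hUT hx), hge x hx]⟩
  -- `Aut_H(T) ≤ Aut_E(T)`
  have hB : ∀ β ∈ D.autGroup T, β ∈ E.autGroup T := by
    intro β hβ
    obtain ⟨-, hT2, h, hh, hhe⟩ := isMor_fusionSystemOfSubgroup.mp (isMor_autFun le_rfl hβ)
    obtain ⟨γ, hγ, hγe⟩ := hExt (cj h) (hHM hh).2 (fun x hx => hU.conj_mem x hx h) fun t ht =>
      ⟨cj h t, hhe t ht ▸ hT2 t ht, fun x hx => by simp [cj, mul_assoc]⟩
    obtain ⟨-, -, g, hg, hge⟩ := isMor_fusionSystemOfSubgroup.mp (isMor_autFun le_rfl (hA γ hγ))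
    have hk : g⁻¹ * h ∈ T := by
      have hkH : g⁻¹ * h ∈ H := H.mul_mem (H.inv_mem hg) hh
      refine hHS.le ⟨hKS ⟨hHM hkH, Subgroup.mem_centralizer_iff.mpr fun u hu => ?_⟩, hkH⟩
      refine (cj_fixed_iff.mp (show cj (g⁻¹ * h) u = u from ?_)).symm
      rw [cj_mul, ← hγe u hu, hge u (hUT hu), cj_inv_cj]
    obtain ⟨τ, hτ, hτe⟩ := exists_autInducedBy (P := T) hk (Subgroup.le_normalizer hk)
    have e : β = γ * τ := autFun_inj fun x hx => by
      rw [autFun_mul _ _ hx, hτe x hx, hhe x hx, hge _ (hτe x hx ▸ autFun_mem τ hx), ← cj_mul,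
        mul_inv_cancel_left]
    exact e ▸ (E.autGroup T).mul_mem hγ (autInducedBy_le E le_rfl hτ)
  -- equality
  have hED : E = D := fusion_le_antisymm
    (alperin_frattini hTp hEs (fun γ hγ => hA γ hγ) fun P hP α hα k hk =>
      pElement_mem_of_invariant hS hF hEs hsub hTc hinv hDinv hP hα hk)
    (alperin_frattini hTp hDs (fun γ hγ => hB γ hγ) fun P hP α hα k hk =>
      pElement_mem_of_invariant hS hF hDs hDsub hTc hDinv hinv hP hα hk)
  refine ⟨H, ⟨hTH, hHn, ⟨R₀, hR₀T⟩, fun P => hED ▸ rfl⟩, ?_⟩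
  rintro H' ⟨hTH', hH'n, hR', hHom⟩
  have hsyl' : IsSylIn p T H' := (exists_sylow_iff hTH').mp hR'
  have he : ∀ P f, IsMor E P f ↔ IsMor (fusionSystemOfSubgroup H' T hTH') P f := fun P f => by
    unfold IsMor
    rw [hHom P]
  have hH'M : H' ≤ M := by
    intro h hh
    refine ⟨fun q hq => ⟨?_, Q.mul_mem (Q.inv_mem hq) (hQn.conj_mem q hq h)⟩,
      (he _ _).mpr (isMor_fusionSystemOfSubgroup.mpr
        ⟨hUT, fun x hx => hUT (hU.conj_mem x hx h), h, hh, fun _ _ => rfl⟩)⟩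
    refine hsyl'.le_of_normal (C := Q ⊓ H')
      (isPGroup_of_le inf_le_left (CfsgLib.Base.isPGroup_pCore p G)) inf_le_right
      (fun b _ c hc => ⟨hQn.conj_mem c hc.1 b, hH'n.conj_mem c hc.2 b⟩) ⟨?_, ?_⟩
    · exact Q.mul_mem (Q.inv_mem hq) (hQn.conj_mem q hq h)
    · have := H'.mul_mem (hH'n.conj_mem h hh q⁻¹) (H'.inv_mem hh)
      simpa [cj, mul_assoc] using this
  refine le_antisymm ((le_coprime_closure_sup hH'n hsyl').trans (sup_le ?_ le_sup_right))
    (sup_le ?_ hTH')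
  · exact (Subgroup.closure_le _).mpr fun g hg =>
      Subgroup.mem_sup_left (Subgroup.subset_closure ⟨hH'M hg.1, hg.2⟩)
  · refine (Subgroup.closure_le _).mpr fun m hm => ?_
    obtain ⟨-, -, h', hh', hhe'⟩ := isMor_fusionSystemOfSubgroup.mp ((he _ _).mp hm.1.2)
    have hk : h'⁻¹ * m ∈ K := by
      refine ⟨M.mul_mem (M.inv_mem (hH'M hh')) hm.1, Subgroup.mem_centralizer_iff.mpr fun u hu => ?_⟩
      refine (cj_fixed_iff.mp (show cj (h'⁻¹ * m) u = u from ?_)).symm
      rw [cj_mul, hhe' u hu, cj_inv_cj]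
    obtain ⟨j, hj⟩ := CfsgLib.Base.isPGroup_pCore p G ⟨_, hKQ hk⟩
    refine mem_of_pow_coprime (a := p ^ j) (b := orderOf m) (hm.2.symm.pow_left j) ?_
      (by rw [pow_orderOf_eq_one]; exact one_mem _)
    refine (QuotientGroup.eq_one_iff _).mp ?_
    have h1 : (QuotientGroup.mk' H') m = (QuotientGroup.mk' H') (h'⁻¹ * m) := by
      rw [map_mul, map_inv, show (QuotientGroup.mk' H') h' = 1 from (QuotientGroup.eq_one_iff _).mpr hh',
        inv_one, one_mul]
    show (QuotientGroup.mk' H') (m ^ p ^ j) = 1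
    rw [map_pow, h1, ← map_pow, show (h'⁻¹ * m) ^ p ^ j = 1 from congrArg Subtype.val hj, map_one]

end Groups

end CfsgLib.Fusion
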