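import Mathlib
import Cfsg.Agent.Lib.Fusion.OrderFiveBase
import Cfsg.Agent.Lib.Fusion.MaxClassSmallEssential

/-!
# Maximal class of order `p ^ 5`: the weights of an automorphism
-/

set_option autoImplicit false
set_option linter.unusedSectionVars false
set_option linter.style.haveILetI false

namespace CfsgLib.Fusion.OrderFive

open Cfsg Cfsg.FusionSystem CfsgLib.Fusion CfsgLib.Fusion.MaxClassSmall
open CfsgLib.PGroups.Pearl CfsgLib.FgsC.MaxClassSection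
open CfsgLib.PGroups CfsgLib.PGroups.TwoStepConst CfsgLib.PGroups.MaxClassWeights
open scoped commutatorElement

universe u

variable {Ω : Type u} [Group Ω] {S : Subgroup Ω} [Finite S] {p : ℕ} [hp : Fact p.Prime]
  {F : FusionSystem S}

/-- `mem_step` inside a finite `p`-group. -/
theorem mem_step' {G : Type u} [Group G] [Finite G] (hG : IsPGroup p G) {A B : Subgroup G}
    (hAB : A ≤ B) (hcard : Nat.card B ≤ p * Nat.card A) {b : G} (hb : b ∈ B) (hbA : b ∉ A) {x : G}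
    (hx : x ∈ B) : ∃ i : ℕ, (b ^ i)⁻¹ * x ∈ A :=
  mem_step (S := (⊤ : Subgroup G)) (hG.to_subgroup ⊤) le_top hAB hcard hb hbA hx

/-- The common two-step centraliser of a group of maximal class of order `p ^ 5`. -/
abbrev bigC (S : Subgroup Ω) : Subgroup ↥S := twoStepCentralizer ↥S 1

variable (H : MC ↥S p 5)
include H

theorem card_lcs5 {i : ℕ} (hi : 1 ≤ i) (hi' : i ≤ 4) : Nat.card (lcsT ↥S i) = p ^ (4 - i) :=
  H.card_lcs hi (by omega)

theorem lcs5_le {i : ℕ} (hi : 1 ≤ i) (hi' : i ≤ 3) :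
    lcsT ↥S (i + 1) ≤ lcsT ↥S i ∧
      Nat.card (lcsT ↥S i) ≤ p * Nat.card (lcsT ↥S (i + 1)) := by
  refine ⟨Subgroup.lowerCentralSeries_antitone _ (Nat.le_succ i), le_of_eq ?_⟩
  rw [card_lcs5 H hi (by omega), card_lcs5 H (by omega) (by omega), ← pow_succ']
  congr 1
  omega

theorem lcs5_one {x : ↥S} (hx : x ∈ lcsT ↥S 4) : x = 1 :=
  Subgroup.mem_bot.1 (H.lcs_eq_bot (i := 4) le_rfl ▸ hx)

theorem card_bigC : Nat.card (bigC S) = p ^ 4 :=
  card_twoStep H le_rfl (by omega)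

theorem bigC_step : lcsT ↥S 1 ≤ bigC S ∧ Nat.card (bigC S) ≤ p * Nat.card (lcsT ↥S 1) :=
  ⟨lcs_one_le 1, le_of_eq (by rw [card_bigC H, card_lcs5 H le_rfl (by omega)]; ring)⟩

theorem twoStep_two : twoStepCentralizer ↥S 2 = bigC S := by
  by_contra h
  exact absurd (even_of_twoStep_ne H le_rfl h) (by decide)

theorem bigC_centralises {x y : ↥S} (hx : x ∈ bigC S) (hy : y ∈ lcsT ↥S 2) : ⁅y, x⁆ = 1 :=
  lcs5_one H (mem_twoStepCentralizer.1 ((twoStep_two H).symm ▸ hx) y hy)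

theorem lcs_one_comm {x y : ↥S} (hx : x ∈ lcsT ↥S 1) (hy : y ∈ lcsT ↥S 1) : ⁅x, y⁆ = 1 := by
  obtain ⟨b, hb, hb'⟩ := exists_layer H (i := 1) (by omega)
  obtain ⟨hle, hc⟩ := lcs5_le H le_rfl (by omega : 1 ≤ 3)
  have hP : IsPGroup p ↥S := IsPGroup.of_card H.card
  obtain ⟨i, hi⟩ := mem_step' hP hle hc hb hb' hx
  obtain ⟨j, hj⟩ := mem_step' hP hle hc hb hb' hy
  have hc2 : ∀ {z w : ↥S}, z ∈ lcsT ↥S 2 → w ∈ lcsT ↥S 1 → Commute z w := fun hz hw =>
    commutatorElement_eq_one_iff_commute.1 (bigC_centralises H (lcs_one_le 1 hw) hz)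
  rw [commutatorElement_eq_one_iff_commute]
  rw [← mul_inv_cancel_left (b ^ i) x, ← mul_inv_cancel_left (b ^ j) y]
  exact ((Commute.pow_pow_self b i j).mul_right ((hc2 hj hb).pow_right i).symm).mul_left
    (((hc2 hi hb).pow_right j).mul_right (hc2 hi (mem_anti (by omega) hj)))

theorem comm_L1_C (hH : Hyp F p) {t l : ↥S} (ht : t ∈ bigC S) (ht' : t ∉ lcsT ↥S 1)
    (hl : l ∈ lcsT ↥S 1) (hl' : l ∉ lcsT ↥S 2) : ⁅l, t⁆ ≠ 1 := by
  intro h
  obtain ⟨hle, hc⟩ := lcs5_le H le_rfl (by omega : 1 ≤ 3)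
  have hP : IsPGroup p ↥S := IsPGroup.of_card H.card
  have hcomm : ∀ a ∈ lcsT ↥S 1, a * t = t * a := fun a ha => by
    obtain ⟨i, hi⟩ := mem_step' hP hle hc hl hl' ha
    rw [← mul_inv_cancel_left (l ^ i) a]
    exact (((commutatorElement_eq_one_iff_commute.1 h).pow_left i).mul_left
      (commutatorElement_eq_one_iff_commute.1 (bigC_centralises H ht hi))).eq
  obtain ⟨hle', hc'⟩ := bigC_step H
  have hab := comm_of_step (S := (⊤ : Subgroup ↥S)) (hP.to_subgroup ⊤) le_top hle' hc' ht ht'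
    (fun a ha b hb => commutatorElement_eq_one_iff_mul_comm.1 (lcs_one_comm H ha hb)) hcomm
  have h1 := hH.noAb ((bigC S).map S.subtype) (Subgroup.map_subtype_le _) (by
    rintro _ ⟨a, ha, rfl⟩ _ ⟨b, hb, rfl⟩
    exact congrArg Subtype.val (hab a ha b hb))
  rw [Subgroup.card_map_of_injective S.subtype_injective, card_bigC H] at h1
  exact lt_irrefl _ h1

theorem comm_L1_s {s l : ↥S} (hs : s ∉ bigC S) (hl : l ∈ lcsT ↥S 1) (hl' : l ∉ lcsT ↥S 2) :
    ⁅l, s⁆ ∉ lcsT ↥S 3 := by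
  intro h
  refine hs (mem_twoStepCentralizer.2 fun a ha => ?_)
  obtain ⟨hle, hc⟩ := lcs5_le H le_rfl (by omega : 1 ≤ 3)
  obtain ⟨i, hi⟩ := mem_step' (IsPGroup.of_card H.card) hle hc hl hl' ha
  haveI : (lcsT ↥S 3).Normal := lcsT_normal _
  set π := QuotientGroup.mk' (lcsT ↥S 3)
  refine (QuotientGroup.eq_one_iff _).1 ?_
  show π ⁅a, s⁆ = 1
  rw [map_commutatorElement, commutatorElement_eq_one_iff_commute,
    ← mul_inv_cancel_left (l ^ i) a, map_mul, map_pow]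
  refine ((Commute.pow_left ?_ i).mul_left ?_) <;>
    rw [← commutatorElement_eq_one_iff_commute, ← map_commutatorElement]
  · exact (QuotientGroup.eq_one_iff _).2 h
  · exact (QuotientGroup.eq_one_iff _).2 (comm_succ hi s)

theorem comm_L2_s {s l : ↥S} (hs : s ∉ bigC S) (hl : l ∈ lcsT ↥S 2) (hl' : l ∉ lcsT ↥S 3) :
    ⁅l, s⁆ ≠ 1 := by
  intro h
  refine hs (twoStep_two H ▸ mem_twoStepCentralizer.2 fun a ha => ?_)
  obtain ⟨hle, hc⟩ := lcs5_le H (i := 2) (by omega) (by omega)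
  obtain ⟨i, hi⟩ := mem_step' (IsPGroup.of_card H.card) hle hc hl hl' ha
  have h1 : Commute ((l ^ i)⁻¹ * a) s :=
    commutatorElement_eq_one_iff_commute.1 (lcs5_one H (comm_succ hi s))
  rw [← mul_inv_cancel_left (l ^ i) a, commutatorElement_eq_one_iff_commute.2
    (((commutatorElement_eq_one_iff_commute.1 h).pow_left i).mul_left h1)]
  exact one_mem _

theorem comm_C_s {s t : ↥S} (hs : s ∉ bigC S) (ht : t ∈ bigC S) (ht' : t ∉ lcsT ↥S 1) :
    ⁅t, s⁆ ∉ lcsT ↥S 2 := by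
  intro h
  haveI : (lcsT ↥S 2).Normal := lcsT_normal _
  set π := QuotientGroup.mk' (lcsT ↥S 2) with hπ
  have hts : Commute (π t) (π s) := by
    rw [← commutatorElement_eq_one_iff_commute, ← map_commutatorElement]
    exact (QuotientGroup.eq_one_iff _).2 h
  have hL : ∀ a ∈ lcsT ↥S 1, ∀ y, Commute (π a) (π y) := fun a ha y => by
    rw [← commutatorElement_eq_one_iff_commute, ← map_commutatorElement]
    exact (QuotientGroup.eq_one_iff _).2 (comm_succ ha y)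
  obtain ⟨hle', hc'⟩ := bigC_step H
  have hP : IsPGroup p ↥S := IsPGroup.of_card H.card
  have key : ∀ x : ↥S, ∀ w, Commute (π t) w → Commute (π s) w →
      (∀ a ∈ lcsT ↥S 1, Commute (π a) w) → Commute (π x) w := by
    intro x w h1 h2 h3
    obtain ⟨k, hk⟩ := exists_mul_pow_mem H le_rfl (by omega) hs x
    obtain ⟨j, hj⟩ := mem_step' hP hle' hc' ht ht' hk
    rw [show x = t ^ j * ((t ^ j)⁻¹ * (x * s ^ k)) * (s ^ k)⁻¹ by group, map_mul, map_mul, map_inv,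
      map_pow, map_pow]
    exact ((h1.pow_left j).mul_left (h3 _ hj)).mul_left (h2.pow_left k).inv_left
  have hall : ∀ x y : ↥S, Commute (π x) (π y) := fun x y =>
    key x _ (key y (π t) (Commute.refl _) hts.symm fun a ha => hL a ha t).symm
      (key y (π s) hts (Commute.refl _) fun a ha => hL a ha s).symm fun a ha => hL a ha y
  have hle : lcsT ↥S 1 ≤ lcsT ↥S 2 := by
    show Subgroup.lowerCentralSeries (⊤ : Subgroup ↥S) 1 ≤ _
    rw [Subgroup.top_lowerCentralSeries_one, commutator_def, Subgroup.commutator_le]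
    intro x _ y _
    refine (QuotientGroup.eq_one_iff _).1 ?_
    show π ⁅x, y⁆ = 1
    rw [map_commutatorElement, commutatorElement_eq_one_iff_commute]
    exact hall x y
  exact (H.lcs_lt (i := 1) (by omega)).not_ge hle

/-- The weights of an automorphism. -/
theorem weights (hH : Hyp F p) (ψ : MulAut ↥S) {s : ↥S} (hs : s ∉ bigC S) {u : ℕ}
    (hu : (s ^ u)⁻¹ * ψ s ∈ bigC S) :
    (u : ZMod p) ≠ 0 ∧
      (∀ t ∈ bigC S, t ∉ lcsT ↥S 1 → (t ^ (u ^ 2))⁻¹ * ψ t ∈ lcsT ↥S 1) ∧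
      (∀ y ∈ lcsT ↥S 2, y ∉ lcsT ↥S 3 → (y ^ (u ^ 4))⁻¹ * ψ y ∈ lcsT ↥S 3) ∧
      ∀ y ∈ lcsT ↥S 3, ψ y = y ^ (u ^ 5) := by
  have hP : IsPGroup p ↥S := IsPGroup.of_card H.card
  haveI h3n : (lcsT ↥S 3).Normal := lcsT_normal _
  haveI h2n : (lcsT ↥S 2).Normal := lcsT_normal _
  haveI h1n : (lcsT ↥S 1).Normal := lcsT_normal _
  obtain ⟨t₀, ht₀, ht₀'⟩ := SetLike.exists_of_lt (lt_of_le_of_ne (bigC_step H).1 fun h => by
    have := card_bigC H
    rw [← h, card_lcs5 H le_rfl (by omega)] at this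
    exact absurd (Nat.pow_right_injective hp.1.two_le this) (by omega))
  have hψC : ∀ {t}, t ∈ bigC S → ψ t ∈ bigC S := fun ht => map_twoStep ψ ht
  have hu0 : (u : ZMod p) ≠ 0 := by
    intro h
    refine hs ?_
    have hsp : s ^ u ∈ bigC S := by
      obtain ⟨d, rfl⟩ := (ZMod.natCast_eq_zero_iff _ _).1 h
      rw [pow_mul]
      refine Subgroup.pow_mem _ ?_ d
      have hidx : (bigC S).index = p := by
        have h1 := (bigC S).card_mul_index
        rw [card_bigC H, H.card, pow_succ p 4] at h1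
        exact Nat.eq_of_mul_eq_mul_left (pow_pos hp.1.pos 4) h1
      haveI := CfsgLib.PGroups.normal_of_isCoatom hP
        (CfsgLib.PGroups.isCoatom_of_index_eq_prime hidx)
      have h2 := pow_card_eq_one' (x := QuotientGroup.mk' (bigC S) s)
      rw [← Subgroup.index_eq_card, hidx, ← map_pow] at h2
      exact (QuotientGroup.eq_one_iff _).1 h2
    have h1 : ψ s ∈ bigC S := by
      have := mul_mem hsp hu
      rwa [mul_inv_cancel_left] at this
    have h2 := map_twoStep ψ⁻¹ h1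
    rwa [MulAut.inv_apply_self] at h2
  -- one element in each layer
  have hstepL : ∀ {i}, 1 ≤ i → i ≤ 3 → ∀ {b}, b ∈ lcsT ↥S i → b ∉ lcsT ↥S (i + 1) →
      ∃ w : ℕ, (b ^ w)⁻¹ * ψ b ∈ lcsT ↥S (i + 1) := fun {i} hi hi' {b} hb hb' =>
    mem_step' hP (lcs5_le H hi hi').1 (lcs5_le H hi hi').2 hb hb' (map_lcs ψ hb)
  have hC1 : ∀ {a y}, a ∈ bigC S → y ∈ bigC S → ⁅a, y⁆ ∈ lcsT ↥S 2 := by
    intro a y ha hy
    obtain ⟨hle', hc'⟩ := bigC_step H
    set π := QuotientGroup.mk' (lcsT ↥S 2)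
    obtain ⟨i, hi⟩ := mem_step' hP hle' hc' ht₀ ht₀' ha
    obtain ⟨j, hj⟩ := mem_step' hP hle' hc' ht₀ ht₀' hy
    have hL : ∀ {a}, a ∈ lcsT ↥S 1 → ∀ y, Commute (π a) (π y) := fun ha y => by
      rw [← commutatorElement_eq_one_iff_commute, ← map_commutatorElement]
      exact (QuotientGroup.eq_one_iff _).2 (comm_succ ha y)
    refine (QuotientGroup.eq_one_iff _).1 ?_
    show π ⁅a, y⁆ = 1
    rw [map_commutatorElement, commutatorElement_eq_one_iff_commute,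
      ← mul_inv_cancel_left (t₀ ^ i) a, ← mul_inv_cancel_left (t₀ ^ j) y, map_mul π (t₀ ^ i),
      map_mul π (t₀ ^ j), map_pow, map_pow]
    exact ((Commute.pow_pow_self _ i j).mul_right ((hL hj t₀).pow_right i).symm).mul_left
      (((hL hi t₀).pow_right j).mul_right (hL hi _))
  have hus : ∀ {a}, a ∈ bigC S → ⁅a, (s ^ (u : ℤ))⁻¹ * ψ s⁆ ∈ lcsT ↥S 2 := fun ha =>
    hC1 ha (by rwa [zpow_natCast])
  -- first step
  set l1 := ⁅t₀, s⁆ with hl1def
  have hl1 : l1 ∈ lcsT ↥S 1 := by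
    show l1 ∈ Subgroup.lowerCentralSeries (⊤ : Subgroup ↥S) 1
    rw [Subgroup.top_lowerCentralSeries_one, commutator_def]
    exact Subgroup.commutator_mem_commutator (Subgroup.mem_top _) (Subgroup.mem_top _)
  have hl1' : l1 ∉ lcsT ↥S 2 := comm_C_s H hs ht₀ ht₀'
  obtain ⟨v, hv⟩ := mem_step' hP (bigC_step H).1 (bigC_step H).2 ht₀ ht₀' (hψC ht₀)
  have e1 : (l1 ^ ((v : ℤ) * u))⁻¹ * ψ l1 ∈ lcsT ↥S 2 := by
    rw [hl1def, map_commutatorElement]
    refine comm_pow_congr _ ?_ (hus ht₀) (comm_succ hl1 _) (comm_succ hl1 _)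
    rw [zpow_natCast]
    exact comm_succ hv _
  -- second step
  set l2 := ⁅l1, s⁆ with hl2def
  have hl2 : l2 ∈ lcsT ↥S 2 := comm_succ hl1 s
  have hl2' : l2 ∉ lcsT ↥S 3 := comm_L1_s H hs hl1 hl1'
  have e2 : (l2 ^ ((v : ℤ) * u * u))⁻¹ * ψ l2 ∈ lcsT ↥S 3 := by
    rw [hl2def, map_commutatorElement]
    refine comm_pow_congr _ (comm_succ e1 _) ?_ (comm_succ hl2 _) (comm_succ hl2 _)
    rw [zpow_natCast]
    exact mem_twoStepCentralizer.1 hu l1 hl1
  -- last step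
  set z := ⁅l2, s⁆ with hzdef
  have hz : z ∈ lcsT ↥S 3 := comm_succ hl2 s
  have hz1 : z ≠ 1 := comm_L2_s H hs hl2 hl2'
  have h4 : ∀ {a}, a ∈ lcsT ↥S 3 → ∀ y, ⁅a, y⁆ ∈ (⊥ : Subgroup ↥S) := fun ha y =>
    Subgroup.mem_bot.2 (lcs5_one H (comm_succ ha y))
  have hgen : Subgroup.zpowers z = lcsT ↥S 3 :=
    zpowers_eq_of_card (by rw [card_lcs5 H (by omega) (by omega), pow_one]) hz hz1
  have e3 : (z ^ ((v : ℤ) * u * u * u))⁻¹ * ψ z ∈ (⊥ : Subgroup ↥S) := by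
    rw [hzdef, map_commutatorElement]
    refine comm_pow_congr _ (h4 e2 _) ?_ (h4 hz _) (h4 hz _)
    rw [zpow_natCast]
    exact Subgroup.mem_bot.2 (bigC_centralises H hu hl2)
  -- the second expression for the weight of the centre
  have hy : ⁅l1, t₀⁆ ∈ lcsT ↥S 3 := mem_twoStepCentralizer.1 ht₀ l1 hl1
  have hy1 : ⁅l1, t₀⁆ ≠ 1 := comm_L1_C H hH ht₀ ht₀' hl1 hl1'
  have e4 : (⁅l1, t₀⁆ ^ ((v : ℤ) * u * v))⁻¹ * ψ ⁅l1, t₀⁆ ∈ (⊥ : Subgroup ↥S) := by
    rw [map_commutatorElement]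
    refine comm_pow_congr _ (Subgroup.mem_bot.2 (bigC_centralises H (hψC ht₀) e1)) ?_ (h4 hy _)
      (h4 hy _)
    rw [zpow_natCast]
    exact Subgroup.mem_bot.2 (lcs_one_comm H hl1 hv)
  have hψL3 : ∀ y ∈ lcsT ↥S 3, ψ y = y ^ ((v : ℤ) * u * u * u) := by
    intro y hy
    obtain ⟨k, rfl⟩ := Subgroup.mem_zpowers_iff.1 (hgen.ge hy)
    rw [map_zpow, ← inv_mul_eq_one.1 (Subgroup.mem_bot.1 e3), ← zpow_mul, ← zpow_mul, mul_comm]
  have heq := exp_congr hP ⊥ (fun h => hy1 (Subgroup.mem_bot.1 h)) e4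
    (Subgroup.mem_bot.2 (inv_mul_eq_one.2 (hψL3 _ hy).symm))
  push_cast at heq
  have hv0 : (v : ZMod p) ≠ 0 := by
    intro h
    obtain ⟨d, rfl⟩ := (ZMod.natCast_eq_zero_iff _ _).1 h
    refine ht₀' ?_
    have htp : t₀ ^ p ∈ lcsT ↥S 1 := by
      have := MC.pow_mem H (j := 1) le_rfl hp.1.one_lt (by omega) t₀
      exact this
    have h2 := map_lcs ψ⁻¹ (i := 1) (y := ψ t₀) (by
      have h3 := mul_mem ((lcsT ↥S 1).pow_mem htp d) hv
      rwa [← pow_mul, mul_inv_cancel_left] at h3)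
    rwa [MulAut.inv_apply_self] at h2
  have hvu : (v : ZMod p) = u ^ 2 := by
    refine mul_left_cancel₀ (mul_ne_zero hv0 hu0) ?_
    linear_combination heq
  have hz5 : ∀ y ∈ lcsT ↥S 3, ψ y = y ^ (u ^ 5) := fun y hy => by
    have hyp : y ^ p = 1 := pow_card_one (by rw [card_lcs5 H (by omega) (by omega), pow_one]) hy
    rw [hψL3 y hy, ← zpow_natCast y (u ^ 5)]
    obtain ⟨d, hd⟩ := (ZMod.intCast_eq_intCast_iff_dvd_sub ((v : ℤ) * u * u * u) ((u ^ 5 : ℕ) : ℤ) p).1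
      (by push_cast; rw [hvu]; ring)
    rw [show ((u ^ 5 : ℕ) : ℤ) = (v : ℤ) * u * u * u + p * d by linarith, zpow_add, zpow_mul y (p : ℤ),
      zpow_natCast, hyp, one_zpow, mul_one]
  refine ⟨hu0, fun t ht ht' => ?_, fun y hy hy' => ?_, hz5⟩
  · obtain ⟨v', hv'⟩ := mem_step' hP (bigC_step H).1 (bigC_step H).2 ht ht' (hψC ht)
    have hl : ⁅t, s⁆ ∈ lcsT ↥S 1 := by
      show _ ∈ Subgroup.lowerCentralSeries (⊤ : Subgroup ↥S) 1
      rw [Subgroup.top_lowerCentralSeries_one, commutator_def]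
      exact Subgroup.commutator_mem_commutator (Subgroup.mem_top _) (Subgroup.mem_top _)
    -- compare the weights of `t` and `t₀` through the quotient
    obtain ⟨j, hj⟩ := mem_step' hP (bigC_step H).1 (bigC_step H).2 ht₀ ht₀' ht
    set π := QuotientGroup.mk' (lcsT ↥S 1)
    have hπψ : ∀ {a b : ↥S}, π a = π b → π (ψ a) = π (ψ b) := fun h => by
      rw [hπeq] at h ⊢
      rw [← map_inv, ← map_mul]
      exact map_lcs ψ h
    have h1 : π t = π t₀ ^ j := by rw [← map_pow]; exact ((QuotientGroup.eq).2 hj).symm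
    have h2 : π (ψ t₀) = π t₀ ^ v := by rw [← map_pow]; exact ((QuotientGroup.eq).2 hv).symm
    refine (QuotientGroup.eq).1 ?_
    show π (t ^ u ^ 2) = π (ψ t)
    rw [hπψ (a := t) (b := t₀ ^ j) (by rw [map_pow, h1]), map_pow, map_pow, map_pow, h2, h1,
      ← pow_mul, ← pow_mul]
    have htp : π t₀ ^ p = 1 := by
      rw [← map_pow]
      exact (QuotientGroup.eq_one_iff _).2 (MC.pow_mem H (j := 1) le_rfl hp.1.one_lt (by omega) t₀)
    refine pow_eq_pow_iff_modEq.2 (Nat.ModEq.of_dvd (orderOf_dvd_of_pow_eq_one htp) ?_)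
    rw [← ZMod.natCast_eq_natCast_iff]
    push_cast
    rw [hvu]
    ring
  · obtain ⟨w, hw⟩ := hstepL (i := 2) (by omega) (by omega) hy hy'
    have hy2 : ⁅y, s⁆ ∈ lcsT ↥S 3 := comm_succ hy s
    have e5 : (⁅y, s⁆ ^ ((w : ℤ) * u))⁻¹ * ψ ⁅y, s⁆ ∈ (⊥ : Subgroup ↥S) := by
      rw [map_commutatorElement]
      refine comm_pow_congr _ ?_ ?_ (h4 hy2 _) (h4 hy2 _)
      · rw [zpow_natCast]; exact h4 hw _
      · rw [zpow_natCast]; exact Subgroup.mem_bot.2 (bigC_centralises H hu hy)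
    have h5 := exp_congr hP ⊥ (fun h => comm_L2_s H hs hy hy' (Subgroup.mem_bot.1 h)) e5
      (b := ((u ^ 5 : ℕ) : ℤ))
      (Subgroup.mem_bot.2 (inv_mul_eq_one.2 (by rw [zpow_natCast, hz5 _ hy2])))
    push_cast at h5
    have h6 : (w : ZMod p) = ((u ^ 4 : ℕ) : ZMod p) := by
      refine mul_right_cancel₀ hu0 ?_
      push_cast
      linear_combination h5
    have hyp : y ^ p ∈ lcsT ↥S 3 := by
      set π := QuotientGroup.mk' (lcsT ↥S 3)
      have hc : Nat.card ((lcsT ↥S 2).map π) = p := layer_map_card H (i := 2) (by omega) (by omega)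
      have := pow_card_eq_one' (x := (⟨π y, y, hy, rfl⟩ : (lcsT ↥S 2).map π))
      rw [hc] at this
      refine (QuotientGroup.eq_one_iff _).1 ?_
      show π (y ^ p) = 1
      rw [map_pow]
      exact congrArg Subtype.val this
    set π := QuotientGroup.mk' (lcsT ↥S 3)
    refine (QuotientGroup.eq).1 ?_
    show π (y ^ u ^ 4) = π (ψ y)
    rw [show π (ψ y) = π (y ^ w) from ((QuotientGroup.eq).2 hw).symm]
    rw [map_pow, map_pow]
    refine pow_eq_pow_iff_modEq.2 (Nat.ModEq.of_dvd (orderOf_dvd_of_pow_eq_one ?_)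
      ((ZMod.natCast_eq_natCast_iff _ _ _).1 h6.symm))
    rw [← map_pow]
    exact (QuotientGroup.eq_one_iff _).2 hyp
where
  hπeq {N : Subgroup ↥S} [N.Normal] {a b : ↥S} :
      QuotientGroup.mk' N a = QuotientGroup.mk' N b ↔ a⁻¹ * b ∈ N := QuotientGroup.eq

end CfsgLib.Fusion.OrderFive
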