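import Mathlib
import Cfsg.Agent.Lib.Fusion.OrderFiveTorus
import Cfsg.Agent.Lib.Fusion.TransvectionStrong

/-!
# The frame of an elementary group of order `p ^ 3` with a moved transvection
-/

set_option autoImplicit false
set_option linter.unusedSectionVars false
set_option linter.style.haveILetI false

namespace CfsgLib.Fusion.OrderFive

open Subgroup CfsgLib.Fusion.TransvectionStrong

universe u

variable {V : Type u} [CommGroup V] [Finite V] {p : ℕ} [hp : Fact p.Prime]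
  {A : Subgroup (MulAut V)} {P : Sylow p A} {H : Subgroup A} {U₁ U₂ : Subgroup V}

/-- A line of `U₁`, a fixed vector in the axis and a complement carrying all of `SL(2, p)`; every
element of the group is a product of one in this copy and one normalising the transvections. -/
theorem exists_frame_three (hexp : ∀ x : V, x ^ p = 1)
    (hH : ∀ x a : A, a ∈ (P : Subgroup A) → a ≠ 1 → x * a * x⁻¹ ∈ (P : Subgroup A) → x ∈ H)
    (hne : H ≠ ⊤) {a : A} (T : IsTv p (a : MulAut V) U₁ U₂) (haP : a ∈ (P : Subgroup A))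
    (hP : Nat.card (P : Subgroup A) ≤ p) :
    ∃ z ∈ U₁, z ≠ 1 ∧ ∃ c ∈ U₂, c ∉ U₁ ∧ ∃ w : V, w ∉ U₂ ∧
      (∀ a' b' c' d' : ZMod p, a' * d' - b' * c' = 1 → ∃ β ∈ A, β c = c ∧
        β z = z ^ a'.val * w ^ c'.val ∧ β w = z ^ b'.val * w ^ d'.val) ∧
      (∀ α : A, ∃ β : A, (β : MulAut V) c = c ∧ (β : MulAut V) z ∈ zpowers z ⊔ zpowers w ∧
        (β : MulAut V) w ∈ zpowers z ⊔ zpowers w ∧
        (β⁻¹ * α) * a * (β⁻¹ * α)⁻¹ ∈ (P : Subgroup A) ∧
        (β⁻¹ * α)⁻¹ * a * (β⁻¹ * α) ∈ (P : Subgroup A)) := by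
  obtain ⟨g, -, ⟨z, hz, hgz⟩, ⟨x', hx', hx'U⟩⟩ := exists_move hexp hH hne T haP
  have hz1 : z ≠ 1 := fun h => hgz (by rw [h, map_one]; exact one_mem _)
  have hzgen : zpowers z = U₁ := eq_of_le_of_card_ge (zpowers_le.2 hz) (by
    rw [T.card₁, Nat.card_zpowers, orderOf_eq_prime (hexp z) hz1])
  set w := (g : MulAut V) z with hw
  set b : MulAut V := (g : MulAut V) * (a : MulAut V) * (g : MulAut V)⁻¹ with hb
  have hbA : b ∈ A := mul_mem (mul_mem g.2 a.2) (inv_mem g.2)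
  have hbdis : ∀ x, dis b x = (g : MulAut V) (dis (a : MulAut V) ((g : MulAut V)⁻¹ x)) :=
    fun x => dis_conj _ _ x
  have hbmem : ∀ x, dis b x ∈ zpowers w := by
    intro x
    obtain ⟨k, hk⟩ := mem_zpowers_iff.1 (hzgen.ge (T.mem ((g : MulAut V)⁻¹ x)))
    exact mem_zpowers_iff.2 ⟨k, by rw [hbdis, ← hk, map_zpow]⟩
  have hbw : dis b w = 1 := by
    rw [hbdis, hw, MulAut.inv_apply_self, T.fix z (T.le hz), map_one]
  have hbz : dis b z ≠ 1 := by
    intro h
    rw [hbdis, map_eq_one_iff _ (g : MulAut V).injective, ← MonoidHom.mem_ker, T.ker_eq] at h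
    obtain ⟨k, rfl⟩ := mem_zpowers_iff.1 (hzgen.symm ▸ hx')
    rw [map_zpow] at hx'U
    exact hx'U (zpow_mem h k)
  have haw : dis (a : MulAut V) w ≠ 1 := fun h => hgz (T.ker_eq ▸ h)
  -- a fixed vector
  obtain ⟨c, hc, hc1, hcb⟩ : ∃ c ∈ U₂, c ≠ 1 ∧ dis b c = 1 := by
    let φ : U₂ →* zpowers w := ((dis b).comp U₂.subtype).codRestrict _ fun x => hbmem x
    have h1 := φ.ker.card_mul_index
    rw [Subgroup.index_ker, T.card₂] at h1
    by_contra! h
    have hbot : φ.ker = ⊥ := (eq_bot_iff_forall _).2 fun x hx => by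
      by_contra hx1
      exact h x x.2 (fun e => hx1 (Subtype.ext e)) (congrArg Subtype.val hx)
    rw [hbot, Subgroup.card_bot, one_mul] at h1
    have h2 := card_le_card_group φ.range
    rw [h1, Nat.card_zpowers] at h2
    have h3 : orderOf w ≤ p := Nat.le_of_dvd hp.1.pos (orderOf_dvd_of_pow_eq_one (hexp w))
    exact absurd (h2.trans h3) (not_le.2 (lt_self_pow₀ hp.1.one_lt one_lt_two))
  have hca : dis (a : MulAut V) c = 1 := T.fix c hc
  have hcU1 : c ∉ U₁ := by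
    intro h
    obtain ⟨k, rfl⟩ := mem_zpowers_iff.1 (hzgen.symm ▸ h)
    rw [map_zpow] at hcb
    have hd := orderOf_dvd_iff_zpow_eq_one.2 hcb
    rw [orderOf_eq_prime (hexp _) hbz] at hd
    refine hc1 ?_
    rw [← orderOf_dvd_iff_zpow_eq_one, orderOf_eq_prime (hexp z) hz1]
    exact hd
  set D : Subgroup V := zpowers z ⊔ zpowers w with hD
  have hzD : z ∈ D := mem_sup_left (mem_zpowers z)
  have hwD : w ∈ D := mem_sup_right (mem_zpowers w)
  have hmap : ∀ {β : MulAut V}, β z ∈ D → β w ∈ D → ∀ x ∈ D, β x ∈ D := by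
    intro β h1 h2 x hx
    have hle : D ≤ D.comap β.toMonoidHom := sup_le (zpowers_le.2 h1) (zpowers_le.2 h2)
    exact hle hx
  have haD : ∀ x ∈ D, (a : MulAut V) x ∈ D := by
    refine hmap ?_ ?_
    · rw [apply_eq_self (T.fix z (T.le hz))]; exact hzD
    · rw [apply_eq]; exact mul_mem hwD (mem_sup_left (hzgen.ge (T.mem w)))
  have hbD : ∀ x ∈ D, b x ∈ D := by
    refine hmap ?_ ?_
    · rw [apply_eq]; exact mul_mem hzD (mem_sup_right (hbmem z))
    · rw [apply_eq_self hbw]; exact hwD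
  have hcD : c ∉ D := by
    intro h
    obtain ⟨_, ⟨i, rfl⟩, _, ⟨j, rfl⟩, hij⟩ := mem_sup.1 h
    simp only at hij
    have h2 := hcb
    rw [← hij, map_mul, map_zpow, map_zpow, hbw, one_zpow, mul_one] at h2
    have hd := orderOf_dvd_iff_zpow_eq_one.2 h2
    rw [orderOf_eq_prime (hexp _) hbz, ← orderOf_eq_prime (hexp z) hz1,
      orderOf_dvd_iff_zpow_eq_one] at hd
    rw [hd, one_mul] at hij
    rw [← hij, map_zpow] at hca
    have hd2 := orderOf_dvd_iff_zpow_eq_one.2 hca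
    rw [orderOf_eq_prime (hexp _) haw] at hd2
    refine hc1 ?_
    rw [← hij, ← orderOf_dvd_iff_zpow_eq_one]
    exact dvd_trans (Int.natCast_dvd_natCast.2 (orderOf_dvd_of_pow_eq_one (hexp w))) hd2
  have hwz : w ∉ zpowers z := fun h => hgz (T.le (hzgen ▸ h))
  obtain ⟨hDc, htop⟩ : Nat.card D = p ^ 2 ∧ ∀ x, x ∈ D ⊔ zpowers c := by
    obtain ⟨k, hk, hk'⟩ := (Nat.dvd_prime_pow hp.1).1 (T.card ▸ card_subgroup_dvd_card D)
    obtain ⟨l, hl, hl'⟩ := (Nat.dvd_prime_pow hp.1).1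
      (T.card ▸ card_subgroup_dvd_card (D ⊔ zpowers c))
    have h1 : Nat.card U₁ < Nat.card D := by
      refine lt_of_le_of_ne (card_le_of_le (hzgen ▸ le_sup_left)) fun h => hwz ?_
      rw [hzgen, eq_of_le_of_card_ge (hzgen ▸ le_sup_left : U₁ ≤ D) h.ge]
      exact hwD
    have h2 : Nat.card D < Nat.card ↥(D ⊔ zpowers c) := by
      refine lt_of_le_of_ne (card_le_of_le le_sup_left) fun h => hcD ?_
      rw [eq_of_le_of_card_ge le_sup_left h.ge]
      exact mem_sup_right (mem_zpowers c)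
    rw [hk', T.card₁] at h1
    conv_lhs at h1 => rw [← pow_one p]
    rw [Nat.pow_lt_pow_iff_right hp.1.one_lt] at h1
    rw [hk', hl', Nat.pow_lt_pow_iff_right hp.1.one_lt] at h2
    have h3 : D ⊔ zpowers c = ⊤ := eq_top_of_card_eq _ (by rw [hl', T.card, show l = 3 by omega])
    exact ⟨by rw [hk', show k = 2 by omega], fun x => h3 ▸ mem_top x⟩
  let A' : Subgroup (MulAut D) :=
    { carrier := {α | ∃ β ∈ A, β c = c ∧ ∀ x : D, ((α x : D) : V) = β x}
      one_mem' := ⟨1, one_mem _, rfl, fun _ => rfl⟩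
      mul_mem' := by
        rintro α α' ⟨β, hβ, hβc, h⟩ ⟨β', hβ', hβc', h'⟩
        exact ⟨β * β', mul_mem hβ hβ', by rw [MulAut.mul_apply, hβc', hβc], fun x => by
          rw [MulAut.mul_apply, MulAut.mul_apply, h, h']⟩
      inv_mem' := by
        rintro α ⟨β, hβ, hβc, h⟩
        refine ⟨β⁻¹, inv_mem hβ, ?_, fun x => ?_⟩
        · conv_lhs => rw [← hβc]
          exact MulAut.inv_apply_self _ _ _
        · refine β.injective ?_
          rw [← h, MulAut.apply_inv_self, MulAut.apply_inv_self] }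
  have hres : ∀ (β : MulAut V), (∀ x ∈ D, β x ∈ D) →
      ∃ α : MulAut D, ∀ x : D, ((α x : D) : V) = β x := by
    intro β hβ
    refine ⟨MulEquiv.ofBijective ((β.toMonoidHom.comp D.subtype).codRestrict D fun x => hβ x x.2)
      (Function.Injective.bijective_of_nat_card_le ?_ le_rfl), fun x => rfl⟩
    exact fun x y h => Subtype.ext (β.injective (congrArg Subtype.val h))
  obtain ⟨τ, hτ⟩ := hres _ haD
  obtain ⟨σ, hσ⟩ := hres _ hbD
  set e₀ : D := ⟨z, hzD⟩
  set f₀ : D := ⟨w, hwD⟩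
  obtain ⟨k, hk⟩ := mem_powers_iff_mem_zpowers.2 (hzgen.ge (T.mem w))
  obtain ⟨m, hm⟩ := mem_powers_iff_mem_zpowers.2 (hbmem z)
  simp only at hk hm
  have hmat : ∀ a' b' c' d' : ZMod p, a' * d' - b' * c' = 1 → ∃ β ∈ A, β c = c ∧
      β z = z ^ a'.val * w ^ c'.val ∧ β w = z ^ b'.val * w ^ d'.val := by
    intro a' b' c' d' hdet
    obtain ⟨α, ⟨β, hβ, hβc, hαβ⟩, h1, h2⟩ := exists_matrix hDc A'
        (e := e₀) (f := f₀) (Subtype.ext (hexp z)) (Subtype.ext (hexp w))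
        (fun h => hz1 (congrArg Subtype.val h))
        (fun h => by
          obtain ⟨i, hi⟩ := mem_zpowers_iff.1 h
          exact hwz (mem_zpowers_iff.2 ⟨i, congrArg Subtype.val hi⟩))
        (τ := τ) (σ := σ) ⟨_, a.2, apply_eq_self hca, hτ⟩ ⟨_, hbA, apply_eq_self hcb, hσ⟩
        (k := k) (m := m)
        (Subtype.ext (by rw [hτ]; exact apply_eq_self (T.fix z (T.le hz))))
        (Subtype.ext (by
          rw [hτ]
          show (a : MulAut V) w = z ^ k * w
          rw [hk, mul_comm, ← apply_eq]))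
        (fun hd => haw (by
          rw [← hk]
          obtain ⟨j, rfl⟩ := hd
          rw [pow_mul, hexp, one_pow]))
        (Subtype.ext (by rw [hσ]; exact apply_eq_self hbw))
        (Subtype.ext (by
          rw [hσ]
          show b z = z * w ^ m
          rw [hm, ← apply_eq]))
        (fun hd => hbz (by
          rw [← hm]
          obtain ⟨j, rfl⟩ := hd
          rw [pow_mul, hexp, one_pow])) a' b' c' d' hdet
    refine ⟨β, hβ, hβc, ?_, ?_⟩
    · rw [← hαβ e₀, h1]; rfl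
    · rw [← hαβ f₀, h2]; rfl
  refine ⟨z, hz, hz1, c, hc, hcU1, w, hgz, hmat, fun α => ?_⟩
  -- a point of the plane sent into the axis
  set M := U₂.map (α : MulAut V).toMonoidHom with hM
  have hMc : Nat.card M = p ^ 2 := by
    rw [hM, Subgroup.card_map_of_injective (α : MulAut V).injective, T.card₂]
  obtain ⟨y, hyD, hyM, hy1⟩ : ∃ y ∈ D, y ∈ M ∧ y ≠ 1 := by
    by_contra! h
    let μ : D × M → V := fun q => (q.1 : V) * q.2
    have hinj : Function.Injective μ := by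
      rintro ⟨d, m⟩ ⟨d', m'⟩ hq
      change (d : V) * m = d' * m' at hq
      have h1 : (d' : V)⁻¹ * d = m' * (m : V)⁻¹ := by
        rw [eq_mul_inv_iff_mul_eq, mul_assoc, hq, inv_mul_cancel_left]
      have h2 := h _ (mul_mem (inv_mem d'.2) d.2) (h1 ▸ mul_mem m'.2 (inv_mem m.2))
      rw [inv_mul_eq_one] at h2
      exact Prod.ext (Subtype.ext h2.symm) (Subtype.ext (mul_left_cancel (h2 ▸ hq)))
    have h1 := Nat.card_le_card_of_injective μ hinj
    rw [Nat.card_prod, hDc, hMc, T.card, ← pow_add, Nat.pow_le_pow_iff_right hp.1.one_lt] at h1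
    omega
  obtain ⟨u, hu, hαu⟩ := hyM
  obtain ⟨_, ⟨i, rfl⟩, _, ⟨j, rfl⟩, hij⟩ := mem_sup.1 hyD
  simp only at hij
  have hval : ∀ {v : V}, ∀ i : ℤ, v ^ (i : ZMod p).val = v ^ i := fun {v} i => by
    rw [← zpow_natCast]
    obtain ⟨k, hk⟩ := (ZMod.intCast_eq_intCast_iff_dvd_sub (((i : ZMod p).val : ℤ)) i p).1 (by simp)
    conv_rhs => rw [show i = ((i : ZMod p).val : ℤ) + p * k by omega]
    rw [zpow_add, zpow_mul, zpow_natCast v p, hexp, one_zpow, mul_one]
  obtain ⟨β, hβA, hβc, hβz, hβw⟩ : ∃ β ∈ A, β c = c ∧ β z = y ∧ β w ∈ D := by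
    have hin : ∀ b' d' : ZMod p, z ^ b'.val * w ^ d'.val ∈ D := fun b' d' =>
      mul_mem (pow_mem hzD _) (pow_mem hwD _)
    by_cases h0 : (i : ZMod p) = 0
    · have hj : (j : ZMod p) ≠ 0 := fun h => hy1 (by
        rw [← hij, ← hval i, ← hval j, h0, h, ZMod.val_zero, pow_zero, pow_zero, mul_one])
      obtain ⟨β, h1, h2, h3, h4⟩ := hmat 0 (-(j : ZMod p)⁻¹) (j : ZMod p) 0 (by
        rw [zero_mul, neg_mul, inv_mul_cancel₀ hj, zero_sub, neg_neg])
      refine ⟨β, h1, h2, ?_, h4 ▸ hin _ _⟩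
      rw [h3, ← h0, hval, hval, hij]
    · obtain ⟨β, h1, h2, h3, h4⟩ := hmat (i : ZMod p) 0 (j : ZMod p) (i : ZMod p)⁻¹ (by
        rw [mul_inv_cancel₀ h0, zero_mul, sub_zero])
      exact ⟨β, h1, h2, by rw [h3, hval, hval, hij], h4 ▸ hin _ _⟩
  have ha1 : a ≠ 1 := fun h => T.ne (by rw [h]; rfl)
  have hPz : zpowers a = (P : Subgroup A) := by
    refine eq_of_le_of_card_ge (zpowers_le.2 haP) (hP.trans ?_)
    rw [Nat.card_zpowers, orderOf_eq_prime (Subtype.ext (T.pow hexp)) ha1]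
  have hH' : ∀ x b : A, b ∈ (P : Subgroup A) → b ≠ 1 → x * b * x⁻¹ ∈ (P : Subgroup A) →
      x ∈ normalizer ((P : Subgroup A) : Set A) := by
    intro x b hb hb1 hxb
    have hbz : zpowers b = (P : Subgroup A) := by
      refine eq_of_le_of_card_ge (zpowers_le.2 hb) (hP.trans ?_)
      rw [Nat.card_zpowers]
      refine le_of_eq (orderOf_eq_prime ?_ hb1).symm
      obtain ⟨k, rfl⟩ := mem_zpowers_iff.1 (hPz.ge hb)
      rw [← zpow_natCast, ← zpow_mul, mul_comm, zpow_mul, zpow_natCast,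
        show a ^ p = 1 from Subtype.ext (T.pow hexp), one_zpow]
    refine mem_normalizer_iff_map_conj_eq.2 (eq_of_le_of_card_ge ?_ (by
      rw [Subgroup.card_map_of_injective (MulAut.conj x).injective]))
    rw [← hbz, MonoidHom.map_zpowers]
    exact zpowers_le.2 (hbz.symm ▸ hxb)
  set β' : A := ⟨β, hβA⟩
  have hmem : α⁻¹ * β' ∈ normalizer ((P : Subgroup A) : Set A) := by
    refine mem_of_map_le hexp hH' T haP _ fun x hx => ?_
    obtain ⟨k, rfl⟩ := mem_zpowers_iff.1 (hzgen.symm ▸ hx)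
    rw [map_zpow]
    refine zpow_mem ?_ k
    show (α : MulAut V)⁻¹ (β z) ∈ U₂
    rw [hβz, ← hαu]
    show (α : MulAut V)⁻¹ ((α : MulAut V) u) ∈ U₂
    rwa [MulAut.inv_apply_self]
  refine ⟨β', hβc, ?_, hβw, ?_, ?_⟩
  · show β z ∈ _
    rw [hβz, ← hij]
    exact hij ▸ hyD
  · have h := (mem_normalizer_iff.1 (inv_mem hmem) a).1 haP
    rw [mul_inv_rev, inv_inv] at h
    rw [mul_inv_rev, inv_inv]
    exact h
  · have h := (mem_normalizer_iff.1 hmem a).1 haP
    rw [mul_inv_rev, inv_inv] at h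
    rw [mul_inv_rev, inv_inv]
    exact h

end CfsgLib.Fusion.OrderFive
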