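import Mathlib
import Cfsg.Agent.Lib.Fusion.OrderFiveBase
import Cfsg.Agent.Lib.PGroups.SmallCharSeriesFour

/-!
# Normal subgroups between normal subgroups, and groups of order `p ^ 4` with centre of order `p ^ 2`
-/

set_option autoImplicit false
set_option linter.unusedSectionVars false
set_option linter.style.haveILetI false

namespace CfsgLib.Fusion.OrderFive

open Cfsg Cfsg.FusionSystem CfsgLib.Fusion
open scoped commutatorElement

universe u

variable {p : ℕ} [hp : Fact p.Prime]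

/-- A normal subgroup one step above `A` inside `B`. -/
theorem exists_between {Ω : Type u} [Group Ω] {S : Subgroup Ω} [Finite S] (hS : IsPGroup p S)
    {A B : Subgroup Ω} (hBS : B ≤ S) (hAB : A < B) (hA : ∀ g ∈ S, ∀ x ∈ A, cj g x ∈ A)
    (hB : ∀ g ∈ S, ∀ x ∈ B, cj g x ∈ B) :
    ∃ J : Subgroup Ω, A ≤ J ∧ J ≤ B ∧ Nat.card J = p * Nat.card A ∧
      ∀ g ∈ S, ∀ x ∈ J, cj g x ∈ J := by
  set A' := A.subgroupOf S with hA'
  set B' := B.subgroupOf S with hB'
  haveI : A'.Normal := ⟨fun a ha g => hA g g.2 _ ha⟩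
  haveI hBn : B'.Normal := ⟨fun a ha g => hB g g.2 _ ha⟩
  set π := QuotientGroup.mk' A' with hπ
  haveI : (B'.map π).Normal := hBn.map π (QuotientGroup.mk'_surjective _)
  have hne : B'.map π ≠ ⊥ := fun h => by
    obtain ⟨b, hb, hbA⟩ := SetLike.exists_of_lt hAB
    have h1 : π ⟨b, hBS hb⟩ ∈ B'.map π := ⟨_, hb, rfl⟩
    rw [h, Subgroup.mem_bot] at h1
    exact hbA ((QuotientGroup.eq_one_iff (⟨b, hBS hb⟩ : S)).1 h1)
  have hQp : IsPGroup p (S ⧸ A') := hS.to_quotient _
  have h1 := CfsgLib.PGroups.inf_center_ne_bot hQp hne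
  obtain ⟨k, hk⟩ := CfsgLib.PGroups.card_subgroup_eq_pow hQp (B'.map π ⊓ Subgroup.center _)
  have hk0 : k ≠ 0 := fun h => h1 (by rwa [h, pow_zero, Subgroup.card_eq_one] at hk)
  obtain ⟨c, hc⟩ := exists_prime_orderOf_dvd_card'
    (G := ↥(B'.map π ⊓ Subgroup.center (S ⧸ A'))) p (hk ▸ dvd_pow_self p hk0)
  have hcB : (c : S ⧸ A') ∈ B'.map π := c.2.1
  have hcZ : (c : S ⧸ A') ∈ Subgroup.center _ := c.2.2
  set J' := (Subgroup.zpowers (c : S ⧸ A')).comap π with hJ'
  haveI : (Subgroup.zpowers (c : S ⧸ A')).Normal := ⟨fun x hx g => by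
    rwa [Subgroup.mem_center_iff.1 (Subgroup.zpowers_le.2 hcZ hx) g, mul_inv_cancel_right]⟩
  have hJn : J'.Normal := Subgroup.Normal.comap inferInstance π
  refine ⟨J'.map S.subtype, fun a ha => ?_, ?_, ?_, fun g hg x hx => ?_⟩
  · refine ⟨⟨a, hBS (hAB.le ha)⟩, ?_, rfl⟩
    show π _ ∈ Subgroup.zpowers _
    rw [show π ⟨a, hBS (hAB.le ha)⟩ = 1 from (QuotientGroup.eq_one_iff _).2 ha]
    exact one_mem _
  · rintro _ ⟨x, hx, rfl⟩
    obtain ⟨b, hb, hbx⟩ := Subgroup.zpowers_le.2 hcB hx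
    have h2 : (b : Ω)⁻¹ * x ∈ A :=
      (QuotientGroup.eq (a := b) (b := x)).1 hbx
    have h3 := B.mul_mem (show (b : Ω) ∈ B from hb) (hAB.le h2)
    rw [mul_inv_cancel_left] at h3
    exact h3
  · rw [Subgroup.card_map_of_injective S.subtype_injective]
    have hker : A' ≤ J' := fun a ha => by
      show π a ∈ Subgroup.zpowers _
      rw [show π a = 1 from (QuotientGroup.eq_one_iff _).2 ha]
      exact one_mem _
    have h3 := Subgroup.relIndex_mul_relIndex ⊥ A' J' bot_le hker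
    rw [Subgroup.relIndex_bot_left, Subgroup.relIndex_bot_left] at h3
    have h4 : A'.relIndex J' = p := by
      have := Subgroup.relIndex_comap (⊥ : Subgroup (S ⧸ A')) π J'
      rw [MonoidHom.comap_bot, QuotientGroup.ker_mk', Subgroup.relIndex_bot_left,
        Subgroup.map_comap_eq_self_of_surjective (QuotientGroup.mk'_surjective _)] at this
      rw [this, Nat.card_zpowers, Subgroup.orderOf_coe, hc]
    rw [← h3, h4, hA', Nat.card_congr (Subgroup.subgroupOfEquivOfLe (hAB.le.trans hBS)).toEquiv,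
      mul_comm]
  · obtain ⟨y, hy, rfl⟩ := hx
    exact ⟨⟨g, hg⟩ * y * (⟨g, hg⟩ : S)⁻¹, hJn.conj_mem y hy _, rfl⟩

/-- A nonabelian group of order `p ^ 4` with centre of order `p ^ 2`. -/
theorem order_four_facts {G : Type u} [Group G] [Finite G] (hG : Nat.card G = p ^ 4)
    (hna : ¬ IsMulCommutative G) (hZ : Nat.card (Subgroup.center G) = p ^ 2) :
    Nat.card (commutator G) = p ∧ commutator G ≤ Subgroup.center G ∧
      ∀ x : G, x ^ p ∈ Subgroup.center G := by
  have hP := IsPGroup.of_card hG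
  set Z := Subgroup.center G
  have hidx : Nat.card (G ⧸ Z) = p ^ 2 := by
    have h := Z.card_eq_card_quotient_mul_card_subgroup
    rw [hG, hZ, show p ^ 4 = p ^ 2 * p ^ 2 by rw [← pow_add]] at h
    exact (Nat.eq_of_mul_eq_mul_right (pow_pos hp.1.pos 2) h).symm
  have hQ := IsPGroup.isMulCommutative_of_card_eq_prime_sq (p := p) hidx
  have hcen : ∀ x y : G, ⁅x, y⁆ ∈ Z := fun x y => by
    rw [← QuotientGroup.eq_one_iff]
    show QuotientGroup.mk' Z ⁅x, y⁆ = 1
    rw [map_commutatorElement, commutatorElement_eq_one_iff_mul_comm]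
    exact hQ.is_comm.comm _ _
  -- commutation with a fixed element
  have hhom : ∀ x y z : G, ⁅x, y * z⁆ = ⁅x, y⁆ * ⁅x, z⁆ := fun x y z => by
    calc ⁅x, y * z⁆ = ⁅x, y⁆ * (y * ⁅x, z⁆ * y⁻¹) := by simp only [commutatorElement_def]; group
      _ = _ := by rw [Subgroup.mem_center_iff.1 (hcen x z) y, mul_inv_cancel_right]
  let φ : G → G →* G := fun x => MonoidHom.mk' (fun y => ⁅x, y⁆) (hhom x)
  have hord : ∀ x y : G, ⁅x, y⁆ ^ p = 1 := by
    intro x y
    by_cases hx : x ∈ Z
    · rw [commutatorElement_eq_one_iff_mul_comm.2 (Subgroup.mem_center_iff.1 hx y).symm, one_pow]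
    have hA := CfsgLib.PGroups.SmallSeries.card_sup_center hG hna hZ hx
    have hle : Subgroup.zpowers x ⊔ Z ≤ (φ x).ker := sup_le
      (Subgroup.zpowers_le.2 (commutatorElement_self x))
      fun z hz => commutatorElement_eq_one_iff_mul_comm.2 (Subgroup.mem_center_iff.1 hz x)
    have h1 := (φ x).ker.card_mul_index
    rw [Subgroup.index_ker, hG] at h1
    have h2 := Subgroup.card_le_of_le hle
    rw [hA] at h2
    obtain ⟨i, hi⟩ := CfsgLib.PGroups.card_subgroup_eq_pow hP (φ x).range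
    have h3 : i ≤ 1 := by
      have h4 : p ^ 3 * p ^ i ≤ p ^ 4 := h1 ▸ Nat.mul_le_mul h2 hi.ge
      rw [← pow_add, Nat.pow_le_pow_iff_right hp.1.one_lt] at h4
      omega
    have h5 := pow_card_eq_one' (x := (⟨⁅x, y⁆, y, rfl⟩ : (φ x).range))
    rw [hi] at h5
    rcases (show i = 0 ∨ i = 1 by omega) with rfl | rfl
    · have h6 : ⁅x, y⁆ = 1 := by simpa using congrArg Subtype.val h5
      rw [h6, one_pow]
    · simpa using congrArg Subtype.val h5
  have hpow : ∀ x : G, x ^ p ∈ Z := fun x => Subgroup.mem_center_iff.2 fun y =>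
    commutatorElement_eq_one_iff_mul_comm.1 (by
      show φ y (x ^ p) = 1
      rw [map_pow]
      exact hord y x)
  obtain ⟨x, y, hxy⟩ : ∃ x y : G, ⁅x, y⁆ ≠ 1 := by
    by_contra! h
    exact hna ⟨⟨fun a b => commutatorElement_eq_one_iff_mul_comm.1 (h a b)⟩⟩
  set C := Subgroup.zpowers ⁅x, y⁆ with hC
  have hCZ : C ≤ Z := Subgroup.zpowers_le.2 (hcen x y)
  haveI : C.Normal := ⟨fun z hz g => by
    rwa [Subgroup.mem_center_iff.1 (hCZ hz) g, mul_inv_cancel_right]⟩
  have hxZ : x ∉ Z := fun h =>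
    hxy (commutatorElement_eq_one_iff_mul_comm.2 (Subgroup.mem_center_iff.1 h y).symm)
  set A := Subgroup.zpowers x ⊔ Z
  have hA := CfsgLib.PGroups.SmallSeries.card_sup_center hG hna hZ hxZ
  have hyA : y ∉ A := fun h => hxy (by
    have hle : A ≤ (φ x).ker := sup_le (Subgroup.zpowers_le.2 (commutatorElement_self x))
      fun z hz => commutatorElement_eq_one_iff_mul_comm.2 (Subgroup.mem_center_iff.1 hz x)
    exact hle h)
  set π := QuotientGroup.mk' C
  let Cx : Subgroup G := (Subgroup.centralizer ({π x} : Set (G ⧸ C))).comap π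
  let Cy : Subgroup G := (Subgroup.centralizer ({π y} : Set (G ⧸ C))).comap π
  have hxyπ : π x * π y = π y * π x := commutatorElement_eq_one_iff_mul_comm.1 (by
    rw [← map_commutatorElement]
    exact (QuotientGroup.eq_one_iff _).2 (Subgroup.mem_zpowers _))
  have hgen : A ⊔ Subgroup.zpowers y = ⊤ :=
    eq_sup_of_step (S := (⊤ : Subgroup G)) (hP.to_subgroup ⊤) le_top le_top
      (by rw [Subgroup.card_top, hG, hA, ← pow_succ']) (Subgroup.mem_top y) hyA
  have hmemZ : ∀ {w : G ⧸ C}, ∀ z ∈ Z, π z * w = w * π z := fun {w} z hz => by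
    obtain ⟨w, rfl⟩ := QuotientGroup.mk'_surjective C w
    rw [← map_mul, ← map_mul, (Subgroup.mem_center_iff.1 hz w).symm]
  have hCx : Cx = ⊤ := by
    refine eq_top_iff.2 (hgen.ge.trans (sup_le (sup_le (Subgroup.zpowers_le.2 ?_) fun z hz => ?_)
      (Subgroup.zpowers_le.2 ?_))) <;> simp only [Cx, Subgroup.mem_comap,
      Subgroup.mem_centralizer_singleton_iff]
    exacts [hmemZ z hz, hxyπ.symm]
  have hCy : Cy = ⊤ := by
    refine eq_top_iff.2 (hgen.ge.trans (sup_le (sup_le (Subgroup.zpowers_le.2 ?_) fun z hz => ?_)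
      (Subgroup.zpowers_le.2 ?_))) <;> simp only [Cy, Subgroup.mem_comap,
      Subgroup.mem_centralizer_singleton_iff]
    exacts [hxyπ, hmemZ z hz]
  have hall : ∀ a b : G, ⁅a, b⁆ ∈ C := fun a b => by
    have hle : (⊤ : Subgroup G) ≤ (Subgroup.centralizer ({π b} : Set (G ⧸ C))).comap π := by
      refine hgen.ge.trans (sup_le (sup_le (Subgroup.zpowers_le.2 ?_) fun z hz => ?_)
        (Subgroup.zpowers_le.2 ?_)) <;> simp only [Subgroup.mem_comap,
        Subgroup.mem_centralizer_singleton_iff]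
      · exact (Subgroup.mem_centralizer_singleton_iff.1 (hCx.ge (Subgroup.mem_top b))).symm
      · exact hmemZ z hz
      · exact (Subgroup.mem_centralizer_singleton_iff.1 (hCy.ge (Subgroup.mem_top b))).symm
    rw [← QuotientGroup.eq_one_iff]
    show π ⁅a, b⁆ = 1
    rw [map_commutatorElement, commutatorElement_eq_one_iff_mul_comm]
    exact Subgroup.mem_centralizer_singleton_iff.1 (hle (Subgroup.mem_top a))
  have heq : commutator G = C := by
    refine le_antisymm ?_ (Subgroup.zpowers_le.2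
      (Subgroup.commutator_mem_commutator (Subgroup.mem_top x) (Subgroup.mem_top y)))
    rw [commutator_def, Subgroup.commutator_le]
    exact fun a _ b _ => hall a b
  refine ⟨?_, heq.le.trans hCZ, hpow⟩
  rw [heq, Nat.card_zpowers, orderOf_eq_prime (hord x y) hxy]

end CfsgLib.Fusion.OrderFive
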