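import Mathlib
import Cfsg.Agent.Lib.Fusion.OrderFiveClassFour

/-!
# A presentation of some groups of order `p ^ 5` and their automorphisms
-/

set_option autoImplicit false
set_option linter.unusedSectionVars false
set_option linter.style.haveILetI false

namespace CfsgLib.Fusion.OrderFive

open CfsgLib.PGroups.TwoStepConst CfsgLib.PGroups.Pearl CfsgLib.FgsC.MaxClassSection
open CfsgLib.PGroups
open scoped commutatorElement

universe u

variable {G : Type u} [Group G] [Finite G] {p : ℕ} [hp : Fact p.Prime]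

theorem zmod_three : ∀ a u k : ZMod 3, a ≠ 0 → u ≠ 0 → u * k = a * (a * u) → k = 1 := by
  decide

/-- In a finite `p`-group a step of index at most `p` swallows `p`-th powers. -/
theorem pow_step (hG : IsPGroup p G) {A B : Subgroup G} (hAB : A ≤ B)
    (hcard : Nat.card B ≤ p * Nat.card A) {x : G} (hx : x ∈ B) : x ^ p ∈ A := by
  by_cases hxA : x ∈ A
  · exact A.pow_mem hxA p
  set A' := A.subgroupOf B with hA'
  have hBp : IsPGroup p B := hG.to_subgroup B
  obtain ⟨i, hi⟩ := hBp.index A'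
  have h1 := A'.card_mul_index
  rw [Nat.card_congr (Subgroup.subgroupOfEquivOfLe hAB).toEquiv] at h1
  have hne : A'.index ≠ 1 := fun h =>
    hxA (Subgroup.subgroupOf_eq_top.1 (Subgroup.index_eq_one.1 h) hx)
  have hle : A'.index ≤ p := Nat.le_of_mul_le_mul_left
    (h1.le.trans (hcard.trans (le_of_eq (mul_comm _ _)))) Nat.card_pos
  have hidx : A'.index = p := by
    rw [hi] at hle hne ⊢
    rcases i with _ | _ | i
    · exact absurd (pow_zero p) hne
    · exact pow_one p
    · exfalso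
      have h2 : p ^ 2 ≤ p ^ (i + 1 + 1) := Nat.pow_le_pow_right hp.1.pos (by omega)
      have h3 := hp.1.two_le
      nlinarith
  haveI : A'.Normal := CfsgLib.PGroups.normal_of_isCoatom hBp
    (CfsgLib.PGroups.isCoatom_of_index_eq_prime hidx)
  have h2 := pow_card_eq_one' (x := QuotientGroup.mk' A' ⟨x, hx⟩)
  rw [← Subgroup.index_eq_card, hidx, ← map_pow] at h2
  exact (QuotientGroup.eq_one_iff ((⟨x, hx⟩ : B) ^ p)).1 h2

/-- The data. -/
structure Tri (p : ℕ) (Z₀ : Subgroup G) (e s l : G) : Prop where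
  card : Nat.card G = p ^ 5
  cardZ : Nat.card Z₀ = p
  cen : Z₀ ≤ Subgroup.center G
  r_not : ⁅e, s⁆ ∉ Z₀
  r_comm : ∀ y, ⁅⁅e, s⁆, y⁆ ∈ Z₀
  sr : ⁅s, ⁅e, s⁆⁆ = 1
  er : ⁅e, ⁅e, s⁆⁆ ≠ 1
  el : ⁅e, l⁆ = 1
  sl_mem : ⁅s, l⁆ ∈ Z₀
  sl : ⁅s, l⁆ ≠ 1
  rl : ⁅⁅e, s⁆, l⁆ = 1
  gen : Subgroup.closure {e, s, l} ⊔ (Subgroup.zpowers ⁅e, s⁆ ⊔ Z₀) = ⊤

/-- The derived group. -/
def derivedR (Z₀ : Subgroup G) (e s : G) : Subgroup G := Subgroup.zpowers ⁅e, s⁆ ⊔ Z₀

variable {Z₀ : Subgroup G} {e s l : G} (T : Tri p Z₀ e s l)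
include T

theorem Tri.normalZ : Z₀.Normal :=
  ⟨fun z hz g => by rwa [Subgroup.mem_center_iff.1 (T.cen hz) g, mul_inv_cancel_right]⟩

theorem Tri.comm_cen {z : G} (hz : z ∈ Z₀) (y : G) : ⁅z, y⁆ = 1 :=
  commutatorElement_eq_one_iff_mul_comm.2 (Subgroup.mem_center_iff.1 (T.cen hz) y).symm

/-- Elements commuting modulo `N` with the generators are central modulo `N`. -/
theorem Tri.central_mod (N : Subgroup G) [N.Normal] (hN : Z₀ ≤ N) {x : G} (he : ⁅x, e⁆ ∈ N)
    (hs : ⁅x, s⁆ ∈ N) (hl : ⁅x, l⁆ ∈ N) (hr : ⁅x, ⁅e, s⁆⁆ ∈ N) (y : G) : ⁅x, y⁆ ∈ N := by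
  set π := QuotientGroup.mk' N
  let C : Subgroup G := (Subgroup.centralizer ({π x} : Set (G ⧸ N))).comap π
  have hiff : ∀ {w : G}, w ∈ C ↔ ⁅x, w⁆ ∈ N := fun {w} => by
    rw [← QuotientGroup.eq_one_iff (N := N)]
    show π w ∈ Subgroup.centralizer _ ↔ π ⁅x, w⁆ = 1
    rw [Subgroup.mem_centralizer_singleton_iff, map_commutatorElement,
      commutatorElement_eq_one_iff_mul_comm]
    exact eq_comm
  have htop : C = ⊤ := by
    refine eq_top_iff.2 (T.gen.ge.trans (sup_le ((Subgroup.closure_le _).2 ?_) (sup_le ?_ ?_)))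
    · rintro w (rfl | rfl | rfl)
      exacts [hiff.2 he, hiff.2 hs, hiff.2 hl]
    · exact Subgroup.zpowers_le.2 (hiff.2 hr)
    · intro z hz
      refine hiff.2 (hN ?_)
      rw [← commutatorElement_inv, T.comm_cen hz x, inv_one]
      exact one_mem _
  exact hiff.1 (htop.ge (Subgroup.mem_top y))

theorem Tri.R_comm {x : G} (hx : x ∈ derivedR Z₀ e s) (y : G) : ⁅x, y⁆ ∈ Z₀ := by
  haveI := T.normalZ
  set π := QuotientGroup.mk' Z₀
  have hle : derivedR Z₀ e s ≤ (Subgroup.centralizer ({π y} : Set (G ⧸ Z₀))).comap π := by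
    refine sup_le (Subgroup.zpowers_le.2 ?_) fun z hz => ?_ <;>
      rw [Subgroup.mem_comap, Subgroup.mem_centralizer_singleton_iff,
        ← commutatorElement_eq_one_iff_mul_comm, ← map_commutatorElement]
    · exact (QuotientGroup.eq_one_iff _).2 (T.r_comm y)
    · exact (QuotientGroup.eq_one_iff _).2 (by rw [T.comm_cen hz]; exact one_mem _)
  have h := Subgroup.mem_centralizer_singleton_iff.1 (hle hx)
  rw [← QuotientGroup.eq_one_iff]
  show π ⁅x, y⁆ = 1
  rw [map_commutatorElement, commutatorElement_eq_one_iff_mul_comm]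
  exact h

theorem Tri.normalR : (derivedR Z₀ e s).Normal := ⟨fun x hx g => by
  have h1 : ⁅g, x⁆ ∈ derivedR Z₀ e s := by
    rw [← commutatorElement_inv]
    exact inv_mem (Subgroup.mem_sup_right (T.R_comm hx g))
  have := mul_mem h1 hx
  rwa [commutatorElement_def, inv_mul_cancel_right] at this⟩

theorem Tri.commutator_le : commutator G ≤ derivedR Z₀ e s := by
  haveI := T.normalR
  have hr : ∀ x, ⁅x, ⁅e, s⁆⁆ ∈ derivedR Z₀ e s := fun x => by
    rw [← commutatorElement_inv]
    exact inv_mem (Subgroup.mem_sup_right (T.r_comm x))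
  have hes : ⁅e, s⁆ ∈ derivedR Z₀ e s := Subgroup.mem_sup_left (Subgroup.mem_zpowers _)
  have hsl : ⁅s, l⁆ ∈ derivedR Z₀ e s := Subgroup.mem_sup_right T.sl_mem
  have hle : Z₀ ≤ derivedR Z₀ e s := le_sup_right
  have key : ∀ x : G, x = e ∨ x = s ∨ x = l → ∀ y, ⁅x, y⁆ ∈ derivedR Z₀ e s := by
    rintro x hx
    refine T.central_mod _ hle ?_ ?_ ?_ (hr x) <;> rcases hx with rfl | rfl | rfl
    · rw [commutatorElement_self]; exact one_mem _
    · rw [← commutatorElement_inv]; exact inv_mem hes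
    · rw [← commutatorElement_inv, T.el, inv_one]; exact one_mem _
    · exact hes
    · rw [commutatorElement_self]; exact one_mem _
    · rw [← commutatorElement_inv]; exact inv_mem hsl
    · rw [T.el]; exact one_mem _
    · exact hsl
    · rw [commutatorElement_self]; exact one_mem _
  rw [commutator_def, Subgroup.commutator_le]
  intro x _ y _
  refine T.central_mod _ hle ?_ ?_ ?_ (hr x) y <;> rw [← commutatorElement_inv]
  · exact inv_mem (key e (Or.inl rfl) x)
  · exact inv_mem (key s (Or.inr (Or.inl rfl)) x)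
  · exact inv_mem (key l (Or.inr (Or.inr rfl)) x)

theorem Tri.R_cent_s {x : G} (hx : x ∈ derivedR Z₀ e s) : ⁅s, x⁆ = 1 := by
  have hle : derivedR Z₀ e s ≤ Subgroup.centralizer ({s} : Set G) :=
    sup_le (Subgroup.zpowers_le.2 (Subgroup.mem_centralizer_singleton_iff.2
      (commutatorElement_eq_one_iff_mul_comm.1 T.sr).symm)) fun z hz =>
      Subgroup.mem_centralizer_singleton_iff.2 (Subgroup.mem_center_iff.1 (T.cen hz) s).symm
  exact commutatorElement_eq_one_iff_mul_comm.2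
    (Subgroup.mem_centralizer_singleton_iff.1 (hle hx)).symm

theorem Tri.R_cent_l {x : G} (hx : x ∈ derivedR Z₀ e s) : ⁅x, l⁆ = 1 := by
  have hle : derivedR Z₀ e s ≤ Subgroup.centralizer ({l} : Set G) :=
    sup_le (Subgroup.zpowers_le.2 (Subgroup.mem_centralizer_singleton_iff.2
      (commutatorElement_eq_one_iff_mul_comm.1 T.rl))) fun z hz =>
      Subgroup.mem_centralizer_singleton_iff.2 (Subgroup.mem_center_iff.1 (T.cen hz) l).symm
  exact commutatorElement_eq_one_iff_mul_comm.2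
    (Subgroup.mem_centralizer_singleton_iff.1 (hle hx))

theorem Tri.l_not : l ∉ derivedR Z₀ e s := fun h => T.sl (T.R_cent_s h)

theorem Tri.l_not_commutator : l ∉ commutator G := fun h => T.l_not (T.commutator_le h)

/-- Such a group is not of maximal class. -/
theorem Tri.not_mc : ¬ MC G p 5 := by
  intro H
  have hle : lcsT G 2 ≤ Z₀ := by
    show Subgroup.lowerCentralSeries (⊤ : Subgroup G) 2 ≤ Z₀
    rw [Subgroup.lowerCentralSeries_succ, Subgroup.top_lowerCentralSeries_one,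
      Subgroup.commutator_le]
    exact fun x hx y _ => T.R_comm (T.commutator_le hx) y
  have h := Subgroup.card_le_of_le hle
  rw [H.card_lcs (i := 2) (by omega) (by omega), T.cardZ] at h
  exact absurd h (not_le.2 (lt_self_pow₀ hp.1.one_lt (by norm_num)))

/-- An element fixed modulo the derived group by every automorphism. -/
theorem Tri.fixed (h3 : p = 3) (ψ : MulAut G) : ψ l * l⁻¹ ∈ commutator G := by
  haveI := T.normalZ
  haveI := T.normalR
  have hP : IsPGroup p G := IsPGroup.of_card T.card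
  set r := ⁅e, s⁆ with hrdef
  set R := derivedR Z₀ e s with hR
  have hrR : r ∈ R := Subgroup.mem_sup_left (Subgroup.mem_zpowers _)
  have hZR : Z₀ ≤ R := le_sup_right
  have hz1 : ⁅e, r⁆ ∈ Z₀ := by
    rw [← commutatorElement_inv]; exact inv_mem (T.r_comm e)
  have hgenZ : Subgroup.zpowers ⁅e, r⁆ = Z₀ := zpowers_eq_of_card T.cardZ hz1 T.er
  have hRcomm : R ≤ commutator G := by
    have h : ∀ a b : G, ⁅a, b⁆ ∈ commutator G := fun a b =>
      Subgroup.commutator_mem_commutator (Subgroup.mem_top a) (Subgroup.mem_top b)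
    exact sup_le (Subgroup.zpowers_le.2 (h e s)) (hgenZ ▸ Subgroup.zpowers_le.2 (h e r))
  have hψR : ∀ {x}, x ∈ R → ψ x ∈ R := fun {x} hx => by
    refine T.commutator_le ?_
    have hmap : (commutator G).map ψ.toMonoidHom ≤ commutator G := by
      rw [commutator_def, Subgroup.map_commutator]
      exact Subgroup.commutator_mono le_top le_top
    exact hmap ⟨x, hRcomm hx, rfl⟩
  have hψZ : ∀ {z}, z ∈ Z₀ → ψ z ∈ Z₀ := fun {z} hz => by
    obtain ⟨k, rfl⟩ := Subgroup.mem_zpowers_iff.1 (hgenZ.ge hz)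
    rw [map_zpow, map_commutatorElement]
    refine zpow_mem ?_ k
    rw [← commutatorElement_inv]
    exact inv_mem (T.R_comm (hψR hrR) _)
  -- the second centre
  let Z2 : Subgroup G := (Subgroup.center (G ⧸ Z₀)).comap (QuotientGroup.mk' Z₀)
  have hZ2 : ∀ {x}, x ∈ Z2 ↔ ∀ y, ⁅x, y⁆ ∈ Z₀ := by
    intro x
    constructor
    · intro hx y
      rw [← QuotientGroup.eq_one_iff]
      show QuotientGroup.mk' Z₀ ⁅x, y⁆ = 1
      rw [map_commutatorElement, commutatorElement_eq_one_iff_mul_comm]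
      exact (Subgroup.mem_center_iff.1 hx _).symm
    · intro hx
      refine Subgroup.mem_center_iff.2 fun q => ?_
      obtain ⟨y, rfl⟩ := QuotientGroup.mk'_surjective Z₀ q
      refine (commutatorElement_eq_one_iff_mul_comm.1 ?_).symm
      rw [← map_commutatorElement]
      exact (QuotientGroup.eq_one_iff _).2 (hx y)
  have hlZ2 : l ∈ Z2 := hZ2.2 fun y => T.central_mod Z₀ le_rfl
    (by rw [← commutatorElement_inv, T.el, inv_one]; exact one_mem _)
    (by rw [← commutatorElement_inv]; exact inv_mem T.sl_mem)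
    (by rw [commutatorElement_self]; exact one_mem _)
    (by rw [← commutatorElement_inv, T.rl, inv_one]; exact one_mem _) y
  set M := R ⊔ Subgroup.zpowers l with hM
  have hMZ2 : M ≤ Z2 := sup_le (fun x hx => hZ2.2 (T.R_comm hx)) (Subgroup.zpowers_le.2 hlZ2)
  have hcardR : p ^ 2 ≤ Nat.card R := by
    obtain ⟨i, hi⟩ := card_subgroup_eq_pow hP R
    have h1 : Nat.card Z₀ < Nat.card R := lt_of_le_of_ne (Subgroup.card_le_of_le hZR) fun h =>
      T.r_not ((Subgroup.eq_of_le_of_card_ge hZR h.ge).ge hrR)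
    rw [T.cardZ, hi] at h1
    rw [hi]
    exact Nat.pow_le_pow_right hp.1.pos
      ((Nat.pow_lt_pow_iff_right hp.1.one_lt).1 ((pow_one p).trans_lt h1))
  have hgrow : ∀ {A B : Subgroup G} {k : ℕ}, A ≤ B → p ^ k ≤ Nat.card A → ∀ {b}, b ∈ B → b ∉ A →
      p ^ (k + 1) ≤ Nat.card B := by
    intro A B k hAB hA b hb hbA
    obtain ⟨i, hi⟩ := card_subgroup_eq_pow hP B
    have h1 : Nat.card A < Nat.card B := lt_of_le_of_ne (Subgroup.card_le_of_le hAB) fun h =>
      hbA ((Subgroup.eq_of_le_of_card_ge hAB h.ge).ge hb)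
    rw [hi] at h1 ⊢
    exact Nat.pow_le_pow_right hp.1.pos
      ((Nat.pow_lt_pow_iff_right hp.1.one_lt).1 (hA.trans_lt h1))
  have hlM : l ∈ M := Subgroup.mem_sup_right (Subgroup.mem_zpowers l)
  have hM3 : p ^ 3 ≤ Nat.card M := hgrow le_sup_left hcardR hlM T.l_not
  set C := M ⊔ Subgroup.zpowers s with hC
  have hsC : s ∈ C := Subgroup.mem_sup_right (Subgroup.mem_zpowers s)
  have hMC : M ≤ C := le_sup_left
  have hCcent : ∀ {x}, x ∈ C → ∀ y ∈ R, ⁅x, y⁆ = 1 := by
    intro x hx y hy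
    have hle : C ≤ Subgroup.centralizer ({y} : Set G) := by
      refine sup_le (sup_le (fun w hw => ?_) (Subgroup.zpowers_le.2 ?_))
        (Subgroup.zpowers_le.2 ?_) <;> rw [Subgroup.mem_centralizer_singleton_iff]
      · have hle' : R ≤ Subgroup.centralizer ({w} : Set G) := by
          refine sup_le (Subgroup.zpowers_le.2 (Subgroup.mem_centralizer_singleton_iff.2 ?_))
            fun z hz => Subgroup.mem_centralizer_singleton_iff.2
              (Subgroup.mem_center_iff.1 (T.cen hz) w).symm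
          have hle'' : R ≤ Subgroup.centralizer ({r} : Set G) := by
            refine sup_le (Subgroup.zpowers_le.2 (Subgroup.mem_centralizer_singleton_iff.2 rfl))
              fun z hz => Subgroup.mem_centralizer_singleton_iff.2
                (Subgroup.mem_center_iff.1 (T.cen hz) r).symm
          exact (Subgroup.mem_centralizer_singleton_iff.1 (hle'' hw)).symm
        exact (Subgroup.mem_centralizer_singleton_iff.1 (hle' hy)).symm
      · exact (commutatorElement_eq_one_iff_mul_comm.1 (T.R_cent_l hy)).symm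
      · exact commutatorElement_eq_one_iff_mul_comm.1 (T.R_cent_s hy)
    exact commutatorElement_eq_one_iff_mul_comm.2
      (Subgroup.mem_centralizer_singleton_iff.1 (hle hx))
  have heC : e ∉ C := fun h => T.er (hCcent h r hrR)
  have hsM : s ∉ M := fun h => T.r_not (by
    rw [← commutatorElement_inv]
    exact inv_mem (hZ2.1 (hMZ2 h) e))
  have hC4 : p ^ 4 ≤ Nat.card C := hgrow hMC hM3 hsC hsM
  have hC4' : Nat.card C = p ^ 4 := by
    refine le_antisymm ?_ hC4
    obtain ⟨i, hi⟩ := card_subgroup_eq_pow hP C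
    have h1 : Nat.card C < Nat.card G := lt_of_le_of_ne (Subgroup.card_le_card_group _) fun h =>
      heC ((Subgroup.eq_top_of_card_eq C h).ge (Subgroup.mem_top e))
    rw [hi, T.card, Nat.pow_lt_pow_iff_right hp.1.one_lt] at h1
    rw [hi]
    exact Nat.pow_le_pow_right hp.1.pos (by omega)
  -- `M` is the second centre
  have hZ2M : Z2 = M := by
    refine (Subgroup.eq_of_le_of_card_ge hMZ2 ?_).symm
    have hes : s ∉ Z2 ⊔ Subgroup.zpowers e := by
      intro h
      have hle : Z2 ⊔ Subgroup.zpowers e ≤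
          (Subgroup.centralizer ({QuotientGroup.mk' Z₀ e} : Set (G ⧸ Z₀))).comap
            (QuotientGroup.mk' Z₀) := by
        refine sup_le (fun w hw => ?_) (Subgroup.zpowers_le.2 ?_) <;>
          rw [Subgroup.mem_comap, Subgroup.mem_centralizer_singleton_iff]
        exact (Subgroup.mem_center_iff.1 hw _).symm
      refine T.r_not ?_
      rw [← QuotientGroup.eq_one_iff]
      show QuotientGroup.mk' Z₀ ⁅e, s⁆ = 1
      rw [map_commutatorElement, commutatorElement_eq_one_iff_mul_comm]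
      exact (Subgroup.mem_centralizer_singleton_iff.1 (hle h)).symm
    have heZ : e ∉ Z2 := fun h => T.r_not (hZ2.1 h s)
    obtain ⟨i, hi⟩ := card_subgroup_eq_pow hP Z2
    have h1 := hgrow (B := Z2 ⊔ Subgroup.zpowers e) le_sup_left (le_of_eq hi.symm)
      (Subgroup.mem_sup_right (Subgroup.mem_zpowers e)) heZ
    have h2 := hgrow (B := (⊤ : Subgroup G)) le_top h1 (Subgroup.mem_top s) hes
    rw [Subgroup.card_top, T.card, Nat.pow_le_pow_iff_right hp.1.one_lt] at h2
    rw [hi]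
    exact (Nat.pow_le_pow_right hp.1.pos (show i ≤ 3 by omega)).trans hM3
  have hψM : ∀ {x}, x ∈ M → ∀ φ : MulAut G, (∀ {z}, z ∈ Z₀ → φ z ∈ Z₀) → φ x ∈ M := by
    intro x hx φ hφ
    rw [← hZ2M] at hx ⊢
    refine hZ2.2 fun y => ?_
    obtain ⟨y', rfl⟩ := φ.surjective y
    rw [← map_commutatorElement]
    exact hφ (hZ2.1 hx y')
  have hψC : ∀ {x}, x ∈ C → ψ x ∈ C := by
    intro x hx
    by_contra hcon
    refine T.er ?_
    -- everything centralises the image of `r`
    have hle : C ⊔ Subgroup.zpowers (ψ x) ≤ Subgroup.centralizer ({ψ r} : Set G) := by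
      refine sup_le (fun w hw => ?_) (Subgroup.zpowers_le.2 ?_) <;>
        rw [Subgroup.mem_centralizer_singleton_iff]
      · exact commutatorElement_eq_one_iff_mul_comm.1 (hCcent hw _ (hψR hrR))
      · rw [← map_mul, ← map_mul, commutatorElement_eq_one_iff_mul_comm.1 (hCcent hx r hrR)]
    have htop : C ⊔ Subgroup.zpowers (ψ x) = ⊤ := by
      refine Subgroup.eq_top_of_le_card _ ?_
      rw [T.card]
      exact hgrow le_sup_left hC4 (Subgroup.mem_sup_right (Subgroup.mem_zpowers _)) hcon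
    have h := Subgroup.mem_centralizer_singleton_iff.1 (hle (htop.ge (Subgroup.mem_top (ψ e))))
    rw [← map_mul, ← map_mul] at h
    exact commutatorElement_eq_one_iff_mul_comm.2 (ψ.injective h)
  -- exponents
  have hM3' : Nat.card M = p ^ 3 := by
    refine le_antisymm ?_ hM3
    obtain ⟨i, hi⟩ := card_subgroup_eq_pow hP M
    have h2 := hgrow hMC (le_of_eq hi.symm) hsC hsM
    rw [hC4', Nat.pow_le_pow_iff_right hp.1.one_lt] at h2
    rw [hi]
    exact Nat.pow_le_pow_right hp.1.pos (by omega)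
  have hstepM : Nat.card M ≤ p * Nat.card R := by
    rw [hM3', pow_succ' p 2]
    exact Nat.mul_le_mul_left _ hcardR
  have hstepC : Nat.card C ≤ p * Nat.card M := by rw [hC4', hM3', ← pow_succ']
  have hstepG : Nat.card (⊤ : Subgroup G) ≤ p * Nat.card C := by
    rw [Subgroup.card_top, T.card, hC4', ← pow_succ']
  obtain ⟨k, hk⟩ := mem_step' hP le_sup_left hstepM hlM T.l_not (hψM hlM ψ hψZ)
  obtain ⟨u, hu⟩ := mem_step' hP hMC hstepC hsC hsM (hψC hsC)
  obtain ⟨a, ha⟩ := mem_step' hP le_top hstepG (Subgroup.mem_top e) heC (Subgroup.mem_top (ψ e))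
  have hCC : ∀ {x y}, x ∈ C → y ∈ C → ⁅x, y⁆ ∈ Z₀ := by
    intro x y hx hy
    set π := QuotientGroup.mk' Z₀
    obtain ⟨i, hi⟩ := mem_step' hP hMC hstepC hsC hsM hx
    obtain ⟨j, hj⟩ := mem_step' hP hMC hstepC hsC hsM hy
    have hc : ∀ {w}, w ∈ M → ∀ y, Commute (π w) (π y) := fun hw y =>
      (Subgroup.mem_center_iff.1 (hMZ2 hw) (π y)).symm
    rw [← QuotientGroup.eq_one_iff]
    show π ⁅x, y⁆ = 1
    rw [map_commutatorElement, commutatorElement_eq_one_iff_commute,
      ← mul_inv_cancel_left (s ^ i) x, ← mul_inv_cancel_left (s ^ j) y, map_mul π (s ^ i),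
      map_mul π (s ^ j), map_pow, map_pow]
    exact ((Commute.pow_pow_self _ i j).mul_right ((hc hj s).pow_right i).symm).mul_left
      (((hc hi s).pow_right j).mul_right (hc hi _))
  -- the weight of `r`
  have er : (r ^ ((a : ℤ) * u))⁻¹ * ψ r ∈ Z₀ := by
    rw [hrdef, map_commutatorElement]
    refine comm_pow_congr _ ?_ ?_ (T.r_comm e) (T.r_comm s)
    · rw [zpow_natCast]; exact hCC ha (hψC hsC)
    · rw [zpow_natCast, ← commutatorElement_inv]
      exact inv_mem (hZ2.1 (hMZ2 hu) e)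
  have hbot : ∀ {z}, z ∈ Z₀ → ∀ y, ⁅z, y⁆ ∈ (⊥ : Subgroup G) := fun hz y =>
    Subgroup.mem_bot.2 (T.comm_cen hz y)
  have ez : (⁅e, r⁆ ^ ((a : ℤ) * (a * u)))⁻¹ * ψ ⁅e, r⁆ ∈ (⊥ : Subgroup G) := by
    rw [map_commutatorElement]
    refine comm_pow_congr _ ?_ ?_ (hbot hz1 _) (hbot hz1 _)
    · rw [zpow_natCast]; exact Subgroup.mem_bot.2 (hCcent ha _ (hψR hrR))
    · rw [← commutatorElement_inv]
      exact inv_mem (hbot er e)
  have es : (⁅s, l⁆ ^ ((u : ℤ) * k))⁻¹ * ψ ⁅s, l⁆ ∈ (⊥ : Subgroup G) := by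
    rw [map_commutatorElement]
    refine comm_pow_congr _ ?_ ?_ (hbot T.sl_mem _) (hbot T.sl_mem _)
    · rw [zpow_natCast]
      refine Subgroup.mem_bot.2 ?_
      obtain ⟨i, hi⟩ := mem_step' hP le_sup_left hstepM hlM T.l_not hu
      obtain ⟨j, hj⟩ := mem_step' hP le_sup_left hstepM hlM T.l_not (hψM hlM ψ hψZ)
      have hc : ∀ {w}, w ∈ R → Commute w l := fun hw =>
        commutatorElement_eq_one_iff_commute.1 (T.R_cent_l hw)
      rw [commutatorElement_eq_one_iff_commute, ← mul_inv_cancel_left (l ^ i) ((s ^ u)⁻¹ * ψ s),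
        ← mul_inv_cancel_left (l ^ j) (ψ l)]
      exact ((Commute.pow_pow_self _ i j).mul_right ((hc hj).pow_right i).symm).mul_left
        (((hc hi).pow_right j).mul_right (commutatorElement_eq_one_iff_commute.1
          (hCcent (hMC (Subgroup.mem_sup_left hi)) _ hj)))
    · rw [zpow_natCast]
      exact Subgroup.mem_bot.2 (T.R_cent_s hk)
  obtain ⟨c, hc⟩ := Subgroup.mem_zpowers_iff.1 (hgenZ.ge T.sl_mem)
  have es' : (⁅s, l⁆ ^ ((a : ℤ) * (a * u)))⁻¹ * ψ ⁅s, l⁆ ∈ (⊥ : Subgroup G) := by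
    rw [← hc, map_zpow, ← inv_mul_eq_one.1 (Subgroup.mem_bot.1 ez), ← zpow_mul, ← zpow_mul,
      mul_comm c, inv_mul_cancel]
    exact one_mem _
  have heq := exp_congr hP ⊥ (fun h => T.sl (Subgroup.mem_bot.1 h)) es es'
  push_cast at heq
  have hu0 : (u : ZMod p) ≠ 0 := by
    intro h
    obtain ⟨d, rfl⟩ := (ZMod.natCast_eq_zero_iff _ _).1 h
    have h1 : ψ s ∈ M := by
      have := mul_mem (M.pow_mem (pow_step hP hMC hstepC hsC) d) hu
      rwa [← pow_mul, mul_inv_cancel_left] at this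
    have h2 := hψM h1 ψ⁻¹ fun {z} hz => by
      have hbij := Subgroup.eq_of_le_of_card_ge (H := Z₀.map ψ.toMonoidHom) (K := Z₀)
        (by rintro _ ⟨w, hw, rfl⟩; exact hψZ hw)
        (by rw [Subgroup.card_map_of_injective ψ.injective])
      obtain ⟨w, hw, rfl⟩ := hbij.ge hz
      show ψ⁻¹ (ψ w) ∈ Z₀
      rwa [MulAut.inv_apply_self]
    rw [MulAut.inv_apply_self] at h2
    exact hsM h2
  have ha0 : (a : ZMod p) ≠ 0 := by
    intro h
    obtain ⟨d, rfl⟩ := (ZMod.natCast_eq_zero_iff _ _).1 h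
    have h1 : ψ e ∈ C := by
      have := mul_mem (C.pow_mem (pow_step hP le_top hstepG (Subgroup.mem_top e)) d) ha
      rwa [← pow_mul, mul_inv_cancel_left] at this
    refine heC ?_
    have hbij := Subgroup.eq_of_le_of_card_ge (H := C.map ψ.toMonoidHom) (K := C)
      (by rintro _ ⟨w, hw, rfl⟩; exact hψC hw)
      (by rw [Subgroup.card_map_of_injective ψ.injective])
    obtain ⟨w, hw, hwe⟩ := hbij.ge h1
    exact ψ.injective hwe ▸ hw
  subst h3
  have hk1 : (k : ZMod 3) = 1 := zmod_three _ _ _ ha0 hu0 heq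
  refine hRcomm ?_
  have hlk : (l ^ k) * l⁻¹ ∈ R := by
    have h := (ZMod.natCast_eq_natCast_iff' k 1 3).1 (by simpa using hk1)
    obtain ⟨d, hd⟩ : ∃ d, k = 3 * d + 1 := ⟨k / 3, by omega⟩
    rw [hd, pow_succ, pow_mul, mul_inv_cancel_right]
    exact R.pow_mem (pow_step hP le_sup_left hstepM hlM) d
  have h1 : ψ l * l⁻¹ = (l ^ k * ((l ^ k)⁻¹ * ψ l) * (l ^ k)⁻¹) * (l ^ k * l⁻¹) := by group
  rw [h1]
  exact mul_mem (Subgroup.Normal.conj_mem inferInstance _ hk _) hlk

end CfsgLib.Fusion.OrderFive
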