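import Mathlib
import Cfsg.Agent.Lib.Fusion.OrderFiveFlag
import Cfsg.Agent.Lib.Fusion.OrderFiveTriple

/-!
# Essential subgroups of order `p ^ 4`
-/

set_option autoImplicit false
set_option linter.unusedSectionVars false
set_option linter.style.haveILetI false
set_option maxHeartbeats 1000000

namespace CfsgLib.Fusion.OrderFive

open Cfsg Cfsg.FusionSystem CfsgLib.Fusion
open scoped commutatorElement

universe u

variable {Ω : Type u} [Group Ω] {S : Subgroup Ω} [Finite S] {p : ℕ} [hp : Fact p.Prime]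
  {F : FusionSystem S}

theorem comm_mem_of_move {H : Type*} [Group H] {B : Subgroup H} {x g : H}
    (hx : x⁻¹ * (g * x * g⁻¹) ∈ B) (hn : ∀ b ∈ B, x * b * x⁻¹ ∈ B) : ⁅x, g⁆ ∈ B := by
  have h1 := hn _ (B.inv_mem hx)
  rw [commutatorElement_def]
  convert h1 using 1
  group

/-- Correcting a commutator by a power. -/
theorem exists_adjust {G : Type u} [Group G] {Z : Subgroup G} (hZ : Nat.card Z = p) {x y w : G}
    (h1 : ⁅x, y⁆ ∈ Z) (h1' : ⁅x, y⁆ ≠ 1) (h2 : ⁅x, w⁆ ∈ Z)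
    (hy : ∀ z ∈ Z, z * y = y * z) : ∃ k : ℕ, ⁅x, y ^ k * w⁆ = 1 := by
  have hgen := zpowers_eq_of_card hZ h1 h1'
  have hfin : IsOfFinOrder ⁅x, y⁆ :=
    isOfFinOrder_iff_pow_eq_one.2 ⟨p, hp.1.pos, pow_card_one hZ h1⟩
  obtain ⟨k, hk⟩ := hfin.mem_powers_iff_mem_zpowers.2 (hgen.ge (Z.inv_mem h2))
  simp only at hk
  refine ⟨k, ?_⟩
  have hpow : ∀ k : ℕ, ⁅x, y ^ k⁆ = ⁅x, y⁆ ^ k := by
    intro k
    induction k with
    | zero => simp [commutatorElement_def]
    | succ k ih =>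
      calc ⁅x, y ^ (k + 1)⁆ = ⁅x, y⁆ * (y * ⁅x, y ^ k⁆ * y⁻¹) := by
            rw [pow_succ']; simp only [commutatorElement_def]; group
        _ = _ := by rw [ih, ← hy _ (Z.pow_mem h1 k), mul_inv_cancel_right, pow_succ']
  calc ⁅x, y ^ k * w⁆ = ⁅x, y ^ k⁆ * (y ^ k * ⁅x, w⁆ * (y ^ k)⁻¹) := by
        simp only [commutatorElement_def]; group
    _ = 1 := by
      rw [← ((show Commute ⁅x, w⁆ y from hy _ h2).pow_right k).eq, mul_inv_cancel_right, hpow, hk,
        inv_mul_cancel]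

/-- An essential subgroup of order `p ^ 4` forces `p = 3` and the presentation; its automorphisms
move everything inside `tMoves`. -/
theorem normal_type (hH : Hyp F p) {E : Subgroup Ω} (hE : F.IsEssential p E)
    (hc : Nat.card E = p ^ 4) :
    p = 3 ∧ (∃ (Z₀ : Subgroup ↥S) (e s l : ↥S), Tri p Z₀ e s l) ∧
      F.autGroup E ≤ movesIn E (tMoves F) := by
  classical
  have hS := hH.pgroup
  have hES := hE.1.1
  have := finite_of_le hES
  have hna : ¬ IsMulCommutative ↥E := fun h => (hH.noAb E hES fun a ha b hb =>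
    congrArg Subtype.val (h.is_comm.comm (⟨a, ha⟩ : E) ⟨b, hb⟩)).ne hc
  have hnc := SmallEss.not_charLineSeries hS hH.sat hE
  have hZ2 : Nat.card (Subgroup.center ↥E) = p ^ 2 :=
    (CfsgLib.PGroups.SmallSeries.card_eq_sq_or (G := ↥E) hc hna).resolve_left fun h =>
      hnc (CfsgLib.PGroups.SmallSeries.series_of_card_center hc hna h)
  obtain ⟨hC1, hC2, hpow⟩ := order_four_facts (G := ↥E) hc hna hZ2
  set K := (Subgroup.center ↥E).map E.subtype with hKdef
  set Z0 := (commutator ↥E).map E.subtype with hZ0def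
  have hKE : K ≤ E := Subgroup.map_subtype_le _
  have hKc : Nat.card K = p ^ 2 := by
    rw [hKdef, Subgroup.card_map_of_injective E.subtype_injective, hZ2]
  have hZc : Nat.card Z0 = p := by
    rw [hZ0def, Subgroup.card_map_of_injective E.subtype_injective, hC1]
  have hZK : Z0 ≤ K := Subgroup.map_mono hC2
  have hKinv : ∀ α ∈ F.autGroup E, ∀ x ∈ K, autFun α x ∈ K := by
    rintro α - _ ⟨x, hx, rfl⟩
    exact ⟨α x, CfsgLib.PGroups.SmallSeries.center_invariant α hx, (autFun_coe α x).symm⟩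
  have hZinv : ∀ α ∈ F.autGroup E, ∀ x ∈ Z0, autFun α x ∈ Z0 := by
    rintro α - _ ⟨x, hx, rfl⟩
    exact ⟨α x, CfsgLib.PGroups.SmallSeries.commutator_invariant α hx, (autFun_coe α x).symm⟩
  have hKcom : ∀ x ∈ K, ∀ y ∈ E, x * y = y * x := by
    rintro _ ⟨x, hx, rfl⟩ y hy
    exact congrArg Subtype.val (Subgroup.mem_center_iff.1 hx (⟨y, hy⟩ : E)).symm
  have hKmem : ∀ {x}, x ∈ E → (∀ y ∈ E, x * y = y * x) → x ∈ K := fun {x} hx h =>
    ⟨⟨x, hx⟩, Subgroup.mem_center_iff.2 fun y => Subtype.ext (h y y.2).symm, rfl⟩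
  have hEcomm : ∀ x ∈ E, ∀ y ∈ E, ⁅x, y⁆ ∈ Z0 := fun x hx y hy =>
    ⟨⁅(⟨x, hx⟩ : E), ⟨y, hy⟩⁆,
      Subgroup.commutator_mem_commutator (Subgroup.mem_top _) (Subgroup.mem_top _), rfl⟩
  have hEpow : ∀ x ∈ E, x ^ p ∈ K := fun x hx => ⟨(⟨x, hx⟩ : E) ^ p, hpow _, rfl⟩
  -- `E` is normal
  have hEn : normalizerIn S E = S := by
    refine normalizerIn_eq_of_conj fun g hg x hx => ?_
    haveI : (E.subgroupOf S).Normal := by
      refine CfsgLib.PGroups.normal_of_isCoatom hS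
        (CfsgLib.PGroups.isCoatom_of_index_eq_prime (p := p) ?_)
      have h1 := (E.subgroupOf S).card_mul_index
      rw [Nat.card_congr (Subgroup.subgroupOfEquivOfLe hES).toEquiv, hc, hH.card,
        pow_succ p 4] at h1
      exact Nat.eq_of_mul_eq_mul_left (pow_pos hp.1.pos 4) h1
    exact Subgroup.Normal.conj_mem (inferInstance : (E.subgroupOf S).Normal) ⟨x, hES hx⟩ hx ⟨g, hg⟩
  have hgE' : ∀ g ∈ S, ∀ x ∈ E, cj g x ∈ E := fun g hg x hx =>
    cj_mem_normalizerIn (hEn.ge hg) hx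
  have hcjA : ∀ g ∈ S, ∃ α ∈ F.autGroup E, ∀ x ∈ E, autFun α x = cj g x := fun g hg => by
    obtain ⟨α, hα, h⟩ := exists_autInducedBy (P := E) hg (mem_normalizerIn.1 (hEn.ge hg)).2
    exact ⟨α, autInducedBy_le F hES hα, h⟩
  have hgK : ∀ g ∈ S, ∀ x ∈ K, cj g x ∈ K := fun g hg x hx => by
    obtain ⟨α, hα, h⟩ := hcjA g hg
    exact h x (hKE hx) ▸ hKinv α hα x hx
  have hgZ : ∀ g ∈ S, ∀ x ∈ Z0, cj g x ∈ Z0 := fun g hg x hx => by
    obtain ⟨α, hα, h⟩ := hcjA g hg
    exact h x (hKE (hZK hx)) ▸ hZinv α hα x hx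
  obtain ⟨J, hKJ, hJE, hJc', hgJ⟩ := exists_between hS hES
    (lt_of_le_of_ne hKE fun h => by
      rw [h, hc] at hKc
      exact absurd (Nat.pow_right_injective hp.1.two_le hKc) (by omega)) hgK hgE'
  have hJc : Nat.card J = p ^ 3 := by rw [hJc', hKc, ← pow_succ']
  obtain ⟨g, hg, hgE⟩ := SetLike.exists_of_lt (essential_lt hS hH.sat hE)
  obtain ⟨e, he, heK, f, hf, hfJ, hfg, Y, hY, hYW, hδ, hmove⟩ :=
    exists_frame (K := K) (J := J) hS hH.sat hE (n := 2) (fun i => if i = 0 then ⊥ else if i = 1 then Z0 else K)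
      rfl rfl
      (fun i hi => by
        interval_cases i
        · simp [hZc]
        · simp [hZK, hKc, hZc, sq])
      (fun α hα i hi x hx => by
        interval_cases i
        · simp only [if_true, Subgroup.mem_bot] at hx ⊢
          rw [hx]
          exact (isMor_autFun hES hα).map_one
        · simp at hx ⊢
          exact hZinv α hα x hx
        · simp at hx ⊢
          exact hKinv α hα x hx)
      hKJ hJE hJc' (by rw [hc, hJc, ← pow_succ']) hEpow
      (fun x hx y hy => hZK (hEcomm x hx y hy)) (hEn.ge hg) hgE (hgJ g hg)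
  have heE := hJE he
  have hfK : f ∉ K := fun h => hfJ (hKJ h)
  have hJgen : J = K ⊔ Subgroup.zpowers e :=
    (eq_sup_of_step hS (hJE.trans hES) hKJ hJc'.le he heK).symm
  have hEgen : E = J ⊔ Subgroup.zpowers f :=
    (eq_sup_of_step hS hES hJE (by rw [hc, hJc, ← pow_succ']) hf hfJ).symm
  have hJcom : ∀ x ∈ J, ∀ y ∈ J, x * y = y * x :=
    comm_of_step hS (hJE.trans hES) hKJ hJc'.le he heK
      (fun a ha b hb => hKcom a ha b (hKE hb)) fun a ha => hKcom a ha e heE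
  -- nothing outside `K` in `J` commutes with `f`
  have hfJc : ∀ x ∈ J, x ∉ K → f * x ≠ x * f := fun x hx hxK h => by
    refine hxK (hKmem (hJE hx) fun y hy => ?_)
    have hle : E ≤ Subgroup.centralizer ({x} : Set Ω) := hEgen.le.trans (sup_le
      (fun j hj => Subgroup.mem_centralizer_singleton_iff.2 (hJcom j hj x hx))
      (Subgroup.zpowers_le.2 (Subgroup.mem_centralizer_singleton_iff.2 h)))
    exact (Subgroup.mem_centralizer_singleton_iff.1 (hle hy)).symm
  -- central series steps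
  have hgS : ∀ {A B : Subgroup Ω}, B ≤ E → A ≤ B → Nat.card B ≤ p * Nat.card A →
      (∀ g ∈ S, ∀ x ∈ A, cj g x ∈ A) → (∀ g ∈ S, ∀ x ∈ B, cj g x ∈ B) →
      ∀ x ∈ B, ∀ y ∈ S, ⁅x, y⁆ ∈ A := by
    intro A B hBE hAB hcard hA hB x hx y hy
    exact comm_mem_of_move
      (SmallEss.step_triv hS (hBE.trans hES) hAB hcard hy (hA y hy) (hB y hy) x hx)
      fun b hb => hA x (hES (hBE hx)) b hb
  have hZcen : ∀ z ∈ Z0, ∀ y ∈ S, z * y = y * z := fun z hz y hy =>
    commutatorElement_eq_one_iff_mul_comm.1 (Subgroup.mem_bot.1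
      (hgS (hZK.trans hKE) bot_le (by simp [hZc])
        (fun g _ x hx => by rw [Subgroup.mem_bot] at hx ⊢; subst hx; rw [cj_apply]; group)
        hgZ z hz y hy))
  have hKS : ∀ x ∈ K, ∀ y ∈ S, ⁅x, y⁆ ∈ Z0 :=
    hgS hKE hZK (by rw [hKc, hZc, sq]) hgZ hgK
  have hJS : ∀ x ∈ J, ∀ y ∈ S, ⁅x, y⁆ ∈ K := hgS hJE hKJ hJc'.le hgK hgJ
  -- the subgroups inside `S`
  set K' := K.subgroupOf S with hK'
  set Z' := Z0.subgroupOf S with hZ'
  haveI : K'.Normal := ⟨fun a ha x => hgK x x.2 _ ha⟩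
  haveI : Z'.Normal := ⟨fun a ha x => hgZ x x.2 _ ha⟩
  set gs : ↥S := ⟨g, hg⟩
  set fs : ↥S := ⟨f, hES hf⟩
  set es : ↥S := ⟨e, hES heE⟩
  set Es := E.subgroupOf S with hEs
  have hEs4 : Nat.card Es = p ^ 4 := by
    rw [hEs, Nat.card_congr (Subgroup.subgroupOfEquivOfLe hES).toEquiv, hc]
  have hgam : ∀ Ψ : MulAut ↥S, ∃ γ : ℕ, (gs ^ γ)⁻¹ * Ψ gs ∈ Es := fun Ψ =>
    mem_step' hS le_top (by rw [Subgroup.card_top, hH.card, hEs4, ← pow_succ'])
      (Subgroup.mem_top gs) hgE (Subgroup.mem_top _)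
  set q : ↥S := ⁅fs, gs⁆
  have hqJ : (q : Ω) ∈ J := hgS le_rfl hJE (by rw [hc, hJc, ← pow_succ']) hgJ hgE' f hf g hg
  have hqK : (q : Ω) ∉ K := by
    intro h
    refine hfg ?_
    have h1 : ⁅f, g⁆⁻¹ ∈ K := K.inv_mem h
    have h2 := hgK f⁻¹ (S.inv_mem (hES hf)) _ h1
    rw [cj_apply, commutatorElement_inv, commutatorElement_def, inv_inv] at h2
    convert h2 using 1
    rw [cj_apply]; group
  -- extension to `S`
  have hext : ∀ δ ∈ F.autGroup E, (∀ x ∈ J, autFun δ x ∈ J) → ∃ Ψ ∈ F.autGroup S,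
      ∀ y : ↥S, (y : Ω) ∈ E → (Ψ y : Ω) = autFun δ y := by
    intro δ hδA h3
    have hm := isMor_autFun hES hδA
    obtain ⟨Ψ, hΨ, hΨe⟩ := extend_top hS hH.sat hES hEn (n := 4)
      (fun i => if i = 0 then ⊥ else if i = 1 then Z0 else if i = 2 then K
        else if i = 3 then J else E) rfl rfl
      (fun i hi => by
        interval_cases i
        · simp [hZc]
        · simp [hZK, hKc, hZc, sq]
        · simp [hKJ, hJc']
        · simp [hJE, hc, hJc, pow_succ'])
      (fun x hx i hi y hy => by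
        interval_cases i
        · simp only [if_true, Subgroup.mem_bot] at hy ⊢; subst hy; rw [cj_apply]; group
        · simp at hy ⊢; exact hgZ x hx y hy
        · simp at hy ⊢; exact hgK x hx y hy
        · simp at hy ⊢; exact hgJ x hx y hy)
      hm (fun y hy => autFun_mem δ hy)
      (fun i hi y hy => by
        interval_cases i
        · simp only [if_true, Subgroup.mem_bot] at hy ⊢; subst hy; exact hm.map_one
        · simp at hy ⊢; exact hZinv δ hδA y hy
        · simp at hy ⊢; exact hKinv δ hδA y hy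
        · simp at hy ⊢; exact h3 y hy)
    exact ⟨Ψ, hΨ, hΨe⟩
  -- the torus on `S`
  have htor : ∀ t : ZMod p, t ≠ 0 → ∃ δ ∈ F.autGroup E, ∃ Ψ ∈ F.autGroup S,
      (∀ y : ↥S, (y : Ω) ∈ E → (Ψ y : Ω) = autFun δ y) ∧
      (e ^ t.val)⁻¹ * autFun δ e ∈ K ∧ (f ^ t⁻¹.val)⁻¹ * autFun δ f ∈ K ∧
      (∀ x ∈ K, x⁻¹ * autFun δ x ∈ Z0) ∧ ∀ x ∈ Z0, autFun δ x = x := by
    intro t ht
    obtain ⟨δ, hδY, h1, h2, h3⟩ := hδ t ht
    obtain ⟨Ψ, hΨ, hΨe⟩ := hext δ (hY hδY) h3
    refine ⟨δ, hY hδY, Ψ, hΨ, hΨe, h1, h2, fun x hx => ?_, fun x hx => ?_⟩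
    · have := hYW δ hδY 1 (by omega) x (by simpa using hx)
      simpa using this
    · have := hYW δ hδY 0 (by omega) x (by simpa using hx)
      simp only [if_true, Subgroup.mem_bot] at this
      exact (inv_mul_eq_one.1 this).symm
  -- `γ = t ^ 2`
  have hgamma : ∀ (t : ZMod p), t ≠ 0 → ∀ (δ : MulAut E) (Ψ : MulAut ↥S),
      (∀ y : ↥S, (y : Ω) ∈ E → (Ψ y : Ω) = autFun δ y) →
      δ ∈ F.autGroup E →
      (e ^ t.val)⁻¹ * autFun δ e ∈ K → (f ^ t⁻¹.val)⁻¹ * autFun δ f ∈ K →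
      ∀ γ : ℕ, (gs ^ γ)⁻¹ * Ψ gs ∈ Es → (γ : ZMod p) = t ^ 2 := by
    intro t ht δ Ψ hΨe hδA h1 h2 γ hγ
    have hqq : ⁅⁅fs, gs⁆, fs⁆ ∈ K' := hZK (hEcomm _ (hJE hqJ) f hf)
    have e1 : (q ^ ((t⁻¹.val : ℤ) * γ))⁻¹ * Ψ q ∈ K' := by
      rw [map_commutatorElement]
      refine comm_pow_congr _ ?_ ?_ hqq (hJS _ hqJ g hg)
      · rw [zpow_natCast]
        refine hZK (hKS _ ?_ _ (Ψ gs).2)
        show ((fs ^ t⁻¹.val)⁻¹ * Ψ fs : ↥S).1 ∈ K
        simpa [hΨe fs hf] using h2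
      · rw [zpow_natCast]
        exact hZK (hEcomm f hf _ hγ)
    obtain ⟨m, hm⟩ := mem_step hS (hJE.trans hES) hKJ hJc'.le he heK hqJ
    have hm' : (es ^ m)⁻¹ * q ∈ K' := hm
    have hΨK : ∀ {x : ↥S}, x ∈ K' → Ψ x ∈ K' := fun {x} hx => by
      show (Ψ x : Ω) ∈ K
      rw [hΨe x (hKE hx)]
      exact hKinv δ hδA _ hx
    have e2 : (q ^ (t.val : ℤ))⁻¹ * Ψ q ∈ K' := by
      set π := QuotientGroup.mk' K'
      have hπ : π q = π es ^ m := by
        rw [← map_pow]; exact ((QuotientGroup.eq).2 hm').symm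
      have hπe : π (Ψ es) = π es ^ t.val := by
        rw [← map_pow]
        refine ((QuotientGroup.eq).2 ?_).symm
        show ((es ^ t.val)⁻¹ * Ψ es : ↥S).1 ∈ K
        simpa [hΨe es heE] using h1
      rw [← QuotientGroup.eq_one_iff]
      show π ((q ^ (t.val : ℤ))⁻¹ * Ψ q) = 1
      rw [map_mul, map_inv, map_zpow, inv_mul_eq_one, hπ]
      have hmem : π (Ψ q) = π (Ψ (es ^ m)) := by
        refine ((QuotientGroup.eq).2 ?_).symm
        rw [← map_inv, ← map_mul]
        exact hΨK hm'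
      rw [hmem, map_pow Ψ, map_pow π, hπe, zpow_natCast, ← pow_mul, ← pow_mul, mul_comm]
    have := exp_congr hS K' (fun h => hqK h) e1 e2
    push_cast [ZMod.natCast_zmod_val] at this
    have h3 := congrArg (fun z : ZMod p => t * z) this
    simp only [← mul_assoc, mul_inv_cancel₀ ht, one_mul] at h3
    rw [h3, sq]
  obtain ⟨l, hlK, hlZ⟩ := SetLike.exists_of_lt (lt_of_le_of_ne hZK fun h => by
    rw [h, hKc] at hZc
    exact absurd hZc (Nat.ne_of_gt (lt_self_pow₀ hp.1.one_lt one_lt_two)))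
  set ls : ↥S := ⟨l, hES (hKE hlK)⟩
  have hKgen : K = Z0 ⊔ Subgroup.zpowers l :=
    (eq_sup_of_step hS (hKE.trans hES) hZK (by rw [hKc, hZc, sq]) hlK hlZ).symm
  have hbot : ∀ {x : ↥S}, (x : Ω) ∈ Z0 → ∀ y, ⁅x, y⁆ ∈ (⊥ : Subgroup ↥S) := fun {x} hx y =>
    Subgroup.mem_bot.2 (commutatorElement_eq_one_iff_mul_comm.2
      (Subtype.ext (hZcen _ hx _ y.2)))
  have hΨfix : ∀ {δ : MulAut E} {Ψ : MulAut ↥S},
      (∀ y : ↥S, (y : Ω) ∈ E → (Ψ y : Ω) = autFun δ y) → (∀ x ∈ Z0, autFun δ x = x) →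
      ∀ {x : ↥S}, (x : Ω) ∈ Z0 → Ψ x = x := fun {δ Ψ} h1 h2 {x} hx =>
    Subtype.ext (by rw [h1 x (hKE (hZK hx)), h2 _ hx])
  have heg : ⁅e, g⁆ ∈ Z0 := by
    by_contra hcon
    obtain ⟨t, ht, ht3⟩ := exists_pow_ne (p := p) (k := 3) fun h => by
      have h2 := Nat.le_of_dvd (by omega) h
      have := hp.1.two_le
      rcases hp.1.odd_of_ne_two hH.p2 with ⟨m, rfl⟩
      obtain rfl : m = 1 := by omega
      simp at h
    obtain ⟨δ, hδA, Ψ, -, hΨe, h1, h2, h3, h4⟩ := htor t ht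
    obtain ⟨γ, hγ⟩ := hgam Ψ
    have e1 : (⁅es, gs⁆ ^ ((t.val : ℤ) * γ))⁻¹ * Ψ ⁅es, gs⁆ ∈ Z' := by
      rw [map_commutatorElement]
      refine comm_pow_congr _ ?_ ?_ (hEcomm _ (hKE (hJS e he g hg)) e heE)
        (hKS _ (hJS e he g hg) g hg)
      · rw [zpow_natCast]
        refine hKS _ ?_ _ (Ψ gs).2
        show ((es ^ t.val)⁻¹ * Ψ es : ↥S).1 ∈ K
        simpa [hΨe es heE] using h1
      · rw [zpow_natCast]
        exact hEcomm e heE _ hγ
    have e2 : (⁅es, gs⁆ ^ (1 : ℤ))⁻¹ * Ψ ⁅es, gs⁆ ∈ Z' := by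
      rw [zpow_one]
      show ((⁅es, gs⁆)⁻¹ * Ψ ⁅es, gs⁆ : ↥S).1 ∈ Z0
      rw [Subgroup.coe_mul, Subgroup.coe_inv, hΨe _ (hKE (hJS e he g hg))]
      exact h3 _ (hJS e he g hg)
    have := exp_congr hS Z' (fun h => hcon h) e1 e2
    push_cast [ZMod.natCast_zmod_val, hgamma t ht δ Ψ hΨe hδA h1 h2 γ hγ] at this
    exact ht3 (by rw [pow_succ', this])
  -- `K` is not central
  have hlg : ⁅ls, gs⁆ ≠ 1 := by
    intro hlg
    have hKg : ∀ x ∈ K, x * g = g * x := by
      intro x hx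
      have hle : K ≤ Subgroup.centralizer ({g} : Set Ω) := hKgen.le.trans (sup_le
        (fun z hz => Subgroup.mem_centralizer_singleton_iff.2 (hZcen z hz g hg))
        (Subgroup.zpowers_le.2 (Subgroup.mem_centralizer_singleton_iff.2
          (congrArg Subtype.val (commutatorElement_eq_one_iff_mul_comm.1 hlg)))))
      exact Subgroup.mem_centralizer_singleton_iff.1 (hle hx)
    obtain ⟨k, hk⟩ := exists_adjust hZc (hEcomm e heE f hf) (fun h => hfJc e he heK
      (commutatorElement_eq_one_iff_mul_comm.1 h).symm) heg fun z hz => hZcen z hz f (hES hf)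
    set g' := f ^ k * g with hg'def
    have hg'S : g' ∈ S := S.mul_mem (S.pow_mem (hES hf) k) hg
    have hg'E : g' ∉ E := fun h => hgE ((E.mul_mem_cancel_left (E.pow_mem hf k)).1 h)
    have hJg : ∀ x ∈ J, x * g' = g' * x := fun x hx => by
      have hle : J ≤ Subgroup.centralizer ({g'} : Set Ω) := hJgen.le.trans (sup_le
        (fun z hz => Subgroup.mem_centralizer_singleton_iff.2
          (((Commute.pow_right (hKcom z hz f hf : Commute z f) k).mul_right
            (hKg z hz : Commute z g)).eq))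
        (Subgroup.zpowers_le.2 (Subgroup.mem_centralizer_singleton_iff.2
          (commutatorElement_eq_one_iff_mul_comm.1 hk))))
      exact Subgroup.mem_centralizer_singleton_iff.1 (hle hx)
    set C := S ⊓ Subgroup.centralizer ({e} : Set Ω)
    have : Finite C := finite_of_le inf_le_left
    have hfC : f ∉ C := fun h => hfJc e he heK (Subgroup.mem_centralizer_singleton_iff.1 h.2)
    have hJC : J ≤ C := le_inf (hJE.trans hES) fun x hx =>
      Subgroup.mem_centralizer_singleton_iff.2 (hJcom x hx e he)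
    have hgC : g' ∈ C := ⟨hg'S, Subgroup.mem_centralizer_singleton_iff.2 (hJg e he).symm⟩
    obtain ⟨k', -, hk'⟩ := (Nat.dvd_prime_pow hp.1).1
      (hH.card ▸ Subgroup.card_dvd_of_le (inf_le_left : C ≤ S))
    have hk5 : k' < 5 := by
      have := card_lt_of_lt le_rfl (lt_of_le_of_ne (inf_le_left : C ≤ S) fun h => hfC (h.ge (hES hf)))
      rwa [hk', hH.card, Nat.pow_lt_pow_iff_right hp.1.one_lt] at this
    have hle4 : Nat.card C ≤ p * Nat.card J := by
      rw [hk', hJc, ← pow_succ']; exact Nat.pow_le_pow_right hp.1.pos (by omega)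
    have hab := comm_of_step hS inf_le_left hJC hle4 hgC (fun h => hg'E (hJE h)) hJcom hJg
    refine (hH.noAb C inf_le_left hab).not_ge ?_
    exact MaxClassSmall.pow_succ_le inf_le_left hS (k := 3) (hJc ▸ card_lt_of_lt inf_le_left
      (lt_of_le_of_ne hJC fun h' => hg'E (hJE (h'.ge hgC))))
  -- so `p = 3`
  have hp3 : p = 3 := by
    by_contra hne
    obtain ⟨t, ht, ht2⟩ := exists_pow_ne (p := p) (k := 2) fun h => by
      have h2 := Nat.le_of_dvd (by omega) h
      have := hp.1.two_le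
      have := hH.p2
      omega
    obtain ⟨δ, hδA, Ψ, -, hΨe, h1, h2, h3, h4⟩ := htor t ht
    obtain ⟨γ, hγ⟩ := hgam Ψ
    have hmem : (⁅ls, gs⁆ : ↥S).1 ∈ Z0 := hKS l hlK g hg
    have e1 : (⁅ls, gs⁆ ^ ((1 : ℤ) * γ))⁻¹ * Ψ ⁅ls, gs⁆ ∈ (⊥ : Subgroup ↥S) := by
      rw [map_commutatorElement]
      refine comm_pow_congr _ ?_ ?_ (hbot hmem _) (hbot hmem _)
      · rw [zpow_one]
        refine hbot ?_ _
        rw [Subgroup.coe_mul, Subgroup.coe_inv, hΨe ls (hKE hlK)]
        exact h3 l hlK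
      · rw [zpow_natCast]
        exact Subgroup.mem_bot.2 (commutatorElement_eq_one_iff_mul_comm.2
          (Subtype.ext (hKcom l hlK _ hγ)))
    have e2 : (⁅ls, gs⁆ ^ (1 : ℤ))⁻¹ * Ψ ⁅ls, gs⁆ ∈ (⊥ : Subgroup ↥S) := by
      rw [zpow_one, hΨfix hΨe h4 hmem, inv_mul_cancel]
      exact one_mem _
    have := exp_congr hS ⊥ (fun h => hlg (Subgroup.mem_bot.1 h)) e1 e2
    push_cast [hgamma t ht δ Ψ hΨe hδA h1 h2 γ hγ] at this
    exact ht2 (by rwa [one_mul] at this)
  -- `[J, S] ≤ Z₀`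
  have hES4 : Nat.card S ≤ p * Nat.card E := by rw [hH.card, hc, ← pow_succ']
  have hJZ : ∀ x ∈ J, ∀ y ∈ S, ⁅x, y⁆ ∈ Z0 := by
    set π := QuotientGroup.mk' Z'
    have hey : ∀ y : ↥S, Commute (π es) (π y) := fun y => by
      obtain ⟨j, hj⟩ := mem_step hS le_rfl hES hES4 hg hgE y.2
      have hj' : ((gs ^ j)⁻¹ * y : ↥S).1 ∈ E := by simpa using hj
      rw [← mul_inv_cancel_left (gs ^ j) y, map_mul π, map_pow]
      refine (Commute.pow_right ?_ j).mul_right ?_ <;>
        rw [← commutatorElement_eq_one_iff_commute, ← map_commutatorElement] <;>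
        refine (QuotientGroup.eq_one_iff _).2 ?_
      · exact heg
      · exact hEcomm e heE _ hj'
    intro x hx y hy
    obtain ⟨j, hj⟩ := mem_step hS (hJE.trans hES) hKJ hJc'.le he heK hx
    have hk : ((es ^ j)⁻¹ * ⟨x, hES (hJE hx)⟩ : ↥S).1 ∈ K := by simpa using hj
    have h1 : π ⁅(⟨x, hES (hJE hx)⟩ : ↥S), ⟨y, hy⟩⁆ = 1 := by
      rw [map_commutatorElement, commutatorElement_eq_one_iff_commute,
        ← mul_inv_cancel_left (es ^ j) (⟨x, hES (hJE hx)⟩ : ↥S), map_mul π, map_pow]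
      refine ((hey _).pow_left j).mul_left ?_
      rw [← commutatorElement_eq_one_iff_commute, ← map_commutatorElement]
      exact (QuotientGroup.eq_one_iff _).2 (hKS _ hk y hy)
    exact (QuotientGroup.eq_one_iff ⁅(⟨x, hES (hJE hx)⟩ : ↥S), (⟨y, hy⟩ : ↥S)⁆).1 h1
  -- the presentation
  obtain ⟨m, hm⟩ := exists_adjust hZc (hEcomm _ (hJE hqJ) f hf) (fun h => hfJc _ hqJ hqK
    (commutatorElement_eq_one_iff_mul_comm.1 h).symm) (hJZ _ hqJ g hg)
    fun z hz => hZcen z hz f (hES hf)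
  set s : ↥S := fs ^ m * gs with hsdef
  set r : ↥S := ⁅fs, s⁆ with hrdef
  have hrq : r = fs ^ m * q * (fs ^ m)⁻¹ := by
    rw [hrdef, hsdef]; simp only [q, commutatorElement_def]; group
  set z : ↥S := q⁻¹ * r
  have hz : (z : Ω) ∈ Z0 := by
    have h1 : (⁅(q : Ω)⁻¹, f ^ m⁆ : Ω) ∈ Z0 := hJZ _ (J.inv_mem hqJ) _ (S.pow_mem (hES hf) m)
    show ((q : Ω)⁻¹ * r : Ω) ∈ Z0
    rw [hrq]
    simpa [commutatorElement_def, mul_assoc, fs] using h1
  have hrqz : r = q * z := (mul_inv_cancel_left q r).symm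
  have hrJ : (r : Ω) ∈ J := hrqz ▸ J.mul_mem hqJ (hKJ (hZK hz))
  have hrK : (r : Ω) ∉ K := fun h => hqK (by
    have := K.mul_mem h (K.inv_mem (hZK hz))
    rw [hrqz, Subgroup.coe_mul, mul_inv_cancel_right] at this
    exact this)
  have hls : ⁅s, ls⁆ ≠ 1 := fun h => hlg (by
    rw [commutatorElement_eq_one_iff_commute] at h ⊢
    have hfl : Commute (fs ^ m) ls :=
      Commute.pow_left (Subtype.ext (hKcom l hlK f hf).symm) m
    have := hfl.inv_left.mul_left h
    rw [hsdef, inv_mul_cancel_left] at this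
    exact this.symm)
  have hZ'c : Nat.card Z' = p := by
    rw [hZ', Nat.card_congr (Subgroup.subgroupOfEquivOfLe ((hZK.trans hKE).trans hES)).toEquiv, hZc]
  have T : Tri p Z' fs s ls := by
    refine ⟨hH.card, hZ'c, fun x hx => Subgroup.mem_center_iff.2 fun y =>
        Subtype.ext (hZcen _ hx _ y.2).symm, fun h => hrK (hZK h), fun y => hJZ _ hrJ y y.2, ?_,
      fun h => hfJc _ hrJ hrK (congrArg Subtype.val (commutatorElement_eq_one_iff_mul_comm.1 h)), ?_,
      ?_, hls, commutatorElement_eq_one_iff_mul_comm.2 (Subtype.ext (hJcom _ hrJ l (hKJ hlK))), ?_⟩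
    · have h1 : Commute q s := Subtype.ext (commutatorElement_eq_one_iff_mul_comm.1 hm :)
      have h2 : Commute z s := Subtype.ext (hZcen _ hz _ s.2)
      rw [show ⁅fs, s⁆ = q * z from hrqz]
      exact commutatorElement_eq_one_iff_commute.2 (h1.mul_left h2).symm
    · exact commutatorElement_eq_one_iff_mul_comm.2 (Subtype.ext (hKcom l hlK f hf).symm)
    · rw [← commutatorElement_inv]
      exact inv_mem (hKS l hlK _ s.2)
    · refine eq_top_iff.2 fun y _ => ?_
      set U := Subgroup.closure {fs, s, ls} ⊔ (Subgroup.zpowers ⁅fs, s⁆ ⊔ Z') with hU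
      have hfU : fs ∈ U := Subgroup.mem_sup_left (Subgroup.subset_closure (Or.inl rfl))
      have hlU : ls ∈ U :=
        Subgroup.mem_sup_left (Subgroup.subset_closure (Or.inr (Or.inr rfl)))
      have hgU : gs ∈ U := by
        have h1 : s ∈ U := Subgroup.mem_sup_left (Subgroup.subset_closure (Or.inr (Or.inl rfl)))
        have := U.mul_mem (U.inv_mem (U.pow_mem hfU m)) h1
        rwa [hsdef, inv_mul_cancel_left] at this
      have hrU : r ∈ U := Subgroup.mem_sup_right (Subgroup.mem_sup_left (Subgroup.mem_zpowers _))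
      have hZU : Z0 ≤ U.map S.subtype := fun w hw =>
        ⟨⟨w, hES (hKE (hZK hw))⟩, Subgroup.mem_sup_right (Subgroup.mem_sup_right hw), rfl⟩
      have hKU : K ≤ U.map S.subtype :=
        hKgen.le.trans (sup_le hZU (Subgroup.zpowers_le.2 ⟨ls, hlU, rfl⟩))
      have hJU : J ≤ U.map S.subtype :=
        (eq_sup_of_step hS (hJE.trans hES) hKJ hJc'.le hrJ hrK).ge.trans
          (sup_le hKU (Subgroup.zpowers_le.2 ⟨r, hrU, rfl⟩))
      have hEU : E ≤ U.map S.subtype :=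
        hEgen.le.trans (sup_le hJU (Subgroup.zpowers_le.2 ⟨fs, hfU, rfl⟩))
      have hSU : S ≤ U.map S.subtype := (eq_sup_of_step hS le_rfl hES hES4 hg hgE).ge.trans
        (sup_le hEU (Subgroup.zpowers_le.2 ⟨gs, hgU, rfl⟩))
      exact (Subgroup.mem_map_iff_mem S.subtype_injective).1 (hSU y.2)
  refine ⟨hp3, ⟨Z', fs, s, ls, T⟩, ?_⟩
  -- commutators inside `K`
  have hKcap : ∀ x : ↥S, (x : Ω) ∈ K → x ∈ commutator ↥S → (x : Ω) ∈ Z0 := by
    intro x hxK hx
    by_contra hxZ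
    refine hls ?_
    have hxs : Commute s x :=
      commutatorElement_eq_one_iff_commute.1 (T.R_cent_s (T.commutator_le hx))
    have hle : K ≤ Subgroup.centralizer ({(s : Ω)} : Set Ω) :=
      (eq_sup_of_step hS (hKE.trans hES) hZK (by rw [hKc, hZc, sq]) hxK hxZ).ge.trans (sup_le
        (fun w hw => Subgroup.mem_centralizer_singleton_iff.2 (hZcen w hw _ s.2))
        (Subgroup.zpowers_le.2 (Subgroup.mem_centralizer_singleton_iff.2
          (congrArg Subtype.val hxs.eq).symm)))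
    exact commutatorElement_eq_one_iff_mul_comm.2
      (Subtype.ext (Subgroup.mem_centralizer_singleton_iff.1 (hle hlK)).symm)
  have htriv : ∀ α ∈ F.autGroup E, ∀ x ∈ K, x⁻¹ * autFun α x ∈ Z0 := by
    intro α hα
    have hm := isMor_autFun hES hα
    have hαeK : autFun α e ∉ K := fun h => heK (by
      have := hKinv _ (inv_mem hα) _ h
      rwa [autFun_inv_left α heE] at this)
    obtain ⟨γ, hγY, hγe⟩ := hmove _ (autFun_mem α heE) hαeK
    have hγA := hY hγY
    set h := γ⁻¹ * α with hhdef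
    have hhA : h ∈ F.autGroup E := mul_mem (inv_mem hγA) hα
    have hhe : e⁻¹ * autFun h e ∈ K := by
      have h1 := hKinv _ (inv_mem hγA) _ (K.inv_mem hγe)
      rw [mul_inv_rev, inv_inv, (isMor_autFun hES (inv_mem hγA)).map_mul
        (E.inv_mem (autFun_mem γ heE)) (autFun_mem α heE),
        (isMor_autFun hES (inv_mem hγA)).map_inv (autFun_mem γ heE), autFun_inv_left γ heE,
        ← autFun_mul _ _ heE] at h1
      exact h1
    have hhm := isMor_autFun hES hhA
    have hhJ : ∀ x ∈ J, autFun h x ∈ J := by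
      intro x hx
      obtain ⟨j, hj⟩ := mem_step hS (hJE.trans hES) hKJ hJc'.le he heK hx
      rw [← mul_inv_cancel_left (e ^ j) x, hhm.map_mul (E.pow_mem heE j) (hKE hj),
        hhm.map_pow heE]
      refine J.mul_mem (J.pow_mem ?_ j) (hKJ (hKinv h hhA _ hj))
      have := J.mul_mem he (hKJ hhe)
      rwa [mul_inv_cancel_left] at this
    obtain ⟨Ψ, -, hΨe⟩ := hext h hhA hhJ
    have hl0 : autFun h l * l⁻¹ ∈ Z0 := by
      have h1 := hKcap (Ψ ls * ls⁻¹) (by
        rw [Subgroup.coe_mul, Subgroup.coe_inv, hΨe ls (hKE hlK)]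
        exact K.mul_mem (hKinv h hhA l hlK) (K.inv_mem hlK)) (T.fixed hp3 Ψ)
      rwa [Subgroup.coe_mul, Subgroup.coe_inv, hΨe ls (hKE hlK)] at h1
    have hhK : ∀ x ∈ K, x⁻¹ * autFun h x ∈ Z0 := by
      intro x hx
      obtain ⟨j, hj⟩ := mem_step hS (hKE.trans hES) hZK (by rw [hKc, hZc, sq]) hlK hlZ hx
      have h2 : autFun h l = (autFun h l * l⁻¹) * l := (inv_mul_cancel_right _ _).symm
      have hc : Commute (autFun h l * l⁻¹) l := hZcen _ hl0 l (hES (hKE hlK))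
      have h3 : autFun h x = (autFun h l * l⁻¹) ^ j * l ^ j * autFun h ((l ^ j)⁻¹ * x) := by
        rw [← hc.mul_pow, ← h2, ← hhm.map_pow (hKE hlK),
          ← hhm.map_mul (E.pow_mem (hKE hlK) j) (hKE (hZK hj)), mul_inv_cancel_left]
      have hc' : Commute x⁻¹ ((autFun h l * l⁻¹) ^ j) :=
        ((show Commute (autFun h l * l⁻¹) x⁻¹ from
          hZcen _ hl0 _ (S.inv_mem (hES (hKE hx)))).pow_left j).symm
      rw [h3, ← mul_assoc, ← mul_assoc, hc'.eq, mul_assoc _ x⁻¹, show x⁻¹ * l ^ j =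
        ((l ^ j)⁻¹ * x)⁻¹ by group]
      exact Z0.mul_mem (Z0.mul_mem (Z0.pow_mem hl0 j) (Z0.inv_mem hj)) (hZinv h hhA _ hj)
    intro x hx
    have hxx := hhK x hx
    have h4 := hYW γ hγY 1 (by omega) (autFun h x) (by simpa using hKinv h hhA x hx)
    simp only [one_ne_zero, if_false, if_true] at h4
    have h5 := Z0.mul_mem hxx h4
    rw [mul_assoc, mul_inv_cancel_left, ← autFun_mul _ _ (hKE hx), hhdef,
      mul_inv_cancel_left] at h5
    exact h5
  -- moves
  subst hp3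
  obtain ⟨δ, hδA, Ψ, hΨA, hΨe, hδe, hδf, -, hδZ⟩ := htor (-1) (neg_ne_zero.2 one_ne_zero)
  rw [show (-1 : ZMod 3)⁻¹ = -1 from inv_neg_one] at hδf
  rw [show (-1 : ZMod 3).val = 2 from rfl] at hδe hδf
  have hδm := isMor_autFun hES hδA
  have hinv : ∀ x ∈ E, autFun δ x * x ∈ K := by
    have hmul : ∀ {x y}, x ∈ E → y ∈ E → autFun δ x * x ∈ K → autFun δ y * y ∈ K →
        autFun δ (x * y) * (x * y) ∈ K := by
      intro x y hx hy h1 h2
      rw [hδm.map_mul hx hy, show autFun δ x * autFun δ y * (x * y) =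
        autFun δ x * x * ⁅x⁻¹, autFun δ y⁆ * (autFun δ y * y) by
          simp only [commutatorElement_def]; group]
      exact K.mul_mem (K.mul_mem h1 (hZK (hEcomm _ (E.inv_mem hx) _ (autFun_mem δ hy)))) h2
    have hpw : ∀ {x}, x ∈ E → autFun δ x * x ∈ K → ∀ j : ℕ, autFun δ (x ^ j) * x ^ j ∈ K := by
      intro x hx h1 j
      induction j with
      | zero => rw [pow_zero, mul_one, hδm.map_one]; exact one_mem _
      | succ j ih => rw [pow_succ]; exact hmul (E.pow_mem hx j) hx ih h1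
    have hbase : ∀ {x}, x ∈ E → (x ^ 2)⁻¹ * autFun δ x ∈ K → autFun δ x * x ∈ K := by
      intro x hx h
      have h1 := K.mul_mem (hEpow x hx) h
      rw [show x ^ 3 * ((x ^ 2)⁻¹ * autFun δ x) = x * autFun δ x by group] at h1
      have h2 := hgK x⁻¹ (S.inv_mem (hES hx)) _ h1
      rw [cj_apply, inv_inv, inv_mul_cancel_left] at h2
      exact h2
    intro x hx
    obtain ⟨i, hi⟩ := mem_step hS hES hJE (by rw [hc, hJc, ← pow_succ']) hf hfJ hx
    obtain ⟨j, hj⟩ := mem_step hS (hJE.trans hES) hKJ hJc'.le he heK hi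
    rw [← mul_inv_cancel_left (f ^ i) x, ← mul_inv_cancel_left (e ^ j) ((f ^ i)⁻¹ * x)]
    exact hmul (E.pow_mem hf i) (E.mul_mem (E.pow_mem heE j) (hKE hj)) (hpw hf (hbase hf hδf) i)
      (hmul (E.pow_mem heE j) (hKE hj) (hpw heE (hbase heE hδe) j)
        (K.mul_mem (hKinv δ hδA _ hj) hj))
  intro α hα x hx
  have hm := isMor_autFun hES hα
  -- `α` commutes with `δ` modulo `Z₀`
  set β := (α * δ)⁻¹ * (δ * α) with hβdef
  have hβA : β ∈ F.autGroup E := mul_mem (inv_mem (mul_mem hα hδA)) (mul_mem hδA hα)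
  have hαδ : ∀ w ∈ E, autFun α (autFun δ w) = autFun (α * δ) w := fun w hw =>
    (autFun_mul _ _ hw).symm
  have hδα : ∀ w ∈ E, autFun δ (autFun α w) = autFun α (autFun δ (autFun β w)) := fun w hw => by
    rw [hαδ _ (autFun_mem β hw), ← autFun_mul _ _ hw, ← autFun_mul _ _ hw, hβdef,
      mul_inv_cancel_left]
  have hαZ : ∀ w ∈ Z0, autFun δ (autFun α w) = autFun α (autFun δ w) := fun w hw => by
    rw [hδZ w hw, hδZ _ (hZinv α hα w hw)]
  let W : ℕ → Subgroup Ω := fun i =>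
    if i = 0 then ⊥ else if i = 1 then Z0 else if i = 2 then K else E
  have hW : ∀ η ∈ F.autGroup E, ∀ i, ∀ w ∈ E, w ∈ W i → autFun η w ∈ W i := by
    intro η hη i w hw hwW
    by_cases h0 : i = 0
    · simp only [W, h0, if_true, Subgroup.mem_bot] at hwW ⊢
      rw [hwW]; exact (isMor_autFun hES hη).map_one
    by_cases h1 : i = 1
    · simp only [W, h1, one_ne_zero, if_false, if_true] at hwW ⊢
      exact hZinv η hη w hwW
    by_cases h2 : i = 2
    · simp only [W, h2, show (2 : ℕ) ≠ 0 by omega, show (2 : ℕ) ≠ 1 by omega, if_false,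
        if_true] at hwW ⊢
      exact hKinv η hη w hwW
    · simp only [W, h0, h1, h2, if_false]
      exact autFun_mem η hw
  have hKp : IsPGroup 3 (seriesStab (F.autGroup E) 3 W hW) :=
    isPGroup_stabilizing hS hES 3 (fun i => (W i : Set Ω)) (by simp [W]) (fun w hw => by
      simp [W]; exact hw) fun η hη i hi w hw hwW => hη.2 i hi w hw hwW
  have hKI : seriesStab (F.autGroup E) 3 W hW ≤ Inn E :=
    le_inn_of_radical (essential_radical hS hE) (fun η hη => hη.1) hKp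
      fun a ha k hk => seriesStab_conj ha hk
  have hβI : β ∈ Inn E := by
    refine hKI ⟨hβA, fun i hi w hw hwW => ?_⟩
    interval_cases i
    · simp [W] at hwW ⊢
      refine inv_mul_eq_one.2 (autFun_inj_on (α * δ) hw (autFun_mem β hw) ?_)
      rw [← hαδ _ hw, ← hαZ w hwW, hδα w hw, hαδ _ (autFun_mem β hw)]
    · simp [W] at hwW ⊢
      exact htriv β hβA w hwW
    · simp [W] at hwW ⊢
      -- both compositions invert modulo `K`
      have h1 : autFun α (autFun δ w) * autFun α w ∈ K := by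
        rw [← hm.map_mul (autFun_mem δ hw) hw]
        exact hKinv α hα _ (hinv w hw)
      have h2 := hinv _ (autFun_mem α hw)
      rw [hδα w hw] at h2
      have h3 := K.mul_mem h1 (K.inv_mem h2)
      rw [show autFun α (autFun δ w) * autFun α w *
        (autFun α (autFun δ (autFun β w)) * autFun α w)⁻¹ =
        autFun α (autFun δ w) * (autFun α (autFun δ (autFun β w)))⁻¹ by group,
        hαδ w hw, hαδ _ (autFun_mem β hw)] at h3
      have hmm := isMor_autFun hES (mul_mem hα hδA)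
      rw [← hmm.map_inv (autFun_mem β hw), ← hmm.map_mul hw (E.inv_mem (autFun_mem β hw))] at h3
      have h4 := hKinv _ (inv_mem (mul_mem hα hδA)) _ h3
      rw [autFun_inv_left _ (E.mul_mem hw (E.inv_mem (autFun_mem β hw)))] at h4
      have h5 := hgK w⁻¹ (S.inv_mem (hES hw)) _ (K.inv_mem h4)
      rw [cj_apply, mul_inv_rev, inv_inv, inv_inv] at h5
      simpa [mul_assoc] using h5
  obtain ⟨b, hb, hbe⟩ := mem_inn.1 hβI
  have hβx : x⁻¹ * autFun β x ∈ Z0 := by
    rw [hbe x hx, show x⁻¹ * cj b x = ⁅x⁻¹, b⁆ by rw [cj_apply, commutatorElement_def]; group]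
    exact hEcomm _ (E.inv_mem hx) _ hb
  set k := autFun δ x * x with hkdef
  have hk := hinv x hx
  set z := x⁻¹ * autFun β x with hzdef
  set z' := k⁻¹ * autFun α k with hz'def
  have hz' : z' ∈ Z0 := htriv α hα k hk
  have e1 : autFun δ x = k * x⁻¹ := by rw [hkdef, mul_inv_cancel_right]
  have hkey : autFun δ (autFun α x) =
      k * z' * (autFun α x)⁻¹ * autFun α (autFun δ z) := by
    rw [hδα x hx, show autFun β x = x * z by rw [hzdef, mul_inv_cancel_left],
      hδm.map_mul hx (hKE (hZK hβx)), hm.map_mul (autFun_mem δ hx)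
      (autFun_mem δ (hKE (hZK hβx))), e1, hm.map_mul (hKE hk) (E.inv_mem hx), hm.map_inv hx,
      hz'def, mul_inv_cancel_left]
  -- conclude modulo the moves
  set T0 := topMoves F with hT0
  haveI : T0.Normal := ⟨fun t ht w => by
    have h := conj_mem_of_commutators (fun a ha b hb => commutator_mem_tMoves (F := F) ha hb)
      tMoves_le w.2 (mem_tMoves.2 ht)
    exact (mem_tMoves (x := w * t * w⁻¹)).1 h⟩
  set π := QuotientGroup.mk' T0
  have hcm : ∀ a b : ↥S, Commute (π a) (π b) := fun a b => by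
    rw [← commutatorElement_eq_one_iff_commute, ← map_commutatorElement]
    exact (QuotientGroup.eq_one_iff _).2 (Subgroup.mem_sup_left
      (Subgroup.commutator_mem_commutator (Subgroup.mem_top a) (Subgroup.mem_top b)))
  have hZT : ∀ w : ↥S, (w : Ω) ∈ Z0 → π w = 1 := fun w hw => by
    refine (QuotientGroup.eq_one_iff _).2 (Subgroup.mem_sup_left ?_)
    have h1 : Subgroup.zpowers ⁅fs, r⁆ = Z' := zpowers_eq_of_card hZ'c
      (by rw [← commutatorElement_inv]; exact inv_mem (T.r_comm fs)) T.er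
    exact Subgroup.zpowers_le.2 (Subgroup.commutator_mem_commutator (Subgroup.mem_top fs)
      (Subgroup.mem_top r)) (h1.ge hw)
  have hmove' : ∀ w : ↥S, π (Ψ w) = π w := fun w => by
    rw [← mul_inv_eq_one, ← map_inv, ← map_mul]
    exact (QuotientGroup.eq_one_iff _).2
      (Subgroup.mem_sup_right (Subgroup.subset_closure ⟨Ψ, hΨA, w, rfl⟩))
  set xs : ↥S := ⟨x, hES hx⟩
  set ys : ↥S := ⟨autFun α x, hES (autFun_mem α hx)⟩
  set ks : ↥S := ⟨k, hES (hKE hk)⟩
  have hq1 : π xs * π xs = π ks := by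
    rw [← map_mul, show ks = Ψ xs * xs from Subtype.ext (by
      rw [Subgroup.coe_mul, hΨe xs hx]), map_mul π (Ψ xs), hmove', map_mul]
  have hq2 : π ys * π ys = π ks := by
    have hw : autFun α (autFun δ z) ∈ Z0 := hZinv α hα _ (hZinv δ hδA _ hβx)
    set ws : ↥S := ⟨autFun α (autFun δ z), hES (hKE (hZK hw))⟩
    set zs : ↥S := ⟨z', hES (hKE (hZK hz'))⟩
    have heq : Ψ ys = ks * zs * ys⁻¹ * ws := Subtype.ext (by
      rw [hΨe ys (autFun_mem α hx)]; exact hkey)
    have h1 := congrArg π heq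
    rw [hmove', map_mul, map_mul, map_mul, map_inv, hZT zs hz', hZT ws hw, mul_one,
      mul_one] at h1
    nth_rewrite 2 [h1]
    rw [(hcm ys ks).left_comm, mul_inv_cancel, mul_one]
  have hsq : (π ys * (π xs)⁻¹) ^ 2 = 1 := by
    rw [((hcm ys xs).inv_right).mul_pow, inv_pow, sq, sq, hq1, hq2, mul_inv_cancel]
  have hfin : π (ys * xs⁻¹) = 1 := by
    rw [map_mul, map_inv]
    obtain ⟨n, hn⟩ := hS (ys * xs⁻¹)
    have h3 : (π ys * (π xs)⁻¹) ^ 3 ^ n = 1 := by
      rw [← map_inv, ← map_mul, ← map_pow, hn, map_one]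
    have h4 := pow_gcd_eq_one.2 ⟨hsq, h3⟩
    rwa [Nat.Coprime.gcd_eq_one (Nat.Coprime.pow_right n (by norm_num)), pow_one] at h4
  exact (mem_tMoves (x := ys * xs⁻¹)).2 ((QuotientGroup.eq_one_iff _).1 hfin)
where
  autFun_inj_on {P : Subgroup Ω} (η : MulAut P) {a b : Ω} (ha : a ∈ P) (hb : b ∈ P)
      (h : autFun η a = autFun η b) : a = b := by
    rw [← autFun_inv_left η ha, h, autFun_inv_left η hb]

end CfsgLib.Fusion.OrderFive
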