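import Mathlib
import Cfsg.Agent.Lib.Fusion.OrderFiveNormal
import Cfsg.Agent.Lib.Fusion.OrderFiveFrameThree
import Cfsg.Agent.Lib.Fusion.MaxClassSmallEssential

/-!
# Elementary essential subgroups of order `p ^ 3`
-/

set_option autoImplicit false
set_option linter.unusedSectionVars false
set_option linter.style.haveILetI false
set_option maxHeartbeats 1000000

namespace CfsgLib.Fusion.OrderFive

open Cfsg Cfsg.FusionSystem CfsgLib.Fusion
open scoped commutatorElement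

universe u

variable {Ω : Type u} [Group Ω] {S : Subgroup Ω} [Finite S] {p : ℕ} [hp : Fact p.Prime]
  {F : FusionSystem S}

/-- An element outside an abelian subgroup of order `p ^ 3` commuting with it is excluded. -/
theorem false_of_big_centraliser (hH : Hyp F p) {J : Subgroup Ω} (hJS : J ≤ S)
    (hJc : Nat.card J = p ^ 3) (hJcom : ∀ x ∈ J, ∀ y ∈ J, x * y = y * x) {r f g : Ω} (hr : r ∈ J)
    (hf : f ∈ S) (hfr : f * r ≠ r * f) (hg : g ∈ S) (hgJ : g ∉ J)
    (hJg : ∀ x ∈ J, x * g = g * x) : False := by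
  have hS := hH.pgroup
  set C := S ⊓ Subgroup.centralizer ({r} : Set Ω)
  have : Finite C := finite_of_le inf_le_left
  have hfC : f ∉ C := fun h => hfr (Subgroup.mem_centralizer_singleton_iff.1 h.2)
  have hJC : J ≤ C :=
    le_inf hJS fun x hx => Subgroup.mem_centralizer_singleton_iff.2 (hJcom x hx r hr)
  have hgC : g ∈ C := ⟨hg, Subgroup.mem_centralizer_singleton_iff.2 (hJg r hr).symm⟩
  obtain ⟨k', -, hk'⟩ := (Nat.dvd_prime_pow hp.1).1
    (hH.card ▸ Subgroup.card_dvd_of_le (inf_le_left : C ≤ S))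
  have hk5 : k' < 5 := by
    have := card_lt_of_lt le_rfl (lt_of_le_of_ne (inf_le_left : C ≤ S) fun h => hfC (h.ge hf))
    rwa [hk', hH.card, Nat.pow_lt_pow_iff_right hp.1.one_lt] at this
  have hle4 : Nat.card C ≤ p * Nat.card J := by
    rw [hk', hJc, ← pow_succ']; exact Nat.pow_le_pow_right hp.1.pos (by omega)
  have hab := comm_of_step hS inf_le_left hJC hle4 hgC hgJ hJcom hJg
  refine (hH.noAb C inf_le_left hab).not_ge ?_
  exact MaxClassSmall.pow_succ_le inf_le_left hS (k := 3) (hJc ▸ card_lt_of_lt inf_le_left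
    (lt_of_le_of_ne hJC fun h' => hgJ (h'.ge hgC)))

/-- An elementary essential subgroup of order `p ^ 3` forces `p = 3` and the presentation; its
automorphisms move everything inside `tMoves`. -/
theorem elementary_type (hH : Hyp F p) {E : Subgroup Ω} (hE : F.IsEssential p E)
    (hc : Nat.card E = p ^ 3) (hel : Cfsg.IsElementaryAbelian p E) :
    p = 3 ∧ (∃ (Z₀ : Subgroup ↥S) (e s l : ↥S), Tri p Z₀ e s l) ∧
      F.autGroup E ≤ movesIn E (tMoves F) := by
  classical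
  have hS := hH.pgroup
  have hES := hE.1.1
  have := finite_of_le hES
  have := finite_mulAut (P := E) hES
  have hcomm : ∀ a ∈ E, ∀ b ∈ E, a * b = b * a := fun a ha b hb =>
    congrArg Subtype.val (hel.1.is_comm.comm ⟨a, ha⟩ ⟨b, hb⟩)
  have hCE : centralizerIn S E ≤ E := centric_centralizer_le hE.1
  -- the normaliser
  set N := normalizerIn S E with hNdef
  have hNS : N ≤ S := normalizerIn_le
  have hEN : E ≤ N := le_normalizerIn hES
  have := finite_of_le hNS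
  have hNp : IsPGroup p N := isPGroup_of_le hNS hS
  have hNE : ∀ g ∈ N, ∀ x ∈ E, cj g x ∈ E := fun g hg x hx => cj_mem_normalizerIn hg hx
  have hbotN : ∀ g : Ω, ∀ x ∈ (⊥ : Subgroup Ω), cj g x ∈ (⊥ : Subgroup Ω) := fun g x hx => by
    rw [Subgroup.mem_bot] at hx ⊢; subst hx; rw [cj_apply]; group
  have hEbot : (⊥ : Subgroup Ω) < E := bot_lt_iff_ne_bot.2 fun h => by
    rw [h, Subgroup.card_bot] at hc
    exact absurd hc.symm (Nat.one_lt_pow (by omega) hp.1.one_lt).ne'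
  obtain ⟨A1, -, hA1E, hA1c, hA1n⟩ :=
    exists_between hNp hEN hEbot (fun g _ => hbotN g) hNE
  rw [Subgroup.card_bot, mul_one] at hA1c
  obtain ⟨A2, hA12, hA2E, hA2c, hA2n⟩ := exists_between hNp hEN (lt_of_le_of_ne hA1E fun h => by
    rw [h, hc] at hA1c
    exact absurd hA1c (Nat.ne_of_gt (lt_self_pow₀ hp.1.one_lt (by norm_num)))) hA1n hNE
  rw [hA1c, ← sq] at hA2c
  have hN4 := MaxClassSmall.card_normalizer_le hS hH.sat hE hc hel hA12 hA2E hA1c hA2c hA1n hA2n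
  have hEltN : E < N := normalizerIn_gt hS (essential_lt hS hH.sat hE)
  have hNc : Nat.card N = p ^ 4 :=
    le_antisymm hN4 (MaxClassSmall.pow_succ_le hNS hS (k := 3) (hc ▸ card_lt_of_lt hNS hEltN))
  have hcSN : Nat.card S ≤ p * Nat.card N := by rw [hH.card, hNc, ← pow_succ']
  have hcNE : Nat.card N ≤ p * Nat.card E := by rw [hNc, hc, ← pow_succ']
  have hNn : ∀ g ∈ S, ∀ x ∈ N, cj g x ∈ N := by
    haveI : (N.subgroupOf S).Normal := by
      refine CfsgLib.PGroups.normal_of_isCoatom hS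
        (CfsgLib.PGroups.isCoatom_of_index_eq_prime (p := p) ?_)
      have h1 := (N.subgroupOf S).card_mul_index
      rw [Nat.card_congr (Subgroup.subgroupOfEquivOfLe hNS).toEquiv, hNc, hH.card,
        pow_succ p 4] at h1
      exact Nat.eq_of_mul_eq_mul_left (pow_pos hp.1.pos 4) h1
    exact fun g hg x hx =>
      Subgroup.Normal.conj_mem (inferInstance : (N.subgroupOf S).Normal) ⟨x, hNS hx⟩ hx ⟨g, hg⟩
  obtain ⟨g, hg, hgN⟩ := SetLike.exists_of_lt (lt_of_le_of_ne hNS fun h => by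
    rw [h, hH.card] at hNc
    exact absurd (Nat.pow_right_injective hp.1.two_le hNc) (by omega))
  -- a second conjugate
  set E2 := img E (cj g) with hE2def
  have hmg := isMor_cj F hES hg
  have hE2N : E2 ≤ N := img_le fun x hx => hNn g hg x (hEN hx)
  have hE2c : Nat.card E2 = p ^ 3 := hmg.card_img.trans hc
  have hconj : F.IsConj E E2 := isConj_img hmg
  have hE2mem : ∀ {y : Ω}, y ∈ E2 → ∃ x ∈ E, cj g x = y := fun hy => hmg.mem_img.1 hy
  have hE2n : ∀ n ∈ N, ∀ y ∈ E2, cj n y ∈ E2 := by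
    intro n hn y hy
    obtain ⟨x, hx, rfl⟩ := hE2mem hy
    have hn' : cj g⁻¹ n ∈ N := hNn _ (S.inv_mem hg) n hn
    rw [show cj n (cj g x) = cj g (cj (cj g⁻¹ n) x) by simp only [cj_apply]; group]
    exact mem_img_of_mem _ (hNE _ hn' x hx)
  have hE2norm : N ≤ Subgroup.normalizer (E2 : Set Ω) := fun n hn => by
    refine Subgroup.mem_normalizer_iff.2 fun y => ⟨fun hy => hE2n n hn y hy, fun hy => ?_⟩
    have := hE2n n⁻¹ (N.inv_mem hn) _ hy
    simpa [cj, mul_assoc] using this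
  have hneE : E ≠ E2 := fun h => hgN (mem_normalizerIn.2 ⟨hg,
    Subgroup.mem_normalizer_iff_map_conj_eq.2 (Subgroup.eq_of_le_of_card_ge
      (by rintro _ ⟨x, hx, rfl⟩; exact h.ge (mem_img_of_mem _ hx))
      (by rw [Subgroup.card_map_of_injective (MulAut.conj g).injective]))⟩)
  obtain ⟨hWc, hsup, -⟩ :=
    MaxClassSmall.card_inf_of_sup hS hc hE2c hNS hEN hE2N hN4 hE2norm hneE
  set W := E ⊓ E2 with hWdef
  have hE2comm : ∀ a ∈ E2, ∀ b ∈ E2, a * b = b * a := by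
    intro a ha b hb
    obtain ⟨u, hu, rfl⟩ := hE2mem ha
    obtain ⟨v, hv, rfl⟩ := hE2mem hb
    rw [← cj_map_mul, ← cj_map_mul, hcomm u hu v hv]
  have hWN : ∀ w ∈ W, ∀ n ∈ N, w * n = n * w := by
    intro w hw n hn
    have hle : N ≤ Subgroup.centralizer ({w} : Set Ω) := hsup.ge.trans (sup_le
      (fun a ha => Subgroup.mem_centralizer_singleton_iff.2 (hcomm a ha w hw.1))
      (fun a ha => Subgroup.mem_centralizer_singleton_iff.2 (hE2comm a ha w hw.2)))
    exact (Subgroup.mem_centralizer_singleton_iff.1 (hle hn)).symm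
  have hcen : ∀ x ∈ N, (∀ n ∈ N, x * n = n * x) → x ∈ W := fun x hx h => by
    refine ⟨hCE (mem_centralizerIn.2 ⟨hNS hx, fun y hy => ?_⟩),
      centric_centralizer_le (centric_of_isConj hE.1 hconj)
        (mem_centralizerIn.2 ⟨hNS hx, fun y hy => ?_⟩)⟩
    · rw [cj_apply, h y (hEN hy), mul_inv_cancel_right]
    · rw [cj_apply, h y (hE2N hy), mul_inv_cancel_right]
  have hWn : ∀ g ∈ S, ∀ x ∈ W, cj g x ∈ W := fun g hg x hx =>
    hcen _ (hNn g hg x (hEN hx.1)) fun n hn => by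
      have h1 := hWN x hx _ (hNn g⁻¹ (S.inv_mem hg) n hn)
      calc cj g x * n = g * (x * cj g⁻¹ n) * g⁻¹ := by simp only [cj_apply]; group
        _ = g * (cj g⁻¹ n * x) * g⁻¹ := by rw [h1]
        _ = n * cj g x := by simp only [cj_apply]; group
  have hWE : W ≤ E := inf_le_left
  have hWNle : W ≤ N := hWE.trans hEN
  have hnaN : ¬ IsMulCommutative ↥N := fun h => (hH.noAb N hNS fun a ha b hb =>
    congrArg Subtype.val (h.is_comm.comm (⟨a, ha⟩ : N) ⟨b, hb⟩)).ne hNc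
  have hZN : Nat.card (Subgroup.center ↥N) = p ^ 2 := by
    have : Subgroup.center ↥N = W.subgroupOf N := by
      ext x
      refine ⟨fun hx => hcen x x.2 fun n hn =>
        congrArg Subtype.val (Subgroup.mem_center_iff.1 hx ⟨n, hn⟩).symm, fun hx => ?_⟩
      exact Subgroup.mem_center_iff.2 fun n => Subtype.ext (hWN x hx n n.2).symm
    rw [this, Nat.card_congr (Subgroup.subgroupOfEquivOfLe hWNle).toEquiv, hWc]
  obtain ⟨hU1, hU2, -⟩ := order_four_facts (G := ↥N) hNc hnaN hZN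
  set U := (commutator ↥N).map N.subtype with hUdef
  have hUc : Nat.card U = p := by
    rw [hUdef, Subgroup.card_map_of_injective N.subtype_injective, hU1]
  have hUW : U ≤ W := by
    rintro _ ⟨x, hx, rfl⟩
    exact hcen x x.2 fun n hn =>
      congrArg Subtype.val (Subgroup.mem_center_iff.1 (hU2 hx) ⟨n, hn⟩).symm
  have hNcomm : ∀ x ∈ N, ∀ y ∈ N, ⁅x, y⁆ ∈ U := fun x hx y hy =>
    ⟨⁅(⟨x, hx⟩ : N), ⟨y, hy⟩⁆,
      Subgroup.commutator_mem_commutator (Subgroup.mem_top _) (Subgroup.mem_top _), rfl⟩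
  have hUn : ∀ g ∈ S, ∀ x ∈ U, cj g x ∈ U := by
    intro g hg x hx
    rw [hUdef, Subgroup.map_subtype_commutator] at hx ⊢
    have h1 : cj g x ∈ (⁅N, N⁆).map (MulAut.conj g).toMonoidHom := ⟨x, hx, rfl⟩
    rw [Subgroup.map_commutator] at h1
    have h2 : N.map (MulAut.conj g).toMonoidHom ≤ N := by
      rintro _ ⟨y, hy, rfl⟩; exact hNn g hg y hy
    exact Subgroup.commutator_mono h2 h2 h1
  have hstepS : ∀ {A B : Subgroup Ω}, B ≤ S → A ≤ B → Nat.card B ≤ p * Nat.card A →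
      (∀ g ∈ S, ∀ x ∈ A, cj g x ∈ A) → (∀ g ∈ S, ∀ x ∈ B, cj g x ∈ B) →
      ∀ x ∈ B, ∀ y ∈ S, ⁅x, y⁆ ∈ A := by
    intro A B hBS hAB hcard hA hB x hx y hy
    exact comm_mem_of_move (SmallEss.step_triv hS hBS hAB hcard hy (hA y hy) (hB y hy) x hx)
      fun b hb => hA x (hBS hx) b hb
  have hUS : U ≤ S := (hUW.trans hWE).trans hES
  have hUcen : ∀ z ∈ U, ∀ y ∈ S, z * y = y * z := fun z hz y hy =>
    commutatorElement_eq_one_iff_mul_comm.1 (Subgroup.mem_bot.1
      (hstepS hUS bot_le (by simp [hUc]) (fun g _ => hbotN g) hUn z hz y hy))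
  have hWS : W ≤ S := hWE.trans hES
  have hcWU : Nat.card W ≤ p * Nat.card U := by rw [hWc, hUc, sq]
  have hcEW : Nat.card E ≤ p * Nat.card W := by rw [hc, hWc, ← pow_succ']
  have hWSc : ∀ x ∈ W, ∀ y ∈ S, ⁅x, y⁆ ∈ U := hstepS hWS hUW hcWU hUn hWn
  -- the normal abelian subgroup
  obtain ⟨X, hWX, hXN, hXc', hXn⟩ := exists_between hS hNS (lt_of_le_of_ne hWNle fun h => by
    rw [h, hNc] at hWc
    exact absurd (Nat.pow_right_injective hp.1.two_le hWc) (by omega)) hWn hNn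
  have hXc : Nat.card X = p ^ 3 := by rw [hXc', hWc, ← pow_succ']
  have hXS : X ≤ S := hXN.trans hNS
  obtain ⟨x, hxX, hxW⟩ := SetLike.exists_of_lt (lt_of_le_of_ne hWX fun h => by
    rw [← h, hWc] at hXc
    exact absurd (Nat.pow_right_injective hp.1.two_le hXc) (by omega))
  have hXcom : ∀ a ∈ X, ∀ b ∈ X, a * b = b * a :=
    comm_of_step hS hXS hWX hXc'.le hxX hxW (fun a ha b hb => hWN a ha b (hWNle hb))
      fun a ha => hWN a ha x (hXN hxX)
  have hEXne : E ≠ X := fun h => hgN (mem_normalizerIn.2 ⟨hg,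
    (mem_normalizerIn.1 ((normalizerIn_eq_of_conj hXn).ge hg)).2 |> fun h' => h ▸ h'⟩)
  have hEXinf : E ⊓ X = W := by
    refine (eq_of_le_of_card ((inf_le_left : E ⊓ X ≤ E).trans hES) (le_inf hWE hWX) ?_).symm
    obtain ⟨j, hj, hjc⟩ := (Nat.dvd_prime_pow hp.1).1
      (hc ▸ Subgroup.card_dvd_of_le (inf_le_left : E ⊓ X ≤ E))
    have hj3 : j ≠ 3 := fun h3 => hEXne (eq_of_le_of_card hXS
      ((eq_of_le_of_card hES (inf_le_left : E ⊓ X ≤ E) (by rw [hc, hjc, h3])).ge.trans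
        inf_le_right) (by rw [hXc, hc]))
    rw [hjc, hWc]
    exact Nat.pow_le_pow_right hp.1.pos (by omega)
  have hNX : N = E ⊔ X := by
    refine (eq_of_le_of_card hNS (sup_le hEN hXN) ?_).symm
    rw [hNc]
    refine MaxClassSmall.pow_succ_le (sup_le hES hXS) hS (k := 3)
      (hc ▸ card_lt_of_lt (sup_le hES hXS) (lt_of_le_of_ne le_sup_left fun h => hxW ?_))
    exact hEXinf.le ⟨h.ge (Subgroup.mem_sup_right hxX), hxX⟩
  have hcNX : Nat.card N ≤ p * Nat.card X := by rw [hNc, hXc, ← pow_succ']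
  -- the transvection
  have hxE : x ∉ E := fun h => hxW (hEXinf.le ⟨h, hxX⟩)
  letI : CommGroup E :=
    { (inferInstance : Group E) with mul_comm := hel.1.is_comm.comm }
  obtain ⟨R, H, hR, hHne, hprop⟩ := MaxClassSmall.exists_embedded hS hH.sat hE hcomm
  have hexp : ∀ y : E, y ^ p = 1 := fun y => Subtype.ext (hel.2 y y.2)
  obtain ⟨α, hα, hαe⟩ :=
    exists_autInducedBy (P := E) (hXS hxX) (mem_normalizerIn.1 (hXN hxX)).2
  have hαA := autInducedBy_le F hES hα
  set aa : F.autGroup E := ⟨α, hαA⟩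
  have hdis : ∀ y : E, ((TransvectionStrong.dis α y : E) : Ω) = (y : Ω)⁻¹ * cj x y := fun y => by
    rw [← hαe y y.2, autFun_coe]; rfl
  have hU2E : U ≤ E := hUW.trans hWE
  have hWfix : ∀ n ∈ N, ∀ w ∈ W, cj n w = w := fun n hn w hw => by
    rw [cj_apply, ← hWN w hw n hn, mul_inv_cancel_right]
  have hmoveU : ∀ n ∈ N, ∀ y ∈ E, y⁻¹ * cj n y ∈ U := fun n hn y hy => by
    rw [show y⁻¹ * cj n y = ⁅y⁻¹, n⁆ by rw [cj_apply, commutatorElement_def]; group]
    exact hNcomm _ (N.inv_mem (hEN hy)) n hn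
  have T : TransvectionStrong.IsTv p ((aa : F.autGroup E) : MulAut E) (U.subgroupOf E)
      (W.subgroupOf E) := by
    refine ⟨hc, ?_, ?_, fun y hy => hUW hy, fun y hy => Subtype.ext ?_,
      fun y => Subgroup.mem_subgroupOf.2 ?_, fun h => hxE ?_⟩
    · rw [Nat.card_congr (Subgroup.subgroupOfEquivOfLe hU2E).toEquiv, hUc]
    · rw [Nat.card_congr (Subgroup.subgroupOfEquivOfLe hWE).toEquiv, hWc]
    · rw [hdis, hWfix x (hXN hxX) y hy, inv_mul_cancel]; rfl
    · rw [hdis]; exact hmoveU x (hXN hxX) y y.2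
    · refine hCE (mem_centralizerIn.2 ⟨hXS hxX, fun y hy => ?_⟩)
      rw [← hαe y hy, show α = 1 from h, autFun_one hy]
  have hRc : Nat.card (R : Subgroup (F.autGroup E)) ≤ p := by
    have hRdis : ∀ t ∈ (R : Subgroup (F.autGroup E)), ∀ y : E,
        ∃ n ∈ N, ((TransvectionStrong.dis (t : MulAut E) y : E) : Ω) = (y : Ω)⁻¹ * cj n y := by
      intro t ht y
      obtain ⟨n, hnS, hnn, hne⟩ := mem_autInducedBy.1 ((hR t).1 ht)
      exact ⟨n, mem_normalizerIn.2 ⟨hnS, hnn⟩, by rw [← hne y y.2, autFun_coe]; rfl⟩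
    refine TransvectionStrong.card_sylow_le hc hexp hprop hHne (fun y hy => hUW hy)
      (U₁ := U.subgroupOf E) (U₂ := W.subgroupOf E) T.card₁ T.card₂ ?_ ?_ ?_
    · intro t ht y hy
      obtain ⟨n, hn, h⟩ := hRdis t ht y
      exact Subtype.ext (by rw [h, hWfix n hn y (hUW hy), inv_mul_cancel]; rfl)
    · intro t ht y hy
      obtain ⟨n, hn, h⟩ := hRdis t ht y
      exact Subgroup.mem_subgroupOf.2 (h ▸ hmoveU n hn y y.2)
    · intro t ht y
      obtain ⟨n, hn, h⟩ := hRdis t ht y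
      exact Subgroup.mem_subgroupOf.2 (h ▸ hUW (hmoveU n hn y y.2))
  obtain ⟨zz, hzU, hz1, cc, hcW, hcU, ww, hwW, hmat, hsplit⟩ :=
    exists_frame_three hexp hprop hHne T ((hR aa).2 hα) hRc
  set z : Ω := (zz : Ω)
  set c : Ω := (cc : Ω)
  set w : Ω := (ww : Ω)
  have hzU' : z ∈ U := hzU
  have hcW' : c ∈ W := hcW
  have hcU' : c ∉ U := hcU
  have hwE : w ∈ E := ww.2
  have hwW' : w ∉ W := hwW
  have hwp : w ^ p = 1 := hel.2 w hwE
  have hUgen : Subgroup.zpowers z = U :=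
    zpowers_eq_of_card hUc hzU' fun h => hz1 (Subtype.ext h)
  have hWgen : W = U ⊔ Subgroup.zpowers c :=
    (eq_sup_of_step hS hWS hUW hcWU hcW' hcU').symm
  have hEgen : E = W ⊔ Subgroup.zpowers w :=
    (eq_sup_of_step hS hES hWE hcEW hwE hwW').symm
  -- nothing in `X` outside `W` commutes with `w`
  have hwXc : ∀ y ∈ X, y ∉ W → w * y ≠ y * w := fun y hy hyW h => by
    refine hyW (hEXinf.le ⟨hCE (mem_centralizerIn.2 ⟨hXS hy, fun v hv => ?_⟩), hy⟩)
    have hle : E ≤ Subgroup.centralizer ({y} : Set Ω) := hEgen.le.trans (sup_le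
      (fun u hu => Subgroup.mem_centralizer_singleton_iff.2 (hWN u hu y (hXN hy)))
      (Subgroup.zpowers_le.2 (Subgroup.mem_centralizer_singleton_iff.2 h)))
    rw [cj_apply, ← Subgroup.mem_centralizer_singleton_iff.1 (hle hv), mul_inv_cancel_right]
  -- extension to `S`
  have hext : ∀ δ ∈ F.autGroup E, (∀ y ∈ U, autFun δ y ∈ U) → (∀ y ∈ W, autFun δ y ∈ W) →
      ∃ Ψ ∈ F.autGroup S, ∀ y : ↥S, (y : Ω) ∈ E → (Ψ y : Ω) = autFun δ y := by
    intro δ hδA hδU hδW
    have hm := isMor_autFun hES hδA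
    obtain ⟨ψ, hψ, hψe, hψN⟩ := extend_series hS hH.sat hE.2.1 (n := 3)
      (fun i => if i = 0 then ⊥ else if i = 1 then U else if i = 2 then W else E) rfl rfl
      (fun i hi => by
        interval_cases i
        · simp [hUc]
        · simp [hUW, hWc, hUc, sq]
        · simp [hWE, hc, hWc, pow_succ'])
      (fun n hn i hi y hy => by
        interval_cases i
        · simp only [if_true] at hy ⊢; exact hbotN n y hy
        · simp at hy ⊢; exact hUn n (hNS hn) y hy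
        · simp at hy ⊢; exact hWn n (hNS hn) y hy)
      hm (fun y hy => autFun_mem δ hy)
      (fun i hi y hy => by
        interval_cases i
        · simp only [if_true, Subgroup.mem_bot] at hy ⊢; subst hy; exact hm.map_one
        · simp at hy ⊢; exact hδU y hy
        · simp at hy ⊢; exact hδW y hy)
    have hψU : ∀ y ∈ U, ψ y ∈ U := fun y hy => by rw [hψe y (hU2E hy)]; exact hδU y hy
    have hψW : ∀ y ∈ W, ψ y ∈ W := fun y hy => by rw [hψe y (hWE hy)]; exact hδW y hy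
    have hψX : ∀ y ∈ X, ψ y ∈ X := MaxClassSmall.fix_X (k := 2) hS hH.card (by omega) hES hCE
      hcomm hc hXS hXn hXcom hXc hNX hNc (by rw [hEXinf, hWc])
      (fun Q hQ => hNc ▸ hE.2.1.2 Q hQ) hψ hψN (fun y hy => by
        rw [hEXinf] at hy ⊢; exact hψW y hy)
    obtain ⟨Ψ, hΨ, hΨe⟩ := extend_top hS hH.sat hNS (normalizerIn_eq_of_conj hNn) (n := 4)
      (fun i => if i = 0 then ⊥ else if i = 1 then U else if i = 2 then W
        else if i = 3 then X else N) rfl rfl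
      (fun i hi => by
        interval_cases i
        · simp [hUc]
        · simp [hUW, hWc, hUc, sq]
        · simp [hWX, hXc']
        · simp [hXN, hNc, hXc, pow_succ'])
      (fun n hn i hi y hy => by
        interval_cases i
        · simp only [if_true] at hy ⊢; exact hbotN n y hy
        · simp at hy ⊢; exact hUn n hn y hy
        · simp at hy ⊢; exact hWn n hn y hy
        · simp at hy ⊢; exact hXn n hn y hy)
      hψ hψN
      (fun i hi y hy => by
        interval_cases i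
        · simp only [if_true, Subgroup.mem_bot] at hy ⊢; subst hy; exact hψ.map_one
        · simp at hy ⊢; exact hψU y hy
        · simp at hy ⊢; exact hψW y hy
        · simp at hy ⊢; exact hψX y hy)
    exact ⟨Ψ, hΨ, fun y hy => by rw [hΨe y (hEN hy), hψe _ hy]⟩
  -- the torus
  have htor : ∀ t : ZMod p, t ≠ 0 → ∃ Ψ ∈ F.autGroup S,
      (∀ y : ↥S, (y : Ω) ∈ U → Ψ y = y ^ t.val) ∧ Ψ ⟨c, hWS hcW'⟩ = ⟨c, hWS hcW'⟩ ∧
        Ψ ⟨w, hES hwE⟩ = ⟨w, hES hwE⟩ ^ t⁻¹.val := by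
    intro t ht
    obtain ⟨β, hβ, hβc, hβz, hβw⟩ := hmat t 0 0 t⁻¹ (by rw [mul_inv_cancel₀ ht, mul_zero, sub_zero])
    rw [ZMod.val_zero, pow_zero, mul_one] at hβz
    rw [ZMod.val_zero, pow_zero, one_mul] at hβw
    have hm := isMor_autFun hES hβ
    have hzf : autFun β z = z ^ t.val := by
      rw [autFun_coe, hβz]; rfl
    have hcf : autFun β c = c := by rw [autFun_coe, hβc]
    have hwf : autFun β w = w ^ t⁻¹.val := by
      rw [autFun_coe, hβw]; rfl
    have hUf : ∀ y ∈ U, autFun β y = y ^ t.val := fun y hy => by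
      obtain ⟨k, rfl⟩ := Subgroup.mem_zpowers_iff.1 (hUgen.ge hy)
      rw [hm.map_zpow zz.2, hzf, ← zpow_natCast, ← zpow_natCast, ← zpow_mul, ← zpow_mul, mul_comm]
    obtain ⟨Ψ, hΨ, hΨe⟩ := hext β hβ (fun y hy => by rw [hUf y hy]; exact U.pow_mem hy _)
      fun y hy => by
        obtain ⟨i, hi⟩ := mem_step hS hWS hUW hcWU hcW' hcU' hy
        rw [← mul_inv_cancel_left (c ^ i) y, hm.map_mul (E.pow_mem cc.2 i) (hU2E hi),
          hm.map_pow cc.2, hcf]
        exact W.mul_mem (W.pow_mem hcW' i) (hUW (hUf _ hi ▸ U.pow_mem hi _))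
    refine ⟨Ψ, hΨ, fun y hy => Subtype.ext ?_, Subtype.ext ?_, Subtype.ext ?_⟩
    · rw [hΨe y (hU2E hy), hUf _ hy, Subgroup.coe_pow]
    · rw [hΨe ⟨c, hWS hcW'⟩ (hWE hcW'), hcf]
    · rw [hΨe ⟨w, hES hwE⟩ hwE, hwf, Subgroup.coe_pow]
  -- the element `r`
  set ws : ↥S := ⟨w, hES hwE⟩
  set cs : ↥S := ⟨c, hWS hcW'⟩
  set gs : ↥S := ⟨g, hg⟩
  set r : ↥S := ⁅ws, gs⁆
  have hrX : (r : Ω) ∈ X := hstepS hNS hXN hcNX hXn hNn w (hEN hwE) g hg
  have hrW : (r : Ω) ∉ W := by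
    intro h
    have hgw : cj g w ∈ E := by
      rw [show cj g w = ⁅w, g⁆⁻¹ * w by rw [cj_apply, commutatorElement_def]; group]
      exact E.mul_mem (E.inv_mem (hWE h)) hwE
    refine hgN (mem_normalizerIn.2 ⟨hg, Subgroup.mem_normalizer_iff_map_conj_eq.2
      (Subgroup.eq_of_le_of_card_ge ?_
        (by rw [Subgroup.card_map_of_injective (MulAut.conj g).injective]))⟩)
    conv_lhs => rw [hEgen]
    rw [Subgroup.map_sup, MonoidHom.map_zpowers]
    refine sup_le ?_ (Subgroup.zpowers_le.2 hgw)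
    rintro _ ⟨y, hy, rfl⟩
    exact hWE (hWn g hg y hy)
  set W' := W.subgroupOf S with hW'
  set U' := U.subgroupOf S with hU'
  haveI : W'.Normal := ⟨fun a ha b => hWn b b.2 _ ha⟩
  haveI : U'.Normal := ⟨fun a ha b => hUn b b.2 _ ha⟩
  have hbot : ∀ {y : ↥S}, (y : Ω) ∈ U → ∀ v, ⁅y, v⁆ ∈ (⊥ : Subgroup ↥S) := fun {y} hy v =>
    Subgroup.mem_bot.2 (commutatorElement_eq_one_iff_mul_comm.2
      (Subtype.ext (hUcen _ hy _ v.2)))
  have hNSs : Nat.card (N.subgroupOf S) = p ^ 4 := by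
    rw [Nat.card_congr (Subgroup.subgroupOfEquivOfLe hNS).toEquiv, hNc]
  have hgam : ∀ Ψ : MulAut ↥S, ∃ γ : ℕ, (gs ^ γ)⁻¹ * Ψ gs ∈ N.subgroupOf S := fun Ψ =>
    mem_step' hS le_top (by rw [Subgroup.card_top, hH.card, hNSs, ← pow_succ'])
      (Subgroup.mem_top gs) hgN (Subgroup.mem_top _)
  have hwr : ⁅ws, r⁆ ≠ 1 := fun h => hwXc _ hrX hrW
    (congrArg Subtype.val (commutatorElement_eq_one_iff_mul_comm.1 h))
  have hwrU : (⁅ws, r⁆ : ↥S).1 ∈ U := hNcomm w (hEN hwE) _ (hXN hrX)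
  -- the weights
  have hweights : ∀ (t : ZMod p), t ≠ 0 → ∀ (Ψ : MulAut ↥S),
      (∀ y : ↥S, (y : Ω) ∈ U → Ψ y = y ^ t.val) → Ψ ws = ws ^ t⁻¹.val →
      ∀ γ : ℕ, (gs ^ γ)⁻¹ * Ψ gs ∈ N.subgroupOf S →
      (γ : ZMod p) = t ^ 3 ∧ (r ^ ((t⁻¹.val : ℤ) * γ))⁻¹ * Ψ r ∈ W' := by
    intro t ht Ψ hΨU hΨw γ hγ
    have e1 : (r ^ ((t⁻¹.val : ℤ) * γ))⁻¹ * Ψ r ∈ W' := by
      rw [map_commutatorElement]
      refine comm_pow_congr _ ?_ ?_ (hUW (hNcomm _ (hXN hrX) w (hEN hwE)))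
        (hstepS hXS hWX hXc'.le hWn hXn _ hrX g hg)
      · rw [zpow_natCast, hΨw, inv_mul_cancel, commutatorElement_one_left]
        exact one_mem _
      · rw [zpow_natCast]
        exact hUW (hNcomm w (hEN hwE) _ hγ)
    have e2 : (⁅ws, r⁆ ^ ((t⁻¹.val : ℤ) * ((t⁻¹.val : ℤ) * γ)))⁻¹ * Ψ ⁅ws, r⁆ ∈
        (⊥ : Subgroup ↥S) := by
      rw [map_commutatorElement]
      refine comm_pow_congr _ ?_ ?_ (hbot hwrU _) (hbot hwrU _)
      · rw [zpow_natCast, hΨw, inv_mul_cancel, commutatorElement_one_left]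
        exact one_mem _
      · exact Subgroup.mem_bot.2 (commutatorElement_eq_one_iff_mul_comm.2
          (Subtype.ext (hWN _ e1 w (hEN hwE)).symm))
    have := exp_congr hS ⊥ (fun h => hwr (Subgroup.mem_bot.1 h)) e2 (b := (t.val : ℤ))
      (Subgroup.mem_bot.2 (by rw [zpow_natCast, hΨU _ hwrU, inv_mul_cancel]))
    push_cast [ZMod.natCast_zmod_val] at this
    refine ⟨?_, e1⟩
    have h3 := congrArg (fun v : ZMod p => t * (t * v)) this
    simp only [← mul_assoc, mul_assoc t t⁻¹, mul_inv_cancel₀ ht, one_mul, mul_one] at h3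
    rw [h3]; ring
  have hrg : ⁅(r : Ω), g⁆ ∈ U := by
    by_contra hcon
    obtain ⟨t, ht, ht5⟩ := exists_pow_ne (p := p) (k := 5) fun h => by
      have h2 := Nat.le_of_dvd (by omega) h
      have := hp.1.two_le
      rcases hp.1.odd_of_ne_two hH.p2 with ⟨m, rfl⟩
      rcases (show m = 1 ∨ m = 2 by omega) with rfl | rfl <;> norm_num at h
    obtain ⟨Ψ, -, hΨU, hΨc, hΨw⟩ := htor t ht
    obtain ⟨γ, hγ⟩ := hgam Ψ
    obtain ⟨hγ3, e1⟩ := hweights t ht Ψ hΨU hΨw γ hγ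
    have hrgW : (⁅r, gs⁆ : ↥S).1 ∈ W := hstepS hXS hWX hXc'.le hWn hXn _ hrX g hg
    have e3 : (⁅r, gs⁆ ^ (((t⁻¹.val : ℤ) * γ) * γ))⁻¹ * Ψ ⁅r, gs⁆ ∈ U' := by
      rw [map_commutatorElement]
      refine comm_pow_congr _ (hWSc _ e1 _ (Ψ gs).2) ?_ ?_ (hWSc _ hrgW g hg)
      · rw [zpow_natCast]
        exact hNcomm _ (hXN hrX) _ hγ
      · exact hNcomm _ (hWNle hrgW) _ (hXN hrX)
    have e4 : (⁅r, gs⁆ ^ (1 : ℤ))⁻¹ * Ψ ⁅r, gs⁆ ∈ U' := by
      rw [zpow_one]
      obtain ⟨i, hi⟩ := mem_step hS hWS hUW hcWU hcW' hcU' hrgW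
      have hi' : (cs ^ i)⁻¹ * ⁅r, gs⁆ ∈ U' := hi
      have h1 : Ψ ⁅r, gs⁆ = cs ^ i * ((cs ^ i)⁻¹ * ⁅r, gs⁆) ^ t.val := by
        conv_lhs => rw [← mul_inv_cancel_left (cs ^ i) ⁅r, gs⁆]
        rw [map_mul, map_pow, hΨc, hΨU ((cs ^ i)⁻¹ * ⁅r, gs⁆) hi']
      rw [h1, ← mul_assoc, show (⁅r, gs⁆)⁻¹ * cs ^ i = ((cs ^ i)⁻¹ * ⁅r, gs⁆)⁻¹ by group]
      exact mul_mem (inv_mem hi') (pow_mem hi' _)
    have := exp_congr hS U' (fun h => hcon h) e3 e4
    push_cast [ZMod.natCast_zmod_val, hγ3] at this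
    refine ht5 ?_
    rw [show t⁻¹ * t ^ 3 * t ^ 3 = (t⁻¹ * t) * t ^ 5 by ring, inv_mul_cancel₀ ht, one_mul] at this
    exact this
  obtain ⟨m, hm⟩ := exists_adjust hUc (hNcomm _ (hXN hrX) w (hEN hwE))
    (fun h => hwXc _ hrX hrW (commutatorElement_eq_one_iff_mul_comm.1 h).symm) hrg
    fun v hv => hUcen v hv w (hES hwE)
  set s : ↥S := ws ^ m * gs with hsdef
  have hsN : (s : Ω) ∉ N := fun h =>
    hgN ((N.mul_mem_cancel_left (N.pow_mem (hEN hwE) m)).1 h)
  have hrs : Commute (r : Ω) (s : Ω) := commutatorElement_eq_one_iff_mul_comm.1 hm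
  -- `W` is not central
  have hcg : ⁅cs, gs⁆ ≠ 1 := by
    intro hcg
    have hWs : ∀ v ∈ W, v * s = (s : Ω) * v := fun v hv => by
      have hcs : c * g = g * c :=
        congrArg Subtype.val (commutatorElement_eq_one_iff_mul_comm.1 hcg)
      have hle : W ≤ Subgroup.centralizer ({g} : Set Ω) := hWgen.le.trans (sup_le
        (fun z hz => Subgroup.mem_centralizer_singleton_iff.2 (hUcen z hz g hg))
        (Subgroup.zpowers_le.2 (Subgroup.mem_centralizer_singleton_iff.2 hcs)))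
      exact ((Commute.pow_right (hWN v hv w (hEN hwE) : Commute v w) m).mul_right
        (Subgroup.mem_centralizer_singleton_iff.1 (hle hv) : Commute v g)).eq
    have hXs : ∀ v ∈ X, v * s = (s : Ω) * v := fun v hv => by
      have hle : X ≤ Subgroup.centralizer ({(s : Ω)} : Set Ω) :=
        (eq_sup_of_step hS hXS hWX hXc'.le hrX hrW).ge.trans (sup_le
          (fun z hz => Subgroup.mem_centralizer_singleton_iff.2 (hWs z hz))
          (Subgroup.zpowers_le.2 (Subgroup.mem_centralizer_singleton_iff.2 hrs.eq)))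
      exact Subgroup.mem_centralizer_singleton_iff.1 (hle hv)
    exact false_of_big_centraliser hH hXS hXc hXcom hrX (hES hwE) (hwXc _ hrX hrW) s.2
      (fun h => hsN (hXN h)) hXs
  have hcgU : (⁅cs, gs⁆ : ↥S).1 ∈ U := hWSc c hcW' g hg
  -- so `p = 3`
  have hp3 : p = 3 := by
    by_contra hne
    obtain ⟨t, ht, ht2⟩ := exists_pow_ne (p := p) (k := 2) fun h => by
      have h2 := Nat.le_of_dvd (by omega) h
      have := hp.1.two_le
      have := hH.p2
      omega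
    obtain ⟨Ψ, -, hΨU, hΨc, hΨw⟩ := htor t ht
    obtain ⟨γ, hγ⟩ := hgam Ψ
    have e1 : (⁅cs, gs⁆ ^ ((1 : ℤ) * γ))⁻¹ * Ψ ⁅cs, gs⁆ ∈ (⊥ : Subgroup ↥S) := by
      rw [map_commutatorElement]
      refine comm_pow_congr _ ?_ ?_ (hbot hcgU _) (hbot hcgU _)
      · rw [zpow_one, hΨc, inv_mul_cancel, commutatorElement_one_left]
        exact one_mem _
      · rw [zpow_natCast]
        exact Subgroup.mem_bot.2 (commutatorElement_eq_one_iff_mul_comm.2
          (Subtype.ext (hWN c hcW' _ hγ)))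
    have := exp_congr hS ⊥ (fun h => hcg (Subgroup.mem_bot.1 h)) e1 (b := (t.val : ℤ))
      (Subgroup.mem_bot.2 (by rw [zpow_natCast, hΨU _ hcgU, inv_mul_cancel]))
    push_cast [ZMod.natCast_zmod_val, (hweights t ht Ψ hΨU hΨw γ hγ).1, one_mul] at this
    refine ht2 (mul_left_cancel₀ ht ?_)
    rw [mul_one, ← pow_succ', this]
  -- the presentation
  set r' : ↥S := ⁅ws, s⁆ with hr'def
  have hrq : r' = ws ^ m * r * (ws ^ m)⁻¹ := by
    rw [hr'def, hsdef]; simp only [r, commutatorElement_def]; group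
  set u : ↥S := r⁻¹ * r'
  have hu : (u : Ω) ∈ U := by
    show ((r : Ω)⁻¹ * r' : Ω) ∈ U
    have h1 : (⁅(r : Ω)⁻¹, w ^ m⁆ : Ω) ∈ U :=
      hNcomm _ (N.inv_mem (hXN hrX)) _ (N.pow_mem (hEN hwE) m)
    rw [hrq]
    simpa [commutatorElement_def, mul_assoc, ws] using h1
  have hrqu : r' = r * u := (mul_inv_cancel_left r r').symm
  have hr'X : (r' : Ω) ∈ X := hrqu ▸ X.mul_mem hrX (hWX (hUW hu))
  have hr'W : (r' : Ω) ∉ W := fun h => hrW (by
    have := W.mul_mem h (W.inv_mem (hUW hu))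
    rw [hrqu, Subgroup.coe_mul, mul_inv_cancel_right] at this
    exact this)
  have hXU : ∀ y ∈ S, ⁅(r' : Ω), y⁆ ∈ U := by
    set π := QuotientGroup.mk' U'
    intro y hy
    obtain ⟨j, hj⟩ := mem_step hS le_rfl hNS hcSN hg hgN hy
    set n : ↥S := (gs ^ j)⁻¹ * ⟨y, hy⟩
    have hn : (n : Ω) ∈ N := hj
    have key : ∀ {a b : ↥S}, ⁅(a : Ω), (b : Ω)⁆ ∈ U → Commute (π a) (π b) := fun {a b} h => by
      rw [← commutatorElement_eq_one_iff_commute, ← map_commutatorElement]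
      exact (QuotientGroup.eq_one_iff _).2 h
    have hcom : Commute (π r') (π ⟨y, hy⟩) := by
      rw [show (⟨y, hy⟩ : ↥S) = gs ^ j * n from (mul_inv_cancel_left _ _).symm, map_mul π,
        map_pow, hrqu, map_mul π]
      refine Commute.mul_left ?_ ?_
      · exact ((key hrg).pow_right j).mul_right (key (hNcomm _ (hXN hrX) _ hn))
      · rw [show π u = 1 from (QuotientGroup.eq_one_iff _).2 hu]
        exact Commute.one_left _
    have h1 : π ⁅r', (⟨y, hy⟩ : ↥S)⁆ = 1 := by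
      rw [map_commutatorElement, commutatorElement_eq_one_iff_commute]; exact hcom
    exact (QuotientGroup.eq_one_iff ⁅r', (⟨y, hy⟩ : ↥S)⁆).1 h1
  have hU'c : Nat.card U' = p := by
    rw [hU', Nat.card_congr (Subgroup.subgroupOfEquivOfLe hUS).toEquiv, hUc]
  have hsc : ⁅s, cs⁆ ≠ 1 := fun h => hcg (by
    rw [commutatorElement_eq_one_iff_commute] at h ⊢
    have hwc : Commute (ws ^ m) cs :=
      Commute.pow_left (Subtype.ext (hcomm w hwE c (hWE hcW'))) m
    have := hwc.inv_left.mul_left h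
    rw [hsdef, inv_mul_cancel_left] at this
    exact this.symm)
  have Tt : Tri p U' ws s cs := by
    refine ⟨hH.card, hU'c, fun v hv => Subgroup.mem_center_iff.2 fun y =>
      Subtype.ext (hUcen _ hv _ y.2).symm, fun h => hr'W (hUW h), fun y => hXU y y.2, ?_,
      fun h => hwXc _ hr'X hr'W (congrArg Subtype.val (commutatorElement_eq_one_iff_mul_comm.1 h)),
      commutatorElement_eq_one_iff_mul_comm.2 (Subtype.ext (hcomm w hwE c (hWE hcW'))), ?_, hsc,
      commutatorElement_eq_one_iff_mul_comm.2 (Subtype.ext (hXcom _ hr'X c (hWX hcW'))), ?_⟩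
    · have h1 : Commute r s := Subtype.ext hrs.eq
      have h2 : Commute u s := Subtype.ext (hUcen _ hu _ s.2)
      rw [show ⁅ws, s⁆ = r * u from hrqu]
      exact commutatorElement_eq_one_iff_commute.2 (h1.mul_left h2).symm
    · rw [← commutatorElement_inv]
      exact inv_mem (hWSc c hcW' _ s.2)
    · refine eq_top_iff.2 fun y _ => ?_
      set G := Subgroup.closure {ws, s, cs} ⊔ (Subgroup.zpowers ⁅ws, s⁆ ⊔ U') with hG
      have hwG : ws ∈ G := Subgroup.mem_sup_left (Subgroup.subset_closure (Or.inl rfl))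
      have hcG : cs ∈ G :=
        Subgroup.mem_sup_left (Subgroup.subset_closure (Or.inr (Or.inr rfl)))
      have hgG : gs ∈ G := by
        have h1 : s ∈ G := Subgroup.mem_sup_left (Subgroup.subset_closure (Or.inr (Or.inl rfl)))
        have := G.mul_mem (G.inv_mem (G.pow_mem hwG m)) h1
        rwa [hsdef, inv_mul_cancel_left] at this
      have hrG : r' ∈ G := Subgroup.mem_sup_right (Subgroup.mem_sup_left (Subgroup.mem_zpowers _))
      have hUG : U ≤ G.map S.subtype := fun v hv =>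
        ⟨⟨v, hUS hv⟩, Subgroup.mem_sup_right (Subgroup.mem_sup_right hv), rfl⟩
      have hWG : W ≤ G.map S.subtype :=
        hWgen.le.trans (sup_le hUG (Subgroup.zpowers_le.2 ⟨cs, hcG, rfl⟩))
      have hXG : X ≤ G.map S.subtype :=
        (eq_sup_of_step hS hXS hWX hXc'.le hr'X hr'W).ge.trans
          (sup_le hWG (Subgroup.zpowers_le.2 ⟨r', hrG, rfl⟩))
      have hEG : E ≤ G.map S.subtype :=
        hEgen.le.trans (sup_le hWG (Subgroup.zpowers_le.2 ⟨ws, hwG, rfl⟩))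
      have hNG : N ≤ G.map S.subtype := hNX.le.trans (sup_le hEG hXG)
      have hSG : S ≤ G.map S.subtype := (eq_sup_of_step hS le_rfl hNS hcSN hg hgN).ge.trans
        (sup_le hNG (Subgroup.zpowers_le.2 ⟨gs, hgG, rfl⟩))
      exact (Subgroup.mem_map_iff_mem S.subtype_injective).1 (hSG y.2)
  refine ⟨hp3, ⟨U', ws, s, cs, Tt⟩, ?_⟩
  -- moves
  subst hp3
  have hUT : ∀ v ∈ U, v ∈ tMoves F := fun v hv => by
    have hgen := zpowers_eq_of_card hUc hwrU fun h => hwr (Subtype.ext h)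
    obtain ⟨k, rfl⟩ := Subgroup.mem_zpowers_iff.1 (hgen.ge hv)
    refine zpow_mem ?_ k
    show ((⁅ws, r⁆ : ↥S) : Ω) ∈ tMoves F
    exact commutator_mem_tMoves ws.2 r.2
  have hwT : w ∈ tMoves F := by
    obtain ⟨Ψ, hΨA, -, -, hΨw⟩ := htor (-1) (neg_ne_zero.2 one_ne_zero)
    rw [show (-1 : ZMod 3)⁻¹.val = 2 by rw [inv_neg_one]; rfl] at hΨw
    have := move_mem_tMoves hΨA (hES hwE)
    rwa [autFun_of_mem Ψ (hES hwE), hΨw, Subgroup.coe_pow, sq, mul_inv_cancel_right] at this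
  intro φ hφ
  obtain ⟨β, hβc, hβz, hβw, hh1, hh2⟩ := hsplit ⟨φ, hφ⟩
  set h : F.autGroup E := β⁻¹ * ⟨φ, hφ⟩ with hhdef
  -- `h` preserves `U` and `W`
  have hRdis : ∀ {b : F.autGroup E}, b ∈ (R : Subgroup (F.autGroup E)) → ∀ y : E,
      TransvectionStrong.dis (b : MulAut E) y ∈ U.subgroupOf E ∧
        (y ∈ W.subgroupOf E → (b : MulAut E) y = y) := by
    intro b hb y
    obtain ⟨n, hnS, hnn, hne⟩ := mem_autInducedBy.1 ((hR b).1 hb)
    have hn := mem_normalizerIn.2 ⟨hnS, hnn⟩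
    have hval : (((b : MulAut E) y : E) : Ω) = cj n y := by rw [← autFun_coe, hne y y.2]
    refine ⟨Subgroup.mem_subgroupOf.2 ?_, fun hy => Subtype.ext ?_⟩
    · rw [TransvectionStrong.dis_apply, Subgroup.coe_mul, Subgroup.coe_inv, hval]
      exact hmoveU n hn y y.2
    · rw [hval, hWfix n hn y hy]
  have hhU : ∀ y ∈ U, autFun (h : MulAut E) y ∈ U := by
    intro y hy
    obtain ⟨v, hv⟩ := (T.range_eq.ge (show (⟨y, hU2E hy⟩ : E) ∈ U.subgroupOf E from hy) :
      (⟨y, hU2E hy⟩ : E) ∈ (TransvectionStrong.dis ((aa : F.autGroup E) : MulAut E)).range)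
    have h1 := (hRdis hh1 ((h : MulAut E) v)).1
    rw [Subgroup.coe_mul, Subgroup.coe_mul, Subgroup.coe_inv, TransvectionStrong.dis_conj,
      MulAut.inv_apply_self, hv] at h1
    rw [autFun_of_mem _ (hU2E hy)]
    exact h1
  have hhW : ∀ y ∈ W, autFun (h : MulAut E) y ∈ W := by
    intro y hy
    rw [autFun_of_mem _ (hWE hy)]
    have h1 := (hRdis hh2 ⟨y, hWE hy⟩).2 hy
    rw [Subgroup.coe_mul, Subgroup.coe_mul, Subgroup.coe_inv, MulAut.mul_apply,
      MulAut.mul_apply] at h1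
    have h2 := congrArg (h : MulAut E) h1
    rw [MulAut.apply_inv_self] at h2
    have h3 : (h : MulAut E) ⟨y, hWE hy⟩ ∈
        (TransvectionStrong.dis ((aa : F.autGroup E) : MulAut E)).ker := by
      rw [MonoidHom.mem_ker, TransvectionStrong.dis_apply, h2, inv_mul_cancel]
    rw [T.ker_eq] at h3
    exact h3
  obtain ⟨Ψ, hΨA, hΨe⟩ := hext h h.2 hhU hhW
  have hhm : (h : MulAut E) ∈ movesIn E (tMoves F) := fun y hy => by
    have h1 := hΨe ⟨y, hES hy⟩ hy
    simp only at h1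
    rw [← h1, ← autFun_coe Ψ ⟨y, hES hy⟩]
    exact move_mem_tMoves hΨA (hES hy)
  have hDT : ∀ v : E, v ∈ Subgroup.zpowers zz ⊔ Subgroup.zpowers ww → (v : Ω) ∈ tMoves F := by
    intro v hv
    have hle : Subgroup.zpowers zz ⊔ Subgroup.zpowers ww ≤ (tMoves F).subgroupOf E :=
      sup_le (Subgroup.zpowers_le.2 (hUT z hzU')) (Subgroup.zpowers_le.2 hwT)
    exact hle hv
  have hβm : ((β : F.autGroup E) : MulAut E) ∈ movesIn E (tMoves F) := by
    intro y hy
    let κ : E →* E := MonoidHom.mk' (fun v => (β : MulAut E) v * v⁻¹) fun a b => by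
      rw [map_mul, mul_inv, mul_mul_mul_comm]
    have hle : E.subgroupOf E ≤ ((tMoves F).subgroupOf E).comap κ := by
      have htop : W.subgroupOf E ⊔ Subgroup.zpowers ww = E.subgroupOf E := by
        refine le_antisymm (fun v _ => v.2) fun v _ => ?_
        obtain ⟨i, hi⟩ := mem_step hS hES hWE hcEW hwE hwW' v.2
        rw [← mul_inv_cancel_left (ww ^ i) v]
        exact Subgroup.mul_mem _
          (Subgroup.mem_sup_right (pow_mem (Subgroup.mem_zpowers ww) i)) (Subgroup.mem_sup_left hi)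
      rw [← htop]
      refine sup_le (fun v hv => ?_) (Subgroup.zpowers_le.2 ?_)
      · obtain ⟨i, hi⟩ := mem_step hS hWS hUW hcWU hcW' hcU' (hv : (v : Ω) ∈ W)
        rw [← mul_inv_cancel_left (cc ^ i) v]
        refine mul_mem (pow_mem ?_ i) ?_
        · show (((β : MulAut E) cc * cc⁻¹ : E) : Ω) ∈ tMoves F
          rw [hβc, mul_inv_cancel]
          exact one_mem _
        · obtain ⟨k, hk⟩ := Subgroup.mem_zpowers_iff.1 (hUgen.ge hi)
          have heq : (cc ^ i)⁻¹ * v = zz ^ k := Subtype.ext (by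
            rw [Subgroup.coe_zpow, Subgroup.coe_mul, Subgroup.coe_inv, Subgroup.coe_pow]
            exact hk.symm)
          rw [heq]
          refine zpow_mem ?_ k
          show (((β : MulAut E) zz * zz⁻¹ : E) : Ω) ∈ tMoves F
          exact mul_mem (hDT _ hβz) (inv_mem (hUT z hzU'))
      · show (((β : MulAut E) ww * ww⁻¹ : E) : Ω) ∈ tMoves F
        exact mul_mem (hDT _ hβw) (inv_mem hwT)
    have h1 := hle (show (⟨y, hy⟩ : E) ∈ E.subgroupOf E from hy)
    rw [autFun_of_mem _ hy]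
    exact h1
  have heq : φ = (β : MulAut E) * (h : MulAut E) := by
    rw [hhdef, Subgroup.coe_mul, Subgroup.coe_inv, mul_inv_cancel_left]
  rw [heq]
  exact mul_mem hβm hhm

end CfsgLib.Fusion.OrderFive
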