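import Mathlib
import Cfsg.Agent.S5238
import Cfsg.Agent.Lib.Fusion.OrderFiveClassFour

/-!
# Pearls over a group of order `p ^ 5`
-/

set_option autoImplicit false
set_option linter.unusedSectionVars false
set_option linter.style.haveILetI false

namespace CfsgLib.Fusion.OrderFive

open Cfsg Cfsg.FusionSystem CfsgLib.Fusion CfsgLib.Fusion.MaxClassSmall
open CfsgLib.PGroups.Pearl CfsgLib.FgsC.MaxClassSection
open CfsgLib.PGroups CfsgLib.PGroups.TwoStepConst CfsgLib.PGroups.MaxClassWeights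
open scoped commutatorElement

universe u

variable {Ω : Type u} [Group Ω] {S : Subgroup Ω} [Finite S] {p : ℕ} [hp : Fact p.Prime]
  {F : FusionSystem S} {E : Subgroup Ω}

/-- The two ways of being a pearl. -/
def IsPearl (p : ℕ) (E : Subgroup Ω) : Prop :=
  (Nat.card E = p ^ 2 ∧ ∀ x ∈ E, x ^ p = 1 ∧ IsMulCommutative ↥E) ∨
    (Nat.card E = p ^ 3 ∧ ¬ IsMulCommutative ↥E)

theorem mc_of_pearl (hH : Hyp F p) (hE : F.IsEssential p E) (hpe : IsPearl p E) :
    MC ↥S p 5 := by
  have hmax := (Cfsg.Agent.S5238.result p hH.pgroup F hH.sat hH.p2 E hE hpe).1 5 hH.card (by omega)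
  haveI := (IsPGroup.of_card hH.card : IsPGroup p ↥S).isNilpotent
  refine ⟨hH.card, le_antisymm (CfsgLib.PGroups.nilpotencyClass_le_sub_one (by omega) hH.card) ?_,
    by omega⟩
  by_contra hc
  apply hmax
  rw [← Subgroup.top_subtype_lowerCentralSeries,
    Subgroup.map_eq_bot_iff_of_injective _ S.subtype_injective]
  exact Subgroup.lowerCentralSeries_eq_bot_iff_nilpotencyClass_le.2 (by omega)

variable (H : MC ↥S p 5)
include H

theorem card_lay3 : Nat.card (lay S 3) = p := by
  rw [lay_card H (by omega) (by omega), show 5 - 1 - 3 = 1 from rfl, pow_one]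

theorem lay3_fix {g : Ω} (hg : g ∈ S) {z : Ω} (hz : z ∈ lay S 3) : cj g z = z := by
  have h1 : ⁅z, g⁆ ∈ (⊥ : Subgroup Ω) := lay_bot H (i := 4) le_rfl ▸ lay_comm hz hg
  exact cj_fixed_iff.2 (commutatorElement_eq_one_iff_mul_comm.1 (Subgroup.mem_bot.1 h1)).symm

theorem lay3_le (hE : F.IsEssential p E) : lay S 3 ≤ E := fun z hz =>
  centric_centralizer_le hE.1 (mem_centralizerIn.2 ⟨lay_le _ hz, fun y hy => by
    have h := lay3_fix H (hE.1.1 hy) hz
    rw [cj_apply, mul_inv_eq_iff_eq_mul] at h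
    rw [cj_apply, ← h, mul_inv_cancel_right]⟩)

/-- An element of an essential subgroup outside the big centraliser. -/
theorem exists_outside (hE : F.IsEssential p E)
    (h : ¬ (lay S 2 ≤ E ∧ ∀ y ∈ E, ∀ l ∈ lay S 2, l * y = y * l)) :
    ∃ s : ↥S, (s : Ω) ∈ E ∧ s ∉ bigC S := by
  by_contra! hcon
  have hc : ∀ y ∈ E, ∀ l ∈ lay S 2, l * y = y * l := by
    intro y hy l hl
    obtain ⟨hlS, hl'⟩ := mem_lay'.1 hl
    exact congrArg Subtype.val (commutatorElement_eq_one_iff_mul_comm.1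
      (bigC_centralises H (hcon ⟨y, hE.1.1 hy⟩ hy) hl'))
  refine h ⟨fun l hl => centric_centralizer_le hE.1 (mem_centralizerIn.2 ⟨lay_le _ hl,
    fun y hy => ?_⟩), hc⟩
  rw [cj_apply, hc y hy l hl, mul_inv_cancel_right]

/-- The weight equation of the centre. -/
theorem zeta_eq (hH : Hyp F p) {Ψ : MulAut ↥S} {s : ↥S} (hs : s ∉ bigC S) {u : ℕ}
    (hu : (s ^ u)⁻¹ * Ψ s ∈ bigC S) {a : ℕ} (ha : ∀ z : ↥S, (z : Ω) ∈ lay S 3 → Ψ z = z ^ a) :
    (a : ZMod p) = (u : ZMod p) ^ 5 := by
  obtain ⟨z, hz, hz'⟩ := exists_layer H (i := 3) (by omega)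
  obtain ⟨-, -, -, h3⟩ := weights H hH Ψ hs hu
  have hz1 : z ∉ (⊥ : Subgroup ↥S) := fun h => hz' (by
    rw [H.lcs_eq_bot (i := 3 + 1) (by omega)]; exact h)
  have := exp_congr hH.pgroup ⊥ hz1 (a := (a : ℤ)) (b := ((u ^ 5 : ℕ) : ℤ)) (y := Ψ z)
    (Subgroup.mem_bot.2 (by rw [zpow_natCast, ha z (mem_lay.2 hz), inv_mul_cancel]))
    (Subgroup.mem_bot.2 (by rw [zpow_natCast, h3 z hz, inv_mul_cancel]))
  push_cast at this
  exact this

/-- An elementary pearl spreads a torus over `S`. -/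
theorem elem_pearl (hH : Hyp F p) (hE : F.IsEssential p E) (hc : Nat.card E = p ^ 2) :
    ∃ s : ↥S, (s : Ω) ∈ E ∧ s ∉ bigC S ∧ E = lay S 3 ⊔ Subgroup.zpowers (s : Ω) ∧
      ∀ t : ZMod p, t ≠ 0 → ∃ Ψ ∈ F.autGroup S, Ψ s = s ^ t⁻¹.val ∧
        ∀ z : ↥S, (z : Ω) ∈ lay S 3 → Ψ z = z ^ t.val := by
  have hS := hH.pgroup
  have hES := hE.1.1
  have := finite_of_le hES
  obtain ⟨hel, -⟩ := SmallEss.order_p2_essential hS hH.sat hE hc
  have hcomm : ∀ a ∈ E, ∀ b ∈ E, a * b = b * a := fun a ha b hb =>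
    congrArg Subtype.val (hel.1.is_comm.comm ⟨a, ha⟩ ⟨b, hb⟩)
  set Z := lay S 3 with hZdef
  set L := lay S 2 with hLdef
  have hZc : Nat.card Z = p := card_lay3 H
  have hLc : Nat.card L = p ^ 2 := by rw [hLdef, lay_card H (by omega) (by omega)]
  have hZE : Z ≤ E := lay3_le H hE
  have hZL : Z ≤ L := lay_anti (by omega)
  have := finite_of_le (lay_le 3 : Z ≤ S)
  obtain ⟨g, hg, hgE⟩ := SetLike.exists_of_lt (normalizerIn_gt hS (essential_lt hS hH.sat hE))
  obtain ⟨e, he, heK, f, hf, hfJ, -, Y, hY, -, hδ, -⟩ :=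
    exists_frame (K := ⊥) (J := Z) hS hH.sat hE (n := 0) (fun _ => ⊥) rfl rfl (by omega)
      (fun α hα i _ x hx => by
        rw [Subgroup.mem_bot] at hx ⊢
        rw [hx]
        exact (isMor_autFun hES hα).map_one)
      bot_le hZE (by rw [hZc, Subgroup.card_bot, mul_one]) (by rw [hc, hZc, sq])
      (fun x hx => Subgroup.mem_bot.2 (hel.2 x hx))
      (fun x hx y hy => Subgroup.mem_bot.2
        (commutatorElement_eq_one_iff_mul_comm.2 (hcomm x hx y hy))) hg hgE
      (fun x hx => lay_conj (normalizerIn_le hg) hx)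
  have hgen : Z ⊔ Subgroup.zpowers f = E :=
    eq_sup_of_step hS hES hZE (by rw [hc, hZc, sq]) hf hfJ
  set s : ↥S := ⟨f, hES hf⟩
  have hsC : s ∉ bigC S := by
    intro hsC
    obtain ⟨s', hs'E, hs'C⟩ := exists_outside H hE fun h => by
      have heq : L = E := eq_of_le_of_card hES h.1 (by rw [hc, hLc])
      have hle : (bigC S).map S.subtype ≤ E := by
        rintro _ ⟨a, ha, rfl⟩
        refine centric_centralizer_le hE.1 (mem_centralizerIn.2 ⟨a.2, fun y hy => ?_⟩)
        obtain ⟨hyS, hy'⟩ := mem_lay'.1 (heq.ge hy : y ∈ L)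
        rw [cj_apply, mul_inv_eq_iff_eq_mul]
        exact (congrArg Subtype.val (commutatorElement_eq_one_iff_mul_comm.1
          (bigC_centralises H ha hy'))).symm
      have := Subgroup.card_le_of_le hle
      rw [Subgroup.card_map_of_injective S.subtype_injective, card_bigC H, hc,
        Nat.pow_le_pow_iff_right hp.1.one_lt] at this
      omega
    refine hs'C ?_
    have hle : E.subgroupOf S ≤ bigC S := by
      intro y hy
      have h1 : E ≤ (bigC S).map S.subtype := hgen ▸ sup_le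
        (Subgroup.map_mono ((Subgroup.lowerCentralSeries_antitone _ (by omega : 1 ≤ 3)).trans
          (lcs_one_le 1)))
        (Subgroup.zpowers_le.2 ⟨s, hsC, rfl⟩)
      exact (Subgroup.mem_map_iff_mem S.subtype_injective).1 (h1 hy)
    exact hle hs'E
  -- the normaliser
  set N := normalizerIn S E with hNdef
  have hLN : L ≤ N := fun l hl => mem_norm hES (lay_le _ hl) fun y hy =>
    hZE (lay_comm hl (hES hy))
  have hEN : E ≤ N := le_normalizerIn hES
  have hNS : N ≤ S := normalizerIn_le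
  have := finite_of_le hNS
  have hNle : Nat.card N ≤ p ^ 3 := by
    have hm : ∀ x : N, f⁻¹ * cj (x : Ω) f ∈ Z := fun x => by
      refine SmallEss.step_triv hS hES hZE (by rw [hc, hZc, sq]) (hNS x.2)
        (fun a ha => lay_conj (hNS x.2) ha) (fun b hb => cj_mem_normalizerIn x.2 hb) f hf
    let φ : N →* Z := MonoidHom.mk' (fun x => ⟨f⁻¹ * cj (x : Ω) f, hm x⟩) fun x y => by
      refine Subtype.ext ?_
      show f⁻¹ * cj ((x : Ω) * y) f = f⁻¹ * cj (x : Ω) f * (f⁻¹ * cj (y : Ω) f)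
      have h1 := lay3_fix H (hNS x.2) (hm y)
      rw [cj_mul]
      conv_lhs => rw [show cj (y : Ω) f = f * (f⁻¹ * cj (y : Ω) f) from
        (mul_inv_cancel_left _ _).symm]
      rw [cj_map_mul, h1, ← mul_assoc]
    have hker : φ.ker.map N.subtype ≤ E := by
      rintro _ ⟨x, hx, rfl⟩
      refine centric_centralizer_le hE.1 (mem_centralizerIn.2 ⟨hNS x.2, fun y hy => ?_⟩)
      have hfx : cj (x : Ω) f = f := (inv_mul_eq_one.1 (congrArg Subtype.val hx :)).symm
      obtain ⟨i, hi⟩ := mem_step hS hES hZE (by rw [hc, hZc, sq]) hf hfJ hy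
      show cj (x : Ω) y = y
      rw [← mul_inv_cancel_left (f ^ i) y, cj_map_mul, lay3_fix H (hNS x.2) hi,
        show cj (x : Ω) (f ^ i) = cj (x : Ω) f ^ i from map_pow (MulAut.conj (x : Ω)) f i, hfx]
    have h1 := φ.ker.card_mul_index
    rw [Subgroup.index_ker] at h1
    have h2 := Subgroup.card_le_of_le hker
    rw [Subgroup.card_map_of_injective N.subtype_injective, hc] at h2
    have h3 := Subgroup.card_le_card_group φ.range
    rw [hZc] at h3
    rw [← h1, pow_succ p 2]
    exact Nat.mul_le_mul h2 h3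
  have hfL : f ∉ L := fun h => hsC (lcs_one_le 1 (mem_anti (by omega : 1 ≤ 2) (mem_lay.1 (h : (s : Ω) ∈ lay S 2))))
  have hlt : L < E ⊔ L := lt_of_le_of_ne le_sup_right fun h =>
    hfL (h.ge (Subgroup.mem_sup_left hf))
  have hsup : E ⊔ L = N := by
    refine eq_of_le_of_card hNS (sup_le hEN hLN) (hNle.trans ?_)
    exact pow_succ_le (sup_le hES (lay_le _)) hS
      (hLc ▸ card_lt_of_lt (sup_le hES (lay_le _)) hlt)
  have hNc : Nat.card N = p ^ 3 := by
    refine le_antisymm hNle ?_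
    rw [← hsup]
    exact pow_succ_le (sup_le hES (lay_le _)) hS
      (hLc ▸ card_lt_of_lt (sup_le hES (lay_le _)) hlt)
  have hinf : E ⊓ L = Z := by
    refine (eq_of_le_of_card ((inf_le_left : E ⊓ L ≤ E).trans hES) (le_inf hZE hZL) ?_).symm
    obtain ⟨j, hj, hjc⟩ := dvd_pow_cases (inf_le_left : E ⊓ L ≤ E) hc
    have hj2 : j ≠ 2 := fun h2 => hfL
      ((eq_of_le_of_card hES (inf_le_left : E ⊓ L ≤ E) (by rw [hc, hjc, h2])).ge hf).2
    rw [hjc, hZc]
    exact (Nat.pow_le_pow_right hp.1.pos (show j ≤ 1 by omega)).trans (pow_one p).le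
  refine ⟨s, hf, hsC, hgen.symm, fun t ht => ?_⟩
  obtain ⟨δ, hδY, hδe, hδf, hδJ⟩ := hδ t ht
  rw [Subgroup.mem_bot, inv_mul_eq_one] at hδe hδf
  have hδA := hY hδY
  have hδm := isMor_autFun hES hδA
  have hδz : ∀ z ∈ Z, autFun δ z = z ^ t.val := fun z hz => by
    obtain ⟨k, rfl⟩ := Subgroup.mem_zpowers_iff.1
      ((zpowers_eq_of_card hZc he (fun h => heK (Subgroup.mem_bot.2 h))).ge hz)
    rw [hδm.map_zpow (hZE he), ← hδe, ← zpow_natCast, ← zpow_natCast, ← zpow_mul, ← zpow_mul,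
      mul_comm]
  -- to the normaliser
  obtain ⟨ψ, hψ, hψe, hψN⟩ := extend_series hS hH.sat hE.2.1 (n := 2)
    (fun i => if i = 0 then ⊥ else if i = 1 then Z else E) rfl rfl
    (fun i hi => by
      interval_cases i <;> simp [hZE, hZc, hc, sq])
    (fun x hx i hi y hy => by
      interval_cases i
      · simp only [if_true, Subgroup.mem_bot] at hy ⊢; subst hy; rw [cj_apply]; group
      · simp only [one_ne_zero, if_false, if_true] at hy ⊢
        exact lay_conj (normalizerIn_le hx) hy)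
    hδm (fun y hy => autFun_mem δ hy)
    (fun i hi y hy => by
      interval_cases i
      · simp only [if_true, Subgroup.mem_bot] at hy ⊢; subst hy; exact hδm.map_one
      · simp only [one_ne_zero, if_false, if_true] at hy ⊢
        exact hδJ y hy)
  have hψW : ∀ w ∈ E ⊓ L, ψ w ∈ E ⊓ L := fun w hw => by
    rw [hinf] at hw ⊢
    rw [hψe w (hZE hw)]
    exact hδJ w hw
  have hLcomm : ∀ a ∈ L, ∀ b ∈ L, a * b = b * a := by
    intro a ha b hb
    obtain ⟨haS, ha'⟩ := mem_lay'.1 ha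
    obtain ⟨hbS, hb'⟩ := mem_lay'.1 hb
    exact congrArg Subtype.val (commutatorElement_eq_one_iff_mul_comm.1
      (lcs_one_comm H (mem_anti (by omega : 1 ≤ 2) ha') (mem_anti (by omega : 1 ≤ 2) hb')))
  have hψL : ∀ y ∈ L, ψ y ∈ L := fix_X (k := 1) hS hH.card (by omega) hES
    (centric_centralizer_le hE.1) hcomm hc (lay_le _) (fun g hg y hy => lay_conj hg hy) hLcomm
    hLc hsup.symm hNc (by rw [hinf, hZc, pow_one])
    (fun Q hQ => hNc ▸ hE.2.1.2 Q hQ) hψ hψN hψW
  have hψZ : ∀ y ∈ Z, ψ y ∈ Z := fun y hy => (hinf.le (hψW y (hinf.ge hy)))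
  -- the normaliser of the normaliser
  set N1 := normalizerIn S N with hN1def
  have hN1 : ∀ Q, F.IsConj N Q → Nat.card (normalizerIn S Q) ≤ p ^ 4 := by
    intro Q hQ
    have hQS := (isConj_le hQ).2
    by_contra hlt
    have h5 := pow_succ_le normalizerIn_le hS (not_le.1 hlt)
    have hQn : normalizerIn S Q = S := eq_of_le_of_card le_rfl normalizerIn_le (hH.card ▸ h5)
    have hQc : Nat.card Q = p ^ 3 := (isConj_card hQ).trans hNc
    set Q' := Q.subgroupOf S with hQ'
    haveI : Q'.Normal := ⟨fun a ha x => cj_mem_normalizerIn (hQn.ge x.2) ha⟩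
    have hidx : Q'.index = p ^ 2 := by
      have h1 := Q'.card_mul_index
      rw [Nat.card_congr (Subgroup.subgroupOfEquivOfLe hQS).toEquiv, hQc, hH.card,
        show p ^ 5 = p ^ 3 * p ^ 2 by rw [← pow_add]] at h1
      exact Nat.eq_of_mul_eq_mul_left (pow_pos hp.1.pos 3) h1
    have hle : lcsT ↥S 1 ≤ Q' := by
      show Subgroup.lowerCentralSeries (⊤ : Subgroup ↥S) 1 ≤ Q'
      rw [Subgroup.top_lowerCentralSeries_one, commutator_def, Subgroup.commutator_le]
      intro x _ y _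
      rw [← QuotientGroup.eq_one_iff]
      show QuotientGroup.mk' Q' ⁅x, y⁆ = 1
      rw [map_commutatorElement, commutatorElement_eq_one_iff_mul_comm]
      exact IsPGroup.commutative_of_card_eq_prime_sq (p := p)
        (by rw [← Subgroup.index_eq_card, hidx]) _ _
    have heq : lay S 1 = Q := eq_of_le_of_card hQS (fun y hy => by
      obtain ⟨hyS, hy'⟩ := mem_lay'.1 hy
      exact hle hy') (by rw [hQc, lay_card H le_rfl (by omega)])
    obtain ⟨φ, hφ, hφQ⟩ := isConj_iff.1 hQ
    have hl : ∀ l ∈ L, l * f = f * l := fun l hl => by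
      have hfN : f ∈ N := hEN hf
      have hlN : l ∈ N := hLN hl
      refine hφ.inj (N.mul_mem hlN hfN) (N.mul_mem hfN hlN) ?_
      rw [hφ.map_mul hlN hfN, hφ.map_mul hfN hlN]
      obtain ⟨haS, ha'⟩ := mem_lay'.1 (heq.ge (hφQ ▸ mem_img_of_mem φ hlN))
      obtain ⟨hbS, hb'⟩ := mem_lay'.1 (heq.ge (hφQ ▸ mem_img_of_mem φ hfN))
      exact congrArg Subtype.val (commutatorElement_eq_one_iff_mul_comm.1 (lcs_one_comm H ha' hb'))
    obtain ⟨y, hy, hy'⟩ := exists_layer H (i := 2) (by omega)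
    refine comm_L2_s H hsC hy hy' (commutatorElement_eq_one_iff_mul_comm.2 (Subtype.ext ?_))
    exact hl _ (mem_lay.2 hy)
  have hL1N1 : lay S 1 ≤ N1 := fun l hl => mem_norm hNS (lay_le _ hl) fun y hy =>
    hLN (lay_comm hl (hNS hy))
  have hN1c : Nat.card N1 ≤ p ^ 4 := hN1 N (isConj_refl F hNS)
  have hfN1 : f ∈ N1 := le_normalizerIn hNS (hEN hf)
  have hfL1 : f ∉ lay S 1 := fun h => hsC (lcs_one_le 1 (mem_lay.1 (h : (s : Ω) ∈ lay S 1)))
  have hL1c : Nat.card (lay S 1) = p ^ 3 := by rw [lay_card H le_rfl (by omega)]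
  have hN1eq : Nat.card N1 = p ^ 4 := by
    refine le_antisymm hN1c (pow_succ_le normalizerIn_le hS (hL1c ▸ card_lt_of_lt normalizerIn_le
      (lt_of_le_of_ne hL1N1 fun h => hfL1 (h ▸ hfN1))))
  have hNfn : F.IsFullyNormalized N := ⟨hNS, fun Q hQ => hN1eq ▸ hN1 Q hQ⟩
  obtain ⟨ψ1, hψ1, hψ1e, hψ1N⟩ := extend_series hS hH.sat hNfn (n := 3)
    (fun i => if i = 0 then ⊥ else if i = 1 then Z else if i = 2 then L else N) rfl rfl
    (fun i hi => by
      interval_cases i
      · simp [hZc]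
      · simp [hZL, hZc, hLc, sq]
      · simp [hLN, hLc, hNc, pow_succ']
    )
    (fun x hx i hi y hy => by
      interval_cases i
      · simp only [if_true, Subgroup.mem_bot] at hy ⊢; subst hy; rw [cj_apply]; group
      · simp only [one_ne_zero, if_false, if_true] at hy ⊢
        exact lay_conj (normalizerIn_le hx) hy
      · simp only [show (2 : ℕ) ≠ 0 by omega, show (2 : ℕ) ≠ 1 by omega, if_false, if_true] at hy ⊢
        exact lay_conj (normalizerIn_le hx) hy)
    hψ hψN
    (fun i hi y hy => by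
      interval_cases i
      · simp only [if_true, Subgroup.mem_bot] at hy ⊢; subst hy; exact hψ.map_one
      · simp only [one_ne_zero, if_false, if_true] at hy ⊢
        exact hψZ y hy
      · simp only [show (2 : ℕ) ≠ 0 by omega, show (2 : ℕ) ≠ 1 by omega, if_false, if_true] at hy ⊢
        exact hψL y hy)
  have hNN1 : N ≤ N1 := le_normalizerIn hNS
  -- `L₁` is the centraliser of `L` in `N₁`
  have hcentL : ∀ {y : Ω}, y ∈ N1 → (∀ l ∈ L, l * y = y * l) → y ∈ lay S 1 := by
    intro y hy hcy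
    obtain ⟨i, hi⟩ := mem_step hS normalizerIn_le hL1N1 (by rw [hN1eq, hL1c, ← pow_succ']) hfN1
      hfL1 hy
    have hcfi : ∀ l ∈ L, l * f ^ i = f ^ i * l := fun l hl => by
      obtain ⟨hlS, hl'⟩ := mem_lay'.1 hl
      obtain ⟨hwS, hw'⟩ := mem_lay'.1 hi
      have h1 : Commute l ((f ^ i)⁻¹ * y) := congrArg Subtype.val
        (commutatorElement_eq_one_iff_mul_comm.1
          (bigC_centralises H (lcs_one_le 1 hw') hl'))
      have h2 : Commute l y := hcy l hl
      have := h2.mul_right h1.inv_right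
      rw [show y * ((f ^ i)⁻¹ * y)⁻¹ = f ^ i by group] at this
      exact this.eq
    have hpi : p ∣ i := by
      by_contra hpi
      obtain ⟨l, hl, hl'⟩ := exists_layer H (i := 2) (by omega)
      refine comm_L2_s H hsC hl hl' ?_
      obtain ⟨j, -, hj⟩ := Nat.exists_mul_mod_eq_one_of_coprime
        (hp.1.coprime_iff_not_dvd.2 hpi).symm hp.1.one_lt
      have hj : f = (f ^ i) ^ j := by
        rw [← pow_mul, pow_eq_pow_mod _ (hel.2 f hf), hj, pow_one]
      refine commutatorElement_eq_one_iff_mul_comm.2 (Subtype.ext ?_)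
      have h1 : Commute (l : Ω) (f ^ i) := hcfi _ (mem_lay.2 hl)
      have h2 := h1.pow_right j
      rw [← hj] at h2
      exact h2.eq
    obtain ⟨d, rfl⟩ := hpi
    rw [pow_mul, hel.2 f hf, one_pow, inv_one, one_mul] at hi
    exact hi
  have hψ1L1 : ∀ y ∈ lay S 1, ψ1 y ∈ lay S 1 := by
    intro y hy
    refine hcentL (hψ1N y (hL1N1 hy)) fun l hl => ?_
    have hr : IsMor F L ψ1 := hψ1.restrict (hLN.trans hNN1)
    have himg : img L ψ1 = L := hr.img_eq_self fun z hz => by
      rw [hψ1e z (hLN hz)]; exact hψL z hz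
    obtain ⟨l', hl', rfl⟩ := hr.mem_img.1 (himg.ge hl)
    rw [← hψ1.map_mul (hNN1 (hLN hl')) (hL1N1 hy), ← hψ1.map_mul (hL1N1 hy) (hNN1 (hLN hl'))]
    obtain ⟨haS, ha'⟩ := mem_lay'.1 hy
    obtain ⟨hbS, hb'⟩ := mem_lay'.1 hl'
    exact congrArg ψ1 (congrArg Subtype.val (commutatorElement_eq_one_iff_mul_comm.1
      (lcs_one_comm H (mem_anti (by omega : 1 ≤ 2) hb') ha')))
  -- to `S`
  have hN1n : normalizerIn S N1 = S := by
    refine normalizerIn_eq_of_conj fun g hg y hy => ?_
    have h1 : ⁅g, y⁆ ∈ lay S 1 := by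
      refine (mem_lay (x := ⁅(⟨g, hg⟩ : ↥S), ⟨y, normalizerIn_le hy⟩⁆)).2 ?_
      show _ ∈ Subgroup.lowerCentralSeries (⊤ : Subgroup ↥S) 1
      rw [Subgroup.top_lowerCentralSeries_one, commutator_def]
      exact Subgroup.commutator_mem_commutator (Subgroup.mem_top _) (Subgroup.mem_top _)
    rw [show cj g y = ⁅g, y⁆ * y by rw [cj_apply, commutatorElement_def]; group]
    exact N1.mul_mem (hL1N1 h1) hy
  obtain ⟨Ψ, hΨA, hΨ⟩ := extend_top hS hH.sat normalizerIn_le hN1n (n := 4)
    (fun i => if i = 0 then ⊥ else if i = 1 then Z else if i = 2 then L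
      else if i = 3 then lay S 1 else N1) rfl rfl
    (fun i hi => by
      interval_cases i
      · simp [hZc]
      · simp [hZL, hZc, hLc, sq]
      · simp [hLc, hL1c, pow_succ', show L ≤ lay S 1 from lay_anti (by omega)]
      · simp [hL1N1, hL1c, hN1eq, pow_succ'])
    (fun x hx i hi y hy => by
      interval_cases i
      · simp only [if_true, Subgroup.mem_bot] at hy ⊢; subst hy; rw [cj_apply]; group
      all_goals simp at hy ⊢; exact lay_conj hx hy)
    hψ1 hψ1N
    (fun i hi y hy => by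
      interval_cases i
      · simp only [if_true, Subgroup.mem_bot] at hy ⊢; subst hy; exact hψ1.map_one
      · simp at hy ⊢
        rw [hψ1e y (hLN (hZL hy))]; exact hψZ y hy
      · simp at hy ⊢
        rw [hψ1e y (hLN hy)]; exact hψL y hy
      · simp at hy ⊢
        exact hψ1L1 y hy)
  refine ⟨Ψ, hΨA, Subtype.ext ?_, fun z hz => Subtype.ext ?_⟩
  · rw [hΨ s hfN1, hψ1e f (hEN hf), hψe f hf, ← hδf, Subgroup.coe_pow]
  · rw [hΨ z (hNN1 (hLN (hZL hz))), hψ1e _ (hLN (hZL hz)), hψe _ (hZE hz), hδz _ hz,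
      Subgroup.coe_pow]

/-- There is no extraspecial pearl. -/
theorem no_extraspecial (hH : Hyp F p) (hE : F.IsEssential p E) (hc : Nat.card E = p ^ 3)
    (hna : ¬ IsMulCommutative ↥E) : False := by
  have hS := hH.pgroup
  have hES := hE.1.1
  have := finite_of_le hES
  have hnc := SmallEss.not_charLineSeries hS hH.sat hE
  have hab : ∃ a b : E, a * b ≠ b * a := by
    by_contra! h
    exact hna ⟨⟨h⟩⟩
  rcases CfsgLib.PGroups.SmallSeries.order_p3_nonab (p := p) hc hab with h | h | h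
  rotate_left
  · exact hH.p2 h.1
  · exact hnc h.1
  obtain ⟨-, hex, hexp⟩ := h
  set Z := lay S 3 with hZdef
  set L := lay S 2 with hLdef
  have hZc : Nat.card Z = p := card_lay3 H
  have hLc : Nat.card L = p ^ 2 := by rw [hLdef, lay_card H (by omega) (by omega)]
  have hZE : Z ≤ E := lay3_le H hE
  have hZL : Z ≤ L := lay_anti (by omega)
  have hcen : (Subgroup.center E) = Z.subgroupOf E := by
    refine (Subgroup.eq_of_le_of_card_ge (fun z hz => Subgroup.mem_center_iff.2 fun y =>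
      Subtype.ext ?_) ?_).symm
    · have h := lay3_fix H (hES y.2) hz
      rw [cj_apply, mul_inv_eq_iff_eq_mul] at h
      exact h
    · rw [hex.2, Nat.card_congr (Subgroup.subgroupOfEquivOfLe hZE).toEquiv, hZc]
  have hcm : ∀ x ∈ E, ∀ y ∈ E, ⁅x, y⁆ ∈ Z := by
    intro x hx y hy
    have h1 : ⁅(⟨x, hx⟩ : E), ⟨y, hy⟩⁆ ∈ Subgroup.center E := by
      rw [← QuotientGroup.eq_one_iff]
      show QuotientGroup.mk' _ _ = 1
      rw [map_commutatorElement, commutatorElement_eq_one_iff_mul_comm]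
      have hidx := (Subgroup.center E).card_mul_index
      rw [hex.2, hc, pow_succ' p 2] at hidx
      exact IsPGroup.commutative_of_card_eq_prime_sq (p := p)
        (by rw [← Subgroup.index_eq_card, Nat.eq_of_mul_eq_mul_left hp.1.pos hidx]) _ _
    rw [hcen] at h1
    exact h1
  obtain ⟨s, hsE, hsC⟩ := exists_outside H hE fun h => by
    have h1 : L.subgroupOf E ≤ Subgroup.center E := fun l hl => Subgroup.mem_center_iff.2 fun y =>
      Subtype.ext (h.2 y y.2 l hl).symm
    have h2 := Subgroup.card_le_of_le h1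
    rw [hex.2, Nat.card_congr (Subgroup.subgroupOfEquivOfLe h.1).toEquiv, hLc] at h2
    exact absurd h2 (not_le.2 (lt_self_pow₀ hp.1.one_lt one_lt_two))
  have hLE : L ≤ E := by
    intro l hl
    let W : ℕ → Subgroup Ω := fun i => if i = 0 then ⊥ else if i = 1 then Z else E
    refine mem_of_stabilizing hS hE.1 (essential_radical hS hE) 2 W ?_ (by simp [W]) (by simp [W])
      (mem_norm hES (lay_le _ hl) fun y hy => hZE (lay_comm hl (hES hy))) fun i hi x hx hxW => ?_
    · intro α hα i x hx hxW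
      by_cases h0 : i = 0
      · simp only [W, h0, if_true, Subgroup.mem_bot] at hxW ⊢
        rw [hxW]
        exact (isMor_autFun hES hα).map_one
      by_cases h1 : i = 1
      · simp only [W, h1, one_ne_zero, if_false, if_true] at hxW ⊢
        rw [autFun_of_mem α hx]
        have h2 : (⟨x, hx⟩ : E) ∈ Subgroup.center E := hcen ▸ hxW
        have h3 : α ⟨x, hx⟩ ∈ Z.subgroupOf E := hcen ▸
          (CfsgLib.PGroups.SmallSeries.center_invariant α h2)
        exact h3
      · simp only [W, h0, h1, if_false]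
        exact autFun_mem α hx
    · interval_cases i
      · simp only [W, Nat.zero_add, one_ne_zero, if_false, if_true] at hxW ⊢
        rw [lay3_fix H (lay_le _ hl) hxW, inv_mul_cancel]
        exact one_mem _
      · simp only [W, one_ne_zero, if_false, if_true]
        have h1 := lay_comm (S := S) hl (hES hx)
        have h2 : x⁻¹ * cj l x = x⁻¹ * ⁅l, x⁆ * x := by
          rw [cj_apply, commutatorElement_def]; group
        rw [h2, show x⁻¹ * ⁅l, x⁆ * x = cj x⁻¹ ⁅l, x⁆ by rw [cj_apply, inv_inv],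
          lay3_fix H (S.inv_mem (hES hx)) h1]
        exact h1
  obtain ⟨g, hg, hgE⟩ := SetLike.exists_of_lt (normalizerIn_gt hS (essential_lt hS hH.sat hE))
  obtain ⟨e, he, heK, f, hf, hfJ, -, Y, hY, hYW, hδ, -⟩ :=
    exists_frame (K := Z) (J := L) hS hH.sat hE (n := 1)
      (fun i => if i = 0 then ⊥ else Z) rfl rfl
      (fun i hi => by interval_cases i; simp [hZc])
      (fun α hα i hi x hx => by
        interval_cases i
        · simp only [if_true, Subgroup.mem_bot] at hx ⊢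
          rw [hx]
          exact (isMor_autFun hES hα).map_one
        · simp only [one_ne_zero, if_false] at hx ⊢
          rw [autFun_of_mem α (hZE hx)]
          have h2 : (⟨x, hZE hx⟩ : E) ∈ Subgroup.center E := hcen ▸ hx
          have h3 : α ⟨x, hZE hx⟩ ∈ Z.subgroupOf E := hcen ▸
            (CfsgLib.PGroups.SmallSeries.center_invariant α h2)
          exact h3)
      hZL hLE (by rw [hLc, hZc, sq]) (by rw [hc, hLc, pow_succ' p 2])
      (fun x hx => by
        have := congrArg Subtype.val (hexp ⟨x, hx⟩)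
        simp only [Subgroup.coe_pow, Subgroup.coe_one] at this
        rw [this]
        exact one_mem _)
      hcm hg hgE (fun x hx => lay_conj (normalizerIn_le hg) hx)
  obtain ⟨t, ht, ht5⟩ := exists_pow_ne (p := p) (k := 5) fun h => by
    have h2 := Nat.le_of_dvd (by omega) h
    have := hp.1.two_le
    rcases hp.1.odd_of_ne_two hH.p2 with ⟨m, rfl⟩
    rcases (show m = 1 ∨ m = 2 by omega) with rfl | rfl <;> simp_all
  obtain ⟨δ, hδY, hδe, -, hδJ⟩ := hδ t ht
  have hδA := hY hδY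
  have hδm := isMor_autFun hES hδA
  have hδz : ∀ z ∈ Z, autFun δ z = z := fun z hz => by
    have := hYW δ hδY 0 (by omega) z (by simpa using hz)
    simp only [if_true, Subgroup.mem_bot] at this
    exact (inv_mul_eq_one.1 this).symm
  obtain ⟨Ψ, -, hΨ⟩ := extend_top hS hH.sat (lay_le 2) (lay_normalizer 2) (n := 2)
    (fun i => if i = 0 then ⊥ else if i = 1 then Z else L) rfl rfl
    (fun i hi => by
      interval_cases i
      · simp [hZc]
      · simp [hLdef, hZdef, lay_anti (by omega : 2 ≤ 3), card_lay3 H,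
          lay_card H (by omega : 1 ≤ 2) (by omega : 2 ≤ 5 - 1), sq])
    (fun x hx i hi y hy => by
      interval_cases i
      · simp only [if_true, Subgroup.mem_bot] at hy ⊢; subst hy; rw [cj_apply]; group
      · simp at hy ⊢; exact lay_conj hx hy)
    (hδm.restrict hLE) hδJ
    (fun i hi y hy => by
      interval_cases i
      · simp only [if_true, Subgroup.mem_bot] at hy ⊢; subst hy; exact hδm.map_one
      · simp at hy ⊢; rw [hδz y hy]; exact hy)
  obtain ⟨u, hu⟩ : ∃ u : ℕ, (s ^ u)⁻¹ * Ψ s ∈ bigC S :=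
    mem_step' hS (le_top) (by rw [Subgroup.card_top, hH.card, card_bigC H, ← pow_succ'])
      (Subgroup.mem_top s) hsC (Subgroup.mem_top _)
  have hz5 := zeta_eq H hH hsC hu (a := 1) fun z hz => Subtype.ext (by
    rw [hΨ z (hZL hz), hδz _ hz, pow_one])
  obtain ⟨-, -, h2, -⟩ := weights H hH Ψ hsC hu
  obtain ⟨heS, heL⟩ := mem_lay'.1 he
  have heZ : (⟨e, heS⟩ : ↥S) ∉ lcsT ↥S 3 := fun h => heK (mem_lay.2 h :)
  haveI : (lcsT ↥S 3).Normal := lcsT_normal _
  have h4 := exp_congr hS (lcsT ↥S 3) heZ (a := ((u ^ 4 : ℕ) : ℤ)) (b := (t.val : ℤ))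
    (by rw [zpow_natCast]; exact h2 _ heL heZ)
    (by
      rw [zpow_natCast, ← mem_lay]
      simpa [hΨ ⟨e, heS⟩ he] using hδe)
  push_cast [ZMod.natCast_zmod_val] at h4 hz5
  refine ht5 ?_
  rw [← h4, ← pow_mul, show 4 * 5 = 5 * 4 from rfl, pow_mul, ← hz5, one_pow]

end CfsgLib.Fusion.OrderFive
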