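import Mathlib
import Cfsg.Agent.Lib.Fusion.OrderFivePearl
import Cfsg.Agent.Lib.Fusion.OrderFiveNormal
import Cfsg.Agent.Lib.Fusion.OrderFiveElementary
import Cfsg.Agent.Lib.Fusion.Criteria

/-!
# Saturated systems over groups of order `p ^ 5`: the conclusion
-/

set_option autoImplicit false
set_option linter.unusedSectionVars false
set_option linter.style.haveILetI false

namespace CfsgLib.Fusion.OrderFive

open Cfsg Cfsg.FusionSystem CfsgLib.Fusion CfsgLib.Fusion.MaxClassSmall
open CfsgLib.PGroups.Pearl CfsgLib.FgsC.MaxClassSection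
open CfsgLib.PGroups CfsgLib.PGroups.TwoStepConst CfsgLib.PGroups.MaxClassWeights
open scoped commutatorElement

universe u

/-- Arithmetic of `2` modulo `3`. -/
theorem two_facts : (2 : ZMod 3) ≠ 0 ∧ (2 : ZMod 3) * 2 = 1 := by decide

variable {Ω : Type u} [Group Ω] {S : Subgroup Ω} [Finite S] {p : ℕ} [hp : Fact p.Prime]
  {F : FusionSystem S}

/-- The essential subgroups. -/
theorem essential_cases (hH : Hyp F p) {E : Subgroup Ω} (hE : F.IsEssential p E) :
    (Nat.card E = p ^ 2 ∧ MC ↥S p 5) ∨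
      (p = 3 ∧ (∃ (Z₀ : Subgroup ↥S) (e s l : ↥S), Tri p Z₀ e s l) ∧
        F.autGroup E ≤ movesIn E (tMoves F)) := by
  have hS := hH.pgroup
  have hF := hH.sat
  have hES := hE.1.1
  have := finite_of_le hES
  obtain ⟨k, hk⟩ := IsPGroup.iff_card.1 (isPGroup_of_le hES hS)
  have hk5 : k < 5 := (Nat.pow_lt_pow_iff_right hp.1.one_lt).1
    (hk ▸ hH.card ▸ card_lt_of_lt le_rfl (essential_lt hS hF hE))
  interval_cases k
  · exfalso
    have h1 : E = ⊥ := Subgroup.card_eq_one.1 (by rw [hk, pow_zero])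
    subst h1
    have h2 : centralizerIn S (⊥ : Subgroup Ω) = S := by
      refine le_antisymm centralizerIn_le fun g hg => mem_centralizerIn.2 ⟨hg, fun x hx => ?_⟩
      rw [Subgroup.mem_bot.1 hx, cj_apply]; group
    exact (essential_lt hS hF hE).not_ge (h2 ▸ centric_centralizer_le hE.1)
  · exfalso
    refine SmallEss.false_of_series hS hF hE (le_refl E)
      (fun α _ _ h => autFun_inj fun x hx => (h x hx).trans (autFun_one hx).symm) (n := 1)
      (fun i => if i = 0 then ⊥ else E) (by simp) (by simp) (fun i hi => ?_)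
      (fun α _ i hi x hx => ?_)
    · interval_cases i
      simp [hk]
    · rcases Nat.le_one_iff_eq_zero_or_eq_one.1 hi with rfl | rfl
      · simp only [if_true, Subgroup.mem_bot] at hx ⊢
        subst hx
        rw [autFun_of_mem α E.one_mem]
        exact congrArg Subtype.val (map_one α)
      · simp only [one_ne_zero, if_false] at hx ⊢
        exact autFun_mem α hx
  · obtain ⟨hel, -⟩ := SmallEss.order_p2_essential hS hF hE hk
    exact Or.inl ⟨hk, mc_of_pearl hH hE (Or.inl ⟨hk, fun x hx => ⟨hel.2 x hx, hel.1⟩⟩)⟩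
  · by_cases hab : IsMulCommutative ↥E
    · have hel : Cfsg.IsElementaryAbelian p E := by
        refine ⟨hab, fun a ha => ?_⟩
        by_contra h
        exact SmallEss.not_charLineSeries hS hF hE
          (CfsgLib.PGroups.SmallSeries.order_p3_comm hk hab.is_comm.comm (x := ⟨a, ha⟩)
            fun e => h (congrArg Subtype.val e))
      exact Or.inr (elementary_type hH hE hk hel)
    · exact (no_extraspecial (mc_of_pearl hH hE (Or.inr ⟨hk, hab⟩)) hH hE hk hab).elim
  · exact Or.inr (normal_type hH hE hk)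

variable (H : MC ↥S p 5)
include H

/-- The constraints coming from an elementary pearl. -/
theorem pearl_facts (hH : Hyp F p) {E : Subgroup Ω} (hE : F.IsEssential p E)
    (hc : Nat.card E = p ^ 2) :
    (p - 1) ∣ 6 ∧ (p = 3 → F.autGroup E ≤ movesIn E (tMoves F)) := by
  obtain ⟨s, -, hsC, hEeq, htor⟩ := elem_pearl H hH hE hc
  refine ⟨?_, fun h3 => ?_⟩
  · by_contra h
    obtain ⟨t, ht, ht6⟩ := exists_pow_ne h
    obtain ⟨Ψ, -, hΨs, hΨz⟩ := htor t ht
    have h1 := zeta_eq H hH hsC (Ψ := Ψ) (u := t⁻¹.val)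
      (by rw [hΨs, inv_mul_cancel]; exact one_mem _) (a := t.val) hΨz
    rw [ZMod.natCast_zmod_val, ZMod.natCast_zmod_val] at h1
    apply ht6
    calc t ^ 6 = t * t ^ 5 := pow_succ' t 5
      _ = (t⁻¹ * t) ^ 5 := by rw [mul_pow, ← h1]
      _ = 1 := by rw [inv_mul_cancel₀ ht, one_pow]
  · subst h3
    have h20 : (2 : ZMod 3) ≠ 0 := two_facts.1
    have h22 : (2 : ZMod 3) * 2 = 1 := two_facts.2
    obtain ⟨Ψ, hΨ, hΨs, -⟩ := htor 2 h20
    rw [show ((2 : ZMod 3)⁻¹) = 2 from inv_eq_of_mul_eq_one_right h22,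
      show (2 : ZMod 3).val = 2 from rfl] at hΨs
    have hsT : (s : Ω) ∈ tMoves F := by
      have h1 := move_mem_tMoves hΨ s.2
      rwa [autFun_of_mem Ψ s.2, show (⟨(s : Ω), s.2⟩ : ↥S) = s from rfl, hΨs, Subgroup.coe_pow,
        sq, mul_inv_cancel_right] at h1
    have hlay : lay S 3 ≤ tMoves F :=
      (lay_anti (i := 3) (j := 1) (by omega)).trans (Subgroup.map_mono (by
        rw [lcsT, Subgroup.top_lowerCentralSeries_one]
        exact le_sup_left))
    have hET : E ≤ tMoves F := hEeq.le.trans (sup_le hlay (Subgroup.zpowers_le.2 hsT))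
    exact fun α _ x hx => (tMoves F).mul_mem (hET (autFun_mem α hx))
      ((tMoves F).inv_mem (hET hx))

/-- For `p = 3` some element outside the derived group is fixed modulo it. -/
theorem pearl_fixed (hH : Hyp F p) (h3 : p = 3) :
    ∃ l : ↥S, l ∉ commutator ↥S ∧ ∀ α : MulAut ↥S, α l * l⁻¹ ∈ commutator ↥S := by
  obtain ⟨t₀, ht₀, ht₀'⟩ := SetLike.exists_of_lt (lt_of_le_of_ne (bigC_step H).1 fun h => by
    have := card_bigC H
    rw [← h, card_lcs5 H le_rfl (by omega)] at this
    exact absurd (Nat.pow_right_injective hp.1.two_le this) (by omega))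
  obtain ⟨s, -, hs⟩ := SetLike.exists_of_lt (lt_top_iff_ne_top.2 fun h => by
    have := card_bigC H
    rw [h, Subgroup.card_top, hH.card] at this
    exact absurd (Nat.pow_right_injective hp.1.two_le this) (by omega) : bigC S < ⊤)
  have hP : IsPGroup p ↥S := IsPGroup.of_card H.card
  have he : lcsT ↥S 1 = commutator ↥S := Subgroup.top_lowerCentralSeries_one
  refine ⟨t₀, he ▸ ht₀', fun α => ?_⟩
  obtain ⟨u, hu⟩ := mem_step' hP (le_top : bigC S ≤ ⊤)
    (by rw [Subgroup.card_top, card_bigC H, hH.card, ← pow_succ']) (Subgroup.mem_top s) hs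
    (Subgroup.mem_top (α s))
  obtain ⟨hu0, hw, -, -⟩ := weights H hH α hs hu
  have h1 := hw t₀ ht₀ ht₀'
  have hp3 := H.pow_mem (j := 1) le_rfl hp.1.one_lt (by omega) t₀
  subst h3
  have hmod : u ^ 2 % 3 = 1 := by
    rw [Ne, ZMod.natCast_eq_zero_iff, Nat.dvd_iff_mod_eq_zero] at hu0
    rw [Nat.pow_mod]
    have : u % 3 = 1 ∨ u % 3 = 2 := by omega
    rcases this with e | e <;> rw [e]
  rw [he] at h1 hp3
  set π := QuotientGroup.mk' (commutator ↥S)
  refine (QuotientGroup.eq_one_iff _).1 ?_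
  show π (α t₀ * t₀⁻¹) = 1
  have h2 : π (t₀ ^ (u ^ 2))⁻¹ * π (α t₀) = 1 := by
    rw [← map_mul]; exact (QuotientGroup.eq_one_iff _).2 h1
  have h3 : π t₀ ^ 3 = 1 := by
    rw [← map_pow]; exact (QuotientGroup.eq_one_iff _).2 hp3
  rw [map_inv, inv_mul_eq_one, map_pow, pow_eq_pow_mod _ h3, hmod, pow_one] at h2
  rw [map_mul, map_inv, ← h2, mul_inv_cancel]

end CfsgLib.Fusion.OrderFive

namespace CfsgLib.Fusion.OrderFive

open Cfsg Cfsg.FusionSystem CfsgLib.Fusion

universe u

variable {Ω : Type u} [Group Ω] {S : Subgroup Ω} [Finite S] {p : ℕ} [hp : Fact p.Prime]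
  {F : FusionSystem S}

/-- Over a group of order `p ^ 5`, for `p ≠ 2, 7`, a reduced system needs an abelian subgroup of
index `p`. -/
theorem exists_abelian_index (hS : IsPGroup p S) (hF : F.IsSaturated p) (hp2 : p ≠ 2) (hp7 : p ≠ 7)
    (hcard : Nat.card S = p ^ 5) (hcore : F.core = ⊥) (hhyp : F.hyperfocalSubgroup p = S) :
    ∃ A : Subgroup Ω, A ≤ S ∧ IsMulCommutative ↥A ∧ (A.subgroupOf S).index = p := by
  by_contra hcon
  have hidx : ∀ A : Subgroup Ω, A ≤ S → Nat.card A = p ^ 4 → (A.subgroupOf S).index = p := by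
    intro A hA hc
    have h1 := (A.subgroupOf S).card_mul_index
    rw [Nat.card_congr (Subgroup.subgroupOfEquivOfLe hA).toEquiv, hc, hcard, pow_succ p 4] at h1
    exact Nat.eq_of_mul_eq_mul_left (pow_pos hp.1.pos 4) h1
  have hH : Hyp F p := ⟨hS, hF, hp2, hcard, fun A hA hc => by
    by_contra h
    push Not at h
    have := finite_of_le hA
    obtain ⟨B, hBc⟩ := Sylow.exists_subgroup_card_pow_prime_of_le_card (G := ↥A) hp.1
      (isPGroup_of_le hA hS) h
    have hle : B.map A.subtype ≤ A := Subgroup.map_subtype_le _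
    refine hcon ⟨B.map A.subtype, hle.trans hA, ⟨⟨fun a b => Subtype.ext
      (hc a (hle a.2) b (hle b.2))⟩⟩, hidx _ (hle.trans hA) ?_⟩
    rw [Subgroup.card_map_of_injective A.subtype_injective, hBc]⟩
  obtain ⟨E, hE⟩ : ∃ E : Subgroup Ω, F.IsEssential p E := by
    by_contra! hno
    have h1 : S ≤ F.core := le_core (isNormal_of_invariant hS hF (fun P hP => by
      rcases hP with rfl | hP
      · exact ⟨le_rfl, fun α _ x hx => autFun_mem α hx⟩
      · exact absurd hP (hno P)))
    rw [hcore, le_bot_iff] at h1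
    rw [h1, Subgroup.card_bot] at hcard
    exact absurd hcard (Nat.one_lt_pow (by omega) hp.1.one_lt).ne
  by_cases hpe : ∃ P : Subgroup Ω, F.IsEssential p P ∧ Nat.card P = p ^ 2
  · obtain ⟨P, hP, hPc⟩ := hpe
    obtain ⟨-, H⟩ := (essential_cases hH hP).resolve_right fun h => by
      obtain ⟨-, ⟨Z₀, e, s, l, T⟩, -⟩ := h
      exact T.not_mc (mc_of_pearl hH hP (Or.inl ⟨hPc, fun x hx => by
        obtain ⟨hel, -⟩ := SmallEss.order_p2_essential hS hF hP hPc
        exact ⟨hel.2 x hx, hel.1⟩⟩))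
    have hdiv := (pearl_facts H hH hP hPc).1
    have h3 : p = 3 := by
      have h7 : p - 1 ≤ 6 := Nat.le_of_dvd (by omega) hdiv
      have := hp.1.two_le
      have hp7' : p ≤ 7 := by omega
      interval_cases p <;> first | rfl | omega | exact absurd hp.1 (by norm_num)
    obtain ⟨l, hl, hfix⟩ := pearl_fixed H hH h3
    refine false_of_good hS hF hhyp hl (fun α _ => hfix α) fun Q hQ => ?_
    rcases essential_cases hH hQ with ⟨hQc, -⟩ | ⟨-, -, hg⟩
    · exact (pearl_facts H hH hQ hQc).2 h3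
    · exact hg
  · push Not at hpe
    obtain ⟨h3, ⟨Z₀, e, s, l, T⟩, -⟩ := (essential_cases hH hE).resolve_left
      fun h => hpe E hE h.1
    refine false_of_good hS hF hhyp T.l_not_commutator (fun α _ => T.fixed h3 α) fun Q hQ => ?_
    exact ((essential_cases hH hQ).resolve_left fun h => hpe Q hQ h.1).2.2

end CfsgLib.Fusion.OrderFive
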