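import Mathlib
import Cfsg.Agent.Lib.Techniques.StableCentralQuotientOdd
import Cfsg.Agent.Lib.Transfer.ZJStable
import Cfsg.Agent.Lib.PLocal.ZJLocal
import Cfsg.Agent.Lib.Fusion.Group

/-!
# `p`-stable groups: enlarging a normal `p`-subgroup without changing fusion

If `G` is `p`-stable, `p` odd, and `R` is a normal `p`-subgroup whose centralizer in a Sylow
subgroup `P` is not contained in `R`, then there is `X > R` inside `P` whose normalizer controls
strong fusion in `P`: `X` is the preimage of `ZJ` of `(P ∩ R C(R)) / R`.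
-/

set_option autoImplicit false
set_option linter.unusedSectionVars false

namespace CfsgLib.Fusion

open Cfsg Cfsg.FusionSystem Subgroup

universe u

variable {p : ℕ} [hp : Fact p.Prime] {G : Type u} [Group G] [Finite G]

/-- The `ZJ`-theorem for `p`-stable groups, every odd `p`. -/
theorem controlsFusion_maxCenter_of_stable_odd {X : Type u} [Group X] [Finite X] (hp2 : p ≠ 2)
    (hst : IsNormalizerPStable p X) (P : Sylow p X) {D₀ : Subgroup X}
    (hD₀ : IsStronglyClosed D₀ (P : Subgroup X)) :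
    CfsgLib.Transfer.ControlsFusion (P : Subgroup X)
      (normalizer (CfsgLib.PLocal.maxCenter 0 D₀ : Set X)) :=
  CfsgLib.Transfer.controlsFusion_of_constrained_of_quotients
    (Φ := fun Y _ => IsNormalizerPStable p Y)
    (CfsgLib.Transfer.subgroupFunctor_maxCenter (CfsgLib.Transfer.dvd_of_or (Or.inl rfl)))
    (fun _ _ _ U h => CfsgLib.Techniques.CentralQuotient.isNormalizerPStable_subgroup h U)
    (fun Y _ _ h => CfsgLib.Transfer.isNormalizerPStable_quotient_of_coprime h _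
      (CfsgLib.Base.pPrimeCore_coprime p Y))
    (fun Y _ _ h hc => CfsgLib.Techniques.CentralQuotientOdd.isNormalizerPStable_quotient hp2 h _
      (CfsgLib.Base.isPGroup_pCore p Y) hc)
    (fun _ _ _ h hc S _ hD => CfsgLib.Transfer.maxCenter_normal_of_stronglyClosed hp2
      (Or.inr rfl) hc (CfsgLib.Transfer.quadStable_of_isNormalizerPStable h) S hD)
    hst P hD₀

theorem exists_bigger_of_stable (hp2 : p ≠ 2) (hst : IsNormalizerPStable p G) (P : Sylow p G)
    (R : Subgroup G) [R.Normal] (hRP : R ≤ (P : Subgroup G))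
    (hnc : ¬ (P : Subgroup G) ⊓ centralizer (R : Set G) ≤ R) :
    ∃ X : Subgroup G, R < X ∧ X ≤ (P : Subgroup G) ∧ ∀ (A : Set G) (g : G),
      A ⊆ (P : Subgroup G) → (∀ a ∈ A, g * a * g⁻¹ ∈ (P : Subgroup G)) →
      ∃ x ∈ normalizer (X : Set G), ∀ a ∈ A, x * a * x⁻¹ = g * a * g⁻¹ := by
  set C : Subgroup G := R ⊔ centralizer (R : Set G) with hCdef
  haveI hCn : C.Normal := inferInstance
  set T : Subgroup G := (P : Subgroup G) ⊓ C with hTdef
  set H : Subgroup G := (P : Subgroup G) ⊔ C with hHdef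
  have hRC : R ≤ C := le_sup_left
  have hRT : R ≤ T := le_inf hRP hRC
  have hRH : R ≤ H := hRP.trans le_sup_left
  have hPH : (P : Subgroup G) ≤ H := le_sup_left
  have hCH : C ≤ H := le_sup_right
  have hRp : IsPGroup p R := P.2.to_le hRP
  -- `p'`-elements of `H` centralize `R`
  have hcenH : ∀ d ∈ H, Nat.Coprime (orderOf d) p → d ∈ centralizer (R : Set G) := by
    intro d hd hcop
    have hH : H = (P : Subgroup G) ⊔ centralizer (R : Set G) := by
      rw [hHdef, hCdef, ← sup_assoc, sup_eq_left.mpr hRP]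
    rw [hH] at hd
    obtain ⟨x, hx, c, hc, rfl⟩ := mem_sup_of_normal_right.mp hd
    set θ := QuotientGroup.mk' (centralizer (R : Set G))
    obtain ⟨k, hk⟩ := P.2 ⟨x, hx⟩
    have hk' : x ^ p ^ k = 1 := congrArg Subtype.val hk
    refine (QuotientGroup.eq_one_iff _).mp ?_
    show θ (x * c) = 1
    have e : θ (x * c) = θ x := by
      rw [map_mul, show θ c = 1 from (QuotientGroup.eq_one_iff _).mpr hc, mul_one]
    refine orderOf_eq_one_iff.mp (Nat.eq_one_of_dvd_coprimes (hcop.pow_right k)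
      (orderOf_map_dvd θ (x * c)) (orderOf_dvd_of_pow_eq_one ?_))
    rw [e, ← map_pow, hk', map_one]
  set π := QuotientGroup.mk' R with hπ
  have hπs : Function.Surjective π := QuotientGroup.mk'_surjective R
  have hker : ∀ {U : Subgroup G}, R ≤ U → (U.map π).comap π = U := fun {U} h =>
    comap_map_eq_self (by rwa [hπ, QuotientGroup.ker_mk'])
  have hone : ∀ {x : G}, π x = 1 ↔ x ∈ R := fun {x} => QuotientGroup.eq_one_iff x
  set Hb := H.map π with hHb
  -- `H / R` is `p`-stable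
  have hstb : IsNormalizerPStable p Hb := by
    have h1 := CfsgLib.Techniques.CentralQuotientOdd.isNormalizerPStable_quotient hp2
      (CfsgLib.Techniques.CentralQuotient.isNormalizerPStable_subgroup hst H) (R.subgroupOf H)
      hRp.comap_subtype fun d hd => by
        rw [← Subgroup.orderOf_coe] at hd
        exact mem_centralizer_iff.mpr fun r hr => Subtype.ext
          (mem_centralizer_iff.mp (hcenH d d.2 hd) r (mem_subgroupOf.mp hr))
    let φ : H →* Hb := (π.comp H.subtype).codRestrict Hb fun x => mem_map_of_mem π x.2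
    have hφ : Function.Surjective φ := by
      rintro ⟨_, x, hx, rfl⟩
      exact ⟨⟨x, hx⟩, rfl⟩
    have hφk : φ.ker = R.subgroupOf H := by
      ext x
      rw [MonoidHom.mem_ker, mem_subgroupOf]
      exact ⟨fun h => hone.mp (congrArg Subtype.val h), fun h => Subtype.ext (hone.mpr h)⟩
    exact CfsgLib.Techniques.isNormalizerPStable_congr
      ((QuotientGroup.quotientMulEquivOfEq hφk.symm).trans
        (QuotientGroup.quotientKerEquivOfSurjective φ hφ)) h1
  let Pq : Sylow p (G ⧸ R) := P.mapSurjective hπs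
  have hPq : (Pq : Subgroup (G ⧸ R)) = (P : Subgroup G).map π := rfl
  have hPqH : (Pq : Subgroup (G ⧸ R)) ≤ Hb := hPq.le.trans (map_mono hPH)
  let Pb : Sylow p Hb := Pq.subtype hPqH
  set Tb := T.map π with hTb
  have hTb' : Tb = (P : Subgroup G).map π ⊓ C.map π := by
    refine le_antisymm (map_inf_le _ _ π) fun y hy => ?_
    obtain ⟨⟨a, ha, rfl⟩, hy2⟩ := mem_inf.mp hy
    refine mem_map_of_mem π ⟨ha, ?_⟩
    rw [← hker hRC]
    exact mem_comap.mpr hy2
  haveI hCbn : (C.map π).Normal := hCn.map π hπs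
  have hsc : IsStronglyClosed (Tb.subgroupOf Hb) (Pb : Subgroup Hb) := by
    refine ⟨fun x hx => ?_, fun x hx g hg => ?_⟩
    · have h2 := mem_subgroupOf.mp hx
      rw [hTb'] at h2
      exact mem_subgroupOf.mpr h2.1
    · have h1 : ((g * x * g⁻¹ : Hb) : G ⧸ R) ∈ (P : Subgroup G).map π := mem_subgroupOf.mp hg
      have h2 := mem_subgroupOf.mp hx
      rw [hTb'] at h2
      rw [mem_subgroupOf, hTb']
      exact ⟨h1, hCbn.conj_mem _ h2.2 g⟩
  have hctl := controlsFusion_maxCenter_of_stable_odd hp2 hstb Pb hsc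
  set Zb := CfsgLib.PLocal.maxCenter 0 Tb with hZb
  have hTbH : Tb ≤ Hb := map_mono (inf_le_left.trans hPH)
  have hZK : ∀ x : Hb, x ∈ normalizer (CfsgLib.PLocal.maxCenter 0 (Tb.subgroupOf Hb) : Set Hb) →
      (x : G ⧸ R) ∈ normalizer (Zb : Set (G ⧸ R)) := by
    intro x hx
    have h1 := le_normalizer_map Hb.subtype (mem_map_of_mem Hb.subtype hx)
    rwa [CfsgLib.PLocal.map_maxCenter Hb.subtype_injective, map_subgroupOf_eq_of_le hTbH] at h1
  set X := Zb.comap π with hX
  have hXT : X ≤ T := by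
    rw [← hker hRT]
    exact comap_mono (CfsgLib.PLocal.maxCenter_le 0 _)
  have hRX : R ≤ X := fun r hr => mem_comap.mpr (by rw [hone.mpr hr]; exact one_mem _)
  have hTb1 : Tb ≠ ⊥ := fun h => hnc fun x hx => by
    have : π x ∈ Tb := mem_map_of_mem π ⟨hx.1, mem_sup_right hx.2⟩
    rw [h] at this
    exact hone.mp (mem_bot.mp this)
  have hne : R < X := lt_of_le_of_ne hRX fun h => by
    refine CfsgLib.PLocal.maxCenter_zero_ne_bot ((P.2.to_le inf_le_left).map π) hTb1 ?_
    rw [← hZb, eq_bot_iff, ← map_comap_eq_self_of_surjective hπs Zb, ← hX, ← h]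
    rintro _ ⟨r, hr, rfl⟩
    exact mem_bot.mpr (hone.mpr hr)
  have hXN : ∀ {x : G}, π x ∈ normalizer (Zb : Set (G ⧸ R)) → x ∈ normalizer (X : Set G) :=
    fun {x} hx => by
      rw [mem_normalizer_iff]
      intro y
      rw [hX, mem_comap, mem_comap, map_mul, map_mul, map_inv]
      exact mem_normalizer_iff.mp hx _
  have hTN : ∀ {x : G}, x ∈ normalizer (T : Set G) → x ∈ normalizer (X : Set G) := fun {x} hx =>
    hXN (CfsgLib.PLocal.maxCenter_le_normalizer _ (le_normalizer_map π (mem_map_of_mem π hx)))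
  have hPT : ∀ {b : G}, (∀ t ∈ T, b * t * b⁻¹ ∈ (P : Subgroup G)) →
      b ∈ normalizer (T : Set G) := fun {b} hb =>
    mem_normalizer_fintype fun t ht => ⟨hb t ht, hCn.conj_mem t ht.2 b⟩
  have hPN : (P : Subgroup G) ≤ normalizer (T : Set G) := fun y hy => hPT fun t ht =>
    mul_mem (mul_mem hy ht.1) (inv_mem hy)
  have hsylP : IsSylIn p (P : Subgroup G) H := ⟨hPH, P.2, fun D hD hle _ => P.3 hD hle⟩
  have hsylT : IsSylIn p T C := by
    refine ⟨inf_le_right, P.2.to_le inf_le_left, fun D hD hle hDC => ?_⟩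
    have hG : IsSylIn p (P : Subgroup G) ⊤ := ⟨le_top, P.2, fun E hE hle' _ => P.3 hE hle'⟩
    obtain ⟨b, -, hb⟩ := IsSylIn.exists_conj_le hG hD le_top
    refine (Subgroup.eq_of_le_of_card_ge hle ?_).symm
    rw [← card_img_cj D b]
    exact card_le_of_le (img_le fun x hx => ⟨hb x hx, hCn.conj_mem x (hDC hx) b⟩)
  refine ⟨X, hne, hXT.trans inf_le_left, fun A g hA hgA => ?_⟩
  -- Frattini: `g = m * c`
  obtain ⟨m, hm, c, hc, rfl⟩ : ∃ m ∈ normalizer (T : Set G), ∃ c ∈ C, g = m * c := by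
    obtain ⟨b, hbC, hb⟩ := hsylT.exists_conj_le (isPGroup_img_cj hsylT.2.1 g)
      (img_le fun t ht => hCn.conj_mem t ht.2 g)
    have hm : b * g ∈ normalizer (T : Set G) := mem_normalizer_fintype fun t ht => by
      have := hb _ (mem_img_of_mem (cj g) ht)
      simp only [cj_apply] at this
      simpa [mul_assoc] using this
    exact ⟨b * g, hm, (b * g)⁻¹ * b⁻¹ * (b * g), by
      simpa using hCn.conj_mem _ (inv_mem hbC) (b * g)⁻¹, by group⟩
  have hP' : IsPGroup p ↥(img (P : Subgroup G) (cj m⁻¹)) := isPGroup_img_cj P.2 _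
  have hAT : ∀ a ∈ A, c * a * c⁻¹ ∈ img (P : Subgroup G) (cj m⁻¹) := fun a ha =>
    mem_img_cj.mpr (by simpa [mul_assoc] using hgA a ha)
  set Y := closure ((fun a => c * a * c⁻¹) '' A) ⊔ T with hY
  have hYP : Y ≤ img (P : Subgroup G) (cj m⁻¹) := by
    refine sup_le ((closure_le _).mpr ?_) fun t ht => ?_
    · rintro _ ⟨a, ha, rfl⟩
      exact hAT a ha
    · refine mem_img_cj.mpr ?_
      rw [inv_inv]
      exact ((mem_normalizer_iff.mp hm t).mp ht).1
  have hYH : Y ≤ H := by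
    refine sup_le ((closure_le _).mpr ?_) (inf_le_left.trans hPH)
    rintro _ ⟨a, ha, rfl⟩
    exact mul_mem (mul_mem (hCH hc) (hPH (hA ha))) (inv_mem (hCH hc))
  obtain ⟨b, hbH, hb⟩ := hsylP.exists_conj_le (hP'.to_le hYP) hYH
  have hbT : b ∈ normalizer (T : Set G) := hPT fun t ht => hb t (mem_sup_right ht)
  set c' := b * c with hc'
  have hc'H : c' ∈ H := mul_mem hbH (hCH hc)
  have hc'A : ∀ a ∈ A, c' * a * c'⁻¹ ∈ (P : Subgroup G) := fun a ha => by
    have := hb _ (mem_sup_left (subset_closure ⟨a, ha, rfl⟩))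
    simp only [cj_apply] at this
    simpa [hc', mul_assoc] using this
  -- control in `H / R`
  have hfuse : ∀ (B : Set G), B ⊆ (P : Subgroup G) → ∀ h ∈ H,
      (∀ a ∈ B, π (h * a * h⁻¹) ∈ (P : Subgroup G).map π) → ∃ u ∈ H,
        u ∈ normalizer (X : Set G) ∧ ∀ a ∈ B, π (u * a * u⁻¹) = π (h * a * h⁻¹) := by
    intro B hB h hh hhB
    obtain ⟨n, hn, hn'⟩ := hctl {z : Hb | ∃ a ∈ B, (z : G ⧸ R) = π a}
      (fun z hz => by
        obtain ⟨a, ha, e⟩ := hz
        exact mem_subgroupOf.mpr (e ▸ mem_map_of_mem π (hB ha)))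
      ⟨π h⁻¹, mem_map_of_mem π (inv_mem hh)⟩
      (fun z hz => by
        obtain ⟨a, ha, e⟩ := hz
        refine mem_subgroupOf.mpr ?_
        show (π h⁻¹)⁻¹ * (z : G ⧸ R) * π h⁻¹ ∈ _
        rw [e]
        rw [← map_inv, ← map_mul, ← map_mul, inv_inv]
        exact hhB a ha)
    obtain ⟨u, hu, hun⟩ := n.2
    refine ⟨u⁻¹, inv_mem hu, inv_mem (hXN (by rw [hun]; exact hZK n hn)), fun a ha => ?_⟩
    have := congrArg Subtype.val
      (hn' ⟨π a, mem_map_of_mem π (hPH (hB ha))⟩ ⟨a, ha, rfl⟩)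
    simpa [← hun] using this
  obtain ⟨u, huH, huX, hu⟩ := hfuse A hA c' hc'H fun a ha => mem_map_of_mem π (hc'A a ha)
  -- the difference acts trivially modulo `R`
  set D : Subgroup G := H ⊓ (centralizer (π '' A : Set (G ⧸ R))).comap π with hD
  have hdD : u⁻¹ * c' ∈ D := by
    refine ⟨H.mul_mem (H.inv_mem huH) hc'H, mem_comap.mpr (mem_centralizer_iff.mpr ?_)⟩
    rintro _ ⟨a, ha, rfl⟩
    have h1 := hu a ha
    simp only [map_mul, map_inv] at h1 ⊢
    calc π a * ((π u)⁻¹ * π c') = (π u)⁻¹ * (π u * π a * (π u)⁻¹) * π c' := by group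
      _ = (π u)⁻¹ * (π c' * π a * (π c')⁻¹) * π c' := by rw [h1]
      _ = _ := by group
  set W := closure A ⊔ R with hW
  have hWP : W ≤ (P : Subgroup G) := sup_le ((closure_le _).mpr hA) hRP
  have hWD : ∀ d ∈ D, ∀ w ∈ W, π (d * w * d⁻¹) = π w := by
    intro d hd w hw
    have hle : W ≤ (centralizer ({π d} : Set (G ⧸ R))).comap π := by
      refine sup_le ((closure_le _).mpr fun a ha => ?_) fun r hr => ?_
      · exact mem_centralizer_iff.mpr fun y hy => by
          rw [Set.mem_singleton_iff.mp hy]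
          exact (mem_centralizer_iff.mp (mem_comap.mp hd.2) _ ⟨a, ha, rfl⟩).symm
      · rw [mem_comap, hone.mpr hr]; exact one_mem _
    have := mem_centralizer_iff.mp (mem_comap.mp (hle hw)) _ rfl
    rw [map_mul, map_mul, map_inv, this, mul_inv_cancel_right]
  have hDW : ∀ d ∈ D, ∀ w ∈ W, d * w * d⁻¹ ∈ W := fun d hd w hw => by
    have h1 : w⁻¹ * (d * w * d⁻¹) ∈ R :=
      hone.mp (by rw [map_mul, map_inv, hWD d hd w hw, inv_mul_cancel])
    have := W.mul_mem hw (mem_sup_right h1 : _ ∈ W)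
    rwa [mul_inv_cancel_left] at this
  set K : Subgroup G := centralizer (W : Set G) with hK
  haveI hKn : (K.subgroupOf D).Normal := ⟨fun x hx d => by
    refine mem_subgroupOf.mpr (mem_centralizer_iff.mpr fun w hw => ?_)
    have h1 := mem_centralizer_iff.mp (mem_subgroupOf.mp hx) _ (hDW _ (inv_mem d.2) w hw)
    simp only [inv_inv] at h1
    push_cast
    calc w * ((d : G) * x * (d : G)⁻¹) = d * (((d : G)⁻¹ * w * d) * x) * (d : G)⁻¹ := by group
      _ = d * (x * ((d : G)⁻¹ * w * d)) * (d : G)⁻¹ := by rw [h1]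
      _ = _ := by group⟩
  set θ := QuotientGroup.mk' (K.subgroupOf D)
  have hθs : Function.Surjective θ := QuotientGroup.mk'_surjective _
  have hDK : IsPGroup p (↥D ⧸ K.subgroupOf D) := fun q => by
    obtain ⟨d, rfl⟩ := hθs q
    refine ⟨(orderOf (d : G)).factorization p, ?_⟩
    rw [← map_pow]
    refine (QuotientGroup.eq_one_iff _).mpr (mem_subgroupOf.mpr ?_)
    set j := (orderOf (d : G)).factorization p
    have hcop : Nat.Coprime (orderOf ((d : G) ^ p ^ j)) p := by
      rw [orderOf_pow_of_dvd (pow_ne_zero _ hp.out.ne_zero) (Nat.ordProj_dvd _ _)]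
      exact (Nat.coprime_ordCompl hp.out (orderOf_pos _).ne').symm
    have hdj : (d : G) ^ p ^ j ∈ D := pow_mem d.2 _
    show (d : G) ^ p ^ j ∈ K
    refine CfsgLib.Techniques.CentralQuotient.mem_centralizer_of_layers (P.2.to_le hWP)
      le_sup_right hcop (fun r hr => (mem_centralizer_iff.mp (hcenH _ hdj.1 hcop) r hr).symm)
      fun w hw => hone.mp ?_
    rw [map_mul, map_inv, hWD _ hdj w hw, inv_mul_cancel]
  obtain ⟨S⟩ : Nonempty (Sylow p D) := inferInstance
  have hStop : (S : Subgroup D).map θ = ⊤ :=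
    ((S.mapSurjective hθs).is_maximal' (Q := ⊤) (hDK.of_equiv topEquiv.symm) le_top).symm
  -- a conjugate of the Sylow subgroup normalizes `X`
  obtain ⟨e, he, heS⟩ : ∃ e : D, True ∧ ∀ w ∈ (S : Subgroup D),
      (e : G) * w * (e : G)⁻¹ ∈ normalizer (X : Set G) := by
    set Sb := ((S : Subgroup D).map D.subtype).map π
    set Ab := closure (π '' A)
    have hSN : Sb ≤ normalizer (Ab : Set (G ⧸ R)) := by
      rintro _ ⟨_, ⟨w, -, rfl⟩, rfl⟩
      refine centralizer_le_normalizer Ab ?_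
      rw [centralizer_closure]
      exact mem_comap.mp w.2.2
    have hAp : IsPGroup p Ab := (P.2.map π).to_le ((closure_le _).mpr (Set.image_mono hA))
    have hup : IsPGroup p ↥(Sb ⊔ Ab) := ((S.2.map _).map π).to_sup_of_normal_right' hAp hSN
    have hsylb : IsSylIn p ((P : Subgroup G).map π) Hb :=
      ⟨map_mono hPH, P.2.map π, fun E hE hle _ => Pq.3 hE hle⟩
    have hSH : Sb ≤ Hb := map_mono fun x hx => by
      obtain ⟨w, -, rfl⟩ := hx
      exact w.2.1
    have hAH : Ab ≤ Hb := (closure_le _).mpr (Set.image_mono fun a ha => hPH (hA ha))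
    obtain ⟨_, ⟨h, hh, rfl⟩, hhb⟩ := hsylb.exists_conj_le hup (sup_le hSH hAH)
    obtain ⟨x, hxH, hxX, hx⟩ := hfuse A hA h hh fun a ha => by
      have := hhb _ (mem_sup_right (subset_closure ⟨a, ha, rfl⟩))
      simpa [cj_apply, -Subgroup.mem_map] using this
    have heD : x⁻¹ * h ∈ D := by
      refine ⟨H.mul_mem (H.inv_mem hxH) hh, mem_comap.mpr (mem_centralizer_iff.mpr ?_)⟩
      rintro _ ⟨a, ha, rfl⟩
      have h1 := hx a ha
      simp only [map_mul, map_inv] at h1 ⊢
      calc π a * ((π x)⁻¹ * π h) = (π x)⁻¹ * (π x * π a * (π x)⁻¹) * π h := by group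
        _ = (π x)⁻¹ * (π h * π a * (π h)⁻¹) * π h := by rw [h1]
        _ = _ := by group
    refine ⟨⟨_, heD⟩, trivial, fun w hw => ?_⟩
    have h1 := hhb _ (mem_sup_left (mem_map_of_mem π (mem_map_of_mem D.subtype hw)))
    obtain ⟨y, hy, hye⟩ := h1
    simp only [cj_apply, Subgroup.coe_subtype] at hye
    have h2 : h * (w : G) * h⁻¹ ∈ normalizer (X : Set G) := by
      have h3 : y⁻¹ * (h * (w : G) * h⁻¹) ∈ R := hone.mp (by
        simp only [map_mul, map_inv, hye]
        show _ = (1 : G ⧸ R)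
        simp [mul_assoc])
      have := mul_mem (hTN (hPN hy)) (hTN (hPN (hRP h3)))
      rwa [mul_inv_cancel_left] at this
    have := mul_mem (mul_mem (inv_mem hxX) h2) hxX
    simpa [mul_assoc] using this
  obtain ⟨w, hw, hwe⟩ : θ (e⁻¹ * ⟨_, hdD⟩ * e) ∈ (S : Subgroup D).map θ := hStop ▸ mem_top _
  have hk : w⁻¹ * (e⁻¹ * ⟨_, hdD⟩ * e) ∈ K.subgroupOf D := QuotientGroup.eq.mp hwe
  have hk2 := mem_subgroupOf.mp (hKn.conj_mem _ hk e)
  refine ⟨m * b⁻¹ * u * ((e : G) * w * (e : G)⁻¹),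
    mul_mem (mul_mem (mul_mem (hTN hm) (inv_mem (hTN hbT))) huX) (heS w hw), fun a ha => ?_⟩
  generalize hv : (e : G) * w * (e : G)⁻¹ = v at *
  have hkv : ((e * (w⁻¹ * (e⁻¹ * ⟨_, hdD⟩ * e)) * e⁻¹ : D) : G) = v⁻¹ * (u⁻¹ * c') := by
    rw [← hv]; push_cast; group
  rw [hkv] at hk2
  have hka := mem_centralizer_iff.mp hk2 a (mem_sup_left (subset_closure ha))
  generalize hk' : v⁻¹ * (u⁻¹ * c') = k at hka
  have e1 : m * c = m * b⁻¹ * u * v * k := by
    rw [← hk', hc']; group
  rw [e1]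
  calc m * b⁻¹ * u * v * a * (m * b⁻¹ * u * v)⁻¹
      = m * b⁻¹ * u * v * (a * k * k⁻¹) * (m * b⁻¹ * u * v)⁻¹ := by rw [mul_inv_cancel_right]
    _ = m * b⁻¹ * u * v * (k * a * k⁻¹) * (m * b⁻¹ * u * v)⁻¹ := by rw [hka]
    _ = _ := by group

end CfsgLib.Fusion
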