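import Mathlib
import Cfsg.Agent.Lib.Fusion.PStableStep
import Cfsg.Agent.Lib.Fusion.Criteria

/-!
# `p`-stability of a group and of its fusion system
-/

set_option autoImplicit false
set_option linter.unusedSectionVars false

namespace CfsgLib.Fusion

open Cfsg Cfsg.FusionSystem Subgroup
open scoped commutatorElement

universe u

variable {p : ℕ} [hp : Fact p.Prime] {G : Type u} [Group G] [Finite G]

/-- The fusion system `F` is `p`-stable. -/
def SysStable (p : ℕ) {S : Subgroup G} (F : FusionSystem S) : Prop :=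
  ∀ Q : Subgroup G, F.IsFullyNormalized Q → ∀ χ : MulAut ↥Q, χ ∈ F.autGroup Q →
    (∀ a : ↥Q, (χ a⁻¹) * a * (χ a⁻¹) * (χ (χ a)) = 1) →
    χ ∈ ((pCore p ↥(F.autGroup Q)).map (F.autGroup Q).subtype : Subgroup (MulAut ↥Q))

theorem quad_expr_iff {Q : Type*} [Group Q] (χ : MulAut Q) (a : Q) :
    χ a⁻¹ * a * χ a⁻¹ * χ (χ a) = 1 ↔ χ (a⁻¹ * χ a) = a⁻¹ * χ a := by
  rw [map_mul, map_inv]
  generalize χ a = b
  generalize χ b = c
  constructor
  · intro h
    calc b⁻¹ * c = a⁻¹ * b * (b⁻¹ * a * b⁻¹ * c) := by group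
      _ = a⁻¹ * b := by rw [h, mul_one]
  · intro h
    calc b⁻¹ * a * b⁻¹ * c = b⁻¹ * a * (b⁻¹ * c) := by group
      _ = 1 := by rw [h]; group

theorem quad_iff (Q : Subgroup G) (n : normalizer (Q : Set G)) :
    ⁅⁅Q, zpowers (n : G)⁆, zpowers (n : G)⁆ = ⊥ ↔
      ∀ a : Q, Q.normalizerMonoidHom n (a⁻¹ * Q.normalizerMonoidHom n a) =
        a⁻¹ * Q.normalizerMonoidHom n a := by
  set υ := Q.normalizerMonoidHom n with hυ
  have hc : ∀ x : Q, (υ x : G) = (n : G) * x * (n : G)⁻¹ := fun _ => rfl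
  constructor
  · intro h a
    have h1 : ((a⁻¹ * υ a : Q) : G) ∈ centralizer (zpowers (n : G) : Set G) := by
      refine commutator_eq_bot_iff_le_centralizer.mp h ?_
      have := commutator_mem_commutator (H₁ := Q) (H₂ := zpowers (n : G))
        (inv_mem a.2) (mem_zpowers (n : G))
      rw [commutatorElement_def, inv_inv] at this
      simpa [hc, mul_assoc] using this
    refine Subtype.ext ?_
    rw [hc, mem_centralizer_iff.mp h1 (n : G) (mem_zpowers (n : G)), mul_inv_cancel_right]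
  · intro hq
    rw [commutator_eq_bot_iff_le_centralizer, commutator_le]
    intro w hw h hh
    obtain ⟨k, rfl⟩ : h ∈ Submonoid.powers (n : G) := mem_powers_iff_mem_zpowers.2 hh
    set x : Q := (⟨w, hw⟩ : Q)⁻¹ with hx
    show ⁅w, (n : G) ^ k⁆ ∈ _
    have he : ⁅w, (n : G) ^ k⁆ = ((x⁻¹ * υ x) ^ k : Q) := by
      have h1 : (((υ ^ k) x : Q) : G) = (n : G) ^ k * x * ((n : G) ^ k)⁻¹ := by
        rw [hυ, ← map_pow]; rfl
      rw [CfsgLib.Techniques.CentralQuotient.pow_apply_of_fixed υ x (hq x) k] at h1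
      rw [commutatorElement_def]
      calc w * (n : G) ^ k * w⁻¹ * ((n : G) ^ k)⁻¹ =
          (x : G)⁻¹ * ((n : G) ^ k * x * ((n : G) ^ k)⁻¹) := by simp [hx, mul_assoc]
        _ = _ := by rw [← h1]; push_cast; group
    rw [he]
    refine mem_centralizer_iff.2 fun j hj => ?_
    obtain ⟨i, rfl⟩ := mem_zpowers_iff.1 hj
    refine (Commute.zpow_left ?_ i).eq
    have h2 : (n : G) * ((x⁻¹ * υ x) ^ k : Q) * (n : G)⁻¹ = ((x⁻¹ * υ x) ^ k : Q) := by
      rw [← hc, map_pow, hq]
    exact mul_inv_eq_iff_eq_mul.1 h2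

/-- The automizer as a quotient of the normalizer. -/
theorem autGroup_eq_range {S Q : Subgroup G} (hQ : Q ≤ S) :
    (groupFusionSystem S).autGroup Q = Q.normalizerMonoidHom.range := by
  rw [autGroup_group hQ, autInducedBy_eq_map, MonoidHom.range_eq_map]
  simp

theorem mem_pCore_aut_iff (Q : Subgroup G) (n : normalizer (Q : Set G)) :
    (QuotientGroup.mk (s := (centralizer (Q : Set G)).subgroupOf (normalizer (Q : Set G))) n) ∈
        pCore p (↥(normalizer (Q : Set G)) ⧸
          (centralizer (Q : Set G)).subgroupOf (normalizer (Q : Set G))) ↔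
      Q.normalizerMonoidHom n ∈
        (pCore p ↥(Q.normalizerMonoidHom.range)).map Q.normalizerMonoidHom.range.subtype := by
  let ρ := Q.normalizerMonoidHom
  let C := (centralizer (Q : Set G)).subgroupOf (normalizer (Q : Set G))
  have hk : ρ.ker = C := Subgroup.normalizerMonoidHom_ker Q
  let e : (↥(normalizer (Q : Set G)) ⧸ C) ≃* ρ.range :=
    (QuotientGroup.quotientMulEquivOfEq hk.symm).trans (QuotientGroup.quotientKerEquivRange ρ)
  have he : e (QuotientGroup.mk n) = ⟨ρ n, ⟨n, rfl⟩⟩ := rfl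
  constructor
  · intro h
    exact ⟨_, CfsgLib.Base.map_pCore_le e.toMonoidHom e.surjective (mem_map_of_mem _ h),
      congrArg Subtype.val he⟩
  · rintro ⟨x, hx, hxe⟩
    have : x = e (QuotientGroup.mk n) := Subtype.ext (hxe.trans (congrArg Subtype.val he).symm)
    subst this
    have := CfsgLib.Base.map_pCore_le e.symm.toMonoidHom e.symm.surjective (mem_map_of_mem _ hx)
    simpa using this

/-- Stability at a subgroup passes to its conjugates. -/
theorem mem_pCore_conj (Q Q' : Subgroup G) (h : G) (hQ' : Q' = img Q (cj h))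
    (n : normalizer (Q : Set G)) (n' : normalizer (Q' : Set G)) (hn : (n' : G) = h * n * h⁻¹)
    (hmem : QuotientGroup.mk (s := (centralizer (Q' : Set G)).subgroupOf
        (normalizer (Q' : Set G))) n' ∈
      pCore p (↥(normalizer (Q' : Set G)) ⧸
        (centralizer (Q' : Set G)).subgroupOf (normalizer (Q' : Set G)))) :
    QuotientGroup.mk (s := (centralizer (Q : Set G)).subgroupOf (normalizer (Q : Set G))) n ∈
      pCore p (↥(normalizer (Q : Set G)) ⧸
        (centralizer (Q : Set G)).subgroupOf (normalizer (Q : Set G))) := by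
  subst hQ'
  have hm : ∀ x : normalizer ((img Q (cj h) : Subgroup G) : Set G), h⁻¹ * x * h ∈ normalizer (Q : Set G) := fun x =>
    mem_normalizer_fintype fun y hy => by
      have h1 := (mem_normalizer_iff.mp x.2 (h * y * h⁻¹)).mp (mem_img_of_mem (cj h) hy)
      obtain ⟨h2⟩ : Nonempty (h⁻¹ * ((x : G) * (h * y * h⁻¹) * (x : G)⁻¹) * h ∈ Q) :=
        ⟨mem_img_cj.mp h1⟩
      simpa [mul_assoc] using h2
  let θ : normalizer ((img Q (cj h) : Subgroup G) : Set G) →* normalizer (Q : Set G) :=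
    MonoidHom.mk' (fun x => ⟨h⁻¹ * x * h, hm x⟩) fun a b => Subtype.ext (by
      show h⁻¹ * ((a : G) * b) * h = h⁻¹ * a * h * (h⁻¹ * b * h)
      group)
  have hθ : Function.Surjective θ := fun y => by
    refine ⟨⟨h * y * h⁻¹, cj_mem_normalizer_img y.2⟩, Subtype.ext ?_⟩
    show h⁻¹ * (h * y * h⁻¹) * h = y
    group
  let C' := (centralizer ((img Q (cj h) : Subgroup G) : Set G)).subgroupOf (normalizer ((img Q (cj h) : Subgroup G) : Set G))
  let C := (centralizer (Q : Set G)).subgroupOf (normalizer (Q : Set G))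
  have hle : C' ≤ C.comap θ := fun x hx => mem_subgroupOf.mpr (mem_centralizer_iff.mpr fun y hy => by
    have h1 := mem_centralizer_iff.mp (mem_subgroupOf.mp hx) (h * y * h⁻¹) (mem_img_of_mem (cj h) hy)
    show y * (h⁻¹ * (x : G) * h) = h⁻¹ * (x : G) * h * y
    calc y * (h⁻¹ * (x : G) * h) = h⁻¹ * (h * y * h⁻¹ * x) * h := by group
      _ = h⁻¹ * (x * (h * y * h⁻¹)) * h := by rw [h1]
      _ = _ := by group)
  have hψ : Function.Surjective (QuotientGroup.map C' C θ hle) := fun q => by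
    obtain ⟨y, rfl⟩ := QuotientGroup.mk_surjective q
    obtain ⟨x, rfl⟩ := hθ y
    exact ⟨QuotientGroup.mk x, rfl⟩
  have e : θ n' = n := Subtype.ext (by show h⁻¹ * (n' : G) * h = n; rw [hn]; group)
  have := CfsgLib.Base.map_pCore_le _ hψ (mem_map_of_mem (QuotientGroup.map C' C θ hle) hmem)
  rwa [QuotientGroup.map_mk, e] at this

theorem stable_group_iff (P : Sylow p G) :
    IsNormalizerPStable p G ↔ SysStable p (groupFusionSystem (P : Subgroup G)) := by
  constructor
  · intro hst Q hQ χ hχ hq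
    rw [autGroup_eq_range hQ.1] at hχ ⊢
    obtain ⟨n, rfl⟩ := hχ
    exact (mem_pCore_aut_iff Q n).mp (hst Q (P.2.to_le hQ.1) n n.2
      ((quad_iff Q n).mpr fun a => (quad_expr_iff _ a).mp (hq a)))
  · intro hst Q hQ g hg hq
    obtain ⟨h₁, hh₁⟩ := exists_conj_le_sylow P hQ
    obtain ⟨h₂, hle, hsyl⟩ := exists_sylow_normalizer P hh₁
    rw [img_cj_cj] at hle hsyl
    set h := h₂ * h₁
    set Q' := img Q (cj h) with hQ'
    have hn : h * g * h⁻¹ ∈ normalizer (Q' : Set G) := cj_mem_normalizer_img hg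
    refine mem_pCore_conj Q Q' h rfl ⟨g, hg⟩ ⟨_, hn⟩ rfl ((mem_pCore_aut_iff Q' _).mpr ?_)
    have hfn : (groupFusionSystem (P : Subgroup G)).IsFullyNormalized Q' :=
      (fullyNormalized_group_iff P hle).mpr hsyl
    have h2 := hst Q' hfn (Q'.normalizerMonoidHom ⟨_, hn⟩)
      (by rw [autGroup_eq_range hle]; exact ⟨_, rfl⟩) fun a => (quad_expr_iff _ a).mpr
        ((quad_iff Q' ⟨_, hn⟩).mp (by
          have h3 := congrArg (Subgroup.map (MulAut.conj h).toMonoidHom) hq
          rw [map_commutator, map_commutator, Subgroup.map_bot, MonoidHom.map_zpowers,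
            ← img_cj] at h3
          exact h3) a)
    rwa [autGroup_eq_range hle] at h2

/-- **The core of the fusion system of a `p`-stable group is centric.** -/
theorem core_centric_of_stable (hp2 : p ≠ 2) (hst : IsNormalizerPStable p G) (P : Sylow p G) :
    centralizerIn (P : Subgroup G) (groupFusionSystem (P : Subgroup G)).core ≤
      (groupFusionSystem (P : Subgroup G)).core := by
  set F := groupFusionSystem (P : Subgroup G) with hF
  set R := F.core with hR
  by_contra hnc
  have hRn := isNormal_core F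
  have hRP := hRn.1
  set N := normalizer (R : Set G) with hN
  have hPN : (P : Subgroup G) ≤ N := stronglyClosed_le_normalizer (isNormal_stronglyClosed hRn)
  let PN : Sylow p N := P.subtype hPN
  have hPN' : (PN : Subgroup N) = (P : Subgroup G).subgroupOf N := rfl
  obtain ⟨X, hRX, hXP, hX⟩ := exists_bigger_of_stable hp2
    (CfsgLib.Techniques.CentralQuotient.isNormalizerPStable_subgroup hst N) PN (R.subgroupOf N)
    (fun x hx => mem_subgroupOf.mpr (hRP (mem_subgroupOf.mp hx))) fun h => hnc fun x hx => by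
      obtain ⟨hxP, hxC⟩ := mem_inf.mp hx
      exact mem_subgroupOf.mp (h (x := ⟨x, hPN hxP⟩) ⟨mem_subgroupOf.mpr hxP,
        mem_centralizer_iff.mpr fun r hr => Subtype.ext
          (mem_centralizer_iff.mp hxC r (mem_subgroupOf.mp hr))⟩)
  set X' := X.map N.subtype with hX'
  have hX'P : X' ≤ (P : Subgroup G) := by
    rintro _ ⟨x, hx, rfl⟩
    exact mem_subgroupOf.mp (hXP hx)
  have hlt : ¬ X' ≤ R := fun h => not_le_of_gt hRX fun x hx =>
    mem_subgroupOf.mpr (h (mem_map_of_mem _ hx))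
  refine hlt (le_core (isNormal_iff.mpr ⟨hX'P, fun A f hf => ?_⟩))
  obtain ⟨hAP, hfP, g, hg⟩ := isMor_group.mp hf
  obtain ⟨k, hk, hkf, hkR⟩ := (isNormal_iff.mp hRn).2 A f hf
  obtain ⟨-, -, n, hn⟩ := isMor_group.mp hk
  have hnN : n ∈ N := mem_normalizer_fintype fun r hr => by
    have h1 := hkR.le (mem_img_of_mem k hr)
    rwa [hn r (mem_sup_right hr), cj_apply] at h1
  have hnA : ∀ a ∈ A, n * a * n⁻¹ = f a := fun a ha => by
    rw [← hkf a ha, hn a (mem_sup_left ha), cj_apply]
  obtain ⟨x, hx, hxA⟩ := hX (Subtype.val ⁻¹' (A : Set G)) ⟨n, hnN⟩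
    (fun a ha => mem_subgroupOf.mpr (hAP ha)) fun a ha => mem_subgroupOf.mpr (by
      show n * (a : G) * n⁻¹ ∈ (P : Subgroup G)
      rw [hnA a ha]
      exact hfP a ha)
  have hxA' : ∀ a ∈ A, cj (x : G) a = f a := fun a ha => by
    rw [← hnA a ha]
    exact congrArg Subtype.val (hxA ⟨a, hPN (hAP ha)⟩ ha)
  have hxX : (x : G) ∈ normalizer (X' : Set G) := le_normalizer_map N.subtype (mem_map_of_mem _ hx)
  refine ⟨cj (x : G), isMor_group.mpr ⟨sup_le hAP hX'P, fun y hy => ?_, _, fun _ _ => rfl⟩, hxA',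
    img_cj_of_normalizer hxX⟩
  refine (sup_le (fun a ha => ?_) (fun b hb => ?_) :
    A ⊔ X' ≤ (P : Subgroup G).comap (MulAut.conj (x : G)).toMonoidHom) hy
  · show cj (x : G) a ∈ (P : Subgroup G)
    rw [hxA' a ha]
    exact hfP a ha
  · exact hX'P ((mem_normalizer_iff.mp hxX b).mp hb)

theorem group_constrained_of_stable (hp2 : p ≠ 2) (hst : IsNormalizerPStable p G) (P : Sylow p G) :
    (groupFusionSystem (P : Subgroup G)).IsConstrained p := by
  have hRn := isNormal_core (groupFusionSystem (P : Subgroup G))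
  refine ⟨groupFusion_isSaturated P, _, hRn, hRn.1, fun U hU => ?_⟩
  obtain ⟨f, hf, rfl⟩ := isConj_iff.mp hU
  rw [hf.img_eq_self fun x hx =>
    (stronglyClosed_iff.mp (isNormal_stronglyClosed hRn)).2 _ f hf x hx hx]
  exact core_centric_of_stable hp2 hst P

end CfsgLib.Fusion
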