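import Cfsg.Agent.Lib.Fusion.PStableGroup
import Cfsg.Agent.Lib.Fusion.NormalizerSaturated
import Cfsg.Agent.Lib.Fusion.Centric
import Cfsg.Agent.S5096

/-!
# `p`-stability of a fusion system is a local property
-/

set_option autoImplicit false
set_option linter.unusedSectionVars false

namespace CfsgLib.Fusion

open Cfsg Cfsg.FusionSystem

variable {p : ℕ} [hp : Fact p.Prime] {Ω : Type*} [Group Ω] {S : Subgroup Ω} [Finite S]
  {F : FusionSystem S}

/-- An isomorphism between automorphism groups of two systems carries `O_p` into `O_p`. -/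
theorem map_mem_pCoreAut {T : Subgroup Ω} {E : FusionSystem T} {P Q : Subgroup Ω}
    (e : MulAut P ≃* MulAut Q) (he : ∀ α, α ∈ F.autGroup P ↔ e α ∈ E.autGroup Q) {χ : MulAut P}
    (hχ : χ ∈ pCoreAut F p P) : e χ ∈ pCoreAut E p Q := by
  refine le_pCoreAut (K := (pCoreAut F p P).map e.toMonoidHom) ?_ ?_ ?_ ⟨χ, hχ, rfl⟩
  · rintro _ ⟨k, ⟨k', -, rfl⟩, rfl⟩
    exact (he _).mp k'.2
  · exact ((Base.isPGroup_pCore p _).map _).map _
  · rintro a ha _ ⟨k, hk, rfl⟩
    obtain ⟨b, rfl⟩ := e.surjective a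
    refine ⟨b * k * b⁻¹, ?_, by simp⟩
    obtain ⟨k', hk', rfl⟩ := hk
    haveI : (pCore p (F.autGroup P)).Normal := inferInstance
    exact ⟨⟨b, (he b).mpr ha⟩ * k' * ⟨b, (he b).mpr ha⟩⁻¹,
      (inferInstance : (pCore p (F.autGroup P)).Normal).conj_mem _ hk' _, rfl⟩

theorem mem_pCoreAut_mono {T : Subgroup Ω} {E : FusionSystem T} {P : Subgroup Ω}
    (hle : E.autGroup P ≤ F.autGroup P) {χ : MulAut P} (hE : χ ∈ E.autGroup P)
    (hχ : χ ∈ pCoreAut F p P) : χ ∈ pCoreAut E p P := by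
  refine le_pCoreAut (K := pCoreAut F p P ⊓ E.autGroup P) inf_le_right ?_ ?_ ⟨hχ, hE⟩
  · exact isPGroup_of_le inf_le_left ((Base.isPGroup_pCore p _).map _)
  · rintro a ha k ⟨⟨k', hk', rfl⟩, hkE⟩
    exact ⟨⟨⟨a, hle ha⟩ * k' * ⟨a, hle ha⟩⁻¹,
      (inferInstance : (pCore p (F.autGroup P)).Normal).conj_mem _ hk' _, rfl⟩,
      mul_mem (mul_mem ha hkE) (Subgroup.inv_mem _ ha)⟩

/-- Quadratic action. -/
def QuadAut {Q : Subgroup Ω} (χ : MulAut Q) : Prop :=
  ∀ a : Q, χ a⁻¹ * a * χ a⁻¹ * χ (χ a) = 1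

theorem QuadAut.transport {P Q : Subgroup Ω} {f : Ω → Ω} (hf : IsMor F P f) (hQ : img P f = Q)
    (e : MulAut P ≃* MulAut Q)
    (he : ∀ α : MulAut P, ∀ x ∈ P, autFun (e α) (f x) = f (autFun α x)) {χ : MulAut P}
    (h : QuadAut χ) : QuadAut (e χ) := by
  intro a
  obtain ⟨x, hx, hxa⟩ := hf.mem_img.mp (hQ.ge a.2)
  have hm : ∀ {y : Ω}, y ∈ P → autFun χ y ∈ P := fun hy => autFun_mem χ hy
  have h0 := congrArg Subtype.val (h ⟨x, hx⟩)
  simp only [Subgroup.coe_mul, Subgroup.coe_one, ← autFun_coe, Subgroup.coe_inv] at h0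
  refine Subtype.ext ?_
  simp only [Subgroup.coe_mul, Subgroup.coe_one, ← autFun_coe, Subgroup.coe_inv, ← hxa]
  rw [← hf.map_inv hx, he χ _ (P.inv_mem hx), he χ x hx, he χ _ (hm hx),
    ← hf.map_mul (hm (P.inv_mem hx)) hx,
    ← hf.map_mul (P.mul_mem (hm (P.inv_mem hx)) hx) (hm (P.inv_mem hx)),
    ← hf.map_mul (P.mul_mem (P.mul_mem (hm (P.inv_mem hx)) hx) (hm (P.inv_mem hx))) (hm (hm hx)),
    h0, hf.map_one]

/-- Stability at one subgroup passes to its conjugates. -/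
theorem mem_pCoreAut_of_conj {P Q : Subgroup Ω} (hc : F.IsConj P Q)
    (h : ∀ χ ∈ F.autGroup Q, QuadAut χ → χ ∈ pCoreAut F p Q) {χ : MulAut P}
    (hχ : χ ∈ F.autGroup P) (hq : QuadAut χ) : χ ∈ pCoreAut F p P := by
  obtain ⟨f, hf, hfi⟩ := isConj_iff.mp hc
  obtain ⟨e, he, heA, -⟩ := exists_transport hf hfi
  have h1 := map_mem_pCoreAut (E := F) e.symm
    (fun α => by rw [heA (e.symm α), MulEquiv.apply_symm_apply])
    (h (e χ) ((heA χ).mp hχ) (hq.transport hf hfi e he))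
  rwa [MulEquiv.symm_apply_apply] at h1

/-- A stable system has stable normalizer systems. -/
theorem stable_normalizerSystem (hst : SysStable p F) {R : Subgroup Ω}
    {N : FusionSystem (normalizerIn S R)} (hN : F.IsNormalizerSystem R N) : SysStable p N := by
  intro Q hQ χ hχ hq
  have hQS : Q ≤ S := hQ.1.trans normalizerIn_le
  have hle : N.autGroup Q ≤ F.autGroup Q := fun α hα =>
    (autGroup_eq_set hQS α).mpr ((isMor_normalizerSystem hN).mp (isMor_autFun hQ.1 hα)).1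
  obtain ⟨Q', hc, hQ'⟩ := exists_fullyNormalized F hQS
  exact mem_pCoreAut_mono hle hχ
    (mem_pCoreAut_of_conj hc (fun α hα hqa => hst Q' hQ' α hα hqa) (hle hχ) hq)

theorem isPGroup_of_quad_cyclic {Q : Type*} [Group Q] [Finite Q] [IsCyclic Q] (hQ : IsPGroup p Q)
    {χ : MulAut Q} (h : ∀ a : Q, χ a⁻¹ * a * χ a⁻¹ * χ (χ a) = 1) :
    IsPGroup p (Subgroup.zpowers χ) := by
  obtain ⟨g, hg⟩ := IsCyclic.exists_generator (α := Q)
  obtain ⟨k, hk⟩ := hg (χ g)
  change g ^ k = χ g at hk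
  have hiter : ∀ m : ℕ, (χ ^ m) g = g ^ (k ^ m) := by
    intro m
    induction m with
    | zero => simp
    | succ m ih => rw [pow_succ', MulAut.mul_apply, ih, map_zpow, ← hk, ← zpow_mul, ← pow_succ']
  obtain ⟨e, he⟩ := IsPGroup.iff_orderOf.mp hQ g
  have hsq : g ^ ((k - 1) ^ 2) = 1 := by
    have h2 := h g
    rw [map_inv, ← hk, map_zpow, ← hk, ← zpow_mul, ← zpow_neg] at h2
    calc g ^ ((k - 1) ^ 2) = g ^ (-k) * g * g ^ (-k) * g ^ (k * k) := by
          rw [← zpow_add_one, ← zpow_add, ← zpow_add]; congr 1; ring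
      _ = 1 := h2
  rw [← orderOf_dvd_iff_zpow_eq_one, he] at hsq
  have hfix : (χ ^ p ^ e) g = g := by
    rw [hiter]
    conv_rhs => rw [← zpow_one g]
    rw [zpow_eq_zpow_iff_modEq, he]
    rcases Nat.eq_zero_or_pos e with rfl | he0
    · simp [Int.modEq_one]
    have h3 : (p : ℤ) ∣ k - 1 :=
      (Nat.prime_iff_prime_int.mp hp.out).dvd_of_dvd_pow
        (((dvd_pow_self (p : ℤ) he0.ne')).trans (by exact_mod_cast hsq))
    have h4 := dvd_sub_pow_of_dvd_sub h3 e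
    rw [one_pow] at h4
    refine (Int.modEq_iff_dvd.mpr ?_).symm
    push_cast
    exact (pow_dvd_pow (p : ℤ) (Nat.le_succ e)).trans h4
  intro x
  obtain ⟨m, hm⟩ := x.2
  refine ⟨e, Subtype.ext ?_⟩
  have h1 : χ ^ p ^ e = 1 := MulEquiv.ext fun y => by
    obtain ⟨j, rfl⟩ := hg y
    show (χ ^ p ^ e) (g ^ j) = g ^ j
    rw [map_zpow, hfix]
  change χ ^ m = (x : MulAut Q) at hm
  rw [Subgroup.coe_pow, Subgroup.coe_one, ← hm, ← zpow_natCast, ← zpow_mul, mul_comm, zpow_mul,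
    zpow_natCast, h1, one_zpow]

/-- Quadratic automorphisms of cyclic subgroups lie in `O_p`. -/
theorem mem_pCoreAut_of_cyclic (hS : IsPGroup p S) {Q : Subgroup Ω} (hQS : Q ≤ S)
    [IsCyclic Q] {χ : MulAut Q} (hχ : χ ∈ F.autGroup Q) (hq : QuadAut χ) :
    χ ∈ pCoreAut F p Q := by
  have := finite_of_le hQS
  refine le_pCoreAut (K := Subgroup.zpowers χ) (Subgroup.zpowers_le.mpr hχ)
    (isPGroup_of_quad_cyclic (isPGroup_of_le hQS hS) hq) ?_ (Subgroup.mem_zpowers χ)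
  intro a _ k hk
  obtain ⟨g, hg⟩ := IsCyclic.exists_generator (α := Q)
  obtain ⟨i, hi⟩ := hg (a g)
  obtain ⟨j, hj⟩ := hg (k g)
  change g ^ i = a g at hi
  change g ^ j = k g at hj
  have hcomm : a * k = k * a := MulEquiv.ext fun y => by
    obtain ⟨l, rfl⟩ := hg y
    show a (k (g ^ l)) = k (a (g ^ l))
    rw [map_zpow, ← hj, map_zpow, map_zpow, ← hi, map_zpow, ← hi, map_zpow, map_zpow, ← hj,
      ← zpow_mul, ← zpow_mul, ← zpow_mul, ← zpow_mul]
    congr 1; ring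
  rwa [hcomm, mul_inv_cancel_right]

/-- The automorphisms of `Q` all extend to `R`. -/
def PSLifts (F : FusionSystem S) (Q R : Subgroup Ω) : Prop :=
  Q ≤ R ∧ ∀ α ∈ F.autGroup Q, ∃ β ∈ F.autGroup R, ∀ x ∈ Q, autFun β x = autFun α x

theorem PSLifts.transport {Q R : Subgroup Ω} (h : PSLifts F Q R) {g : Ω → Ω} (hg : IsMor F R g) :
    PSLifts F (img Q g) (img R g) := by
  refine ⟨img_mono g h.1, fun α' hα' => ?_⟩
  obtain ⟨eQ, heQ, heQA, -⟩ := exists_transport (hg.restrict h.1) rfl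
  obtain ⟨eR, heR, heRA, -⟩ := exists_transport hg rfl
  obtain ⟨α, rfl⟩ := eQ.surjective α'
  obtain ⟨β, hβ, hβe⟩ := h.2 α ((heQA α).mpr hα')
  refine ⟨eR β, (heRA β).mp hβ, fun y hy => ?_⟩
  obtain ⟨x, hx, rfl⟩ := (hg.restrict h.1).mem_img.mp hy
  rw [heR β x (h.1 hx), heQ α x hx, hβe x hx]

theorem normalizerSystem_autGroup_eq {Q R : Subgroup Ω} (hR : R ≤ S) (h : PSLifts F Q R)
    {N : FusionSystem (normalizerIn S R)} (hN : F.IsNormalizerSystem R N) :
    N.autGroup Q = F.autGroup Q := by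
  have hQN : Q ≤ normalizerIn S R := h.1.trans (le_normalizerIn hR)
  ext α
  rw [autGroup_eq_set (hQN.trans normalizerIn_le), autGroup_eq_set hQN, isMor_normalizerSystem hN]
  refine ⟨fun h' => h'.1, fun hα => ?_⟩
  obtain ⟨β, hβ, hβe⟩ := h.2 α ((autGroup_eq_set (hQN.trans normalizerIn_le) α).mpr hα)
  refine ⟨hα, hQN, fun x hx => hQN (autFun_mem α hx), autFun β, ?_, hβe, img_autFun β⟩
  rw [sup_eq_right.mpr h.1]
  exact isMor_autFun hR hβ

/-- Every subgroup has a conjugate all whose automorphisms extend to a centric subgroup. -/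
theorem exists_centric_lifts (hS : IsPGroup p S) (hF : F.IsSaturated p) {Q : Subgroup Ω}
    (hQ : F.IsFullyNormalized Q) :
    ∃ R, F.IsCentric R ∧ PSLifts F Q R := by
  have hr := (isFullyAutomized_of_normalized hS hF hQ).2
  set R := centralizerIn S Q ⊔ Q with hR
  have hRS : R ≤ S := sup_le centralizerIn_le hQ.1
  refine ⟨R, ⟨hRS, fun U hU => ?_⟩, le_sup_right, fun α hα => ?_⟩
  · obtain ⟨f, hf, rfl⟩ := isConj_iff.mp hU
    intro z hz
    obtain ⟨hzS, hzc⟩ := mem_centralizerIn.mp hz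
    obtain ⟨hi, hhi, -, hhr, hhi2⟩ := (hf.restrict (le_sup_right : Q ≤ R)).inverse
    obtain ⟨g, hg, hge, hgC⟩ := exists_map_centralizer hr hhi hhi2
    have hzC : z ∈ centralizerIn S (img Q f) :=
      mem_centralizerIn.mpr ⟨hzS, fun y hy => hzc y (img_mono f le_sup_right hy)⟩
    -- `f` and `g` identify the centralizers
    have hfC : img (centralizerIn S Q) f ≤ centralizerIn S (img Q f) :=
      img_le fun x hx => mapsTo_centralizerIn hf le_sup_right le_sup_left x hx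
    have hcard : Nat.card (centralizerIn S (img Q f)) ≤ Nat.card (centralizerIn S Q) :=
      card_le_of_img_le (hg.restrict le_sup_left) centralizerIn_le hgC
    have heq := eq_of_le_of_card centralizerIn_le hfC
      (by rw [(hf.restrict le_sup_left).card_img]; exact hcard)
    exact img_mono f le_sup_left (heq.ge hzC)
  · obtain ⟨g, hg, hge, hgC⟩ :=
      exists_map_centralizer hr (isMor_autFun hQ.1 hα) (img_autFun α)
    have hi : img R g = R := hg.img_eq_self fun x hx => by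
      have h1 := mem_img_of_mem g hx
      rw [hg.img_sup, img_congr hge, img_autFun] at h1
      exact sup_le_sup hgC le_rfl h1
    obtain ⟨β, hβ, hβe⟩ := exists_aut hg hi
    exact ⟨β, hβ, fun x hx => (hβe x (Subgroup.mem_sup_right hx)).trans (hge x hx)⟩

/-- A fully normalized nonradical `R` lifts to a larger subgroup. -/
theorem exists_bigger_lifts (hS : IsPGroup p S) (hF : F.IsSaturated p) {Q R : Subgroup Ω}
    (hR : F.IsFullyNormalized R) (hc : F.IsCentric R) (h : PSLifts F Q R)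
    (hrad : ¬ F.IsRadical p R) :
    ∃ R' : Subgroup Ω, Nat.card R < Nat.card R' ∧ F.IsCentric R' ∧ PSLifts F Q R' := by
  classical
  have := finite_mulAut hR.1
  obtain ⟨hauto, hrec⟩ := isFullyAutomized_of_normalized hS hF hR
  set K := pCoreAut F p R with hK
  have hKA : K ≤ F.autGroup R := by rintro _ ⟨k, -, rfl⟩; exact k.2
  have hKn : ∀ a ∈ F.autGroup R, ∀ k ∈ K, a * k * a⁻¹ ∈ K := by
    rintro a ha _ ⟨k, hk, rfl⟩
    exact ⟨⟨a, ha⟩ * k * ⟨a, ha⟩⁻¹,
      (inferInstance : (pCore p (F.autGroup R)).Normal).conj_mem _ hk _, rfl⟩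
  have hKS : K ≤ autInducedBy S R := by
    obtain ⟨b, hb, hbc⟩ := (isFullyAutomized_iff.mp hauto).2.exists_conj_le
      ((Base.isPGroup_pCore p _).map _) hKA
    intro k hk
    have h1 := hbc _ (hKn _ (inv_mem hb) k hk)
    rwa [inv_inv, show b * (b⁻¹ * k * b) * b⁻¹ = k by group] at h1
  let R' : Subgroup Ω :=
    { carrier := {s | s ∈ S ∧ s ∈ Subgroup.normalizer (R : Set Ω) ∧
        ∃ k ∈ K, ∀ x ∈ R, autFun k x = cj s x}
      one_mem' := ⟨S.one_mem, Subgroup.one_mem _, 1, K.one_mem, fun x hx => by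
        rw [autFun_one hx, cj_one]⟩
      mul_mem' := by
        rintro a b ⟨ha, han, k, hk, hke⟩ ⟨hb, hbn, l, hl, hle⟩
        exact ⟨S.mul_mem ha hb, mul_mem han hbn, k * l, K.mul_mem hk hl, fun x hx => by
          rw [autFun_mul k l hx, hke _ (autFun_mem l hx), hle x hx, cj_mul]⟩
      inv_mem' := by
        rintro a ⟨ha, han, k, hk, hke⟩
        refine ⟨S.inv_mem ha, inv_mem han, k⁻¹, K.inv_mem hk, fun x hx => ?_⟩
        have h1 := hke _ (autFun_mem k⁻¹ hx)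
        rw [autFun_inv_right k hx] at h1
        conv_rhs => rw [h1]
        rw [cj_inv_cj] }
  have hR'S : R' ≤ S := fun s hs => hs.1
  have hRR' : R ≤ R' := fun s hs => by
    obtain ⟨k, hk, hke⟩ := exists_autInducedBy hs (Subgroup.le_normalizer hs)
    rw [← inn_eq_autInducedBy] at hk
    exact ⟨hR.1 hs, Subgroup.le_normalizer hs, k, inn_le_pCoreAut F hS hR.1 hk, hke⟩
  have hne : R ≠ R' := by
    intro he
    refine hrad (isRadical_iff.mpr ⟨hR.1, le_antisymm (fun k hk => ?_)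
      (inn_le_pCoreAut F hS hR.1)⟩)
    obtain ⟨s, hs, hsn, hse⟩ := mem_autInducedBy.mp (hKS hk)
    exact mem_inn.mpr ⟨s, he.ge ⟨hs, hsn, k, hk, hse⟩, hse⟩
  refine ⟨R', card_lt_of_lt hR'S (lt_of_le_of_ne hRR' hne), centric_mono hc hRR' hR'S,
    h.1.trans hRR', fun α hα => ?_⟩
  obtain ⟨β, hβ, hβe⟩ := h.2 α hα
  have hin : R' ≤ nExt S R (autFun β) := fun s ⟨hs, hsn, k, hk, hke⟩ => by
    obtain ⟨t, ht, -, hte⟩ := mem_autInducedBy.mp (hKS (hKn β hβ k hk))
    refine ⟨hs, hsn, t, ht, fun x hx => ?_⟩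
    rw [← hte _ (autFun_mem β hx), autFun_mul _ _ (autFun_mem β hx), autFun_inv_left β hx,
      autFun_mul _ _ hx, hke x hx]
  obtain ⟨g, hg, hge⟩ := (isReceptive_iff.mp hrec).2 R _ (isMor_autFun hR.1 hβ) (img_autFun β)
  have hg' := hg.restrict hin
  have hi : img R' g = R' := hg'.img_eq_self fun s hs => by
    obtain ⟨hsS, hsn, k, hk, hke⟩ := hs
    have hgs := mapsTo_normalizerIn hg (le_nExt (isMor_autFun hR.1 hβ))
      (nExt_le _) s (hin ⟨hsS, hsn, k, hk, hke⟩)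
    rw [img_congr hge, img_autFun] at hgs
    refine ⟨(mem_normalizerIn.mp hgs).1, (mem_normalizerIn.mp hgs).2, β * k * β⁻¹, hKn β hβ k hk,
      fun y hy => ?_⟩
    have hx := autFun_mem β⁻¹ hy
    rw [autFun_mul _ _ hy, autFun_mul _ _ hx, hke _ hx]
    show autFun β (cj s (autFun β⁻¹ y)) = cj (g s) y
    have hcx : cj s (autFun β⁻¹ y) ∈ R := (Subgroup.mem_normalizer_iff.mp hsn _).mp hx
    rw [← hge _ hcx]
    show g (s * autFun β⁻¹ y * s⁻¹) = _
    rw [hg.map_conj (hin ⟨hsS, hsn, k, hk, hke⟩) (le_nExt (isMor_autFun hR.1 hβ) hx), hge _ hx,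
      autFun_inv_right β hy]
    rfl
  obtain ⟨γ, hγ, hγe⟩ := exists_aut hg' hi
  exact ⟨γ, hγ, fun x hx => by rw [hγe x (hRR' (h.1 hx)), hge x (h.1 hx), hβe x hx]⟩

theorem exists_radical_lifts (hS : IsPGroup p S) (hF : F.IsSaturated p) {Q : Subgroup Ω}
    (hQ : F.IsFullyNormalized Q) :
    ∃ Q' R, F.IsConj Q Q' ∧ F.IsFullyNormalized R ∧ F.IsCentric R ∧ F.IsRadical p R ∧
      PSLifts F Q' R := by
  classical
  -- moving to a fully normalized conjugate
  have move : ∀ Q' R : Subgroup Ω, F.IsConj Q Q' → F.IsCentric R → PSLifts F Q' R →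
      ∃ Q'' R', F.IsConj Q Q'' ∧ F.IsFullyNormalized R' ∧ F.IsCentric R' ∧ PSLifts F Q'' R' ∧
        Nat.card R' = Nat.card R := by
    intro Q' R hc hR hl
    obtain ⟨R', hcR, hR'⟩ := exists_fullyNormalized F hR.1
    obtain ⟨g, hg, rfl⟩ := isConj_iff.mp hcR
    exact ⟨_, _, isConj_trans hc (isConj_img (hg.restrict hl.1)), hR',
      centric_of_isConj hR hcR, hl.transport hg, hg.card_img⟩
  have main : ∀ (d : ℕ) (Q' R : Subgroup Ω), F.IsConj Q Q' → F.IsFullyNormalized R →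
      F.IsCentric R → PSLifts F Q' R → Nat.card S - Nat.card R = d →
      ∃ Q' R, F.IsConj Q Q' ∧ F.IsFullyNormalized R ∧ F.IsCentric R ∧ F.IsRadical p R ∧
        PSLifts F Q' R := by
    intro d
    induction d using Nat.strong_induction_on with
    | _ d ih =>
      intro Q' R hc hR hRc hl hd
      by_cases hrad : F.IsRadical p R
      · exact ⟨Q', R, hc, hR, hRc, hrad, hl⟩
      obtain ⟨R', hlt, hR'c, hl'⟩ := exists_bigger_lifts hS hF hR hRc hl hrad
      obtain ⟨Q'', R'', hc'', hR'', hR''c, hl'', hcard⟩ := move Q' R' hc hR'c hl'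
      have hle : Nat.card R' ≤ Nat.card S := Subgroup.card_le_of_le hR'c.1
      exact ih _ (by omega) Q'' R'' hc'' hR'' hR''c hl'' rfl
  obtain ⟨R, hR, hl⟩ := exists_centric_lifts hS hF hQ
  obtain ⟨Q'', R'', hc'', hR'', hR''c, hl'', -⟩ := move Q R (isConj_refl F hQ.1) hR hl
  exact main _ Q'' R'' hc'' hR'' hR''c hl'' rfl

theorem stable_iff_radical (hS : IsPGroup p S) (hF : F.IsSaturated p) :
    SysStable p F ↔ ∀ R : Subgroup Ω, F.IsFullyNormalized R → F.IsCentric R → F.IsRadical p R →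
      ∀ N : FusionSystem (normalizerIn S R), F.IsNormalizerSystem R N → SysStable p N := by
  refine ⟨fun h R _ _ _ N hN => stable_normalizerSystem h hN, fun h Q hQ χ hχ hq => ?_⟩
  obtain ⟨Q', R, hc, hR, hRc, hRr, hl⟩ := exists_radical_lifts hS hF hQ
  obtain ⟨N, hN⟩ := Cfsg.Agent.S5096.result F R hR.1
  have heq := normalizerSystem_autGroup_eq hR.1 hl hN
  have : Finite (normalizerIn S R) := finite_of_le normalizerIn_le
  refine mem_pCoreAut_of_conj hc (fun α hα hqa => ?_) hχ hq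
  obtain ⟨Q'', hc', hQ''⟩ := exists_fullyNormalized N (hl.1.trans (le_normalizerIn hR.1))
  have h1 := mem_pCoreAut_of_conj hc' (fun γ hγ hqg => h R hR hRc hRr N hN Q'' hQ'' γ hγ hqg)
    (heq.symm ▸ hα) hqa
  exact mem_pCoreAut_mono heq.ge hα h1

theorem stable_iff_noncyclic (hS : IsPGroup p S) :
    SysStable p F ↔ ∀ R : Subgroup Ω, F.IsFullyNormalized R → ¬ IsCyclic R →
      ∀ N : FusionSystem (normalizerIn S R), F.IsNormalizerSystem R N → SysStable p N := by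
  refine ⟨fun h R _ _ N hN => stable_normalizerSystem h hN, fun h Q hQ χ hχ hq => ?_⟩
  by_cases hc : IsCyclic Q
  · exact mem_pCoreAut_of_cyclic hS hQ.1 hχ hq
  obtain ⟨N, hN⟩ := Cfsg.Agent.S5096.result F Q hQ.1
  have hl : PSLifts F Q Q := ⟨le_rfl, fun α hα => ⟨α, hα, fun _ _ => rfl⟩⟩
  have heq := normalizerSystem_autGroup_eq hQ.1 hl hN
  have : Finite (normalizerIn S Q) := finite_of_le normalizerIn_le
  have hQN : N.IsFullyNormalized Q := by
    refine ⟨le_normalizerIn hQ.1, fun U hU => ?_⟩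
    obtain ⟨f, hf, rfl⟩ := isConj_iff.mp hU
    obtain ⟨-, -, -, g, -, hge, hgQ⟩ := (isMor_normalizerSystem hN).mp hf
    rw [← img_congr hge, hgQ]
  exact mem_pCoreAut_mono heq.ge hχ (h Q hQ hc N hN Q hQN χ (heq.symm ▸ hχ) hq)

end CfsgLib.Fusion
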