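import Mathlib
import Cfsg.Agent.Lib.Fusion.Centric
import Cfsg.Agent.Lib.Fusion.NormalizerSaturated
import Cfsg.Agent.Lib.Base.Cores
import Cfsg.Agent.Lib.Fusion.Criteria
import Cfsg.Agent.S5096

/-!
# `p`-stability of a saturated system is detected on normalizers of centric radical subgroups
-/

set_option autoImplicit false

namespace CfsgLib.Fusion

open Cfsg Cfsg.FusionSystem

variable {Ω : Type*} [Group Ω] {S : Subgroup Ω} {F : FusionSystem S} {p : ℕ}

/-- Every quadratic automorphism of a fully normalized subgroup lies in the `p`-core. -/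
def QuadStable (p : ℕ) (F : FusionSystem S) : Prop :=
  ∀ Q : Subgroup Ω, F.IsFullyNormalized Q → ∀ χ : MulAut ↥Q, χ ∈ F.autGroup Q →
    (∀ a : ↥Q, (χ a⁻¹) * a * (χ a⁻¹) * (χ (χ a)) = 1) →
      χ ∈ ((pCore p ↥(F.autGroup Q)).map (F.autGroup Q).subtype : Subgroup (MulAut ↥Q))

theorem isPGroup_pCoreAut (F : FusionSystem S) (p : ℕ) (P : Subgroup Ω) :
    IsPGroup p (pCoreAut F p P) :=
  (CfsgLib.Base.isPGroup_pCore p _).map _

theorem pCoreAut_le (F : FusionSystem S) (p : ℕ) (P : Subgroup Ω) :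
    pCoreAut F p P ≤ F.autGroup P :=
  Subgroup.map_subtype_le _

theorem pCoreAut_conj_mem {P : Subgroup Ω} {a k : MulAut P} (ha : a ∈ F.autGroup P)
    (hk : k ∈ pCoreAut F p P) : a * k * a⁻¹ ∈ pCoreAut F p P := by
  obtain ⟨k', hk', rfl⟩ := hk
  have h := (pCore_normal p ↥(F.autGroup P)).conj_mem k' hk' ⟨a, ha⟩
  exact ⟨_, h, by simp⟩

/-- A quadratic automorphism `χ` shifts every element by a fixed amount. -/
theorem quad_shift {Q : Type*} [Group Q] {χ : MulAut Q}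
    (h : ∀ a : Q, (χ a⁻¹) * a * (χ a⁻¹) * (χ (χ a)) = 1) (a : Q) :
    χ (a⁻¹ * χ a) = a⁻¹ * χ a ∧ ∀ n : ℕ, (χ ^ n) a = a * (a⁻¹ * χ a) ^ n := by
  have h1 : χ (a⁻¹ * χ a) = a⁻¹ * χ a := by
    have h2 := h a
    rw [map_inv] at h2
    rw [map_mul, map_inv, ← inv_mul_eq_one.mp (show (a⁻¹ * χ a)⁻¹ * ((χ a)⁻¹ * χ (χ a)) = 1 by
      simpa [mul_assoc] using h2)]
  refine ⟨h1, fun n => ?_⟩
  induction n with
  | zero => simp
  | succ n ih =>
    rw [pow_succ' χ, MulAut.mul_apply, ih, map_mul, map_pow, h1, pow_succ', ← mul_assoc,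
      mul_inv_cancel_left]

variable [hp : Fact p.Prime]

/-- A quadratic automorphism of a `p`-group is a `p`-element. -/
theorem quad_isPGroup_zpowers {Q : Type*} [Group Q] [Finite Q] (hQ : IsPGroup p Q) {χ : MulAut Q}
    (h : ∀ a : Q, (χ a⁻¹) * a * (χ a⁻¹) * (χ (χ a)) = 1) :
    IsPGroup p (Subgroup.zpowers χ) := by
  obtain ⟨k, hk⟩ := IsPGroup.iff_card.mp hQ
  have hχ : χ ^ p ^ k = 1 := MulEquiv.ext fun a => by
    rw [(quad_shift h a).2, ← hk, pow_card_eq_one', mul_one, MulAut.one_apply]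
  intro z
  obtain ⟨i, hi⟩ := Subgroup.mem_zpowers_iff.mp z.2
  refine ⟨k, Subtype.ext ?_⟩
  rw [Subgroup.coe_pow, ← hi, ← zpow_natCast, ← zpow_mul, mul_comm, zpow_mul, zpow_natCast, hχ,
    one_zpow]
  rfl

variable [Finite S]

omit hp in
/-- The `p`-core of an automorphism group is carried along isomorphisms of the system. -/
theorem map_pCoreAut_le {P Q : Subgroup Ω} (e : MulAut P ≃* MulAut Q)
    (heA : ∀ α, α ∈ F.autGroup P ↔ e α ∈ F.autGroup Q) :
    (pCoreAut F p P).map e.toMonoidHom ≤ pCoreAut F p Q := by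
  refine le_pCoreAut ?_ ((isPGroup_pCoreAut F p P).map e.toMonoidHom) ?_
  · rintro _ ⟨α, hα, rfl⟩
    exact (heA α).mp (pCoreAut_le F p P hα)
  · rintro a ha _ ⟨k, hk, rfl⟩
    obtain ⟨b, rfl⟩ := e.surjective a
    exact ⟨b * k * b⁻¹, pCoreAut_conj_mem ((heA b).mpr ha) hk, by simp⟩

omit hp in
/-- Stability at `Q` gives stability at every conjugate of `Q`. -/
theorem quadStable_conj (h : QuadStable p F) {P : Subgroup Ω} (hP : P ≤ S) {χ : MulAut P}
    (hχ : χ ∈ F.autGroup P) (hq : ∀ a : ↥P, (χ a⁻¹) * a * (χ a⁻¹) * (χ (χ a)) = 1) :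
    χ ∈ pCoreAut F p P := by
  obtain ⟨Q, hPQ, hQ⟩ := exists_fullyNormalized F hP
  obtain ⟨f, hf, hfi⟩ := isConj_iff.mp hPQ
  obtain ⟨e, he, heA, -⟩ := exists_transport hf hfi
  have hquad : ∀ a : ↥Q, ((e χ) a⁻¹) * a * ((e χ) a⁻¹) * ((e χ) ((e χ) a)) = 1 := by
    intro a
    obtain ⟨x, hx, hxa⟩ := hf.mem_img.mp (hfi.ge a.2)
    have h1 := congrArg (fun z : ↥P => f (z : Ω)) (hq ⟨x, hx⟩)
    simp only [Subgroup.coe_mul, Subgroup.coe_one, ← autFun_coe, Subgroup.coe_inv] at h1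
    have hm := autFun_mem χ hx
    have hi := autFun_mem χ (P.inv_mem hx)
    rw [hf.map_one, hf.map_mul (P.mul_mem (P.mul_mem hi hx) hi) (autFun_mem χ hm),
      hf.map_mul (P.mul_mem hi hx) hi, hf.map_mul hi hx, ← he χ _ (P.inv_mem hx),
      ← he χ _ hm, ← he χ _ hx, hf.map_inv hx, hxa] at h1
    apply Subtype.ext
    simpa only [Subgroup.coe_mul, Subgroup.coe_one, ← autFun_coe, Subgroup.coe_inv] using h1
  obtain ⟨ei, hei⟩ : ∃ ei : MulAut Q ≃* MulAut P, ei = e.symm := ⟨_, rfl⟩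
  have := map_pCoreAut_le (F := F) (p := p) ei
    (fun β => by rw [hei, heA (e.symm β), MulEquiv.apply_symm_apply])
    ⟨e χ, h Q hQ _ ((heA χ).mp hχ) hquad, rfl⟩
  rw [hei] at this
  simpa using this

/-- Normalizer systems of a stable system are stable. -/
theorem quadStable_normalizer (hS : IsPGroup p S) (h : QuadStable p F) {R : Subgroup Ω}
    {N : FusionSystem (normalizerIn S R)} (hN : F.IsNormalizerSystem R N) : QuadStable p N := by
  intro Q hQ χ hχ hq
  have hQS : Q ≤ S := hQ.1.trans normalizerIn_le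
  have hsub : N.IsSubsystemOf F := le_iff_isMor.mpr fun P f hf =>
    ((isMor_normalizerSystem hN).mp hf).1
  have hle : N.autGroup Q ≤ F.autGroup Q := autGroup_mono hsub
  refine le_pCoreAut (K := pCoreAut F p Q ⊓ N.autGroup Q) inf_le_right
    (isPGroup_of_le inf_le_left (isPGroup_pCoreAut F p Q)) (fun a ha k hk => ?_)
    ⟨quadStable_conj h hQS (hle hχ) hq, hχ⟩
  exact ⟨pCoreAut_conj_mem (hle ha) hk.1,
    Subgroup.mul_mem _ (Subgroup.mul_mem _ ha hk.2) (Subgroup.inv_mem _ ha)⟩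

/-- Some centric radical fully normalized subgroup sees all automorphisms of a conjugate. -/
theorem exists_radical_extending (hS : IsPGroup p S) (hF : F.IsSaturated p) {Q : Subgroup Ω}
    (hQ : F.IsFullyNormalized Q) :
    ∃ R : Subgroup Ω, F.IsFullyNormalized R ∧ F.IsCentric R ∧ F.IsRadical p R ∧
      ∃ Q' ≤ R, F.IsConj Q Q' ∧
        ∀ α ∈ F.autGroup Q', ∃ β ∈ F.autGroup R, ∀ x ∈ Q', autFun β x = autFun α x := by
  classical
  let Good : Subgroup Ω → Prop := fun R => F.IsCentric R ∧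
      ∃ Q' ≤ R, F.IsConj Q Q' ∧
        ∀ α ∈ F.autGroup Q', ∃ β ∈ F.autGroup R, ∀ x ∈ Q', autFun β x = autFun α x
  have hmove : ∀ R, Good R → ∃ R', Good R' ∧ F.IsFullyNormalized R' ∧
      Nat.card R' = Nat.card R := by
    rintro R ⟨hc, Q', hQ'R, hQQ', hext⟩
    obtain ⟨R', hRR', hR'⟩ := exists_fullyNormalized F hc.1
    obtain ⟨f, hf, hfi⟩ := isConj_iff.mp hRR'
    have hfQ := hf.restrict hQ'R
    obtain ⟨e, he, heA, -⟩ := exists_transport hf hfi
    obtain ⟨e', he', heA', -⟩ := exists_transport hfQ rfl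
    refine ⟨R', ⟨centric_of_isConj hc hRR', img Q' f, hfi ▸ img_mono f hQ'R,
      isConj_trans hQQ' (isConj_img hfQ), fun α hα => ?_⟩, hR', isConj_card hRR'⟩
    obtain ⟨α₀, rfl⟩ := e'.surjective α
    obtain ⟨β, hβ, hβe⟩ := hext α₀ ((heA' α₀).mpr hα)
    refine ⟨e β, (heA β).mp hβ, fun y hy => ?_⟩
    obtain ⟨x, hx, rfl⟩ := hfQ.mem_img.mp hy
    rw [he β x (hQ'R hx), he' α₀ x hx, hβe x hx]
  have hQS : Q ≤ S := hQ.1
  have hgood0 : Good (Q ⊔ centralizerIn S Q) := by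
    have hR0 : Q ⊔ centralizerIn S Q ≤ S := sup_le hQS centralizerIn_le
    obtain ⟨hfa, hrec⟩ := isFullyAutomized_of_normalized hS hF hQ
    refine ⟨?_, Q, le_sup_left, isConj_refl F hQS, fun α hα => ?_⟩
    · refine ⟨hR0, fun T hT => ?_⟩
      obtain ⟨f, hf, rfl⟩ := isConj_iff.mp hT
      intro c hc
      obtain ⟨hcS, hc'⟩ := mem_centralizerIn.mp hc
      have hfc : img (centralizerIn S Q) f = centralizerIn S (img Q f) := by
        refine eq_of_le_of_card centralizerIn_le ?_ ?_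
        · refine img_le fun x hx => mem_centralizerIn.mpr ⟨hf.mem (Subgroup.mem_sup_right hx),
            fun z hz => ?_⟩
          obtain ⟨q, hq, rfl⟩ := (hf.restrict le_sup_left).mem_img.mp hz
          rw [cj_apply, ← hf.map_conj (Subgroup.mem_sup_right hx) (Subgroup.mem_sup_left hq),
            show x * q * x⁻¹ = q from (mem_centralizerIn.mp hx).2 q hq]
        · rw [(hf.restrict le_sup_right).card_img]
          exact (isFullyCentralized_of_normalized hS hF hQ).2 _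
            (isConj_img (hf.restrict le_sup_left))
      exact img_mono f le_sup_right (hfc.ge (mem_centralizerIn.mpr
        ⟨hcS, fun z hz => hc' z (img_mono f le_sup_left hz)⟩))
    · obtain ⟨g, hg, hgQ, hgi⟩ := exists_map_centralizer hrec (isMor_autFun hQS hα) (img_autFun α)
      obtain ⟨β, hβ, hβe⟩ := exists_aut (hg.restrict (sup_comm Q _).le) (by
        refine (hg.restrict (sup_comm Q _).le).img_eq_self fun x hx => ?_
        have h1 := mem_img_of_mem g ((sup_comm Q _).le hx)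
        rw [hg.img_sup, img_congr hgQ, img_autFun] at h1
        rw [sup_comm] at h1
        exact sup_le_sup_left hgi _ h1)
      exact ⟨β, hβ, fun x hx => by rw [hβe x (Subgroup.mem_sup_left hx), hgQ x hx]⟩
  obtain ⟨R, hRg, hRmax⟩ := Set.Finite.exists_maximalFor (fun R : Subgroup Ω => Nat.card R)
    {R | Good R} ((finite_subgroups_le (S := S)).subset fun R hR => hR.1.1) ⟨_, hgood0⟩
  obtain ⟨R', hR'g, hR'n, hcard⟩ := hmove R hRg
  refine ⟨R', hR'n, hR'g.1, ?_, hR'g.2⟩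
  obtain ⟨hc, Q', hQ'R, hQQ', hext⟩ := hR'g
  obtain ⟨hfa, hrec⟩ := isFullyAutomized_of_normalized hS hF hR'n
  have hR'S := hc.1
  have := finite_mulAut hR'S
  have hAS : pCoreAut F p R' ≤ autInducedBy S R' := by
    exact (isFullyAutomized_iff.mp hfa).2.le_of_normal (isPGroup_pCoreAut F p R')
      (pCoreAut_le F p R') fun a ha k hk => pCoreAut_conj_mem ha hk
  refine ⟨hR'S, le_antisymm (fun κ hκ => ?_) (inn_le_pCoreAut F hS hR'S)⟩
  obtain ⟨s, hs, hsn, hse⟩ := mem_autInducedBy.mp (hAS hκ)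
  -- the preimage of the core in `N_S(R')`
  let W : Subgroup Ω :=
    { carrier := {g | g ∈ normalizerIn S R' ∧ ∃ k ∈ pCoreAut F p R', ∀ x ∈ R', autFun k x = cj g x}
      one_mem' := ⟨Subgroup.one_mem _, 1, Subgroup.one_mem _, fun x hx => by
        rw [autFun_one hx, cj_one]⟩
      mul_mem' := by
        rintro a b ⟨ha, k, hk, hke⟩ ⟨hb, l, hl, hle⟩
        refine ⟨Subgroup.mul_mem _ ha hb, k * l, Subgroup.mul_mem _ hk hl, fun x hx => ?_⟩
        rw [autFun_mul _ _ hx, cj_mul, ← hle x hx, hke _ (autFun_mem l hx)]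
      inv_mem' := by
        rintro a ⟨ha, k, hk, hke⟩
        refine ⟨Subgroup.inv_mem _ ha, k⁻¹, Subgroup.inv_mem _ hk, fun x hx => ?_⟩
        have h1 := hke _ (autFun_mem k⁻¹ hx)
        rw [autFun_inv_right k hx] at h1
        conv_rhs => rw [h1, cj_inv_cj] }
  have hR'W : R' ≤ W := fun r hr => ⟨le_normalizerIn hR'S hr, by
    obtain ⟨k, hk, hke⟩ := exists_autInducedBy (K := R') hr (Subgroup.le_normalizer hr)
    exact ⟨k, inn_le_pCoreAut F hS hR'S (inn_eq_autInducedBy (P := R') ▸ hk), hke⟩⟩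
  have hWS : W ≤ S := fun g hg => normalizerIn_le hg.1
  have hgood : Good W := by
    refine ⟨centric_mono hc hR'W hWS, Q', hQ'R.trans hR'W, hQQ', fun α hα => ?_⟩
    obtain ⟨β, hβ, hβe⟩ := hext α hα
    obtain ⟨g, hg, hge⟩ := (isReceptive_iff.mp hrec).2 R' _ (isMor_autFun hR'S hβ) (img_autFun β)
    have hWn : W ≤ nExt S R' (autFun β) := by
      rintro a ⟨ha, k, hk, hke⟩
      obtain ⟨t, ht, htn, hte⟩ := mem_autInducedBy.mp (hAS (pCoreAut_conj_mem hβ hk))
      refine ⟨normalizerIn_le ha, (mem_normalizerIn.mp ha).2, t, ht, fun x hx => ?_⟩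
      rw [← hte _ (autFun_mem β hx), ← hke x hx]
      rw [autFun_mul _ _ (autFun_mem β hx), autFun_inv_left β hx, autFun_mul _ _ hx]
    have hgW := hg.restrict hWn
    have hgR : ∀ x ∈ R', g x = autFun β x := hge
    obtain ⟨γ, hγ, hγe⟩ := exists_aut hgW (hgW.img_eq_self fun a ha => by
      obtain ⟨haN, k, hk, hke⟩ := id ha
      have hgRi : img R' g = R' := (img_congr hgR).trans (img_autFun β)
      refine ⟨hgRi ▸ mapsTo_normalizerIn hgW hR'W (fun g hg => hg.1) a ha, _,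
        pCoreAut_conj_mem hβ hk, fun y hy => ?_⟩
      obtain ⟨x, hx, rfl⟩ : ∃ x ∈ R', autFun β x = y :=
        ⟨_, autFun_mem β⁻¹ hy, autFun_inv_right β hy⟩
      rw [autFun_mul _ _ (autFun_mem β hx), autFun_inv_left β hx, autFun_mul _ _ hx,
        cj_apply, ← hgR x hx, ← hgW.map_conj ha (hR'W hx),
        show a * x * a⁻¹ = autFun k x from (hke x hx).symm, hgR _ (autFun_mem k hx)])
    exact ⟨γ, hγ, fun x hx => by
      rw [hγe x (hR'W (hQ'R hx)), hgR x (hQ'R hx), hβe x hx]⟩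
  have hcardW : Nat.card W ≤ Nat.card R' := by
    rw [hcard]
    rcases le_total (Nat.card R) (Nat.card W) with h1 | h1
    · exact hRmax hgood h1
    · exact h1
  have hWR : R' = W := eq_of_le_of_card hWS hR'W hcardW
  have hsW : s ∈ W := ⟨mem_normalizerIn.mpr ⟨hs, hsn⟩, κ, hκ, hse⟩
  exact mem_inn.mpr ⟨s, hWR ▸ hsW, hse⟩

/-- Stability follows from stability of normalizers of centric radical subgroups. -/
theorem quadStable_of_normalizers (hS : IsPGroup p S) (hF : F.IsSaturated p)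
    (h : ∀ R : Subgroup Ω, F.IsFullyNormalized R → F.IsCentric R → F.IsRadical p R →
      ∀ N : FusionSystem (normalizerIn S R), F.IsNormalizerSystem R N → QuadStable p N) :
    QuadStable p F := by
  intro Q hQ χ hχ hq
  obtain ⟨R, hR, hc, hrad, Q', hQ'R, hQQ', hext⟩ := exists_radical_extending hS hF hQ
  obtain ⟨N, hN⟩ := Cfsg.Agent.S5096.result F R hc.1
  obtain ⟨f, hf, hfi⟩ := isConj_iff.mp hQQ'
  obtain ⟨e, he, heA, -⟩ := exists_transport hf hfi
  have hQ'N : Q' ≤ normalizerIn S R := hQ'R.trans (le_normalizerIn hc.1)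
  have hauteq : N.autGroup Q' = F.autGroup Q' := by
    refine le_antisymm (autGroup_mono (le_iff_isMor.mpr fun P g hg =>
      ((isMor_normalizerSystem hN).mp hg).1)) fun α hα => ?_
    obtain ⟨β, hβ, hβe⟩ := hext α hα
    refine (autGroup_eq_set hQ'N α).mpr ((isMor_normalizerSystem hN).mpr
      ⟨isMor_autFun (hQ'R.trans hc.1) hα, hQ'N, fun x hx => hQ'N (autFun_mem α hx), autFun β,
        ?_, hβe, img_autFun β⟩)
    exact (isMor_autFun hc.1 hβ).restrict (sup_le hQ'R le_rfl)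
  have hquad : ∀ a : ↥Q', ((e χ) a⁻¹) * a * ((e χ) a⁻¹) * ((e χ) ((e χ) a)) = 1 := by
    intro a
    obtain ⟨x, hx, hxa⟩ := hf.mem_img.mp (hfi.ge a.2)
    have h1 := congrArg (fun z : ↥Q => f (z : Ω)) (hq ⟨x, hx⟩)
    simp only [Subgroup.coe_mul, Subgroup.coe_one, ← autFun_coe, Subgroup.coe_inv] at h1
    have hm := autFun_mem χ hx
    have hi := autFun_mem χ (Q.inv_mem hx)
    rw [hf.map_one, hf.map_mul (Q.mul_mem (Q.mul_mem hi hx) hi) (autFun_mem χ hm),
      hf.map_mul (Q.mul_mem hi hx) hi, hf.map_mul hi hx, ← he χ _ (Q.inv_mem hx),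
      ← he χ _ hm, ← he χ _ hx, hf.map_inv hx, hxa] at h1
    apply Subtype.ext
    simpa only [Subgroup.coe_mul, Subgroup.coe_one, ← autFun_coe, Subgroup.coe_inv] using h1
  have h1 : e χ ∈ N.autGroup Q' := hauteq ▸ (heA χ).mp hχ
  have : Finite ↥(normalizerIn S R) := finite_of_le normalizerIn_le
  have h2 : e χ ∈ pCoreAut N p Q' :=
    quadStable_conj (h R hR hc hrad N hN) hQ'N h1 hquad
  have h3 : e χ ∈ pCoreAut F p Q' := by
    refine le_pCoreAut (K := pCoreAut N p Q') (hauteq ▸ pCoreAut_le N p Q')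
      (isPGroup_pCoreAut N p Q') (fun a ha k hk => ?_) h2
    exact pCoreAut_conj_mem (hauteq.ge ha) hk
  have := map_pCoreAut_le (F := F) (p := p) e.symm
    (fun β => by rw [heA (e.symm β), MulEquiv.apply_symm_apply]) ⟨e χ, h3, rfl⟩
  simpa [pCoreAut] using this

end CfsgLib.Fusion
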