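import Mathlib
import Cfsg.Agent.Lib.Fusion.BisetExists

/-! Every fusion system is realized in a finite group (Park). -/
set_option autoImplicit false
set_option linter.unusedSectionVars false

namespace CfsgLib.Fusion

open Cfsg Cfsg.FusionSystem

universe u

variable {Ω : Type u} [Group Ω] {S : Subgroup Ω} [Finite S] {F : FusionSystem S}

theorem mark_mul (L : ℕ) (n : Subgroup (S × S) → ℕ) (K : Subgroup (S × S)) :
    mark (fun H => L * n H) K = L * mark n K := by
  have := Fintype.ofFinite (Subgroup (S × S))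
  simp [mark_eq_sum, Finset.mul_sum, mul_assoc]

/-- One stabilization step after scaling. -/
theorem exists_scaled_step {n : Subgroup (S × S) → ℕ} (hn : Supported F n) {m : ℕ}
    (hs : StableAbove F n m) :
    ∃ n', Supported F n' ∧ StableAbove F n' (m - 1) ∧ ∀ H, n H ≠ 0 → n' H ≠ 0 := by
  classical
  have := Fintype.ofFinite (Subgroup (S × S))
  set L := ∏ H : Subgroup (S × S), fixCard ((S × S) ⧸ H) H with hL
  have hLpos : 0 < L := Finset.prod_pos fun H _ => fixCard_self_pos H
  set N := ∑ H : Subgroup (S × S), mark n H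
  have hMN : ∀ K, mark n K ≤ N := fun K =>
    Finset.single_le_sum (f := fun H => mark n H) (fun _ _ => Nat.zero_le _) (Finset.mem_univ K)
  let δ : Subgroup (S × S) → ℕ := fun H => if InFam F H ∧ Nat.card H = m ∧ crep H = H then
    (L * N - L * mark n H) / fixCard ((S × S) ⧸ H) H else 0
  have hδ : ∀ H, δ H ≠ 0 → InFam F H ∧ Nat.card H = m ∧ crep H = H := fun H h => by
    by_contra h'
    exact h (if_neg h')
  have key : ∀ K, InFam F K → Nat.card K = m →
      mark (fun H => L * n H + δ H) K = L * N := by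
    intro K hK hKm
    obtain ⟨d, hd⟩ := crep_spec K
    have hKr : InFam F (crep K) := hd ▸ hK.conj d
    have hrm : Nat.card (crep K) = m := by
      rw [← hd, ← Nat.card_congr (K.equivMapOfInjective _ (MulAut.conj d).injective).toEquiv, hKm]
    have hle : L * mark n (crep K) ≤ L * N := Nat.mul_le_mul_left L (hMN _)
    have hdvd : fixCard ((S × S) ⧸ crep K) (crep K) ∣ L * N - L * mark n (crep K) := by
      rw [← Nat.mul_sub]
      exact dvd_mul_of_dvd_left (Finset.dvd_prod_of_mem _ (Finset.mem_univ _)) _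
    rw [mark_add, mark_rep (fun H h => (hδ H h).2) hKm, mark_mul]
    have hKe : mark n K = mark n (crep K) := by rw [← hd, mark_conj]
    simp only [δ, if_pos (show InFam F (crep K) ∧ Nat.card (crep K) = m ∧
      crep (crep K) = crep K from ⟨hKr, hrm, crep_idem K⟩)]
    rw [Nat.div_mul_cancel hdvd, hKe, Nat.add_sub_cancel' hle]
  refine ⟨fun H => L * n H + δ H, fun H h => ?_, fun K hK hlt => ?_, fun H h => ?_⟩
  · by_cases h' : n H = 0
    · exact (hδ H (by simpa [h'] using h)).1
    · exact hn H h'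
  · have hd : InFam F (diag (imS K)) := inFam_diag F _
    have hcd : Nat.card (diag (imS K)) = Nat.card K := by
      rw [← hd.card_imS, imS_diag, hK.card_imS]
    rcases Nat.lt_or_ge m (Nat.card K) with h | h
    · rw [mark_add, mark_add, mark_congr_of_small (fun H h' => (hδ H h').2.1) h,
        mark_congr_of_small (fun H h' => (hδ H h').2.1) (hcd.ge.trans_lt' h), mark_mul, mark_mul,
        hs K hK h]
    · have he : Nat.card K = m := by omega
      rw [key K hK he, key _ hd (hcd.trans he)]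
  · have : 0 < L * n H := Nat.mul_pos hLpos (Nat.pos_of_ne_zero h)
    exact (Nat.lt_of_lt_of_le this (Nat.le_add_right _ _)).ne'

/-- A stable family of multiplicities containing the identity graph. -/
theorem exists_semichar_marks (F : FusionSystem S) :
    ∃ n : Subgroup (S × S) → ℕ, Supported F n ∧ StableAbove F n 0 ∧
      n (crep (diag (⊤ : Subgroup S))) ≠ 0 := by
  classical
  let n₀ : Subgroup (S × S) → ℕ := fun H =>
    if InFam F H ∧ Nat.card H = Nat.card S ∧ crep H = H then 1 else 0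
  have hn₀ : ∀ H, n₀ H ≠ 0 → InFam F H ∧ Nat.card H = Nat.card S ∧ crep H = H := fun H h => by
    by_contra h'
    exact h (if_neg h')
  have hrep : ∀ K, InFam F K → Nat.card K = Nat.card S →
      InFam F (crep K) ∧ Nat.card (crep K) = Nat.card S := by
    intro K hK hKc
    obtain ⟨d, hd⟩ := crep_spec K
    exact ⟨hd ▸ hK.conj d, by rw [← hd,
      ← Nat.card_congr (K.equivMapOfInjective _ (MulAut.conj d).injective).toEquiv, hKc]⟩
  have htop : ∀ K, InFam F K → Nat.card K = Nat.card S →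
      mark n₀ K = fixCard ((S × S) ⧸ (diag (⊤ : Subgroup S) : Subgroup (S × S))) (diag (⊤ : Subgroup S)) := by
    intro K hK hKc
    obtain ⟨hKr, hrc⟩ := hrep K hK hKc
    rw [mark_rep (fun H h => (hn₀ H h).2) hKc]
    simp only [n₀, if_pos (show InFam F (crep K) ∧ Nat.card (crep K) = Nat.card S ∧
      crep (crep K) = crep K from ⟨hKr, hrc, crep_idem K⟩), one_mul]
    obtain ⟨α, -, e⟩ := exists_autGraph hKr hrc
    rw [← e, fixCard_autGraph]
  have hbase : StableAbove F n₀ (Nat.card S - 1) := fun K hK hlt => by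
    have hc : Nat.card K = Nat.card S := le_antisymm hK.card_le (by omega)
    rw [htop K hK hc, htop _ (inFam_diag F _)
      (by rw [← (inFam_diag F _).card_imS, imS_diag, hK.card_imS, hc])]
  have htopdiag : n₀ (crep (diag (⊤ : Subgroup S))) ≠ 0 := by
    obtain ⟨h1, h2⟩ := hrep _ (inFam_diag F (⊤ : Subgroup S))
      (by rw [← (inFam_diag F (⊤ : Subgroup S)).card_imS, imS_diag, Subgroup.card_top])
    simp [n₀, h1, h2, crep_idem]
  have hall : ∀ j, ∃ n, Supported F n ∧ StableAbove F n (Nat.card S - 1 - j) ∧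
      n (crep (diag (⊤ : Subgroup S))) ≠ 0 := by
    intro j
    induction j with
    | zero => exact ⟨n₀, fun H h => (hn₀ H h).1, hbase, htopdiag⟩
    | succ j ih =>
      obtain ⟨n, h1, h2, h3⟩ := ih
      obtain ⟨n', h1', h2', h3'⟩ := exists_scaled_step h1 h2
      exact ⟨n', h1', by rwa [Nat.sub_add_eq], h3' _ h3⟩
  obtain ⟨n, h1, h2, h3⟩ := hall (Nat.card S)
  exact ⟨n, h1, by rwa [show Nat.card S - 1 - Nat.card S = 0 by omega] at h2, h3⟩

/-- Every fusion system is realized in a finite group. -/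
theorem exists_realizing_group (F : FusionSystem S) :
    ∃ (G : Type u) (_ : Group G) (_ : Finite G) (ι : S →* G), F.IsRealizedBy ι := by
  classical
  obtain ⟨n, hn, hs, hne⟩ := exists_semichar_marks F
  let X := Σ i : (Σ H : Subgroup (S × S), Fin (n H)), (S × S) ⧸ i.1
  have hstab : ∀ x : X, InFam F (MulAction.stabilizer (S × S) x) := by
    rintro ⟨⟨H, i⟩, x⟩
    obtain ⟨d, rfl⟩ := QuotientGroup.mk_surjective x
    refine ((hn H (Fin.pos i).ne').conj d).mono fun c hc => ⟨d⁻¹ * c * d, ?_, by simp [mul_assoc]⟩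
    have h1 : c • ((d : S × S) : (S × S) ⧸ H) = (d : (S × S) ⧸ H) :=
      eq_of_heq (Sigma.mk.inj (MulAction.mem_stabilizer_iff.mp hc)).2
    have := H.inv_mem (QuotientGroup.eq.mp h1)
    simpa [mul_assoc] using this
  obtain ⟨x₀, hx₀⟩ : ∃ x₀ : X, ∀ a : S, ((a, a) : S × S) • x₀ = x₀ := by
    obtain ⟨d, hd⟩ := crep_spec (diag (⊤ : Subgroup S))
    refine ⟨⟨⟨_, ⟨0, Nat.pos_of_ne_zero hne⟩⟩, ((d⁻¹ : S × S) : (S × S) ⧸ _)⟩, fun a => ?_⟩
    refine congrArg (Sigma.mk _) (QuotientGroup.eq.mpr ?_)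
    show ((a, a) * d⁻¹)⁻¹ * d⁻¹ ∈ crep (diag (⊤ : Subgroup S))
    rw [← hd]
    refine ⟨(a, a)⁻¹, inv_mem (mem_diag.mpr ⟨trivial, rfl⟩), ?_⟩
    show d * (a, a)⁻¹ * d⁻¹ = ((a, a) * d⁻¹)⁻¹ * d⁻¹
    group
  let G : Subgroup (Equiv.Perm X) :=
    { carrier := {π | ∀ (b : S) (x : X), π (((1 : S), b) • x) = ((1 : S), b) • π x}
      one_mem' := fun _ _ => rfl
      mul_mem' := fun {π ρ} hπ hρ b x => by
        show π (ρ _) = _ • π (ρ x)
        rw [hρ, hπ]
      inv_mem' := fun {π} hπ b x => by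
        show π.symm _ = _ • π.symm x
        rw [Equiv.symm_apply_eq, hπ, Equiv.apply_symm_apply] }
  let ι : S →* G :=
    MonoidHom.mk' (fun a => ⟨MulAction.toPerm ((a, 1) : S × S), fun b x => by
        show ((a, 1) : S × S) • ((1 : S), b) • x = ((1 : S), b) • ((a, 1) : S × S) • x
        rw [← mul_smul, ← mul_smul]
        simp⟩)
      fun a b => Subtype.ext (Equiv.ext fun x => by
        show ((a * b, 1) : S × S) • x = ((a, 1) : S × S) • ((b, 1) : S × S) • x
        rw [← mul_smul]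
        simp)
  refine ⟨G, inferInstance, inferInstance, ι, fun a b e => ?_, fun P hP φ hφ => ⟨fun h => ?_, ?_⟩⟩
  · have h1 : ((a, 1) : S × S) • x₀ = ((b, 1) : S × S) • x₀ :=
      congrArg (fun π : G => π.1 x₀) e
    rw [← inv_smul_eq_iff, ← mul_smul] at h1
    have h2 := (hstab x₀).snd_inj (MulAction.mem_stabilizer_iff.mpr h1) (by simp)
    exact (inv_mul_eq_one.mp (congrArg Prod.fst h2)).symm
  · have hf := isMor_of_mem h
    let L := leftDom S P
    let a1 : MulAction L X := MulAction.compHom X L.subtype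
    let a2 : MulAction L X := MulAction.compHom X (leftMap hf)
    have hmarks : ∀ B : Subgroup L, (letI := a1; fixCard X B) = (letI := a2; fixCard X B) := by
      intro B
      have e1 : (letI := a1; fixCard X B) = fixCard X (B.map L.subtype) :=
        Nat.card_congr (Equiv.subtypeEquivRight fun x =>
          ⟨by rintro h _ ⟨b, hb, rfl⟩; exact h b hb, fun h b hb => h _ ⟨b, hb, rfl⟩⟩)
      have e2 : (letI := a2; fixCard X B) = fixCard X (B.map (leftMap hf)) :=
        Nat.card_congr (Equiv.subtypeEquivRight fun x =>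
          ⟨by rintro h _ ⟨b, hb, rfl⟩; exact h b hb, fun h b hb => h _ ⟨b, hb, rfl⟩⟩)
      rw [e1, e2, fixCard_sigma, fixCard_sigma, ← pushLeft_map hf B,
        mark_pushLeft hn hs hf (Subgroup.map_subtype_le B) Nat.card_pos]
    obtain ⟨β, hβ⟩ := @exists_equiv_of_fixCard L _ _ (Nat.card X) X X a1 a2 _ _ rfl hmarks
    have hβ' : ∀ (a b a' : S), (a : Ω) ∈ P → (a' : Ω) = toFun φ a →
        ∀ x, β ((a, b) • x) = (a', b) • β x := by
      intro a b a' ha ha' x
      have h := hβ ⟨(a, b), mem_leftDom.mpr ha⟩ x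
      have e : leftMap hf ⟨(a, b), mem_leftDom.mpr ha⟩ = (a', b) :=
        Prod.ext (Subtype.ext ha'.symm) rfl
      rw [← e]
      exact h
    have hmem : β ∈ G := fun b x =>
      hβ' 1 b 1 (one_mem P) (by rw [Subgroup.coe_one]; exact hf.map_one.symm) x
    refine ⟨⟨β, hmem⟩, fun x => Subtype.ext (Equiv.ext fun y => ?_)⟩
    show ((⟨φ x, hφ x⟩, 1) : S × S) • y = β (((⟨x, hP x.2⟩, 1) : S × S) • β.symm y)
    rw [hβ' _ 1 ⟨φ x, hφ x⟩ x.2 (toFun_coe φ x).symm, Equiv.apply_symm_apply]
  · rintro ⟨g, hg⟩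
    obtain ⟨R, f, hf, hK⟩ := hstab (g.1 x₀)
    have key : ∀ x : P, φ x ∈ R ∧ f (φ x) = x := by
      intro x
      refine (hK (⟨φ x, hφ x⟩, ⟨x, hP x.2⟩)).mp (MulAction.mem_stabilizer_iff.mpr ?_)
      have h1 := congrArg (fun π : G => π.1 (g.1 (((1 : S), (⟨x, hP x.2⟩ : S)) • x₀))) (hg x)
      change ((⟨φ x, hφ x⟩, 1) : S × S) • g.1 (((1 : S), (⟨x, hP x.2⟩ : S)) • x₀) =
        g.1 (((⟨x, hP x.2⟩, 1) : S × S) • g.1.symm (g.1 (((1 : S), (⟨x, hP x.2⟩ : S)) • x₀))) at h1
      rw [Equiv.symm_apply_apply, ← mul_smul, Prod.mk_mul_mk, mul_one, one_mul, hx₀, g.2,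
        ← mul_smul, Prod.mk_mul_mk, mul_one, one_mul] at h1
      exact h1
    obtain ⟨k, hk, hkl, -, hki⟩ := hf.inverse
    have hPle : P ≤ img R f := fun x hx => by
      have := mem_img_of_mem f (key ⟨x, hx⟩).1
      rwa [(key ⟨x, hx⟩).2] at this
    refine (hk.restrict hPle).mem_hom fun x => ?_
    conv_rhs => rw [← (key x).2]
    exact (hkl _ (key x).1).symm

end CfsgLib.Fusion
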