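import Cfsg.Agent.Lib.Fusion.QdLocal
import Cfsg.Agent.Lib.Fusion.Solvable
import Cfsg.Agent.Lib.Fusion.SectionFree
import Cfsg.Agent.Lib.Fusion.FunctorZJ
import Cfsg.Agent.Lib.PLocal.QdStable
import Cfsg.Agent.S5096

/-! `Qd(p)`-freeness of the fusion system of a group, and solvability by a control functor. -/
set_option autoImplicit false

universe u

namespace CfsgLib.Fusion

open Cfsg Cfsg.FusionSystem CfsgLib.PLocal

variable {p : ℕ} [hp : Fact p.Prime]

/-- The normalizer modulo its `p'`-core is a model for a fully normalized centric subgroup. -/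
theorem group_normalizer_model {G : Type u} [Group G] [Finite G] (P : Sylow p G) {Q : Subgroup G}
    (hQn : (groupFusionSystem (P : Subgroup G)).IsFullyNormalized Q)
    (hQc : (groupFusionSystem (P : Subgroup G)).IsCentric Q)
    {N : FusionSystem (normalizerIn (P : Subgroup G) Q)}
    (hN : (groupFusionSystem (P : Subgroup G)).IsNormalizerSystem Q N) :
    ∃ ι : ↥(normalizerIn (P : Subgroup G) Q) →*
        ↥(Subgroup.normalizer (Q : Set G)) ⧸ pPrimeCore p ↥(Subgroup.normalizer (Q : Set G)),
      N.IsModel p (↥(Subgroup.normalizer (Q : Set G)) ⧸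
        pPrimeCore p ↥(Subgroup.normalizer (Q : Set G))) ι := by
  set H := Subgroup.normalizer (Q : Set G) with hH
  have hQP := hQn.1
  have hTH : normalizerIn (P : Subgroup G) Q ≤ H := inf_le_right
  have hsyl := (fullyNormalized_group_iff P hQP).mp hQn
  obtain ⟨T, hT⟩ := (exists_sylow_iff hTH).mpr hsyl
  let ι₀ : ↥(normalizerIn (P : Subgroup G) Q) →* H := Subgroup.inclusion hTH
  have hrange : (T : Subgroup H) = ι₀.range := by
    rw [hT]; ext x
    exact ⟨fun hx => ⟨⟨x, hx⟩, rfl⟩, fun ⟨y, e⟩ => e ▸ y.2⟩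
  have hr : N.IsRealizedBy ι₀ := by
    refine ⟨Subgroup.inclusion_injective hTH, fun A hA φ hφ => ⟨fun h => ?_, fun ⟨g, hg⟩ => ?_⟩⟩
    · obtain ⟨-, -, -, k, hk, hkf, hkQ⟩ :=
        (isMor_normalizerSystem hN).mp (isMor_of_mem h)
      obtain ⟨-, -, g, hg⟩ := isMor_group.mp hk
      have hgQ : g ∈ H := by
        rw [hH, Subgroup.mem_normalizer_iff_map_conj_eq]
        show Q.map (MulAut.conj g).toMonoidHom = Q
        rw [← img_cj]
        refine Eq.trans ?_ hkQ
        exact (img_congr fun x hx => hg x (Subgroup.mem_sup_right hx)).symm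
      refine ⟨⟨g, hgQ⟩, fun x => Subtype.ext ?_⟩
      show φ x = g * x * g⁻¹
      have h1 : k x = cj g x := hg x (Subgroup.mem_sup_left x.2)
      rw [hkf x x.2, toFun_coe] at h1
      exact h1
    · have hAP : A ≤ (P : Subgroup G) := hA.trans inf_le_left
      have hval : ∀ x : A, φ x = cj (g : G) x := fun x => congrArg Subtype.val (hg x)
      have hk : IsMor (groupFusionSystem (P : Subgroup G)) (A ⊔ Q) (cj (g : G)) := by
        refine isMor_group.mpr ⟨sup_le hAP hQP, fun x hx => ?_, g, fun _ _ => rfl⟩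
        have hle : A ⊔ Q ≤ (P : Subgroup G).comap (MulAut.conj (g : G)).toMonoidHom := by
          refine sup_le (fun y hy => ?_) fun y hy => hQP ((Subgroup.mem_normalizer_iff.mp g.2 y).mp hy)
          show (g : G) * y * (g : G)⁻¹ ∈ (P : Subgroup G)
          have h1 : φ ⟨y, hy⟩ = (g : G) * y * (g : G)⁻¹ := hval ⟨y, hy⟩
          exact h1 ▸ (hφ ⟨y, hy⟩).1
        exact hle hx
      exact IsMor.mem_hom ((isMor_normalizerSystem hN).mpr ⟨hk.restrict le_sup_left, hA,
        fun x hx => (hval ⟨x, hx⟩) ▸ hφ ⟨x, hx⟩, cj (g : G), hk, fun _ _ => rfl,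
        img_cj_of_normalizer g.2⟩) hval
  obtain ⟨hr', T', hT'⟩ := realized_quotient hr T hrange (pPrimeCore p H)
    (CfsgLib.Base.pPrimeCore_coprime p H)
  refine ⟨_, inferInstance, hr', ⟨T', hT'⟩, centralizer_le_of_sylow T (R := Q.subgroupOf H)
    ((P.2.to_le hQP).comap_of_injective _ H.subtype_injective) ?_⟩
  rintro x ⟨hxT, hxc⟩
  obtain ⟨y, rfl⟩ := hrange.le hxT
  refine Subgroup.mem_subgroupOf.mpr (hQc.2 Q (isConj_refl _ hQP)
    (mem_centralizerIn.mpr ⟨y.2.1, fun z hz => cj_fixed_iff.mpr ?_⟩))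
  exact (congrArg Subtype.val (hxc ⟨z, Subgroup.le_normalizer hz⟩ hz)).symm

/-- The fusion system is `Qd(p)`-free exactly when the group is. -/
theorem group_qd_free_iff {G : Type u} [Group G] [Finite G] (hp2 : p ≠ 2) (P : Sylow p G) :
    (groupFusionSystem (P : Subgroup G)).IsSectionFree p ↥(qd p) ↔
      ¬ Involves ↥(qd p) G := by
  constructor
  · intro hfree hinv
    obtain ⟨T, hTp, hTc, hTqd⟩ := CfsgLib.QdLocal.invHom_qd_local hp2 (InvHom.of_involves hinv)
    obtain ⟨g₀, hg₀⟩ := exists_conj_le_sylow P hTp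
    obtain ⟨g₁, hQP, hsyl⟩ := exists_sylow_normalizer P hg₀
    set Q := img (img T (cj g₀)) (cj g₁) with hQdef
    have hQimg : Q = img T (cj (g₁ * g₀)) := img_cj_cj T g₀ g₁
    have hQn := (fullyNormalized_group_iff P hQP).mpr hsyl
    have hQc : (groupFusionSystem (P : Subgroup G)).IsCentric Q := by
      refine ⟨hQP, fun U hU => ?_⟩
      obtain ⟨-, -, a, rfl⟩ := isConj_group_iff.mp hU
      rw [hQimg, img_cj_cj]
      intro x hx
      obtain ⟨hxP, hxc⟩ := mem_centralizerIn.mp hx
      set b := a * (g₁ * g₀)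
      have h1 : b⁻¹ * x * b ∈ T := by
        refine hTc _ (fun t ht => ?_) ?_
        · have h2 := cj_fixed_iff.mp (hxc _ (mem_img_of_mem (cj b) ht))
          show t * (b⁻¹ * x * b) = b⁻¹ * x * b * t
          calc t * (b⁻¹ * x * b) = b⁻¹ * ((b * t * b⁻¹) * x) * b := by group
            _ = b⁻¹ * (x * (b * t * b⁻¹)) * b := by rw [show (b * t * b⁻¹) * x = _ from h2.symm]; rfl
            _ = _ := by group
        · obtain ⟨k, hk⟩ := P.2 ⟨x, hxP⟩
          refine ⟨k, ?_⟩
          have := conj_pow (i := p ^ k) (a := b⁻¹) (b := x)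
          rw [inv_inv] at this
          rw [this, show x ^ p ^ k = 1 from congrArg Subtype.val hk, mul_one, inv_mul_cancel]
      rw [img_cj]
      exact ⟨_, h1, by simp [mul_assoc]⟩
    obtain ⟨N, hN⟩ := Cfsg.Agent.S5096.result (groupFusionSystem (P : Subgroup G)) Q hQP
    obtain ⟨ι, hι⟩ := group_normalizer_model P hQn hQc hN
    refine hfree Q hQn hQc N hN _ ι hι (InvHom.involves ?_)
    refine CfsgLib.QdLocal.invHom_qd_quotient (CfsgLib.Base.pPrimeCore_coprime p _) ?_
    have hmap : Subgroup.normalizer (Q : Set G) =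
        (Subgroup.normalizer (T : Set G)).map (MulAut.conj (g₁ * g₀)).toMonoidHom := by
      rw [hQimg, img_cj]
      exact (Subgroup.map_equiv_normalizer_eq T (MulAut.conj (g₁ * g₀))).symm
    rw [hmap]
    exact hTqd.of_surjective
      ((Subgroup.normalizer (T : Set G)).equivMapOfInjective _
        (MulAut.conj (g₁ * g₀)).injective).symm.toMonoidHom (MulEquiv.surjective _)
  · intro hno Q hQn hQc N hN L _ ι hL hinv
    obtain ⟨ι', hι'⟩ := group_normalizer_model P hQn hQc hN
    obtain ⟨e, -⟩ := model_unique (isPGroup_of_le normalizerIn_le P.2) hL hι'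
    have h1 := InvHom.of_involves (involves_of_injective e.toMonoidHom e.injective hinv)
    exact hno ((h1.of_quotient _).of_subgroup).involves

/-- A functor controlling all models free of a section gives solvability. -/
theorem abSeries_of_control (w : PFunctor'.{u} p) (H : Type*) [Group H]
    (hloc : ∀ (L : Type u) [Group L] [Finite L] (P : Sylow p L),
      Subgroup.centralizer ((pCore p L : Subgroup L) : Set L) ≤ pCore p L → ¬ Involves H L →
      (((w.W ↥(P : Subgroup L)).map (P : Subgroup L).subtype : Subgroup L)).Normal) :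
    ∀ (n : ℕ) (Ω : Type u) [Group Ω] (S : Subgroup Ω) [Finite S] (F : FusionSystem S),
      Nat.card S = n → IsPGroup p S → F.IsSaturated p → F.IsSectionFree p H → AbSeries F ⊥ := by
  intro n
  induction n using Nat.strong_induction_on with
  | _ n ih =>
  intro Ω _ S _ F hn hS hF hfree
  subst hn
  by_cases hS1 : S = ⊥
  · exact ⟨0, fun _ => ⊥, rfl, hS1.symm, monotone_const,
      fun _ => hS1 ▸ stronglyClosed_self F, fun i hi => absurd hi (by omega)⟩
  have hWn := control_of_models w H hloc _ _ Ω S F rfl rfl hS hF hfree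
  set W := w.at S with hW
  have hW1 := w.at_ne_bot hS hS1
  have hWp : IsPGroup p W := isPGroup_of_le (w.at_le S) hS
  have : Finite W := finite_of_le (w.at_le S)
  have : Nontrivial W := (Subgroup.nontrivial_iff_ne_bot W).mpr hW1
  have hc := hWp.center_nontrivial
  set Z := (Subgroup.center W).map W.subtype with hZ
  have hZn : F.IsNormal Z := by
    refine isNormal_of_characteristic hWn (Subgroup.map_subtype_le _) ?_
    rw [show Z.subgroupOf W = Subgroup.center W from
      Subgroup.comap_map_eq_self_of_injective W.subtype_injective _]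
    exact inferInstance
  have hZS : Z ≤ S := hZn.1
  have hZsc := isNormal_stronglyClosed hZn
  have hn : (Z.subgroupOf S).Normal :=
    Subgroup.normal_subgroupOf_iff_le_normalizer hZS |>.mpr (stronglyClosed_le_normalizer hZsc)
  set θ := QuotientGroup.mk' (Z.subgroupOf S)
  have hker : ∀ s : S, θ s = 1 ↔ (s : Ω) ∈ Z := fun s =>
    (QuotientGroup.eq_one_iff s).trans Subgroup.mem_subgroupOf
  obtain ⟨E, hE⟩ := exists_factorSystem hZsc hker
    (S' := ⊤) (MonoidHom.range_eq_top.mpr (QuotientGroup.mk'_surjective _))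
  have hlt : Nat.card ↥(⊤ : Subgroup (↥S ⧸ Z.subgroupOf S)) < Nat.card S := by
    rw [Nat.card_congr Subgroup.topEquiv.toEquiv]
    have h1 : 1 < Nat.card ↥(Z.subgroupOf S) := by
      rw [Nat.card_congr (Subgroup.subgroupOfEquivOfLe hZS).toEquiv, hZ,
        Subgroup.card_map_of_injective W.subtype_injective]
      exact Finite.one_lt_card_iff_nontrivial.mpr hc
    rw [Subgroup.card_eq_card_quotient_mul_card_subgroup (Z.subgroupOf S)]
    exact lt_mul_of_one_lt_right Nat.card_pos h1
  obtain ⟨m, T, hT0, hTm, hmono, hsc, hab⟩ := ih _ hlt _ ⊤ E rfl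
    ((hS.to_quotient _).of_equiv Subgroup.topEquiv.symm) (factor_isSaturated hS hF hZsc hE)
    (isSectionFree_factor hS hF hfree hZn hE)
  have hpre : ∀ i, F.StronglyClosed (preimageAlong θ (T i)) := fun i =>
    stronglyClosed_preimage hS hF hZsc hE (hsc i)
  have hpre0 : preimageAlong θ (T 0) = Z := by
    ext x
    rw [hT0, mem_preimageAlong]
    exact ⟨fun ⟨hx, h⟩ => (hker ⟨x, hx⟩).mp (Subgroup.mem_bot.mp h),
      fun hx => ⟨hZS hx, Subgroup.mem_bot.mpr ((hker ⟨x, hZS hx⟩).mpr hx)⟩⟩
  have hbot : F.StronglyClosed ⊥ := stronglyClosed_iff.mpr ⟨bot_le, fun P f hf x _ hx => by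
    rw [Subgroup.mem_bot.mp hx, hf.map_one]; exact Subgroup.one_mem _⟩
  refine ⟨m + 1, fun i => if i = 0 then ⊥ else preimageAlong θ (T (i - 1)), rfl, ?_, ?_, ?_, ?_⟩
  · simp only [Nat.add_one_ne_zero, if_false, Nat.add_sub_cancel, hTm]
    refine le_antisymm (preimageAlong_le _) fun x hx => mem_preimageAlong.mpr ⟨hx, Subgroup.mem_top _⟩
  · refine monotone_nat_of_le_succ fun i => ?_
    rcases i with _ | i
    · simp
    · simp only [Nat.add_one_ne_zero, if_false, Nat.add_sub_cancel]
      intro x hx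
      obtain ⟨hxS, hxT⟩ := mem_preimageAlong.mp hx
      exact mem_preimageAlong.mpr ⟨hxS, hmono i.le_succ hxT⟩
  · intro i
    rcases i with _ | i
    · simpa using hbot
    · simpa using hpre i
  · intro i hi
    rcases i with _ | i
    · simp only [Nat.zero_add, one_ne_zero, if_false, if_true, Nat.sub_self, hpre0]
      refine Subgroup.commutator_le.mpr ?_
      rintro _ ⟨a, ha, rfl⟩ _ ⟨b, hb, rfl⟩
      rw [Subgroup.mem_bot, commutatorElement_eq_one_iff_mul_comm]
      exact congrArg Subtype.val (Subgroup.mem_center_iff.mp hb a)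
    · simp only [Nat.add_one_ne_zero, if_false, Nat.add_sub_cancel]
      refine Subgroup.commutator_le.mpr fun a ha b hb => ?_
      obtain ⟨haS, ha'⟩ := mem_preimageAlong.mp ha
      obtain ⟨hbS, hb'⟩ := mem_preimageAlong.mp hb
      have h1 := hab i (by omega) (Subgroup.commutator_mem_commutator ha' hb')
      rw [← map_commutatorElement] at h1
      exact mem_preimageAlong.mpr ⟨_, h1⟩

/-- The groups free of `Qd(p)` for odd `p` have solvable fusion. -/
theorem abSeries_of_qd_free (hp2 : p ≠ 2) {Ω : Type u} [Group Ω] {S : Subgroup Ω} [Finite S]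
    {F : FusionSystem S} (hS : IsPGroup p S) (hF : F.IsSaturated p)
    (hfree : F.IsSectionFree p ↥(qd p)) : AbSeries F ⊥ := by
  refine abSeries_of_control (zjFunctor (p := p)) ↥(qd p) (fun L _ _ P hc hno => ?_) _ Ω S F rfl hS hF hfree
  have h1 := zjFunctor_at (p := p) (P : Subgroup L)
  rw [PFunctor'.at] at h1
  rw [h1, CfsgLib.PLocal.centerThompsonAOf_eq]
  haveI := CfsgLib.PLocal.maxCenter_characteristic hp2 (Or.inr rfl) hc
    (CfsgLib.PLocal.quadStable_of_not_invHom hp2 fun h => hno h.involves) P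
  infer_instance

end CfsgLib.Fusion
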