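import Mathlib
import Cfsg.Agent.Lib.PLocal.QdControl
import Cfsg.Agent.Lib.Fusion.SectionFreeFactor
import Cfsg.Agent.Lib.Fusion.CenterTwo
import Cfsg.Agent.Lib.LocalEven.S4Section
import Cfsg.Agent.Lib.Coprime.Basic
import Cfsg.Agent.Lib.LocalEven.CharP

/-! A section `Qd(p)` of a group occurs in the normalizer of a centric `p`-subgroup. -/
set_option autoImplicit false

namespace CfsgLib.QdLocal

open Subgroup Cfsg CfsgLib.PLocal
open scoped commutatorElement

variable {p : ℕ} [hp : Fact p.Prime]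

theorem translation_self_centralizing {x : ↥(qd p)}
    (h : ∀ v, x * qdElt v 1 = qdElt v 1 * x) : ∃ v, qdElt v 1 = x := by
  obtain ⟨u, g, rfl⟩ := exists_qdElt_eq x
  refine ⟨u, ?_⟩
  suffices g = 1 by rw [this]
  apply Subtype.ext
  rw [Matrix.SpecialLinearGroup.coe_one]
  apply Matrix.toLin'.injective
  refine LinearMap.ext fun v => ?_
  have h1 := h v
  rw [qdElt_mul, qdElt_mul, Matrix.SpecialLinearGroup.coe_one, Matrix.one_mulVec] at h1
  have h2 := (qdElt_injective h1).1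
  rw [add_comm v u] at h2
  rw [Matrix.toLin'_apply, Matrix.toLin'_apply, Matrix.one_mulVec, add_left_cancel h2]

theorem qdElt_pow (v : Fin 2 → ZMod p) (n : ℕ) : qdElt v 1 ^ n = qdElt (n • v) 1 := by
  induction n with
  | zero => rw [pow_zero, zero_smul, qdElt_one]
  | succ n ih =>
    rw [pow_succ, ih, qdElt_mul, one_mul, Matrix.SpecialLinearGroup.coe_one, Matrix.one_mulVec,
      succ_nsmul]

theorem qdElt_conj (v : Fin 2 → ZMod p) (g : Matrix.SpecialLinearGroup (Fin 2) (ZMod p)) :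
    qdElt 0 g * qdElt v 1 * (qdElt 0 g)⁻¹ = qdElt (g.1.mulVec v) 1 := by
  rw [mul_inv_eq_iff_eq_mul, qdElt_mul, qdElt_mul, zero_add, mul_one, one_mul,
    Matrix.mulVec_zero, add_zero]

/-- The translations. -/
noncomputable def trans (p : ℕ) [Fact p.Prime] : Subgroup ↥(qd p) := qdBlock.ker

theorem qdElt_mem_trans (v : Fin 2 → ZMod p) : qdElt v 1 ∈ trans p :=
  MonoidHom.mem_ker.mpr (qdBlock_qdElt v 1)

theorem exists_of_mem_trans {x : ↥(qd p)} (h : x ∈ trans p) : ∃ v, qdElt v 1 = x := by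
  obtain ⟨v, g, rfl⟩ := exists_qdElt_eq x
  rw [trans, MonoidHom.mem_ker, qdBlock_qdElt] at h
  exact ⟨v, by rw [h]⟩

theorem trans_isPGroup : IsPGroup p (trans p) := fun x => by
  obtain ⟨v, hv⟩ := exists_of_mem_trans x.2
  refine ⟨1, Subtype.ext ?_⟩
  rw [SubmonoidClass.coe_pow, ← hv, qdElt_pow, pow_one]
  have : p • v = 0 := funext fun i => by simp
  rw [this, qdElt_one]
  rfl

theorem trans_comm {x y : ↥(qd p)} (hx : x ∈ trans p) (hy : y ∈ trans p) : x * y = y * x := by
  obtain ⟨v, rfl⟩ := exists_of_mem_trans hx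
  obtain ⟨w, rfl⟩ := exists_of_mem_trans hy
  rw [qdElt_mul, qdElt_mul, Matrix.SpecialLinearGroup.coe_one, Matrix.one_mulVec, Matrix.one_mulVec,
    add_comm]

/-- A normal subgroup of order prime to `p` of `Qd(p)` is trivial. -/
theorem coprime_normal_trivial {N : Subgroup ↥(qd p)} [N.Normal] (hN : (Nat.card N).Coprime p) :
    N = ⊥ := by
  refine le_bot_iff.mp fun x hx => ?_
  have : Finite ↥(qd p) := inferInstance
  have hdis : trans p ⊓ N = ⊥ :=
    CfsgLib.Base.inf_eq_bot_of_isPGroup_of_coprime trans_isPGroup hN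
  have hTn : (trans p).Normal := MonoidHom.normal_ker _
  obtain ⟨v, hv⟩ := translation_self_centralizing (x := x) fun v => by
    have h1 : x * qdElt v 1 * x⁻¹ * (qdElt v 1)⁻¹ ∈ trans p ⊓ N :=
      Subgroup.mem_inf.mpr ⟨mul_mem (hTn.conj_mem _ (qdElt_mem_trans v) x) ((trans p).inv_mem (qdElt_mem_trans v)), by
        rw [show x * qdElt v 1 * x⁻¹ * (qdElt v 1)⁻¹ = x * (qdElt v 1 * x⁻¹ * (qdElt v 1)⁻¹) by group]
        exact N.mul_mem hx ((inferInstance : N.Normal).conj_mem _ (N.inv_mem hx) _)⟩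
    rw [hdis, Subgroup.mem_bot, mul_inv_eq_one, mul_inv_eq_iff_eq_mul] at h1
    exact h1
  exact hdis.le ⟨hv ▸ qdElt_mem_trans v, hx⟩

variable {G : Type*} [Group G] [Finite G]

/-- A section `Qd(p)` is seen in the normalizer of a `p`-subgroup containing the `p`-elements of its
centralizer. -/
theorem invHom_qd_local (hp2 : p ≠ 2) (h : InvHom ↥(qd p) G) :
    ∃ T : Subgroup G, IsPGroup p T ∧
      (∀ c : G, c ∈ centralizer (T : Set G) → (∃ k : ℕ, c ^ p ^ k = 1) → c ∈ T) ∧
      InvHom ↥(qd p) ↥(normalizer (T : Set G)) := by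
  obtain ⟨K, F, hF⟩ := h
  set V' := (trans p).comap F with hV'
  have : (trans p).Normal := MonoidHom.normal_ker _
  let E₀ : Sylow p V' := default
  set E₁ := (E₀ : Subgroup V').map V'.subtype with hE₁
  have hFE₁ : ∀ v, ∃ e ∈ E₁, F e = qdElt v 1 := by
    intro v
    set φ := (F.comp V'.subtype).codRestrict (trans p) fun x => x.2
    have hφ : Function.Surjective φ := fun y => by
      obtain ⟨x, hx⟩ := hF (y : ↥(qd p))
      exact ⟨⟨x, show F x ∈ trans p by rw [hx]; exact y.2⟩, Subtype.ext hx⟩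
    set E' := E₀.mapSurjective hφ
    have htop : (E' : Subgroup (trans p)) = ⊤ :=
      (E'.3 (trans_isPGroup.to_subgroup ⊤) le_top).symm
    obtain ⟨e, he, hee⟩ := htop.ge (Subgroup.mem_top (⟨_, qdElt_mem_trans v⟩ : trans p))
    exact ⟨(e : K), ⟨e, he, rfl⟩, congrArg Subtype.val hee⟩
  -- a normalizer covering the section
  have hcover : ∀ x : ↥(qd p), ∃ k ∈ normalizer (E₁ : Set K), ∃ v, F k * qdElt v 1 = x := by
    intro x
    obtain ⟨y, rfl⟩ := hF x
    have hy := (Sylow.normalizer_sup_eq_top E₀).ge (Subgroup.mem_top y)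
    obtain ⟨k, hk, w, hw, rfl⟩ := Subgroup.mem_sup_of_normal_right.mp hy
    obtain ⟨v, hv⟩ := exists_of_mem_trans (show F w ∈ trans p from hw)
    exact ⟨k, hk, v, by rw [hv, map_mul]⟩
  set E := E₁.map K.subtype with hE
  have hEp : IsPGroup p E := (E₀.2.map _).map _
  set N₁ := normalizer (E : Set G) with hN₁
  set M := E ⊔ centralizer (E : Set G) with hM
  have hMN : M ≤ N₁ := sup_le le_normalizer (centralizer_le_normalizer _)
  obtain ⟨T, hET, hT⟩ := CfsgLib.Fusion.exists_isSylIn_of_isPGroup (A := E) (B := M) hEp le_sup_left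
  obtain ⟨TM, hTM⟩ := (CfsgLib.Fusion.exists_sylow_iff hT.1).mpr hT
  refine ⟨T, hT.2.1, fun c hc ⟨k, hk⟩ => ?_, ?_⟩
  · have hcM : c ∈ M := Subgroup.mem_sup_right (centralizer_le (show (E : Set G) ⊆ T from hET) hc)
    have hzp : IsPGroup p (zpowers c) := by
      obtain ⟨j, -, hj⟩ := (Nat.dvd_prime_pow hp.out).1 (orderOf_dvd_of_pow_eq_one hk)
      exact IsPGroup.iff_card.2 ⟨j, by rw [Nat.card_zpowers, hj]⟩
    have h1 : T ⊔ zpowers c = T := hT.2.2 _
      (IsPGroup.to_sup_of_normal_left' hT.2.1 hzp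
        (zpowers_le.2 (centralizer_le_normalizer _ hc))) le_sup_left
      (sup_le hT.1 (zpowers_le.2 hcM))
    exact h1.le (Subgroup.mem_sup_right (mem_zpowers c))
  set N := normalizer (T : Set G) with hNdef
  -- the elements normalizing `E` and acting on the section as elements of the cover
  let D : Subgroup G :=
    { carrier := {h | h ∈ N ∧ ∃ k ∈ normalizer (E₁ : Set K), ∀ e ∈ E₁,
        ∃ e' ∈ E₁, h * (e : G) * h⁻¹ = e' ∧ F e' = F k * F e * (F k)⁻¹}
      one_mem' := ⟨one_mem _, 1, one_mem _, fun e he => ⟨e, he, by simp, by simp⟩⟩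
      mul_mem' := by
        rintro x y ⟨hx, k, hk, hk'⟩ ⟨hy, l, hl, hl'⟩
        refine ⟨mul_mem hx hy, k * l, mul_mem hk hl, fun e he => ?_⟩
        obtain ⟨e', he', h1, h2⟩ := hl' e he
        obtain ⟨e'', he'', h3, h4⟩ := hk' e' he'
        exact ⟨e'', he'', by rw [← h3, ← h1]; group, by rw [h4, h2, map_mul]; group⟩
      inv_mem' := by
        rintro x ⟨hx, k, hk, hk'⟩
        refine ⟨inv_mem hx, k⁻¹, inv_mem hk, fun e he => ?_⟩
        -- conjugation by `x` permutes `E`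
        let f : E₁ → E₁ := fun a => ⟨(hk' a a.2).choose, (hk' a a.2).choose_spec.1⟩
        have hf : ∀ a : E₁, x * ((a : K) : G) * x⁻¹ = ((f a : K) : G) := fun a =>
          (hk' a a.2).choose_spec.2.1
        have hfi : Function.Injective f := fun a b e => by
          have h1 := hf a
          rw [e, ← hf b] at h1
          exact Subtype.ext (Subtype.ext (mul_left_cancel (mul_right_cancel h1)))
        obtain ⟨a, ha⟩ := (Finite.injective_iff_surjective.mp hfi) ⟨e, he⟩
        refine ⟨a, a.2, ?_, ?_⟩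
        · rw [← show ((f a : K) : G) = (e : G) by rw [ha], ← hf a]; group
        · have h2 := (hk' a a.2).choose_spec.2.2
          rw [show (hk' a a.2).choose = e from congrArg Subtype.val ha] at h2
          rw [h2, map_inv]; group }
  have hED : ∀ e ∈ E₁, (e : G) ∈ D := fun e he =>
    ⟨le_normalizer (hET ⟨e, he, rfl⟩), e, le_normalizer he, fun a ha =>
      ⟨e * a * e⁻¹, mul_mem (mul_mem he ha) (inv_mem he), rfl, by simp⟩⟩
  -- each element of the cover is realised in `D`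
  have hreal : ∀ k ∈ normalizer (E₁ : Set K), ∃ h ∈ D, ∀ e ∈ E₁, ∃ e' ∈ E₁,
      h * (e : G) * h⁻¹ = e' ∧ F e' = F k * F e * (F k)⁻¹ := by
    intro k hk
    have hkN : (k : G) ∈ N₁ := Subgroup.le_normalizer_map K.subtype ⟨k, hk, rfl⟩
    have hkM : M.map (MulAut.conj (k : G)).toMonoidHom = M := by
      rw [hM, Subgroup.map_sup, CfsgLib.LocalEven.conj_map_eq_of_mem_normalizer hkN,
        CfsgLib.LocalEven.conj_map_eq_of_mem_normalizer (CfsgLib.LocalEven.normalizer_le_normalizer_centralizer _ hkN)]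
    obtain ⟨m, hm, hmT⟩ := hT.exists_conj_le (hT.2.1.map (MulAut.conj (k : G)).toMonoidHom)
      ((Subgroup.map_mono hT.1).trans hkM.le)
    set h := m * (k : G) with hh
    have hhT : h ∈ N := CfsgLib.LocalEven.mem_normalizer_of_conj_mem fun t ht => by
      have := hmT _ ⟨t, ht, rfl⟩
      simpa [hh, mul_assoc] using this
    have key : ∀ e ∈ E₁, ∃ e' ∈ E₁, h * (e : G) * h⁻¹ = e' ∧ F e' = F k * F e * (F k)⁻¹ := by
      intro e he
      obtain ⟨c, hc, e₀, he₀, hce⟩ := (CfsgLib.Coprime.mem_sup_iff_of_le_normalizer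
        (centralizer_le_normalizer _)).mp ((sup_comm E (centralizer (E : Set G))).le hm)
      obtain ⟨a, ha, rfl⟩ := he₀
      have hf : k * e * k⁻¹ ∈ E₁ := (mem_normalizer_iff.mp hk e).mp he
      have haf : a * (k * e * k⁻¹) * a⁻¹ ∈ E₁ := mul_mem (mul_mem ha hf) (inv_mem ha)
      refine ⟨_, haf, ?_, ?_⟩
      · have hfix := hc _ ⟨_, haf, rfl⟩
        calc h * (e : G) * h⁻¹
            = c * (((a * (k * e * k⁻¹) * a⁻¹ : K)) : G) * c⁻¹ := by
              simp only [hh, ← hce, Subgroup.coe_mul, Subgroup.coe_inv, Subgroup.subtype_apply]; group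
          _ = _ := by rw [show c * ((a * (k * e * k⁻¹) * a⁻¹ : K) : G) = _ from hfix.symm, mul_inv_cancel_right]; rfl
      · obtain ⟨a', -, haE⟩ := ha
        obtain ⟨f', -, hfE⟩ := hf
        have hab : F a * F (k * e * k⁻¹) = F (k * e * k⁻¹) * F a := by
          rw [← haE, ← hfE]; exact trans_comm a'.2 f'.2
        rw [map_mul, map_mul, map_inv, hab, mul_inv_cancel_right, map_mul, map_mul, map_inv]
    exact ⟨h, ⟨hhT, k, hk, key⟩, key⟩
  -- the quotient by the kernel of the section on `E`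
  set R₀ := ((E₁ ⊓ F.ker).map K.subtype).subgroupOf D with hR₀
  have hR₀n : R₀.Normal := ⟨by
    rintro ⟨r, hr⟩ ⟨a, ⟨haE, haF⟩, rfl⟩ ⟨d, hd⟩
    obtain ⟨k, -, hk⟩ := hd.2
    obtain ⟨a', ha', h1, h2⟩ := hk a haE
    refine ⟨a', ⟨ha', ?_⟩, h1.symm⟩
    show F a' = 1
    rw [h2, show F a = 1 from haF, mul_one, mul_inv_cancel]⟩
  choose ev hev hevF using hFE₁
  let π := QuotientGroup.mk' R₀
  have heq : ∀ a b : K, ∀ ha : a ∈ E₁, ∀ hb : b ∈ E₁, F a = F b →
      π ⟨a, hED a ha⟩ = π ⟨b, hED b hb⟩ := fun a b ha hb e => QuotientGroup.eq.mpr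
    ⟨a⁻¹ * b, ⟨E₁.mul_mem (E₁.inv_mem ha) hb, by
      show F (a⁻¹ * b) = 1
      rw [map_mul, map_inv, e, inv_mul_cancel]⟩, rfl⟩
  have hdq : InvHom ↥(qd p) (D ⧸ R₀) := by
    refine invHom_qd_of_plane hp2 (fun v => π ⟨ev v, hED _ (hev v)⟩) (fun u v e => ?_)
      (fun u v => ?_) fun g => ?_
    · obtain ⟨a, ⟨-, haF⟩, hae⟩ := QuotientGroup.eq.mp e
      have h1 : a = (ev u)⁻¹ * ev v := Subtype.ext hae
      replace haF : F a = 1 := haF
      rw [h1, map_mul, map_inv, hevF, hevF, inv_mul_eq_one] at haF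
      exact (qdElt_injective haF).1
    · rw [← map_mul]
      refine (heq (ev (u + v)) (ev u * ev v) (hev _) (mul_mem (hev u) (hev v)) ?_).trans rfl
      rw [map_mul, hevF, hevF, hevF, qdElt_mul, Matrix.SpecialLinearGroup.coe_one,
        Matrix.one_mulVec, one_mul]
    · obtain ⟨k, hk, w, hw⟩ := hcover (qdElt 0 g)
      obtain ⟨h, hhD, hh⟩ := hreal k hk
      refine ⟨π ⟨h, hhD⟩, fun v => ?_⟩
      obtain ⟨e', he', h1, h2⟩ := hh (ev v) (hev v)
      rw [← map_inv, ← map_mul, ← map_mul]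
      refine Eq.trans ?_ (heq e' (ev (g.1.mulVec v)) he' (hev _) ?_)
      · exact congrArg π (Subtype.ext h1)
      rw [h2, hevF, hevF, ← qdElt_conj, ← hw]
      have hwv : qdElt w 1 * qdElt v 1 * (qdElt w 1)⁻¹ = qdElt v 1 := by
        rw [trans_comm (qdElt_mem_trans w) (qdElt_mem_trans v), mul_inv_cancel_right]
      conv_lhs => rw [← hwv]
      group
  have h1 : InvHom ↥(qd p) D := hdq.of_quotient R₀
  have h2 : InvHom ↥(qd p) (D.subgroupOf N) :=
    h1.of_surjective (Subgroup.subgroupOfEquivOfLe (fun d hd => hd.1 : D ≤ N)).toMonoidHom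
      (MulEquiv.surjective _)
  exact h2.of_subgroup

/-- A section `Qd(p)` survives dividing by a normal subgroup of order prime to `p`. -/
theorem invHom_qd_quotient {N : Subgroup G} [N.Normal] (hN : (Nat.card N).Coprime p)
    (h : InvHom ↥(qd p) G) : InvHom ↥(qd p) (G ⧸ N) := by
  obtain ⟨K, F, hF⟩ := h
  set π := QuotientGroup.mk' N
  set q := π.subgroupMap K
  have hq : Function.Surjective q := MonoidHom.subgroupMap_surjective π K
  set M := (N.subgroupOf K).map F with hMdef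
  have hMn : M.Normal := (inferInstance : (N.subgroupOf K).Normal).map F hF
  have hMc : (Nat.card M).Coprime p :=
    Nat.Coprime.coprime_dvd_left ((Subgroup.card_map_dvd _ F).trans
      (Subgroup.card_comap_dvd_of_injective N K.subtype K.subtype_injective)) hN
  have hle : q.ker ≤ F.ker := fun x hx => by
    have hxN : (x : G) ∈ N := (QuotientGroup.eq_one_iff _).mp (congrArg Subtype.val hx)
    exact MonoidHom.mem_ker.mpr (Subgroup.mem_bot.mp
      ((coprime_normal_trivial hMc).le ⟨x, Subgroup.mem_subgroupOf.mpr hxN, rfl⟩))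
  refine ⟨K.map π, (q.liftOfSurjective hq) ⟨F, hle⟩, fun y => ?_⟩
  obtain ⟨x, rfl⟩ := hF y
  exact ⟨q x, MonoidHom.liftOfRightInverse_comp_apply q _ (Function.rightInverse_surjInv hq) ⟨F, hle⟩ x⟩

end CfsgLib.QdLocal
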