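import Mathlib
import Cfsg.Agent.Lib.Fusion.Thin
import Cfsg.Agent.Lib.Fusion.SectionFree

/-! Section freeness need only be tested at centric radical subgroups. -/
set_option autoImplicit false

universe u

namespace CfsgLib.Fusion

open Cfsg Cfsg.FusionSystem

variable {Ω : Type u} [Group Ω] {S : Subgroup Ω} [Finite S] {F : FusionSystem S} {p : ℕ}
  [hp : Fact p.Prime]

/-- The models at the centric radical subgroups contain all the others. -/
theorem isSectionFree_of_radical {H : Type*} [Group H] (hS : IsPGroup p S) (hF : F.IsSaturated p)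
    (h : ∀ Q : Subgroup Ω, F.IsFullyNormalized Q → F.IsCentric Q → F.IsRadical p Q →
      ∀ N : FusionSystem (normalizerIn S Q), F.IsNormalizerSystem Q N →
        ∀ (L : Type u) [Group L] (ι : ↥(normalizerIn S Q) →* L), N.IsModel p L ι → ¬ Involves H L) :
    F.IsSectionFree p H := by
  suffices hsuf : ∀ d, ∀ Q : Subgroup Ω, Nat.card S - Nat.card Q = d → F.IsFullyNormalized Q →
      F.IsCentric Q → ∀ N : FusionSystem (normalizerIn S Q), F.IsNormalizerSystem Q N →
        ∀ (L : Type u) [Group L] (ι : ↥(normalizerIn S Q) →* L), N.IsModel p L ι → ¬ Involves H L from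
    fun Q hQ hQc => hsuf _ Q rfl hQ hQc
  intro d
  induction d using Nat.strong_induction_on with
  | _ d ih =>
  intro Q hd hQn hQc E hE L _ ι hL
  have : Finite ↥(normalizerIn S Q) := finite_of_le normalizerIn_le
  have := hL.1
  have hQS : Q ≤ S := hQn.1
  have hQM : Q ≤ (normalizerIn S Q) := le_normalizerIn hQS
  have hnQ := normalizerSystem_isNormal hQS hE
  have hcQ := normalizerSystem_isCentric hQc hE
  have hpM : IsPGroup p (normalizerIn S Q) := isPGroup_of_le normalizerIn_le hS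
  set W := (Q.subgroupOf (normalizerIn S Q)).map ι with hW
  have hWn : W.Normal := ⟨fun _ ⟨a, ha, e⟩ g => by
    obtain ⟨b, hb, hbe⟩ := model_normal_of_isNormal hL hnQ (g := g) (a := a) ha
    exact ⟨b, hb, by rw [hbe, e]⟩⟩
  have hWO : W ≤ pCore p L := CfsgLib.Base.le_pCore ((hpM.to_subgroup _).map ι)
  obtain ⟨hRn, hRc⟩ := isNormal_centric_pCore hL
  set R := ((pCore p L).comap ι).map (normalizerIn S Q).subtype with hR
  have hQR : Q ≤ R := fun x hx => ⟨⟨x, hQM hx⟩, hWO ⟨⟨x, hQM hx⟩, hx, rfl⟩, rfl⟩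
  rcases eq_or_lt_of_le hQR with heq | hlt
  · -- `Q` is radical
    refine h Q hQn hQc ?_ E hE L ι hL
    obtain ⟨π, hπ⟩ := exists_normalHom hL hnQ
    have haut : ∀ g, π g ∈ F.autGroup Q := fun g => by
      have hgood : ∀ b : (normalizerIn S Q), (b : Ω) ∈ Q → g * ι b * g⁻¹ ∈ ι.range := fun b hb => ⟨_, hπ g ⟨b, hb⟩⟩
      obtain ⟨hf, hind⟩ := isMor_pullConj hL.2.1 hQM hgood
      refine (autGroup_eq_set hQS _).mpr
        ((((isMor_normalizerSystem hE).mp hf).1).congr fun x hx => ?_)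
      rw [autFun_of_mem _ hx]
      exact congrArg Subtype.val (hL.2.1.1 ((hind ⟨x, hQM hx⟩ ⟨_, hf.mem hx⟩ hx rfl).trans
        (hπ g ⟨x, hx⟩).symm))
    refine isRadical_iff.mpr ⟨hQS, le_antisymm ?_ (inn_le_pCoreAut F hS hQS)⟩
    have hn : ((pCoreAut F p Q).comap π).Normal := ⟨fun k hk g => by
      obtain ⟨c, hc, hce⟩ := hk
      refine ⟨⟨π g, haut g⟩ * c * ⟨π g, haut g⟩⁻¹, (inferInstance : (pCore p _).Normal).conj_mem c hc _, ?_⟩
      simp only [map_mul, map_inv, Subgroup.coe_subtype] at hce ⊢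
      rw [hce]⟩
    have hker : IsPGroup p π.ker := by
      refine IsPGroup.to_le ?_ (H := π.ker) (K := W) fun g hg => ?_
      · exact (hpM.to_subgroup _).map ι
      obtain ⟨z, hz, hzQ, -⟩ := model_centralizer hL hnQ hcQ (g := g) fun a ha => by
        have h1 := hπ g ⟨a, ha⟩
        rw [MonoidHom.mem_ker.mp hg] at h1
        exact h1.symm
      exact ⟨z, hzQ, hz⟩
    have hP₀ : (pCoreAut F p Q).comap π ≤ pCore p L :=
      CfsgLib.Base.le_pCore ((((CfsgLib.Base.isPGroup_pCore p _).map _)).comap_of_ker_isPGroup _ hker)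
    intro k hk
    obtain ⟨c, hc, rfl⟩ := id hk
    have hkm : IsMor E Q (autFun (c : MulAut Q)) :=
      (isMor_normalizerSystem hE).mpr ⟨isMor_autFun hQS c.2, hQM,
        fun x hx => hQM (autFun_mem _ hx), autFun (c : MulAut Q), by
          rw [sup_idem]; exact isMor_autFun hQS c.2, fun _ _ => rfl, img_autFun _⟩
    obtain ⟨g, hg⟩ := exists_induces hL.2.1 hkm
    have hgk : π g = c := MulEquiv.ext fun x => Subtype.ext (by
      rw [← autFun_coe (c : MulAut Q) x]
      exact congrArg Subtype.val (hL.2.1.1 ((hπ g x).trans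
        (hg ⟨x, hQM x.2⟩ ⟨_, hkm.mem x.2⟩ x.2 rfl).symm)))
    have hgR : g ∈ pCore p L := hP₀ (Subgroup.mem_comap.mpr (by rw [hgk]; exact hk))
    obtain ⟨b, rfl⟩ := model_pCore_le_range hL hgR
    have hbQ : (b : Ω) ∈ Q := heq.ge ⟨b, hgR, rfl⟩
    refine mem_inn.mpr ⟨b, hbQ, fun x hx => ?_⟩
    have h1 := hg ⟨x, hQM hx⟩ ⟨_, hkm.mem hx⟩ hx rfl
    rw [← map_inv, ← map_mul, ← map_mul] at h1
    exact congrArg Subtype.val (hL.2.1.1 h1)
  -- pass to the larger subgroup
  have hN : normalizerIn (normalizerIn S Q) R = (normalizerIn S Q) := normalizerIn_of_isNormal hRn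
  obtain ⟨NE, hNE⟩ := Cfsg.Agent.S5096.result E R hRn.1
  have heq' : ∀ P f, IsMor NE P f ↔ IsMor E P f := fun P f => by
    refine ⟨fun h' => ((isMor_normalizerSystem hNE).mp h').1, fun hf => ?_⟩
    obtain ⟨g, hg, hgf, hgR⟩ := (isNormal_iff.mp hRn).2 P f hf
    exact (isMor_normalizerSystem hNE).mpr
      ⟨hf, hN.symm ▸ hf.le, fun x hx => hN.symm ▸ hf.mem hx, g, hg, hgf, hgR⟩
  obtain ⟨ι', hι'⟩ := isModel_congr hN heq' hL
  obtain ⟨X, N', L', _, ιX, hX, hXn, hXc, hN', hL', f, hf⟩ :=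
    (normalizerCond F hQS).exists_model_embedding_conj hS hF (normalizerCond_hN hQS)
      (normalizerCond_hE hQS hE) (normalizerCond_hrec hS hF hQn) hQM
      (isFullyNormalized_of_normal hRn.1 hN) hRc hNE hι'
  intro hinv
  refine ih _ ?_ X rfl hXn hXc N' hN' L' ιX hL' (involves_of_injective f hf hinv)
  obtain ⟨φ, hφ, hφe⟩ := isConj_iff.mp hX
  have hRQ : R ⊔ Q = R := sup_eq_left.mpr hQR
  have h1 : Nat.card X = Nat.card R := by rw [← hφe, hφ.card_img, hRQ]
  have : Finite R := finite_of_le (hRn.1.trans normalizerIn_le)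
  have h2 : Nat.card Q < Nat.card R := card_lt_of_lt le_rfl hlt
  have h3 : Nat.card R ≤ Nat.card S := Subgroup.card_le_of_le (hRn.1.trans normalizerIn_le)
  omega

end CfsgLib.Fusion
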