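import Mathlib
import Cfsg.Agent.Lib.Fusion.SmallEssential
import Cfsg.Agent.Lib.PGroups.PlaneTorus

/-!
# Restriction of automorphism groups and auxiliary facts on planes
-/

set_option autoImplicit false
set_option linter.unusedSectionVars false

namespace CfsgLib.Fusion.RankTwo

open Cfsg Cfsg.FusionSystem CfsgLib.Fusion

universe u

variable {p : ℕ} [hp : Fact p.Prime] {Ω : Type u} [Group Ω] {S E D : Subgroup Ω}
  {F : FusionSystem S}

/-- A subgroup of the plane invariant under a transvection and a map moving its line is trivial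
or everything. -/
theorem eq_top_of_invariant {A : Type*} [CommGroup A] [Finite A] (hA : ∀ x : A, x ^ p = 1)
    (hc : Nat.card A = p ^ 2) {τ α : MulAut A} {e : A} (he : e ≠ 1) (hfix : τ e = e)
    (hmov : ∀ x, x⁻¹ * τ x ∈ Subgroup.zpowers e) (hne : τ ≠ 1)
    (hnot : α e ∉ Subgroup.zpowers e) {L : Subgroup A} (hLτ : ∀ x ∈ L, τ x ∈ L)
    (hLα : ∀ x ∈ L, α x ∈ L) (hL : L ≠ ⊥) : L = ⊤ := by
  have heL : e ∈ L := by
    obtain ⟨⟨x, hx⟩, hx1⟩ := (Subgroup.ne_bot_iff_exists_ne_one).1 hL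
    have hx1' : x ≠ 1 := fun h => hx1 (Subtype.ext h)
    by_cases hxe : x ∈ Subgroup.zpowers e
    · rw [← Subgroup.zpowers_le,
        ← CfsgLib.Fusion.Metacyclic.zpowers_eq_of_mem hA he hx1' hxe]
      exact Subgroup.zpowers_le.2 hx
    · have hd : x⁻¹ * τ x ∈ L := L.mul_mem (L.inv_mem hx) (hLτ x hx)
      have hd1 : x⁻¹ * τ x ≠ 1 := fun h => hne (MulEquiv.ext fun y =>
        CfsgLib.Fusion.Metacyclic.eq_of_eqOn_plane hA hc he hxe (g := τ.toMonoidHom)
          (h := MonoidHom.id A) hfix (inv_mul_eq_one.1 h).symm y)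
      rw [← Subgroup.zpowers_le,
        ← CfsgLib.Fusion.Metacyclic.zpowers_eq_of_mem hA he hd1 (hmov x)]
      exact Subgroup.zpowers_le.2 hd
  refine top_le_iff.1 ?_
  rw [← CfsgLib.Fusion.Metacyclic.sup_zpowers_eq_top hA hc he hnot]
  exact sup_le (Subgroup.zpowers_le.2 heL) (Subgroup.zpowers_le.2 (hLα e heL))

/-- A group of automorphisms is a `p`-group if its elements of order prime to `p` are trivial. -/
theorem isPGroup_of_coprime_trivial {Γ : Type*} [Group Γ] [Finite Γ] (K : Subgroup Γ)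
    (h : ∀ a ∈ K, (orderOf a).Coprime p → a = 1) : IsPGroup p K := by
  rintro ⟨a, ha⟩
  obtain ⟨n, c, hc', hn'⟩ := Nat.exists_eq_pow_mul_and_not_dvd (orderOf_pos a).ne' p hp.1.ne_one
  refine ⟨n, Subtype.ext (h _ (K.pow_mem ha _) ?_)⟩
  show (orderOf (a ^ p ^ n)).Coprime p
  rw [orderOf_pow_of_dvd (pow_ne_zero n hp.1.ne_zero) (hn' ▸ dvd_mul_right _ _), hn',
    Nat.mul_div_cancel_left _ (pow_pos hp.1.pos n)]
  exact (Nat.Coprime.symm ((hp.1.coprime_iff_not_dvd).mpr hc'))

section Res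

variable (hDE : D ≤ E) (hinv : ∀ α ∈ F.autGroup E, ∀ x ∈ D, autFun α x ∈ D)

/-- Restriction of an automorphism to an invariant subgroup. -/
noncomputable def resFun (α : F.autGroup E) : MulAut D where
  toFun x := ⟨autFun (α : MulAut E) x, hinv α α.2 x x.2⟩
  invFun x := ⟨autFun (α : MulAut E)⁻¹ x, hinv _ (Subgroup.inv_mem _ α.2) x x.2⟩
  left_inv x := Subtype.ext (autFun_inv_left _ (hDE x.2))
  right_inv x := Subtype.ext (autFun_inv_right _ (hDE x.2))
  map_mul' x y := Subtype.ext (autFun_map_mul _ (hDE x.2) (hDE y.2))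

/-- Restriction to an invariant subgroup, as a homomorphism. -/
noncomputable def resHom : F.autGroup E →* MulAut D :=
  MonoidHom.mk' (resFun hDE hinv) fun α β => MulEquiv.ext fun x =>
    Subtype.ext (autFun_mul _ _ (hDE x.2))

theorem resHom_coe (α : F.autGroup E) (x : D) :
    ((resHom hDE hinv α x : D) : Ω) = autFun (α : MulAut E) x := rfl

theorem autFun_resHom (α : F.autGroup E) {x : Ω} (hx : x ∈ D) :
    autFun (resHom hDE hinv α) x = autFun (α : MulAut E) x := by
  rw [autFun_of_mem _ hx]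
  rfl

theorem resHom_mem [Finite S] (hES : E ≤ S) (α : F.autGroup E) :
    resHom hDE hinv α ∈ F.autGroup D := by
  obtain ⟨δ, hδ, hδe⟩ := exists_aut ((isMor_autFun hES α.2).restrict hDE)
    (((isMor_autFun hES α.2).restrict hDE).img_eq_self (hinv α α.2))
  rwa [show resHom hDE hinv α = δ from autFun_inj fun x hx => by
    rw [autFun_resHom hDE hinv α hx, hδe x hx]]

end Res

/-- A normal `p`-subgroup of `Aut_F(E)` consists of inner automorphisms. -/
theorem le_inn (hS : IsPGroup p S) [Finite S] (hE : F.IsEssential p E)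
    (N : Subgroup (F.autGroup E)) (hN : N.Normal) (hNp : IsPGroup p N) :
    N ≤ (Inn E).subgroupOf (F.autGroup E) := by
  intro a ha
  exact le_inn_of_radical (essential_radical hS hE)
    (K := N.map (F.autGroup E).subtype) (Subgroup.map_subtype_le _)
    (hNp.map _) (fun b hb k hk => by
      obtain ⟨k, hk, rfl⟩ := hk
      exact ⟨⟨b, hb⟩ * k * ⟨b, hb⟩⁻¹, hN.conj_mem k hk _, rfl⟩)
    ⟨a, ha, rfl⟩

end CfsgLib.Fusion.RankTwo
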