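import Mathlib
import Cfsg.Agent.Lib.Fusion.SmallEssential
import Cfsg.Agent.Lib.PGroups.PlaneTorus

/-!
# Non-metacyclic groups of rank two: the torus argument
-/

set_option autoImplicit false
set_option linter.unusedSectionVars false

namespace CfsgLib.Fusion.RankTwo

open Cfsg Cfsg.FusionSystem CfsgLib.Fusion

universe u

variable {p : ℕ} [hp : Fact p.Prime] {Ω : Type u} [Group Ω] {S X U : Subgroup Ω} [Finite S]
  {F : FusionSystem S}

/-- A non-metacyclic `p`-group of rank two with its subgroups `X = Ω₁(S)` and `U`. -/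
structure Setup (p : ℕ) (S X U : Subgroup Ω) : Prop where
  hS : IsPGroup p S
  hXS : X ≤ S
  memX : ∀ x ∈ S, (x ∈ X ↔ x ^ p = 1)
  cardX : Nat.card X = p ^ 3
  leUX : U ≤ X
  commU : ∀ a ∈ U, ∀ b ∈ U, a * b = b * a
  cardU : Nat.card U = p ^ 2
  omega : ∀ c ∈ centralizerIn S U, c ^ p = 1 → c ∈ U
  commLine : ∀ g ∈ S, ∀ v ∈ U, g * v * g⁻¹ * v⁻¹ ∈ U ∧
    ∀ h ∈ S, h * (g * v * g⁻¹ * v⁻¹) = g * v * g⁻¹ * v⁻¹ * h
  index : ((centralizerIn S U).subgroupOf S).index = p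

/-- Elements `e`, `u`, `z` with `z = [e, u] ≠ 1`. -/
structure Frame (X U : Subgroup Ω) (e u z : Ω) : Prop where
  he : e ∈ X
  hu : u ∈ U
  hz : e * u * e⁻¹ = z * u
  hz1 : z ≠ 1

namespace Setup

variable (h : Setup p S X U)
include h

theorem hUS : U ≤ S := h.leUX.trans h.hXS

theorem powX {x : Ω} (hx : x ∈ X) : x ^ p = 1 := (h.memX x (h.hXS hx)).1 hx

theorem powU {x : Ω} (hx : x ∈ U) : x ^ p = 1 := h.powX (h.leUX hx)

theorem normU {g v : Ω} (hg : g ∈ S) (hv : v ∈ U) : g * v * g⁻¹ ∈ U := by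
  simpa [mul_assoc] using U.mul_mem (h.commLine g hg v hv).1 hv

theorem normX {g x : Ω} (hg : g ∈ S) (hx : x ∈ X) : g * x * g⁻¹ ∈ X := by
  refine (h.memX _ (S.mul_mem (S.mul_mem hg (h.hXS hx)) (S.inv_mem hg))).2 ?_
  rw [conj_pow, h.powX hx, mul_one, mul_inv_cancel]

omit [Finite S] in
theorem memC {c : Ω} : c ∈ centralizerIn S U ↔ c ∈ S ∧ ∀ v ∈ U, c * v = v * c := by
  rw [mem_centralizerIn]
  refine and_congr_right fun _ => forall₂_congr fun v _ => ?_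
  rw [cj_apply, mul_inv_eq_iff_eq_mul]

theorem hUC : U ≤ centralizerIn S U := fun v hv =>
  h.memC.2 ⟨h.hUS hv, fun w hw => h.commU v hv w hw⟩

theorem normC {g c : Ω} (hg : g ∈ S) (hc : c ∈ centralizerIn S U) :
    g * c * g⁻¹ ∈ centralizerIn S U := by
  obtain ⟨hcS, hcv⟩ := h.memC.1 hc
  refine h.memC.2 ⟨S.mul_mem (S.mul_mem hg hcS) (S.inv_mem hg), fun v hv => ?_⟩
  have h1 := hcv _ (h.normU (S.inv_mem hg) hv)
  rw [inv_inv] at h1
  calc g * c * g⁻¹ * v = g * (c * (g⁻¹ * v * g)) * g⁻¹ := by group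
    _ = v * (g * c * g⁻¹) := by rw [h1]; group

theorem split {e : Ω} (he : e ∈ S) (hec : e ∉ centralizerIn S U) {g : Ω} (hg : g ∈ S) :
    ∃ i : ℕ, (e ^ i)⁻¹ * g ∈ centralizerIn S U := by
  have hn : ((centralizerIn S U).subgroupOf S).Normal :=
    ⟨fun c hc w => h.normC w.2 hc⟩
  set N := (centralizerIn S U).subgroupOf S
  haveI : Fact (Nat.card (S ⧸ N)).Prime := ⟨by rw [← Subgroup.index_eq_card, h.index]; exact hp.1⟩
  have he1 : QuotientGroup.mk' N ⟨e, he⟩ ≠ 1 := fun h1 =>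
    hec ((QuotientGroup.eq_one_iff (⟨e, he⟩ : S)).1 h1)
  have hmem : QuotientGroup.mk' N ⟨g, hg⟩ ∈ Subgroup.zpowers (QuotientGroup.mk' N ⟨e, he⟩) :=
    mem_zpowers_of_prime_card rfl he1
  obtain ⟨i, hi⟩ := mem_powers_iff_mem_zpowers.2 hmem
  refine ⟨i, ?_⟩
  have h2 : QuotientGroup.mk' N ((⟨e, he⟩ : S) ^ i)⁻¹ * QuotientGroup.mk' N ⟨g, hg⟩ = 1 := by
    rw [map_inv, map_pow]
    exact inv_mul_eq_one.2 hi
  rw [← map_mul] at h2
  rw [← MonoidHom.mem_ker, QuotientGroup.ker_mk'] at h2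
  exact h2

theorem exists_outside : ∃ e ∈ X, e ∉ centralizerIn S U := by
  by_contra hne
  push Not at hne
  have : Finite U := finite_of_le h.hUS
  have h1 := Subgroup.card_le_of_le (fun x hx => h.omega x (hne x hx) (h.powX hx) : X ≤ U)
  rw [h.cardX, h.cardU, Nat.pow_le_pow_iff_right hp.1.one_lt] at h1
  omega

theorem exists_frame {e : Ω} (he : e ∈ X) (hec : e ∉ centralizerIn S U) :
    ∃ u z, Frame X U e u z := by
  by_contra hno
  push Not at hno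
  refine hec (h.memC.2 ⟨h.hXS he, fun v hv => ?_⟩)
  by_contra hne
  refine hno v (e * v * e⁻¹ * v⁻¹) ⟨he, hv, by group, fun h1 => hne ?_⟩
  rwa [mul_inv_eq_one, mul_inv_eq_iff_eq_mul] at h1

variable {e u z : Ω} (hf : Frame X U e u z)
include hf

theorem z_eq : e * u * e⁻¹ * u⁻¹ = z := by rw [hf.hz, mul_inv_cancel_right]

theorem zU : z ∈ U := h.z_eq hf ▸ (h.commLine e (h.hXS hf.he) u hf.hu).1

theorem zc {g : Ω} (hg : g ∈ S) : g * z = z * g := by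
  have := (h.commLine e (h.hXS hf.he) u hf.hu).2 g hg
  rwa [h.z_eq hf] at this

theorem zC {g : Ω} (hg : g ∈ S) (m : ℤ) : Commute (z ^ m) g :=
  (show Commute z g from (h.zc hf hg).symm).zpow_left m

theorem e_out : e ∉ centralizerIn S U := fun he => hf.hz1 (by
  have h1 := (h.memC.1 he).2 u hf.hu
  rw [← h.z_eq hf, h1, mul_inv_cancel_right, mul_inv_cancel])

theorem u_out : u ∉ Subgroup.zpowers z := fun hu => hf.hz1 (by
  obtain ⟨a, ha⟩ := Subgroup.mem_zpowers_iff.1 hu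
  rw [← h.z_eq hf, ← ha, ← (h.zC hf (h.hXS hf.he) a).eq, mul_inv_cancel_right, mul_inv_cancel])

theorem dec {v : Ω} (hv : v ∈ U) : ∃ a b : ℕ, v = z ^ a * u ^ b := by
  have : Finite U := finite_of_le h.hUS
  let f : ℕ × ℕ → Ω := fun x => z ^ x.1 * u ^ x.2
  set T : Subgroup Ω := Subgroup.zpowers z ⊔ Subgroup.zpowers u with hT
  have hTU : T ≤ U := sup_le (Subgroup.zpowers_le.2 (h.zU hf)) (Subgroup.zpowers_le.2 hf.hu)
  have hTeq : T = U := by
    refine Subgroup.eq_of_le_of_card_ge hTU ?_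
    have : Finite T := finite_of_le (hTU.trans h.hUS)
    obtain ⟨i, -, hi⟩ := (Nat.dvd_prime_pow hp.1).1 (h.cardU ▸ Subgroup.card_dvd_of_le hTU)
    have h1 : Nat.card (Subgroup.zpowers z) < Nat.card T :=
      lt_of_le_of_ne (Subgroup.card_le_of_le le_sup_left) fun h' => h.u_out hf (by
        rw [Subgroup.eq_of_le_of_card_ge (le_sup_left : Subgroup.zpowers z ≤ T) h'.ge]
        exact Subgroup.mem_sup_right (Subgroup.mem_zpowers u))
    rw [Nat.card_zpowers, orderOf_eq_prime (h.powU (h.zU hf)) hf.hz1, hi] at h1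
    rw [h.cardU, hi]
    refine Nat.pow_le_pow_right hp.1.pos ((Nat.pow_lt_pow_iff_right hp.1.one_lt).1 ?_)
    rwa [pow_one]
  have hle : Subgroup.zpowers u ≤ Subgroup.normalizer (Subgroup.zpowers z : Set Ω) := by
    refine Subgroup.zpowers_le.2 (Subgroup.mem_normalizer_iff.2 fun w => ?_)
    refine ⟨fun hw => ?_, fun hw => ?_⟩
    · obtain ⟨i, rfl⟩ := Subgroup.mem_zpowers_iff.1 hw
      rw [← (h.zC hf (h.hUS hf.hu) i).eq, mul_inv_cancel_right]
      exact Subgroup.zpow_mem _ (Subgroup.mem_zpowers z) i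
    · obtain ⟨i, hi⟩ := Subgroup.mem_zpowers_iff.1 hw
      have h1 : w = u⁻¹ * z ^ i * u := by rw [hi]; group
      rw [h1, mul_assoc, (h.zC hf (h.hUS hf.hu) i).eq, inv_mul_cancel_left]
      exact Subgroup.zpow_mem _ (Subgroup.mem_zpowers z) i
  rw [← hTeq, hT, ← SetLike.mem_coe, Subgroup.coe_mul_of_right_le_normalizer_left _ _ hle] at hv
  obtain ⟨a, ha, b, hb, rfl⟩ := hv
  have hfz : IsOfFinOrder z :=
    isOfFinOrder_iff_pow_eq_one.2 ⟨p, hp.1.pos, h.powU (h.zU hf)⟩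
  have hfu : IsOfFinOrder u := isOfFinOrder_iff_pow_eq_one.2 ⟨p, hp.1.pos, h.powU hf.hu⟩
  obtain ⟨a, rfl⟩ := hfz.mem_powers_iff_mem_zpowers.2 ha
  obtain ⟨b, rfl⟩ := hfu.mem_powers_iff_mem_zpowers.2 hb
  exact ⟨a, b, rfl⟩

theorem decX {x : Ω} (hx : x ∈ X) : ∃ i a b : ℕ, x = e ^ i * (z ^ a * u ^ b) := by
  obtain ⟨i, hi⟩ := h.split (h.hXS hf.he) (h.e_out hf) (h.hXS hx)
  have hX : (e ^ i)⁻¹ * x ∈ X := X.mul_mem (X.inv_mem (X.pow_mem hf.he i)) hx
  obtain ⟨a, b, hab⟩ := h.dec hf (h.omega _ hi (h.powX hX))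
  exact ⟨i, a, b, by rw [← hab, mul_inv_cancel_left]⟩

theorem conj_e_u (n : ℕ) : e ^ n * u * (e ^ n)⁻¹ = z ^ n * u := by
  induction n with
  | zero => simp
  | succ n ih =>
    calc e ^ (n + 1) * u * (e ^ (n + 1))⁻¹ = e * (e ^ n * u * (e ^ n)⁻¹) * e⁻¹ := by
          rw [pow_succ']; group
      _ = (e * z ^ n * e⁻¹) * (e * u * e⁻¹) := by rw [ih]; group
      _ = z ^ (n + 1) * u := by
        rw [← zpow_natCast z n, ← (h.zC hf (h.hXS hf.he) n).eq, hf.hz, mul_inv_cancel_right,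
          zpow_natCast, ← mul_assoc, ← pow_succ]

theorem conj_e_upow (n b : ℕ) : e ^ n * u ^ b * (e ^ n)⁻¹ = z ^ (n * b) * u ^ b := by
  rw [← conj_pow, h.conj_e_u hf, pow_mul,
    ((show Commute z u from (h.zc hf (h.hUS hf.hu)).symm).pow_left n).mul_pow]

theorem conj_u_e (m : ℤ) : u ^ m * e * (u ^ m)⁻¹ = z ^ (-m) * e := by
  have h1 : e * u ^ m * e⁻¹ = z ^ m * u ^ m := by
    rw [← conj_zpow, hf.hz, (show Commute z u from (h.zc hf (h.hUS hf.hu)).symm).mul_zpow]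
  have h2 : u ^ m * e = z ^ (-m) * (e * u ^ m) := by
    rw [show e * u ^ m = (e * u ^ m * e⁻¹) * e by group, h1, zpow_neg]; group
  rw [h2]; group

theorem line_of_commute {v : Ω} (hv : v ∈ U) (hc : e * v = v * e) :
    v ∈ Subgroup.zpowers z := by
  obtain ⟨a, b, rfl⟩ := h.dec hf hv
  have hz' : z ^ (1 * b) = 1 := by
    have h1 := h.conj_e_upow hf 1 b
    rw [pow_one] at h1
    have h2 : e * (z ^ a * u ^ b) * e⁻¹ = z ^ a * u ^ b := by rw [hc, mul_inv_cancel_right]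
    rw [show e * (z ^ a * u ^ b) * e⁻¹ = (e * z ^ a * e⁻¹) * (e * u ^ b * e⁻¹) by group, h1,
      ← zpow_natCast z a, ← (h.zC hf (h.hXS hf.he) a).eq, mul_inv_cancel_right,
      mul_right_inj, mul_eq_right] at h2
    exact h2
  rw [one_mul] at hz'
  have hdvd : p ∣ b := orderOf_eq_prime (h.powU (h.zU hf)) hf.hz1 ▸ orderOf_dvd_of_pow_eq_one hz'
  obtain ⟨c, rfl⟩ := hdvd
  rw [pow_mul, h.powU hf.hu, one_pow, mul_one]
  exact Subgroup.pow_mem _ (Subgroup.mem_zpowers z) a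

theorem center_X {x : Ω} (hx : x ∈ X) (hc : ∀ y ∈ X, x * y = y * x) :
    x ∈ Subgroup.zpowers z :=
  h.line_of_commute hf (h.omega x (h.memC.2 ⟨h.hXS hx, fun v hv => hc v (h.leUX hv)⟩) (h.powX hx))
    (hc e hf.he).symm

theorem line_of_central {v : Ω} (hv : v ∈ U) (hc : ∀ g ∈ S, g * v = v * g) :
    v ∈ Subgroup.zpowers z :=
  h.line_of_commute hf hv (hc e (h.hXS hf.he))

/-- Commutators with elements of `X` lie in `U`. -/
theorem comm_mem {g x : Ω} (hg : g ∈ S) (hx : x ∈ X) : g * x * g⁻¹ * x⁻¹ ∈ U := by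
  refine h.omega _ ?_ (h.powX (X.mul_mem (h.normX hg hx) (X.inv_mem hx)))
  obtain ⟨i, hi⟩ := h.split (h.hXS hf.he) (h.e_out hf) hg
  obtain ⟨j, hj⟩ := h.split (h.hXS hf.he) (h.e_out hf) (h.hXS hx)
  set c := (e ^ i)⁻¹ * g with hc
  set d := (e ^ j)⁻¹ * x with hd
  have hgc : g = e ^ i * c := (mul_inv_cancel_left _ g).symm
  have hxd : x = e ^ j * d := (mul_inv_cancel_left _ x).symm
  have hei : e ^ i ∈ S := S.pow_mem (h.hXS hf.he) i
  have hej : e ^ j ∈ S := S.pow_mem (h.hXS hf.he) j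
  have key : g * x * g⁻¹ * x⁻¹ = (e ^ i * c * (e ^ i)⁻¹) * ((e ^ i * e ^ j) * (d * c⁻¹) *
      (e ^ i * e ^ j)⁻¹) * (e ^ j * d⁻¹ * (e ^ j)⁻¹) := by
    rw [hgc, hxd]
    group
  rw [key]
  exact Subgroup.mul_mem _ (Subgroup.mul_mem _ (h.normC hei hi)
    (h.normC (S.mul_mem hei hej) (Subgroup.mul_mem _ hj (Subgroup.inv_mem _ hi))))
    (h.normC hej (Subgroup.inv_mem _ hj))

/-- An element of `C` acting nontrivially on `X / Z` gives a new frame. -/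
theorem frame_of {c : Ω} (hc : c ∈ centralizerIn S U)
    (hne : e * c * e⁻¹ * c⁻¹ ∉ Subgroup.zpowers z) :
    ∃ u' z', Frame X U e u' z' ∧ e * c * e⁻¹ = u' * c := by
  have hcS := (h.memC.1 hc).1
  have hmem : e * c * e⁻¹ * c⁻¹ ∈ U := by
    have h1 := U.inv_mem (h.comm_mem hf hcS hf.he)
    rwa [show (c * e * c⁻¹ * e⁻¹)⁻¹ = e * c * e⁻¹ * c⁻¹ by group] at h1
  refine ⟨_, e * (e * c * e⁻¹ * c⁻¹) * e⁻¹ * (e * c * e⁻¹ * c⁻¹)⁻¹,
    ⟨hf.he, hmem, by group, fun h1 => hne ?_⟩, by group⟩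
  rw [mul_inv_eq_one, mul_inv_eq_iff_eq_mul] at h1
  exact h.line_of_commute hf hmem h1

/-- `β` preserves the centre of `X`. -/
theorem autFun_line {β : MulAut X} {v : Ω} (hv : v ∈ Subgroup.zpowers z) :
    autFun β v ∈ Subgroup.zpowers z := by
  obtain ⟨i, rfl⟩ := Subgroup.mem_zpowers_iff.1 hv
  have hzX : z ^ i ∈ X := X.zpow_mem (h.leUX (h.zU hf)) i
  refine h.center_X hf (autFun_mem β hzX) fun y hy => ?_
  rw [← autFun_inv_right β hy, ← autFun_map_mul β hzX (autFun_mem _ hy),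
    ← autFun_map_mul β (autFun_mem _ hy) hzX,
    (h.zC hf (h.hXS (autFun_mem β⁻¹ hy)) i).eq]

end Setup

end CfsgLib.Fusion.RankTwo
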