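import Mathlib
import Cfsg.Agent.Lib.Fusion.RankTwoSetup

/-!
# No torus acts on `Ω₁(S)` for a non-metacyclic group of rank two
-/

set_option autoImplicit false
set_option linter.unusedSectionVars false

namespace CfsgLib.Fusion.RankTwo

open Cfsg Cfsg.FusionSystem CfsgLib.Fusion CfsgLib.PGroups.RankTwoWeights

universe u

/-- The automorphism induced on the quotient by the centre. -/
def qFun {G : Type*} [Group G] (β : MulAut G) : MulAut (G ⧸ Subgroup.center G) :=
  QuotientGroup.congr _ _ β (Subgroup.characteristic_iff_map_eq.mp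
    (inferInstance : (Subgroup.center G).Characteristic) β)

theorem qFun_mk {G : Type*} [Group G] (β : MulAut G) (x : G) :
    qFun β (QuotientGroup.mk x) = QuotientGroup.mk (β x) :=
  QuotientGroup.congr_mk _ _ _ _ x

/-- `qFun` as a homomorphism. -/
def qAut {G : Type*} [Group G] : MulAut G →* MulAut (G ⧸ Subgroup.center G) :=
  MonoidHom.mk' qFun fun α β => MulEquiv.ext fun q => by
    obtain ⟨x, rfl⟩ := QuotientGroup.mk_surjective q
    rw [MulAut.mul_apply, qFun_mk, qFun_mk, qFun_mk, MulAut.mul_apply]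

theorem qAut_mk {G : Type*} [Group G] (β : MulAut G) (x : G) :
    qAut β (QuotientGroup.mk x) = QuotientGroup.mk (β x) :=
  qFun_mk β x

variable {p : ℕ} [hp : Fact p.Prime] {Ω : Type u} [Group Ω] {S X U : Subgroup Ω} [Finite S]
  {F : FusionSystem S}

namespace Setup

variable (h : Setup p S X U) {e u z : Ω}
include h

theorem map_pow_X {β : MulAut X} {x : Ω} (hx : x ∈ X) (n : ℕ) :
    autFun β (x ^ n) = autFun β x ^ n := by
  rw [autFun_of_mem β (X.pow_mem hx n), autFun_of_mem β hx, ← SubgroupClass.coe_pow, ← map_pow]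
  rfl

/-- There is no automorphism with weights `k`, `l` on `e`, `u`. -/
theorem torus_false (hF : F.IsSaturated p) (hf : Frame X U e u z) {s : Ω}
    (hs : s ∈ centralizerIn S U) (hes : e * s * e⁻¹ = u * s) {β : MulAut X}
    (hβ : β ∈ F.autGroup X) {k l : ℕ} {w : Ω} (hw : w ∈ U) (hβe : autFun β e = e ^ k * w)
    {i₀ : ℤ} (hβu : autFun β u = z ^ i₀ * u ^ l) (hk : ¬ p ∣ k)
    (hk2 : (k : ZMod p) ^ 2 ≠ 1) (hlk : (l : ZMod p) ≠ k) : False := by
  classical
  have hsS := (h.memC.1 hs).1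
  have heS := h.hXS hf.he
  have huX := h.leUX hf.hu
  have huS := h.hUS hf.hu
  have hzU := h.zU hf
  have hzX := h.leUX hzU
  -- `β` preserves `U`
  have hβU : ∀ v ∈ U, autFun β v ∈ U := by
    intro v hv
    obtain ⟨a, b, rfl⟩ := h.dec hf hv
    rw [autFun_map_mul β (X.pow_mem hzX a) (X.pow_mem huX b), h.map_pow_X huX b, hβu]
    refine U.mul_mem ?_ (U.pow_mem (U.mul_mem (U.zpow_mem hzU _) (U.pow_mem hf.hu l)) b)
    exact (Subgroup.zpowers_le.2 hzU) (h.autFun_line hf (Subgroup.pow_mem _ (Subgroup.mem_zpowers z) a))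
  have hβU' : ∀ v ∈ U, ∃ v' ∈ U, autFun β v' = v := by
    have : Finite U := finite_of_le h.hUS
    intro v hv
    let f : U → U := fun w => ⟨autFun β w, hβU w w.2⟩
    have hinj : Function.Injective f := by
      intro a b hab
      have h1 : autFun β a = autFun β b := congrArg Subtype.val hab
      apply Subtype.ext
      rw [← autFun_inv_left β (h.leUX a.2), h1, autFun_inv_left β (h.leUX b.2)]
    obtain ⟨w, hw'⟩ := (Finite.injective_iff_surjective.1 hinj) ⟨v, hv⟩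
    exact ⟨w, w.2, congrArg Subtype.val hw'⟩
  -- `β` extends to `S`
  obtain ⟨φ, -, hφ⟩ : ∃ φ ∈ F.autGroup S, ∀ x ∈ X, autFun φ x = autFun β x := by
    have hN : normalizerIn S X = S := by
      refine le_antisymm normalizerIn_le fun g hg => mem_normalizerIn.2 ⟨hg, ?_⟩
      rw [Subgroup.mem_normalizer_iff]
      refine fun x => ⟨fun hx => h.normX hg hx, fun hx => ?_⟩
      have := h.normX (S.inv_mem hg) hx
      simpa [mul_assoc] using this
    have hrec := (isFullyAutomized_of_normalized h.hS hF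
      (isFullyNormalized_of_normal (F := F) h.hXS hN)).2
    have hSN : S ≤ nExt S X (autFun β) := by
      intro g hg
      have hgn := (mem_normalizerIn.1 (hN.ge hg)).2
      refine mem_nExt.2 ⟨hg, hgn, ?_⟩
      -- the image of a generator under the conjugated map
      have hmov : ∀ y ∈ X, ∃ v ∈ U, autFun β (cj g (autFun β⁻¹ y)) = v * y ∧
          (autFun β⁻¹ y ∈ U → v ∈ Subgroup.zpowers z) := by
        intro y hy
        have hy' : autFun β⁻¹ y ∈ X := autFun_mem _ hy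
        set v₀ := g * autFun β⁻¹ y * g⁻¹ * (autFun β⁻¹ y)⁻¹ with hv₀
        have hv₀U : v₀ ∈ U := h.comm_mem hf hg hy'
        refine ⟨autFun β v₀, hβU _ hv₀U, ?_, fun hyU => h.autFun_line hf
          (h.line_of_central hf hv₀U fun g' hg' => (h.commLine g hg _ hyU).2 g' hg')⟩
        conv_rhs => rw [← autFun_inv_right β hy, ← autFun_map_mul β (h.leUX hv₀U) hy']
        rw [cj_apply, hv₀, inv_mul_cancel_right]
      obtain ⟨ve, hve, hde, -⟩ := hmov e hf.he
      obtain ⟨vu, hvu, hdu, hvu'⟩ := hmov u huX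
      obtain ⟨A, B, rfl⟩ := h.dec hf hve
      have hzfin : IsOfFinOrder z := isOfFinOrder_iff_pow_eq_one.2 ⟨p, hp.1.pos, h.powU hzU⟩
      have hufin : IsOfFinOrder u := isOfFinOrder_iff_pow_eq_one.2 ⟨p, hp.1.pos, h.powU hf.hu⟩
      obtain ⟨n, rfl⟩ := hzfin.mem_powers_iff_mem_zpowers.2 (hvu' (by
        obtain ⟨v', hv', hv''⟩ := hβU' u hf.hu
        rw [← hv'', autFun_inv_left β (h.leUX hv')]
        exact hv'))
      obtain ⟨i, hi⟩ := hufin.inv.mem_powers_iff_mem_zpowers.2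
        (show u ^ B ∈ Subgroup.zpowers u⁻¹ by
          rw [Subgroup.zpowers_inv]; exact Subgroup.pow_mem _ (Subgroup.mem_zpowers u) B)
      simp only at hi
      set m : ℤ := -(A : ℤ) - (n : ℤ) * i with hm
      set t := e ^ n * u ^ m * s ^ i with ht
      have htS : t ∈ S := S.mul_mem (S.mul_mem (S.pow_mem heS n) (S.zpow_mem huS m))
        (S.pow_mem hsS i)
      have hsu : Commute s u := (h.memC.1 hs).2 u hf.hu
      have htu : cj t u = z ^ n * u := by
        calc cj t u = e ^ n * (u ^ m * (s ^ i * u * (s ^ i)⁻¹) * (u ^ m)⁻¹) * (e ^ n)⁻¹ := by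
              rw [cj_apply, ht]; group
          _ = z ^ n * u := by
            rw [(hsu.pow_left i).eq, mul_inv_cancel_right,
              ((Commute.refl u).zpow_left m).eq, mul_inv_cancel_right, h.conj_e_u hf]
      have hse : ∀ i : ℕ, s ^ i * e * (s ^ i)⁻¹ = (u⁻¹) ^ i * e := by
        intro i
        have h1 : s * e * s⁻¹ = u⁻¹ * e := by
          rw [mul_inv_eq_iff_eq_mul, mul_assoc, eq_inv_mul_iff_mul_eq, ← mul_assoc, ← hes]
          group
        induction i with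
        | zero => simp
        | succ i ih =>
          calc s ^ (i + 1) * e * (s ^ (i + 1))⁻¹ = s * (s ^ i * e * (s ^ i)⁻¹) * s⁻¹ := by
                rw [pow_succ']; group
            _ = (s * (u⁻¹) ^ i * s⁻¹) * (s * e * s⁻¹) := by rw [ih]; group
            _ = (u⁻¹) ^ (i + 1) * e := by
              rw [(hsu.inv_right.pow_right i).eq, mul_inv_cancel_right, h1, ← mul_assoc, ← pow_succ]
      have hte : cj t e = z ^ A * u ^ B * e := by
        have hcu : Commute (u ^ m) ((u⁻¹) ^ i) :=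
          ((Commute.refl u).zpow_left m).inv_right.pow_right i
        calc cj t e = e ^ n * (u ^ m * (s ^ i * e * (s ^ i)⁻¹) * (u ^ m)⁻¹) * (e ^ n)⁻¹ := by
              rw [cj_apply, ht]; group
          _ = e ^ n * ((u⁻¹) ^ i * (u ^ m * e * (u ^ m)⁻¹)) * (e ^ n)⁻¹ := by
            rw [hse, show u ^ m * ((u⁻¹) ^ i * e) = (u⁻¹) ^ i * (u ^ m * e) by
              rw [← mul_assoc, hcu.eq, mul_assoc]]
            group
          _ = (e ^ n * u * (e ^ n)⁻¹)⁻¹ ^ i * (e ^ n * z ^ (-m) * (e ^ n)⁻¹) * e := by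
            rw [h.conj_u_e hf]
            have : (e ^ n * u * (e ^ n)⁻¹)⁻¹ ^ i = e ^ n * (u⁻¹) ^ i * (e ^ n)⁻¹ := by
              rw [← conj_pow]; group
            rw [this]; group
          _ = z ^ A * u ^ B * e := by
            rw [← (h.zC hf (S.pow_mem heS n) (-m)).eq, mul_inv_cancel_right, h.conj_e_u hf,
              show (z ^ n * u)⁻¹ ^ i = z ^ (-((n : ℤ) * i)) * (u⁻¹) ^ i by
                rw [mul_inv_rev, show u⁻¹ * (z ^ n)⁻¹ = z ^ (-(n : ℤ)) * u⁻¹ by
                  rw [(h.zC hf (S.inv_mem huS) (-(n : ℤ))).eq, zpow_neg, zpow_natCast],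
                  (h.zC hf (S.inv_mem huS) (-(n : ℤ))).mul_pow, ← zpow_natCast (z ^ _) i, ← zpow_mul,
                  neg_mul],
              hi, mul_assoc (z ^ _), ← (h.zC hf (S.pow_mem huS B) (-m)).eq, ← mul_assoc (z ^ _),
              ← zpow_add, show -((n : ℤ) * i) + -m = A by rw [hm]; ring, zpow_natCast]
      refine ⟨t, htS, ?_⟩
      let φ₁ : X →* Ω := MonoidHom.mk' (fun y => autFun β (cj g (autFun β⁻¹ y))) fun a b => by
        have ha : autFun β⁻¹ (a : Ω) ∈ X := autFun_mem _ a.2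
        have hb : autFun β⁻¹ (b : Ω) ∈ X := autFun_mem _ b.2
        rw [Subgroup.coe_mul, autFun_map_mul _ a.2 b.2, cj_apply,
          show g * (autFun β⁻¹ (a : Ω) * autFun β⁻¹ b) * g⁻¹ =
            (g * autFun β⁻¹ (a : Ω) * g⁻¹) * (g * autFun β⁻¹ b * g⁻¹) by group,
          autFun_map_mul β (h.normX hg ha) (h.normX hg hb)]
        rfl
      let φ₂ : X →* Ω := MonoidHom.mk' (fun y => cj t y) fun a b => by
        simp only [cj_apply, Subgroup.coe_mul]; group
      have hall : ∀ y : X, φ₁ y = φ₂ y := by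
        intro y
        have hE : (⟨e, hf.he⟩ : X) ∈ φ₁.eqLocus φ₂ := hde.trans hte.symm
        have hU' : (⟨u, huX⟩ : X) ∈ φ₁.eqLocus φ₂ := hdu.trans htu.symm
        have hZ : (⟨z, hzX⟩ : X) ∈ φ₁.eqLocus φ₂ := by
          rw [show (⟨z, hzX⟩ : X) = ⟨e, hf.he⟩ * ⟨u, huX⟩ * (⟨e, hf.he⟩)⁻¹ * (⟨u, huX⟩)⁻¹ from
            Subtype.ext (h.z_eq hf).symm]
          exact mul_mem (mul_mem (mul_mem hE hU') (inv_mem hE)) (inv_mem hU')
        obtain ⟨i', a, b, hy⟩ := h.decX hf y.2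
        rw [show y = ⟨e, hf.he⟩ ^ i' * (⟨z, hzX⟩ ^ a * ⟨u, huX⟩ ^ b) from Subtype.ext hy]
        exact mul_mem (pow_mem hE i') (mul_mem (pow_mem hZ a) (pow_mem hU' b))
      intro x hx
      have := hall ⟨autFun β x, autFun_mem β hx⟩
      simpa [φ₁, φ₂, autFun_inv_left β hx] using this
    obtain ⟨g, hg, hge⟩ := (isReceptive_iff.1 hrec).2 X _ (isMor_autFun h.hXS hβ) (img_autFun _)
    obtain ⟨φ, hφ, hφe⟩ := exists_autGroup_self (hg.restrict hSN)
    exact ⟨φ, hφ, fun x hx => (hφe x (h.hXS hx)).trans (hge x hx)⟩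
  -- apply the arithmetic inside `S`
  refine weights_false h.hS (C := (centralizerIn S U).subgroupOf S) (U := U.subgroupOf S)
    (fun v hv => h.hUC hv) (fun c hc v hv => Subtype.ext ((h.memC.1 hc).2 v hv))
    (fun c hc hcp => h.omega c hc (by simpa using congrArg Subtype.val hcp))
    (fun v hv => Subtype.ext (by simpa using h.powU hv))
    (by rw [Nat.card_congr (Subgroup.subgroupOfEquivOfLe h.hUS).toEquiv, h.cardU])
    (e := ⟨e, heS⟩) (s := ⟨s, hsS⟩) (u := ⟨u, huS⟩) (z := ⟨z, h.hUS hzU⟩)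
    (Subtype.ext (by simpa using h.powX hf.he)) hs hf.hu (Subtype.ext hes) (Subtype.ext hf.hz)
    (fun h1 => hf.hz1 (congrArg Subtype.val h1)) hzU (fun g => Subtype.ext (h.zc hf g.2))
    φ (w := ⟨w, h.hUS hw⟩) hw ?_ (i₀ := i₀) ?_ ?_ hk hk2 hlk
  · refine Subtype.ext ?_
    rw [← autFun_coe φ, hφ e hf.he, hβe]
    simp
  · refine Subtype.ext ?_
    rw [← autFun_coe φ, hφ u huX, hβu]
    simp
  · intro c hc
    obtain ⟨hcS, hcv⟩ := h.memC.1 (Subgroup.mem_subgroupOf.1 hc)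
    rw [Subgroup.mem_subgroupOf]
    refine h.memC.2 ⟨(φ c).2, fun v hv => ?_⟩
    obtain ⟨v', hv', rfl⟩ := hβU' v hv
    rw [← hφ v' (h.leUX hv'), ← autFun_coe φ c, ← autFun_map_mul φ hcS (h.hUS hv'), hcv v' hv',
      autFun_map_mul φ (h.hUS hv') hcS]

/-- No automorphism of `X` moves the line `U / Z(X)`. -/
theorem moving_false (hp5 : 5 ≤ p) (hF : F.IsSaturated p) (hf : Frame X U e u z) {s : Ω}
    (hs : s ∈ centralizerIn S U) (hes : e * s * e⁻¹ = u * s) {α : MulAut X}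
    (hα : α ∈ F.autGroup X) (hαu : autFun α u ∉ U) : False := by
  classical
  have hsS := (h.memC.1 hs).1
  have hzX := h.leUX (h.zU hf)
  have huX := h.leUX hf.hu
  have : Finite X := finite_of_le h.hXS
  set Z := Subgroup.center X with hZ
  have hmemZ : ∀ x : X, x ∈ Z ↔ (x : Ω) ∈ Subgroup.zpowers z := by
    intro x
    rw [hZ, Subgroup.mem_center_iff]
    refine ⟨fun hx => h.center_X hf x.2 fun y hy =>
      (congrArg Subtype.val (hx ⟨y, hy⟩)).symm, fun hx y => ?_⟩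
    obtain ⟨i, hi⟩ := Subgroup.mem_zpowers_iff.1 hx
    exact Subtype.ext (by simp only [Subgroup.coe_mul, ← hi]; exact (h.zC hf (h.hXS y.2) i).eq.symm)
  have hmk : ∀ x : X, (QuotientGroup.mk x : X ⧸ Z) = 1 ↔ (x : Ω) ∈ Subgroup.zpowers z :=
    fun x => (QuotientGroup.eq_one_iff x).trans (hmemZ x)
  set ū : X ⧸ Z := QuotientGroup.mk ⟨u, huX⟩ with hū
  set ē : X ⧸ Z := QuotientGroup.mk ⟨e, hf.he⟩ with hē
  have hline : ∀ x : X, (QuotientGroup.mk x : X ⧸ Z) ∈ Subgroup.zpowers ū ↔ (x : Ω) ∈ U := by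
    intro x
    constructor
    · intro hx
      obtain ⟨i, hi⟩ := Subgroup.mem_zpowers_iff.1 hx
      rw [hū, ← QuotientGroup.mk_zpow, QuotientGroup.eq, hmemZ] at hi
      have h1 : ((⟨u, huX⟩ : X) ^ i : Ω) ∈ U := by simpa using U.zpow_mem hf.hu i
      simpa using U.mul_mem h1 ((Subgroup.zpowers_le.2 (h.zU hf)) hi)
    · intro hx
      obtain ⟨a, b, hab⟩ := h.dec hf hx
      rw [show x = ⟨z, hzX⟩ ^ a * (⟨u, huX⟩ : X) ^ b from Subtype.ext (by simpa using hab),
        QuotientGroup.mk_mul, QuotientGroup.mk_pow, (hmk ⟨z, hzX⟩).2 (Subgroup.mem_zpowers z),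
        one_pow, one_mul, QuotientGroup.mk_pow]
      exact Subgroup.pow_mem _ (Subgroup.mem_zpowers _) b
  have hcomm : ∀ a b : X ⧸ Z, a * b = b * a := by
    intro a b
    obtain ⟨x, rfl⟩ := QuotientGroup.mk_surjective a
    obtain ⟨y, rfl⟩ := QuotientGroup.mk_surjective b
    -- the commutator of two elements of `X` is central
    rw [← mul_inv_eq_iff_eq_mul.trans eq_comm |>.trans eq_comm, mul_inv_eq_iff_eq_mul]
    rw [← QuotientGroup.mk_mul, ← QuotientGroup.mk_mul, QuotientGroup.eq, hmemZ]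
    obtain ⟨i, a, b, hx⟩ := h.decX hf x.2
    obtain ⟨j, c, d, hy⟩ := h.decX hf y.2
    have key : ∀ (i : ℕ) (v : Ω), v ∈ U → ∃ m : ℤ, v * e ^ i = z ^ m * (e ^ i * v) := by
      intro i v hv
      obtain ⟨a, b, rfl⟩ := h.dec hf hv
      refine ⟨-((i * b : ℕ) : ℤ), ?_⟩
      have h1 := h.conj_e_upow hf i b
      have h2 : e ^ i * u ^ b = z ^ (i * b) * u ^ b * e ^ i := by rw [← h1]; group
      calc z ^ a * u ^ b * e ^ i = z ^ a * (z ^ (-((i * b : ℕ) : ℤ)) * (e ^ i * u ^ b)) := by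
            rw [h2, zpow_neg, zpow_natCast]; group
        _ = z ^ (-((i * b : ℕ) : ℤ)) * (z ^ a * e ^ i * u ^ b) := by
            rw [← mul_assoc, ← zpow_natCast z a, ((Commute.refl z).zpow_zpow _ _).eq]; group
        _ = _ := by
            rw [← zpow_natCast z a, (h.zC hf (S.pow_mem (h.hXS hf.he) i) a).eq]; group
    have hv : z ^ a * u ^ b ∈ U := U.mul_mem (U.pow_mem (h.zU hf) a) (U.pow_mem hf.hu b)
    have hv' : z ^ c * u ^ d ∈ U := U.mul_mem (U.pow_mem (h.zU hf) c) (U.pow_mem hf.hu d)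
    obtain ⟨m₁, hm₁⟩ := key j _ hv
    obtain ⟨m₂, hm₂⟩ := key i _ hv'
    refine Subgroup.mem_zpowers_iff.2 ⟨m₂ - m₁, ?_⟩
    simp only [Subgroup.coe_mul, Subgroup.coe_inv]
    have e1 : (x : Ω) * y = z ^ m₁ * (e ^ (i + j) * (z ^ a * u ^ b * (z ^ c * u ^ d))) := by
      rw [hx, hy, mul_assoc (e ^ i), ← mul_assoc (z ^ a * u ^ b), hm₁,
        show e ^ i * (z ^ m₁ * (e ^ j * (z ^ a * u ^ b)) * (z ^ c * u ^ d)) =
          (e ^ i * z ^ m₁) * (e ^ j * (z ^ a * u ^ b)) * (z ^ c * u ^ d) by group,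
        ← (h.zC hf (S.pow_mem (h.hXS hf.he) i) m₁).eq, pow_add]
      group
    have e2 : (y : Ω) * x = z ^ m₂ * (e ^ (i + j) * (z ^ a * u ^ b * (z ^ c * u ^ d))) := by
      rw [hx, hy, mul_assoc (e ^ j), ← mul_assoc (z ^ c * u ^ d), hm₂,
        show e ^ j * (z ^ m₂ * (e ^ i * (z ^ c * u ^ d)) * (z ^ a * u ^ b)) =
          (e ^ j * z ^ m₂) * (e ^ i * ((z ^ c * u ^ d) * (z ^ a * u ^ b))) by group,
        ← (h.zC hf (S.pow_mem (h.hXS hf.he) j) m₂).eq, h.commU _ hv' _ hv, Nat.add_comm i,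
        pow_add]
      group
    rw [e1, e2, mul_inv_rev, mul_assoc, ← mul_assoc ((z ^ m₁)⁻¹), ← zpow_neg, ← zpow_add,
      (h.zC hf (S.mul_mem (S.pow_mem (h.hXS hf.he) _)
        (h.hUS (U.mul_mem hv hv'))) _).eq, inv_mul_cancel_left]
    congr 1
    ring
  letI : CommGroup (X ⧸ Z) := { (inferInstance : Group (X ⧸ Z)) with mul_comm := hcomm }
  have hexp : ∀ q : X ⧸ Z, q ^ p = 1 := fun q => by
    obtain ⟨x, rfl⟩ := QuotientGroup.mk_surjective q
    rw [← QuotientGroup.mk_pow, show x ^ p = 1 from Subtype.ext (by simpa using h.powX x.2)]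
    rfl
  have hcard : Nat.card (X ⧸ Z) = p ^ 2 := by
    have hz : Nat.card Z = p := by
      rw [Nat.card_congr (Equiv.subtypeEquiv (Equiv.refl X) (q := fun x : X =>
        x ∈ (Subgroup.zpowers z).subgroupOf X) hmemZ),
        Nat.card_congr (Subgroup.subgroupOfEquivOfLe (Subgroup.zpowers_le.2 hzX)).toEquiv,
        Nat.card_zpowers, orderOf_eq_prime (h.powU (h.zU hf)) hf.hz1]
    have h1 := Subgroup.card_eq_card_quotient_mul_card_subgroup Z
    rw [h.cardX, hz, pow_succ] at h1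
    exact (Nat.eq_of_mul_eq_mul_right hp.1.pos h1).symm
  have hu1 : ū ≠ 1 := fun h1 => h.u_out hf ((hmk _).1 h1)
  have heu : ē ∉ Subgroup.zpowers ū := fun h1 =>
    h.e_out hf (h.hUC ((hline _).1 h1))
  -- the transvection induced by `s`
  have hsn : s ∈ Subgroup.normalizer (X : Set Ω) := by
    rw [Subgroup.mem_normalizer_iff]
    refine fun x => ⟨fun hx => h.normX hsS hx, fun hx => ?_⟩
    have := h.normX (S.inv_mem hsS) hx
    simpa [mul_assoc] using this
  obtain ⟨τ, hτ, hτe⟩ := exists_autInducedBy (P := X) hsS hsn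
  have hτv : ∀ x : X, (τ x : Ω) = s * x * s⁻¹ := fun x => by
    rw [← autFun_coe τ x, hτe x x.2, cj_apply]
  set H := (F.autGroup X).map qAut with hH
  have hfix : qAut τ ū = ū := by
    rw [hū, qAut_mk, show τ ⟨u, huX⟩ = ⟨u, huX⟩ from Subtype.ext (by
      rw [hτv]; exact mul_inv_eq_iff_eq_mul.2 ((h.memC.1 hs).2 u hf.hu))]
  have hmov : ∀ q : X ⧸ Z, q⁻¹ * qAut τ q ∈ Subgroup.zpowers ū := by
    intro q
    obtain ⟨x, rfl⟩ := QuotientGroup.mk_surjective q
    rw [qAut_mk, ← QuotientGroup.mk_inv, ← QuotientGroup.mk_mul, hline, Subgroup.coe_mul, hτv]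
    have h1 := h.normU (S.inv_mem (h.hXS x.2)) (h.comm_mem hf hsS x.2)
    simpa [mul_assoc] using h1
  have hne : qAut τ ≠ 1 := by
    intro h1
    have h2 : qAut τ ē = ē := by rw [h1]; rfl
    rw [hē, qAut_mk, QuotientGroup.eq, hmemZ] at h2
    simp only [Subgroup.coe_mul, Subgroup.coe_inv, hτv] at h2
    rw [show (s * e * s⁻¹)⁻¹ * e = s * e⁻¹ * s⁻¹ * e by group,
      show s * e⁻¹ * s⁻¹ * e = e⁻¹ * (e * s * e⁻¹ * s⁻¹) * e by group, hes,
      mul_inv_cancel_right] at h2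
    obtain ⟨i, hi⟩ := Subgroup.mem_zpowers_iff.1 h2
    refine h.u_out hf (Subgroup.mem_zpowers_iff.2 ⟨i, ?_⟩)
    calc z ^ i = e * z ^ i * e⁻¹ := by rw [← (h.zC hf (h.hXS hf.he) i).eq, mul_inv_cancel_right]
      _ = u := by rw [hi]; group
  have hnot : qAut α ū ∉ Subgroup.zpowers ū := by
    rw [hū, qAut_mk, hline, ← autFun_coe]
    exact hαu
  -- choose the weights
  set k := ((-2 : ZMod p)).val with hk
  set l := (((-2 : ZMod p))⁻¹).val with hl
  have hkc : (k : ZMod p) = -2 := ZMod.natCast_zmod_val _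
  have hlc : (l : ZMod p) = (-2)⁻¹ := ZMod.natCast_zmod_val _
  have hsmall : ∀ n : ℕ, 0 < n → n < 5 → (n : ZMod p) ≠ 0 := fun n hn hn5 h0 => by
    have := Nat.le_of_dvd hn ((ZMod.natCast_eq_zero_iff n p).1 h0)
    omega
  have h2 : (-2 : ZMod p) ≠ 0 := neg_ne_zero.2 (by exact_mod_cast hsmall 2 two_pos (by norm_num))
  have h3 : (3 : ZMod p) ≠ 0 := by exact_mod_cast hsmall 3 (by norm_num) (by norm_num)
  have hk2 : (k : ZMod p) ^ 2 ≠ 1 := fun h1 => h3 (by
    rw [hkc] at h1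
    linear_combination h1)
  obtain ⟨θ', ⟨θ, hθ, rfl⟩, hθu, hθe⟩ := CfsgLib.PGroups.PlaneTorus.exists_torus hexp hcard H
    (Subgroup.mem_map_of_mem _ (autInducedBy_le F h.hXS hτ)) (Subgroup.mem_map_of_mem _ hα) hu1
    hfix hmov hne hnot heu (k := l) (l := k) (by
      rw [Nat.cast_mul, hkc, hlc, inv_mul_cancel₀ h2])
  rw [hū, qAut_mk, ← QuotientGroup.mk_pow, QuotientGroup.eq, hmemZ] at hθu
  rw [hē, qAut_mk, ← QuotientGroup.mk_pow, QuotientGroup.eq, hmemZ] at hθe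
  simp only [Subgroup.coe_mul, Subgroup.coe_inv, Subgroup.coe_pow, ← autFun_coe] at hθu hθe
  obtain ⟨i, hi⟩ := Subgroup.mem_zpowers_iff.1 hθu
  obtain ⟨j, hj⟩ := Subgroup.mem_zpowers_iff.1 hθe
  refine h.torus_false hF hf hs hes hθ (k := k) (l := l) (w := z ^ (-j))
    (U.zpow_mem (h.zU hf) _) ?_ (i₀ := -i) ?_ ?_ hk2 ?_
  · rw [zpow_neg, hj]; group
  · rw [(h.zC hf (S.pow_mem (h.hUS hf.hu) l) (-i)).eq, zpow_neg, hi]; group
  · rw [← ZMod.natCast_eq_zero_iff, hkc]
    exact h2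
  · rw [hkc, hlc]
    intro h1
    apply hk2
    rw [hkc, sq]
    nth_rw 1 [← h1]
    exact inv_mul_cancel₀ h2

end Setup

end CfsgLib.Fusion.RankTwo
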