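import Mathlib
import Cfsg.Agent.Lib.Fusion.RankTwoTorus
import Cfsg.Agent.Lib.Fusion.RankTwoAux
import Cfsg.Agent.Lib.PLocal.RegularMetacyclic

/-!
# A non-metacyclic group of rank two has no essential subgroups, `p ≥ 5`
-/

set_option autoImplicit false
set_option linter.unusedSectionVars false

namespace CfsgLib.Fusion.RankTwo

open Cfsg Cfsg.FusionSystem CfsgLib.Fusion CfsgLib.PGroups.RankTwoWeights
open CfsgLib.Fusion.SmallEss (false_of_series)
open scoped commutatorElement

universe u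

variable {p : ℕ} [hp : Fact p.Prime] {Ω : Type u} [Group Ω] {S X U : Subgroup Ω} [Finite S]
  {F : FusionSystem S}

namespace Setup

variable (h : Setup p S X U) {e u z : Ω}
include h

/-- An automorphism of `X` with weight `k` on `e` and `l` on the centre, `k * l = 1`, is absent. -/
theorem stable_false (hp5 : 5 ≤ p) (hF : F.IsSaturated p) (hf : Frame X U e u z) {s : Ω}
    (hs : s ∈ centralizerIn S U) (hes : e * s * e⁻¹ = u * s) {β : MulAut X}
    (hβ : β ∈ F.autGroup X) {k l : ℕ} (hβe : autFun β e = e ^ k) (hβz : autFun β z = z ^ l)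
    (hkl : ((k * l : ℕ) : ZMod p) = 1) (hk2 : (k : ZMod p) ^ 2 ≠ 1)
    (hk3 : (k : ZMod p) ^ 3 ≠ 1) : False := by
  by_cases hu : autFun β u ∈ U
  · obtain ⟨a, b, hab⟩ := h.dec hf hu
    have hk0 : (k : ZMod p) ≠ 0 := fun h0 => by
      rw [Nat.cast_mul, h0, zero_mul] at hkl
      exact zero_ne_one hkl
    have hm := isMor_autFun h.hXS hβ
    have h1 := congrArg (autFun β) hf.hz
    rw [hm.map_conj hf.he (h.leUX hf.hu), hm.map_mul (h.leUX (h.zU hf)) (h.leUX hf.hu), hβe, hβz,
      hab, show e ^ k * (z ^ a * u ^ b) * (e ^ k)⁻¹ =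
        (e ^ k * z ^ a * (e ^ k)⁻¹) * (e ^ k * u ^ b * (e ^ k)⁻¹) by group,
      h.conj_e_upow hf, ← zpow_natCast z a, ← (h.zC hf (S.pow_mem (h.hXS hf.he) k) a).eq,
      mul_inv_cancel_right, zpow_natCast, ← mul_assoc, ← mul_assoc, mul_left_inj, ← pow_add,
      ← pow_add] at h1
    have h2 := cast_eq_of_pow_eq (h.powU (h.zU hf)) hf.hz1 h1
    rw [Nat.cast_add, Nat.cast_add, Nat.cast_mul, add_comm (l : ZMod p), add_right_inj] at h2
    refine h.torus_false hF hf hs hes hβ (k := k) (l := b) (w := 1) U.one_mem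
      (by rw [hβe, mul_one]) (i₀ := (a : ℤ)) (by rw [zpow_natCast, hab])
      (fun hd => hk0 ((ZMod.natCast_eq_zero_iff k p).2 hd)) hk2 fun hbk => hk3 ?_
    rw [← hkl, Nat.cast_mul, ← h2, hbk]
    ring
  · exact h.moving_false hp5 hF hf hs hes hβ hu

/-- A normalising element fixing a faithful invariant subgroup pointwise lies in the essential
subgroup. -/
theorem stab_mem {E D : Subgroup Ω} (hE : F.IsEssential p E) (hD : D ≤ E)
    (hDinv : ∀ α ∈ F.autGroup E, ∀ x ∈ D, autFun α x ∈ D)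
    (hfaith : ∀ α ∈ F.autGroup E, (orderOf α).Coprime p → (∀ x ∈ D, autFun α x = x) → α = 1)
    {g : Ω} (hg : g ∈ normalizerIn S E) (hfix : ∀ x ∈ D, g * x * g⁻¹ = x) : g ∈ E := by
  refine mem_of_stabilizing_small h.hS hE.1 (essential_radical h.hS hE) hD hDinv hfaith 1
    (fun i => if i = 0 then ⊥ else D) (fun α hα i x hx hxW => ?_) (by simp) (by simp) hg
    fun i hi x hx _ => ?_
  · by_cases h0 : i = 0
    · simp only [h0, if_true, Subgroup.mem_bot] at hxW ⊢
      rw [hxW]
      exact (isMor_autFun hE.1.1 hα).map_one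
    · simp only [h0, if_false]
      exact hDinv α hα x hx
  · obtain rfl : i = 0 := by omega
    simp [cj_apply, hfix x hx]

theorem small_mem (hp2 : p ≠ 2) {x : Ω} (hx : x ∈ S) (hs : Small p x) : x ∈ X :=
  (h.memX x hx).2 (hs.resolve_right fun hh => hp2 hh.1)

theorem faith (hp2 : p ≠ 2) {E D : Subgroup Ω} (hES : E ≤ S)
    (hD : ∀ x ∈ E, x ∈ X → x ∈ D) :
    ∀ α ∈ F.autGroup E, (orderOf α).Coprime p → (∀ x ∈ D, autFun α x = x) → α = 1 := by
  intro α _ hcop hfix
  have : Finite E := finite_of_le hES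
  refine mulAut_eq_one_of_small (isPGroup_of_le hES h.hS) hcop fun x hx => Subtype.ext ?_
  rw [← autFun_coe α x]
  refine hfix x (hD x x.2 (h.small_mem hp2 (hES x.2) ?_))
  exact hx.imp (fun e1 => by simpa using congrArg Subtype.val e1)
    (fun ⟨e1, e2⟩ => ⟨e1, by simpa using congrArg Subtype.val e2⟩)

theorem invX {E : Subgroup Ω} (hES : E ≤ S) {α : MulAut E} {x : Ω} (hxE : x ∈ E)
    (hx : x ∈ X) : autFun α x ∈ X := by
  refine (h.memX _ (hES (autFun_mem α hxE))).2 ?_
  rw [autFun_of_mem α hxE, ← SubgroupClass.coe_pow, ← map_pow,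
    show (⟨x, hxE⟩ : E) ^ p = 1 from Subtype.ext (by simpa using h.powX hx), map_one]
  rfl

/-- Essential subgroups do not contain `X`. -/
theorem contains_false (hp5 : 5 ≤ p) (hF : F.IsSaturated p) {E : Subgroup Ω}
    (hE : F.IsEssential p E) (hXE : X ≤ E) : False := by
  classical
  have hp2 : p ≠ 2 := by omega
  have hES := hE.1.1
  obtain ⟨e, he, hec⟩ := h.exists_outside
  obtain ⟨u, z, hf⟩ := h.exists_frame he hec
  have hXinv : ∀ α ∈ F.autGroup E, ∀ x ∈ X, autFun α x ∈ X := fun α _ x hx =>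
    h.invX hES (hXE hx) hx
  have hfaith := h.faith (F := F) hp2 hES (D := X) fun x _ hx => hx
  -- some element of `C` moves `e` modulo the centre
  obtain ⟨c, hc, hne⟩ : ∃ c ∈ centralizerIn S U, e * c * e⁻¹ * c⁻¹ ∉ Subgroup.zpowers z := by
    by_contra hno
    push Not at hno
    obtain ⟨g, hg, hgE⟩ := SetLike.exists_of_lt (normalizerIn_gt h.hS (essential_lt h.hS hF hE))
    have hgS := (mem_normalizerIn.1 hg).1
    obtain ⟨i, hi⟩ := h.split (h.hXS he) hec hgS
    obtain ⟨a, ha⟩ := Subgroup.mem_zpowers_iff.1 (hno _ hi)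
    set c := (e ^ i)⁻¹ * g with hc
    have hcS := (h.memC.1 hi).1
    have huE : u ∈ E := hXE (h.leUX hf.hu)
    set d := c * u ^ (-a) with hd
    have hdS : d ∈ S := S.mul_mem hcS (S.zpow_mem (h.hUS hf.hu) _)
    have hdN : d ∈ normalizerIn S E := by
      refine mem_normalizerIn.2 ⟨hdS, ?_⟩
      refine Subgroup.mul_mem _ (Subgroup.mul_mem _ (Subgroup.inv_mem _ ?_)
        (mem_normalizerIn.1 hg).2) (Subgroup.le_normalizer (E.zpow_mem huE _))
      exact Subgroup.le_normalizer (E.pow_mem (hXE he) i)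
    have hdU : ∀ v ∈ U, Commute d v := fun v hv =>
      (show Commute c v from (h.memC.1 hi).2 v hv).mul_left
        ((show Commute u v from h.commU u hf.hu v hv).zpow_left _)
    have hde : e * d * e⁻¹ = d := by
      calc e * d * e⁻¹ = (e * c * e⁻¹ * c⁻¹) * c * (e * u * e⁻¹) ^ (-a) := by
            rw [hd, conj_zpow]; group
        _ = d := by
          rw [← ha, hf.hz, (show Commute z u from (h.zc hf (h.hUS hf.hu)).symm).mul_zpow,
            (h.zC hf hcS a).eq, mul_assoc, ← mul_assoc (z ^ a), ← zpow_add, add_neg_cancel,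
            zpow_zero, one_mul, hd]
    have hdX : ∀ x ∈ X, d * x * d⁻¹ = x := by
      intro x hx
      obtain ⟨j, a', b, rfl⟩ := h.decX hf hx
      have h1 : Commute d (e ^ j) := Commute.pow_right
        (show Commute d e from (mul_inv_eq_iff_eq_mul.1 hde).symm) j
      have h2 : Commute d (z ^ a' * u ^ b) :=
        hdU _ (U.mul_mem (U.pow_mem (h.zU hf) a') (U.pow_mem hf.hu b))
      rw [(h1.mul_right h2).eq, mul_inv_cancel_right]
    have hdE := h.stab_mem hE hXE hXinv hfaith hdN hdX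
    refine hgE ?_
    rw [show g = e ^ i * (d * u ^ a) by rw [hd, hc]; group]
    exact E.mul_mem (E.pow_mem (hXE he) i) (E.mul_mem hdE (E.zpow_mem huE a))
  obtain ⟨u', z', hf', hes⟩ := h.frame_of hf hc hne
  -- some automorphism moves `U`
  obtain ⟨α, hα, v, hv, hαv⟩ : ∃ α ∈ F.autGroup E, ∃ v ∈ U, autFun α v ∉ U := by
    by_contra hno
    push Not at hno
    have : Finite X := finite_of_le h.hXS
    have hzE := Subgroup.zpowers_le.2 (h.zU hf')
    refine false_of_series h.hS hF hE hXE hfaith (n := 3)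
      (fun i => if i = 0 then ⊥ else if i = 1 then Subgroup.zpowers z' else
        if i = 2 then U else X)
      (by simp) (by simp) (fun i hi => ?_) fun α hα i _ x hx => ?_
    · interval_cases i
      · simp [Nat.card_zpowers, orderOf_eq_prime (h.powU (h.zU hf')) hf'.hz1]
      · simp [h.zU hf', Nat.card_zpowers, orderOf_eq_prime (h.powU (h.zU hf')) hf'.hz1, h.cardU,
          sq]
      · simp [h.leUX, h.cardU, h.cardX, pow_succ, mul_comm, mul_left_comm]
    · by_cases h0 : i = 0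
      · simp only [h0, if_true, Subgroup.mem_bot] at hx ⊢
        rw [hx]
        exact (isMor_autFun hES hα).map_one
      by_cases h1 : i = 1
      · simp only [h1, one_ne_zero, if_false, if_true] at hx ⊢
        have hxX := h.leUX (hzE hx)
        have := h.autFun_line hf' (β := resHom hXE hXinv ⟨α, hα⟩) hx
        rwa [autFun_resHom hXE hXinv _ hxX] at this
      by_cases h2 : i = 2
      · simp only [h2, OfNat.ofNat_ne_zero, OfNat.ofNat_ne_one, if_false, if_true] at hx ⊢
        exact hno α hα x hx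
      · simp only [h0, h1, h2, if_false] at hx ⊢
        exact hXinv α hα x hx
  refine h.moving_false hp5 hF hf' hc hes
    (α := resHom hXE hXinv ⟨α, hα⟩) (resHom_mem hXE hXinv hES _) fun hu => hαv ?_
  obtain ⟨a, b, rfl⟩ := h.dec hf' hv
  have hzX' := h.leUX (h.zU hf')
  have huX' := h.leUX hf'.hu
  rw [← autFun_resHom hXE hXinv ⟨α, hα⟩ (X.mul_mem (X.pow_mem hzX' a) (X.pow_mem huX' b)),
    autFun_map_mul _ (X.pow_mem hzX' a) (X.pow_mem huX' b), h.map_pow_X huX' b]
  exact U.mul_mem ((Subgroup.zpowers_le.2 (h.zU hf')) (h.autFun_line hf'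
    (Subgroup.pow_mem _ (Subgroup.mem_zpowers z') a))) (U.pow_mem hu b)

/-- A homocyclic plane cannot carry a transvection lifting. -/
theorem lift_false (hp5 : 5 ≤ p) {E : Subgroup Ω} (hES : E ≤ S)
    (hab : ∀ a ∈ E, ∀ b ∈ E, a * b = b * a) (hVU : ∀ x ∈ E, x ^ p = 1 → x ∈ U)
    {z g x : Ω} (hzp : z ^ p = 1) (hgS : g ∈ S) (hgE : ∀ a ∈ E, g * a * g⁻¹ ∈ E)
    (hgp : g ^ p * x * (g ^ p)⁻¹ = x) (hx : x ∈ E) (hxp : x ^ p ∈ U)
    (hgz : g * z = z * g) (hline : ∀ v ∈ U, g * v * g⁻¹ * v⁻¹ ∈ Subgroup.zpowers z)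
    (hmoved : g * x ^ p * g⁻¹ * (x ^ p)⁻¹ ≠ 1) : False := by
  set y := g * x * g⁻¹ * x⁻¹ with hy
  have hyE : y ∈ E := E.mul_mem (hgE x hx) (E.inv_mem hx)
  have hyp : y ^ p = g * x ^ p * g⁻¹ * (x ^ p)⁻¹ := by
    rw [hy, (show Commute (g * x * g⁻¹) x⁻¹ from hab _ (hgE x hx) _ (E.inv_mem hx)).mul_pow,
      conj_pow, inv_pow]
  set w := g * y * g⁻¹ * y⁻¹ with hw
  have hwE : w ∈ E := E.mul_mem (hgE y hyE) (E.inv_mem hyE)
  have hgzpow : ∀ i : ℤ, g * z ^ i * g⁻¹ = z ^ i := fun i => by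
    rw [((show Commute g z from hgz).zpow_right i).eq, mul_inv_cancel_right]
  have hwp : w ^ p = 1 := by
    rw [hw, (show Commute (g * y * g⁻¹) y⁻¹ from hab _ (hgE y hyE) _ (E.inv_mem hyE)).mul_pow,
      conj_pow, inv_pow, hyp]
    obtain ⟨i, hi⟩ := Subgroup.mem_zpowers_iff.1 (hline _ hxp)
    rw [← hi, hgzpow, mul_inv_cancel]
  have hwU : w ∈ U := hVU w hwE hwp
  set v := g * w * g⁻¹ * w⁻¹ with hv
  have hvE : v ∈ E := E.mul_mem (hgE w hwE) (E.inv_mem hwE)
  obtain ⟨i₁, hi₁⟩ := Subgroup.mem_zpowers_iff.1 (hline w hwU)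
  have hvg : g * v * g⁻¹ = v := by rw [hv, ← hi₁, hgzpow]
  have hvp : v ^ p = 1 := by
    rw [hv, ← hi₁, ← zpow_natCast, ← zpow_mul, mul_comm, zpow_mul, zpow_natCast, hzp, one_zpow]
  have cxy : g * x * g⁻¹ = x * y := by
    rw [hy, hab _ hx _ (E.mul_mem (hgE x hx) (E.inv_mem hx)), inv_mul_cancel_right]
  have cyw : g * y * g⁻¹ = y * w := by rw [hw, hab _ hyE _ hwE, hw, inv_mul_cancel_right]
  have cwv : g * w * g⁻¹ = w * v := by rw [hv, hab _ hwE _ hvE, hv, inv_mul_cancel_right]
  have key : ∀ n : ℕ, g ^ n * x * (g ^ n)⁻¹ =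
      x * y ^ n * w ^ n.choose 2 * v ^ n.choose 3 := by
    intro n
    induction n with
    | zero => simp
    | succ n ih =>
      have hcy : Commute y w := hab y hyE w hwE
      have hcw : Commute w v := hab w hwE v hvE
      calc g ^ (n + 1) * x * (g ^ (n + 1))⁻¹ = g * (g ^ n * x * (g ^ n)⁻¹) * g⁻¹ := by
            rw [pow_succ']; group
        _ = (g * x * g⁻¹) * (g * y * g⁻¹) ^ n * (g * w * g⁻¹) ^ n.choose 2 *
              (g * v * g⁻¹) ^ n.choose 3 := by
            rw [ih, conj_pow, conj_pow, conj_pow]; group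
        _ = x * (y * y ^ n) * (w ^ n * w ^ n.choose 2) * (v ^ n.choose 2 * v ^ n.choose 3) := by
            rw [cxy, cyw, cwv, hvg, hcy.mul_pow, hcw.mul_pow]
            simp only [mul_assoc]
        _ = _ := by
            rw [← pow_succ', ← pow_add, ← pow_add, Nat.choose_succ_succ n 1, Nat.choose_one_right,
              Nat.choose_succ_succ n 2]
  obtain ⟨a, ha⟩ := hp.1.dvd_choose_self (k := 2) (by norm_num) (by omega)
  obtain ⟨b, hb⟩ := hp.1.dvd_choose_self (k := 3) (by norm_num) (by omega)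
  have h1 := key p
  rw [hgp, ha, hb, pow_mul, pow_mul, hwp, hvp, one_pow, one_pow, mul_one, mul_one, hyp] at h1
  exact hmoved (by simpa using h1.symm)

/-- `S` has no essential subgroups. -/
theorem no_essential (hp5 : 5 ≤ p) (hF : F.IsSaturated p) (hbig : p ^ 3 < Nat.card S)
    {E : Subgroup Ω} (hE : F.IsEssential p E) : False := by
  classical
  by_cases hXE : X ≤ E
  · exact h.contains_false hp5 hF hE hXE
  have hp2 : p ≠ 2 := by omega
  have hES := hE.1.1
  have : Finite E := finite_of_le hES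
  have : Finite X := finite_of_le h.hXS
  set V := E ⊓ X with hV
  have hVE : V ≤ E := inf_le_left
  have hVinv : ∀ α ∈ F.autGroup E, ∀ x ∈ V, autFun α x ∈ V := fun α _ x hx =>
    ⟨autFun_mem α hx.1, h.invX hES hx.1 hx.2⟩
  have hfaith := h.faith (F := F) hp2 hES (D := V) fun x hxE hxX => ⟨hxE, hxX⟩
  have : Finite V := finite_of_le (hVE.trans hES)
  obtain ⟨n, hn, hVc⟩ := (Nat.dvd_prime_pow hp.1).1
    (h.cardX ▸ Subgroup.card_dvd_of_le (inf_le_right : V ≤ X))
  have hn2 : n = 2 := by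
    have h3 : n ≠ 3 := fun h' => hXE ((Subgroup.eq_of_le_of_card_ge (inf_le_right : V ≤ X)
      (by rw [hVc, h', h.cardX])).ge.trans hVE)
    by_contra hne
    refine false_of_series h.hS hF hE hVE hfaith (n := 1) (fun i => if i = 0 then ⊥ else V)
      (by simp) (by simp) (fun i hi => ?_) fun α hα i _ x hx => ?_
    · interval_cases i
      simp only [if_true, one_ne_zero, if_false, zero_add, Subgroup.card_bot, mul_one, bot_le,
        true_and]
      rw [hVc]
      exact (Nat.pow_le_pow_right hp.1.pos (by omega : n ≤ 1)).trans (pow_one p).le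
    · by_cases h0 : i = 0
      · simp only [h0, if_true, Subgroup.mem_bot] at hx ⊢
        rw [hx]
        exact (isMor_autFun hES hα).map_one
      · simp only [h0, if_false] at hx ⊢
        exact hVinv α hα x hx
  subst hn2
  letI : CommGroup V := { (inferInstance : Group V) with
    mul_comm := IsPGroup.commutative_of_card_eq_prime_sq hVc }
  have hexpV : ∀ x : V, x ^ p = 1 := fun x => Subtype.ext (by simpa using h.powX x.2.2)
  set H := (resHom (F := F) hVE hVinv).range with hH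
  obtain ⟨g, hg, hgE⟩ := SetLike.exists_of_lt (normalizerIn_gt h.hS (essential_lt h.hS hF hE))
  obtain ⟨hgS, hgn⟩ := mem_normalizerIn.1 hg
  have hgnE : ∀ a ∈ E, g * a * g⁻¹ ∈ E := fun a ha => (Subgroup.mem_normalizer_iff.1 hgn a).1 ha
  obtain ⟨τ₀, hτ₀, hτ₀e⟩ := exists_autInducedBy (P := E) hgS hgn
  set τ := resHom (F := F) hVE hVinv ⟨τ₀, autInducedBy_le F hES hτ₀⟩ with hτ
  have hτv : ∀ x : V, (τ x : Ω) = g * x * g⁻¹ := fun x => by
    rw [hτ, resHom_coe, hτ₀e x x.2.1, cj_apply]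
  have hne : τ ≠ 1 := fun h1 => hgE (h.stab_mem hE hVE hVinv hfaith hg fun x hx => by
    have := hτv ⟨x, hx⟩
    rw [h1] at this
    exact this.symm)
  -- the central element of any frame
  have key : ∀ {e u z : Ω}, Frame X U e u z → ∃ (hzV : z ∈ V) (_ : (⟨z, hzV⟩ : V) ≠ 1),
      τ ⟨z, hzV⟩ = ⟨z, hzV⟩ ∧ (∀ x, x⁻¹ * τ x ∈ Subgroup.zpowers (⟨z, hzV⟩ : V)) ∧
      ∃ α : F.autGroup E, resHom hVE hVinv α ⟨z, hzV⟩ ∉ Subgroup.zpowers (⟨z, hzV⟩ : V) := by
    intro e u z hf
    have hzS := h.hUS (h.zU hf)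
    have hzV : z ∈ V := ⟨centric_centralizer_le hE.1 (mem_centralizerIn.2 ⟨hzS, fun q hq => by
      rw [cj_apply, ← h.zc hf (hES hq), mul_inv_cancel_right]⟩), h.leUX (h.zU hf)⟩
    have hz1 : (⟨z, hzV⟩ : V) ≠ 1 := fun h1 => hf.hz1 (congrArg Subtype.val h1)
    have hcard : Nat.card (Subgroup.zpowers z) = p := by
      rw [Nat.card_zpowers, orderOf_eq_prime (h.powU (h.zU hf)) hf.hz1]
    have hfixz : ∀ a ∈ Subgroup.zpowers z, cj g a = a := fun a ha => by
      obtain ⟨i, rfl⟩ := Subgroup.mem_zpowers_iff.1 ha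
      rw [cj_apply, ← (h.zC hf hgS i).eq, mul_inv_cancel_right]
    have hzle : Subgroup.zpowers z ≤ V := Subgroup.zpowers_le.2 hzV
    refine ⟨hzV, hz1, Subtype.ext ?_, fun x => ?_, ?_⟩
    · rw [hτv]
      exact hfixz z (Subgroup.mem_zpowers z)
    · obtain ⟨i, hi⟩ := Subgroup.mem_zpowers_iff.1 (CfsgLib.Fusion.SmallEss.step_triv h.hS
        (hVE.trans hES) hzle (by rw [hcard, hVc, sq]) hgS (fun a ha => (hfixz a ha).symm ▸ ha)
        (fun b hb => ⟨hgnE b hb.1, h.normX hgS hb.2⟩) x x.2)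
      refine Subgroup.mem_zpowers_iff.2 ⟨i, Subtype.ext ?_⟩
      simpa [hτv, cj_apply] using hi
    · by_contra hno
      push Not at hno
      refine false_of_series h.hS hF hE hVE hfaith (n := 2)
        (fun i => if i = 0 then ⊥ else if i = 1 then Subgroup.zpowers z else V)
        (by simp) (by simp) (fun i hi => ?_) fun α hα i _ x hx => ?_
      · interval_cases i
        · simp [hcard]
        · simp [hzV, hcard]
          rw [hVc, sq]
      · by_cases h0 : i = 0
        · simp only [h0, if_true, Subgroup.mem_bot] at hx ⊢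
          rw [hx]
          exact (isMor_autFun hES hα).map_one
        by_cases h1 : i = 1
        · simp only [h1, one_ne_zero, if_false, if_true] at hx ⊢
          obtain ⟨j, rfl⟩ := Subgroup.mem_zpowers_iff.1 hx
          obtain ⟨i', hi'⟩ := Subgroup.mem_zpowers_iff.1 (hno ⟨α, hα⟩)
          have h2 : resHom hVE hVinv ⟨α, hα⟩ (⟨z, hzV⟩ ^ j) = (⟨z, hzV⟩ : V) ^ (i' * j) := by
            rw [map_zpow, zpow_mul, hi']
          have h3 := congrArg Subtype.val h2
          rw [resHom_coe] at h3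
          simp only [SubgroupClass.coe_zpow] at h3
          rw [h3]
          exact Subgroup.zpow_mem _ (Subgroup.mem_zpowers z) _
        · simp only [h0, h1, if_false] at hx ⊢
          exact hVinv α hα x hx
  obtain ⟨e₀, he₀, he₀c⟩ := h.exists_outside
  obtain ⟨u₀, z₀, hf₀⟩ := h.exists_frame he₀ he₀c
  obtain ⟨hzV, hz1, hfix, hmov, α₀, hnot⟩ := key hf₀
  set α := resHom hVE hVinv α₀ with hαdef
  have hinvar : ∀ L : Subgroup V, (∀ β : F.autGroup E, ∀ x ∈ L, resHom hVE hVinv β x ∈ L) →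
      L ≠ ⊥ → L = ⊤ := fun L hL hne' =>
    eq_top_of_invariant hexpV hVc hz1 hfix hmov hne hnot (fun x => hL _ x) (fun x => hL _ x) hne'
  -- `V` is central in `E`
  have hcent : ∀ y ∈ E, ∀ v ∈ V, y * v = v * y := by
    intro y hy v hv
    let T : Subgroup V :=
      (Subgroup.centralizer ({y} : Set Ω)).subgroupOf V
    have hz' : (⟨z₀, hzV⟩ : V) ∈ T :=
      Subgroup.mem_centralizer_singleton_iff.2 (h.zc hf₀ (hES hy)).symm
    have hαz : α ⟨z₀, hzV⟩ ∈ T := by
      refine Subgroup.mem_centralizer_singleton_iff.2 ?_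
      show (α ⟨z₀, hzV⟩ : Ω) * y = y * (α ⟨z₀, hzV⟩ : Ω)
      rw [hαdef, resHom_coe]
      obtain ⟨w, hw, rfl⟩ : ∃ w ∈ E, autFun (α₀ : MulAut E) w = y :=
        ⟨_, autFun_mem _ hy, autFun_inv_right (α₀ : MulAut E) hy⟩
      rw [← autFun_map_mul _ hzV.1 hw, ← autFun_map_mul _ hw hzV.1, h.zc hf₀ (hES hw)]
    have htop : (⊤ : Subgroup V) ≤ T := by
      rw [← CfsgLib.Fusion.Metacyclic.sup_zpowers_eq_top hexpV hVc hz1 hnot]
      exact sup_le (Subgroup.zpowers_le.2 hz') (Subgroup.zpowers_le.2 hαz)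
    exact (Subgroup.mem_centralizer_singleton_iff.1 (htop (Subgroup.mem_top ⟨v, hv⟩))).symm
  by_cases hVU : V ≤ U
  · -- `V = U`
    have hVUe : V = U := by
      have : Finite U := finite_of_le h.hUS
      exact Subgroup.eq_of_le_of_card_ge hVU (by rw [hVc, h.cardU])
    have hEC : ∀ y ∈ E, y ∈ centralizerIn S U := fun y hy =>
      h.memC.2 ⟨hES hy, fun v hv => hcent y hy v (hVUe.symm ▸ hv)⟩
    have hEU : ∀ x ∈ E, x ^ p = 1 → x ∈ U := fun x hx hxp => h.omega x (hEC x hx) hxp
    -- `E` is abelian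
    have hEm : IsMetacyclic E := by
      refine CfsgLib.PLocal.isMetacyclic_of_card_omegaOne_le (by omega)
        (isPGroup_of_le hES h.hS) ?_
      rw [← Subgroup.card_map_of_injective E.subtype_injective, ← hVc]
      refine Subgroup.card_le_of_le ?_
      rw [omegaOne, MonoidHom.map_closure, Subgroup.closure_le]
      rintro _ ⟨x, ⟨-, hx⟩, rfl⟩
      exact ⟨x.2, (h.memX _ (hES x.2)).2 (by simpa using congrArg Subtype.val hx)⟩
    have hab : ∀ a ∈ E, ∀ b ∈ E, a * b = b * a := by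
      obtain ⟨N, hN, hNc, hQc⟩ := hEm
      haveI := hN
      have hle : commutator E ≤ N := by
        rw [commutator_def, Subgroup.commutator_le]
        intro a _ b _
        rw [← QuotientGroup.eq_one_iff]
        show QuotientGroup.mk' N ⁅a, b⁆ = 1
        rw [map_commutatorElement, commutatorElement_eq_one_iff_mul_comm]
        haveI := hQc
        exact (IsCyclic.isMulCommutative (α := E ⧸ N)).is_comm.comm _ _
      suffices hb : commutator E = ⊥ by
        intro a ha b hb'
        have h1 : ⁅(⟨a, ha⟩ : E), (⟨b, hb'⟩ : E)⁆ ∈ commutator E :=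
          Subgroup.commutator_mem_commutator (Subgroup.mem_top _) (Subgroup.mem_top _)
        rw [hb, Subgroup.mem_bot, commutatorElement_eq_one_iff_mul_comm] at h1
        exact congrArg Subtype.val h1
      by_contra hbot
      set L := ((commutator E).map E.subtype).subgroupOf V with hL
      have hLtop : L = ⊤ := by
        refine hinvar L (fun β x hx => ?_) fun hL0 => ?_
        · obtain ⟨w, hw, hwx⟩ := hx
          refine ⟨(β : MulAut E) w, (Subgroup.characteristic_iff_map_eq.mp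
            (inferInstance : (commutator E).Characteristic) (β : MulAut E)).le ⟨w, hw, rfl⟩, ?_⟩
          show _ = ((resHom hVE hVinv β x : V) : Ω)
          rw [resHom_coe, ← show (w : Ω) = x from hwx, autFun_coe]
          rfl
        · obtain ⟨i, hi⟩ := IsPGroup.iff_card.1
            ((isPGroup_of_le hES h.hS).to_subgroup (commutator E))
          have hi0 : i ≠ 0 := fun h' => hbot (by rwa [h', pow_zero, Subgroup.card_eq_one] at hi)
          obtain ⟨w, hw⟩ := exists_prime_orderOf_dvd_card' (G := commutator E) p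
            (hi ▸ dvd_pow_self p hi0)
          have hwp : ((w : E) : Ω) ^ p = 1 := by
            have := pow_orderOf_eq_one w
            rw [hw] at this
            simpa using congrArg (fun t : commutator E => ((t : E) : Ω)) this
          have hwV : ((w : E) : Ω) ∈ V :=
            ⟨(w : E).2, h.leUX (hEU _ (w : E).2 hwp)⟩
          have h1 : (⟨_, hwV⟩ : V) ∈ L := ⟨(w : E), w.2, rfl⟩
          rw [hL0, Subgroup.mem_bot] at h1
          have h2 : w = 1 := Subtype.ext (Subtype.ext (congrArg Subtype.val h1 :))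
          rw [h2, orderOf_one] at hw
          exact hp.1.ne_one hw.symm
      -- but `V` is not cyclic
      have hle' : V ≤ N.map E.subtype := fun v hv =>
        Subgroup.map_mono hle (hLtop.ge (Subgroup.mem_top (⟨v, hv⟩ : V)))
      haveI : IsCyclic (N.map E.subtype) :=
        isCyclic_of_surjective (N.equivMapOfInjective _ E.subtype_injective).toMonoidHom
          (MulEquiv.surjective _)
      haveI : IsCyclic V := isCyclic_of_injective (Subgroup.inclusion hle')
        (Subgroup.inclusion_injective hle')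
      obtain ⟨w, hw⟩ := IsCyclic.exists_generator (α := V)
      have h1 := orderOf_eq_card_of_forall_mem_zpowers hw
      have h2 := orderOf_dvd_of_pow_eq_one (hexpV w)
      rw [h1, hVc] at h2
      have h3 := Nat.le_of_dvd hp.1.pos h2
      have h4 : p * 2 ≤ p * p := Nat.mul_le_mul_left p hp.1.two_le
      rw [sq] at h3
      omega
    -- all of `V` consists of `p`-th powers
    let R : Subgroup V :=
    { carrier := {v | ∃ y ∈ E, y ^ p = (v : Ω)}
      one_mem' := ⟨1, E.one_mem, by simp⟩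
      mul_mem' := by
        rintro a b ⟨y, hy, hya⟩ ⟨y', hy', hyb⟩
        exact ⟨y * y', E.mul_mem hy hy', by
          rw [(show Commute y y' from hab y hy y' hy').mul_pow, hya, hyb]; rfl⟩
      inv_mem' := by
        rintro a ⟨y, hy, hya⟩
        exact ⟨y⁻¹, E.inv_mem hy, by rw [inv_pow, hya]; rfl⟩ }
    have hR : R = ⊤ := by
      refine hinvar R (fun β x hx => ?_) fun hR0 => ?_
      · obtain ⟨y, hy, hyx⟩ := hx
        refine ⟨autFun (β : MulAut E) y, autFun_mem _ hy, ?_⟩
        rw [resHom_coe, ← hyx, (isMor_autFun hES β.2).map_pow hy]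
      · -- otherwise `E = U`, but `C(U) > U`
        have hEexp : ∀ y ∈ E, y ∈ U := by
          intro y hy
          obtain ⟨r, hr⟩ := IsPGroup.iff_orderOf.1 (isPGroup_of_le hES h.hS) ⟨y, hy⟩
          have hr1 : r ≤ 1 := by
            by_contra hr'
            set y' := (⟨y, hy⟩ : E) ^ p ^ (r - 2) with hy'
            have h1 : orderOf y' = p ^ 2 := by
              rw [hy', orderOf_pow_of_dvd (pow_ne_zero _ hp.1.ne_zero)
                (hr ▸ pow_dvd_pow p (by omega)), hr, Nat.pow_div (by omega) hp.1.pos,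
                show r - (r - 2) = 2 by omega]
            have h2 : ((y' ^ p : E) : Ω) ^ p = 1 := by
              rw [← SubgroupClass.coe_pow, ← pow_mul, ← sq, ← h1, pow_orderOf_eq_one]
              rfl
            have h3 : ((y' ^ p : E) : Ω) ∈ V :=
              hVUe.symm ▸ hEU _ (y' ^ p).2 h2
            have h4 : (⟨_, h3⟩ : V) ∈ R := ⟨(y' : Ω), y'.2, by simp⟩
            rw [hR0, Subgroup.mem_bot] at h4
            have h5 : y' ^ p = 1 := Subtype.ext (congrArg Subtype.val h4 :)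
            have h6 := orderOf_dvd_of_pow_eq_one h5
            rw [h1] at h6
            have h7 := Nat.le_of_dvd hp.1.pos h6
            have h8 : p * 2 ≤ p * p := Nat.mul_le_mul_left p hp.1.two_le
            rw [sq] at h7
            omega
          refine hEU y hy ?_
          have h1 : (⟨y, hy⟩ : E) ^ p = 1 :=
            orderOf_dvd_iff_pow_eq_one.1 (hr ▸ (pow_dvd_pow p hr1).trans (pow_one p).dvd)
          simpa using congrArg Subtype.val h1
        have hCU : centralizerIn S U ≤ U := fun c hc => hEexp c (centric_centralizer_le hE.1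
          (mem_centralizerIn.2 ⟨(h.memC.1 hc).1, fun q hq => by
            rw [cj_apply, (h.memC.1 hc).2 q (hEexp q hq), mul_inv_cancel_right]⟩))
        have h1 := ((centralizerIn S U).subgroupOf S).card_mul_index
        rw [h.index, Nat.card_congr (Subgroup.subgroupOfEquivOfLe centralizerIn_le).toEquiv] at h1
        have : Finite U := finite_of_le h.hUS
        have h2 := Subgroup.card_le_of_le hCU
        rw [h.cardU] at h2
        have h3 : Nat.card S ≤ p ^ 3 := by
          rw [← h1, pow_succ]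
          exact Nat.mul_le_mul_right p h2
        omega
    -- lift the moved element
    obtain ⟨x, hx, hxf⟩ : ∃ x ∈ E, x ^ p = ((α ⟨z₀, hzV⟩ : V) : Ω) :=
      (hR ▸ Subgroup.mem_top _ : α ⟨z₀, hzV⟩ ∈ R)
    have hmoved : g * x ^ p * g⁻¹ * (x ^ p)⁻¹ ≠ 1 := by
      rw [hxf, ← hτv]
      intro h1
      refine hne (MulEquiv.ext fun w => CfsgLib.Fusion.Metacyclic.eq_of_eqOn_plane hexpV hVc hz1
        hnot (g := τ.toMonoidHom) (h := MonoidHom.id V) hfix (Subtype.ext ?_) w)
      exact mul_inv_eq_one.1 h1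
    have hline : ∀ v ∈ U, g * v * g⁻¹ * v⁻¹ ∈ Subgroup.zpowers z₀ := fun v hv => by
      obtain ⟨i, hi⟩ := Subgroup.mem_zpowers_iff.1 (hmov ⟨v, hVUe.symm ▸ hv⟩)
      refine Subgroup.mem_zpowers_iff.2 ⟨i, ?_⟩
      have h1 := congrArg Subtype.val hi
      simp only [SubgroupClass.coe_zpow, Subgroup.coe_mul, Subgroup.coe_inv, hτv] at h1
      rw [h1, h.commU _ (U.inv_mem hv) _ (h.normU hgS hv)]
    refine h.lift_false hp5 hES hab hEU (h.powU (h.zU hf₀)) hgS hgnE ?_ hx
      (hxf ▸ hVUe ▸ (α ⟨z₀, hzV⟩).2) (h.zc hf₀ hgS) hline hmoved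
    -- `g ^ p` centralises `E`
    have hgpE : g ^ p ∈ E := by
      refine h.stab_mem hE hVE hVinv hfaith ((normalizerIn S E).pow_mem hg p) fun v hv => ?_
      have hvU : v ∈ U := hVUe ▸ hv
      obtain ⟨i, hi⟩ := Subgroup.mem_zpowers_iff.1 (hline v hvU)
      have hgz : g * z₀ ^ i * g⁻¹ = z₀ ^ i := by
        rw [← (h.zC hf₀ hgS i).eq, mul_inv_cancel_right]
      have key' : ∀ m : ℕ, g ^ m * v * (g ^ m)⁻¹ = (z₀ ^ i) ^ m * v := by
        intro m
        induction m with
        | zero => simp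
        | succ m ihm =>
          calc g ^ (m + 1) * v * (g ^ (m + 1))⁻¹ = g * (g ^ m * v * (g ^ m)⁻¹) * g⁻¹ := by
                rw [pow_succ']; group
            _ = (g * z₀ ^ i * g⁻¹) ^ m * (g * v * g⁻¹) := by rw [ihm, conj_pow]; group
            _ = (z₀ ^ i) ^ (m + 1) * v := by
              rw [hgz, show g * v * g⁻¹ = z₀ ^ i * v by rw [hi, inv_mul_cancel_right],
                ← mul_assoc, ← pow_succ]
      rw [key' p, ← zpow_natCast, ← zpow_mul, mul_comm i, zpow_mul, zpow_natCast,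
        h.powU (h.zU hf₀), one_zpow, one_mul]
    rw [hab _ hgpE x hx, mul_inv_cancel_right]
  · -- `V ≠ U`
    obtain ⟨a, haV, haU⟩ := SetLike.not_le_iff_exists.1 hVU
    have haC : a ∉ centralizerIn S U := fun ha => haU (h.omega a ha (h.powX haV.2))
    obtain ⟨u, z, hf⟩ := h.exists_frame haV.2 haC
    obtain ⟨hzV', hz1', hfix', hmov', α', hnot'⟩ := key hf
    have haS := hES haV.1
    have hVsub : ∀ v ∈ V, v ∈ U → v ∈ Subgroup.zpowers z := fun v hv hvU =>
      h.line_of_commute hf hvU (hcent a haV.1 v hv)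
    -- `E` is abelian and elementary
    have hEC : ∀ y ∈ E, y ∈ centralizerIn S U → y ^ p = 1 → y ∈ Subgroup.zpowers z :=
      fun y hy hyC hyp => hVsub y ⟨hy, (h.memX y (hES hy)).2 hyp⟩ (h.omega y hyC hyp)
    have hA : ∀ y ∈ E, y ∈ centralizerIn S U → ∀ y' ∈ E, y' ∈ centralizerIn S U →
        y * y' = y' * y := by
      set A := E ⊓ centralizerIn S U with hA
      have : Finite A := finite_of_le (inf_le_left.trans hES)
      have hcyc : IsCyclic A := by
        refine (CfsgLib.PGroups.isCyclic_or_quaternion_of_unique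
          (isPGroup_of_le (inf_le_left.trans hES) h.hS)
          (z := ⟨z, hzV'.1, h.hUC (h.zU hf)⟩) (Subtype.ext (by simpa using h.powU (h.zU hf)))
          fun w hw => ?_).resolve_right fun hh => hp2 hh.1
        obtain ⟨i, hi⟩ := Subgroup.mem_zpowers_iff.1
          (hEC w w.2.1 w.2.2 (by simpa using congrArg Subtype.val hw))
        exact Subgroup.mem_zpowers_iff.2 ⟨i, Subtype.ext (by simpa using hi)⟩
      intro y hy hyC y' hy' hyC'
      exact congrArg Subtype.val
        ((IsCyclic.isMulCommutative (α := A)).is_comm.comm ⟨y, hy, hyC⟩ ⟨y', hy', hyC'⟩)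
    have hdecE : ∀ y ∈ E, ∃ i : ℕ, ∃ c ∈ E, c ∈ centralizerIn S U ∧ y = a ^ i * c := by
      intro y hy
      obtain ⟨i, hi⟩ := h.split haS haC (hES hy)
      exact ⟨i, _, E.mul_mem (E.inv_mem (E.pow_mem haV.1 i)) hy, hi,
        (mul_inv_cancel_left _ y).symm⟩
    have hpw : ∀ y ∈ E, y ^ p ∈ centralizerIn S U ∧
        ∃ c ∈ E, c ∈ centralizerIn S U ∧ y ^ p = c ^ p := by
      intro y hy
      obtain ⟨i, c, hc, hcC, rfl⟩ := hdecE y hy
      have : (a ^ i * c) ^ p = c ^ p := by
        rw [(show Commute (a ^ i) c from (show Commute c a from hcent c hc a haV).symm.pow_left i).mul_pow,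
          ← pow_mul, mul_comm, pow_mul, h.powX haV.2, one_pow, one_mul]
      exact ⟨this ▸ (centralizerIn S U).pow_mem hcC p, c, hc, hcC, this⟩
    have hab : ∀ y ∈ E, ∀ y' ∈ E, y * y' = y' * y := by
      intro y hy y' hy'
      obtain ⟨i, c, hc, hcC, rfl⟩ := hdecE y hy
      obtain ⟨i', c', hc', hcC', rfl⟩ := hdecE y' hy'
      have h1 : ∀ c ∈ E, Commute a c := fun c hc => (hcent c hc a haV).symm
      exact (((Commute.refl a).pow_pow i i').mul_right ((h1 c' hc').pow_left i)).mul_left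
        (((h1 c hc).symm.pow_right i').mul_right (hA c hc hcC c' hc' hcC'))
    have hexpE : ∀ y ∈ E, y ∈ V := by
      intro y hy
      refine ⟨hy, (h.memX y (hES hy)).2 ?_⟩
      by_contra hyp
      obtain ⟨r, hr⟩ := IsPGroup.iff_orderOf.1 (isPGroup_of_le hES h.hS) ⟨y, hy⟩
      have hr2 : 2 ≤ r := by
        by_contra hr'
        have h1 : (⟨y, hy⟩ : E) ^ p = 1 :=
          orderOf_dvd_iff_pow_eq_one.1 (hr ▸ (pow_dvd_pow p (by omega : r ≤ 1)).trans (pow_one p).dvd)
        exact hyp (by simpa using congrArg Subtype.val h1)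
      set y' := (⟨y, hy⟩ : E) ^ p ^ (r - 2) with hy'
      have h1 : orderOf y' = p ^ 2 := by
        rw [hy', orderOf_pow_of_dvd (pow_ne_zero _ hp.1.ne_zero)
          (hr ▸ pow_dvd_pow p (by omega)), hr, Nat.pow_div (by omega) hp.1.pos,
          show r - (r - 2) = 2 by omega]
      have h2 : ((y' : Ω) ^ p) ^ p = 1 := by
        rw [← pow_mul, ← sq, ← SubgroupClass.coe_pow, ← h1, pow_orderOf_eq_one]
        rfl
      have h3 : (y' : Ω) ^ p ∈ V :=
        ⟨E.pow_mem y'.2 p, (h.memX _ (S.pow_mem (hES y'.2) p)).2 h2⟩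
      have h3' : (y' : Ω) ^ p ∈ Subgroup.zpowers z :=
        hEC _ h3.1 (hpw _ y'.2).1 h2
      let R : Subgroup V :=
      { carrier := {v | ∃ y ∈ E, y ^ p = (v : Ω)}
        one_mem' := ⟨1, E.one_mem, by simp⟩
        mul_mem' := by
          rintro v w ⟨x, hx, hxv⟩ ⟨x', hx', hxw⟩
          exact ⟨x * x', E.mul_mem hx hx', by
            rw [(show Commute x x' from hab x hx x' hx').mul_pow, hxv, hxw]; rfl⟩
        inv_mem' := by
          rintro v ⟨x, hx, hxv⟩
          exact ⟨x⁻¹, E.inv_mem hx, by rw [inv_pow, hxv]; rfl⟩ }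
      have hR : R = ⊤ := by
        refine hinvar R (fun β x hx => ?_) fun hR0 => ?_
        · obtain ⟨x', hx', hxx⟩ := hx
          refine ⟨autFun (β : MulAut E) x', autFun_mem _ hx', ?_⟩
          rw [resHom_coe, ← hxx, (isMor_autFun hES β.2).map_pow hx']
        · have h4 : (⟨_, h3⟩ : V) ∈ R := ⟨(y' : Ω), y'.2, rfl⟩
          rw [hR0, Subgroup.mem_bot] at h4
          have h5 : y' ^ p = 1 := Subtype.ext (by simpa using congrArg Subtype.val h4)
          have h6 := orderOf_dvd_of_pow_eq_one h5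
          rw [h1] at h6
          have h7 := Nat.le_of_dvd hp.1.pos h6
          have h8 : p * 2 ≤ p * p := Nat.mul_le_mul_left p hp.1.two_le
          rw [sq] at h7
          omega
      obtain ⟨x, hx, hxa⟩ : (⟨a, haV⟩ : V) ∈ R := hR ▸ Subgroup.mem_top _
      exact haC ((show x ^ p = a from hxa) ▸ (hpw x hx).1)
    -- an element of `C` moving `a`
    obtain ⟨c, hc, hne'⟩ : ∃ c ∈ centralizerIn S U,
        a * c * a⁻¹ * c⁻¹ ∉ Subgroup.zpowers z := by
      by_contra hno
      push Not at hno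
      have hCU : centralizerIn S U ≤ U := by
        intro c hc
        obtain ⟨i, hi⟩ := Subgroup.mem_zpowers_iff.1 (hno c hc)
        have hcS := (h.memC.1 hc).1
        set d := c * u ^ (-i) with hd
        have hdC : d ∈ centralizerIn S U :=
          Subgroup.mul_mem _ hc (Subgroup.zpow_mem _ (h.hUC hf.hu) _)
        have hda : a * d * a⁻¹ = d := by
          calc a * d * a⁻¹ = (a * c * a⁻¹ * c⁻¹) * c * (a * u * a⁻¹) ^ (-i) := by
                rw [hd, conj_zpow]; group
            _ = d := by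
              rw [← hi, hf.hz, (show Commute z u from (h.zc hf (h.hUS hf.hu)).symm).mul_zpow,
                (h.zC hf hcS i).eq, mul_assoc, ← mul_assoc (z ^ i), ← zpow_add, add_neg_cancel,
                zpow_zero, one_mul, hd]
        have hdE : d ∈ E := centric_centralizer_le hE.1 (mem_centralizerIn.2
          ⟨(h.memC.1 hdC).1, fun q hq => by
            obtain ⟨j, a', b, hqe⟩ := h.decX hf (hexpE q hq).2
            have h2 : Commute d q := by
              rw [hqe]
              exact ((show Commute d a from (mul_inv_eq_iff_eq_mul.1 hda).symm).pow_right j).mul_right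
                ((h.memC.1 hdC).2 _ (U.mul_mem (U.pow_mem (h.zU hf) a') (U.pow_mem hf.hu b)))
            rw [cj_apply, h2.eq, mul_inv_cancel_right]⟩)
        have hdU : d ∈ U := h.omega d hdC (h.powX (hexpE d hdE).2)
        simpa [hd, mul_assoc] using U.mul_mem hdU (U.zpow_mem hf.hu i)
      have h1 := ((centralizerIn S U).subgroupOf S).card_mul_index
      rw [h.index, Nat.card_congr (Subgroup.subgroupOfEquivOfLe centralizerIn_le).toEquiv] at h1
      have : Finite U := finite_of_le h.hUS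
      have h2 := Subgroup.card_le_of_le hCU
      rw [h.cardU] at h2
      have h3 : Nat.card S ≤ p ^ 3 := by
        rw [← h1, pow_succ]
        exact Nat.mul_le_mul_right p h2
      omega
    obtain ⟨u', z', hf', hes⟩ := h.frame_of hf hc hne'
    obtain ⟨hzV, hz1, hfix, hmov, α₁, hnot⟩ := key hf'
    -- a torus on `V`
    set k := ((-2 : ZMod p)).val with hk
    set l := (((-2 : ZMod p))⁻¹).val with hl
    have hkc : (k : ZMod p) = -2 := ZMod.natCast_zmod_val _
    have hlc : (l : ZMod p) = (-2)⁻¹ := ZMod.natCast_zmod_val _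
    have hsmall : ∀ n : ℕ, 0 < n → n < 5 → (n : ZMod p) ≠ 0 := fun n hn hn5 h0 => by
      have := Nat.le_of_dvd hn ((ZMod.natCast_eq_zero_iff n p).1 h0)
      omega
    have h2 : (-2 : ZMod p) ≠ 0 := neg_ne_zero.2 (by exact_mod_cast hsmall 2 two_pos (by norm_num))
    have h3 : (3 : ZMod p) ≠ 0 := by exact_mod_cast hsmall 3 (by norm_num) (by norm_num)
    have hk2 : (k : ZMod p) ^ 2 ≠ 1 := fun h1 => h3 (by
      rw [hkc] at h1
      linear_combination h1)
    have hk3 : (k : ZMod p) ^ 3 ≠ 1 := fun h1 => by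
      rw [hkc] at h1
      have h9 : (3 : ZMod p) * 3 = 0 := by linear_combination -h1
      rcases mul_eq_zero.1 h9 with h' | h' <;> exact h3 h'
    have hkl : ((k * l : ℕ) : ZMod p) = 1 := by
      rw [Nat.cast_mul, hkc, hlc, mul_inv_cancel₀ h2]
    have haz : (⟨a, haV⟩ : V) ∉ Subgroup.zpowers (⟨z', hzV⟩ : V) := fun hh => by
      obtain ⟨i, hi⟩ := Subgroup.mem_zpowers_iff.1 hh
      refine haC (h.hUC ?_)
      have h1 := congrArg Subtype.val hi
      simp only [SubgroupClass.coe_zpow] at h1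
      exact h1 ▸ U.zpow_mem (h.zU hf') i
    obtain ⟨θ', ⟨θ₀, rfl⟩, hθz, hθa⟩ := CfsgLib.PGroups.PlaneTorus.exists_torus hexpV hVc H
      (⟨_, rfl⟩ : τ ∈ H) (⟨α₁, rfl⟩ : _ ∈ H) hz1 hfix hmov hne hnot haz (k := l) (l := k)
      (by rw [mul_comm, hkl])
    have hθz' : autFun (θ₀ : MulAut E) z' = z' ^ l := by
      have := congrArg Subtype.val hθz
      simpa [resHom_coe] using this
    have hθa' : autFun (θ₀ : MulAut E) a = a ^ k := by
      have := congrArg Subtype.val hθa
      simpa [resHom_coe] using this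
    -- it extends to `X`
    have hm := isMor_autFun hES θ₀.2
    have hrec := (isFullyAutomized_of_normalized h.hS hF hE.2.1).2
    have hdecV : ∀ q ∈ E, ∃ i j : ℕ, q = a ^ i * z' ^ j := by
      intro q hq
      obtain ⟨i, c', hc', hcC', rfl⟩ := hdecE q hq
      have hcp : c' ^ p = 1 := h.powX (hexpE c' hc').2
      obtain ⟨j, hj⟩ := (isOfFinOrder_iff_pow_eq_one.2
        ⟨p, hp.1.pos, h.powU (h.zU hf')⟩).mem_powers_iff_mem_zpowers.2
        (h.line_of_commute hf' (h.omega c' hcC' hcp) (hcent a haV.1 c' (hexpE c' hc')))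
      exact ⟨i, j, by rw [← hj]⟩
    have hXN : X ≤ nExt S E (autFun (θ₀ : MulAut E)) := by
      intro x hx
      obtain ⟨i, a', b, hxe⟩ := h.decX hf' hx
      have hconj_a : x * a * x⁻¹ = z' ^ (-(b : ℤ)) * a := by
        rw [hxe, show a ^ i * (z' ^ a' * u' ^ b) * a * (a ^ i * (z' ^ a' * u' ^ b))⁻¹ =
          a ^ i * (z' ^ a' * (u' ^ b * a * (u' ^ b)⁻¹) * (z' ^ a')⁻¹) * (a ^ i)⁻¹ by group,
          ← zpow_natCast u', h.conj_u_e hf', ← zpow_natCast z',
          (h.zC hf' (S.mul_mem (S.zpow_mem (h.hUS (h.zU hf')) _) haS) a').eq, mul_inv_cancel_right,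
          show a ^ i * (z' ^ (-(b : ℤ)) * a) * (a ^ i)⁻¹ =
            (a ^ i * z' ^ (-(b : ℤ)) * (a ^ i)⁻¹) * a by group,
          ← (h.zC hf' (S.pow_mem haS i) (-(b : ℤ))).eq, mul_inv_cancel_right]
      have hxn : x ∈ Subgroup.normalizer (E : Set Ω) := by
        have hmaps : ∀ (b : ℤ), ∀ q ∈ E, ∀ x ∈ S, x * a * x⁻¹ = z' ^ b * a →
            x * q * x⁻¹ ∈ E := by
          intro b q hq x hxS hxa
          obtain ⟨i, j, rfl⟩ := hdecV q hq
          rw [show x * (a ^ i * z' ^ j) * x⁻¹ = (x * a * x⁻¹) ^ i * (x * z' ^ j * x⁻¹) by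
            rw [conj_pow]; group, hxa, ← zpow_natCast z', ← (h.zC hf' hxS j).eq,
            mul_inv_cancel_right]
          exact E.mul_mem (E.pow_mem (E.mul_mem (E.zpow_mem hzV.1 b) haV.1) i)
            (E.zpow_mem hzV.1 j)
        have hinv : x⁻¹ * a * x⁻¹⁻¹ = z' ^ (b : ℤ) * a := by
          have h1 : x⁻¹ * (x * a * x⁻¹) * x⁻¹⁻¹ = a := by group
          rw [hconj_a, show x⁻¹ * (z' ^ (-(b : ℤ)) * a) * x⁻¹⁻¹ =
            (x⁻¹ * z' ^ (-(b : ℤ)) * x⁻¹⁻¹) * (x⁻¹ * a * x⁻¹⁻¹) by group,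
            ← (h.zC hf' (S.inv_mem (h.hXS hx)) _).eq, mul_inv_cancel_right, zpow_neg,
            inv_mul_eq_iff_eq_mul] at h1
          exact h1
        rw [Subgroup.mem_normalizer_iff]
        refine fun q => ⟨fun hq => hmaps _ q hq x (h.hXS hx) hconj_a, fun hq => ?_⟩
        have h1 := hmaps _ _ hq _ (S.inv_mem (h.hXS hx)) hinv
        simpa [mul_assoc] using h1
      refine mem_nExt.2 ⟨h.hXS hx, hxn, u' ^ ((l * l * b : ℕ) : ℤ),
        S.zpow_mem (h.hUS hf'.hu) _, fun q hq => ?_⟩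
      obtain ⟨i', j, rfl⟩ := hdecV q hq
      have htS : u' ^ ((l * l * b : ℕ) : ℤ) ∈ S := S.zpow_mem (h.hUS hf'.hu) _
      set t := u' ^ ((l * l * b : ℕ) : ℤ) with ht
      have hta : t * a ^ k * t⁻¹ = (z' ^ l) ^ (-(b : ℤ)) * a ^ k := by
        rw [← conj_pow, ht, h.conj_u_e hf', ((h.zC hf' haS _).mul_pow)]
        congr 1
        rw [← zpow_natCast (z' ^ _) k, ← zpow_mul, ← zpow_natCast z' l, ← zpow_mul, neg_mul,
          mul_neg, zpow_neg, zpow_neg, inv_inj, ← Nat.cast_mul, ← Nat.cast_mul, zpow_natCast,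
          zpow_natCast]
        refine pow_eq_of_cast_eq (h.powU (h.zU hf')) ?_
        have h1 := congrArg (fun t : ZMod p => (l : ZMod p) * b * t) hkl
        push_cast at h1 ⊢
        linear_combination h1
      have hzl : autFun (θ₀ : MulAut E) (z' ^ (-(b : ℤ))) = (z' ^ l) ^ (-(b : ℤ)) := by
        rw [autFun_of_mem _ (E.zpow_mem hzV.1 _), show (⟨z' ^ (-(b : ℤ)), _⟩ : E) =
          (⟨z', hzV.1⟩ : E) ^ (-(b : ℤ)) from Subtype.ext (by simp), map_zpow,
          SubgroupClass.coe_zpow, ← autFun_of_mem _ hzV.1, hθz']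
      have hzbE := E.zpow_mem hzV.1 (-(b : ℤ))
      rw [cj_apply, cj_apply, show x * (a ^ i' * z' ^ j) * x⁻¹ =
          (x * a * x⁻¹) ^ i' * (x * z' ^ j * x⁻¹) by rw [conj_pow]; group,
        hconj_a, ← zpow_natCast z' j, ← (h.zC hf' (h.hXS hx) j).eq, mul_inv_cancel_right,
        zpow_natCast, hm.map_mul (E.pow_mem (E.mul_mem hzbE haV.1) i') (E.pow_mem hzV.1 j),
        hm.map_pow (E.mul_mem hzbE haV.1), hm.map_mul hzbE haV.1,
        hm.map_mul (E.pow_mem haV.1 i') (E.pow_mem hzV.1 j), hm.map_pow haV.1, hm.map_pow hzV.1,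
        hzl, hθa', hθz', ← hta, conj_pow]
      calc t * (a ^ k) ^ i' * t⁻¹ * (z' ^ l) ^ j
          = t * (a ^ k) ^ i' * t⁻¹ * (t * (z' ^ l) ^ j * t⁻¹) := by
            rw [← pow_mul z', ← zpow_natCast z', ← (h.zC hf' htS _).eq, mul_inv_cancel_right]
        _ = _ := by group
    obtain ⟨φ, hφ, hφe⟩ := (isReceptive_iff.1 hrec).2 E _ (isMor_autFun hES θ₀.2) (img_autFun _)
    have hφX : ∀ x ∈ X, φ x ∈ X := fun x hx => by
      refine (h.memX _ ((hφ.restrict hXN).mem hx)).2 ?_
      rw [← (hφ.restrict hXN).map_pow hx p, h.powX hx, (hφ.restrict hXN).map_one]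
    obtain ⟨β, hβ, hβe⟩ := exists_aut (hφ.restrict hXN) ((hφ.restrict hXN).img_eq_self hφX)
    refine h.stable_false hp5 hF hf' hc hes hβ (k := k) (l := l) ?_ ?_ hkl hk2 hk3
    · rw [hβe a hf'.he, hφe a haV.1, hθa']
    · rw [hβe z' (h.leUX (h.zU hf')), hφe z' hzV.1, hθz']

end Setup

end CfsgLib.Fusion.RankTwo
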