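import Mathlib
import Cfsg.Agent.Lib.Fusion.Criteria
import Cfsg.Agent.Lib.Fusion.Group
import Cfsg.Agent.Lib.Fusion.Invariant

/-! A criterion for simplicity of the fusion system of a group. -/
set_option autoImplicit false

namespace CfsgLib.Fusion

open Cfsg Cfsg.FusionSystem

variable {G : Type*} [Group G] [Finite G] {p : ℕ} [Fact p.Prime]

theorem groupFusion_isSimple_of_generation (S : Sylow p G) (hS1 : (S : Subgroup G) ≠ ⊥)
    (ha : ∀ T : Subgroup G, (groupFusionSystem (S : Subgroup G)).StronglyClosed T →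
      T = ⊥ ∨ T = (S : Subgroup G))
    (hb : autInducedBy ⊤ (S : Subgroup G) = ⨆ (R : Subgroup G)
      (_ : (groupFusionSystem (S : Subgroup G)).IsFullyNormalized R ∧
        (groupFusionSystem (S : Subgroup G)).IsRadical p R ∧
        (groupFusionSystem (S : Subgroup G)).IsCentric R),
      autInducedBy (Subgroup.closure {g : G | g ∈ Subgroup.normalizer (R : Set G) ∧
        ∃ k : ℕ, orderOf g = p ^ k}) (S : Subgroup G)) :
    (groupFusionSystem (S : Subgroup G)).IsSimple p := by
  classical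
  have hS := S.2
  have hF := groupFusion_isSaturated S
  set F := groupFusionSystem (S : Subgroup G) with hFdef
  refine ⟨hF, hS1, fun T E hE => ?_⟩
  obtain ⟨hEs, -, hsub, hTc, hinv, hfrat⟩ := hE.1
  rcases ha T hTc with h | h
  · exact Or.inl h
  subst h
  refine Or.inr ⟨rfl, ?_⟩
  have hle : ∀ P f, IsMor E P f → IsMor F P f := le_iff_isMor.mp hsub
  -- the automizers of `E` are normal in those of `F`
  have hnorm : ∀ R : Subgroup G, R ≤ (S : Subgroup G) → ∀ γ ∈ F.autGroup R, ∀ a ∈ E.autGroup R,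
      γ * a * γ⁻¹ ∈ E.autGroup R := by
    intro R hR γ hγ a ha'
    have hγm := isMor_autFun hR hγ
    obtain ⟨φ, hφ, hφe⟩ := id hγm
    obtain ⟨α, hα, φ₀, hφ₀, he⟩ := hfrat R hR φ hφ
    set e := toFun φ₀ with hedef
    have hem : IsMor E R e := isMor_of_mem hφ₀
    have hαm := isMor_autFun le_rfl hα
    have hval : ∀ x ∈ R, autFun γ x = autFun α (e x) := fun x hx => by
      have h1 := he ⟨x, hx⟩ ((E.le_of_mem hφ₀).2 _)
      rw [hφe] at h1
      rw [h1, hedef, toFun_of_mem φ₀ hx, autFun_of_mem α ((E.le_of_mem hφ₀).2 ⟨x, hx⟩)]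
    obtain ⟨ei, hei, hl, -, hii⟩ := hem.inverse
    have hbm : IsMor E (img R e) (e ∘ autFun a ∘ ei) :=
      (hei.comp ((isMor_autFun hR ha').comp hem fun x hx => autFun_mem a hx)
        fun x hx => hii ▸ mem_img_of_mem ei hx)
    set R' := img R e with hR'
    have hR'S : R' ≤ (S : Subgroup G) := img_le fun x hx => hem.mem hx
    obtain ⟨b, hb', hbe⟩ := hbm
    obtain ⟨χ, hχ, hχe⟩ := hinv R' hR'S b hb' α hα
    have himg : (R'.subgroupOf (S : Subgroup G)).map ((S : Subgroup G).subtype.comp α.toMonoidHom) = R := by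
      rw [map_subgroupOf_eq_img (f := autFun α) (fun x => (autFun_coe α x).symm) hR'S, hR',
        hem.img_comp, img_congr (f := autFun α ∘ e) (g := autFun γ) fun x hx => (hval x hx).symm, img_autFun]
    refine (autGroup_eq_set hR _).mpr ?_
    have hχm : IsMor E R (toFun χ) := himg ▸ isMor_of_mem hχ
    refine hχm.congr fun y hy => ?_
    obtain ⟨x, hx, rfl⟩ : ∃ x ∈ R, autFun γ x = y :=
      ⟨autFun γ⁻¹ y, autFun_mem _ hy, autFun_inv_right γ hy⟩
    rw [autFun_mul _ _ hy, autFun_mul _ _ (autFun_mem γ⁻¹ hy), autFun_inv_left γ hx,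
      hval x hx, hval _ (autFun_mem a hx)]
    have hex : e x ∈ R' := mem_img_of_mem e hx
    have hm : autFun α (e x) ∈
        (R'.subgroupOf (S : Subgroup G)).map ((S : Subgroup G).subtype.comp α.toMonoidHom) :=
      himg.ge (hval x hx ▸ autFun_mem γ hx)
    have hbval : b ⟨e x, hex⟩ = e (autFun a x) := by
      rw [hbe]
      show e (autFun a (ei (e x))) = _
      rw [hl x hx]
    rw [toFun_of_mem χ hm]
    have h2 := hχe ⟨e x, hex⟩ ((E.le_of_mem hb').2 _)
      (by rw [← autFun_coe]; exact hm)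
    refine Eq.trans ?_ (h2.trans ((autFun_coe α _).symm.trans (congrArg (autFun α) hbval)))
    congr 1
    exact Subtype.ext (autFun_coe α ⟨e x, hR'S hex⟩)
  -- conjugations by `O^{p'}(N_G(R))` lie in `E`
  have hE0 : ∀ R : Subgroup G, F.IsFullyNormalized R → ∀ k ∈ Subgroup.closure
      {g : G | g ∈ Subgroup.normalizer (R : Set G) ∧ ∃ k : ℕ, orderOf g = p ^ k},
      IsMor E R (cj k) ∧ ∀ x ∈ R, cj k x ∈ R := by
    intro R hR k hk
    have hRS := hR.1
    have hRE : E.IsFullyNormalized R := ⟨hRS, fun Q hQ => hR.2 Q (by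
      obtain ⟨f, hf, rfl⟩ := isConj_iff.mp hQ
      exact isConj_img (hle _ f hf))⟩
    have hfa := (isFullyAutomized_iff.mp (isFullyAutomized_of_normalized hS hF hR).1).2
    have hSE : autInducedBy (S : Subgroup G) R ≤ E.autGroup R := autInducedBy_le E hRS
    have := finite_mulAut (P := R) hRS
    induction hk using Subgroup.closure_induction with
    | mem g hg =>
      obtain ⟨hgn, n, hn⟩ := hg
      have hmem : ∀ x ∈ R, cj g x ∈ R := fun x hx => (Subgroup.mem_normalizer_iff.mp hgn x).mp hx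
      have hm : IsMor F R (cj g) := isMor_group.mpr ⟨hRS, fun x hx => hRS (hmem x hx), g, fun _ _ => rfl⟩
      obtain ⟨γ, hγ, hγe⟩ := exists_aut hm (img_cj_of_normalizer hgn)
      have hpow : ∀ (m : ℕ), ∀ x ∈ R, autFun (γ ^ m) x = cj (g ^ m) x := by
        intro m
        induction m with
        | zero => intro x hx; rw [pow_zero, pow_zero, autFun_one hx, cj_one]
        | succ m ih =>
          intro x hx
          rw [pow_succ', pow_succ', autFun_mul _ _ hx, hγe _ (autFun_mem _ hx), ih x hx, cj_mul]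
      have hγn : γ ^ p ^ n = 1 := autFun_inj fun x hx => by
        rw [hpow _ x hx, ← hn, pow_orderOf_eq_one, cj_one, autFun_one hx]
      obtain ⟨j, -, hj⟩ := (Nat.dvd_prime_pow Fact.out).mp (orderOf_dvd_of_pow_eq_one hγn)
      have hγp : IsPGroup p (Subgroup.zpowers γ) :=
        IsPGroup.of_card (n := j) (by rw [Nat.card_zpowers, hj])
      obtain ⟨b, hb', hbc⟩ := hfa.exists_conj_le hγp (Subgroup.zpowers_le.mpr hγ)
      have h1 := hnorm R hRS b⁻¹ (Subgroup.inv_mem _ hb') _ (hSE (hbc γ (Subgroup.mem_zpowers γ)))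
      rw [inv_inv, mul_assoc b γ, inv_mul_cancel_left, inv_mul_cancel_right] at h1
      exact ⟨((autGroup_eq_set hRS γ).mp h1).congr hγe, hmem⟩
    | one =>
      exact ⟨(isMor_id E hRS).congr fun x _ => (cj_one x).symm, fun x hx => by rwa [cj_one]⟩
    | mul a b _ _ ha' hb' =>
      exact ⟨(hb'.1.comp ha'.1 hb'.2).congr fun x _ => (cj_mul a b x).symm,
        fun x hx => by rw [cj_mul]; exact ha'.2 _ (hb'.2 x hx)⟩
    | inv a _ ha' =>
      obtain ⟨l, hl, hle', -, -⟩ := ha'.1.inverse
      have hi : img R (cj a) = R := ha'.1.img_eq_self ha'.2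
      rw [hi] at hl
      have hv : ∀ y ∈ R, l y = cj a⁻¹ y := fun y hy => by
        obtain ⟨x, hx, rfl⟩ := ha'.1.mem_img.mp (hi.ge hy)
        rw [hle' x hx, cj_inv_cj]
      refine ⟨hl.congr hv, fun y hy => ?_⟩
      obtain ⟨x, hx, rfl⟩ := ha'.1.mem_img.mp (hi.ge hy)
      rwa [cj_inv_cj]
  -- extend to `S`
  have hext : ∀ (g : G) (X : Subgroup G), g ∈ Subgroup.normalizer ((S : Subgroup G) : Set G) →
      X ≤ (S : Subgroup G) → F.IsCentric X → (∀ x ∈ X, cj g x ∈ X) → IsMor E X (cj g) →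
      IsMor E (S : Subgroup G) (cj g) := by
    intro g X hgS
    induction hd : Nat.card (S : Subgroup G) - Nat.card X using Nat.strong_induction_on
      generalizing X with
    | _ d ih =>
      subst hd
      intro hXS hXc hgX hgE
      rcases eq_or_lt_of_le hXS with rfl | hlt
      · exact hgE
      have hXcE : E.IsCentric X := ⟨hXS, fun Q hQ => hXc.2 Q (by
        obtain ⟨f, hf, rfl⟩ := isConj_iff.mp hQ
        exact isConj_img (hle _ f hf))⟩
      have hi : img X (cj g) = X := hgE.img_eq_self hgX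
      have hgn : g ∈ Subgroup.normalizer (X : Set G) := by
        rw [Subgroup.mem_normalizer_iff_map_conj_eq]
        exact (img_cj X g).symm.trans hi
      set Y := normalizerIn (S : Subgroup G) X
      have hYS : Y ≤ (S : Subgroup G) := normalizerIn_le
      have hgY : ∀ y ∈ Y, cj g y ∈ Y := fun y hy => by
        obtain ⟨hyS, hyX⟩ := mem_normalizerIn.mp hy
        exact mem_normalizerIn.mpr ⟨(Subgroup.mem_normalizer_iff.mp hgS y).mp hyS,
          Subgroup.mul_mem _ (Subgroup.mul_mem _ hgn hyX) (Subgroup.inv_mem _ hgn)⟩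
      have hYn : Y ≤ nExt (S : Subgroup G) X (cj g) := fun y hy => by
        obtain ⟨hyS, hyX⟩ := mem_normalizerIn.mp hy
        refine ⟨hyS, hyX, cj g y, (mem_normalizerIn.mp (hgY y hy)).1, fun x hx => ?_⟩
        simp [cj, mul_assoc]
      obtain ⟨ψ, hψ, hψe⟩ := (isReceptive_iff.mp (centric_receptive hS hEs hXcE)).2 X _ hgE hi
      have hψY := hψ.restrict hYn
      have hgYm : IsMor F Y (cj g) :=
        isMor_group.mpr ⟨hYS, fun y hy => hYS (hgY y hy), g, fun _ _ => rfl⟩
      obtain ⟨z, hz, -, hze⟩ := centric_agree hS hF (hle _ ψ hψY) hgYm (le_normalizerIn hXS) hXc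
        hψe
      have hzY : ∀ y ∈ Y, cj z y ∈ Y := fun y hy =>
        Y.mul_mem (Y.mul_mem (le_normalizerIn hXS hz) hy) (Y.inv_mem (le_normalizerIn hXS hz))
      have hYE : IsMor E Y (cj g) :=
        ((isMor_cj E hYS (hXS hz)).comp hψY hzY).congr fun y hy => (hze y hy).symm
      have hXY : X < Y := normalizerIn_gt hS hlt
      refine ih _ ?_ Y rfl hYS (centric_mono hXc hXY.le hYS) hgY hYE
      have := card_lt_of_lt hYS hXY
      have := Subgroup.card_le_of_le hYS
      omega
  have haut : F.autGroup (S : Subgroup G) ≤ E.autGroup (S : Subgroup G) := by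
    intro α hα
    have h0 : α ∈ autInducedBy ⊤ (S : Subgroup G) := by
      obtain ⟨-, -, g, hg⟩ := isMor_group.mp (isMor_autFun le_rfl hα)
      refine mem_autInducedBy.mpr ⟨g, Subgroup.mem_top g, ?_, hg⟩
      rw [Subgroup.mem_normalizer_iff_map_conj_eq]
      exact (img_cj _ g).symm.trans ((img_congr hg).symm.trans (img_autFun α))
    rw [hb] at h0
    revert h0
    revert α
    suffices h : _ ≤ E.autGroup (S : Subgroup G) from fun α _ h0 => h h0
    refine iSup₂_le fun R hR α hα => ?_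
    obtain ⟨g, hgK, hgn, hge⟩ := mem_autInducedBy.mp hα
    obtain ⟨h1, h2⟩ := hE0 R hR.1 g hgK
    exact (autGroup_eq_set le_rfl α).mpr
      ((hext g R hgn hR.1.1 hR.2.2 h2 h1).congr fun x hx => (hge x hx).symm)
  intro P
  refine Set.Subset.antisymm (hsub P) fun φ hφ => ?_
  obtain ⟨α, hα, φ₀, hφ₀, he⟩ := hfrat P (F.le_of_mem hφ).1 φ hφ
  have hαE := isMor_autFun le_rfl (haut hα)
  have h0 := isMor_of_mem (F := E) hφ₀
  refine (h0.comp hαE fun x hx => h0.mem hx).mem_hom fun x => ?_
  rw [Function.comp_apply, toFun_coe, he x ((E.le_of_mem hφ₀).2 x), autFun_of_mem α ((E.le_of_mem hφ₀).2 x)]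

end CfsgLib.Fusion
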