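import Cfsg.Agent.Lib.Fusion.SimpleCriterion
import Cfsg.Agent.Lib.Fusion.Normal
import Cfsg.Agent.Lib.Involutions.AutMaximalClassTwo
import Cfsg.Agent.Lib.Involutions.WreathedAut
import Cfsg.Agent.Lib.Involutions.QDWRCentralizer
import Cfsg.Agent.Lib.Involutions.DihedralClasses

/-!
# Simple fusion systems of groups with dihedral, quasidihedral or wreathed Sylow 2-subgroups

If no subgroup has index two, the fusion system of such a group is simple.
-/

set_option autoImplicit false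

namespace CfsgLib.Fusion

open Cfsg Cfsg.FusionSystem Subgroup CfsgLib.Involutions

variable {G : Type*} [Group G] [Finite G] {p : ℕ} [Fact p.Prime]

/-- With `Aut S` a `p`-group, only the strongly closed subgroups matter for simplicity. -/
theorem groupFusion_isSimple_of_closed (S : Sylow p G) (hS1 : (S : Subgroup G) ≠ ⊥)
    (haut : IsPGroup p (MulAut (S : Subgroup G)))
    (ha : ∀ T : Subgroup G, (groupFusionSystem (S : Subgroup G)).StronglyClosed T → T ≠ ⊥ →
      (S : Subgroup G) ≤ T) :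
    (groupFusionSystem (S : Subgroup G)).IsSimple p := by
  classical
  set F := groupFusionSystem (S : Subgroup G) with hFdef
  have hF : F.IsSaturated p := groupFusion_isSaturated S
  refine groupFusion_isSimple_of_generation S hS1
    (fun T hT => or_iff_not_imp_left.2 fun h => le_antisymm hT.1 (ha T hT h)) (le_antisymm ?_ ?_)
  · intro α hα
    rw [← autGroup_group (le_refl (S : Subgroup G))] at hα
    obtain ⟨g, hg, hge⟩ :=
      mem_inn.1 (autGroup_le_inn_of_isPGroup S.2 hF (haut.to_subgroup _) hα)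
    refine Subgroup.mem_iSup_of_mem (S : Subgroup G) (Subgroup.mem_iSup_of_mem
      ⟨isFullyNormalized_self F, radical_self S.2 hF, centric_self F⟩ ?_)
    refine mem_autInducedBy.2 ⟨g, subset_closure ⟨le_normalizer hg, ?_⟩, le_normalizer hg, hge⟩
    obtain ⟨k, hk⟩ := (IsPGroup.iff_orderOf.1 S.2) ⟨g, hg⟩
    exact ⟨k, by rwa [Subgroup.orderOf_mk] at hk⟩
  · refine iSup₂_le fun R _ α hα => ?_
    obtain ⟨g, -, hn, e⟩ := mem_autInducedBy.1 hα
    exact mem_autInducedBy.2 ⟨g, mem_top g, hn, e⟩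

omit [Fact p.Prime] in
/-- A strongly closed subgroup contains the conjugates in `S` of its elements. -/
theorem mem_of_isConj_of_closed {S T : Subgroup G}
    (hT : (groupFusionSystem S).StronglyClosed T) {x y : G} (hx : x ∈ T) (hy : y ∈ S)
    (hc : IsConj x y) : y ∈ T := by
  obtain ⟨hTS, h⟩ := stronglyClosed_iff.1 hT
  obtain ⟨g, rfl⟩ := _root_.isConj_iff.1 hc
  refine h (zpowers x) (cj g) (isMor_group.2
    ⟨zpowers_le.2 (hTS hx), ?_, g, fun _ _ => rfl⟩) x (mem_zpowers x) hx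
  rintro _ ⟨k, rfl⟩
  show g * x ^ k * g⁻¹ ∈ S
  rw [← conj_zpow]
  exact zpow_mem hy k

omit [Finite G] [Fact p.Prime] in
theorem exists_invol_of_ne_bot {T : Subgroup G} (hT : IsPGroup 2 T) [Finite T] (h : T ≠ ⊥) :
    ∃ t ∈ T, orderOf t = 2 := by
  haveI : Fact (Nat.Prime 2) := ⟨Nat.prime_two⟩
  obtain ⟨n, hn⟩ := IsPGroup.iff_card.1 hT
  have hn0 : n ≠ 0 := fun h0 => h (Subgroup.eq_bot_of_card_eq _ (by rw [hn, h0, pow_zero]))
  obtain ⟨t, ht⟩ := exists_prime_orderOf_dvd_card' 2 (hn ▸ dvd_pow_self 2 hn0)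
  exact ⟨t, t.2, by rwa [Subgroup.orderOf_coe]⟩

omit [Finite G] [Fact p.Prime] in
theorem isConj_of_card_classes {m : ℕ}
    (h : Nat.card {C : ConjClasses G // ∃ t : G, orderOf t = m ∧ ConjClasses.mk t = C} = 1)
    {a b : G} (ha : orderOf a = m) (hb : orderOf b = m) : IsConj a b := by
  have := (Nat.card_eq_one_iff_unique.1 h).1
  have e := Subsingleton.elim
    (⟨ConjClasses.mk a, a, ha, rfl⟩ : {C : ConjClasses G // ∃ t : G, orderOf t = m ∧ ConjClasses.mk t = C})
    ⟨ConjClasses.mk b, b, hb, rfl⟩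
  exact ConjClasses.mk_eq_mk_iff_isConj.1 (congrArg Subtype.val e)

/-- All involutions of `S` lie in a nontrivial strongly closed subgroup when there is one class. -/
theorem invol_mem_of_closed (S : Sylow 2 G)
    (h1 : ∀ a b : G, orderOf a = 2 → orderOf b = 2 → IsConj a b) {T : Subgroup G}
    (hT : (groupFusionSystem (S : Subgroup G)).StronglyClosed T) (hne : T ≠ ⊥) {t : G}
    (htS : t ∈ (S : Subgroup G)) (ht : orderOf t = 2) : t ∈ T := by
  obtain ⟨s, hs, hs2⟩ := exists_invol_of_ne_bot (S.2.to_le hT.1) hne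
  exact mem_of_isConj_of_closed hT hs htS (h1 s t hs2 ht)

theorem isSimple_of_dihedral (S : Sylow 2 G) {m : ℕ} (hm : 4 ≤ m)
    (e : (S : Subgroup G) ≃* DihedralGroup m) (hG : ∀ H : Subgroup G, H.index ≠ 2) :
    (groupFusionSystem (S : Subgroup G)).IsSimple 2 := by
  haveI : Fact (Nat.Prime 2) := ⟨Nat.prime_two⟩
  obtain ⟨d⟩ := nonempty_dp S.2 (show 2 ≤ m by omega) e
  have hF : ∀ i, ¬ d.F2 i := fun i hi => (d.exists_index_two hi).elim fun H hH => hG H hH
  refine groupFusion_isSimple_of_closed S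
    (fun h => invol_ne_one d.orderOf_z (mem_bot.1 (h ▸ d.z_mem)))
    (isPGroup_mulAut_dihedral_or_qd S.2 (Or.inl ⟨m, hm, ⟨e⟩⟩)) fun T hT hne => ?_
  have hall : ∀ i, d.r i ∈ T := fun i => invol_mem_of_closed S
    (fun a b ha hb => (d.isConj_z hF ha).symm.trans (d.isConj_z hF hb)) hT hne (d.r_mem i)
    (d.orderOf_r i)
  intro g hg
  rcases d.cover g hg with ⟨i, rfl⟩ | ⟨i, rfl⟩
  · have := mul_mem (hall i) (hall 0)
    rwa [d.r_mul_r, sub_zero] at this
  · exact hall i

theorem isSimple_of_quasiDihedral (S : Sylow 2 G) (h : IsQuasiDihedral (S : Subgroup G))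
    (hG : ∀ H : Subgroup G, H.index ≠ 2) :
    (groupFusionSystem (S : Subgroup G)).IsSimple 2 := by
  haveI : Fact (Nat.Prime 2) := ⟨Nat.prime_two⟩
  obtain ⟨d⟩ := nonempty_qd h
  obtain ⟨hT6, hQ6⟩ := d.pattern_of_no_index_two hG
  refine groupFusion_isSimple_of_closed S
    (fun h => invol_ne_one d.orderOf_coe_z (mem_bot.1 (h ▸ SetLike.coe_mem _)))
    (isPGroup_mulAut_dihedral_or_qd S.2 (Or.inr h)) fun T hT hne => ?_
  set T' := T.subgroupOf (S : Subgroup G) with hT'
  have hinv : ∀ s : (S : Subgroup G), orderOf s = 2 → s ∈ T' := fun s hs =>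
    mem_subgroupOf.2 (invol_mem_of_closed S
      (fun a b ha hb => isConj_of_card_classes (d.card_invol_classes_one hT6) ha hb) hT hne s.2
      (by rwa [Subgroup.orderOf_coe]))
  have hy : d.x ^ (0 : ℤ) * d.y ∈ T' := hinv _ (d.orderOf_refl_even Even.zero)
  have hy' : d.y ∈ T' := by simpa using hy
  have he : Even ((2 : ℤ) ^ (d.n - 2)) := by
    have := d.three_le
    exact even_iff_two_dvd.2 (dvd_pow_self 2 (by omega))
  have hq : d.q ∈ T' := by
    have := mul_mem (hinv _ (d.orderOf_refl_even he)) hy'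
    rwa [mul_assoc, invol_mul_self d.orderOf_y, mul_one] at this
  have hxy : d.x ^ (1 : ℤ) * d.y ∈ T' := mem_subgroupOf.2 (mem_of_isConj_of_closed hT
    (mem_subgroupOf.1 hq) (SetLike.coe_mem _) (isConj_of_card_classes (d.card_four_classes_one hQ6)
      (by rw [Subgroup.orderOf_coe, d.orderOf_q])
      (by rw [Subgroup.orderOf_coe, d.orderOf_refl_odd odd_one])))
  have hx : d.x ∈ T' := by simpa using mul_mem hxy (inv_mem hy')
  intro g hg
  have : (⟨g, hg⟩ : (S : Subgroup G)) ∈ T' := by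
    rcases d.cover ⟨g, hg⟩ with ⟨i, hi⟩ | ⟨i, hi⟩ <;> rw [hi]
    · exact zpow_mem hx i
    · exact mul_mem (zpow_mem hx i) hy'
  exact mem_subgroupOf.1 this

/-- The automorphism group of a wreathed 2-group is a 2-group. -/
theorem isPGroup_mulAut_wreathed {S : Type*} [Group S] [Finite S] (d : WR S) :
    IsPGroup 2 (MulAut S) := by
  by_contra hA
  have hC : centralizer ((⊤ : Subgroup S) : Set S) ≤ ⊤ := le_top
  have hA' : ¬ IsPGroup 2 (MulAut (⊤ : Subgroup S)) := fun h =>
    hA (h.of_injective (MulAut.congr (Subgroup.topEquiv (G := S)).symm).toMonoidHom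
      (MulEquiv.injective _))
  have h1 : (⊤ : Subgroup S).relIndex (normalizer ((⊤ : Subgroup S) : Set S)) = 1 :=
    relIndex_eq_one.2 le_top
  rcases d.eq_U_or_VV hC hA' with h | ⟨k, h⟩
  · rw [h, d.relIndex_normalizer_U] at h1; omega
  · rw [h, d.relIndex_normalizer_VV k] at h1; omega

theorem isSimple_of_wreathed (S : Sylow 2 G) (h : IsWreathed (S : Subgroup G))
    (hG : ∀ H : Subgroup G, H.index ≠ 2) :
    (groupFusionSystem (S : Subgroup G)).IsSimple 2 := by
  haveI : Fact (Nat.Prime 2) := ⟨Nat.prime_two⟩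
  obtain ⟨d⟩ := nonempty_wr h
  obtain ⟨hU, hV⟩ := d.pattern_of_no_index_two hG
  refine groupFusion_isSimple_of_closed S
    (fun h => invol_ne_one d.orderOf_z0G (mem_bot.1 (h ▸ SetLike.coe_mem _)))
    (isPGroup_mulAut_wreathed d) fun T hT hne => ?_
  set T' := T.subgroupOf (S : Subgroup G) with hT'
  have hOm : d.Omega ≤ T' := by
    rw [← d.closure_invol, closure_le]
    exact fun s hs => mem_subgroupOf.2 (invol_mem_of_closed S
      (fun a b ha hb => isConj_of_card_classes (d.card_invol_classes_one hU hV) ha hb) hT hne s.2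
      (by rw [Subgroup.orderOf_coe]; exact hs))
  have hk : ∀ k : ℤ, d.u k (-k) ∈ T' := fun k => hOm (d.u_mem_Omega.2 (by simp))
  obtain ⟨c, hcN, -, h1, h2⟩ := hU
  obtain ⟨s, t, hst⟩ := d.mem_UG.1 ((mem_normalizer_iff.1 hcN _).1 (d.uG_mem_UG 1 0))
  obtain ⟨s', t', hst'⟩ := d.mem_UG.1 ((mem_normalizer_iff.1 hcN _).1 (d.uG_mem_UG 0 1))
  -- exponents are determined modulo 2 by the action on the involutions
  have hpow : ∀ (i j a b a' b' : ℤ), c * d.uG i j * c⁻¹ = d.uG a b →
      c * d.uG (i * d.half) (j * d.half) * c⁻¹ = d.uG (a' * d.half) (b' * d.half) →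
      Even (a - a') ∧ Even (b - b') := by
    intro i j a b a' b' hab hh
    have e : d.uG (a * d.half) (b * d.half) = d.uG (a' * d.half) (b' * d.half) := by
      rw [← hh]
      have := congrArg (fun g => g ^ d.half) hab
      simp only [conj_zpow] at this
      simp only [WR.uG, ← Subgroup.coe_zpow, d.u_zpow] at this
      exact this.symm
    have key : ∀ a b : ℤ, d.N ∣ a * d.half - b * d.half → Even (a - b) := fun a b h => by
      rw [← sub_mul, d.N_eq] at h
      exact even_iff_two_dvd.2 ((Int.mul_dvd_mul_iff_right d.half_pos.ne').1 h)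
    exact ⟨key _ _ (d.uG_inj.1 e).1, key _ _ (d.uG_inj.1 e).2⟩
  obtain ⟨hs, ht⟩ := hpow 1 0 s t 0 1 hst (by simpa using h1)
  obtain ⟨hs', ht'⟩ := hpow 0 1 s' t' 1 1 hst' (by simpa using h2)
  set m := s + t - (s' + t') with hm
  have hodd : Odd m := by
    obtain ⟨a, ha⟩ := hs
    obtain ⟨b, hb⟩ := ht
    obtain ⟨a', ha'⟩ := hs'
    obtain ⟨b', hb'⟩ := ht'
    exact ⟨a + b - a' - b' - 1, by omega⟩
  have himg : c * d.uG 1 (-1) * c⁻¹ = d.uG (s - s') (t - t') := by
    have e1 : d.uG 1 (-1) = d.uG 1 0 * (d.uG 0 1)⁻¹ := by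
      simp only [WR.uG, ← Subgroup.coe_inv, ← Subgroup.coe_mul, d.u_inv, d.u_mul]
      congr 2 <;> ring
    rw [e1, ← conj_mul, ← conj_inv, hst, hst']
    simp only [WR.uG, ← Subgroup.coe_inv, ← Subgroup.coe_mul, d.u_inv, d.u_mul]
    congr 2
  have hmem : d.u (s - s') (t - t') ∈ T' := by
    refine mem_subgroupOf.2 (mem_of_isConj_of_closed hT (mem_subgroupOf.1 (hk 1))
      (SetLike.coe_mem _) (_root_.isConj_iff.2 ⟨c, ?_⟩))
    exact himg
  have hxm : d.u m 0 ∈ T' := by
    have := mul_mem hmem (hk (t - t'))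
    rw [d.u_mul, add_neg_cancel] at this
    convert this using 2
    omega
  obtain ⟨a, b, hab⟩ : IsCoprime m d.N := by
    rw [WR.N]
    obtain ⟨j, hj⟩ := hodd
    exact IsCoprime.pow_right (⟨1, -j, by linear_combination hj⟩ : IsCoprime m 2)
  have hX : d.u 1 0 ∈ T' := by
    have := zpow_mem hxm a
    rw [d.u_zpow, zero_mul] at this
    convert this using 1
    exact d.u_inj.2 ⟨⟨b, by linear_combination -hab⟩, by simp⟩
  have hY : d.u 0 1 ∈ T' := by
    have := mul_mem hX (inv_mem (hk 1))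
    rw [d.u_inv, d.u_mul] at this
    simpa using this
  have hall : ∀ i j : ℤ, d.u i j ∈ T' := fun i j => by
    have := mul_mem (zpow_mem hX i) (zpow_mem hY j)
    rwa [d.u_zpow, d.u_zpow, d.u_mul, one_mul, zero_mul, zero_mul, one_mul, add_zero,
      zero_add] at this
  have hz : d.z ∈ T' := hOm (d.closure_invol ▸ subset_closure d.orderOf_z)
  intro g hg
  have : (⟨g, hg⟩ : (S : Subgroup G)) ∈ T' := by
    rcases d.cover ⟨g, hg⟩ with ⟨i, j, hi⟩ | ⟨i, j, hi⟩ <;> rw [hi]
    · exact hall i j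
    · exact mul_mem (hall i j) hz
  exact mem_subgroupOf.1 this

end CfsgLib.Fusion
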