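import Cfsg.Agent.Lib.Fusion.RankTwoTypesCenter
import Cfsg.Agent.Lib.Fusion.MaxClassMain
import Cfsg.Agent.Lib.Fusion.WreathedRealize
import Cfsg.Agent.Lib.Fusion.GroupNormal
import Cfsg.Agent.Lib.Fusion.GroupIso
import Cfsg.Agent.Lib.Fusion.Components

/-!
# Simple systems on 2-groups of rank two are those of `PSL₂(q)` and `PSL₃(q)`

A simple system has trivial centre, so the Sylow types are known and the system is realised by a
finite group; simplicity puts the Sylow subgroup inside the derived group, which makes all classes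
of essential subgroups present, as in the two linear groups.
-/

set_option autoImplicit false
set_option linter.style.haveILetI false

namespace CfsgLib.Fusion

open Cfsg Cfsg.FusionSystem Subgroup

variable {Ω : Type*} [Group Ω] {S : Subgroup Ω} {F : FusionSystem S}

/-- A realisation is an isomorphism onto the system of the group. -/
theorem isIso_of_realized {G : Type*} [Group G] {ι : S →* G} (hr : F.IsRealizedBy ι)
    {T : Subgroup G} (hT : T = ι.range) :
    ∃ θ : Ω → G, IsIso F θ (groupFusionSystem T) := by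
  classical
  let θ : Ω → G := fun x => if h : x ∈ S then ι ⟨x, h⟩ else 1
  have hθ : ∀ {x : Ω} (hx : x ∈ S), θ x = ι ⟨x, hx⟩ := fun {x} hx => dif_pos hx
  have hmul : ∀ x ∈ S, ∀ y ∈ S, θ (x * y) = θ x * θ y := fun x hx y hy => by
    rw [hθ hx, hθ hy, hθ (mul_mem hx hy), ← map_mul]; rfl
  have hmem : ∀ x ∈ S, θ x ∈ T := fun x hx => by rw [hT, hθ hx]; exact ⟨_, rfl⟩
  refine ⟨θ, hmul, fun x hx y hy e => ?_, le_antisymm (imgT_le hmem) ?_, fun P f hf => ?_,
    fun P hP f' hf' => ?_⟩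
  · rw [hθ hx, hθ hy] at e
    exact congrArg Subtype.val (hr.1 e)
  · rw [hT]
    rintro _ ⟨⟨x, hx⟩, rfl⟩
    exact hθ hx ▸ mem_imgT_of_mem θ hx
  · obtain ⟨g, hg⟩ := exists_induces hr hf
    have key : ∀ x ∈ P, cj g (θ x) = θ (f x) := fun x hx => by
      rw [hθ (hf.le hx), hθ (hf.mem hx), cj_apply]
      exact (hg ⟨x, hf.le hx⟩ ⟨f x, hf.mem hx⟩ hx rfl).symm
    refine ⟨cj g, isMor_group.mpr ⟨imgT_le fun x hx => hmem x (hf.le hx), fun y hy => ?_, g,
      fun _ _ => rfl⟩, key⟩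
    obtain ⟨x, hx, rfl⟩ := (mem_imgT_iff hmul hf.le).mp hy
    rw [key x hx]
    exact hmem _ (hf.mem hx)
  · obtain ⟨-, hfT, g, hg⟩ := isMor_group.mp hf'
    have hgood : ∀ a : S, (a : Ω) ∈ P → g * ι a * g⁻¹ ∈ ι.range := fun a ha => by
      have h1 := hfT _ (mem_imgT_of_mem θ ha)
      rw [hg _ (mem_imgT_of_mem θ ha), cj_apply, hθ a.2, hT] at h1
      exact h1
    refine ⟨pullConj ι g, (isMor_pullConj hr hP hgood).1, fun x hx => ?_⟩
    obtain ⟨b, hb, hbe⟩ := pullConj_spec ι (hgood ⟨x, hP hx⟩ hx)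
    simp only at hb
    rw [hg _ (mem_imgT_of_mem θ hx), cj_apply, hθ (hP hx), ← hb, hθ b.2]
    exact hbe.symm

/-- Simplicity leaves no room below the Sylow subgroup of a realising group. -/
theorem sylow_inf_of_simple [Finite S] {p : ℕ} [Fact p.Prime] (hS : IsPGroup p S)
    (h : F.IsSimple p) {G : Type*} [Group G] [Finite G] {ι : S →* G} (hr : F.IsRealizedBy ι)
    (T : Sylow p G) (hT : (T : Subgroup G) = ι.range) (N : Subgroup G) [N.Normal] :
    (T : Subgroup G) ⊓ N = ⊥ ∨ (T : Subgroup G) ≤ N := by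
  obtain ⟨θ, hθ⟩ := isIso_of_realized hr hT
  rcases (hθ.isSimple hS h).2.2 _ _ (group_normal_subsystem T N) with e | ⟨e, -⟩
  · exact Or.inl e
  · exact Or.inr (inf_eq_left.1 e)

/-- A simple system on a noncyclic rank two group has no normal subgroup. -/
theorem eq_bot_of_isNormal_of_simple [Finite S] (hS : IsPGroup 2 S) (h : F.IsSimple 2)
    (hr : PRankAtLeast 2 2 ↥S) {Q : Subgroup Ω} (hQ : F.IsNormal Q) : Q = ⊥ := by
  haveI : Fact (Nat.Prime 2) := ⟨Nat.prime_two⟩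
  by_contra hne
  obtain ⟨hQS, hall⟩ := (h.2.2 Q _ (inner_isNormalIn hS h.1 hQ)).resolve_left hne
  have hinn : ∀ P f, IsMor F P f → ∃ g ∈ S, ∀ x ∈ P, f x = cj g x := fun P f hf => by
    obtain ⟨-, g, hg, hge⟩ := isMor_inner.mp ((hom_eq_iff.mp (hall P) f).mpr hf)
    exact ⟨g, hQS ▸ hg, hge⟩
  -- the centre is normal, so everything
  have hcen : ∀ z ∈ S, (∀ g ∈ S, g * z = z * g) → F.IsNormal (zpowers z) := fun z hz hzc =>
    isNormal_of_isCentral (RankTwoTypes.isCentral_of_fixed h.1 hz hzc fun f hf => by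
      obtain ⟨g, hg, hge⟩ := hinn _ f hf
      rw [hge z (mem_zpowers z), cj_apply, hzc g hg, mul_inv_cancel_right])
  obtain ⟨A, hAc, hA2, hA⟩ := hr
  haveI : Nontrivial ↥S := by
    by_contra h1
    rw [not_nontrivial_iff_subsingleton] at h1
    rw [Nat.card_unique] at hA
    norm_num at hA
  haveI := hS.center_nontrivial
  obtain ⟨c, hc⟩ := exists_prime_orderOf_dvd_card' 2 (G := ↥(center ↥S))
    (by
      obtain ⟨n, hn0, hn⟩ := ((hS.to_subgroup (center ↥S)).nontrivial_iff_card).1 inferInstance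
      exact hn ▸ dvd_pow_self 2 (by omega))
  have hc2 : orderOf ((c : S) : Ω) = 2 := by
    rw [Subgroup.orderOf_coe, Subgroup.orderOf_coe, hc]
  have hcz : ∀ g ∈ S, g * ((c : S) : Ω) = (c : S) * g := fun g hg =>
    congrArg Subtype.val (mem_center_iff.1 c.2 ⟨g, hg⟩)
  have hn := inner_isNormalIn hS h.1 (hcen _ (c : S).2 hcz)
  rcases h.2.2 _ _ hn with e | ⟨e, -⟩
  · rw [zpowers_eq_bot] at e
    rw [e, orderOf_one] at hc2
    omega
  · have h2 : Nat.card S = 2 := by rw [← e, Nat.card_zpowers, hc2]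
    have h4 : Nat.card A ≤ Nat.card ↥S :=
      Nat.card_le_card_of_injective _ A.subtype_injective
    omega

theorem exists_sylow_equiv_projHom {q : ℕ} [Fact q.Prime] (hq2 : 2 ≤ q) (hqo : Odd q)
    (Q : Sylow 2 (GL (Fin 2) (ZMod q)))
    (T : Sylow 2 (Matrix.ProjectiveSpecialLinearGroup (Fin 3) (ZMod q))) :
    Nonempty ((Q : Subgroup (GL (Fin 2) (ZMod q))) ≃* (T : Subgroup (Matrix.ProjectiveSpecialLinearGroup (Fin 3) (ZMod q)))) := by
  have hF : Odd (Nat.card (ZMod q)) := by rwa [Nat.card_zmod]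
  exact sylow_two_equiv_of_hom (Involutions.PSL3.projHom (ZMod q))
    (fun A hA => by
      obtain ⟨a, ha, h⟩ := (Involutions.PSL3.ker_projHom A).1 hA
      refine Odd.of_dvd_nat (show Odd 3 by decide) (orderOf_dvd_of_pow_eq_one (Units.ext ?_))
      rw [Units.val_pow_eq_pow_val, h, ← map_pow, ha, map_one, Units.val_one])
    (a := Nat.gcd 3 (Nat.card (ZMod q) - 1))
    (b := Nat.card (ZMod q) * Nat.card (ZMod q) *
      (Nat.card (ZMod q) * Nat.card (ZMod q) + Nat.card (ZMod q) + 1))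
    (Odd.of_dvd_nat (by decide) (Nat.gcd_dvd_left 3 _))
    ((hF.mul hF).mul (((hF.mul hF).add_odd hF).add_one))
    (by
      rw [Classical.card_GL_two, Classical.card_PSL_mul 3 (by omega), Classical.card_SL_fin']
      have h3 : Nat.card (ZMod q) ^ 3 - 1 = (Nat.card (ZMod q) - 1) *
          (Nat.card (ZMod q) * Nat.card (ZMod q) + Nat.card (ZMod q) + 1) := by
        obtain ⟨t, ht⟩ : ∃ t, Nat.card (ZMod q) = t + 1 :=
          ⟨_, (Nat.sub_add_cancel (Nat.card_pos (α := ZMod q))).symm⟩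
        rw [ht, Nat.add_sub_cancel]
        exact Nat.sub_eq_of_eq_add (by ring)
      simp only [Finset.prod_range_succ, Finset.prod_range_zero, zero_add, one_mul,
        Nat.reduceAdd, Nat.reduceSub, Nat.reduceMul, Nat.reduceDiv, h3]
      ring) Q T

/-- With every class essential, a perfect group with the same Sylow subgroup realises the system. -/
theorem MC.realizedBy_of_all [Finite S] (d : MC S) (hS : IsPGroup 2 S) (hF : F.IsSaturated 2)
    {G : Type*} [Group G] [Finite G] (T : Sylow 2 G) (hG : commutator G = ⊤)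
    (e : S ≃* (T : Subgroup G)) (h : ∀ i, d.Pat F i) :
    ∃ ι : S →* G, F.IsRealizedBy ι ∧ (T : Subgroup G) = ι.range := by
  haveI : Fact (Nat.Prime 2) := ⟨Nat.prime_two⟩
  obtain ⟨F', hF', hr⟩ := exists_system_of_sylow T e
  have hT := (Involutions.WR.range_comp_equiv (T : Subgroup G) e).symm
  have : F = F' := d.eq_of_pat hS hF hF' fun i =>
    iff_of_true (h i) ((d.pat_iff hS hF' hr T hT i).2 (hG ▸ mem_top _))
  exact ⟨_, this ▸ hr, hT⟩

/-- `PSL₂(q)` with a Sylow subgroup dihedral of order `2m`. -/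
theorem exists_PSL2_dihedral {m j : ℕ} (hm : 4 ≤ m) (hj : 2 * m = 2 ^ j) :
    ∃ (q : ℕ) (_ : Fact q.Prime), Odd q ∧ (q % 8 = 1 ∨ q % 8 = 7) ∧
      commutator (Matrix.ProjectiveSpecialLinearGroup (Fin 2) (ZMod q)) = ⊤ ∧
      ∃ T : Sylow 2 (Matrix.ProjectiveSpecialLinearGroup (Fin 2) (ZMod q)),
        Nonempty ((T : Subgroup (Matrix.ProjectiveSpecialLinearGroup (Fin 2) (ZMod q))) ≃* DihedralGroup m) := by
  haveI : Fact (Nat.Prime 2) := ⟨Nat.prime_two⟩
  have hj3 : 3 ≤ j := by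
    by_contra h
    have := Nat.pow_le_pow_right two_pos (show j ≤ 2 by omega)
    omega
  obtain ⟨k, rfl⟩ : ∃ k, j = k + 1 := ⟨j - 1, by omega⟩
  obtain ⟨q, hq, hq5, hq4, a, b, ha, hb, e1, e2⟩ := exists_prime_two_part (show 2 ≤ k + 1 by omega)
  haveI : Fact q.Prime := ⟨hq⟩
  have hqo : Odd q := hq.odd_of_ne_two (by omega)
  have hodd : Odd (Nat.card (ZMod q)) := by rw [Nat.card_zmod]; exact hqo
  have hsq : q ^ 2 - 1 = (q + 1) * (q - 1) := by rw [← Nat.sq_sub_sq, one_pow]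
  obtain ⟨T⟩ : Nonempty (Sylow 2 (Matrix.ProjectiveSpecialLinearGroup (Fin 2) (ZMod q))) :=
    inferInstance
  obtain ⟨m', hm', ⟨f⟩⟩ := sylow_PSL2_dihedral hodd (by
    rw [Nat.card_zmod, hsq, e1, e2]
    refine dvd_trans ?_ (Dvd.intro (a * b) (show 2 ^ (k + 2) * (a * b) = _ by
      rw [pow_succ 2 (k + 1)]; ring))
    exact (pow_dvd_pow 2 (show 4 ≤ k + 2 by omega))) T
  have hTc : Nat.card T = 2 ^ (k + 1) := by
    refine card_sylow_of_eq T rfl (c := q * a * b) ?_ ((hqo.mul ha).mul hb)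
    refine Nat.eq_of_mul_eq_mul_left two_pos ((card_PSL2_eq hodd).trans ?_)
    rw [Nat.card_zmod, hsq, e1, e2]
    ring
  have hmm : m' = m := by
    haveI : NeZero m' := ⟨by omega⟩
    have := (Nat.card_congr f.toEquiv).symm.trans hTc
    rw [DihedralGroup.nat_card] at this
    omega
  subst hmm
  refine ⟨q, inferInstance, hqo, Or.inr ?_, Classical.PSL_commutator_eq_top_of_SL
    (Classical.SL_fin_commutator_eq_top 2 le_rfl fun _ => by rw [Nat.card_zmod]; omega), T, ⟨f⟩⟩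
  have h8 : 8 ∣ 2 ^ (k + 1) := (show 8 = 2 ^ 3 from rfl) ▸ pow_dvd_pow 2 (by omega)
  obtain ⟨c, hc⟩ := h8
  rw [hc, mul_assoc] at e1
  omega

/-- `PSL₃(q)` with a quasidihedral Sylow subgroup of prescribed order. -/
theorem exists_PSL3_quasiDihedral {k : ℕ} (hk : 2 ≤ k) :
    ∃ (q : ℕ) (_ : Fact q.Prime), Odd q ∧
      commutator (Matrix.ProjectiveSpecialLinearGroup (Fin 3) (ZMod q)) = ⊤ ∧
      ∃ T : Sylow 2 (Matrix.ProjectiveSpecialLinearGroup (Fin 3) (ZMod q)),
        Nat.card T = 2 ^ (k + 2) ∧ IsQuasiDihedral (T : Subgroup (Matrix.ProjectiveSpecialLinearGroup (Fin 3) (ZMod q))) := by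
  haveI : Fact (Nat.Prime 2) := ⟨Nat.prime_two⟩
  obtain ⟨q, hq, hq5, hq4, a, b, ha, hb, e1, e2⟩ := exists_prime_two_part hk
  haveI : Fact q.Prime := ⟨hq⟩
  have hqo : Odd q := hq.odd_of_ne_two (by omega)
  obtain ⟨Q⟩ : Nonempty (Sylow 2 (GL (Fin 2) (ZMod q))) := inferInstance
  obtain ⟨T⟩ : Nonempty (Sylow 2 (Matrix.ProjectiveSpecialLinearGroup (Fin 3) (ZMod q))) :=
    inferInstance
  have hQ := Involutions.isQuasiDihedral_sylow_GL (F := ZMod q) (by rw [Nat.card_zmod]; omega) Q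
  obtain ⟨e⟩ := exists_sylow_equiv_projHom (q := q) (by omega) hqo Q T
  refine ⟨q, inferInstance, hqo, Classical.PSL_commutator_eq_top_of_SL
    (Classical.SL_fin_commutator_eq_top 3 (by omega) fun h => by omega), T, ?_,
    Rec.TransVec.isQuasiDihedral_congr e hQ⟩
  rw [← Nat.card_congr e.toEquiv]
  refine card_sylow_of_eq Q rfl (c := b * (q * a * b)) ?_ (hb.mul ((hqo.mul ha).mul hb))
  rw [Classical.card_GL_two, Nat.card_zmod, show q ^ 2 - 1 = (q + 1) * (q - 1) by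
    rw [← Nat.sq_sub_sq, one_pow], e1, e2]
  ring

/-- `PSL₃(q)` with a wreathed Sylow subgroup of prescribed order. -/
theorem exists_PSL3_wreathed {n : ℕ} (hn : 2 ≤ n) :
    ∃ (q : ℕ) (_ : Fact q.Prime), Odd q ∧
      commutator (Matrix.ProjectiveSpecialLinearGroup (Fin 3) (ZMod q)) = ⊤ ∧
      ∃ (T : Sylow 2 (Matrix.ProjectiveSpecialLinearGroup (Fin 3) (ZMod q)))
        (d : Involutions.WR (T : Subgroup (Matrix.ProjectiveSpecialLinearGroup (Fin 3) (ZMod q)))), d.n = n := by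
  haveI : Fact (Nat.Prime 2) := ⟨Nat.prime_two⟩
  obtain ⟨q, hq, hq5, hq4, a, b, ha, hb, e1, e2⟩ := Involutions.WR.exists_prime_one_mod hn
  haveI : Fact q.Prime := ⟨hq⟩
  have hqo : Odd q := hq.odd_of_ne_two (by omega)
  obtain ⟨Q⟩ : Nonempty (Sylow 2 (GL (Fin 2) (ZMod q))) := inferInstance
  obtain ⟨T⟩ : Nonempty (Sylow 2 (Matrix.ProjectiveSpecialLinearGroup (Fin 3) (ZMod q))) :=
    inferInstance
  obtain ⟨dQ⟩ := Involutions.nonempty_wr
    (Involutions.isWreathed_sylow_GL (F := ZMod q) (by rw [Nat.card_zmod]; omega) Q)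
  have hdn : dQ.n = n := dQ.n_eq (by
    refine card_sylow_of_eq Q rfl (c := a * (q * a * b)) ?_ (ha.mul ((hqo.mul ha).mul hb))
    rw [Classical.card_GL_two, Nat.card_zmod, show q ^ 2 - 1 = (q + 1) * (q - 1) by
      rw [← Nat.sq_sub_sq, one_pow], e1, e2, pow_succ, two_mul n, pow_add]
    ring)
  obtain ⟨e⟩ := exists_sylow_equiv_projHom (q := q) (by omega) hqo Q T
  exact ⟨q, inferInstance, hqo, Classical.PSL_commutator_eq_top_of_SL
    (Classical.SL_fin_commutator_eq_top 3 (by omega) fun h => by omega), T, dQ.map e, hdn⟩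

end CfsgLib.Fusion

namespace CfsgLib.Involutions.WR

open Cfsg Cfsg.FusionSystem Subgroup CfsgLib.Fusion

variable {Ω : Type*} [Group Ω] {S : Subgroup Ω} [Finite S] {F : FusionSystem S}

/-- If the Sylow subgroup lies in the derived group, the base group is essential. -/
theorem pu_of_le_commutator (d : WR S) {G : Type*} [Group G] [Finite G] {ι : S →* G}
    (hF : F.IsSaturated 2) (hr : F.IsRealizedBy ι) (T : Sylow 2 G)
    (hT : (T : Subgroup G) = ι.range) (hG : (T : Subgroup G) ≤ commutator G) : d.PU F := by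
  haveI : Fact (Nat.Prime 2) := ⟨Nat.prime_two⟩
  by_contra hpu
  have hle := d.commutator_inf_le hF hr T hT d.index_MM fun P hP => by
    rcases d.cases_of_essential hP with rfl | ⟨k, rfl⟩
    · exact absurd (not_isPGroup_autGroup_of_essential d.isTwoGroup hP) hpu
    · exact map_mono (d.VV_le_MM k)
  have hm : ι (d.u 1 0) ∈ (T : Subgroup G) := hT ▸ ⟨_, rfl⟩
  obtain ⟨w, hw, e⟩ := hle (mem_inf.2 ⟨hG hm, hm⟩)
  rw [hr.1 e] at hw
  exact absurd (d.MM_parity hw) (by simp)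

/-- Both classes essential: a perfect group with the same Sylow subgroup realises the system. -/
theorem realizedBy_of_both (d : WR S) (hF : F.IsSaturated 2) (hU : d.Theta F) (hV : d.PV F)
    {G : Type*} [Group G] [Finite G] (T : Sylow 2 G) (dT : WR (T : Subgroup G)) (hn : dT.n = d.n)
    (hG : commutator G = ⊤) :
    ∃ ι : S →* G, F.IsRealizedBy ι ∧ (T : Subgroup G) = ι.range := by
  haveI : Fact (Nat.Prime 2) := ⟨Nat.prime_two⟩
  obtain ⟨e₀, -, -⟩ := d.exists_equiv dT hn.symm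
  obtain ⟨F₀, hF₀, hr₀⟩ := exists_system_of_sylow T e₀
  have hT₀ := (range_comp_equiv (T : Subgroup G) e₀).symm
  obtain ⟨d', hd'n, α, hα, hαe⟩ := d.exists_normal_form hF₀
    (d.pu_of_realized hF₀ hr₀ T hT₀ hG)
  obtain ⟨f, hf, -⟩ := d.exists_equiv d' hd'n.symm
  obtain ⟨F', hF', hr⟩ := exists_system_of_sylow T (f.trans e₀)
  have hT := (range_comp_equiv (T : Subgroup G) (f.trans e₀)).symm
  set ι := (T : Subgroup G).subtype.comp (f.trans e₀).toMonoidHom with hι
  set ι₀ := (T : Subgroup G).subtype.comp e₀.toMonoidHom with hι₀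
  have hu : ∀ i j, ι (d.u i j) = ι₀ (d'.u i j) := fun i j =>
    congrArg (fun s => ((e₀ s : T) : G)) (hf i j)
  obtain ⟨φ, hφ, hφe⟩ := isMor_autFun d'.UO_le hα
  obtain ⟨g, hg⟩ := (hr₀.2 d'.UO d'.UO_le φ
    (fun a => by rw [hφe a]; exact d'.UO_le (autFun_mem α a.2))).mp hφ
  have hg' : ∀ i j, g * ι (d.u i j) * g⁻¹ = ι (d.u (-j) (i - j)) := by
    intro i j
    rw [hu, hu]
    have h1 := hg ⟨d'.uO i j, d'.uO_mem i j⟩
    simp only [hφe ⟨d'.uO i j, d'.uO_mem i j⟩, hαe] at h1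
    exact h1.symm
  have hgood : ∀ a : S, (a : Ω) ∈ d.UO → g * ι a * g⁻¹ ∈ ι.range := by
    intro a ha
    obtain ⟨i, j, e⟩ := d.mem_UO.1 ha
    rw [show a = d.u i j from Subtype.ext e, hg']
    exact ⟨_, rfl⟩
  have hTheta' : d.Theta F' := by
    obtain ⟨hm, -⟩ := isMor_pullConj hr d.UO_le hgood
    obtain ⟨β, hβ, hβe⟩ := exists_aut hm (d.img_UO hm)
    refine ⟨β, hβ, fun i j => ?_⟩
    rw [hβe _ (d.uO_mem i j)]
    obtain ⟨b, hb, hbe⟩ := pullConj_spec ι (hgood (d.u i j) (d.uO_mem i j))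
    rw [hg'] at hbe
    exact hb.symm.trans (congrArg Subtype.val (hr.1 hbe))
  have hne : ¬ ∀ a ∈ commutator G ⊓ (T : Subgroup G), ∀ b ∈ commutator G ⊓ (T : Subgroup G),
      a * b = b * a := fun hab => dT.not_commute_a_r 0 (Subtype.ext
    (hab _ (mem_inf.2 ⟨hG ▸ mem_top _, (dT.u dT.half 0).2⟩) _
      (mem_inf.2 ⟨hG ▸ mem_top _, (dT.r 0).2⟩)))
  have hV' : d.PV F' := d.pv_of_realized hF' hr T hT hne
  have : F = F' := fusion_le_antisymm
    (d.le_of_pattern hF hF' (fun _ => ⟨hU, hTheta'⟩) fun _ => hV')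
    (d.le_of_pattern hF' hF (fun _ => ⟨hTheta', hU⟩) fun _ => hV)
  exact ⟨ι, this ▸ hr, hT⟩

end CfsgLib.Involutions.WR
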