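import Cfsg.Agent.Lib.Fusion.SmallControl
import Cfsg.Agent.Lib.PGroups.Commutator

/-! Small abelian subgroups of a strongly closed subgroup control fusion. -/

set_option autoImplicit false

universe u

namespace CfsgLib.Fusion

open Cfsg Cfsg.FusionSystem
open scoped commutatorElement

variable {p : ℕ} [hp : Fact p.Prime]

/-- A product of small elements with central commutator and central `p`-th power is small. -/
theorem small_mul_of_central {G : Type*} [Group G] {a b : G} (ha : Small p a) (hb : Small p b)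
    (hap : a ^ p ∈ Subgroup.center G) (hc : ⁅b, a⁆ ∈ Subgroup.center G) : Small p (a * b) := by
  have hcp : ⁅b, a⁆ ^ p = 1 := by
    rw [← CfsgLib.PGroups.commutator_pow_right_of_central hc p,
      commutatorElement_eq_one_iff_commute]
    exact Subgroup.mem_center_iff.mp hap b
  have h := CfsgLib.PGroups.mul_pow_of_central hc (a := a) (b := b)
  by_cases h2 : p = 2
  · subst h2
    have h4 : ∀ z : G, Small 2 z → z ^ 4 = 1 := fun z hz =>
      hz.elim (fun e => by rw [show (4 : ℕ) = 2 * 2 from rfl, pow_mul, e, one_pow]) (·.2)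
    refine Or.inr ⟨rfl, ?_⟩
    rw [h 4, h4 a ha, h4 b hb, show Nat.choose 4 2 = 2 * 3 from rfl, pow_mul, hcp, one_pow,
      one_mul, one_mul]
  · obtain ⟨k, hk⟩ : p ∣ Nat.choose p 2 :=
      hp.out.dvd_choose_self two_ne_zero (lt_of_le_of_ne hp.out.two_le (Ne.symm h2))
    refine Or.inl ?_
    rw [h p, ha.resolve_right fun e => h2 e.1, hb.resolve_right fun e => h2 e.1, hk, pow_mul, hcp,
      one_pow, one_mul, one_mul]

variable {Ω : Type u} [Group Ω] {S : Subgroup Ω} [Finite S] {V : Subgroup Ω}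

/-- The small elements of `Z(S) ∩ V`. -/
def smallZ (p : ℕ) (S V : Subgroup Ω) : Subgroup Ω where
  carrier := {x | x ∈ centralizerIn S S ∧ x ∈ V ∧ Small p x}
  one_mem' := ⟨one_mem _, one_mem _, small_one⟩
  mul_mem' := fun {a b} ha hb => ⟨mul_mem ha.1 hb.1, mul_mem ha.2.1 hb.2.1,
    small_mul_of_commute (cj_fixed_iff.mp ((mem_centralizerIn.mp ha.1).2 b
      (centralizerIn_le hb.1))) ha.2.2 hb.2.2⟩
  inv_mem' := fun {a} ha => ⟨inv_mem ha.1, inv_mem ha.2.1, small_inv ha.2.2⟩

omit hp [Finite S] in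
theorem mem_smallZ {x : Ω} :
    x ∈ smallZ p S V ↔ x ∈ centralizerIn S S ∧ x ∈ V ∧ Small p x := Iff.rfl

omit hp [Finite S] in
theorem smallAb_smallZ : SmallAb p (smallZ p S V) where
  comm := fun x hx y hy =>
    cj_fixed_iff.mp ((mem_centralizerIn.mp hx.1).2 y (centralizerIn_le hy.1))
  small := fun _ hx => hx.2.2

/-- Small noncentral elements of `V` can be found with central commutators. -/
theorem exists_small_second (hS : IsPGroup p S) (hVS : V ≤ S)
    (hVn : ∀ g ∈ S, ∀ x ∈ V, cj g x ∈ V)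
    (hex : ∃ x ∈ V, Small p x ∧ x ∉ centralizerIn S S) :
    ∃ x ∈ V, Small p x ∧ x ∉ centralizerIn S S ∧
      ∀ g ∈ S, x⁻¹ * cj g x ∈ centralizerIn S S := by
  classical
  obtain ⟨n, hn⟩ := exists_ucs_eq_top hS
  have hexi : ∃ i, ∃ x, x ∈ V ∧ Small p x ∧ x ∉ centralizerIn S S ∧ x ∈ ucs S i := by
    obtain ⟨x, h1, h2, h3⟩ := hex
    exact ⟨n, x, h1, h2, h3, hn.ge (hVS h1)⟩
  have hmin : ∀ j < Nat.find hexi, ∀ y ∈ V, Small p y → y ∈ ucs S j →
      y ∈ centralizerIn S S := fun j hj y hy hs hu => by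
    by_contra h
    exact Nat.find_min hexi hj ⟨y, hy, hs, h, hu⟩
  obtain ⟨x₀, hx₀⟩ := Nat.find_spec hexi
  obtain ⟨x, hxV, hxs, hxc, hxu, hxp⟩ : ∃ x, x ∈ V ∧ Small p x ∧ x ∉ centralizerIn S S ∧
      x ∈ ucs S (Nat.find hexi) ∧ x ^ p ∈ centralizerIn S S := by
    by_cases h : x₀ ^ p ∈ centralizerIn S S
    · exact ⟨x₀, hx₀.1, hx₀.2.1, hx₀.2.2.1, hx₀.2.2.2, h⟩
    · rcases hx₀.2.1 with e | ⟨e2, e4⟩
      · exact absurd (e ▸ one_mem _) h
      · have e : (x₀ ^ p) ^ p = 1 := by
          subst e2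
          rw [← pow_mul]
          exact e4
        exact ⟨_, pow_mem hx₀.1 p, Or.inl e, h, pow_mem hx₀.2.2.2 p, e.symm ▸ one_mem _⟩
  cases hk : Nat.find hexi with
  | zero =>
    rw [hk, ucs_zero, Subgroup.mem_bot] at hxu
    exact absurd (hxu ▸ one_mem _) hxc
  | succ k =>
    rw [hk] at hxu
    have hxS : x ∈ S := hVS hxV
    have hu : ∀ i, ucs S i ≤ S := fun i => Subgroup.map_subtype_le _
    suffices h : ∀ j, ∀ g ∈ ucs S j, x⁻¹ * cj g x ∈ centralizerIn S S from
      ⟨x, hxV, hxs, hxc, fun g hg => h n g (hn.ge hg)⟩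
    intro j
    induction j with
    | zero =>
      intro g hg
      rw [ucs_zero, Subgroup.mem_bot] at hg
      rw [hg, cj_one, inv_mul_cancel]
      exact one_mem _
    | succ j ih =>
      intro g hg
      have hgS : g ∈ S := hu _ hg
      set y := x⁻¹ * cj g x with hy
      have hyk : y ∈ ucs S k := ucs_step hxu hgS
      have hyV : y ∈ V := V.mul_mem (V.inv_mem hxV) (hVn g hgS x hxV)
      have hyj : y ∈ ucs S j := by
        have := (ucs S j).inv_mem
          (ucs_step ((ucs S (j + 1)).inv_mem hg) (S.inv_mem hxS))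
        rwa [show ((g⁻¹)⁻¹ * cj x⁻¹ g⁻¹)⁻¹ = y by simp [hy, cj, mul_assoc]] at this
      have he : x⁻¹ * cj y x ∈ centralizerIn S S := ih y hyj
      have hyS : y ∈ S := hu _ hyk
      have hbS : cj g x ∈ S := S.mul_mem (S.mul_mem hgS hxS) (S.inv_mem hgS)
      have hcen : ∀ z : S, (z : Ω) ∈ centralizerIn S S → z ∈ Subgroup.center S := fun z hz =>
        Subgroup.mem_center_iff.mpr fun w =>
          Subtype.ext (cj_fixed_iff.mp ((mem_centralizerIn.mp hz).2 w w.2)).symm
      set a : S := ⟨x⁻¹, S.inv_mem hxS⟩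
      set b : S := ⟨cj g x, hbS⟩
      have hca : ⁅b, a⁆ ∈ Subgroup.center S := by
        refine hcen _ ?_
        have h1 : ((⁅b, a⁆ : S) : Ω) = x * (x⁻¹ * cj y x)⁻¹ * x⁻¹ := by
          simp [a, b, hy, cj, commutatorElement_def, mul_assoc]
        rw [h1]
        have h2 := (centralizerIn S S).inv_mem he
        have h3 : x * (x⁻¹ * cj y x)⁻¹ * x⁻¹ = (x⁻¹ * cj y x)⁻¹ := by
          have h4 := cj_fixed_iff.mp ((mem_centralizerIn.mp h2).2 x hxS)
          rw [← h4, mul_inv_cancel_right]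
        rw [h3]
        exact h2
      have hap : a ^ p ∈ Subgroup.center S := hcen _ (by
        show (x⁻¹) ^ p ∈ _
        rw [inv_pow]
        exact inv_mem hxp)
      have hsm : ∀ z : S, Small p (z : Ω) → Small p z := fun z hz =>
        hz.imp (fun e => Subtype.ext (by simpa using e))
          (fun e => ⟨e.1, Subtype.ext (by simpa using e.2)⟩)
      have hys : Small p y := by
        have h := small_mul_of_central (hsm a (small_inv hxs)) (hsm b (small_cj g hxs)) hap hca
        exact h.imp (fun e => by simpa [a, b, hy] using congrArg Subtype.val e)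
          (fun e => ⟨e.1, by simpa [a, b, hy] using congrArg Subtype.val e.2⟩)
      exact hmin k (hk ▸ Nat.lt_succ_self k) y hyV hys hyk

variable {E F : FusionSystem S}

omit hp in
theorem conj_mem_absorbs (hV : Absorbs p V F) : ∀ g ∈ S, ∀ x ∈ V, cj g x ∈ V :=
  fun g hg x hx => hV.closed V _ (isMor_cj F hV.le hg) x hx hx

/-- Induction step: `Z` is fixed by every map. -/
theorem le_of_fixed (hS : IsPGroup p S) (hE : E.IsSaturated p) (hF : F.IsSaturated p)
    (hEF : E.IsSubsystemOf F) (hV : Absorbs p V F) (hag : Agree p V E F)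
    (hfix : ∀ P f, IsMor F P f → ∀ x ∈ P, x ∈ smallZ p S V → f x = x)
    (IH : ∀ A : Subgroup Ω, centralizerIn S A < S → ∀ (W : Subgroup Ω)
      (C C' : FusionSystem (centralizerIn S A)), C.IsSaturated p → C'.IsSaturated p →
      C'.IsSubsystemOf C → Absorbs p W C → Agree p W C' C → C.IsSubsystemOf C') :
    F ≤ E := by
  set Z := smallZ p S V with hZ
  by_cases hex : ∃ x ∈ V, Small p x ∧ x ∉ centralizerIn S S
  swap
  · push Not at hex
    have hpg : ∀ P : Subgroup Ω, P ≤ S → IsPGroup p (F.autGroup P) := by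
      intro P hP
      have := finite_mulAut (P := P) hP
      obtain ⟨D, hDle, hsm, -, hfaith⟩ := exists_small_detecting (F := F) hS hP hV.closed
        (hV.diff P hP)
      rintro ⟨α, hα⟩
      obtain ⟨a, c, hc', hn'⟩ := Nat.exists_eq_pow_mul_and_not_dvd (orderOf_pos α).ne' p hp.out.ne_one
      refine ⟨a, Subtype.ext ?_⟩
      refine hfaith _ ((F.autGroup P).pow_mem hα _) ?_ fun x hx => ?_
      · show (orderOf (α ^ p ^ a)).Coprime p
        rw [orderOf_pow_of_dvd (pow_ne_zero a hp.out.ne_zero) (hn' ▸ dvd_mul_right _ _), hn',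
          Nat.mul_div_cancel_left _ (pow_pos hp.out.pos a)]
        exact (Nat.Coprime.symm ((hp.out.coprime_iff_not_dvd).mpr hc'))
      · exact hfix P _ (isMor_autFun hP ((F.autGroup P).pow_mem hα _)) x (hDle hx).1
          ⟨hex x (hDle hx).2 (hsm x hx), (hDle hx).2, hsm x hx⟩
    rw [eq_inner_of_isPGroup hS hF hpg]
    exact inner_isSubsystemOf E
  obtain ⟨x, hxV, hxs, hxc, hxg⟩ := exists_small_second hS hV.le (conj_mem_absorbs hV) hex
  have hxS : x ∈ S := hV.le hxV
  set A := Z ⊔ Subgroup.zpowers x with hA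
  have hZS : Z ≤ S := fun z hz => centralizerIn_le hz.1
  have hAsm : SmallAb p A := smallAb_smallZ.sup (SmallAb.zpowers hxs) fun a ha b hb =>
    cj_fixed_iff.mp ((mem_centralizerIn.mp ha.1).2 b (Subgroup.zpowers_le.mpr hxS hb))
  have hAV : A ≤ V := sup_le (fun z hz => hz.2.1) (Subgroup.zpowers_le.mpr hxV)
  have hAS : A ≤ S := hAV.trans hV.le
  have hcomz : ∀ g ∈ S, ∀ d ∈ V, Small p d → d⁻¹ * cj g d ∈ centralizerIn S S →
      d⁻¹ * cj g d ∈ Z := by
    intro g hg d hd hds hc
    refine ⟨hc, V.mul_mem (V.inv_mem hd) (conj_mem_absorbs hV g hg d hd),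
      small_mul_of_commute ?_ (small_inv hds) (small_cj g hds)⟩
    have h1 := cj_fixed_iff.mp ((mem_centralizerIn.mp hc).2 d (hV.le hd))
    -- `d` commutes with `d⁻¹ * cj g d`
    exact (show Commute d (cj g d) by
      show d * cj g d = cj g d * d
      calc d * cj g d = d * ((d⁻¹ * cj g d) * d) * d⁻¹ * d := by rw [h1]; group
        _ = cj g d * d := by group).inv_left
  have hAn : normalizerIn S A = S := by
    refine mem_normalizer_of_conj_le fun s hs => ?_
    have hm : IsMor F A (cj s) := isMor_cj F hAS hs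
    rw [hA, IsMor.img_sup (hA ▸ hm)]
    refine sup_le (img_le fun z hz => ?_) (img_le fun y hy => ?_)
    · rw [show cj s z = z from
        cj_fixed_iff.mpr (cj_fixed_iff.mp ((mem_centralizerIn.mp hz.1).2 s hs)).symm]
      exact Subgroup.mem_sup_left hz
    · obtain ⟨k, rfl⟩ := Subgroup.mem_zpowers_iff.mp hy
      rw [hm.map_zpow (Subgroup.mem_sup_right (Subgroup.mem_zpowers x))]
      refine zpow_mem ?_ k
      have h2 := (Z ⊔ Subgroup.zpowers x).mul_mem (Subgroup.mem_sup_right (Subgroup.mem_zpowers x))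
        (Subgroup.mem_sup_left (hcomz s hs x hxV hxs (hxg s hs)))
      rwa [mul_inv_cancel_left] at h2
  have hlt : centralizerIn S A < S := by
    refine lt_of_le_of_ne centralizerIn_le fun e => hxc ?_
    refine mem_centralizerIn.mpr ⟨hxS, fun y hy => ?_⟩
    exact cj_fixed_iff.mpr (cj_fixed_iff.mp ((mem_centralizerIn.mp (e.ge hy)).2 x
      (Subgroup.mem_sup_right (Subgroup.mem_zpowers x)))).symm
  -- `A` lies in every centric radical subgroup
  have hAP : ∀ P, F.IsCentric P → F.IsRadical p P → A ≤ P := by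
    intro P hc hr
    have hcP : centralizerIn S S ≤ P :=
      (centralizerIn_anti hc.1).trans (centric_centralizer_le hc)
    refine sup_le (fun z hz => hcP hz.1) (Subgroup.zpowers_le.mpr ?_)
    have hxd : ∀ d ∈ S, d⁻¹ * cj x d ∈ centralizerIn S S := by
      intro d hd
      have h := hxg d⁻¹ (S.inv_mem hd)
      have h' := cj_fixed_iff.mp ((mem_centralizerIn.mp h).2 x hxS)
      have e : d⁻¹ * cj x d = x * (x⁻¹ * cj d⁻¹ x) * x⁻¹ := by simp [cj, mul_assoc]
      rwa [e, ← h', mul_inv_cancel_right]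
    obtain ⟨D, hDle, hsm, hDinv, hfaith⟩ := exists_small_detecting (F := F) hS hc.1 hV.closed
      (hV.diff P hc.1)
    have hxn : x ∈ normalizerIn S P := by
      refine mem_normalizerIn.mpr ⟨hxS, Subgroup.mem_normalizer_iff.mpr fun d => ⟨fun hd => ?_, fun hd => ?_⟩⟩
      · have := P.mul_mem hd (hcP (hxd d (hc.1 hd)))
        rwa [mul_inv_cancel_left] at this
      · have hdS : d ∈ S := by
          have := S.mul_mem (S.mul_mem (S.inv_mem hxS) (hc.1 hd)) hxS
          simpa [mul_assoc] using this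
        have := P.mul_mem hd (P.inv_mem (hcP (hxd d hdS)))
        simpa [cj, mul_assoc] using this
    let W : ℕ → Subgroup Ω := fun i => if i = 0 then ⊥ else if i = 1 then Z else S
    refine mem_of_stabilizing_small hS hc hr (hDle.trans inf_le_left) hDinv hfaith 2 W
      (fun α hα i d hd hdW => ?_) (by simp [W]) (by simpa [W] using (hDle.trans inf_le_left).trans hc.1)
      hxn ?_
    · simp only [W] at hdW ⊢
      split_ifs at hdW ⊢ with h0 h1
      · rw [Subgroup.mem_bot] at hdW ⊢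
        subst hdW
        rw [autFun_of_mem α P.one_mem]
        exact congrArg Subtype.val (map_one α)
      · rw [hfix P _ (isMor_autFun hc.1 hα) d (hDle hd).1 hdW]
        exact hdW
      · exact hc.1 (autFun_mem α (hDle hd).1)
    · intro i hi d hd hdW
      interval_cases i
      · simp only [W, zero_add, one_ne_zero, if_false, if_true] at hdW ⊢
        rw [show cj x d = d from
          cj_fixed_iff.mpr (cj_fixed_iff.mp ((mem_centralizerIn.mp hdW.1).2 x hxS)).symm, inv_mul_cancel]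
        exact one_mem _
      · simp only [W, one_ne_zero, if_false, if_true]
        exact hcomz x hxS d (hDle hd).2 (hsm d hd) (hxd d (hc.1 (hDle hd).1))
  -- the normalizer systems of `A`
  have key : ∀ G : FusionSystem S, G.IsSaturated p → ∃ N : FusionSystem S, N.IsSaturated p ∧
      N.IsNormal A ∧ ∀ P f, IsMor N P f ↔ IsMor G P f ∧
        ∃ g, IsMor G (P ⊔ A) g ∧ (∀ y ∈ P, g y = f y) ∧ img A g = A := by
    intro G hG
    obtain ⟨N₀, hN₀⟩ := Cfsg.Agent.S5096.result G A hAS
    obtain ⟨N, hN, hiff⟩ := exists_system_of_eq_saturated hAn N₀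
      (normalizerSystem_isSaturated hS hG (isFullyNormalized_of_normal hAS hAn) hN₀)
    have hiff' : ∀ P f, IsMor N P f ↔ IsMor G P f ∧
        ∃ g, IsMor G (P ⊔ A) g ∧ (∀ y ∈ P, g y = f y) ∧ img A g = A := by
      intro P f
      rw [hiff, isMor_normalizerSystem hN₀, hAn]
      exact ⟨fun h => ⟨h.1, h.2.2.2⟩, fun h => ⟨h.1, h.1.le, fun y hy => h.1.mem hy, h.2⟩⟩
    refine ⟨N, hN, isNormal_iff.mpr ⟨hAS, fun P f hf => ?_⟩, hiff'⟩
    obtain ⟨-, g, hg, hgf, hgA⟩ := (hiff' P f).mp hf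
    refine ⟨g, (hiff' _ g).mpr ⟨hg, g, ?_, fun _ _ => rfl, hgA⟩, hgf, hgA⟩
    rwa [sup_assoc, sup_idem]
  obtain ⟨M, hM, hMn, hMiff⟩ := key E hE
  obtain ⟨N, hN, hNn, hNiff⟩ := key F hF
  have hMN : M.IsSubsystemOf N := le_iff_isMor.mpr fun P f hf => by
    obtain ⟨h1, g, hg, hgf, hgA⟩ := (hMiff P f).mp hf
    exact (hNiff P f).mpr ⟨le_iff_isMor.mp hEF _ _ h1, g, le_iff_isMor.mp hEF _ _ hg, hgf, hgA⟩
  have hNM : N ≤ M := by
    refine le_of_normal_small hS hM hN hMN hMn hNn hAsm.comm (fun f hf => ?_)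
      fun U f g hU hfU hf hg hgf hgA => ?_
    · obtain ⟨h1, g, hg, hgf, hgA⟩ := (hNiff A f).mp hf
      rw [sup_idem] at hg
      exact (hMiff A f).mpr ⟨hag A f hAV hAsm h1, g, by
        rw [sup_idem]; exact hag A g hAV hAsm hg, hgf, hgA⟩
    · obtain ⟨g', hg', hgf', hgA'⟩ := centralizer_maps hE hF hS hEF hAS hAn hAsm hAV hV hag
        (fun C C' => IH A hlt _ C C') hU hfU ((hNiff _ _).mp hf).1 ((hNiff _ _).mp hg).1 hgf hgA
      exact (hMiff U f).mpr ⟨(hg'.restrict le_sup_left).congr hgf', g', hg', hgf',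
        (img_congr (g := id) hgA').trans (img_id A)⟩
  refine alperin hS hF fun P hP α hα => ?_
  obtain ⟨hc, hr⟩ : F.IsCentric P ∧ F.IsRadical p P := by
    rcases hP with rfl | hP
    · exact ⟨centric_self F, radical_self hS hF⟩
    · exact ⟨hP.1, essential_radical hS hP⟩
  have hPS := hc.1
  have hAle := hAP P hc hr
  have hαm := isMor_autFun hPS hα
  have haE : IsMor E A (autFun α) := hag A _ hAV hAsm (hαm.restrict hAle)
  obtain ⟨k, hk, hkl, -, hki⟩ := haE.inverse
  have hrec : E.IsReceptive A := isReceptive_of_centralized hS hE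
    (isFullyCentralized_of_normalized hS hE (isFullyNormalized_of_normal hAS hAn))
  obtain ⟨g, hg, hgk⟩ := (isReceptive_iff.mp hrec).2 _ k hk hki
  have hAnorm : ∀ d ∈ S, ∀ a ∈ A, cj d a ∈ A := fun d hd a ha =>
    (Subgroup.mem_normalizer_iff.mp (mem_normalizerIn.mp (hAn.ge hd)).2 a).mp ha
  have hPn : P ≤ nExt S (img A (autFun α)) k := by
    intro y hy
    have hconj : ∀ w ∈ P, ∀ v ∈ img A (autFun α), cj w v ∈ img A (autFun α) := by
      intro w hw v hv
      obtain ⟨u, hu, rfl⟩ := haE.mem_img.mp hv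
      have hw' : autFun α⁻¹ w ∈ P := autFun_mem _ hw
      have : autFun α (cj (autFun α⁻¹ w) u) = cj w (autFun α u) := by
        rw [show autFun α (cj (autFun α⁻¹ w) u) = cj (autFun α (autFun α⁻¹ w)) (autFun α u) from
          hαm.map_conj hw' (hAle hu), autFun_inv_right α hw]
      rw [← this]
      exact mem_img_of_mem _ (hAnorm _ (hPS hw') u hu)
    refine mem_nExt.mpr ⟨hPS hy, Subgroup.mem_normalizer_iff.mpr fun v => ⟨fun hv => hconj y hy v hv,
      fun hv => ?_⟩, autFun α⁻¹ y, hPS (autFun_mem _ hy), fun v hv => ?_⟩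
    · have := hconj _ (P.inv_mem hy) _ hv
      rwa [show cj y⁻¹ (y * v * y⁻¹) = v from cj_inv_cj y v] at this
    · obtain ⟨u, hu, rfl⟩ := haE.mem_img.mp hv
      have hyu : cj (autFun α⁻¹ y) u ∈ A := hAnorm _ (hPS (autFun_mem _ hy)) u hu
      have : autFun α (cj (autFun α⁻¹ y) u) = cj y (autFun α u) := by
        rw [show autFun α (cj (autFun α⁻¹ y) u) = cj (autFun α (autFun α⁻¹ y)) (autFun α u) from
          hαm.map_conj (autFun_mem _ hy) (hAle hu), autFun_inv_right α hy]
      rw [← this, hkl _ hyu, hkl u hu]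
  have hgP : IsMor E P g := hg.restrict hPn
  have hh : IsMor F P (g ∘ autFun α) :=
    hαm.comp (le_iff_isMor.mp hEF _ _ hgP) fun y hy => autFun_mem α hy
  have hhA : ∀ a ∈ A, (g ∘ autFun α) a = a := fun a ha => by
    show g (autFun α a) = a
    rw [hgk _ (mem_img_of_mem _ ha)]
    exact hkl a ha
  have hhN : IsMor N P (g ∘ autFun α) := (hNiff _ _).mpr ⟨hh, _, by
    rwa [sup_eq_left.mpr hAle], fun _ _ => rfl, (img_congr (g := id) hhA).trans (img_id A)⟩
  have hhE : IsMor E P (g ∘ autFun α) := ((hMiff _ _).mp (le_iff_isMor.mp hNM _ _ hhN)).1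
  obtain ⟨g', hg', hgl, -, -⟩ := hgP.inverse
  refine (autGroup_eq_set hPS α).mpr ?_
  exact (hhE.comp hg' fun y hy => mem_img_of_mem g (autFun_mem α hy)).congr fun y hy =>
    hgl _ (autFun_mem α hy)

/-- Small abelian subgroups of `V` control fusion. -/
theorem le_of_agree (hS : IsPGroup p S) (hE : E.IsSaturated p) (hF : F.IsSaturated p)
    (hEF : E.IsSubsystemOf F) (hV : Absorbs p V F) (hag : Agree p V E F) : F ≤ E := by
  suffices h : ∀ n : ℕ, ∀ (S : Subgroup Ω) [Finite S], Nat.card S = n → IsPGroup p S →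
      ∀ m : ℕ, ∀ (E F : FusionSystem S), sysSize F = m → ∀ V : Subgroup Ω, E.IsSaturated p →
        F.IsSaturated p → E.IsSubsystemOf F → Absorbs p V F → Agree p V E F → F ≤ E from
    h _ S rfl hS _ E F rfl V hE hF hEF hV hag
  intro n
  induction n using Nat.strong_induction_on with
  | _ n ihn =>
  intro S _ hn hS m
  induction m using Nat.strong_induction_on with
  | _ m ihm =>
  intro E F hm V hE hF hEF hV hag
  set Z := smallZ p S V with hZ
  have IH : ∀ A : Subgroup Ω, centralizerIn S A < S → ∀ (W : Subgroup Ω)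
      (C C' : FusionSystem (centralizerIn S A)), C.IsSaturated p → C'.IsSaturated p →
      C'.IsSubsystemOf C → Absorbs p W C → Agree p W C' C → C.IsSubsystemOf C' := by
    intro A hlt W C C' hC hC' hsub hW hagW
    have : Finite ↥(centralizerIn S A) := finite_of_le centralizerIn_le
    exact ihn _ (hn ▸ card_lt_of_lt le_rfl hlt) _ rfl (isPGroup_of_le centralizerIn_le hS) _ C' C
      rfl W hC' hC hsub hW hagW
  by_cases hfix : ∀ P f, IsMor F P f → ∀ x ∈ P, x ∈ Z → f x = x
  · exact le_of_fixed hS hE hF hEF hV hag hfix IH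
  have hZc : Z ≤ centralizerIn S S := fun z hz => hz.1
  have hZS : Z ≤ S := hZc.trans centralizerIn_le
  have hCS : centralizerIn S Z = S := le_antisymm centralizerIn_le fun s hs =>
    mem_centralizerIn.mpr ⟨hs, fun z hz => cj_fixed_iff.mpr
      (cj_fixed_iff.mp ((mem_centralizerIn.mp (hZc hz)).2 s hs)).symm⟩
  have hZn : normalizerIn S Z = S :=
    le_antisymm normalizerIn_le (hCS.ge.trans centralizerIn_le_normalizerIn)
  have hfc : ∀ G : FusionSystem S, G.IsSaturated p → G.IsFullyCentralized Z := fun G hG =>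
    isFullyCentralized_of_normalized hS hG (isFullyNormalized_of_normal hZS hZn)
  obtain ⟨C₀, hC₀⟩ := Cfsg.Agent.S5097.result F Z hZS
  obtain ⟨C₀', hC₀'⟩ := Cfsg.Agent.S5097.result E Z hZS
  obtain ⟨C, hC, hCi⟩ := exists_system_of_eq_saturated hCS C₀
    (centralizerSystem_isSaturated hS hF (hfc F hF) hC₀)
  obtain ⟨C', hC', hCi'⟩ := exists_system_of_eq_saturated hCS C₀'
    (centralizerSystem_isSaturated hS hE (hfc E hE) hC₀')
  have hCF : C.IsSubsystemOf F := le_iff_isMor.mpr fun P f hf =>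
    ((isMor_centralizerSystem hC₀).mp ((hCi P f).mp hf)).1
  have hne : ¬ F ≤ C := fun hle => hfix fun P f hf x hx hxZ => by
    obtain ⟨-, -, -, g, -, hgf, hgZ⟩ :=
      (isMor_centralizerSystem hC₀).mp ((hCi P f).mp (le_iff_isMor.mp hle P f hf))
    rw [← hgf x hx]
    exact hgZ x hxZ
  have hsub : C'.IsSubsystemOf C := le_iff_isMor.mpr fun P f hf => by
    obtain ⟨h1, h2, h3, g, hg, hgf, hgZ⟩ := (isMor_centralizerSystem hC₀').mp ((hCi' P f).mp hf)
    exact (hCi P f).mpr ((isMor_centralizerSystem hC₀).mpr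
      ⟨le_iff_isMor.mp hEF _ _ h1, h2, h3, g, le_iff_isMor.mp hEF _ _ hg, hgf, hgZ⟩)
  have hVC : Absorbs p V C := ⟨hV.le,
    fun P f hf => hV.closed P f (le_iff_isMor.mp hCF P f hf),
    fun P hP α hα => hV.diff P hP α (autGroup_mono hCF hα)⟩
  have hagC : Agree p V C' C := fun B f hBV hB hf => by
    obtain ⟨-, h2, h3, g, hg, hgf, hgZ⟩ := (isMor_centralizerSystem hC₀).mp ((hCi B f).mp hf)
    have hBZ : SmallAb p (B ⊔ Z) := hB.sup smallAb_smallZ fun b hb z hz =>
      cj_fixed_iff.mp ((mem_centralizerIn.mp (h2 hb)).2 z hz)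
    have hgE := hag (B ⊔ Z) g (sup_le hBV fun z hz => hz.2.1) hBZ hg
    exact (hCi' B f).mpr ((isMor_centralizerSystem hC₀').mpr
      ⟨(hgE.restrict le_sup_left).congr hgf, h2, h3, g, hgE, hgf, hgZ⟩)
  have hle : C ≤ C' := ihm _ (hm ▸ sysSize_lt hS hF hCF hne) C' C rfl V hC' hC hsub hVC hagC
  refine alperin hS hF fun P hP α hα => ?_
  have hc : F.IsCentric P := by
    rcases hP with rfl | hP
    · exact centric_self F
    · exact hP.1
  have hPS := hc.1
  have hZP : Z ≤ P :=
    hZc.trans ((centralizerIn_anti hPS).trans (centric_centralizer_le hc))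
  have hαm := isMor_autFun hPS hα
  have haE : IsMor E Z (autFun α) :=
    hag Z _ (fun z hz => hz.2.1) smallAb_smallZ (hαm.restrict hZP)
  obtain ⟨k, hk, hkl, -, hki⟩ := haE.inverse
  have hrec : E.IsReceptive Z := isReceptive_of_centralized hS hE (hfc E hE)
  obtain ⟨g, hg, hgk⟩ := (isReceptive_iff.mp hrec).2 _ k hk hki
  have hPn : P ≤ nExt S (img Z (autFun α)) k := by
    refine le_trans ?_ (centralizerIn_le_nExt k)
    intro y hy
    refine mem_centralizerIn.mpr ⟨hPS hy, fun v hv => ?_⟩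
    obtain ⟨u, hu, rfl⟩ := haE.mem_img.mp hv
    have hy' : autFun α⁻¹ y ∈ P := autFun_mem _ hy
    have h1 : cj (autFun α⁻¹ y) u = u :=
      (mem_centralizerIn.mp (hCS.ge (hPS hy'))).2 u hu
    have h2 := hαm.map_conj hy' (hZP hu)
    rw [autFun_inv_right α hy] at h2
    exact h2.symm.trans (congrArg (autFun α) h1)
  have hgP : IsMor E P g := hg.restrict hPn
  have hh : IsMor F P (g ∘ autFun α) :=
    hαm.comp (le_iff_isMor.mp hEF _ _ hgP) fun y hy => autFun_mem α hy
  have hhC : IsMor C P (g ∘ autFun α) := (hCi _ _).mpr ((isMor_centralizerSystem hC₀).mpr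
    ⟨hh, hCS.ge.trans' hPS, fun y hy => hCS.ge (hh.mem hy), _, by rwa [sup_eq_left.mpr hZP],
      fun _ _ => rfl, fun z hz => by
        show g (autFun α z) = z
        rw [hgk _ (mem_img_of_mem _ hz)]
        exact hkl z hz⟩)
  have hhE : IsMor E P (g ∘ autFun α) :=
    ((isMor_centralizerSystem hC₀').mp ((hCi' _ _).mp (le_iff_isMor.mp hle _ _ hhC))).1
  obtain ⟨g', hg', hgl, -, -⟩ := hgP.inverse
  refine (autGroup_eq_set hPS α).mpr ?_
  exact (hhE.comp hg' fun y hy => mem_img_of_mem g (autFun_mem α hy)).congr fun y hy =>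
    hgl _ (autFun_mem α hy)

end CfsgLib.Fusion
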