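import Mathlib
import Cfsg.Agent.Lib.Fusion.AlperinAbove
import Cfsg.Agent.Lib.Fusion.NormalizerSaturated
import Cfsg.Agent.Lib.Fusion.Criteria
import Cfsg.Agent.Lib.Fusion.Coprime
import Cfsg.Agent.Lib.PGroups.Omega
import Cfsg.Agent.Lib.PGroups.Generation
import Cfsg.Agent.S5097

/-!
# Abelian subgroups of small exponent control fusion

If a saturated subsystem `E` of a saturated system `F` agrees with it on the abelian subgroups of
exponent dividing `q` (`q = p` odd or `q = 4`) then `E = F`.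

The proof is by induction on the number of maps, through the centralizer systems `C_F(B)` and the
systems of maps inducing on `B` elements of a fixed group of induced automorphisms.
-/

set_option autoImplicit false

open scoped commutatorElement

namespace CfsgLib.Fusion.SmallExp

open Cfsg Cfsg.FusionSystem CfsgLib.Fusion

universe u

variable {p : ℕ} [hp : Fact p.Prime]

/-- An automorphism of order prime to `p` of a `p`-group fixing the elements of order dividing
`p ^ n` (`p ^ n ≠ 2`, `n ≠ 0`) is trivial. -/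
theorem eq_one_of_fix_small {P : Type u} [Group P] [Finite P] (hP : IsPGroup p P) {n : ℕ}
    (hn0 : n ≠ 0) (hn : p ^ n ≠ 2) {α : MulAut P} (hα : (orderOf α).Coprime p)
    (hfix : ∀ x : P, x ^ p ^ n = 1 → α x = x) : α = 1 := by
  induction hc : Nat.card P using Nat.strong_induction_on generalizing P with
  | _ m ih =>
  subst hc
  by_cases hP1 : Subsingleton P
  · exact MulEquiv.ext fun x => Subsingleton.elim _ _
  have : Nontrivial P := not_subsingleton_iff_nontrivial.mp hP1
  -- invariant proper subgroups are fixed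
  have hsub : ∀ K : Subgroup P, K ≠ ⊤ → (∀ β : MulAut P, β ∈ Subgroup.zpowers α →
      ∀ x ∈ K, β x ∈ K) → ∀ x ∈ K, α x = x := by
    intro K hK hinv x hx
    let ρ : Subgroup.zpowers α →* MulAut K :=
      MonoidHom.mk' (fun β =>
        { toFun := fun y => ⟨β.1 y, hinv _ β.2 y y.2⟩
          invFun := fun y => ⟨(β.1)⁻¹ y, hinv _ (inv_mem β.2) y y.2⟩
          left_inv := fun y => Subtype.ext (by simp)
          right_inv := fun y => Subtype.ext (by simp)
          map_mul' := fun y z => Subtype.ext (by simp) })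
        fun β γ => MulEquiv.ext fun y => Subtype.ext rfl
    have hcop : (orderOf (ρ ⟨α, Subgroup.mem_zpowers α⟩)).Coprime p := by
      refine Nat.Coprime.of_dvd_left ((orderOf_map_dvd ρ _).trans ?_) hα
      exact dvd_of_eq (Subgroup.orderOf_mk α _)
    have hlt : Nat.card K < Nat.card P := by
      refine lt_of_le_of_ne (Nat.le_of_dvd Nat.card_pos (Subgroup.card_subgroup_dvd_card K)) ?_
      exact fun h => hK (Subgroup.card_eq_iff_eq_top K |>.mp h)
    have h1 := ih _ hlt (P := K) (hP.to_subgroup K) hcop (fun y hy => Subtype.ext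
      (hfix y (congrArg Subtype.val hy))) rfl
    exact congrArg Subtype.val (MulEquiv.congr_fun h1 ⟨x, hx⟩)
  have hchar : ∀ (β : MulAut P) (K : Subgroup P), K.Characteristic → ∀ x ∈ K, β x ∈ K :=
    fun β K hK x hx => (Subgroup.characteristic_iff_map_eq.mp hK β).le ⟨x, hx, rfl⟩
  have hΦ := hsub (frattini P) CfsgLib.PGroups.frattini_ne_top
    fun β _ => hchar β _ inferInstance
  refine MulEquiv.ext fun x => ?_
  show α x = x
  set d := x⁻¹ * α x with hd
  suffices hdf : α d = d by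
    have hpow : ∀ k : ℕ, (α ^ k) x = x * d ^ k := by
      intro k
      induction k with
      | zero => simp
      | succ k ihk =>
        rw [pow_succ', MulAut.mul_apply, ihk, map_mul, map_pow, hdf,
          show α x = x * d by rw [hd, mul_inv_cancel_left], mul_assoc, ← pow_succ']
    have h1 := hpow (orderOf α)
    rw [pow_orderOf_eq_one, MulAut.one_apply] at h1
    obtain ⟨k, hk⟩ := hP d
    have h2 : orderOf d = 1 := Nat.eq_one_of_dvd_coprimes (hα.pow_right k)
      (orderOf_dvd_of_pow_eq_one (left_eq_mul.mp h1)) (orderOf_dvd_of_pow_eq_one hk)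
    rw [orderOf_eq_one_iff, hd, inv_mul_eq_one] at h2
    exact h2.symm
  have hdC : d ∈ Subgroup.centralizer (frattini P : Set P) := by
    rw [Subgroup.mem_centralizer_iff]
    intro w hw
    have h1 : α (x * w * x⁻¹) = x * w * x⁻¹ :=
      hΦ _ ((inferInstance : (frattini P).Normal).conj_mem w hw x)
    rw [map_mul, map_mul, map_inv, hΦ w hw, show α x = x * d by rw [hd, mul_inv_cancel_left],
      mul_inv_rev] at h1
    have h2 : d * w * d⁻¹ = w := by
      have := congrArg (fun y => x⁻¹ * y * x) h1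
      simpa [mul_assoc] using this
    exact (mul_inv_eq_iff_eq_mul.mp h2).symm
  by_cases hC : Subgroup.centralizer (frattini P : Set P) = ⊤
  swap
  · exact hsub _ hC (fun β _ => hchar β _ inferInstance) d hdC
  have hcen : frattini P ≤ Subgroup.center P := fun w hw => Subgroup.mem_center_iff.mpr fun g =>
    ((Subgroup.mem_centralizer_iff.mp (hC ▸ Subgroup.mem_top g)) w hw).symm
  have hcomm : ∀ a b : P, ⁅a, b⁆ ∈ Subgroup.center P := fun a b => hcen
    (CfsgLib.PGroups.commutator_le_frattini hP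
      (Subgroup.commutator_mem_commutator (Subgroup.mem_top a) (Subgroup.mem_top b)))
  have hcp : ∀ a b : P, ⁅a, b⁆ ^ p = 1 := fun a b => by
    rw [← CfsgLib.PGroups.commutator_pow_left_of_central (hcomm a b),
      commutatorElement_eq_one_iff_mul_comm]
    exact (Subgroup.mem_center_iff.mp (hcen (CfsgLib.PGroups.pow_mem_frattini hP a)) b).symm
  refine hfix d ?_
  have hxq : x ^ p ^ n ∈ frattini P := by
    obtain ⟨k, rfl⟩ : ∃ k, n = k + 1 := ⟨n - 1, by omega⟩
    rw [pow_succ', pow_mul]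
    exact pow_mem (CfsgLib.PGroups.pow_mem_frattini hP x) _
  have h1 := hΦ _ hxq
  rw [map_pow, show α x = x * d by rw [hd, mul_inv_cancel_left],
    CfsgLib.PGroups.mul_pow_of_commute
      ((Subgroup.mem_center_iff.mp (hcomm d x) x).symm)
      ((Subgroup.mem_center_iff.mp (hcomm d x) d).symm)] at h1
  obtain ⟨c, hc⟩ := hp.out.dvd_choose_pow (n := n) (k := 2) two_ne_zero fun h => hn h.symm
  rwa [hc, pow_mul, hcp, one_pow, mul_one, mul_eq_left] at h1

/-- The ambient version. -/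
theorem autFun_eq_one_of_fix_small {Ω : Type u} [Group Ω] {P : Subgroup Ω} [Finite P]
    (hP : IsPGroup p P) {n : ℕ} (hn0 : n ≠ 0) (hn : p ^ n ≠ 2) {α : MulAut P}
    (hα : (orderOf α).Coprime p) (hfix : ∀ x ∈ P, x ^ p ^ n = 1 → autFun α x = x) : α = 1 :=
  eq_one_of_fix_small hP hn0 hn hα fun x hx => Subtype.ext
    ((autFun_coe α x).symm.trans (hfix x x.2 (congrArg Subtype.val hx)))

variable {Ω : Type u} [Group Ω] {S : Subgroup Ω}

/-- Abelian of exponent dividing `q`. -/
def Small (q : ℕ) (A : Subgroup Ω) : Prop :=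
  (∀ a ∈ A, ∀ b ∈ A, a * b = b * a) ∧ ∀ a ∈ A, a ^ q = 1

/-- The systems have the same maps on small abelian subgroups. -/
def Agree (q : ℕ) (E F : FusionSystem S) : Prop :=
  ∀ A f, IsMor F A f → Small q A → IsMor E A f

/-! ### Maps inducing on `B` elements of `T` -/

/-- The condition on maps. -/
def Cond (F : FusionSystem S) (T B : Subgroup Ω) (P : Subgroup Ω) (f : Ω → Ω) : Prop :=
  IsMor F P f ∧ P ≤ T ∧ (∀ x ∈ P, f x ∈ T) ∧
    ∃ g, IsMor F (P ⊔ B) g ∧ (∀ x ∈ P, g x = f x) ∧ ∃ t ∈ T, ∀ x ∈ B, g x = cj t x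

variable {T B : Subgroup Ω}

theorem cj_mem_of_le (hTN : T ≤ normalizerIn S B) {t : Ω} (ht : t ∈ T) {x : Ω} (hx : x ∈ B) :
    cj t x ∈ B :=
  ((Subgroup.mem_normalizer_iff.mp (mem_normalizerIn.mp (hTN ht)).2) x).mp hx

theorem exists_condSystem (F : FusionSystem S) (hBS : B ≤ S) (hTN : T ≤ normalizerIn S B) :
    ∃ G : FusionSystem T, ∀ P f, IsMor G P f ↔ Cond F T B P f := by
  have hTS : T ≤ S := hTN.trans normalizerIn_le
  refine ⟨ofPred T (Cond F T B) (fun P f h => ⟨h.2.1, h.2.2.1⟩)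
    (fun P f h x hx y hy e => h.1.inj hx hy e) ?_ ?_ ?_ ?_, fun P f => ?_⟩
  · rintro P f f' ⟨hf, hP, hm, g, hg, hgf, hgB⟩ e
    exact ⟨hf.congr e, hP, fun x hx => e x hx ▸ hm x hx, g, hg,
      fun x hx => (hgf x hx).trans (e x hx), hgB⟩
  · intro P a hP ha
    exact ⟨isMor_cj F (hP.trans hTS) (hTS ha), hP,
      fun x hx => T.mul_mem (T.mul_mem ha (hP hx)) (T.inv_mem ha), cj a,
      isMor_cj F (sup_le (hP.trans hTS) hBS) (hTS ha), fun _ _ => rfl, a, ha, fun _ _ => rfl⟩
  · rintro P R f k ⟨hf, hP, hm, g, hg, hgf, t, ht, hgB⟩ ⟨hk, hR, hm', g', hg', hgk, t', ht', hgB'⟩ hfR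
    refine ⟨hf.comp hk hfR, hP, fun x hx => hm' _ (hfR x hx), g' ∘ g, hg.comp hg' ?_,
      fun x hx => ?_, t' * t, T.mul_mem ht' ht, fun x hx => ?_⟩
    · intro x hx
      have h1 := mem_img_of_mem g hx
      rw [hg.img_sup, img_congr hgf] at h1
      exact sup_le_sup (img_le hfR) (img_le fun y hy => hgB y hy ▸ cj_mem_of_le hTN ht hy) h1
    · show g' (g x) = k (f x)
      rw [hgf x hx, hgk _ (hfR x hx)]
    · show g' (g x) = _
      rw [hgB x hx, hgB' _ (cj_mem_of_le hTN ht hx), cj_mul]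
  · rintro P f ⟨hf, hP, hm, g, hg, hgf, t, ht, hgB⟩ -
    obtain ⟨g', hg', hl, -, -⟩ := hg.inverse
    have hle : img P f ≤ img (P ⊔ B) g :=
      (img_congr (fun x hx => (hgf x hx).symm)).le.trans (img_mono g le_sup_left)
    have hl' : ∀ x ∈ P, g' (f x) = x := fun x hx => by
      rw [← hgf x hx]; exact hl x (Subgroup.mem_sup_left hx)
    have hB' : ∀ y ∈ B, g (cj t⁻¹ y) = y := fun y hy => by
      rw [hgB _ (cj_mem_of_le hTN (T.inv_mem ht) hy), cj_cj_inv]
    have hBg : B ≤ img (P ⊔ B) g := fun y hy =>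
      hB' y hy ▸ mem_img_of_mem g (Subgroup.mem_sup_right (cj_mem_of_le hTN (T.inv_mem ht) hy))
    refine ⟨g', ⟨hg'.restrict hle, img_le hm, ?_, g', hg'.restrict (sup_le hle hBg),
      fun _ _ => rfl, t⁻¹, T.inv_mem ht, ?_⟩, hl'⟩
    · intro y hy
      obtain ⟨x, hx, rfl⟩ := hf.mem_img.mp hy
      rw [hl' x hx]
      exact hP hx
    · intro y hy
      conv_lhs => rw [← hB' y hy]
      exact hl _ (Subgroup.mem_sup_right (cj_mem_of_le hTN (T.inv_mem ht) hy))
  · exact isMor_ofPred fun h x hx y hy => h.1.map_mul hx hy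

theorem condSystem_isSaturated [Finite S] (hS : IsPGroup p S) {F : FusionSystem S}
    (hF : F.IsSaturated p) (hBr : F.IsReceptive B) (hTN : T ≤ normalizerIn S B)
    (hCT : centralizerIn S B ≤ T) {G : FusionSystem T}
    (hG : ∀ P f, IsMor G P f ↔ Cond F T B P f) : G.IsSaturated p := by
  let c : MapCond F B :=
    { Good := fun g => ∃ t ∈ T, ∀ x ∈ B, g x = cj t x
      le := hBr.1
      congr := fun {g g'} h e => by
        obtain ⟨t, ht, h⟩ := h
        exact ⟨t, ht, fun x hx => (e x hx).symm.trans (h x hx)⟩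
      id' := ⟨1, T.one_mem, fun x _ => (cj_one x).symm⟩
      maps := fun {g} h x hx => by
        obtain ⟨t, ht, h⟩ := h
        exact h x hx ▸ cj_mem_of_le hTN ht hx
      comp := fun {g g'} h h' => by
        obtain ⟨t, ht, h⟩ := h
        obtain ⟨t', ht', h'⟩ := h'
        exact ⟨t' * t, T.mul_mem ht' ht, fun x hx => by
          rw [Function.comp_apply, h x hx, h' _ (cj_mem_of_le hTN ht hx), cj_mul]⟩
      inv := fun {g g'} _ h e => by
        obtain ⟨t, ht, h⟩ := h
        refine ⟨t⁻¹, T.inv_mem ht, fun x hx => ?_⟩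
        have hy := cj_mem_of_le hTN (T.inv_mem ht) hx
        have h1 := e _ hy
        rwa [h _ hy, cj_cj_inv] at h1 }
  refine c.isSaturated hS hF G (fun a => ?_) hG fun φ hφ => ?_
  · constructor
    · exact fun ha => ⟨(mem_normalizerIn.mp (hTN ha)).1, (mem_normalizerIn.mp (hTN ha)).2,
        a, ha, fun x _ => rfl⟩
    · rintro ⟨haS, -, t, ht, h⟩
      have h1 : t⁻¹ * a ∈ centralizerIn S B := by
        refine mem_centralizerIn.mpr
          ⟨S.mul_mem (S.inv_mem (mem_normalizerIn.mp (hTN ht)).1) haS, fun x hx => ?_⟩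
        rw [cj_mul, h x hx, cj_inv_cj]
      simpa using T.mul_mem ht (hCT h1)
  · obtain ⟨k, hk, hkl, -, hki⟩ := hφ.inverse
    obtain ⟨g, hg, hge⟩ := (isReceptive_iff.mp hBr).2 (img B φ) k hk hki
    refine ⟨_, g, hg, le_nExt hk, ⟨1, T.one_mem, fun x hx => ?_⟩, fun h hh hn hk' => ?_⟩
    · rw [Function.comp_apply, hge _ (mem_img_of_mem φ hx), hkl x hx, cj_one]
    · obtain ⟨k', ⟨t, ht, hk'⟩, he⟩ := hk'
      refine ⟨hh, hn, t, (mem_normalizerIn.mp (hTN ht)).1, fun y hy => ?_⟩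
      obtain ⟨x, hx, rfl⟩ := hφ.mem_img.mp hy
      have hk'x : k' x ∈ B := hk' x hx ▸ cj_mem_of_le hTN ht hx
      rw [he x hx, hkl _ hk'x, hkl x hx, hk' x hx]

/-! ### The key step -/

/-- If `E` contains the maps of `F` below `C_S(B)` fixing `B`, then it contains all the maps of `F`
inside `T` inducing elements of `T` on `B`. -/
theorem mem_of_cond [Finite S] (hS : IsPGroup p S) {E F : FusionSystem S} (hE : E.IsSaturated p)
    (hF : F.IsSaturated p) (hEF : E.IsSubsystemOf F) (hBF : F.IsReceptive B)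
    (hBE : E.IsReceptive B) (hBab : ∀ a ∈ B, ∀ b ∈ B, a * b = b * a)
    (hBT : B ≤ T) (hTN : T ≤ normalizerIn S B) (hCT : centralizerIn S B ≤ T)
    (hC : ∀ P f, IsMor F P f → B ≤ P → P ≤ centralizerIn S B → (∀ x ∈ B, f x = x) → IsMor E P f)
    {P : Subgroup Ω} {f : Ω → Ω} (hf : Cond F T B P f) : IsMor E P f := by
  classical
  obtain ⟨Gf, hGf⟩ := exists_condSystem F hBF.1 hTN
  obtain ⟨Ge, hGe⟩ := exists_condSystem E hBF.1 hTN
  have hGfs := condSystem_isSaturated hS hF hBF hTN hCT hGf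
  have hGes := condSystem_isSaturated hS hE hBE hTN hCT hGe
  have hTS : T ≤ S := hTN.trans normalizerIn_le
  have : Finite T := finite_of_le hTS
  have hTp : IsPGroup p T := isPGroup_of_le hTS hS
  have hle : ∀ P f, IsMor Ge P f → IsMor Gf P f := by
    intro P f h
    obtain ⟨h1, h2, h3, g, hg, hgf, hgB⟩ := (hGe P f).mp h
    have hm : ∀ {Q : Subgroup Ω} {k : Ω → Ω}, IsMor E Q k → IsMor F Q k :=
      fun {Q k} hk => le_iff_isMor.mp hEF Q k hk
    exact (hGf P f).mpr ⟨hm h1, h2, h3, g, hm hg, hgf, hgB⟩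
  have hBn : Gf.IsNormal B := by
    refine isNormal_iff.mpr ⟨hBT, fun P f hf => ?_⟩
    obtain ⟨h1, h2, h3, g, hg, hgf, t, ht, hgB⟩ := (hGf P f).mp hf
    have hgBB : ∀ x ∈ B, g x ∈ B := fun x hx => hgB x hx ▸ cj_mem_of_le hTN ht hx
    refine ⟨g, (hGf _ g).mpr ⟨hg, sup_le h2 hBT, fun x hx => ?_, g, ?_, fun _ _ => rfl, t, ht, hgB⟩,
      hgf, (hg.restrict le_sup_right).img_eq_self hgBB⟩
    · have h4 := mem_img_of_mem g hx
      rw [hg.img_sup, img_congr hgf] at h4
      exact sup_le (img_le h3) (img_le fun y hy => hBT (hgBB y hy)) h4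
    · rwa [sup_assoc, sup_idem]
  suffices hmain : ∀ d (R : Subgroup Ω), Nat.card T - Nat.card R = d → (R = T ∨ Gf.IsEssential p R) →
      Gf.autGroup R ≤ Ge.autGroup R by
    have := alperin_above 0 hTp hGfs (E := Ge) (fun R _ hR => hmain _ R rfl hR) P f
      ((hGf P f).mpr hf) (by have := finite_of_le (hf.2.1.trans hTS); exact Nat.card_pos)
    exact ((hGe P f).mp this).1
  intro d
  induction d using Nat.strong_induction_on with
  | _ d ih =>
  intro R hd hR
  have hRT : R ≤ T := hR.elim le_of_eq (fun h => h.1.1)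
  have hbig : ∀ P f, IsMor Gf P f → Nat.card R < Nat.card P → IsMor Ge P f := by
    refine alperin_above (Nat.card R) hTp hGfs fun P hP hP' => ih _ ?_ P rfl hP'
    have hPT : P ≤ T := hP'.elim le_of_eq (fun h => h.1.1)
    have := Subgroup.card_le_of_le hPT
    omega
  have hrad : Gf.IsRadical p R := by
    rcases hR with rfl | hR
    · exact radical_self hTp hGfs
    · exact essential_radical hTp hR
  have hcent : Gf.IsCentric R := by
    rcases hR with rfl | hR
    · exact centric_self Gf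
    · exact hR.1
  have hBR : B ≤ R := le_of_normal_of_radical hTp hBn hcent hrad
  have hRfn : Gf.IsFullyNormalized R := by
    rcases hR with rfl | hR
    · exact isFullyNormalized_self Gf
    · exact hR.2.1
  have hRS := hRT.trans hTS
  have := finite_of_le hRS
  have := finite_mulAut (P := R) hRS
  set W := R ⊓ centralizerIn S B with hW
  have hBW : B ≤ W := le_inf hBR fun b hb => mem_centralizerIn.mpr
    ⟨hBF.1 hb, fun x hx => cj_fixed_iff.mpr (hBab b hb x hx)⟩
  have hmor : ∀ α ∈ Gf.autGroup R, IsMor F R (autFun α) ∧ ∃ t ∈ T, ∀ x ∈ B,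
      autFun α x = cj t x := by
    intro α hα
    obtain ⟨h1, -, -, g, hg, hgf, t, ht, hgB⟩ := (hGf _ _).mp (isMor_autFun hRT hα)
    exact ⟨h1, t, ht, fun x hx => (hgf x (hBR hx)).symm.trans (hgB x hx)⟩
  have hmW : ∀ α ∈ Gf.autGroup R, ∀ x ∈ W, autFun α x ∈ W := by
    intro α hα x hx
    obtain ⟨h1, t, ht, hB⟩ := hmor α hα
    refine ⟨autFun_mem α hx.1, mem_centralizerIn.mpr ⟨h1.mem hx.1, fun y hy => ?_⟩⟩
    have hy' := cj_mem_of_le hTN (T.inv_mem ht) hy
    have e : autFun α (cj t⁻¹ y) = y := by rw [hB _ hy', cj_cj_inv]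
    rw [← e, cj, ← h1.map_conj hx.1 (hBR hy')]
    exact congrArg _ ((mem_centralizerIn.mp hx.2).2 _ hy')
  -- automorphisms stabilizing `1 ≤ W ≤ R` are inner
  have hstab : ∀ α ∈ Gf.autGroup R, (∀ x ∈ W, autFun α x = x) →
      (∀ x ∈ R, x⁻¹ * autFun α x ∈ W) → α ∈ Inn R := by
    let Ws : ℕ → Subgroup Ω := fun i => if i = 0 then ⊥ else if i = 1 then W else R
    have hWs : ∀ α ∈ Gf.autGroup R, ∀ i, ∀ x ∈ R, x ∈ Ws i → autFun α x ∈ Ws i := by
      intro α hα i x hx hxW
      simp only [Ws] at hxW ⊢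
      split_ifs at hxW ⊢
      · rw [Subgroup.mem_bot] at hxW ⊢
        rw [hxW, autFun_map_one]
      · exact hmW α hα x hxW
      · exact autFun_mem α hx
    intro α hα h1 h2
    have hKp : IsPGroup p (seriesStab (Gf.autGroup R) 2 Ws hWs) :=
      isPGroup_stabilizing (S := T) hTp hRT 2 (fun i => ((R ⊓ Ws i : Subgroup Ω) : Set Ω))
        (by simp [Ws]) (fun x hx => ⟨hx, by simpa [Ws] using hx⟩)
        fun β hβ i hi x hx hxW =>
          ⟨R.mul_mem (R.inv_mem hx) (autFun_mem β hx), hβ.2 i hi x hx hxW.2⟩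
    refine le_inn_of_radical (K := seriesStab (Gf.autGroup R) 2 Ws hWs) hrad (fun β hβ => hβ.1) hKp
      (fun a ha k hk => seriesStab_conj ha hk)
      ⟨hα, fun i hi x hx hxW => ?_⟩
    obtain rfl | rfl : i = 0 ∨ i = 1 := by omega
    · simp only [Ws, Nat.zero_add, one_ne_zero, if_false, if_true] at hxW ⊢
      rw [h1 x hxW, inv_mul_cancel]
      exact one_mem _
    · simp only [Ws, one_ne_zero, if_false, if_true] at hxW ⊢
      exact h2 x hx
  -- the automorphisms fixing `B`
  have hfixB : ∀ α ∈ Gf.autGroup R, (∀ x ∈ B, autFun α x = x) → α ∈ Ge.autGroup R := by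
    intro α hα hαB
    obtain ⟨n, Ws, hnf, hnfE, hWn, hns⟩ : ∃ (n : Ω → Ω) (Ws : Subgroup Ω), IsMor Gf R n ∧
        IsMor Ge R n ∧ img W n = Ws ∧ Gf.IsFullyNormalized Ws := by
      have hWT : W ≤ T := inf_le_left.trans hRT
      have hnorm : ∀ t ∈ T, t ∈ Subgroup.normalizer (R : Set Ω) →
          t ∈ normalizerIn T W := by
        intro t ht htR
        refine mem_normalizerIn.mpr ⟨ht, ?_⟩
        have key : ∀ t ∈ T, t ∈ Subgroup.normalizer (R : Set Ω) → ∀ x ∈ W, cj t x ∈ W := by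
          intro t ht htR x hx
          obtain ⟨β, hβ, hβe⟩ := exists_autInducedBy (P := R) ht htR
          rw [← hβe x hx.1]
          exact hmW β (autInducedBy_le Gf hRT hβ) x hx
        rw [Subgroup.mem_normalizer_iff]
        refine fun x => ⟨key t ht htR x, fun hx => ?_⟩
        have := key t⁻¹ (T.inv_mem ht) (inv_mem htR) _ hx
        rwa [← cj_apply t x, cj_inv_cj] at this
      rcases eq_or_ne R T with rfl | hne
      · refine ⟨id, W, isMor_id _ le_rfl, isMor_id _ le_rfl, img_id W, hWT, fun Q hQ => ?_⟩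
        have := finite_of_le (normalizerIn_le (S := R) (P := W))
        refine (Subgroup.card_le_of_le normalizerIn_le).trans (Subgroup.card_le_of_le fun t ht => ?_)
        exact hnorm t ht (Subgroup.le_normalizer ht)
      obtain ⟨Ws, hWs, hWsn⟩ := exists_fullyNormalized Gf hWT
      obtain ⟨n, hn, hni, -⟩ := exists_map_fullyNormalized hTp hGfs hWsn hWs
      have h1 : normalizerIn T R ≤ normalizerIn T W := fun t ht =>
        hnorm t (mem_normalizerIn.mp ht).1 (mem_normalizerIn.mp ht).2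
      have hnE := hbig _ n hn ((card_lt_of_lt normalizerIn_le
        (normalizerIn_gt hTp (lt_of_le_of_ne hRT hne))).trans_le (by
          have := finite_of_le (normalizerIn_le (S := T) (P := W))
          exact Subgroup.card_le_of_le h1))
      exact ⟨n, Ws, hn.restrict ((le_normalizerIn hRT).trans h1),
        hnE.restrict ((le_normalizerIn hRT).trans h1), hni, hWsn⟩
    subst hWn
    set R' := img R n with hR'
    obtain ⟨n', hn'E, hn'l, hn'r, hn'i⟩ := hnfE.inverse
    rw [← hR'] at hn'E hn'r hn'i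
    have hn' : IsMor Gf R' n' := hle _ _ hn'E
    have hn'mem : ∀ y ∈ R', n' y ∈ R := fun y hy => hn'i ▸ mem_img_of_mem n' hy
    obtain ⟨hnF, -, hnT, g0, -, hg0, tn, htn, hg0B⟩ := (hGf _ _).mp hnf
    have hnB : ∀ x ∈ B, n x = cj tn x := fun x hx => (hg0 x (hBR hx)).symm.trans (hg0B x hx)
    have hnBB : ∀ x ∈ B, n x ∈ B := fun x hx => hnB x hx ▸ cj_mem_of_le hTN htn hx
    have hnBi : img B n = B := (hnF.restrict hBR).img_eq_self hnBB
    have hR'T : R' ≤ T := img_le hnT
    have hBR' : B ≤ R' := hnBi.ge.trans (img_mono n hBR)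
    set W' := img W n with hW'
    have hW'R : W' ≤ R' := img_mono n inf_le_left
    have hBW' : B ≤ W' := hnBi.ge.trans (img_mono n hBW)
    have hW'C : W' ≤ centralizerIn S B := img_le fun x hx => by
      refine mem_centralizerIn.mpr ⟨hnF.mem hx.1, fun y hy => ?_⟩
      obtain ⟨b, hb, rfl⟩ := (hnF.restrict hBR).mem_img.mp (hnBi.ge hy)
      rw [cj, ← hnF.map_conj hx.1 (hBR hb)]
      exact congrArg n ((mem_centralizerIn.mp hx.2).2 b hb)
    have hW'mem : ∀ y ∈ R', y ∈ centralizerIn S B → y ∈ W' := by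
      intro y hy hyC
      rw [← hn'r y hy]
      refine mem_img_of_mem n ⟨hn'mem y hy, mem_centralizerIn.mpr
        ⟨hRS (hn'mem y hy), fun b hb => ?_⟩⟩
      refine hnF.inj (R.mul_mem (R.mul_mem (hn'mem y hy) (hBR hb)) (R.inv_mem (hn'mem y hy)))
        (hBR hb) ?_
      rw [cj_apply, hnF.map_conj (hn'mem y hy) (hBR hb), hn'r y hy]
      exact (mem_centralizerIn.mp hyC).2 _ (hnBB b hb)
    -- the transported automorphism
    set f' := n ∘ autFun α ∘ n' with hf'
    have hf'G : IsMor Gf R' f' := (hn'.comp (isMor_autFun hRT hα) hn'mem).comp hnf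
      fun y hy => autFun_mem α (hn'mem y hy)
    have hf'F : IsMor F R' f' := ((hGf _ _).mp hf'G).1
    have hf'R : ∀ y ∈ R', f' y ∈ R' := fun y hy =>
      mem_img_of_mem n (autFun_mem α (hn'mem y hy))
    have hn'B : ∀ b ∈ B, n' (n b) = b := fun b hb => hn'l b (hBR hb)
    have hf'B : ∀ b ∈ B, f' b = b := by
      intro b hb
      obtain ⟨c, hc, rfl⟩ := (hnF.restrict hBR).mem_img.mp (hnBi.ge hb)
      show n (autFun α (n' (n c))) = n c
      rw [hn'B c hc, hαB c hc]
    have hf'W : IsMor Ge W' f' := by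
      have h1 := hC W' f' (hf'F.restrict hW'R) hBW' hW'C hf'B
      refine (hGe _ _).mpr ⟨h1, hW'R.trans hR'T, fun x hx => hR'T (hf'R x (hW'R hx)), f', ?_,
        fun _ _ => rfl, 1, T.one_mem, fun x hx => by rw [cj_one, hf'B x hx]⟩
      rwa [sup_eq_left.mpr hBW']
    have hf'Wi : img W' f' = W' := hf'W.img_eq_self fun x hx => by
      refine hW'mem _ (hf'R x (hW'R hx)) (mem_centralizerIn.mpr ⟨hf'F.mem (hW'R hx), fun b hb => ?_⟩)
      rw [cj, ← hf'B b hb, ← hf'F.map_conj (hW'R hx) (hBR' hb)]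
      exact congrArg f' ((mem_centralizerIn.mp (hW'C hx)).2 b hb)
    have hW'n : Ge.IsFullyNormalized W' := ⟨hns.1, fun Q hQ => hns.2 Q (by
      obtain ⟨k, hk, hki⟩ := isConj_iff.mp hQ
      exact isConj_iff.mpr ⟨k, hle _ _ hk, hki⟩)⟩
    have hR'nW : R' ≤ Subgroup.normalizer (W' : Set Ω) := by
      have key : ∀ y ∈ R', ∀ x ∈ W', cj y x ∈ W' := fun y hy x hx => by
        refine hW'mem _ (R'.mul_mem (R'.mul_mem hy (hW'R hx)) (R'.inv_mem hy))
          (mem_centralizerIn.mpr ⟨hTS (T.mul_mem (T.mul_mem (hR'T hy) (hR'T (hW'R hx)))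
            (T.inv_mem (hR'T hy))), fun b hb => ?_⟩)
        have hb' := cj_mem_of_le hTN (T.inv_mem (hR'T hy)) hb
        conv_lhs => rw [← cj_cj_inv y b]
        show cj (cj y x) (cj y (cj y⁻¹ b)) = b
        rw [show cj (cj y x) (cj y (cj y⁻¹ b)) = cj y (cj x (cj y⁻¹ b)) by simp [cj, mul_assoc],
          (mem_centralizerIn.mp (hW'C hx)).2 _ hb', cj_cj_inv]
      intro y hy
      rw [Subgroup.mem_normalizer_iff]
      refine fun x => ⟨key y hy x, fun hx => ?_⟩
      have := key y⁻¹ (R'.inv_mem hy) _ hx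
      rwa [← cj_apply y x, cj_inv_cj] at this
    obtain ⟨g, hgext, hgf⟩ := (isReceptive_iff.mp (isFullyAutomized_of_normalized hTp hGes hW'n).2).2
      W' f' hf'W hf'Wi
    have hR'ext : R' ≤ nExt T W' f' := fun y hy =>
      ⟨hR'T hy, hR'nW hy, f' y, hR'T (hf'R y hy), fun x hx => hf'F.map_conj hy (hW'R hx)⟩
    have hg := hgext.restrict hR'ext
    have hgF : IsMor F R' g := ((hGf _ _).mp (hle _ _ hg)).1
    -- `C_T(W') ≤ R'`
    have hCR : centralizerIn T W' ≤ R' := by
      by_contra hn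
      have hCn : R' ≤ Subgroup.normalizer (centralizerIn T W' : Set Ω) := by
        have key : ∀ y ∈ R', ∀ c ∈ centralizerIn T W', cj y c ∈ centralizerIn T W' := by
          intro y hy c hc
          refine mem_centralizerIn.mpr ⟨T.mul_mem (T.mul_mem (hR'T hy) (mem_centralizerIn.mp hc).1)
            (T.inv_mem (hR'T hy)), fun x hx => ?_⟩
          have hx' : cj y⁻¹ x ∈ W' :=
            (Subgroup.mem_normalizer_iff.mp (inv_mem (hR'nW hy)) x).mp hx
          conv_lhs => rw [← cj_cj_inv y x]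
          rw [show cj (cj y c) (cj y (cj y⁻¹ x)) = cj y (cj c (cj y⁻¹ x)) by simp [cj, mul_assoc],
            (mem_centralizerIn.mp hc).2 _ hx', cj_cj_inv]
        intro y hy
        rw [Subgroup.mem_normalizer_iff]
        refine fun c => ⟨key y hy c, fun hc => ?_⟩
        have := key y⁻¹ (R'.inv_mem hy) _ hc
        rwa [← cj_apply y c, cj_inv_cj] at this
      have hlt : R' < R' ⊔ centralizerIn T W' := left_lt_sup.mpr hn
      have hsT : R' ⊔ centralizerIn T W' ≤ T := sup_le hR'T centralizerIn_le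
      have := finite_of_le hsT
      obtain ⟨x, hx, hxR⟩ := SetLike.exists_of_lt (lt_inf_normalizer (isPGroup_of_le hsT hTp) hlt)
      obtain ⟨hx1, hx2⟩ := Subgroup.mem_inf.mp hx
      rw [← SetLike.mem_coe, Subgroup.coe_mul_of_left_le_normalizer_right _ _ hCn] at hx1
      obtain ⟨r, hr, c, hc, rfl⟩ := hx1
      refine hxR (R'.mul_mem hr ?_)
      have hcN : c ∈ Subgroup.normalizer (R' : Set Ω) := by
        simpa using Subgroup.mul_mem _ (inv_mem (Subgroup.le_normalizer hr)) hx2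
      obtain ⟨hcT, hcW⟩ := mem_centralizerIn.mp hc
      have hccj : ∀ y ∈ R', cj c y ∈ R' := fun y hy =>
        (Subgroup.mem_normalizer_iff.mp hcN y).mp hy
      have hcC : c ∈ centralizerIn S B :=
        mem_centralizerIn.mpr ⟨hTS hcT, fun b hb => hcW b (hBW' hb)⟩
      have hdiff : ∀ y ∈ R', y⁻¹ * cj c y ∈ W' := fun y hy => by
        refine hW'mem _ (R'.mul_mem (R'.inv_mem hy) (hccj y hy))
          (mem_centralizerIn.mpr ⟨hTS (hR'T (R'.mul_mem (R'.inv_mem hy) (hccj y hy))),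
            fun b hb => ?_⟩)
        have hb' := cj_mem_of_le hTN (hR'T hy) hb
        rw [show cj (y⁻¹ * cj c y) b = cj y⁻¹ (cj c (cj y (cj c⁻¹ b))) by simp [cj, mul_assoc],
          (mem_centralizerIn.mp (inv_mem hcC)).2 b hb, (mem_centralizerIn.mp hcC).2 _ hb', cj_inv_cj]
      have hgam : IsMor Gf R (n' ∘ cj c ∘ n) :=
        (hnf.comp (isMor_cj Gf hR'T hcT) fun x hx => mem_img_of_mem n hx).comp hn'
          fun x hx => hccj _ (mem_img_of_mem n hx)
      obtain ⟨γ, hγ, hγe⟩ := exists_aut hgam (hgam.img_eq_self fun x hx =>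
        hn'mem _ (hccj _ (mem_img_of_mem n hx)))
      have hγI : γ ∈ Inn R := by
        refine hstab γ hγ (fun x hx => ?_) fun x hx => ?_
        · rw [hγe x hx.1, Function.comp_apply, Function.comp_apply,
            hcW _ (mem_img_of_mem n hx), hn'l x hx.1]
        · have h1 := autFun_mem γ hx
          refine (hnF.mem_img_iff (R := W) inf_le_left (R.mul_mem (R.inv_mem hx) h1)).mp ?_
          rw [hnF.map_mul (R.inv_mem hx) h1, hnF.map_inv hx, hγe x hx, Function.comp_apply,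
            Function.comp_apply, hn'r _ (hccj _ (mem_img_of_mem n hx))]
          exact hdiff _ (mem_img_of_mem n hx)
      obtain ⟨y, hy, hye⟩ := mem_inn.mp hγI
      have hcc : centralizerIn T R' ≤ R' :=
        centric_centralizer_le (centric_of_isConj hcent (isConj_iff.mpr ⟨n, hnf, rfl⟩))
      have h3 : (n y)⁻¹ * c ∈ centralizerIn T R' := mem_centralizerIn.mpr
        ⟨T.mul_mem (T.inv_mem (hnT y hy)) hcT, fun z hz => by
          have h4 : cj c z = cj (n y) z := by
            have hx := hn'mem z hz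
            have h5 := hye _ hx
            rw [hγe _ hx, Function.comp_apply, Function.comp_apply, hn'r z hz] at h5
            have h6 := congrArg n h5
            rwa [hn'r _ (hccj z hz), cj, cj, hnF.map_conj hy hx, hn'r z hz] at h6
          rw [cj_mul, h4, cj_inv_cj]⟩
      simpa using R'.mul_mem (mem_img_of_mem n hy) (hcc h3)
    -- compare `g` and `f'`
    have hdiff : ∀ y ∈ R', (f' y)⁻¹ * g y ∈ centralizerIn T W' := fun y hy => by
      refine mem_centralizerIn.mpr ⟨T.mul_mem (T.inv_mem (hR'T (hf'R y hy)))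
        (((hGe _ _).mp hg).2.2.1 y hy), fun x hx => ?_⟩
      obtain ⟨w, hw, rfl⟩ := hf'W.mem_img.mp (hf'Wi.ge hx)
      have hw' : cj y w ∈ W' := (Subgroup.mem_normalizer_iff.mp (hR'nW hy) w).mp hw
      have e1 : g (cj y w) = cj (g y) (f' w) := by
        rw [cj, cj, hgF.map_conj hy (hW'R hw), hgf w hw]
      have e2 : f' (cj y w) = cj (f' y) (f' w) := by
        rw [cj, cj, hf'F.map_conj hy (hW'R hw)]
      rw [cj_mul, ← e1, hgf _ hw', e2, cj_inv_cj]
    have hgR : ∀ y ∈ R', g y ∈ R' := fun y hy => by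
      simpa using R'.mul_mem (hf'R y hy) (hCR (hdiff y hy))
    have hδm : IsMor Ge R (n' ∘ g ∘ n) :=
      (hnfE.comp hg fun x hx => mem_img_of_mem n hx).comp hn'E
        fun x hx => hgR _ (mem_img_of_mem n hx)
    obtain ⟨δ, hδ, hδe⟩ := exists_aut hδm (hδm.img_eq_self fun x hx =>
      hn'mem _ (hgR _ (mem_img_of_mem n hx)))
    have hδ' : δ ∈ Gf.autGroup R := autGroup_mono (fun P φ hφ =>
      (mem_hom_iff.mpr (hle _ _ (mem_hom_iff.mp hφ)))) hδ
    have hεe : ∀ x ∈ R, n (autFun δ x) = g (n x) := fun x hx => by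
      rw [hδe x hx, Function.comp_apply, Function.comp_apply,
        hn'r _ (hgR _ (mem_img_of_mem n hx))]
    have hαn : ∀ x ∈ R, n (autFun α x) = f' (n x) := fun x hx => by
      show _ = n (autFun α (n' (n x)))
      rw [hn'l x hx]
    have hI : δ⁻¹ * α ∈ Inn R := by
      refine hstab _ (mul_mem (inv_mem hδ') hα) (fun x hx => ?_) fun x hx => ?_
      · have e : autFun α x = autFun δ x := hnF.inj (autFun_mem α hx.1) (autFun_mem δ hx.1)
          (by rw [hαn x hx.1, hεe x hx.1, hgf _ (mem_img_of_mem n hx)])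
        rw [autFun_mul _ _ hx.1, e, autFun_inv_left δ hx.1]
      · set z := (autFun δ x)⁻¹ * autFun α x with hz
        have hzR : z ∈ R := R.mul_mem (R.inv_mem (autFun_mem δ hx)) (autFun_mem α hx)
        have hzW : z ∈ W := by
          refine (hnF.mem_img_iff (R := W) inf_le_left hzR).mp ?_
          rw [hz, hnF.map_mul (R.inv_mem (autFun_mem δ hx)) (autFun_mem α hx),
            hnF.map_inv (autFun_mem δ hx), hαn x hx, hεe x hx]
          have hy := mem_img_of_mem n hx
          have h7 := hdiff _ hy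
          refine hW'mem _ (R'.mul_mem (R'.inv_mem (hgR _ hy)) (hf'R _ hy))
            (mem_centralizerIn.mpr ⟨hTS (hR'T (R'.mul_mem (R'.inv_mem (hgR _ hy)) (hf'R _ hy))),
              fun b hb => ?_⟩)
          have h8 := (mem_centralizerIn.mp ((centralizerIn T W').inv_mem h7)).2 b (hBW' hb)
          simpa using h8
        rw [autFun_mul _ _ hx, show autFun α x = autFun δ x * z by rw [hz, mul_inv_cancel_left],
          autFun_map_mul δ⁻¹ (autFun_mem δ hx) hzR, autFun_inv_left δ hx, inv_mul_cancel_left]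
        exact hmW _ (inv_mem hδ') z hzW
    have := mul_mem hδ (inn_le_autGroup Ge hRT hI)
    rwa [mul_inv_cancel_left] at this
  -- generation
  set H := Gf.autGroup R
  let K : Subgroup H :=
    { carrier := {α | ∀ x ∈ B, autFun (α : MulAut R) x = x}
      one_mem' := fun x hx => autFun_one (hBR hx)
      mul_mem' := fun {a b} ha hb x hx => by
        rw [Subgroup.coe_mul, autFun_mul _ _ (hBR hx), hb x hx, ha x hx]
      inv_mem' := fun {a} ha x hx => by
        conv_lhs => rw [← ha x hx]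
        exact autFun_inv_left _ (hBR hx) }
  have hKn : K.Normal := ⟨fun k hk a x hx => by
    obtain ⟨t, ht, hB⟩ := (hmor _ (a⁻¹).2).2
    have hy : autFun ((a⁻¹ : H) : MulAut R) x ∈ B := hB x hx ▸ cj_mem_of_le hTN ht hx
    rw [Subgroup.coe_mul, Subgroup.coe_mul, autFun_mul _ _ (hBR hx), autFun_mul _ _ (hBR hy),
      hk _ hy, Subgroup.coe_inv, autFun_inv_right _ (hBR hx)]⟩
  have hq : IsPGroup p (H ⧸ K) := by
    intro q
    induction q using QuotientGroup.induction_on with
    | _ a =>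
      obtain ⟨t, ht, hB⟩ := (hmor _ a.2).2
      obtain ⟨k, hk⟩ := hTp ⟨t, ht⟩
      refine ⟨k, ?_⟩
      rw [← QuotientGroup.mk_pow, QuotientGroup.eq_one_iff]
      intro x hx
      have hpow : ∀ m : ℕ, autFun ((a : MulAut R) ^ m) x = cj (t ^ m) x := by
        intro m
        induction m with
        | zero => rw [pow_zero, pow_zero, autFun_one (hBR hx), cj_one]
        | succ m ihm =>
          rw [pow_succ', pow_succ', autFun_mul _ _ (hBR hx), ihm,
            hB _ (cj_mem_of_le hTN (T.pow_mem ht m) hx), cj_mul]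
      rw [Subgroup.coe_pow, hpow, show t ^ p ^ k = 1 from congrArg Subtype.val hk, cj_one]
  obtain ⟨-, Rs, hRs⟩ := (isFullyAutomized_of_normalized hTp hGfs hRfn).1
  set M : Subgroup H := K ⊔ (autInducedBy T R).subgroupOf H
  have hMtop : M = ⊤ := by
    rw [← Subgroup.index_eq_one]
    obtain ⟨k, hk⟩ := IsPGroup.iff_card.mp hq
    have h1 : M.index ∣ p ^ k := by
      rw [← hk, ← Subgroup.index]
      exact Subgroup.index_dvd_of_le le_sup_left
    have h2 : ¬ p ∣ M.index := fun h => Rs.not_dvd_index (h.trans (Subgroup.index_dvd_of_le (by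
      rw [hRs]
      exact le_sup_right)))
    obtain ⟨j, -, hj⟩ := (Nat.dvd_prime_pow hp.out).mp h1
    rcases j with _ | j
    · rw [hj, pow_zero]
    · exact absurd (hj ▸ dvd_pow_self p (Nat.succ_ne_zero j)) h2
  intro α hα
  have hmem : (⟨α, hα⟩ : H) ∈ M := hMtop ▸ Subgroup.mem_top _
  have hMle : M ≤ (Ge.autGroup R).subgroupOf H :=
    sup_le (fun β hβ => hfixB _ β.2 hβ) (fun β hβ => autInducedBy_le Ge hRT hβ)
  exact hMle hmem

/-! ### The induction -/

/-- The number of maps, counted on the subgroups of `S₀`. -/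
noncomputable def count (S₀ : Subgroup Ω) {U : Subgroup Ω} (F : FusionSystem U) : ℕ :=
  Nat.card (Σ P : Subgroup S₀, ↥(F.Hom (P.map S₀.subtype)))

theorem finite_hom {U : Subgroup Ω} [Finite U] (F : FusionSystem U) (P : Subgroup Ω) :
    Finite ↥(F.Hom P) := by
  by_cases hP : P ≤ U
  swap
  · have : IsEmpty ↥(F.Hom P) := ⟨fun φ => hP (F.le_of_mem φ.2).1⟩
    infer_instance
  have := finite_of_le (S := U) hP
  refine Finite.of_injective (fun (φ : ↥(F.Hom P)) (x : P) =>
    (⟨φ.1 x, (F.le_of_mem φ.2).2 x⟩ : U)) fun φ ψ h => Subtype.ext (MonoidHom.ext fun x => ?_)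
  exact congrArg Subtype.val (congrFun h x)

theorem main {n : ℕ} (hn0 : n ≠ 0) (hn : p ^ n ≠ 2) (S₀ : Subgroup Ω) [Finite S₀]
    (hS₀ : IsPGroup p S₀) : ∀ (m : ℕ) (U : Subgroup Ω) (E F : FusionSystem U), U ≤ S₀ →
      count S₀ F = m → E.IsSaturated p → F.IsSaturated p → E.IsSubsystemOf F →
      Agree (p ^ n) E F → ∀ P f, IsMor F P f → IsMor E P f := by
  classical
  intro m
  induction m using Nat.strong_induction_on with
  | _ m ih =>
  intro U E F hUS hm hE hF hEF hag
  have : Finite U := finite_of_le hUS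
  have hU : IsPGroup p U := isPGroup_of_le hUS hS₀
  have hEF' : ∀ {Q : Subgroup Ω} {k : Ω → Ω}, IsMor E Q k → IsMor F Q k :=
    fun {Q k} hk => le_iff_isMor.mp hEF Q k hk
  refine le_iff_isMor.mp (alperin hU hF fun Q hQ => ?_)
  have hQU : Q ≤ U := hQ.elim le_of_eq (fun h => h.1.1)
  have : Finite Q := finite_of_le hQU
  have := finite_mulAut (P := Q) hQU
  have hQp := isPGroup_of_le hQU hU
  by_cases hA : ∃ A, A ≤ Q ∧ Small (p ^ n) A ∧ (∀ x ∈ Q, ∀ a ∈ A, cj x a ∈ A) ∧
      ∃ f, IsMor F A f ∧ ∃ a ∈ A, f a ≠ a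
  swap
  · push Not at hA
    -- the small normal subgroups are central: the group of automorphisms is a `p`-group
    have hfix : ∀ x ∈ Q, x ^ p ^ n = 1 → ∀ α ∈ F.autGroup Q, autFun α x = x := by
      have hfin : Finite (Subgroup Q) := inferInstance
      let P₀ : Subgroup Q → Prop := fun A => A.Normal ∧ IsMulCommutative A ∧
        ∀ a ∈ A, a ^ p ^ n = 1
      obtain ⟨A, hAm⟩ := Set.Finite.exists_maximal (Set.toFinite {A | P₀ A})
        ⟨⊥, inferInstance, inferInstance, fun a ha => by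
          rw [Subgroup.mem_bot.mp ha, one_pow]⟩
      obtain ⟨hAn, hAc, hAe⟩ := hAm.prop
      haveI := hAn
      have hsm : Small (p ^ n) (A.map Q.subtype) := by
        refine ⟨?_, ?_⟩
        · rintro _ ⟨a, ha, rfl⟩ _ ⟨b, hb, rfl⟩
          exact congrArg (fun x : A => ((x : Q) : Ω)) (hAc.is_comm.comm ⟨a, ha⟩ ⟨b, hb⟩)
        · rintro _ ⟨a, ha, rfl⟩
          exact congrArg Subtype.val (hAe a ha)
      have hcen : ∀ f, IsMor F (A.map Q.subtype) f → ∀ a ∈ A.map Q.subtype, f a = a :=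
        hA _ (Q.map_subtype_le A) hsm fun x hx a ha => by
          obtain ⟨b, hb, rfl⟩ := ha
          exact ⟨_, hAn.conj_mem b hb ⟨x, hx⟩, rfl⟩
      intro x hx hxq α hα
      have hxA : (⟨x, hx⟩ : Q) ∈ A := by
        refine CfsgLib.PGroups.mem_of_maximal_abelian_exponent hQp hn hAc hAe
          (fun B hBn hBc hBe hAB => (hAm.eq_of_ge (show P₀ B from ⟨hBn, hBc, hBe⟩) hAB)) ?_
          (Subtype.ext hxq)
        rw [Subgroup.mem_centralizer_iff]
        intro a ha
        refine Subtype.ext (cj_fixed_iff.mp ?_).symm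
        exact hcen _ (isMor_cj F ((Q.map_subtype_le A).trans hQU) (hQU hx)) _ ⟨a, ha, rfl⟩
      exact hcen _ ((isMor_autFun hQU hα).restrict (Q.map_subtype_le A)) x ⟨_, hxA, rfl⟩
    have hpg : IsPGroup p (F.autGroup Q) := by
      rintro ⟨α, hα⟩
      obtain ⟨a, c, hc, hn'⟩ := Nat.exists_eq_pow_mul_and_not_dvd (orderOf_pos α).ne' p hp.out.ne_one
      refine ⟨a, Subtype.ext ?_⟩
      refine autFun_eq_one_of_fix_small hQp hn0 hn ?_ fun x hx hxq =>
        hfix x hx hxq _ (pow_mem hα _)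
      rw [Subgroup.coe_pow, orderOf_pow_of_dvd (pow_ne_zero a hp.out.ne_zero) (hn' ▸ dvd_mul_right _ _), hn',
        Nat.mul_div_cancel_left _ (pow_pos hp.out.pos a)]
      exact Nat.Coprime.symm ((hp.out.coprime_iff_not_dvd).mpr hc)
    have hQn : F.IsFullyNormalized Q := by
      rcases hQ with rfl | hQ
      · exact isFullyNormalized_self F
      · exact hQ.2.1
    obtain ⟨hfa, -⟩ := isFullyAutomized_of_normalized hU hF hQn
    exact ((isFullyAutomized_iff.mp hfa).2.2.2 _ hpg (autInducedBy_le F hQU) le_rfl).le.trans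
      (autInducedBy_le E hQU)
  obtain ⟨A, hAQ, hAsm, hAn, f₀, hf₀, a₀, ha₀, hmv⟩ := hA
  intro α hα
  refine (autGroup_eq_set hQU α).mpr ?_
  set h := autFun α with hh
  have hhF : IsMor F Q h := isMor_autFun hQU hα
  have hhA := hhF.restrict hAQ
  set A' := img A h with hA'
  -- a fully normalised conjugate
  obtain ⟨B, hB, hBn⟩ := exists_fullyNormalized F (hAQ.trans hQU)
  obtain ⟨φ, hφ, hφi⟩ := isConj_iff.mp hB
  have hBsm : Small (p ^ n) B := by
    refine ⟨fun a ha b hb => ?_, fun a ha => ?_⟩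
    · obtain ⟨x, hx, rfl⟩ := hφ.mem_img.mp (hφi.ge ha)
      obtain ⟨y, hy, rfl⟩ := hφ.mem_img.mp (hφi.ge hb)
      rw [← hφ.map_mul hx hy, ← hφ.map_mul hy hx, hAsm.1 x hx y hy]
    · obtain ⟨x, hx, rfl⟩ := hφ.mem_img.mp (hφi.ge ha)
      rw [← hφ.map_pow hx, hAsm.2 x hx, hφ.map_one]
  have hBnE : E.IsFullyNormalized B := ⟨hBn.1, fun R hR => hBn.2 R (by
    obtain ⟨k, hk, hki⟩ := isConj_iff.mp hR
    exact isConj_iff.mpr ⟨k, hEF' hk, hki⟩)⟩
  have hconjE : ∀ (R : Subgroup Ω), F.IsConj R B → Small (p ^ n) R → E.IsConj R B := by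
    intro R hR hRs
    obtain ⟨k, hk, hki⟩ := isConj_iff.mp hR
    exact isConj_iff.mpr ⟨k, hag R k hk hRs, hki⟩
  have hA'sm : Small (p ^ n) A' := by
    refine ⟨fun a ha b hb => ?_, fun a ha => ?_⟩
    · obtain ⟨x, hx, rfl⟩ := hhA.mem_img.mp ha
      obtain ⟨y, hy, rfl⟩ := hhA.mem_img.mp hb
      rw [← hhA.map_mul hx hy, ← hhA.map_mul hy hx, hAsm.1 x hx y hy]
    · obtain ⟨x, hx, rfl⟩ := hhA.mem_img.mp ha
      rw [← hhA.map_pow hx, hAsm.2 x hx, hhA.map_one]
  have hconj : F.IsConj A' B :=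
    isConj_trans (isConj_symm (isConj_iff.mpr ⟨h, hhA, rfl⟩)) hB
  obtain ⟨g, hg, hgi, -⟩ := exists_map_fullyNormalized hU hE hBnE (hconjE A' hconj hA'sm)
  have hQN : Q ≤ normalizerIn U A' := fun x hx => by
    refine mem_normalizerIn.mpr ⟨hQU hx, ?_⟩
    have key : ∀ x ∈ Q, ∀ a ∈ A', cj x a ∈ A' := by
      intro x hx a ha
      obtain ⟨b, hb, rfl⟩ := hhA.mem_img.mp ha
      obtain ⟨y, hy, rfl⟩ : ∃ y ∈ Q, h y = x :=
        ⟨autFun α⁻¹ x, autFun_mem _ hx, autFun_inv_right α hx⟩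
      rw [cj, ← hhF.map_conj hy (hAQ hb)]
      exact mem_img_of_mem h (hAn y hy b hb)
    rw [Subgroup.mem_normalizer_iff]
    refine fun a => ⟨key x hx a, fun ha => ?_⟩
    have := key x⁻¹ (Q.inv_mem hx) _ ha
    rwa [← cj_apply x a, cj_inv_cj] at this
  have hgQ := hg.restrict hQN
  have hgF := hEF' hgQ
  set u := g ∘ h with hu
  have huF : IsMor F Q u := hhF.comp hgF fun x hx => autFun_mem α hx
  have hui : img A u = B := by rw [hu, ← hhA.img_comp, ← hA', hgi]
  obtain ⟨g2, hg2, hg2u⟩ := (isReceptive_iff.mp (isFullyAutomized_of_normalized hU hE hBnE).2).2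
    A u (hag A u (huF.restrict hAQ) hAsm) hui
  have hQext : Q ≤ nExt U A u := fun x hx =>
    ⟨hQU hx, Subgroup.mem_normalizer_iff.mpr fun a => ⟨hAn x hx a, fun ha => by
      have := hAn x⁻¹ (Q.inv_mem hx) _ ha
      rwa [← cj_apply x a, cj_inv_cj] at this⟩, u x, huF.mem hx, fun a ha =>
      huF.map_conj hx (hAQ ha)⟩
  have hg2Q := hg2.restrict hQext
  have hg2F := hEF' hg2Q
  set Q1 := img Q u with hQ1
  obtain ⟨u', hu', hu'l, hu'r, hu'i⟩ := huF.inverse
  rw [← hQ1] at hu' hu'r hu'i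
  set δ := g2 ∘ u' with hδ
  have hu'm : ∀ y ∈ Q1, u' y ∈ Q := fun y hy => hu'i ▸ mem_img_of_mem u' hy
  have hδF : IsMor F Q1 δ := hu'.comp hg2F hu'm
  have hBQ1 : B ≤ Q1 := hui.ge.trans (img_mono u hAQ)
  have hδB : ∀ b ∈ B, δ b = b := by
    intro b hb
    obtain ⟨a, ha, rfl⟩ := (huF.restrict hAQ).mem_img.mp (hui.ge hb)
    rw [hδ, Function.comp_apply, hu'l a (hAQ ha), hg2u a ha]
  have hQ1U : Q1 ≤ U := huF.img_le
  have hnB : ∀ y ∈ Q1, ∀ b ∈ B, cj y b ∈ B := by
    intro y hy b hb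
    obtain ⟨x, hx, rfl⟩ := huF.mem_img.mp hy
    obtain ⟨a, ha, rfl⟩ := (huF.restrict hAQ).mem_img.mp (hui.ge hb)
    rw [cj, ← huF.map_conj hx (hAQ ha)]
    exact hui ▸ mem_img_of_mem u (hAn x hx a ha)
  set T := Q1 ⊔ centralizerIn U B with hT
  have hTN : T ≤ normalizerIn U B := by
    refine sup_le (fun y hy => mem_normalizerIn.mpr ⟨hQ1U hy, ?_⟩) centralizerIn_le_normalizerIn
    rw [Subgroup.mem_normalizer_iff]
    refine fun b => ⟨hnB y hy b, fun hb => ?_⟩
    have := hnB y⁻¹ (Q1.inv_mem hy) _ hb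
    rwa [← cj_apply y b, cj_inv_cj] at this
  have hδT : ∀ y ∈ Q1, δ y ∈ T := by
    intro y hy
    have h1 : y⁻¹ * δ y ∈ centralizerIn U B := by
      refine mem_centralizerIn.mpr ⟨U.mul_mem (U.inv_mem (hQ1U hy)) (hδF.mem hy), fun b hb => ?_⟩
      have e : δ (cj y b) = cj (δ y) b := by
        rw [cj, cj, hδF.map_conj hy (hBQ1 hb), hδB b hb]
      rw [hδB _ (hnB y hy b hb)] at e
      rw [cj_mul, ← e, cj_inv_cj]
    simpa using T.mul_mem (le_sup_left (b := centralizerIn U B) hy) (le_sup_right (a := Q1) h1)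
  -- the centralizer systems
  have hBfc := isFullyCentralized_of_normalized hU hF hBn
  have hBfcE := isFullyCentralized_of_normalized hU hE hBnE
  obtain ⟨CF, hCF⟩ := Cfsg.Agent.S5097.result F B hBn.1
  obtain ⟨CE, hCE⟩ := Cfsg.Agent.S5097.result E B hBn.1
  have hCU : centralizerIn U B ≤ U := centralizerIn_le
  have hCEF : CE.IsSubsystemOf CF := le_iff_isMor.mpr fun P k hk => by
    obtain ⟨h1, h2, h3, k', hk', h4, h5⟩ := (isMor_centralizerSystem hCE).mp hk
    exact (isMor_centralizerSystem hCF).mpr ⟨hEF' h1, h2, h3, k', hEF' hk', h4, h5⟩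
  have hCag : Agree (p ^ n) CE CF := by
    intro A₁ k hk hA₁
    obtain ⟨h1, h2, h3, k', hk', h4, h5⟩ := (isMor_centralizerSystem hCF).mp hk
    refine (isMor_centralizerSystem hCE).mpr ⟨hag A₁ k h1 hA₁, h2, h3, k', hag _ k' hk' ?_, h4, h5⟩
    have hcomm : ∀ a ∈ A₁, ∀ b ∈ B, a * b = b * a := fun a ha b hb =>
      cj_fixed_iff.mp ((mem_centralizerIn.mp (h2 ha)).2 b hb)
    have hle : A₁ ⊔ B ≤ Subgroup.centralizer (A₁ ⊔ B : Subgroup Ω) := by
      refine sup_le (fun a ha => ?_) fun b hb => ?_ <;>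
        rw [Subgroup.mem_centralizer_iff] <;> intro y hy <;>
        refine ((sup_le (fun c hc => ?_) fun c hc => ?_ :
          A₁ ⊔ B ≤ Subgroup.centralizer {_}) hy _ rfl).symm <;>
        rw [Subgroup.mem_centralizer_singleton_iff]
      · exact hA₁.1 c hc a ha
      · exact (hcomm a ha c hc).symm
      · exact hcomm c hc b hb
      · exact hBsm.1 c hc b hb
    refine ⟨fun a ha b hb => Subgroup.mem_centralizer_iff.mp (hle hb) a ha, fun a ha => ?_⟩
    rw [← SetLike.mem_coe, Subgroup.coe_mul_of_left_le_normalizer_right _ _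
      (fun x hx => Subgroup.mem_normalizer_iff.mpr fun b => ?_)] at ha
    · obtain ⟨x, hx, b, hb, rfl⟩ := ha
      rw [(show Commute x b from hcomm x hx b hb).mul_pow, hA₁.2 x hx, hBsm.2 b hb, one_mul]
    · constructor
      · intro hb; rwa [hcomm x hx b hb, mul_inv_cancel_right]
      · intro hb
        have e := hcomm x hx _ hb
        have : x * b * x⁻¹ = b := mul_left_cancel (e.trans (inv_mul_cancel_right _ _))
        rwa [this] at hb
  have hlt : count S₀ CF < m := by
    subst hm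
    have hfin : ∀ P : Subgroup S₀, Finite ↥(F.Hom (P.map S₀.subtype)) := fun P => finite_hom F _
    have hsub : ∀ P : Subgroup Ω, CF.Hom P ⊆ F.Hom P := fun P φ hφ => by
      rw [hCF P] at hφ; exact hφ.1
    refine lt_of_le_of_ne (Nat.card_le_card_of_injective
      (fun x => (⟨x.1, x.2.1, hsub _ x.2.2⟩ : Σ P : Subgroup S₀, ↥(F.Hom (P.map S₀.subtype))))
      ?_) fun he => ?_
    · rintro ⟨P, φ, hφ⟩ ⟨P', φ', hφ'⟩ e
      obtain ⟨rfl, h2⟩ := Sigma.mk.inj_iff.mp e
      cases eq_of_heq h2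
      rfl
    have hbij := Function.Injective.bijective_of_nat_card_le
      (f := fun x => (⟨x.1, x.2.1, hsub _ x.2.2⟩ : Σ P : Subgroup S₀, ↥(F.Hom (P.map S₀.subtype))))
      (by
        rintro ⟨P, φ, hφ⟩ ⟨P', φ', hφ'⟩ e
        obtain ⟨rfl, h2⟩ := Sigma.mk.inj_iff.mp e
        cases eq_of_heq h2
        rfl) he.ge
    have key : ∀ k, IsMor F B k → ∀ b ∈ B, k b = b := by
      intro k hk b hb
      obtain ⟨ψ, hψ, hψk⟩ := id hk
      have hBS₀ : B ≤ S₀ := hBn.1.trans hUS
      have hBmap := Subgroup.map_subgroupOf_eq_of_le hBS₀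
      have hgen : ∀ R, R = B → ∀ ψ : R →* Ω, ψ ∈ F.Hom R →
          (∀ φ : R →* Ω, φ ∈ F.Hom R → φ ∈ CF.Hom R) →
          (∀ x : R, ψ x = k x) → k b = b := by
        rintro R rfl ψ hψ hall hψk
        obtain ⟨-, -, -, k', -, h4, h5⟩ :=
          (isMor_centralizerSystem hCF).mp (⟨ψ, hall ψ hψ, hψk⟩ : IsMor CF R k)
        rw [← h4 b hb, h5 b hb]
      have hall : ∀ φ : ↥((B.subgroupOf S₀).map S₀.subtype) →* Ω,
          φ ∈ F.Hom _ → φ ∈ CF.Hom _ := by
        intro φ hφ
        obtain ⟨⟨P', φ', hφ'⟩, e⟩ := hbij.2 ⟨B.subgroupOf S₀, φ, hφ⟩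
        obtain ⟨rfl, h2⟩ := Sigma.mk.inj_iff.mp e
        have := congrArg Subtype.val (eq_of_heq h2)
        exact (show φ' = φ from this) ▸ hφ'
      refine hgen _ hBmap (ψ.comp (Subgroup.inclusion hBmap.le)) ?_ hall fun x => ?_
      · exact ((hk.restrict hBmap.le) : IsMor F _ k).mem_hom fun x => hψk ⟨x, hBmap.le x.2⟩
      · exact hψk ⟨x, hBmap.le x.2⟩
    obtain ⟨φ', hφ', hφ'l, -, hφ'i⟩ := hφ.inverse
    rw [hφi] at hφ' hφ'i
    have hAB : A = B := by
      rw [← hφ'i]
      exact (img_congr (g := id) (key φ' hφ')).trans (img_id B)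
    subst hAB
    exact hmv (key f₀ hf₀ a₀ ha₀)
  have hC : ∀ P k, IsMor F P k → B ≤ P → P ≤ centralizerIn U B → (∀ x ∈ B, k x = x) →
      IsMor E P k := by
    intro P k hk hBP hP hkB
    have hcf : IsMor CF P k := by
      refine (isMor_centralizerSystem hCF).mpr ⟨hk, hP, fun x hx => mem_centralizerIn.mpr
        ⟨hk.mem hx, fun b hb => ?_⟩, k, by rwa [sup_eq_left.mpr hBP], fun _ _ => rfl, hkB⟩
      rw [← hkB b hb, cj, ← hk.map_conj hx (hBP hb)]
      exact congrArg k ((mem_centralizerIn.mp (hP hx)).2 b hb)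
    exact ((isMor_centralizerSystem hCE).mp (ih _ hlt (centralizerIn U B) CE CF
      (hCU.trans hUS) rfl (centralizerSystem_isSaturated hU hE hBfcE hCE)
      (centralizerSystem_isSaturated hU hF hBfc hCF) hCEF hCag P k hcf)).1
  have hδE : IsMor E Q1 δ := mem_of_cond hU hE hF hEF
    (isReceptive_of_centralized hU hF hBfc) (isReceptive_of_centralized hU hE hBfcE) hBsm.1
    (hBQ1.trans le_sup_left) hTN le_sup_right hC
    ⟨hδF, le_sup_left, hδT, δ, by rwa [sup_eq_left.mpr hBQ1], fun _ _ => rfl, 1, T.one_mem,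
      fun b hb => by rw [cj_one, hδB b hb]⟩
  -- unwind
  have huE : IsMor E Q u := by
    obtain ⟨δ', hδ', hδ'l, -, -⟩ := hδE.inverse
    refine (hg2Q.comp hδ' fun x hx => ?_).congr fun x hx => ?_
    · have e : g2 x = δ (u x) := by rw [hδ, Function.comp_apply, hu'l x hx]
      rw [e]
      exact mem_img_of_mem δ (mem_img_of_mem u hx)
    · rw [Function.comp_apply, show g2 x = δ (u x) by rw [hδ, Function.comp_apply, hu'l x hx]]
      exact hδ'l _ (mem_img_of_mem u hx)
  obtain ⟨g', hg', hg'l, -, -⟩ := hgQ.inverse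
  refine (huE.comp hg' fun x hx => mem_img_of_mem g (autFun_mem α hx)).congr fun x hx => ?_
  exact hg'l _ (autFun_mem α hx)

end CfsgLib.Fusion.SmallExp
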