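import Cfsg.Agent.Lib.Fusion.AutSystem
import Cfsg.Agent.Lib.Fusion.Normal
import Cfsg.Agent.Lib.PGroups.Basic
import Cfsg.Agent.Lib.SolvStruct.Huppert
import Cfsg.Agent.Lib.Involutions.Dihedral

/-!
# Supersoluble fusion systems

Every saturated system over `S` has a strongly closed series with cyclic steps if and only if `S`
is resistant and the subgroups of `Aut S` of order prime to `p` are abelian of exponent dividing
`p - 1`. For abelian `S` this says that the invariants are distinct.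
-/

set_option autoImplicit false
set_option linter.style.haveILetI false

namespace CfsgLib.Fusion

open Cfsg Cfsg.FusionSystem

variable {p : ℕ} [hp : Fact p.Prime]

section Series

variable {X : Type*} [Group X] [Finite X]

omit [Finite X] in
theorem fix_of_diff_fixed' (hX : IsPGroup p X) {h : MulAut X} (hh : (orderOf h).Coprime p) {x : X}
    (e : h (x⁻¹ * h x) = x⁻¹ * h x) : h x = x := by
  set d := x⁻¹ * h x with hd
  have hx : h x = x * d := by rw [hd, mul_inv_cancel_left]
  have hpow : ∀ m : ℕ, (h ^ m) x = x * d ^ m := by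
    intro m
    induction m with
    | zero => simp
    | succ m ih => rw [pow_succ', MulAut.mul_apply, ih, map_mul, map_pow, e, hx, mul_assoc, ← pow_succ']
  have h1 := hpow (orderOf h)
  rw [pow_orderOf_eq_one, MulAut.one_apply, left_eq_mul] at h1
  obtain ⟨k, hk⟩ := hX d
  have h2 : d = 1 := orderOf_eq_one_iff.mp (Nat.eq_one_of_dvd_coprimes (hh.pow_right k)
    (orderOf_dvd_of_pow_eq_one h1) (orderOf_dvd_of_pow_eq_one hk))
  rw [hx, h2, mul_one]

/-- A group of automorphisms of order prime to `p`, acting faithfully on the top of a series with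
cyclic steps, is abelian of exponent dividing `p - 1`. -/
theorem abelian_of_cyclic_series (hX : IsPGroup p X) (H : Subgroup (MulAut X))
    (hH : (Nat.card H).Coprime p) (n : ℕ) (W : ℕ → Subgroup X) (hn : ∀ i, (W i).Normal)
    (h0 : W 0 = ⊥) (hinv : ∀ h ∈ H, ∀ i ≤ n, ∀ x ∈ W i, h x ∈ W i)
    (hcyc : ∀ i < n, ∃ g ∈ W (i + 1), W (i + 1) ≤ W i ⊔ Subgroup.zpowers g)
    (hfix : ∀ h ∈ H, (∀ x ∈ W n, h x = x) → h = 1) :
    IsMulCommutative H ∧ ∀ h ∈ H, h ^ (p - 1) = 1 := by
  classical
  haveI : Finite (MulAut X) := Finite.of_injective (fun β : MulAut X => (β : X → X))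
    DFunLike.coe_injective
  have hord : ∀ h ∈ H, (orderOf h).Coprime p := fun h hh =>
    Nat.Coprime.coprime_dvd_left (by
      rw [← Subgroup.orderOf_mk h hh]; exact orderOf_dvd_natCard _) hH
  have hstab : ∀ h ∈ H, (∀ i < n, ∀ x ∈ W (i + 1), x⁻¹ * h x ∈ W i) → h = 1 := by
    intro h hh hs
    refine hfix h hh ?_
    suffices H' : ∀ i ≤ n, ∀ x ∈ W i, h x = x from H' n le_rfl
    intro i
    induction i with
    | zero =>
      intro _ x hx
      rw [h0, Subgroup.mem_bot] at hx
      rw [hx, map_one]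
    | succ i ih => exact fun hi x hx =>
        fix_of_diff_fixed' hX (hord h hh) (ih (by omega) _ (hs i (by omega) x hx))
  -- the action on a step is by powers
  have hstep : ∀ i < n, ∀ h ∈ H, ∃ r : ℤ, ∀ x ∈ W (i + 1),
      (haveI := hn i; (QuotientGroup.mk' (W i)) (h x) = (QuotientGroup.mk' (W i)) x ^ r) := by
    intro i hi h hh
    haveI := hn i
    obtain ⟨g, hg, hle⟩ := hcyc i hi
    have hsh : ∀ y ∈ W (i + 1), ∃ k : ℤ, QuotientGroup.mk' (W i) y =
        QuotientGroup.mk' (W i) g ^ k := fun y hy => by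
      obtain ⟨a, ha, b, ⟨k, rfl⟩, rfl⟩ := Subgroup.mem_sup_of_normal_left.mp (hle hy)
      refine ⟨k, ?_⟩
      rw [map_mul, map_zpow, QuotientGroup.mk'_apply, (QuotientGroup.eq_one_iff a).mpr ha, one_mul]
    obtain ⟨r, hr⟩ := hsh _ (hinv h hh (i + 1) (by omega) g hg)
    refine ⟨r, fun x hx => ?_⟩
    obtain ⟨a, ha, b, ⟨k, rfl⟩, rfl⟩ := Subgroup.mem_sup_of_normal_left.mp (hle hx)
    simp only [map_mul, map_zpow, QuotientGroup.mk'_apply,
      (QuotientGroup.eq_one_iff a).mpr ha, (QuotientGroup.eq_one_iff (h a)).mpr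
        (hinv h hh i (by omega) a ha), one_mul]
    rw [QuotientGroup.mk'_apply, QuotientGroup.mk'_apply] at hr
    rw [hr, ← zpow_mul, ← zpow_mul, mul_comm]
  refine ⟨⟨⟨fun a b => Subtype.ext ?_⟩⟩, fun h hh => ?_⟩
  · set c : MulAut X := ((b : MulAut X) * a)⁻¹ * ((a : MulAut X) * b) with hc
    have hcH : c ∈ H := H.mul_mem (H.inv_mem (H.mul_mem b.2 a.2)) (H.mul_mem a.2 b.2)
    refine (inv_mul_eq_one.mp (hstab c hcH fun i hi x hx => ?_)).symm
    haveI := hn i
    obtain ⟨r, hr⟩ := hstep i hi a a.2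
    obtain ⟨s, hs⟩ := hstep i hi b b.2
    rw [← QuotientGroup.eq]
    have hcx := hinv c hcH (i + 1) (by omega) x hx
    have e1 : ((a : MulAut X) * b) x = ((b : MulAut X) * a) (c x) := by
      rw [← MulAut.mul_apply, hc, mul_inv_cancel_left]
    have e2 : QuotientGroup.mk' (W i) (((a : MulAut X) * b) x) =
        QuotientGroup.mk' (W i) (((b : MulAut X) * a) x) := by
      rw [MulAut.mul_apply, MulAut.mul_apply, hr _ (hinv b b.2 (i + 1) (by omega) x hx), hs x hx,
        hs _ (hinv a a.2 (i + 1) (by omega) x hx), hr x hx, ← zpow_mul, ← zpow_mul, mul_comm]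
    rw [e1, QuotientGroup.mk'_apply, QuotientGroup.mk'_apply, QuotientGroup.eq] at e2
    have hba := H.inv_mem (H.mul_mem b.2 a.2)
    have h2 := hinv _ hba i (by omega) _ e2
    rw [map_mul, map_inv, MulAut.inv_apply_self, MulAut.inv_apply_self] at h2
    refine ((QuotientGroup.eq).mpr ?_).symm
    exact h2
  · obtain ⟨M, hM⟩ := IsPGroup.iff_card.mp hX
    have key : h ^ ((p - 1) * p ^ M) = 1 := by
      refine hstab _ (H.pow_mem hh _) fun i hi x hx => ?_
      haveI := hn i
      obtain ⟨r, hr⟩ := hstep i hi h hh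
      have hpow : ∀ m : ℕ, ∀ y ∈ W (i + 1),
          QuotientGroup.mk' (W i) ((h ^ m) y) = QuotientGroup.mk' (W i) y ^ (r ^ m) := by
        intro m
        induction m with
        | zero => simp
        | succ m ih =>
          intro y hy
          rw [pow_succ', MulAut.mul_apply, hr _ (hinv _ (H.pow_mem hh m) (i + 1) (by omega) y hy),
            ih y hy, ← zpow_mul, ← pow_succ]
      rw [← QuotientGroup.eq]
      refine Eq.symm ?_
      rw [← QuotientGroup.mk'_apply, ← QuotientGroup.mk'_apply, hpow _ x hx]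
      set z := QuotientGroup.mk' (W i) x with hz
      obtain ⟨e, he⟩ := (IsPGroup.iff_orderOf.mp (hX.to_quotient (W i))) z
      rcases Nat.eq_zero_or_pos e with rfl | he0
      · rw [pow_zero, orderOf_eq_one_iff] at he
        rw [he, one_zpow]
      conv_rhs => rw [← zpow_one z]
      rw [zpow_eq_zpow_iff_modEq, he]
      have hpz : Prime (p : ℤ) := Nat.prime_iff_prime_int.mp hp.out
      have hrp : ¬ (p : ℤ) ∣ r := fun hd => by
        have h1 := hpow (orderOf h) x hx
        rw [pow_orderOf_eq_one, MulAut.one_apply] at h1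
        change z = z ^ _ at h1
        conv_lhs at h1 => rw [← zpow_one z]
        rw [zpow_eq_zpow_iff_modEq, he] at h1
        have h2 : (p : ℤ) ∣ r ^ orderOf h - 1 :=
          (dvd_pow_self (p : ℤ) he0.ne').trans (by exact_mod_cast Int.modEq_iff_dvd.mp h1)
        have h3 : (p : ℤ) ∣ r ^ orderOf h := dvd_pow hd (orderOf_pos h).ne'
        exact hpz.not_dvd_one (by simpa using dvd_sub h3 h2)
      have hF : (p : ℤ) ∣ r ^ (p - 1) - 1 :=
        Int.modEq_iff_dvd.mp (Int.ModEq.pow_card_sub_one_eq_one hp.out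
          ((Prime.coprime_iff_not_dvd hpz).mpr hrp).symm).symm
      have h4 := dvd_sub_pow_of_dvd_sub hF M
      rw [one_pow, ← pow_mul] at h4
      refine (Int.modEq_iff_dvd.mpr ?_).symm
      have heM : e ≤ M + 1 := by
        have hd : orderOf z ∣ p ^ M := by
          refine orderOf_dvd_of_pow_eq_one ?_
          rw [hz, ← map_pow, ← hM, pow_card_eq_one', map_one]
        rw [he] at hd
        exact ((Nat.pow_dvd_pow_iff_le_right hp.out.one_lt).mp hd).trans (Nat.le_succ M)
      push_cast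
      exact (pow_dvd_pow (p : ℤ) heM).trans h4
    rw [pow_mul] at key
    refine orderOf_eq_one_iff.mp (Nat.eq_one_of_dvd_coprimes
      ((hord _ (H.pow_mem hh (p - 1))).pow_right M) dvd_rfl (orderOf_dvd_of_pow_eq_one key))

end Series

section Chains

variable {Ω : Type*} [Group Ω] {S : Subgroup Ω} {F : FusionSystem S} [Finite S]

/-- The series required for supersolubility. -/
def HasCyclicSeries (F : FusionSystem S) : Prop :=
  ∃ (m : ℕ) (c : Fin (m + 1) → Subgroup Ω), c 0 = ⊥ ∧ c (Fin.last m) = S ∧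
    (∀ i : Fin (m + 1), F.StronglyClosed (c i)) ∧
    ∀ i : Fin m, c i.castSucc ≤ c i.succ ∧ ∃ x ∈ S, c i.succ = c i.castSucc ⊔ Subgroup.zpowers x

omit hp [Finite S] in
theorem normal_subgroupOf_of_closed {A : Subgroup Ω} (hA : F.StronglyClosed A) :
    (A.subgroupOf S).Normal :=
  Subgroup.normal_subgroupOf_iff_le_normalizer hA.1 |>.mpr (stronglyClosed_le_normalizer hA)

omit hp in
/-- Subgroups between two strongly closed subgroups with cyclic quotient are strongly closed. -/
theorem stronglyClosed_between {A B C : Subgroup Ω} (hA : F.StronglyClosed A)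
    (hB : F.StronglyClosed B) {x : Ω} (hx : x ∈ B) (hBx : B ≤ A ⊔ Subgroup.zpowers x)
    (hAC : A ≤ C) (hCB : C ≤ B) : F.StronglyClosed C := by
  classical
  haveI := normal_subgroupOf_of_closed hA
  obtain ⟨hAS, hAc⟩ := stronglyClosed_iff.mp hA
  obtain ⟨hBS, hBc⟩ := stronglyClosed_iff.mp hB
  refine stronglyClosed_iff.mpr ⟨hCB.trans hBS, fun P f hf y hyP hyC => ?_⟩
  set q := QuotientGroup.mk' (A.subgroupOf S)
  set Bq := Subgroup.zpowers (q ⟨x, hBS hx⟩) with hBq
  set Cq := (C.subgroupOf S).map q with hCq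
  have hmemB : ∀ (b : Ω) (hb : b ∈ B), q ⟨b, hBS hb⟩ ∈ Bq := by
    intro b hb
    have h1 : (⟨b, hBS hb⟩ : S) ∈ A.subgroupOf S ⊔ Subgroup.zpowers ⟨x, hBS hx⟩ := by
      have h2 := hBx hb
      have h3 : (Subgroup.zpowers x).subgroupOf S = Subgroup.zpowers (⟨x, hBS hx⟩ : S) := by
        rw [← Subgroup.comap_subtype, show Subgroup.zpowers x =
          (Subgroup.zpowers (⟨x, hBS hx⟩ : S)).map S.subtype by rw [MonoidHom.map_zpowers]; rfl,
          Subgroup.comap_map_eq_self_of_injective S.subtype_injective]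
      rw [← h3, ← Subgroup.subgroupOf_sup hAS (Subgroup.zpowers_le.mpr (hBS hx))]
      exact h2
    obtain ⟨a, ha, b', ⟨k, rfl⟩, hab⟩ := Subgroup.mem_sup_of_normal_left.mp h1
    rw [← hab, map_mul, map_zpow, show q a = 1 from (QuotientGroup.eq_one_iff a).mpr ha, one_mul]
    exact ⟨k, rfl⟩
  have hCB' : Cq ≤ Bq := by
    rintro _ ⟨c, hc, rfl⟩
    exact hmemB c (hCB hc)
  set N := Nat.card Cq with hN
  have hy : q ⟨y, hBS (hCB hyC)⟩ ^ N = 1 := by
    have hm : q ⟨y, hBS (hCB hyC)⟩ ∈ Cq := ⟨_, hyC, rfl⟩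
    have := pow_card_eq_one' (x := (⟨_, hm⟩ : Cq))
    exact congrArg Subtype.val this
  have hyA : y ^ N ∈ A := by
    rw [← map_pow] at hy
    exact (QuotientGroup.eq_one_iff ((⟨y, hBS (hCB hyC)⟩ : S) ^ N)).mp hy
  have hfyB : f y ∈ B := hBc P f hf y hyP (hCB hyC)
  have hfy : q ⟨f y, hBS hfyB⟩ ^ N = 1 := by
    rw [← map_pow]
    refine (QuotientGroup.eq_one_iff _).mpr ?_
    show f y ^ N ∈ A
    rw [← hf.map_pow hyP]
    exact hAc P f hf _ (P.pow_mem hyP N) hyA
  -- in a cyclic group the elements killed by `N` form the subgroup of order `N`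
  letI : CommGroup Bq := IsCyclic.commGroup
  set K := (powMonoidHom N : Bq →* Bq).ker with hK
  have hle : Cq.subgroupOf Bq ≤ K := fun c hc => by
    have := congrArg Subtype.val
      (pow_card_eq_one' (x := (⟨((c : Bq) : S ⧸ A.subgroupOf S), hc⟩ : Cq)))
    simp only [SubmonoidClass.coe_pow, OneMemClass.coe_one] at this
    exact MonoidHom.mem_ker.mpr (Subtype.ext this)
  have hcardK : Nat.card K ≤ N := by
    rw [hK, IsCyclic.card_powMonoidHom_ker]
    exact Nat.le_of_dvd Nat.card_pos (Nat.gcd_dvd_right _ _)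
  have hcardC : Nat.card (Cq.subgroupOf Bq) = N :=
    Nat.card_congr (Subgroup.subgroupOfEquivOfLe hCB').toEquiv
  have heq := Subgroup.eq_of_le_of_card_ge hle (hcardC ▸ hcardK)
  have hm : (⟨_, hmemB _ hfyB⟩ : Bq) ∈ K := MonoidHom.mem_ker.mpr (Subtype.ext hfy)
  rw [← heq, Subgroup.mem_subgroupOf] at hm
  obtain ⟨c, hc, hce⟩ := hm
  have h5 : c⁻¹ * ⟨f y, hBS hfyB⟩ ∈ A.subgroupOf S := QuotientGroup.eq.mp hce
  have := C.mul_mem hc (hAC h5)
  simpa using this

/-- A series of strongly closed subgroups through which `S` acts trivially. -/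
def HasCentralSeries (F : FusionSystem S) (A : Subgroup Ω) : Prop :=
  ∃ (n : ℕ) (Qs : ℕ → Subgroup Ω), Qs 0 = ⊥ ∧ Qs n = A ∧ (∀ i ≤ n, F.StronglyClosed (Qs i)) ∧
    ∀ i < n, ⁅S, Qs (i + 1)⁆ ≤ Qs i

omit hp [Finite S] in
theorem HasCentralSeries.extend {A B : Subgroup Ω} (h : HasCentralSeries F A)
    (hB : F.StronglyClosed B) (hc : ⁅S, B⁆ ≤ A) : HasCentralSeries F B := by
  obtain ⟨n, Qs, h0, hn, hsc, hcomm⟩ := h
  refine ⟨n + 1, fun i => if i ≤ n then Qs i else B, by simpa using h0, by simp, fun i _ => ?_,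
    fun i hi => ?_⟩
  · by_cases h : i ≤ n <;> simp only [h, if_true, if_false]
    exacts [hsc i h, hB]
  · rcases Nat.lt_or_ge i n with h | h
    · simp only [show i + 1 ≤ n by omega, show i ≤ n by omega, if_true]
      exact hcomm i h
    · obtain rfl : i = n := by omega
      simp only [show ¬ i + 1 ≤ i by omega, le_refl, if_true, if_false, hn]
      exact hc

theorem HasCentralSeries.of_cyclic (hS : IsPGroup p S) {A B : Subgroup Ω}
    (h : HasCentralSeries F A) (hA : F.StronglyClosed A) (hB : F.StronglyClosed B) (hAB : A ≤ B)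
    {x : Ω} (hx : x ∈ B) (hBx : B ≤ A ⊔ Subgroup.zpowers x) : HasCentralSeries F B := by
  suffices key : ∀ (k : ℕ) (C : Subgroup Ω), A ≤ C → C ≤ B → Nat.card C = k →
      HasCentralSeries F C from key _ B hAB le_rfl rfl
  intro k
  induction k using Nat.strong_induction_on with
  | _ k ih =>
    intro C hAC hCB hk
    rcases eq_or_lt_of_le hAC with rfl | hlt
    · exact h
    have hC := stronglyClosed_between hA hB hx hBx hAC hCB
    have hcomm : ⁅S, C⁆ ≤ C := by
      rw [Subgroup.commutator_le]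
      intro s hs c hc
      have := (Subgroup.mem_normalizer_iff.mp (stronglyClosed_le_normalizer hC hs) c).mp hc
      exact C.mul_mem this (C.inv_mem hc)
    set D := A ⊔ ⁅S, C⁆ with hD
    have hDC : D ≤ C := sup_le hAC hcomm
    have hne : D ≠ C := fun e => by
      haveI := normal_subgroupOf_of_closed hA
      set q := QuotientGroup.mk' (A.subgroupOf S)
      haveI := normal_subgroupOf_of_closed hC
      set N := (C.subgroupOf S).map q
      haveI : N.Normal := Subgroup.Normal.map inferInstance q (QuotientGroup.mk'_surjective _)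
      have hN : N ≠ ⊥ := fun hbot => by
        rw [Subgroup.map_eq_bot_iff, QuotientGroup.ker_mk'] at hbot
        exact hlt.not_ge fun c hc => hbot (show (⟨c, hC.1 hc⟩ : S) ∈ C.subgroupOf S from hc)
      have e1 : C.subgroupOf S ≤ A.subgroupOf S ⊔ ⁅C.subgroupOf S, (⊤ : Subgroup S)⁆ := by
        rw [← Subgroup.map_le_map_iff_of_injective S.subtype_injective, Subgroup.map_sup,
          Subgroup.map_commutator, ← MonoidHom.range_eq_map, Subgroup.range_subtype,
          Subgroup.map_subgroupOf_eq_of_le hC.1, Subgroup.map_subgroupOf_eq_of_le hA.1,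
          Subgroup.commutator_comm, ← hD, e]
      have e2 : N ≤ ⁅N, (⊤ : Subgroup (↥S ⧸ A.subgroupOf S))⁆ := by
        refine (Subgroup.map_mono (f := q) e1).trans (le_of_eq ?_)
        rw [Subgroup.map_sup, Subgroup.map_commutator, QuotientGroup.map_mk'_self, bot_sup_eq,
          Subgroup.map_top_of_surjective q (QuotientGroup.mk'_surjective _)]
      exact (PGroups.commutator_top_lt (hS.to_quotient _) hN).not_ge e2
    have hlt' : D < C := lt_of_le_of_ne hDC hne
    have hDsc := stronglyClosed_between hA hB hx hBx le_sup_left (hDC.trans hCB)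
    refine HasCentralSeries.extend (ih _ ?_ D le_sup_left (hDC.trans hCB) rfl) hC le_sup_right
    rw [← hk]
    exact card_lt_of_lt hC.1 hlt'

theorem isNormal_of_cyclicSeries (hS : IsPGroup p S) (hF : F.IsSaturated p)
    (h : HasCyclicSeries F) : F.IsNormal S := by
  obtain ⟨m, c, h0, hl, hsc, hstep⟩ := h
  have key : ∀ i : Fin (m + 1), HasCentralSeries F (c i) := by
    intro i
    induction i using Fin.induction with
    | zero => exact ⟨0, fun _ => ⊥, rfl, h0.symm, fun _ _ => h0 ▸ hsc 0, fun i hi => by omega⟩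
    | succ i ih =>
      obtain ⟨hle, x, -, hcx⟩ := hstep i
      exact ih.of_cyclic hS (hsc _) (hsc _) hle
        (hcx.ge (Subgroup.mem_sup_right (Subgroup.mem_zpowers x))) hcx.le
  obtain ⟨n, Qs, hQ0, hQn, hQsc, hQc⟩ := key (Fin.last m)
  exact isNormal_of_chain hS hF n Qs hQ0 (hQn.trans hl) hQsc hQc

theorem abelian_of_forall_cyclicSeries (hS : IsPGroup p S)
    (h : ∀ F : FusionSystem S, F.IsSaturated p → HasCyclicSeries F) (H : Subgroup (MulAut S))
    (hH : (Nat.card H).Coprime p) : IsMulCommutative H ∧ ∀ h ∈ H, h ^ (p - 1) = 1 := by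
  obtain ⟨E, hE, hEm⟩ := exists_autSystem hS H hH
  obtain ⟨m, c, h0, hl, hsc, hstep⟩ := h E hE
  have hlt : ∀ i : ℕ, min i m < m + 1 := fun i => by omega
  refine abelian_of_cyclic_series hS H hH m
    (fun i => (c ⟨min i m, hlt i⟩).subgroupOf S)
    (fun i => normal_subgroupOf_of_closed (hsc _))
    (by simp [h0]) (fun γ hγ i _ x hx => ?_) (fun i hi => ?_) fun γ _ hfix => ?_
  · have hm : IsMor E S (autFun γ) :=
      (hEm S _).mpr ⟨le_rfl, 1, S.one_mem, γ, hγ, fun x _ => (cj_one _).symm⟩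
    rw [Subgroup.mem_subgroupOf] at hx ⊢
    rw [← autFun_coe]
    exact (stronglyClosed_iff.mp (hsc _)).2 S _ hm x x.2 hx
  · obtain ⟨hle, x, hxS, hcx⟩ := hstep ⟨i, hi⟩
    have e1 : (⟨min i m, hlt i⟩ : Fin (m + 1)) = (⟨i, hi⟩ : Fin m).castSucc :=
      Fin.ext (by simp; omega)
    have e2 : (⟨min (i + 1) m, hlt (i + 1)⟩ : Fin (m + 1)) = (⟨i, hi⟩ : Fin m).succ :=
      Fin.ext (by simp; omega)
    have h3 : (Subgroup.zpowers x).subgroupOf S = Subgroup.zpowers (⟨x, hxS⟩ : S) := by
      rw [← Subgroup.comap_subtype, show Subgroup.zpowers x =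
        (Subgroup.zpowers (⟨x, hxS⟩ : S)).map S.subtype by rw [MonoidHom.map_zpowers]; rfl,
        Subgroup.comap_map_eq_self_of_injective S.subtype_injective]
    refine ⟨⟨x, hxS⟩, ?_, ?_⟩
    · rw [e2, hcx]
      exact Subgroup.mem_sup_right (Subgroup.mem_zpowers x)
    · simp only [e1, e2, hcx]
      rw [Subgroup.subgroupOf_sup (hsc _).1 (Subgroup.zpowers_le.mpr hxS), h3]
  · refine MulEquiv.ext fun x => hfix x ?_
    rw [Subgroup.mem_subgroupOf, show (⟨min m m, hlt m⟩ : Fin (m + 1)) = Fin.last m from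
      Fin.ext (by simp), hl]
    exact x.2

/-- A proper invariant normal subgroup extends by a cyclic invariant step. -/
theorem exists_cyclic_step {X : Type*} [Group X] [Finite X] (hX : IsPGroup p X) (H : Subgroup (MulAut X))
    (hH : IsMulCommutative H) (hexp : ∀ h ∈ H, h ^ (p - 1) = 1) {A : Subgroup X} [A.Normal]
    (hA : ∀ h ∈ H, ∀ a ∈ A, h a ∈ A) (hne : A ≠ ⊤) :
    ∃ x ∉ A, ∀ h ∈ H, ∀ y ∈ A ⊔ Subgroup.zpowers x, h y ∈ A ⊔ Subgroup.zpowers x ∧
      ∀ s : X, s * y * s⁻¹ ∈ A ⊔ Subgroup.zpowers x := by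
  classical
  set q := QuotientGroup.mk' A
  have hQ : IsPGroup p (X ⧸ A) := hX.to_quotient A
  haveI : Nontrivial (X ⧸ A) := QuotientGroup.nontrivial_iff.mpr hne
  let φ : MulAut X → (h : MulAut X) → (∀ a ∈ A, h a ∈ A) → X ⧸ A →* X ⧸ A :=
    fun _ h hh => QuotientGroup.map A A h.toMonoidHom hh
  have hφ : ∀ (h : MulAut X) (hh : ∀ a ∈ A, h a ∈ A) (x : X), φ h h hh (q x) = q (h x) :=
    fun h hh x => rfl
  -- the minimal invariant subgroups of the central elements of order dividing `p`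
  let good : Subgroup (X ⧸ A) → Prop := fun U => U ≠ ⊥ ∧ U ≤ Subgroup.center (X ⧸ A) ∧
    (∀ u ∈ U, u ^ p = 1) ∧ ∀ x : X, q x ∈ U → ∀ h ∈ H, q (h x) ∈ U
  have hex : ∃ U, good U := by
    refine ⟨{ carrier := {u | u ∈ Subgroup.center (X ⧸ A) ∧ u ^ p = 1}
              one_mem' := ⟨one_mem _, one_pow _⟩
              mul_mem' := fun {a b} ha hb => ⟨mul_mem ha.1 hb.1, by
                rw [(Commute.symm (Subgroup.mem_center_iff.mp ha.1 b)).mul_pow, ha.2, hb.2, one_mul]⟩
              inv_mem' := fun {a} ha => ⟨inv_mem ha.1, by rw [inv_pow, ha.2, inv_one]⟩ },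
      fun hbot => ?_, fun u hu => hu.1, fun u hu => hu.2, fun x hx h hh => ?_⟩
    · haveI := hQ.center_nontrivial
      obtain ⟨n, hn0, hn⟩ := (hQ.to_subgroup (Subgroup.center (X ⧸ A))).nontrivial_iff_card.mp
        inferInstance
      obtain ⟨u, hu⟩ := exists_prime_orderOf_dvd_card' p (hn ▸ dvd_pow_self p hn0.ne')
      have hmem : (u : X ⧸ A) ∈ Subgroup.center (X ⧸ A) ∧ (u : X ⧸ A) ^ p = 1 :=
        ⟨u.2, by rw [← hu, ← Subgroup.orderOf_coe, pow_orderOf_eq_one]⟩
      have h1 : (u : X ⧸ A) = 1 := Subgroup.mem_bot.mp (hbot.le hmem)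
      rw [Subtype.ext h1 (a2 := (1 : Subgroup.center (X ⧸ A))), orderOf_one] at hu
      exact hp.out.one_lt.ne hu
    · refine ⟨Subgroup.mem_center_iff.mpr fun g => ?_, ?_⟩
      · obtain ⟨g, rfl⟩ := QuotientGroup.mk'_surjective A g
        obtain ⟨g, rfl⟩ := h.surjective g
        rw [← hφ h (hA h hh) g, ← hφ h (hA h hh) x, ← map_mul (φ h h (hA h hh)),
          ← map_mul (φ h h (hA h hh)), Subgroup.mem_center_iff.mp hx.1 (q g)]
      · rw [← hφ h (hA h hh) x, ← map_pow, hx.2, map_one]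
  obtain ⟨U, hUgood, hUmin⟩ : ∃ U, good U ∧ ∀ U', good U' → Nat.card U ≤ Nat.card U' := by
    obtain ⟨U, hU⟩ := hex
    haveI := Fintype.ofFinite (Subgroup (X ⧸ A))
    have hne' : ((Finset.univ : Finset (Subgroup (X ⧸ A))).filter good).Nonempty :=
      ⟨U, by simp [hU]⟩
    obtain ⟨U', hU', hmin⟩ := Finset.exists_min_image _ (fun U : Subgroup (X ⧸ A) => Nat.card U) hne'
    exact ⟨U', (Finset.mem_filter.mp hU').2, fun U'' h'' => hmin U'' (by simp [h''])⟩
  obtain ⟨hU1, hUc, hUp, hUinv⟩ := hUgood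
  have hUinv' : ∀ h (hh : h ∈ H), ∀ u ∈ U, φ h h (hA h hh) u ∈ U := by
    intro h hh u hu
    obtain ⟨x, rfl⟩ := QuotientGroup.mk'_surjective A u
    exact hUinv x hu h hh
  -- every element of `H` is a power map on `U`
  have hscal : ∀ h (hh : h ∈ H), ∃ c : ℕ, ∀ u ∈ U, φ h h (hA h hh) u = u ^ c := by
    intro h hh
    haveI : IsMulCommutative U :=
      ⟨⟨fun a b => Subtype.ext (Subgroup.mem_center_iff.mp (hUc b.2) a.1)⟩⟩
    letI : CommGroup U := IsMulCommutative.instCommGroup
    haveI : Nontrivial U := U.nontrivial_iff_ne_bot.mpr hU1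
    let ψ : U →* U := ((φ h h (hA h hh)).comp U.subtype).codRestrict U fun u => hUinv' h hh u u.2
    have hit : ∀ (m : ℕ) (x : X) (hx : q x ∈ U), ((ψ^[m] ⟨q x, hx⟩ : U) : X ⧸ A) = q ((h ^ m) x) := by
      intro m
      induction m with
      | zero => intro x hx; rfl
      | succ m ih =>
        intro x hx
        rw [Function.iterate_succ_apply', pow_succ', MulAut.mul_apply, ← hφ h (hA h hh), ← ih x hx]
        rfl
    obtain ⟨c, v, hv, hTv⟩ := SolvStruct.exists_nsmul_eigen (p := p) (V := Additive U)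
      (fun v => congrArg Additive.ofMul (Subtype.ext (hUp _ (Additive.toMul v).2) :
        (Additive.toMul v) ^ p = 1)) (MonoidHom.toAdditive ψ) (fun v => by
        have key : ∀ (m : ℕ) (v : Additive U),
            (MonoidHom.toAdditive ψ)^[m] v = Additive.ofMul (ψ^[m] (Additive.toMul v)) := by
          intro m
          induction m with
          | zero => intro v; rfl
          | succ m ih =>
            intro v
            rw [Function.iterate_succ_apply', ih, Function.iterate_succ_apply']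
            rfl
        rw [key]
        refine Additive.toMul.injective (Subtype.ext ?_)
        obtain ⟨x, hx⟩ := QuotientGroup.mk'_surjective A ((Additive.toMul v : U) : X ⧸ A)
        have hxU : q x ∈ U := hx ▸ (Additive.toMul v).2
        rw [show Additive.toMul v = (⟨q x, hxU⟩ : U) from Subtype.ext hx.symm]
        show ((ψ^[p - 1] ⟨q x, hxU⟩ : U) : X ⧸ A) = q x
        rw [hit, hexp h hh, MulAut.one_apply])
    refine ⟨c, ?_⟩
    let U' : Subgroup (X ⧸ A) :=
      { carrier := {u | u ∈ U ∧ φ h h (hA h hh) u = u ^ c}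
        one_mem' := ⟨U.one_mem, by rw [map_one, one_pow]⟩
        mul_mem' := fun {a b} ha hb => ⟨U.mul_mem ha.1 hb.1, by
          rw [map_mul, ha.2, hb.2, (Commute.symm (Subgroup.mem_center_iff.mp (hUc ha.1) b)).mul_pow]⟩
        inv_mem' := fun {a} ha => ⟨U.inv_mem ha.1, by rw [map_inv, ha.2, inv_pow]⟩ }
    have hgood : good U' := by
      refine ⟨fun hbot => hv ?_, fun u hu => hUc hu.1, fun u hu => hUp u hu.1,
        fun x hx k hk => ⟨hUinv x hx.1 k hk, ?_⟩⟩
      · refine Additive.toMul.injective (Subtype.ext ?_)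
        exact Subgroup.mem_bot.mp (hbot.le ⟨(Additive.toMul v).2,
          congrArg (fun w : Additive U => ((Additive.toMul w : U) : X ⧸ A)) hTv⟩)
      · have hcomm : h * k = k * h :=
          congrArg Subtype.val (hH.is_comm.comm (⟨h, hh⟩ : H) ⟨k, hk⟩)
        rw [hφ h (hA h hh), ← MulAut.mul_apply, hcomm, MulAut.mul_apply, ← hφ k (hA k hk),
          ← hφ h (hA h hh), hx.2, map_pow, hφ k (hA k hk)]
    have hle : U' ≤ U := fun u hu => hu.1
    intro u hu
    have := Subgroup.eq_of_le_of_card_ge hle (hUmin U' hgood)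
    exact (this.ge hu).2
  obtain ⟨u, hu, hu1⟩ := (Subgroup.bot_or_exists_ne_one U).resolve_left hU1
  obtain ⟨x, rfl⟩ := QuotientGroup.mk'_surjective A u
  have hsup : A ⊔ Subgroup.zpowers x = (Subgroup.zpowers (q x)).comap q := by
    rw [← MonoidHom.map_zpowers, Subgroup.comap_map_eq, QuotientGroup.ker_mk', sup_comm]
  refine ⟨x, fun hx => hu1 ((QuotientGroup.eq_one_iff x).mpr hx), fun h hh y hy => ?_⟩
  rw [hsup] at hy ⊢
  obtain ⟨k, hk⟩ := hy
  change q x ^ k = q y at hk
  refine ⟨?_, fun s => ?_⟩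
  · obtain ⟨c, hc⟩ := hscal h hh
    refine ⟨c * k, ?_⟩
    show q x ^ ((c : ℤ) * k) = q (h y)
    rw [← hφ h (hA h hh) y, ← hk, map_zpow, hc _ hu, zpow_mul, zpow_natCast]
  · refine ⟨k, ?_⟩
    show q x ^ k = q (s * y * s⁻¹)
    rw [map_mul, map_mul, map_inv, ← hk,
      Subgroup.mem_center_iff.mp (zpow_mem (hUc hu) k) (q s), mul_inv_cancel_right]

theorem cyclicSeries_of_normal (hS : IsPGroup p S) (hF : F.IsSaturated p) (hN : F.IsNormal S)
    (hab : ∀ H : Subgroup (MulAut S), (Nat.card H).Coprime p →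
      IsMulCommutative H ∧ ∀ h ∈ H, h ^ (p - 1) = 1) :
    HasCyclicSeries F := by
  classical
  haveI : Finite (MulAut S) := finite_mulAut (P := S) le_rfl
  set Af := F.autGroup S with hAf
  set K := (autInducedBy S S).subgroupOf Af with hKdef
  obtain ⟨R, hR⟩ := (exists_sylow_iff (autInducedBy_le F le_rfl)).mpr
    (isFullyAutomized_iff.mp (isFullyAutomized_of_normalized hS hF (isFullyNormalized_self F)).1).2
  haveI hKn : K.Normal := by
    rw [hKdef, ← inn_eq_autInducedBy]
    exact inn_subgroupOf_normal F S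
  have hcopK : (Nat.card K).Coprime K.index := by
    rw [hKdef, ← hR]
    exact R.card_coprime_index
  obtain ⟨H₀, hH₀⟩ := Subgroup.exists_right_complement'_of_coprime (N := K) hcopK
  set H := H₀.map Af.subtype with hHdef
  have hcop : (Nat.card H).Coprime p := by
    rw [hHdef, Subgroup.card_map_of_injective Af.subtype_injective, ← hH₀.symm.index_eq_card,
      hKdef, ← hR]
    exact ((Fact.out : p.Prime).coprime_iff_not_dvd.mpr R.not_dvd_index).symm
  obtain ⟨hcomm, hexp⟩ := hab H hcop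
  -- subgroups invariant under `S` and `H` are strongly closed
  have hclosed : ∀ A : Subgroup Ω, A ≤ S → (A.subgroupOf S).Normal →
      (∀ h ∈ H, ∀ a ∈ A.subgroupOf S, h a ∈ A.subgroupOf S) → F.StronglyClosed A := by
    intro A hAS hAn hAH
    refine stronglyClosed_iff.mpr ⟨hAS, fun P f hf x hxP hxA => ?_⟩
    obtain ⟨g, hg, hgf, hgS⟩ := (isNormal_iff.mp hN).2 P f hf
    obtain ⟨α, hα, hαe⟩ := exists_aut (hg.restrict le_sup_right) hgS
    obtain ⟨k, hk, b, hb, hkb⟩ := Subgroup.mem_sup_of_normal_left.mp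
      (hH₀.sup_eq_top ▸ Subgroup.mem_top (⟨α, hα⟩ : Af))
    have hxS := hAS hxA
    rw [← hgf x hxP, ← hαe x hxS, autFun_of_mem α hxS]
    have e : α = (k : MulAut S) * b := (congrArg Subtype.val hkb).symm
    rw [e, MulAut.mul_apply]
    have hbx : (b : MulAut S) ⟨x, hxS⟩ ∈ A.subgroupOf S := hAH _ ⟨b, hb, rfl⟩ _ hxA
    obtain ⟨t, ht, -, hte⟩ := mem_autInducedBy.mp (Subgroup.mem_subgroupOf.mp hk)
    rw [← autFun_coe, hte _ (SetLike.coe_mem _)]
    exact hAn.conj_mem _ hbx ⟨t, ht⟩
  have key : ∀ (d : ℕ) (A : Subgroup Ω), A ≤ S → (A.subgroupOf S).Normal →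
      (∀ h ∈ H, ∀ a ∈ A.subgroupOf S, h a ∈ A.subgroupOf S) →
      Nat.card S - Nat.card A = d →
      ∃ (m : ℕ) (c : Fin (m + 1) → Subgroup Ω), c 0 = A ∧ c (Fin.last m) = S ∧
        (∀ i : Fin (m + 1), F.StronglyClosed (c i)) ∧
        ∀ i : Fin m, c i.castSucc ≤ c i.succ ∧
          ∃ x ∈ S, c i.succ = c i.castSucc ⊔ Subgroup.zpowers x := by
    intro d
    induction d using Nat.strong_induction_on with
    | _ d ih =>
      intro A hAS hAn hAH hd
      have hAc := hclosed A hAS hAn hAH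
      rcases eq_or_lt_of_le hAS with heq | hlt
      · subst heq
        exact ⟨0, fun _ => A, rfl, rfl, fun _ => hAc, fun i => i.elim0⟩
      obtain ⟨x, hxA, hx⟩ := exists_cyclic_step hS H hcomm hexp hAH
        (fun e => hlt.not_ge (Subgroup.subgroupOf_eq_top.mp e))
      set B := A ⊔ Subgroup.zpowers (x : Ω) with hB
      have hBS : B ≤ S := sup_le hAS (Subgroup.zpowers_le.mpr x.2)
      have hBsub : B.subgroupOf S = A.subgroupOf S ⊔ Subgroup.zpowers x := by
        refine Subgroup.map_injective S.subtype_injective ?_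
        rw [Subgroup.map_sup, Subgroup.map_subgroupOf_eq_of_le hBS,
          Subgroup.map_subgroupOf_eq_of_le hAS, MonoidHom.map_zpowers]
        rfl
      have hBn : (B.subgroupOf S).Normal := ⟨fun y hy s => by
        rw [hBsub] at hy ⊢; exact (hx 1 H.one_mem y hy).2 s⟩
      have hBH : ∀ h ∈ H, ∀ a ∈ B.subgroupOf S, h a ∈ B.subgroupOf S := fun h hh a ha => by
        rw [hBsub] at ha ⊢; exact (hx h hh a ha).1
      have hAB : A < B := lt_of_le_of_ne le_sup_left fun e =>
        hxA (e.ge (Subgroup.mem_sup_right (Subgroup.mem_zpowers (x : Ω))))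
      have hcard := card_lt_of_lt hBS hAB
      have hBcard : Nat.card B ≤ Nat.card S := Subgroup.card_le_of_le hBS
      obtain ⟨m, c, hc0, hcl, hcsc, hcstep⟩ := ih _ (by omega) B hBS hBn hBH rfl
      refine ⟨m + 1, Fin.cons A c, rfl, ?_, fun i => ?_, fun i => ?_⟩
      · rw [← Fin.succ_last, Fin.cons_succ, hcl]
      · induction i using Fin.cases with
        | zero => exact hAc
        | succ i => rw [Fin.cons_succ]; exact hcsc i
      · induction i using Fin.cases with
        | zero =>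
          rw [Fin.castSucc_zero, Fin.cons_zero, Fin.cons_succ, hc0]
          exact ⟨le_sup_left, x, x.2, rfl⟩
        | succ i =>
          rw [← Fin.succ_castSucc, Fin.cons_succ, Fin.cons_succ]
          exact hcstep i
  exact key _ ⊥ bot_le (by rw [Subgroup.bot_subgroupOf]; infer_instance)
    (fun h _ a ha => by
      rw [Subgroup.bot_subgroupOf, Subgroup.mem_bot] at ha ⊢
      rw [ha, map_one]) rfl

/-- Every saturated system over `S` is supersoluble iff `S` is resistant and the automorphism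
groups of order prime to `p` are abelian of exponent dividing `p - 1`. -/
theorem cyclicSeries_iff (hS : IsPGroup p S) :
    (∀ F : FusionSystem S, F.IsSaturated p → HasCyclicSeries F) ↔
      (∀ F : FusionSystem S, F.IsSaturated p → F.IsNormal S) ∧
        ∀ H : Subgroup (MulAut S), (Nat.card H).Coprime p →
          IsMulCommutative H ∧ ∀ h ∈ H, h ^ (p - 1) = 1 :=
  ⟨fun h => ⟨fun F hF => isNormal_of_cyclicSeries hS hF (h F hF),
      abelian_of_forall_cyclicSeries hS h⟩,
    fun h F hF => cyclicSeries_of_normal hS hF (h.1 F hF) h.2⟩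

end Chains

end CfsgLib.Fusion
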