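import Cfsg.Agent.Lib.Fusion.Supersoluble

/-!
# Supersoluble fusion systems over abelian groups
-/

set_option autoImplicit false
set_option linter.style.haveILetI false

namespace CfsgLib.Fusion

open Cfsg Cfsg.FusionSystem

variable {p : ℕ} [hp : Fact p.Prime]

/-- The shape of an element of order dividing `p` lying in `p ^ k • ZMod (p ^ e)`. -/
theorem zmod_step {e k : ℕ} {c y : ZMod (p ^ e)} (hc : p • c = 0) (hy : (p ^ k) • y = c) :
    (e ≤ k → c = 0) ∧ (e ≠ k + 1 → ∃ z : ZMod (p ^ e), (p ^ (k + 1)) • z = c) ∧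
      (e = k + 1 → c = y.val • ((p ^ k) • (1 : ZMod (p ^ e)))) := by
  haveI : NeZero (p ^ e) := ⟨pow_ne_zero _ hp.out.ne_zero⟩
  have h1 : e ≤ k → c = 0 := fun hek => by
    rw [← hy, nsmul_eq_mul, (ZMod.natCast_eq_zero_iff _ _).mpr (pow_dvd_pow p hek), zero_mul]
  refine ⟨h1, fun hne => ?_, fun _ => ?_⟩
  · rcases Nat.lt_or_ge k e with hlt | hge
    · obtain ⟨e', rfl⟩ : ∃ e', e = e' + 1 := ⟨e - 1, by omega⟩
      have h2 : p ^ (e' + 1) ∣ p * c.val := by
        rw [← ZMod.natCast_eq_zero_iff, Nat.cast_mul, ZMod.natCast_zmod_val, ← nsmul_eq_mul, hc]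
      replace h2 : p ^ e' ∣ c.val :=
        (Nat.mul_dvd_mul_iff_left hp.out.pos).mp (pow_succ' p e' ▸ h2)
      obtain ⟨z, hz⟩ := (pow_dvd_pow p (show k + 1 ≤ e' by omega)).trans h2
      exact ⟨(z : ZMod (p ^ (e' + 1))), by rw [nsmul_eq_mul, ← Nat.cast_mul, ← hz, ZMod.natCast_zmod_val]⟩
    · exact ⟨0, by rw [smul_zero, h1 hge]⟩
  · rw [← hy, nsmul_eq_mul, nsmul_eq_mul, nsmul_eq_mul, mul_one, ZMod.natCast_zmod_val, mul_comm]

variable {Ω : Type*} [Group Ω] {S : Subgroup Ω} [Finite S]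

/-- Two equal invariants give a noncommutative group of automorphisms of order prime to `p`, or
one of exponent not dividing `p - 1`. -/
theorem not_abelian_of_pair {Z H : Type} [CommGroup Z] [CommGroup H] (e : S ≃* (Z × Z) × H)
    (g : Z) (hg1 : g ≠ 1) (hg2 : p ≠ 2 → g⁻¹ ≠ g)
    (hall : ∀ K : Subgroup (MulAut S), (Nat.card K).Coprime p →
      IsMulCommutative K ∧ ∀ h ∈ K, h ^ (p - 1) = 1) : False := by
  let Φ : MulAut (Z × Z) →* MulAut S :=
    { toFun := fun σ => MulAut.congr e.symm (MulEquiv.prodCongr σ (MulEquiv.refl H))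
      map_one' := by
        ext x; simp [MulAut.congr, MulEquiv.prodCongr]
      map_mul' := fun σ τ => by
        ext x; simp [MulAut.congr, MulEquiv.prodCongr]; rfl }
  have hΦ : ∀ (σ : MulAut (Z × Z)) (z : Z × Z), Φ σ (e.symm (z, 1)) = e.symm (σ z, 1) :=
    fun σ z => by simp [Φ, MulAut.congr, MulEquiv.prodCongr]
  have hne : ∀ (σ τ : MulAut (Z × Z)) (z : Z × Z), σ z ≠ τ z → Φ σ ≠ Φ τ := fun σ τ z h e' => by
    have := DFunLike.congr_fun e' (e.symm (z, 1))
    rw [hΦ, hΦ] at this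
    exact h (congrArg Prod.fst (e.symm.injective this))
  rcases hp.out.eq_two_or_odd with rfl | hodd
  · let β : MulAut (Z × Z) :=
      { toFun := fun z => (z.2, (z.1 * z.2)⁻¹)
        invFun := fun z => ((z.1 * z.2)⁻¹, z.1)
        left_inv := fun z => Prod.ext (by simp) rfl
        right_inv := fun z => Prod.ext rfl (by simp)
        map_mul' := fun z w => by
          refine Prod.ext rfl ?_
          show (z.1 * w.1 * (z.2 * w.2))⁻¹ = (z.1 * z.2)⁻¹ * (w.1 * w.2)⁻¹
          rw [← mul_inv, mul_mul_mul_comm] }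
    have hne1 : Φ β ≠ 1 := by
      rw [← map_one Φ]
      refine hne β 1 (g, 1) fun h => hg1 ?_
      exact (congrArg Prod.fst h).symm
    have h3 : Φ β ^ 3 = 1 := by
      rw [← map_pow, show β ^ 3 = 1 from ?_, map_one]
      refine MulEquiv.ext fun z => ?_
      show β (β (β z)) = z
      refine Prod.ext ?_ ?_ <;> simp [β, mul_comm]
    have hc : (Nat.card (Subgroup.zpowers (Φ β))).Coprime 2 := by
      haveI : Fact (Nat.Prime 3) := ⟨Nat.prime_three⟩
      rw [Nat.card_zpowers, orderOf_eq_prime h3 hne1]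
      norm_num
    exact hne1 (by simpa using (hall _ hc).2 _ (Subgroup.mem_zpowers _))
  · have hg2' := hg2 (by omega)
    let σ : MulAut (Z × Z) := MulEquiv.prodComm
    let τ : MulAut (Z × Z) := MulEquiv.prodCongr (MulEquiv.inv Z) (MulEquiv.refl Z)
    have hσ : orderOf (Φ σ) = 2 := by
      refine orderOf_eq_prime ?_ ?_
      · rw [sq, ← map_mul, show σ * σ = 1 from MulEquiv.ext fun z => rfl, map_one]
      · rw [← map_one Φ]
        exact hne σ 1 (g, 1) fun h => hg1 (congrArg Prod.fst h).symm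
    have hτ : orderOf (Φ τ) = 2 := by
      refine orderOf_eq_prime ?_ ?_
      · rw [sq, ← map_mul, show τ * τ = 1 from MulEquiv.ext fun z => ?_, map_one]
        exact Prod.ext (inv_inv z.1) rfl
      · rw [← map_one Φ]
        exact hne τ 1 (g, 1) fun h => hg2' (congrArg Prod.fst h)
    set f := Involutions.dihedralHom hσ hτ with hf
    have h4 : (Φ σ * Φ τ) ^ 4 = 1 := by
      rw [← map_mul, ← map_pow, show (σ * τ) ^ 4 = 1 from ?_, map_one]
      refine MulEquiv.ext fun z => ?_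
      show σ (τ (σ (τ (σ (τ (σ (τ z))))))) = z
      refine Prod.ext ?_ ?_ <;> simp [σ, τ, MulEquiv.prodCongr]
    have hd : orderOf (Φ σ * Φ τ) ∣ 4 := orderOf_dvd_of_pow_eq_one h4
    haveI : NeZero (orderOf (Φ σ * Φ τ)) := ⟨fun h => by rw [h] at hd; norm_num at hd⟩
    have hc : (Nat.card f.range).Coprime p := by
      refine Nat.Coprime.coprime_dvd_left ((Subgroup.card_range_dvd f).trans ?_)
        (show Nat.Coprime 8 p from ?_)
      · rw [DihedralGroup.nat_card]
        exact Nat.mul_dvd_mul_left 2 hd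
      · rw [show 8 = 2 ^ 3 by norm_num]
        exact ((Nat.coprime_primes Nat.prime_two hp.out).mpr (by omega)).pow_left 3
    have hσf : Φ σ ∈ f.range := ⟨DihedralGroup.sr 0, by simp [f, Involutions.dihedralHom]⟩
    have hτf : Φ τ ∈ f.range := by
      have hστ : Φ σ * Φ τ ∈ f.range := ⟨DihedralGroup.r 1, by
        rcases Nat.lt_or_ge 1 (orderOf (Φ σ * Φ τ)) with h | h
        · haveI := Fact.mk h
          show (Φ σ * Φ τ) ^ ((1 : ZMod (orderOf (Φ σ * Φ τ))).cast : ℤ) = _
          rw [← ZMod.natCast_val, ZMod.val_one, Nat.cast_one, zpow_one]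
        · have h0 := NeZero.ne (orderOf (Φ σ * Φ τ))
          have h1 := orderOf_eq_one_iff.mp (show orderOf (Φ σ * Φ τ) = 1 by omega)
          simp [f, Involutions.dihedralHom, h1]⟩
      simpa using f.range.mul_mem (f.range.inv_mem hσf) hστ
    have hcomm : Φ σ * Φ τ = Φ τ * Φ σ :=
      congrArg Subtype.val ((hall _ hc).1.is_comm.comm ⟨_, hσf⟩ ⟨_, hτf⟩)
    rw [← map_mul, ← map_mul] at hcomm
    refine hne (σ * τ) (τ * σ) (g, 1) (fun h => hg2' ?_) hcomm
    have h2 := congrArg Prod.snd h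
    simpa [σ, τ, MulEquiv.prodCongr] using h2

theorem not_abelian_of_decomposition {n : ℕ} (hn : 0 < n) {H : Type} [CommGroup H]
    (e : S ≃* (Multiplicative (ZMod (p ^ n)) × Multiplicative (ZMod (p ^ n))) × H)
    (hall : ∀ K : Subgroup (MulAut S), (Nat.card K).Coprime p →
      IsMulCommutative K ∧ ∀ h ∈ K, h ^ (p - 1) = 1) : False := by
  haveI : Fact (1 < p ^ n) := ⟨Nat.one_lt_pow hn.ne' hp.out.one_lt⟩
  refine not_abelian_of_pair e (Multiplicative.ofAdd 1)
    (fun h => one_ne_zero (Multiplicative.ofAdd.injective h)) (fun hp2 h => hp2 ?_) hall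
  have h' : -(1 : ZMod (p ^ n)) = 1 := Multiplicative.ofAdd.injective h
  have h2 : ((2 : ℕ) : ZMod (p ^ n)) = 0 := by
    push_cast
    linear_combination -h'
  rw [ZMod.natCast_eq_zero_iff] at h2
  exact Nat.prime_dvd_prime_iff_eq hp.out Nat.prime_two |>.mp ((dvd_pow_self p hn.ne').trans h2)

/-- Distinct invariants force the automorphism groups of order prime to `p` to be abelian of
exponent dividing `p - 1`. -/
theorem abelian_of_no_decomposition (hS : IsPGroup p S) (hab : IsMulCommutative S)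
    (hno : ¬ ∃ (n : ℕ) (H : Type) (_ : CommGroup H), 0 < n ∧
      Nonempty (S ≃* (Multiplicative (ZMod (p ^ n)) × Multiplicative (ZMod (p ^ n))) × H))
    (K : Subgroup (MulAut S)) (hK : (Nat.card K).Coprime p) :
    IsMulCommutative K ∧ ∀ h ∈ K, h ^ (p - 1) = 1 := by
  classical
  letI : CommGroup S := IsMulCommutative.instCommGroup
  obtain ⟨ι, hι, m, hm, ⟨φ⟩⟩ := CommGroup.equiv_prod_multiplicative_zmod_of_finite S
  haveI : ∀ i, NeZero (m i) := fun i => ⟨by have := hm i; omega⟩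
  have hpow : ∀ i, ∃ a, m i = p ^ a := fun i => by
    obtain ⟨a, ha⟩ := (IsPGroup.iff_orderOf.mp hS)
      (φ.symm (Pi.mulSingle i (Multiplicative.ofAdd 1)))
    refine ⟨a, ?_⟩
    rw [MulEquiv.orderOf_eq, orderOf_piMulSingle, orderOf_ofAdd_eq_addOrderOf,
      ZMod.addOrderOf_one] at ha
    exact ha
  choose a ha using hpow
  obtain rfl : m = fun i => p ^ a i := funext ha
  have hinj : Function.Injective a := by
    intro i j hij
    by_contra hne
    refine hno ⟨a i, (l : {l // l ≠ i ∧ l ≠ j}) → Multiplicative (ZMod (p ^ a l.1)), inferInstance,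
      Nat.pos_of_ne_zero fun h0 => ?_, ?_⟩
    · have := hm i
      simp only [h0, pow_zero] at this
      omega
    let c : ZMod (p ^ a j) ≃+ ZMod (p ^ a i) :=
      (ZMod.ringEquivCongr (by rw [hij])).toAddEquiv
    let c' : Multiplicative (ZMod (p ^ a j)) ≃* Multiplicative (ZMod (p ^ a i)) :=
      c.toMultiplicative
    let f : ((l : ι) → Multiplicative (ZMod (p ^ a l))) →*
        (Multiplicative (ZMod (p ^ a i)) × Multiplicative (ZMod (p ^ a i))) ×
          ((l : {l // l ≠ i ∧ l ≠ j}) → Multiplicative (ZMod (p ^ a l.1))) :=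
      MonoidHom.mk' (fun v => ((v i, c' (v j)), fun l => v l.1)) fun v w => by
        simp only [Pi.mul_apply, map_mul]
        rfl
    refine ⟨φ.trans (MulEquiv.ofBijective f ⟨fun v w h => ?_, fun u => ?_⟩)⟩
    · simp only [f, MonoidHom.mk'_apply, Prod.mk.injEq] at h
      funext l
      by_cases h1 : l = i
      · subst h1; exact h.1.1
      by_cases h2 : l = j
      · subst h2; exact c'.injective h.1.2
      exact congrFun h.2 ⟨l, h1, h2⟩
    · refine ⟨Function.update (Function.update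
        (fun l => if h : l ≠ i ∧ l ≠ j then u.2 ⟨l, h⟩ else 1) i u.1.1) j (c'.symm u.1.2), ?_⟩
      refine Prod.ext (Prod.ext ?_ ?_) (funext fun l => ?_)
      · simp [f, Function.update_of_ne hne]
      · simp [f]
      · simp [f, l.2.1, l.2.2]
  obtain ⟨M, hM⟩ := IsPGroup.iff_card.mp hS
  let D : ℕ → Subgroup S := fun k =>
    (powMonoidHom p : S →* S).ker ⊓ (powMonoidHom (p ^ k) : S →* S).range
  have hD : ∀ k (x : S), x ∈ D k ↔ x ^ p = 1 ∧ ∃ y, y ^ p ^ k = x := fun k x => Iff.rfl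
  refine abelian_of_cyclic_series hS K hK M (fun i => D (M - i)) (fun i => inferInstance) ?_
    (fun h _ i _ x hx => ?_) (fun i hi => ?_) fun h hh hfix => ?_
  · refine eq_bot_iff.mpr fun x hx => ?_
    obtain ⟨-, y, rfl⟩ := (hD _ _).mp hx
    rw [Nat.sub_zero, Subgroup.mem_bot, ← hM, pow_card_eq_one']
  · obtain ⟨h1, y, rfl⟩ := (hD _ _).mp hx
    exact (hD _ _).mpr ⟨by rw [← map_pow, h1, map_one], h y, (map_pow h y _).symm⟩
  · set k := M - (i + 1) with hk
    show ∃ g ∈ D k, D k ≤ D (M - i) ⊔ Subgroup.zpowers g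
    rw [show M - i = k + 1 by omega]
    obtain ⟨g, hgD, hg⟩ : ∃ g : (l : ι) → Multiplicative (ZMod (p ^ a l)), φ.symm g ∈ D k ∧
        ∀ x ∈ D k, ∃ r : ℕ, ∀ l, ∃ z : ZMod (p ^ a l), (p ^ (k + 1)) • z =
          Multiplicative.toAdd (φ x l) - r • Multiplicative.toAdd (g l) := by
      have hcomp : ∀ x ∈ D k, ∀ l, p • Multiplicative.toAdd (φ x l) = 0 ∧
          ∃ y : ZMod (p ^ a l), (p ^ k) • y = Multiplicative.toAdd (φ x l) := by
        intro x hx l
        obtain ⟨h1, y, rfl⟩ := (hD _ _).mp hx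
        refine ⟨?_, Multiplicative.toAdd (φ y l), ?_⟩
        · rw [← toAdd_pow, ← Pi.pow_apply, ← map_pow φ, h1, map_one]; rfl
        · rw [← toAdd_pow, ← Pi.pow_apply, ← map_pow φ]
      by_cases hex : ∃ i₀, a i₀ = k + 1
      · obtain ⟨i₀, hi₀⟩ := hex
        refine ⟨Pi.mulSingle i₀ (Multiplicative.ofAdd ((p ^ k) • (1 : ZMod (p ^ a i₀)))),
          (hD _ _).mpr ⟨?_, φ.symm (Pi.mulSingle i₀ (Multiplicative.ofAdd 1)), ?_⟩, fun x hx => ?_⟩
        · rw [← map_pow, ← Pi.mulSingle_pow, ← ofAdd_nsmul, ← mul_smul, ← pow_succ', ← hi₀,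
            nsmul_eq_mul, ZMod.natCast_self, zero_mul, ofAdd_zero, Pi.mulSingle_one, map_one]
        · rw [← map_pow, ← Pi.mulSingle_pow, ← ofAdd_nsmul]
        obtain ⟨y, hy⟩ := (hcomp x hx i₀).2
        refine ⟨y.val, fun l => ?_⟩
        obtain ⟨hl1, z, hz⟩ := hcomp x hx l
        by_cases hl : l = i₀
        · subst hl
          refine ⟨0, ?_⟩
          rw [smul_zero, Pi.mulSingle_eq_same, toAdd_ofAdd,
            ← (zmod_step hl1 hy).2.2 hi₀, sub_self]
        · rw [Pi.mulSingle_eq_of_ne hl, toAdd_one, smul_zero, sub_zero]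
          exact (zmod_step hl1 hz).2.1 fun e' => hl (hinj (e'.trans hi₀.symm))
      · refine ⟨1, by rw [map_one]; exact one_mem _, fun x hx => ⟨0, fun l => ?_⟩⟩
        obtain ⟨hl1, z, hz⟩ := hcomp x hx l
        rw [zero_smul, sub_zero]
        exact (zmod_step hl1 hz).2.1 fun e' => hex ⟨l, e'⟩
    refine ⟨φ.symm g, hgD, fun x hx => ?_⟩
    obtain ⟨r, hr⟩ := hg x hx
    choose z hz using hr
    have hv : x * (φ.symm g ^ r)⁻¹ ∈ D (k + 1) := by
      refine (hD _ _).mpr ⟨?_, φ.symm (fun l => Multiplicative.ofAdd (z l)), ?_⟩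
      · rw [mul_pow, ((hD _ _).mp hx).1, inv_pow, ← pow_mul, mul_comm r, pow_mul,
          ((hD _ _).mp hgD).1, one_pow, inv_one, one_mul]
      · refine φ.injective (funext fun l => Multiplicative.toAdd.injective ?_)
        rw [map_pow, MulEquiv.apply_symm_apply, map_mul, map_inv, map_pow,
          MulEquiv.apply_symm_apply]
        simp only [Pi.pow_apply, Pi.mul_apply, Pi.inv_apply, toAdd_pow, toAdd_mul, toAdd_inv,
          toAdd_ofAdd]
        rw [hz l, sub_eq_add_neg]
    have := Subgroup.mul_mem (D (k + 1) ⊔ Subgroup.zpowers (φ.symm g))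
      (Subgroup.mem_sup_left hv)
      (Subgroup.mem_sup_right (Subgroup.npow_mem_zpowers (φ.symm g) r))
    rwa [inv_mul_cancel_right] at this
  · have hord : (orderOf h).Coprime p := Nat.Coprime.coprime_dvd_left (by
      rw [← Subgroup.orderOf_mk h hh]; exact orderOf_dvd_natCard _) hK
    have key : ∀ (j : ℕ) (x : S), x ^ p ^ j = 1 → h x = x := by
      intro j
      induction j with
      | zero => intro x hx; rw [pow_zero, pow_one] at hx; rw [hx, map_one]
      | succ j ih =>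
        intro x hx
        have h1 : h (x ^ p) = x ^ p := ih _ (by rw [← pow_mul, ← pow_succ']; exact hx)
        refine fix_of_diff_fixed' hS hord (hfix _ ?_)
        rw [Nat.sub_self]
        refine (hD _ _).mpr ⟨?_, x⁻¹ * h x, by rw [pow_zero, pow_one]⟩
        rw [mul_pow, inv_pow, ← map_pow, h1, inv_mul_cancel]
    exact MulEquiv.ext fun x => key M x (by rw [← hM, pow_card_eq_one'])

/-- Over an abelian group every system is supersoluble iff the invariants are distinct. -/
theorem cyclicSeries_iff_abelian (hS : IsPGroup p S) (hab : IsMulCommutative S) :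
    (∀ F : FusionSystem S, F.IsSaturated p → HasCyclicSeries F) ↔
      ¬ ∃ (n : ℕ) (H : Type) (_ : CommGroup H), 0 < n ∧
        Nonempty (S ≃* (Multiplicative (ZMod (p ^ n)) × Multiplicative (ZMod (p ^ n))) × H) := by
  rw [cyclicSeries_iff hS]
  refine ⟨fun ⟨_, h⟩ ⟨n, H, _, hn, ⟨e⟩⟩ => not_abelian_of_decomposition hn e h,
    fun h => ⟨fun F hF => ?_, abelian_of_no_decomposition hS hab h⟩⟩
  refine isNormal_of_abelian hS hF
    (stronglyClosed_iff.mpr ⟨le_rfl, fun P f hf x hx _ => hf.mem hx⟩) fun x hx y hy => ?_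
  exact congrArg Subtype.val (hab.is_comm.comm (⟨x, hx⟩ : S) ⟨y, hy⟩)

end CfsgLib.Fusion
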