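import Mathlib
import Cfsg.Agent.Lib.Fusion.Tate
import Cfsg.Agent.Lib.Fusion.Criteria
import Cfsg.Agent.Lib.Fusion.FactorExists
import Cfsg.Agent.Lib.Fusion.FactorSaturated
import Cfsg.Agent.Lib.Fusion.NormalizerSaturated

/-! Consequences of Tate's theorem. -/
set_option autoImplicit false

namespace CfsgLib.Fusion

open Cfsg Cfsg.FusionSystem

universe u

variable {Ω : Type u} [Group Ω] {S : Subgroup Ω} [Finite S] {F : FusionSystem S} {p : ℕ}
  [hp : Fact p.Prime]

theorem commutator_le_frattini_map (hS : IsPGroup p S) :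
    ⁅S, S⁆ ≤ (frattini S).map S.subtype := by
  rw [← Subgroup.map_subtype_commutator]
  exact Subgroup.map_mono (CfsgLib.PGroups.commutator_le_frattini hS)

theorem normal_of_commutator_le {Q : Subgroup Ω} (hQ : Q ≤ S) (h : ⁅S, S⁆ ≤ Q) {s : Ω}
    (hs : s ∈ S) {z : Ω} (hz : z ∈ Q) : cj s z ∈ Q := by
  have := Q.mul_mem (h (Subgroup.commutator_mem_commutator hs (hQ hz))) hz
  simpa [commutatorElement_def, cj, mul_assoc] using this

/-- If `Aut(S)` is inner, every map is trivial modulo a strongly closed subgroup containing `[S,S]`. -/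
theorem diff_mem_of_aut_inner (hS : IsPGroup p S) (hF : F.IsSaturated p)
    (hinn : F.autGroup S ≤ Inn S) {T : Subgroup Ω} (hT : F.StronglyClosed T) (hc : ⁅S, S⁆ ≤ T)
    {P : Subgroup Ω} {f : Ω → Ω} (hf : IsMor F P f) {x : Ω} (hx : x ∈ P) : x⁻¹ * f x ∈ T := by
  classical
  set T' := T.subgroupOf S with hT'
  have hn : T'.Normal := ⟨fun z hz s => Subgroup.mem_subgroupOf.mpr
    (normal_of_commutator_le hT.1 hc s.2 (Subgroup.mem_subgroupOf.mp hz))⟩
  set θ := QuotientGroup.mk' T' with hθ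
  have hker : ∀ s : S, θ s = 1 ↔ (s : Ω) ∈ T := fun s =>
    (QuotientGroup.eq_one_iff s).trans Subgroup.mem_subgroupOf
  have hrange : θ.range = ⊤ := MonoidHom.range_eq_top.mpr (QuotientGroup.mk'_surjective T')
  have hab : ∀ a b : S ⧸ T', a * b = b * a := by
    intro a b
    obtain ⟨a, rfl⟩ := QuotientGroup.mk'_surjective T' a
    obtain ⟨b, rfl⟩ := QuotientGroup.mk'_surjective T' b
    rw [← map_mul, ← map_mul]
    refine QuotientGroup.eq.mpr (Subgroup.mem_subgroupOf.mpr ?_)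
    have := hc (Subgroup.commutator_mem_commutator (S.inv_mem b.2) (S.inv_mem a.2))
    simpa [commutatorElement_def, mul_assoc] using this
  obtain ⟨E, hE⟩ := exists_factorSystem hT hker hrange
  have hEs := factor_isSaturated hS hF hT hE
  have hpQ : IsPGroup p (⊤ : Subgroup (S ⧸ T')) := (hS.to_quotient T').to_subgroup _
  have hcent : ∀ U : Subgroup (S ⧸ T'), centralizerIn (⊤ : Subgroup (S ⧸ T')) U = ⊤ := fun U =>
    eq_top_iff.mpr fun a _ => mem_centralizerIn.mpr ⟨trivial, fun y _ => by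
      rw [cj, cj_fixed_iff]; exact hab a y⟩
  obtain ⟨g, hg, hgf⟩ := exists_map_sup hS hF hT hf
  rw [← preimage_image hker hT.1 hf.le] at hg
  obtain ⟨f', hf', hf'g⟩ := factor_push hE hT le_top hg
  have hfc : E.IsFullyCentralized (img (imageAlong θ P) f') :=
    ⟨le_top, fun U _ => by rw [hcent, hcent]⟩
  obtain ⟨g', hg', hg'f⟩ :=
    (isReceptive_iff.mp (isReceptive_of_centralized hpQ hEs hfc)).2 _ f' hf' rfl
  have hNE : nExt (⊤ : Subgroup (S ⧸ T')) (imageAlong θ P) f' = ⊤ := eq_top_iff.mpr fun a _ =>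
    ⟨trivial, Subgroup.mem_normalizer_iff.mpr fun y => by rw [hab a y, mul_inv_cancel_right], 1,
      trivial, fun y _ => by rw [cj_one, cj, hab a y, mul_inv_cancel_right]⟩
  rw [hNE] at hg'
  obtain ⟨k, hk, hkg⟩ := factor_lift hE hg'
  have hpre : preimageAlong θ (⊤ : Subgroup (S ⧸ T')) = S := by
    refine le_antisymm (preimageAlong_le _) fun y hy => mem_preimageAlong.mpr ⟨hy, trivial⟩
  rw [hpre] at hk
  obtain ⟨α, hα, hαe⟩ := exists_aut hk (eq_of_le_of_card le_rfl hk.img_le hk.card_img.ge)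
  obtain ⟨s, hs, hse⟩ := mem_inn.mp (hinn hα)
  have hxS : x ∈ S := hf.le hx
  have hm : θ ⟨x, hxS⟩ ∈ imageAlong θ P := ⟨⟨x, hxS⟩, hx, rfl⟩
  have hgx : g x ∈ S := hg.mem (mem_preimageAlong.mpr ⟨hxS, hm⟩)
  have hkx : k x ∈ S := hk.mem hxS
  have h1 : θ ⟨g x, hgx⟩ = θ ⟨x, hxS⟩ := by
    rw [← hf'g ⟨x, hxS⟩ hgx hm, ← hg'f _ hm, hkg ⟨x, hxS⟩ hkx trivial,
      show (⟨k x, hkx⟩ : S) = ⟨s, hs⟩ * ⟨x, hxS⟩ * ⟨s, hs⟩⁻¹ from
        Subtype.ext ((hαe x hxS).symm.trans (hse x hxS)),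
      map_mul, map_mul, map_inv, hab (θ ⟨s, hs⟩) (θ ⟨x, hxS⟩), mul_inv_cancel_right]
  have h2 : x⁻¹ * g x ∈ T := (hker (⟨x, hxS⟩⁻¹ * ⟨g x, hgx⟩)).mp (by
    rw [map_mul, map_inv, h1, inv_mul_cancel])
  have := T.mul_mem h2 (T.inv_mem (hgf x hx))
  simpa [mul_assoc] using this

theorem isPGroup_aut_of_hyp_eq_bot (hyp : F.hyperfocalSubgroup p = ⊥) {P : Subgroup Ω}
    (hP : P ≤ S) : IsPGroup p (F.autGroup P) := by
  have := finite_mulAut hP
  refine IsPGroup.iff_card.mpr ?_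
  by_contra hcon
  obtain ⟨q, hq, hqd, hqne⟩ : ∃ q, q.Prime ∧ q ∣ Nat.card (F.autGroup P) ∧ q ≠ p := by
    by_contra hno
    push Not at hno
    exact hcon ⟨_, Nat.eq_prime_pow_of_unique_prime_dvd Nat.card_pos.ne' fun hd hd' => hno _ hd hd'⟩
  have := Fact.mk hq
  obtain ⟨a, ha⟩ := exists_prime_orderOf_dvd_card' q hqd
  have hc : (orderOf (a : MulAut P)).Coprime p := by
    rw [Subgroup.orderOf_coe, ha]
    exact (Nat.coprime_primes hq hp.out).mpr hqne
  have h1 : (a : MulAut P) = 1 := autFun_inj fun x hx => by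
    have h2 := hyp_gen hP a.2 hc hx
    rw [hyp, Subgroup.mem_bot, inv_mul_eq_one] at h2
    rw [autFun_one hx]
    exact h2.symm
  rw [← Subgroup.orderOf_coe, h1, orderOf_one] at ha
  exact hq.one_lt.ne ha

/-- A saturated system with inner `Aut(S)` and a strongly closed `T` between `[S,S]` and `Φ(S)` is inner. -/
theorem eq_inner_of_stronglyClosed (hS : IsPGroup p S) (hF : F.IsSaturated p)
    (hinn : F.autGroup S ≤ Inn S) {T : Subgroup Ω} (hT : F.StronglyClosed T) (hc : ⁅S, S⁆ ≤ T)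
    (hle : T ≤ (frattini S).map S.subtype) : F = innerFusionSystem S := by
  refine eq_inner_of_isPGroup hS hF fun P hP => isPGroup_aut_of_hyp_eq_bot ?_ hP
  refine tate hS hF bot_le (fun s _ z hz => by rw [Subgroup.mem_bot] at hz; simp [hz, cj]) ?_
  rw [bot_sup_eq]
  exact hyp_le fun P hP α hα _ x hx =>
    hle (diff_mem_of_aut_inner hS hF hinn hT hc (isMor_autFun hP hα) hx)

theorem aut_inner_of_normalizer (hN : ∀ N : FusionSystem (normalizerIn S S), F.IsNormalizerSystem S N →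
    ∀ P : Subgroup Ω, N.Hom P = (innerFusionSystem (normalizerIn S S)).Hom P)
    {N : FusionSystem (normalizerIn S S)} (hNs : F.IsNormalizerSystem S N) :
    F.autGroup S ≤ Inn S := by
  intro α hα
  have hSN : S ≤ normalizerIn S S := le_normalizerIn le_rfl
  have h1 : IsMor N S (autFun α) := (isMor_normalizerSystem hNs).mpr
    ⟨isMor_autFun le_rfl hα, hSN, fun x hx => hSN (autFun_mem α hx), autFun α,
      (isMor_autFun le_rfl hα).restrict (sup_le le_rfl le_rfl), fun _ _ => rfl, img_autFun α⟩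
  obtain ⟨-, g, hg, he⟩ := isMor_inner.mp ((hom_eq_iff.mp (hN N hNs S) _).mp h1)
  exact mem_inn.mpr ⟨g, normalizerIn_le hg, he⟩

theorem normalizer_eq_inner (hS : IsPGroup p S) (hF : F.IsSaturated p)
    (hinn : F.autGroup S ≤ Inn S) {Q : Subgroup Ω} (h1 : ⁅S, S⁆ ≤ Q)
    (h2 : Q ≤ (frattini S).map S.subtype) {N : FusionSystem (normalizerIn S Q)}
    (hN : F.IsNormalizerSystem Q N) : N = innerFusionSystem (normalizerIn S Q) := by
  have hQS : Q ≤ S := h2.trans (Subgroup.map_subtype_le _)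
  have hSn : normalizerIn S Q = S := le_antisymm normalizerIn_le fun a ha =>
    mem_normalizerIn.mpr ⟨ha, by
      refine Subgroup.mem_normalizer_iff.mpr fun z =>
        ⟨fun hz => normal_of_commutator_le hQS h1 ha hz, fun hz => ?_⟩
      have := normal_of_commutator_le hQS h1 (S.inv_mem ha) hz
      simpa [cj, mul_assoc] using this⟩
  have hQn : F.IsFullyNormalized Q := by
    refine ⟨hQS, fun U _ => ?_⟩
    rw [hSn]
    exact Subgroup.card_le_of_le normalizerIn_le
  have hNsat := normalizerSystem_isSaturated hS hF hQn hN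
  have hQN : Q ≤ normalizerIn S Q := le_normalizerIn hQS
  have hsc : N.StronglyClosed Q := stronglyClosed_iff.mpr ⟨hQN, fun P f hf x hxP hxQ => by
    obtain ⟨-, -, -, g, -, hgf, hgQ⟩ := (isMor_normalizerSystem hN).mp hf
    rw [← hgf x hxP]
    exact hgQ.le (mem_img_of_mem g hxQ)⟩
  have hle : N.IsSubsystemOf F :=
    le_iff_isMor.mpr fun P f hf => ((isMor_normalizerSystem hN).mp hf).1
  have key : ∀ (S' : Subgroup Ω) (E : FusionSystem S'), S' = S → E.IsSaturated p →
      E.StronglyClosed Q → E.IsSubsystemOf F → E = innerFusionSystem S' := by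
    rintro S' E rfl hEs hEc hEF
    exact eq_inner_of_stronglyClosed hS hEs ((autGroup_mono hEF).trans hinn) hEc h1 h2
  exact key _ N hSn hNsat hsc hle

end CfsgLib.Fusion
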