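import Mathlib
import Cfsg.Agent.Lib.Fusion.ThinFunctor
import Cfsg.Agent.Lib.Fusion.AutComplement

/-! Frobenius' criterion with characteristic subgroups, for fusion systems. -/
set_option autoImplicit false

universe u

namespace CfsgLib.Fusion

open Cfsg Cfsg.FusionSystem Equiv

variable {p : ℕ} [hp : Fact p.Prime] {Ω : Type u} [Group Ω] {S : Subgroup Ω} {F : FusionSystem S}

/-- All automizers of nontrivial characteristic subgroups of `S` are `p`-groups. -/
def CharAut (p : ℕ) (F : FusionSystem S) : Prop :=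
  ∀ Q : Subgroup Ω, Q ≤ S → Q ≠ ⊥ → AutInvariant S Q → IsPGroup p (F.autGroup Q)

omit hp in
theorem isPGroup_autGroup_of_nthin {Q : Subgroup Ω} (hS : IsPGroup p S) (hQ : Q ≤ S)
    (h : NThin F Q) : IsPGroup p (F.autGroup Q) := by
  rintro ⟨α, hα⟩
  obtain ⟨s, hs, e⟩ := h Q _ (isMor_autFun hQ hα) (le_normalizerIn hQ)
    ⟨autFun α, by rw [sup_idem]; exact isMor_autFun hQ hα, fun _ _ => rfl, img_autFun α⟩
  obtain ⟨m, hm⟩ := hS ⟨s, hs⟩
  have hsm : s ^ p ^ m = 1 := congrArg Subtype.val hm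
  refine ⟨m, Subtype.ext (autFun_inj fun x hx => ?_)⟩
  have key : ∀ n : ℕ, ∀ x ∈ Q, autFun (α ^ n) x = cj (s ^ n) x := by
    intro n
    induction n with
    | zero => intro x hx; rw [pow_zero, pow_zero, autFun_one hx, cj_one]
    | succ n ih =>
      intro x hx
      rw [pow_succ', pow_succ', autFun_mul _ _ hx, cj_mul, ← ih x hx, e _ (autFun_mem _ hx)]
  show autFun (α ^ p ^ m) x = autFun 1 x
  rw [key _ x hx, hsm, cj_one, autFun_one hx]

/-- An automorphism of `P` in the system maps invariant subgroups to themselves. -/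
theorem img_of_autInvariant {T Q : Subgroup Ω} (hQT : Q ≤ T) (hinv : AutInvariant T Q)
    {f : Ω → Ω} (hf : IsMor F T f) (hfT : img T f = T) : img Q f = Q := by
  obtain ⟨α, -, hα⟩ := exists_aut hf hfT
  refine le_antisymm (img_le fun x hx => ?_) fun x hx => ?_
  · rw [← hα x (hQT hx), autFun_of_mem α (hQT hx)]
    exact hinv α ⟨x, hQT hx⟩ hx
  · have h1 : autFun α⁻¹ x ∈ Q := by
      rw [autFun_of_mem _ (hQT hx)]
      exact hinv α⁻¹ ⟨x, hQT hx⟩ hx
    have := mem_img_of_mem f h1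
    rwa [← hα _ (hQT h1), autFun_inv_right α (hQT hx)] at this

theorem model_thin_of_charAut [Finite S] {L : Type u} [Group L] {ι : S →* L}
    (hL : F.IsModel p L ι) (hS4 : p ≠ 2 ∨ ¬ Involves (Perm (Fin 4)) L) (hA : CharAut p F) :
    Thin F := by
  obtain ⟨hfin, hr, ⟨T, hT⟩, -⟩ := id hL
  refine thin_of_range_eq_top hr (model_range_eq_top hL
    (complement_of_char_automizers (Nat.card L) L le_rfl T hS4 fun W hWT hW1 hinv g hg hgp => ?_))
  set Q := (W.comap ι).map S.subtype with hQ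
  have hQS : Q ≤ S := Subgroup.map_subtype_le _
  have hWι : ∀ w ∈ W, ∃ a : S, ι a = w ∧ (a : Ω) ∈ Q := fun w hw => by
    obtain ⟨a, rfl⟩ := hT.le (hWT hw)
    exact ⟨a, rfl, a, hw, rfl⟩
  have hmemQ : ∀ a : S, (a : Ω) ∈ Q ↔ ι a ∈ W := fun a => by
    refine ⟨?_, fun h => ⟨a, h, rfl⟩⟩
    rintro ⟨b, hb, e⟩
    rwa [show b = a from Subtype.ext e] at hb
  have hQ1 : Q ≠ ⊥ := fun h => hW1 (le_bot_iff.mp fun w hw => by
    obtain ⟨a, rfl, ha⟩ := hWι w hw
    rw [h, Subgroup.mem_bot] at ha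
    rw [show a = 1 from Subtype.ext ha, map_one]
    exact Subgroup.one_mem _)
  have hQinv : AutInvariant S Q := fun φ x hx => by
    let e : S ≃* ↥(T : Subgroup L) :=
      (MonoidHom.ofInjective hr.1).trans (MulEquiv.subgroupCongr hT.symm)
    have h1 := hinv (e.symm.trans (φ.trans e)) (e x) ((hmemQ x).mp hx)
    rw [MulEquiv.trans_apply, MulEquiv.trans_apply, MulEquiv.symm_apply_apply] at h1
    exact (hmemQ _).mpr h1
  have hgW : ∀ a : S, (a : Ω) ∈ Q → g * ι a * g⁻¹ ∈ W := fun a ha =>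
    (Subgroup.mem_normalizer_iff.mp hg _).mp ((hmemQ a).mp ha)
  obtain ⟨hf, hind⟩ := isMor_pullConj hr hQS fun a ha => hT.le (hWT (hgW a ha))
  have hfQ : img Q (pullConj ι g) = Q := hf.img_eq_self fun x hx => by
    have h1 := hind ⟨x, hQS hx⟩ ⟨_, hf.mem hx⟩ hx rfl
    exact (hmemQ ⟨_, hf.mem hx⟩).mpr (h1 ▸ hgW _ hx)
  obtain ⟨α, hα, hαe⟩ := exists_aut hf hfQ
  have key : ∀ n : ℕ, ∀ a : S, (a : Ω) ∈ Q → ∃ b : S, (b : Ω) = autFun (α ^ n) a ∧
      ι b = g ^ n * ι a * (g ^ n)⁻¹ := by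
    intro n
    induction n with
    | zero => intro a ha; exact ⟨a, by rw [pow_zero, autFun_one ha], by simp⟩
    | succ n ih =>
      intro a ha
      obtain ⟨b, hb, hbι⟩ := ih a ha
      have hbQ : (b : Ω) ∈ Q := hb ▸ autFun_mem _ ha
      refine ⟨⟨_, hf.mem hbQ⟩, ?_, ?_⟩
      · show pullConj ι g b = _
        rw [pow_succ', autFun_mul _ _ ha, ← hb, hαe _ hbQ]
      · rw [hind b _ hbQ rfl, hbι, pow_succ']
        group
  have hα1 : α = 1 := by
    have h1 : α ^ orderOf g = 1 := autFun_inj fun x hx => by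
      obtain ⟨b, hb, hbι⟩ := key (orderOf g) ⟨x, hQS hx⟩ hx
      rw [pow_orderOf_eq_one, one_mul, inv_one, mul_one] at hbι
      rw [autFun_one hx, ← hb, hr.1 hbι]
    obtain ⟨m, hm⟩ := hA Q hQS hQ1 hQinv ⟨α, hα⟩
    have h2 : α ^ p ^ m = 1 := congrArg Subtype.val hm
    have h3 := Nat.dvd_gcd (orderOf_dvd_of_pow_eq_one h1) (orderOf_dvd_of_pow_eq_one h2)
    rwa [(hgp.pow_right m).gcd_eq_one, Nat.dvd_one, orderOf_eq_one_iff] at h3
  intro w hw
  obtain ⟨a, rfl, ha⟩ := hWι w hw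
  have h1 := hind a ⟨_, hf.mem ha⟩ ha rfl
  have h2 : (⟨_, hf.mem ha⟩ : S) = a := Subtype.ext (by
    show pullConj ι g a = (a : Ω)
    rw [← hαe _ ha, hα1, autFun_one ha])
  rw [h2] at h1
  exact (eq_mul_inv_iff_mul_eq.mp h1)

/-- The fusion version of Frobenius' criterion with characteristic subgroups. -/
theorem thin_of_charAut (H : Type*) [Group H]
    (hH : p ≠ 2 ∨ ∀ (L : Type u) [Group L], ¬ Involves H L → ¬ Involves (Perm (Fin 4)) L)
    [Finite S] (hS : IsPGroup p S) (hF : F.IsSaturated p) (hfree : F.IsSectionFree p H)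
    (hA : CharAut p F) : Thin F := by
  refine thin_of_models (p := p) H (fun Ω' _ S' F' => CharAut p F') ?_ ?_ ?_ ?_ _ _ Ω S F rfl rfl hS
    hF hfree hA
  · intro Ω' _ S' F' D hsub h Q hQ hQ1 hinv
    refine (h Q hQ hQ1 hinv).to_le fun α hα => ?_
    exact (autGroup_eq_set hQ α).mpr (hsub _ _ (isMor_autFun hQ hα))
  · intro Ω' _ S' T _ F' D hS' _ _ hTS _ _ hV Q hQ hQ1 hinv
    exact isPGroup_autGroup_of_nthin (isPGroup_of_le hTS hS') hQ
      (hV Q hQ1 hQ fun f hf hfT => img_of_autInvariant hQ hinv hf hfT)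
  · intro Ω₁ _ S₁ _ F₁ R Ω₂ _ S₂ θ E hS₁ _ _ hE _ _ hV Q hQ hQ1 hinv
    have hr : θ.range = S₂ := (id hE).2.2.1
    have : Finite S₂ := hr ▸ Finite.of_surjective _ θ.rangeRestrict_surjective
    have hp₂ : IsPGroup p S₂ := hr ▸ hS₁.of_surjective _ θ.rangeRestrict_surjective
    refine isPGroup_autGroup_of_nthin hp₂ hQ (hV Q hQ1 hQ (mem_normalizer_of_conj_le fun s hs => ?_))
    exact (img_of_autInvariant hQ hinv (isMor_cj E (le_refl S₂) hs)
      (img_cj_of_normalizer (Subgroup.le_normalizer hs))).le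
  · intro Ω₁ _ S₁ _ F₁ _ _ h L _ ι hL hnot
    exact model_thin_of_charAut hL (hH.imp id fun h' => h' L hnot) h

end CfsgLib.Fusion
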