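import Mathlib
import Cfsg.Agent.Lib.Fusion.FunctorZJ

/-! The `Z(J)` criterion relative to a strongly closed subgroup. -/
set_option autoImplicit false

universe u

namespace CfsgLib.Fusion

open Cfsg Cfsg.FusionSystem CfsgLib.PLocal

/-- No conjugate of an element of `D` lies in `R` outside `D`. -/
def ClosedIn {G : Type*} [Group G] (R D : Subgroup G) : Prop :=
  ∀ x ∈ D, ∀ g : G, g * x * g⁻¹ ∈ R → g * x * g⁻¹ ∈ D

variable {p : ℕ} [hp : Fact p.Prime]

theorem ClosedIn.normalizer_le {G : Type*} [Group G] {R D : Subgroup G} (hD : D ≤ R)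
    (h : ClosedIn R D) {g : G} (hg : g ∈ Subgroup.normalizer (R : Set G)) :
    g ∈ Subgroup.normalizer (D : Set G) := by
  refine Subgroup.mem_normalizer_iff.mpr fun x => ⟨fun hx => ?_, fun hx => ?_⟩
  · exact h x hx g ((Subgroup.mem_normalizer_iff.mp hg x).mp (hD hx))
  · have hxR : x ∈ R := (Subgroup.mem_normalizer_iff.mp hg x).mpr (hD hx)
    have h1 := h _ hx g⁻¹ (by simpa [mul_assoc] using hxR)
    simpa [mul_assoc] using h1

/-- The condition for the reduction. -/
def ClosedCond (p : ℕ) (G : Type u) [Group G] (R : Subgroup G) : Prop :=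
  ∃ D ≤ R, ClosedIn R D ∧
    HasNormalPComplement p (Subgroup.normalizer (centerThompsonAOf D : Set G))

theorem closed_localCondition : CfsgLib.Transfer.LocalCondition.{u} p (fun G _ R => ClosedCond p G R) where
  mono := by
    rintro G _ _ U R _ hRU ⟨D, hDR, hcl, h⟩
    refine ⟨D.subgroupOf U, fun x hx => hDR hx, fun x hx g hg => hcl x hx g hg, ?_⟩
    have hDU := hDR.trans hRU
    have e : centerThompsonAOf (D.subgroupOf U) = (centerThompsonAOf D).subgroupOf U := by
      apply Subgroup.map_injective U.subtype_injective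
      rw [map_centerJAOf U.subtype_injective, Subgroup.map_subgroupOf_eq_of_le hDU,
        Subgroup.map_subgroupOf_eq_of_le]
      exact inf_le_left.trans ((Subgroup.map_subtype_le _).trans hDU)
    have hZU : centerThompsonAOf D ≤ U := inf_le_left.trans ((Subgroup.map_subtype_le _).trans hDU)
    rw [e, ← Subgroup.subgroupOf_normalizer_eq hZU]
    exact CfsgLib.Transfer.hasNormalPComplement_subgroupOf h
  quot := by
    rintro G _ _ P N hN' hN ⟨D, hDP, hcl, h⟩
    set π := QuotientGroup.mk' N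
    refine ⟨D.map π, Subgroup.map_mono hDP, ?_, ?_⟩
    · rintro _ ⟨x, hx, rfl⟩ gb hgb
      obtain ⟨g, rfl⟩ := QuotientGroup.mk'_surjective N gb
      change π g * π x * (π g)⁻¹ ∈ (P : Subgroup G).map π at hgb
      change π g * π x * (π g)⁻¹ ∈ D.map π
      rw [← map_inv, ← map_mul, ← map_mul] at hgb ⊢
      set M := (P : Subgroup G) ⊔ N
      have hyM : g * x * g⁻¹ ∈ M := by
        obtain ⟨a, ha, e⟩ := hgb
        have h1 : a⁻¹ * (g * x * g⁻¹) ∈ N :=
          (QuotientGroup.eq_one_iff _).mp (show π (a⁻¹ * (g * x * g⁻¹)) = 1 by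
            rw [map_mul, map_inv, e, inv_mul_cancel])
        have h2 := M.mul_mem (Subgroup.mem_sup_left ha) (Subgroup.mem_sup_right h1)
        rwa [mul_inv_cancel_left] at h2
      have hyp : IsPGroup p (Subgroup.zpowers (⟨g * x * g⁻¹, hyM⟩ : M)) := by
        obtain ⟨k, hk⟩ := P.2 ⟨x, hDP hx⟩
        have hy : (⟨g * x * g⁻¹, hyM⟩ : M) ^ p ^ k = 1 := Subtype.ext (by
          show (g * x * g⁻¹) ^ p ^ k = 1
          rw [conj_pow, show x ^ p ^ k = 1 from congrArg Subtype.val hk]
          simp)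
        rintro ⟨z, hz⟩
        obtain ⟨i, rfl⟩ := Subgroup.mem_zpowers_iff.mp hz
        exact ⟨k, Subtype.ext (by
          show ((⟨g * x * g⁻¹, hyM⟩ : M) ^ i) ^ p ^ k = 1
          rw [← zpow_natCast, ← zpow_mul, mul_comm, zpow_mul, zpow_natCast, hy, one_zpow])⟩
      obtain ⟨S', hS'⟩ := hyp.exists_le_sylow
      obtain ⟨m, hm⟩ := MulAction.exists_smul_eq M S' (P.subtype (le_sup_left : (P : Subgroup G) ≤ M))
      have hmy : m * ⟨g * x * g⁻¹, hyM⟩ * m⁻¹ ∈ ((P.subtype (le_sup_left : (P : Subgroup G) ≤ M)) : Subgroup M) := by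
        rw [← hm]
        exact ⟨⟨g * x * g⁻¹, hyM⟩, hS' (Subgroup.mem_zpowers _), rfl⟩
      have hd := hcl x hx ((m : G) * g) (by
        have h3 : (m : G) * (g * x * g⁻¹) * (m : G)⁻¹ ∈ (P : Subgroup G) := hmy
        rwa [show (m : G) * g * x * ((m : G) * g)⁻¹ = (m : G) * (g * x * g⁻¹) * (m : G)⁻¹ by group])
      obtain ⟨a, ha, n, hn, han⟩ := Subgroup.mem_sup_of_normal_right.mp m.2
      have hma : π (m : G) = π a := by
        rw [← han, map_mul, show π n = 1 from (QuotientGroup.eq_one_iff _).mpr hn, mul_one]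
      have hna : a⁻¹ ∈ Subgroup.normalizer (D : Set G) :=
        hcl.normalizer_le hDP (Subgroup.le_normalizer ((P : Subgroup G).inv_mem ha))
      refine ⟨_, (Subgroup.mem_normalizer_iff.mp hna _).mp hd, ?_⟩
      simp only [map_mul, map_inv, hma]
      group
    · have hZD : centerThompsonAOf D ≤ D := inf_le_left.trans (Subgroup.map_subtype_le _)
      rw [← (CfsgLib.Transfer.subgroupFunctor_centerThompsonAOf (p := p)).map G (G ⧸ N) π D
        (injective_mk'_comp_subtype N hN (P.2.to_le hDP)),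
        ← map_normalizer_mk' N hN (P.2.to_le (hZD.trans hDP))]
      exact CfsgLib.Transfer.hasNormalPComplement_of_surjective ((π).subgroupMap _)
        ((π).subgroupMap_surjective _) h
  of_local := by
    intro G _ _ R hR hRne hQ
    refine ⟨R, le_rfl, fun _ _ _ h => h,
      hQ _ (inf_le_left.trans (Subgroup.map_subtype_le _))
        ((CfsgLib.Transfer.subgroupFunctor_centerThompsonAOf (p := p)).ne_bot G R hR hRne)
        (CfsgLib.Transfer.SubgroupFunctor.normalizer_le
          (CfsgLib.Transfer.subgroupFunctor_centerThompsonAOf (p := p)) R)⟩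
  of_normal := by
    rintro G _ _ P hP ⟨D, hDP, hcl, h⟩
    have e : Subgroup.normalizer (centerThompsonAOf D : Set G) = ⊤ :=
      top_le_iff.mp fun g _ => CfsgLib.Transfer.SubgroupFunctor.normalizer_le
        (CfsgLib.Transfer.subgroupFunctor_centerThompsonAOf (p := p)) D
        (hcl.normalizer_le hDP (by rw [Subgroup.normalizer_eq_top_iff.mpr hP]; exact Subgroup.mem_top g))
    rw [e] at h
    exact (CfsgLib.Transfer.hasNormalPComplement_congr Subgroup.topEquiv).mp h

/-- Glauberman–Thompson relative to a strongly closed subgroup. -/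
theorem hasNormalPComplement_of_closed (hp2 : p ≠ 2) {G : Type u} [Group G] [Finite G] (P : Sylow p G)
    (h : ClosedCond p G (P : Subgroup G)) : HasNormalPComplement p G := by
  refine CfsgLib.Transfer.hasNormalPComplement_of_localCondition closed_localCondition
    (fun H _ _ Q hm hcd => ?_) P h
  obtain ⟨D, hDQ, hcl, hD⟩ := hcd
  refine hm.not_comp ?_
  have hn : (centerThompsonAOf D).Normal := by
    rw [centerThompsonAOf_eq]
    exact maxCenter_normal_of_closed hp2 (Or.inr rfl) hm.centralizer_le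
      (quadStable_of_isPStableOn fun V _ hV => hm.isPStableOn hp2 V hV) Q D hDQ hcl
  rw [Subgroup.normalizer_eq_top_iff.mpr hn] at hD
  exact (CfsgLib.Transfer.hasNormalPComplement_congr Subgroup.topEquiv).mp hD

/-- Some strongly closed subgroup has a thin normalizer of `Z(J)`. -/
def ClosedHyp (p : ℕ) [Fact p.Prime] {Ω : Type u} [Group Ω] {S : Subgroup Ω} (F : FusionSystem S) : Prop :=
  ∃ D : Subgroup Ω, D ≤ S ∧ D ≠ ⊥ ∧ F.StronglyClosed D ∧ NThin F ((zjFunctor (p := p)).at D)

variable {Ω : Type u} [Group Ω] {S : Subgroup Ω} {F : FusionSystem S} {L : Type u} [Group L]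
  {ι : S →* L}

theorem normalizerIn_at_closed [Finite S] (w : PFunctor'.{u} p) (hS : IsPGroup p S) {D : Subgroup Ω}
    (hD : F.StronglyClosed D) : normalizerIn S (w.at D) = S := by
  obtain ⟨hDS, hsc⟩ := stronglyClosed_iff.mp hD
  refine mem_normalizer_of_conj_le fun s hs => ?_
  have hm := isMor_cj F hDS hs
  rw [w.img_at hS hm, hm.img_eq_self fun x hx => hsc D _ hm x hx hx]

theorem model_thin_of_closed [Finite S] (hp2 : p ≠ 2) (hS : IsPGroup p S) (hL : F.IsModel p L ι)
    (hH : ClosedHyp p F) : Thin F := by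
  obtain ⟨D, hDS, -, hD, hN⟩ := hH
  obtain ⟨hfin, hr, ⟨T, hT⟩, -⟩ := id hL
  refine thin_of_range_eq_top hr (model_range_eq_top hL
    (hasNormalPComplement_of_closed hp2 T ⟨(D.subgroupOf S).map ι, ?_, ?_, ?_⟩))
  · exact hT ▸ Subgroup.map_le_range ι _
  · rintro _ ⟨a, ha, rfl⟩ g hg
    set P := Subgroup.zpowers (a : Ω)
    have hPS : P ≤ S := Subgroup.zpowers_le.mpr a.2
    have hgood : ∀ b : S, (b : Ω) ∈ P → g * ι b * g⁻¹ ∈ ι.range := by
      intro b hb
      obtain ⟨n, hn⟩ := Subgroup.mem_zpowers_iff.mp hb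
      rw [show b = a ^ n from Subtype.ext (hn.symm.trans (SubgroupClass.coe_zpow a n).symm), map_zpow,
        ← conj_zpow]
      exact Subgroup.zpow_mem _ (hT.le hg) n
    obtain ⟨hf, hind⟩ := isMor_pullConj hr hPS hgood
    have ha' : (a : Ω) ∈ P := Subgroup.mem_zpowers _
    rw [← hind a ⟨_, hf.mem ha'⟩ ha' rfl]
    exact ⟨_, (stronglyClosed_iff.mp hD).2 P _ hf _ ha' ha, rfl⟩
  · rw [← map_centerJAOf hr.1]
    have e : centerThompsonAOf (D.subgroupOf S) = ((zjFunctor (p := p)).at D).subgroupOf S := by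
      apply Subgroup.map_injective S.subtype_injective
      rw [map_centerJAOf S.subtype_injective, Subgroup.map_subgroupOf_eq_of_le hDS,
        Subgroup.map_subgroupOf_eq_of_le (((zjFunctor (p := p)).at_le D).trans hDS), zjFunctor_at]
    rw [e]
    exact model_normalizer_complement hL (((zjFunctor (p := p)).at_le D).trans hDS)
      (normalizerIn_at_closed _ hS hD) hN

/-- The relative criterion for saturated systems. -/
theorem thin_of_closed (hp2 : p ≠ 2) [Finite S] (hS : IsPGroup p S) (hF : F.IsSaturated p)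
    (hH : ClosedHyp p F) : Thin F := by
  refine thin_of_models (p := p) (Multiplicative ℤ) (fun Ω' _ S' F' => ClosedHyp p F')
    ?_ ?_ ?_ ?_ _ _ Ω S F rfl rfl hS hF isSectionFree_int hH
  · intro Ω' _ S' F' D' hsub ⟨D, hDS, hD1, hD, hN⟩
    refine ⟨D, hDS, hD1, stronglyClosed_iff.mpr ⟨hDS, fun P f hf x hx hxD =>
      (stronglyClosed_iff.mp hD).2 P f (hsub _ _ hf) x hx hxD⟩, fun P f hf hP hg => ?_⟩
    obtain ⟨g, hg, hgf, hgV⟩ := hg
    exact hN P f (hsub _ _ hf) hP ⟨g, hsub _ _ hg, hgf, hgV⟩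
  · intro Ω' _ S' T _ F' D' hS' _ _ hTS hT hsub hV
    have : Finite T := finite_of_le hTS
    refine ⟨T, le_rfl, hT, stronglyClosed_iff.mpr ⟨le_rfl, fun P f hf x hx _ => hf.mem hx⟩,
      hV _ ((zjFunctor (p := p)).at_ne_bot (isPGroup_of_le hTS hS') hT)
        ((zjFunctor (p := p)).at_le T) fun f hf hfT => ?_⟩
    rw [(zjFunctor (p := p)).img_at hS' hf, hfT]
  · intro Ω₁ _ S₁ _ F₁ R Ω₂ _ S₂ θ E hS₁ _ _ hE _ hS₂ hV
    have hr : θ.range = S₂ := (id hE).2.2.1
    have : Finite S₂ := hr ▸ Finite.of_surjective _ θ.rangeRestrict_surjective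
    have hp₂ : IsPGroup p S₂ := hr ▸ hS₁.of_surjective _ θ.rangeRestrict_surjective
    have hsc : E.StronglyClosed S₂ := stronglyClosed_iff.mpr ⟨le_rfl, fun P f hf x hx _ => hf.mem hx⟩
    exact ⟨S₂, le_rfl, hS₂, hsc, hV _ ((zjFunctor (p := p)).at_ne_bot hp₂ hS₂)
      ((zjFunctor (p := p)).at_le S₂) (normalizerIn_at_closed _ hp₂ hsc)⟩
  · intro Ω₁ _ S₁ _ F₁ hS₁ _ h L₁ _ ι₁ hL₁ _
    exact model_thin_of_closed hp2 hS₁ hL₁ h

end CfsgLib.Fusion
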