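import Mathlib
import Cfsg.Agent.Lib.Fusion.Transfer

/-! Thompson transfer for saturated fusion systems. -/
set_option autoImplicit false

namespace CfsgLib.Fusion

open Cfsg Cfsg.FusionSystem

universe u

variable {Ω : Type u} [Group Ω] {S : Subgroup Ω} [Finite S] {F : FusionSystem S}

theorem mem_zpowers_of_orderOf_two {G : Type*} [Group G] {b x : G} (hb : orderOf b = 2)
    (hx : x ∈ Subgroup.zpowers b) : x = 1 ∨ x = b := by
  obtain ⟨n, rfl⟩ := hx
  have h2 : b ^ 2 = 1 := hb ▸ pow_orderOf_eq_one b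
  rcases Int.even_or_odd' n with ⟨m, rfl | rfl⟩
  · left
    show b ^ (2 * m) = 1
    rw [zpow_mul, zpow_two, ← pow_two, h2, one_zpow]
  · right
    show b ^ (2 * m + 1) = b
    rw [zpow_add, zpow_mul, zpow_two, ← pow_two, h2, one_zpow, one_mul, zpow_one]

theorem card_centralizer_eq {b : S} (hb : orderOf b = 2) :
    Nat.card {c : S // c * b * c⁻¹ = b} =
      Nat.card (normalizerIn S (Subgroup.zpowers (b : Ω))) := by
  have hb' : orderOf (b : Ω) = 2 := by rw [Subgroup.orderOf_coe, hb]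
  refine Nat.card_congr
    { toFun := fun c => ⟨(c.1 : Ω), mem_normalizerIn.mpr ⟨c.1.2, ?_⟩⟩
      invFun := fun g => ⟨⟨g.1, (mem_normalizerIn.mp g.2).1⟩, ?_⟩
      left_inv := fun c => rfl
      right_inv := fun g => rfl }
  · rw [Subgroup.mem_normalizer_iff_map_conj_eq]
    show (Subgroup.zpowers (b : Ω)).map (MulAut.conj (c.1 : Ω)).toMonoidHom = _
    rw [MonoidHom.map_zpowers]
    exact congrArg Subgroup.zpowers
      (show ((c.1 : S) : Ω) * b * ((c.1 : S) : Ω)⁻¹ = b from congrArg Subtype.val c.2)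
  · have h1 := (Subgroup.mem_normalizer_iff.mp (mem_normalizerIn.mp g.2).2 (b : Ω)).mp
      (Subgroup.mem_zpowers _)
    refine Subtype.ext ((mem_zpowers_of_orderOf_two hb' h1).resolve_left fun e => ?_)
    have e' : (b : Ω) = 1 := by simpa using e
    rw [e', orderOf_one] at hb'
    exact absurd hb' (by norm_num)

local instance mulActionThompsonTransfer (B : CharBiset F 2) : MulAction (S × S) B.X := B.act
attribute [local instance] TransferData.fin

theorem thompson_transfer (hS : IsPGroup 2 S) (hF : F.IsSaturated 2) {T : Subgroup Ω}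
    (hTS : T ≤ S) (hT : T.relIndex S = 2) {i : Ω} (hi : i ∈ S) (hi2 : orderOf i = 2)
    (h : ∀ j, F.IsConjElt i j → F.IsFullyNormalized (Subgroup.zpowers j) → j ∉ T) :
    i ∉ F.focalSubgroup := by
  classical
  intro hfoc
  obtain ⟨B⟩ := exists_charBiset hS hF
  obtain ⟨D⟩ := exists_transferData B
  have := B.finite
  let T' := T.subgroupOf S
  let χ : S →* ℤˣ := MonoidHom.mk' (fun a => if a ∈ T' then 1 else -1) fun a b => by
    have := Subgroup.mul_mem_iff_of_index_two (H := T') hT (a := a) (b := b)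
    by_cases ha : a ∈ T' <;> by_cases hb : b ∈ T' <;> simp_all
  have hiS : Subgroup.zpowers i ≤ S := Subgroup.zpowers_le.mpr hi
  obtain ⟨Q, hQ, hQn⟩ := exists_fullyNormalized F hiS
  obtain ⟨f, hf, hfQ⟩ := isConj_iff.mp hQ
  have hfi : f i ∈ S := hf.mem (Subgroup.mem_zpowers i)
  set j : S := ⟨f i, hfi⟩ with hj
  have hQz : Q = Subgroup.zpowers (j : Ω) := by
    rw [← hfQ]
    refine le_antisymm (img_le fun x hx => ?_)
      (Subgroup.zpowers_le.mpr (mem_img_of_mem f (Subgroup.mem_zpowers i)))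
    obtain ⟨n, rfl⟩ := hx
    exact ⟨n, (hf.map_zpow (Subgroup.mem_zpowers i) n).symm⟩
  have hj2 : orderOf j = 2 := by
    rw [← Subgroup.orderOf_coe, hj, hf.orderOf_eq (Subgroup.mem_zpowers i), hi2]
  have hV : D.transfer χ j = 1 := by
    rw [D.transfer_stable χ hf (a := ⟨i, hi⟩) (a' := j) (Subgroup.mem_zpowers i) rfl]
    exact D.transfer_eq_one_of_mem_focal χ hfoc
  have hjj : j * j = 1 := by rw [← pow_two, ← hj2, pow_orderOf_eq_one]
  have hσσ : ∀ r, D.sig j (D.sig j r) = r ∧ D.pos j r * D.pos j (D.sig j r) = 1 := fun r => by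
    rw [← (D.sig_mul j j r).1, ← (D.sig_mul j j r).2, hjj]
    exact D.sig_one r
  set Fx : Finset D.R := Finset.univ.filter fun r => D.sig j r = r with hFx
  have hmem : ∀ {r}, r ∈ Fx ↔ D.sig j r = r := by simp [Fx]
  have hnon : ∀ φ : D.R → ℤˣ, (∀ r, φ r * φ (D.sig j r) = 1) →
      ∏ r, φ r = ∏ r ∈ Fx, φ r := by
    intro φ hφ
    rw [← Finset.prod_filter_mul_prod_filter_not Finset.univ (fun r => D.sig j r = r) φ]
    conv_rhs => rw [← mul_one (∏ r ∈ Fx, φ r)]
    congr 1
    refine Finset.prod_involution (fun r _ => D.sig j r) (fun r _ => hφ r)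
      (fun r hr _ => (Finset.mem_filter.mp hr).2) (fun r hr => ?_) (fun r _ => (hσσ r).1)
    refine Finset.mem_filter.mpr ⟨Finset.mem_univ _, fun e => (Finset.mem_filter.mp hr).2 ?_⟩
    rw [(hσσ r).1] at e
    exact e.symm
  have hneg : ((-1 : ℤˣ) ^ Fx.card) = -1 := by
    have h1 := hnon (fun _ => -1) (fun _ => by simp)
    rw [Finset.prod_const, Finset.prod_const, Finset.card_univ, D.card_R] at h1
    rw [← h1]
    exact Odd.neg_one_pow (Nat.not_even_iff_odd.mp fun e => B.not_dvd e.two_dvd)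
  have hsq : ∀ x : ℤˣ, x * x = 1 := fun x => by
    rcases Int.units_eq_one_or x with rfl | rfl <;> simp
  have hVfix : D.transfer χ j = ∏ r ∈ Fx, χ (D.pos j r) := by
    rw [D.transfer_apply]
    refine hnon _ fun r => ?_
    rw [← map_mul, (hσσ r).2, map_one]
  have hv : ∀ r ∈ Fx, D.pos j r * D.pos j r = 1 := fun r hr => by
    have := (hσσ r).2
    rwa [hmem.mp hr] at this
  -- points of `r`'s orbit fixed by `(j, b)`
  have hconj : ∀ r ∈ Fx, F.IsConjElt i (D.pos j r : Ω) ∧ orderOf (D.pos j r) = 2 := by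
    intro r hr
    have h1 := D.left_smul j r
    rw [hmem.mp hr] at h1
    have h2 : ((j, D.pos j r) : S × S) ∈ MulAction.stabilizer (S × S) (D.r r) := by
      rw [MulAction.mem_stabilizer_iff, show ((j, D.pos j r) : S × S) = (1, D.pos j r) * (j, 1) by simp,
        mul_smul, h1, ← mul_smul]
      show ((1 : S) * 1, D.pos j r * D.pos j r) • D.r r = D.r r
      rw [mul_one, hv r hr]
      exact one_smul (S × S) _
    obtain ⟨P, g, hg, hK⟩ := B.inFam (D.r r)
    obtain ⟨h3, h4⟩ := (hK _).mp h2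
    change (j : Ω) ∈ P at h3
    change g (j : Ω) = (D.pos j r : Ω) at h4
    refine ⟨isConjElt_iff.mpr ⟨g ∘ f, hf.comp hg fun x hx => ?_, h4⟩, ?_⟩
    · have h5 : f x ∈ Subgroup.zpowers (j : Ω) := hQz ▸ hfQ ▸ mem_img_of_mem f hx
      exact Subgroup.zpowers_le.mpr h3 h5
    · rw [← Subgroup.orderOf_coe, ← h4, hg.orderOf_eq h3, Subgroup.orderOf_coe, hj2]
  have hNmax : ∀ r ∈ Fx, D.pos j r ∈ T' →
      Nat.card (normalizerIn S (Subgroup.zpowers (D.pos j r : Ω))) <
        Nat.card (normalizerIn S (Subgroup.zpowers (j : Ω))) := by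
    intro r hr hrT
    obtain ⟨hc, -⟩ := hconj r hr
    obtain ⟨g, hg, hge⟩ := isConjElt_iff.mp hc
    have hc' : F.IsConj (Subgroup.zpowers i) (Subgroup.zpowers (D.pos j r : Ω)) := by
      refine isConj_iff.mpr ⟨g, hg, le_antisymm (img_le fun x hx => ?_)
        (Subgroup.zpowers_le.mpr (hge ▸ mem_img_of_mem g (Subgroup.mem_zpowers i)))⟩
      obtain ⟨n, rfl⟩ := hx
      exact ⟨n, by rw [hg.map_zpow (Subgroup.mem_zpowers i), hge]⟩
    have hle := hQn.2 _ (isConj_trans (isConj_symm hQ) hc')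
    rw [hQz] at hle
    refine lt_of_le_of_ne hle fun e => ?_
    refine h _ hc ⟨Subgroup.zpowers_le.mpr (D.pos j r).2, fun U hU => ?_⟩
      (Subgroup.mem_subgroupOf.mp hrT)
    rw [e, ← hQz]
    exact hQn.2 U (isConj_trans (isConj_trans (isConj_symm hQ) hc') hU)
  set A := Fx.filter fun r => D.pos j r ∈ T' with hA
  have hfib : ∀ κ ∈ A.image (fun r => ConjClasses.mk (D.pos j r)),
      Even (A.filter fun r => ConjClasses.mk (D.pos j r) = κ).card := by
    intro κ hκ
    obtain ⟨r₀, hr₀, rfl⟩ := Finset.mem_image.mp hκ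
    obtain ⟨hr₀F, hr₀T⟩ := Finset.mem_filter.mp hr₀
    set b := D.pos j r₀ with hb
    have hb2 : orderOf b = 2 := (hconj r₀ hr₀F).2
    set A' := A.filter fun r => ConjClasses.mk (D.pos j r) = ConjClasses.mk b with hA'
    have hA'mem : ∀ r, r ∈ A' ↔ D.sig j r = r ∧ IsConj (D.pos j r) b := by
      intro r
      simp only [A', A, Finset.mem_filter, hmem, ConjClasses.mk_eq_mk_iff_isConj]
      refine ⟨fun h => ⟨h.1.1, h.2⟩, fun h => ⟨⟨h.1, ?_⟩, h.2⟩⟩
      obtain ⟨c, hc⟩ := _root_.isConj_iff.mp h.2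
      have hn : T'.Normal := Subgroup.normal_of_index_eq_two hT
      have h1 := hn.conj_mem _ hr₀T c⁻¹
      rw [← hc] at h1
      simpa [mul_assoc] using h1
    let Y := {x : B.X // (j, b) • x = x}
    let C := {c : S // c * j * c⁻¹ = j}
    have hbinv : b⁻¹ = b := inv_eq_of_mul_eq_one_right (hv r₀ hr₀F)
    have hY : Nat.card Y = A'.card * Nat.card {c : S // c * b * c⁻¹ = b} := by
      have hiff : ∀ (r : D.R) (c : S), (j, b) • D.e (r, c) = D.e (r, c) ↔
          D.sig j r = r ∧ b * c * D.pos j r = c := by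
        intro r c
        rw [← D.smul_r c r, ← mul_smul,
          show ((j, b) : S × S) * (1, c) = (1, b * c) * (j, 1) by simp, mul_smul, D.left_smul,
          ← mul_smul, show ((1, b * c) : S × S) * (1, D.pos j r) = (1, b * c * D.pos j r) by simp]
        exact ⟨D.uniq, fun h => by rw [h.1, h.2]⟩
      have hex : ∀ r : A', ∃ c : S, c * D.pos j r * c⁻¹ = b := fun r =>
        _root_.isConj_iff.mp ((hA'mem r).mp r.2).2
      choose c₀ hc₀ using hex
      let e1 : A' × {c : S // c * b * c⁻¹ = b} → Y := fun rc =>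
        ⟨D.e (rc.1, rc.2.1 * c₀ rc.1), (hiff _ _).mpr ⟨((hA'mem _).mp rc.1.2).1, by
          have h2 : c₀ rc.1 * D.pos j rc.1 = b * c₀ rc.1 :=
            mul_inv_eq_iff_eq_mul.mp (hc₀ rc.1)
          have h3 : rc.2.1 * b = b * rc.2.1 := cj_fixed_iff.mp rc.2.2
          calc b * (rc.2.1 * c₀ rc.1) * D.pos j rc.1 = b * rc.2.1 * (b * c₀ rc.1) := by
                rw [← h2]; simp [mul_assoc]
            _ = rc.2.1 * (b * b) * c₀ rc.1 := by rw [← h3]; simp [mul_assoc]
            _ = rc.2.1 * c₀ rc.1 := by rw [hv r₀ hr₀F, mul_one]⟩⟩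
      rw [← Nat.card_eq_finsetCard, ← Nat.card_prod]
      refine (Nat.card_congr (Equiv.ofBijective e1 ⟨?_, ?_⟩)).symm
      · intro u v huv
        have h1 := D.e.injective (congrArg Subtype.val huv)
        simp only [Prod.mk.injEq] at h1
        have h2 : u.1 = v.1 := Subtype.ext h1.1
        refine Prod.ext h2 (Subtype.ext ?_)
        have h3 := h1.2
        rw [h2] at h3
        exact mul_right_cancel h3
      · rintro ⟨x, hx⟩
        obtain ⟨⟨r, c⟩, rfl⟩ := D.e.surjective x
        obtain ⟨h1, h2⟩ := (hiff r c).mp hx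
        have h3 : c * D.pos j r * c⁻¹ = b := by
          rw [mul_inv_eq_iff_eq_mul]
          calc c * D.pos j r = b * b * c * D.pos j r := by rw [hv r₀ hr₀F, one_mul]
            _ = b * (b * c * D.pos j r) := by simp [mul_assoc]
            _ = b * c := by rw [h2]
        have hr : r ∈ A' := (hA'mem r).mpr ⟨h1, _root_.isConj_iff.mpr ⟨c, h3⟩⟩
        refine ⟨⟨⟨r, hr⟩, c * (c₀ ⟨r, hr⟩)⁻¹, ?_⟩, Subtype.ext ?_⟩
        · conv_lhs => rw [← hc₀ ⟨r, hr⟩]
          simpa [mul_assoc] using h3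
        · show D.e (r, c * (c₀ ⟨r, hr⟩)⁻¹ * c₀ ⟨r, hr⟩) = D.e (r, c)
          rw [inv_mul_cancel_right]
    let Cs : Subgroup S :=
      { carrier := {c | c * j * c⁻¹ = j}
        one_mem' := by simp
        mul_mem' := fun {a a'} ha ha' => by
          show a * a' * j * (a * a')⁻¹ = j
          rw [show a * a' * j * (a * a')⁻¹ = a * (a' * j * a'⁻¹) * a⁻¹ by simp [mul_assoc],
            show a' * j * a'⁻¹ = j from ha']
          exact ha
        inv_mem' := fun {a} ha => by
          show a⁻¹ * j * a⁻¹⁻¹ = j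
          conv_lhs => rw [← (show a * j * a⁻¹ = j from ha)]
          simp [mul_assoc] }
    have hcomm : ∀ c ∈ Cs, ((j, b) : S × S) * (c, 1) = (c, 1) * (j, b) := fun c hc =>
      Prod.ext (cj_fixed_iff.mp hc).symm (by simp)
    let act : MulAction Cs Y :=
      { smul := fun c y => ⟨((c : S), (1 : S)) • (y : B.X), by
          rw [← mul_smul, hcomm c c.2, mul_smul, y.2]⟩
        one_smul := fun y => Subtype.ext (one_smul (S × S) (y : B.X))
        mul_smul := fun c c' y => Subtype.ext (by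
          show ((((c * c' : Cs) : S)), (1 : S)) • (y : B.X) = ((c : S), (1 : S)) • ((c' : S), (1 : S)) • (y : B.X)
          rw [← mul_smul]
          simp) }
    have hdvd : Nat.card Cs ∣ Nat.card Y := by
      refine ⟨Nat.card (MulAction.orbitRel.Quotient Cs Y), ?_⟩
      have := Fintype.ofFinite (MulAction.orbitRel.Quotient Cs Y)
      have : Fintype (Quotient (MulAction.orbitRel Cs Y)) := this
      rw [Nat.card_congr (MulAction.selfEquivSigmaOrbitsQuotientStabilizer Cs Y), Nat.card_sigma]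
      rw [Finset.sum_congr rfl (g := fun _ => Nat.card Cs) fun ω _ => ?_]
      · rw [Finset.sum_const, Finset.card_univ, ← Nat.card_eq_fintype_card, smul_eq_mul, mul_comm]
      · have hbot : MulAction.stabilizer Cs ω.out = ⊥ := by
          refine (Subgroup.eq_bot_iff_forall _).mpr fun c hc => ?_
          have h1 : ((c : S), (1 : S)) • (ω.out : B.X) = ω.out :=
            congrArg Subtype.val (MulAction.mem_stabilizer_iff.mp hc)
          have h2 := (B.inFam _).snd_inj (MulAction.mem_stabilizer_iff.mpr h1) rfl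
          exact Subtype.ext (congrArg Prod.fst h2)
        rw [hbot]
        exact Nat.card_congr QuotientGroup.quotientBot.toEquiv
    rw [hY, card_centralizer_eq hb2,
      show Nat.card Cs = Nat.card {c : S // c * j * c⁻¹ = j} from rfl, card_centralizer_eq hj2] at hdvd
    have hlt := hNmax r₀ hr₀F hr₀T
    have hpow : ∀ U : Subgroup Ω, ∃ m, Nat.card (normalizerIn S U) = 2 ^ m := fun U =>
      have := finite_of_le (normalizerIn_le (S := S) (P := U))
      IsPGroup.iff_card.mp (hS.of_injective _ (Subgroup.inclusion_injective normalizerIn_le))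
    obtain ⟨m, hm⟩ := hpow (Subgroup.zpowers (j : Ω))
    obtain ⟨l, hl⟩ := hpow (Subgroup.zpowers (b : Ω))
    rw [hm, hl] at hdvd hlt
    have hlm : l < m := (Nat.pow_lt_pow_iff_right (by norm_num)).mp hlt
    have h2 : 2 * 2 ^ l ∣ A'.card * 2 ^ l :=
      (show 2 * 2 ^ l = 2 ^ (l + 1) by ring) ▸ (Nat.pow_dvd_pow 2 hlm).trans hdvd
    exact even_iff_two_dvd.mpr (Nat.dvd_of_mul_dvd_mul_right (by positivity) h2)
  have hAeven : Even A.card := by
    rw [Finset.card_eq_sum_card_image (fun r => ConjClasses.mk (D.pos j r)) A]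
    exact Finset.even_sum _ hfib
  have h1 : ∏ r ∈ Fx, χ (D.pos j r) = -1 := by
    have h2 : ∀ r ∈ Fx, χ (D.pos j r) = -1 * (if D.pos j r ∈ T' then -1 else 1) := fun r _ => by
      show (if D.pos j r ∈ T' then (1 : ℤˣ) else -1) = _
      split_ifs <;> simp
    rw [Finset.prod_congr rfl h2, Finset.prod_mul_distrib, Finset.prod_const, hneg,
      Finset.prod_ite, Finset.prod_const, Finset.prod_const_one, mul_one, ← hA,
      hAeven.neg_one_pow, mul_one]
  rw [hVfix, h1] at hV
  exact absurd hV (by decide)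

end CfsgLib.Fusion
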