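import Mathlib

/-!
# A finite group with partial isomorphisms as a subgroup of a wreath product with a free group

For a finite group `S` and isomorphisms `e i` between subgroups of `S` we build a group containing
`S` and elements `t i` inducing the `e i`, acting on a tree through words in a free group.
-/

set_option autoImplicit false
set_option linter.unusedSectionVars false

namespace CfsgLib.Fusion.Tree

universe u

variable (X : Type u) (Y : Type u) [Group Y]

/-- Pairs of a function and a permutation, multiplied as in the wreath product. -/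
structure Wr where
  /-- The function. -/
  u : X → Y
  /-- The permutation. -/
  σ : Equiv.Perm X

namespace Wr

variable {X Y}

theorem ext' {a b : Wr X Y} (h₁ : a.u = b.u) (h₂ : a.σ = b.σ) : a = b := by
  cases a; cases b; subst h₁; subst h₂; rfl

instance : Group (Wr X Y) where
  mul a b := ⟨fun y => a.u y * b.u (a.σ.symm y), a.σ * b.σ⟩
  one := ⟨fun _ => 1, 1⟩
  inv a := ⟨fun y => (a.u (a.σ y))⁻¹, a.σ⁻¹⟩
  mul_assoc a b c := ext' (funext fun y => mul_assoc _ _ _) (mul_assoc _ _ _)
  one_mul a := ext' (funext fun y => one_mul _) (one_mul _)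
  mul_one a := ext' (funext fun y => mul_one _) (mul_one _)
  inv_mul_cancel a := ext' (funext fun y => inv_mul_cancel _) (inv_mul_cancel _)

theorem mul_u (a b : Wr X Y) (y : X) : (a * b).u y = a.u y * b.u (a.σ.symm y) := rfl
theorem mul_σ (a b : Wr X Y) : (a * b).σ = a.σ * b.σ := rfl
theorem one_u (y : X) : (1 : Wr X Y).u y = 1 := rfl
theorem one_σ : (1 : Wr X Y).σ = 1 := rfl
theorem inv_u (a : Wr X Y) (y : X) : a⁻¹.u y = (a.u (a.σ y))⁻¹ := rfl
theorem inv_σ (a : Wr X Y) : a⁻¹.σ = a.σ⁻¹ := rfl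

/-- The permutation part. -/
def σHom : Wr X Y →* Equiv.Perm X where
  toFun a := a.σ
  map_one' := rfl
  map_mul' _ _ := rfl

end Wr

/-- A finite group with partial isomorphisms and permutations intertwining them. -/
structure Datum (S : Type u) [Group S] (I : Type u) where
  /-- The sources. -/
  P : I → Subgroup S
  /-- The images. -/
  Q : I → Subgroup S
  /-- The isomorphisms. -/
  e : ∀ i, P i ≃* Q i
  /-- The permutations. -/
  σ : I → Equiv.Perm S
  σ_mul : ∀ i (p : P i) (x : S), σ i ((p : S) * x) = (e i p : S) * σ i x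

theorem exists_perm {S : Type u} [Group S] [Finite S] {P Q : Subgroup S} (e : P ≃* Q) :
    ∃ σ : Equiv.Perm S, ∀ (p : P) (x : S), σ ((p : S) * x) = (e p : S) * σ x := by
  have hidx : Nat.card (S ⧸ P) = Nat.card (S ⧸ Q) := by
    have h1 := Subgroup.card_eq_card_quotient_mul_card_subgroup P
    have h2 := Subgroup.card_eq_card_quotient_mul_card_subgroup Q
    rw [Nat.card_congr e.toEquiv] at h1
    exact Nat.eq_of_mul_eq_mul_right Nat.card_pos (h1.symm.trans h2)
  obtain ⟨b⟩ : Nonempty (S ⧸ P ≃ S ⧸ Q) :=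
    ⟨(Finite.equivFinOfCardEq hidx).trans (Finite.equivFin _).symm⟩
  -- `r` decomposes an element as a chosen representative times an element of the subgroup
  have hr : ∀ (H : Subgroup S) (x : S), ((x : S ⧸ H).out)⁻¹ * x ∈ H := fun H x =>
    QuotientGroup.eq.mp (QuotientGroup.out_eq' _)
  let τ : S → S := fun x => (b (x : S ⧸ P)).out * (e ⟨_, hr P x⟩ : S)
  have hτ : ∀ (x : S) (p : P), τ (x * p) = τ x * (e p : S) := fun x p => by
    have h1 : ((x * p : S) : S ⧸ P) = (x : S ⧸ P) :=
      QuotientGroup.eq.mpr (by simp)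
    have h2 : (⟨_, hr P (x * p)⟩ : P) = ⟨_, hr P x⟩ * p :=
      Subtype.ext (by simp [h1, mul_assoc])
    have h3 : (b ((x * p : S) : S ⧸ P)).out = (b (x : S ⧸ P)).out := congrArg (fun c => (b c).out) h1
    show _ * (e _ : S) = _ * (e _ : S) * _
    rw [h2, h3, map_mul, Subgroup.coe_mul, mul_assoc]
  have hτi : Function.Injective τ := by
    intro x y h
    have h1 : b (x : S ⧸ P) = b (y : S ⧸ P) := by
      have hx : ((τ x : S) : S ⧸ Q) = b (x : S ⧸ P) :=
        (QuotientGroup.mk_mul_of_mem _ (e ⟨_, hr P x⟩).2).trans (QuotientGroup.out_eq' _)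
      have hy : ((τ y : S) : S ⧸ Q) = b (y : S ⧸ P) :=
        (QuotientGroup.mk_mul_of_mem _ (e ⟨_, hr P y⟩).2).trans (QuotientGroup.out_eq' _)
      rw [← hx, ← hy, h]
    have h1' := b.injective h1
    have h2 := h
    simp only [τ, h1'] at h2
    have h3 := congrArg Subtype.val (e.injective (Subtype.ext (mul_left_cancel h2)))
    simpa [h1'] using h3
  let σ₀ : Equiv.Perm S := Equiv.ofBijective _ (Finite.injective_iff_bijective.mp hτi)
  refine ⟨((Equiv.inv S).trans σ₀).trans (Equiv.inv S), fun p x => ?_⟩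
  show (τ ((p : S) * x)⁻¹)⁻¹ = _ * (τ x⁻¹)⁻¹
  have h := hτ x⁻¹ p⁻¹
  rw [Subgroup.coe_inv, ← mul_inv_rev, map_inv, Subgroup.coe_inv] at h
  rw [h, mul_inv_rev, inv_inv]

namespace Datum

variable {S : Type u} [Group S] {I : Type u} (D : Datum S I)

/-- The edges: an index with a coset of its source. -/
abbrev Edge : Type u := Σ i, S ⧸ D.P i

/-- The ambient group. -/
abbrev W : Type u := Wr S (FreeGroup D.Edge)

/-- The orbit of `x` under left multiplication by `P i`. -/
def key (i : I) (x : S) : D.Edge := ⟨i, (x⁻¹ : S)⟩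

theorem key_eq_iff {i : I} {x y : S} : D.key i x = D.key i y ↔ x * y⁻¹ ∈ D.P i := by
  simp only [key, Sigma.mk.injEq, heq_eq_eq, true_and]
  rw [QuotientGroup.eq, inv_inv]

/-- The letter of a step at a point. -/
def lett (a : I × Bool) (y : S) : D.Edge × Bool :=
  (cond a.2 (D.key a.1 ((D.σ a.1).symm y)) (D.key a.1 y), a.2)

/-- The permutation of a step. -/
def perm (a : I × Bool) : Equiv.Perm S := cond a.2 (D.σ a.1) (D.σ a.1).symm

/-- The stable letters and their inverses. -/
def tstep (a : I × Bool) : D.W := ⟨fun y => FreeGroup.mk [D.lett a y], D.perm a⟩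

/-- The base group. -/
def ι : S →* D.W where
  toFun s := ⟨fun _ => 1, Equiv.mulLeft s⟩
  map_one' := Wr.ext' rfl (Equiv.ext fun x => one_mul x)
  map_mul' s t := Wr.ext' (funext fun _ => (one_mul _).symm) (Equiv.ext fun x => mul_assoc s t x)

theorem ι_u (s y : S) : (D.ι s).u y = 1 := rfl
theorem ι_σ (s : S) : (D.ι s).σ = Equiv.mulLeft s := rfl
theorem ι_symm (s y : S) : (D.ι s).σ.symm y = s⁻¹ * y := rfl

theorem ι_injective : Function.Injective D.ι := fun s t h => by
  have := congrArg (fun w : D.W => w.σ 1) h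
  simpa [ι_σ] using this

theorem tstep_inv (a : I × Bool) : (D.tstep a)⁻¹ = D.tstep (a.1, !a.2) := by
  obtain ⟨i, ε⟩ := a
  refine Wr.ext' (funext fun y => ?_) (by cases ε <;> rfl)
  rw [Wr.inv_u]
  cases ε <;> simp [tstep, lett, perm, FreeGroup.inv_mk, FreeGroup.invRev]

/-- The source of a step. -/
def dom (a : I × Bool) : Subgroup S := cond a.2 (D.P a.1) (D.Q a.1)

/-- The isomorphism of a step. -/
def map : ∀ (a : I × Bool), D.dom a → S
  | (i, true), p => (D.e i p : S)
  | (i, false), q => ((D.e i).symm q : S)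

theorem map_mem : ∀ (a : I × Bool) (p : D.dom a), D.map a p ∈ D.dom (a.1, !a.2)
  | (i, true), p => (D.e i p).2
  | (i, false), q => ((D.e i).symm q).2

theorem map_map : ∀ (a : I × Bool) (p : D.dom a),
    D.map (a.1, !a.2) ⟨_, D.map_mem a p⟩ = p
  | (i, true), p => congrArg Subtype.val ((D.e i).symm_apply_apply p)
  | (i, false), q => congrArg Subtype.val ((D.e i).apply_symm_apply q)

theorem perm_mul : ∀ (a : I × Bool) (p : D.dom a) (x : S),
    D.perm a ((p : S) * x) = D.map a p * D.perm a x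
  | (i, true), p, x => D.σ_mul i p x
  | (i, false), q, x => by
    show (D.σ i).symm ((q : S) * x) = ((D.e i).symm q : S) * (D.σ i).symm x
    rw [Equiv.symm_apply_eq, D.σ_mul, Equiv.apply_symm_apply]
    exact congrArg (· * x) (congrArg Subtype.val ((D.e i).apply_symm_apply q)).symm

theorem lett_congr : ∀ (a : I × Bool) (p : D.dom (a.1, !a.2)) (y : S),
    D.lett a ((p : S) * y) = D.lett a y
  | (i, true), q, y => by
    refine Prod.ext (D.key_eq_iff.mpr ?_) rfl
    show (D.σ i).symm ((q : S) * y) * ((D.σ i).symm y)⁻¹ ∈ D.P i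
    rw [show (D.σ i).symm ((q : S) * y) = ((D.e i).symm q : S) * (D.σ i).symm y from
      D.perm_mul (i, false) q y, mul_inv_cancel_right]
    exact ((D.e i).symm q).2
  | (i, false), p, y => by
    refine Prod.ext (D.key_eq_iff.mpr ?_) rfl
    rw [mul_inv_cancel_right]
    exact p.2

/-- Equal letters mean points in the same orbit of the image of the step. -/
theorem of_lett_eq : ∀ {a : I × Bool} {y z : S}, D.lett a y = D.lett a z →
    y * z⁻¹ ∈ D.dom (a.1, !a.2)
  | (i, true), y, z, h => by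
    have h1 := D.key_eq_iff.mp (congrArg Prod.fst h)
    show y * z⁻¹ ∈ D.Q i
    have h2 := D.σ_mul i ⟨_, h1⟩ ((D.σ i).symm z)
    rw [inv_mul_cancel_right, Equiv.apply_symm_apply, Equiv.apply_symm_apply] at h2
    rw [h2, mul_inv_cancel_right]
    exact (D.e i _).2
  | (i, false), y, z, h => D.key_eq_iff.mp (congrArg Prod.fst h)

theorem tstep_comm (a : I × Bool) (p : D.dom a) :
    D.tstep a * D.ι p = D.ι (D.map a p) * D.tstep a := by
  refine Wr.ext' (funext fun y => ?_) (Equiv.ext fun x => D.perm_mul a p x)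
  rw [Wr.mul_u, Wr.mul_u, ι_u, ι_u, mul_one, one_mul, ι_symm]
  show FreeGroup.mk [_] = FreeGroup.mk [_]
  have h := D.lett_congr a ((⟨_, D.map_mem a p⟩ : D.dom (a.1, !a.2)))⁻¹ y
  rw [Subgroup.coe_inv] at h
  rw [h]

/-- The value of an expression. -/
def eval : List (S × (I × Bool)) → S → D.W
  | [], s₀ => D.ι s₀
  | (s, a) :: l, s₀ => D.ι s * D.tstep a * eval l s₀

/-- The word of an expression at a point. -/
def word : List (S × (I × Bool)) → S → List (D.Edge × Bool)
  | [], _ => []
  | (s, a) :: l, y => D.lett a (s⁻¹ * y) :: word l ((D.perm a).symm (s⁻¹ * y))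

theorem eval_u : ∀ (l : List (S × (I × Bool))) (s₀ y : S),
    (D.eval l s₀).u y = FreeGroup.mk (D.word l y)
  | [], s₀, y => rfl
  | (s, a) :: l, s₀, y => by
    rw [eval, Wr.mul_u, Wr.mul_u, ι_u, one_mul, eval_u l]
    show FreeGroup.mk [_] * _ = _
    rw [FreeGroup.mul_mk]
    rfl

theorem word_length : ∀ (l : List (S × (I × Bool))) (y : S), (D.word l y).length = l.length
  | [], _ => rfl
  | (s, a) :: l, y => congrArg (· + 1) (word_length l _)

theorem word_append : ∀ (l₁ l₂ : List (S × (I × Bool))) (y : S),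
    ∃ z, D.word (l₁ ++ l₂) y = D.word l₁ y ++ D.word l₂ z
  | [], l₂, y => ⟨y, rfl⟩
  | (s, a) :: l₁, l₂, y => by
    obtain ⟨z, hz⟩ := word_append l₁ l₂ ((D.perm a).symm (s⁻¹ * y))
    exact ⟨z, by simp only [List.cons_append, word, hz]⟩

/-- Expressions without pinches. -/
inductive Red : List (S × (I × Bool)) → Prop
  | nil : Red []
  | single (s : S) (a : I × Bool) : Red [(s, a)]
  | cons (s : S) (a : I × Bool) {s' : S} {a' : I × Bool} {l : List (S × (I × Bool))} :
      (a' = (a.1, !a.2) → s' ∉ D.dom a) → Red ((s', a') :: l) → Red ((s, a) :: (s', a') :: l)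

theorem Red.head_change {s : S} {a : I × Bool} {l : List (S × (I × Bool))}
    (h : D.Red ((s, a) :: l)) (s' : S) : D.Red ((s', a) :: l) := by
  cases h with
  | single => exact .single _ _
  | cons _ _ hp hr => exact .cons _ _ hp hr

theorem Red.tail {x : S × (I × Bool)} {l : List (S × (I × Bool))} (h : D.Red (x :: l)) :
    D.Red l := by
  cases h with
  | single => exact .nil
  | cons _ _ _ hr => exact hr

theorem Red.append_left : ∀ {l₁ l₂ : List (S × (I × Bool))}, D.Red (l₁ ++ l₂) → D.Red l₁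
  | [], _, _ => .nil
  | [(s, a)], _, _ => .single s a
  | (s, a) :: (s', a') :: l₁, l₂, h => by
    cases h with
    | cons _ _ hp hr => exact .cons _ _ hp (Red.append_left (l₁ := (s', a') :: l₁) hr)

theorem isReduced_word {l : List (S × (I × Bool))} (h : D.Red l) :
    ∀ y, FreeGroup.IsReduced (D.word l y) := by
  induction h with
  | nil => exact fun _ => FreeGroup.IsReduced.nil
  | single s a => exact fun _ => FreeGroup.IsReduced.singleton
  | @cons s a s' a' l hp _ ih =>
    intro y
    simp only [word]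
    refine FreeGroup.isReduced_cons_cons.mpr ⟨fun he => ?_, by simpa only [word] using ih _⟩
    set z := s⁻¹ * y with hz
    by_contra hne
    obtain ⟨i, ε⟩ := a
    obtain ⟨i', ε'⟩ := a'
    have hi : i = i' := by
      have := congrArg Sigma.fst he
      cases ε <;> cases ε' <;> exact this
    subst hi
    have hε : ε' = !ε := by
      cases ε <;> cases ε' <;> simp_all [lett]
    subst hε
    refine hp rfl ?_
    cases ε with
    | true =>
      have h1 : (D.σ i).symm z * (s'⁻¹ * (D.σ i).symm z)⁻¹ ∈ D.P i := D.key_eq_iff.mp he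
      simp only [mul_inv_rev, inv_inv, mul_inv_cancel_left] at h1
      exact h1
    | false =>
      have h1 : z * ((D.σ i).symm (s'⁻¹ * (D.σ i).symm.symm z))⁻¹ ∈ D.P i := D.key_eq_iff.mp he
      have h2 := D.σ_mul i ⟨_, h1⟩ ((D.σ i).symm (s'⁻¹ * (D.σ i).symm.symm z))
      rw [inv_mul_cancel_right, Equiv.apply_symm_apply] at h2
      simp only [Equiv.symm_symm] at h2
      rw [← mul_assoc, right_eq_mul, mul_inv_eq_one] at h2
      show s' ∈ D.Q i
      exact h2 ▸ (D.e i _).2

variable [DecidableEq D.Edge]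

theorem toWord_eval {l : List (S × (I × Bool))} (h : D.Red l) (s₀ y : S) :
    ((D.eval l s₀).u y).toWord = D.word l y := by
  rw [eval_u, FreeGroup.toWord_mk, (D.isReduced_word h y).reduce_eq]

theorem norm_eval {l : List (S × (I × Bool))} (h : D.Red l) (s₀ y : S) :
    FreeGroup.norm ((D.eval l s₀).u y) = l.length := by
  rw [FreeGroup.norm, D.toWord_eval h, D.word_length]

/-- The group generated by `S` and the stable letters. -/
def grp : Subgroup D.W := Subgroup.closure (Set.range D.ι ∪ Set.range D.tstep)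

theorem ι_mem (s : S) : D.ι s ∈ D.grp := Subgroup.subset_closure (Or.inl ⟨s, rfl⟩)

theorem tstep_mem (a : I × Bool) : D.tstep a ∈ D.grp := Subgroup.subset_closure (Or.inr ⟨a, rfl⟩)

theorem eval_mem : ∀ (l : List (S × (I × Bool))) (s₀ : S), D.eval l s₀ ∈ D.grp
  | [], s₀ => D.ι_mem s₀
  | (s, a) :: l, s₀ =>
    D.grp.mul_mem (D.grp.mul_mem (D.ι_mem s) (D.tstep_mem a)) (eval_mem l s₀)

/-- Multiplying a reduced expression by an element of `S`. -/
theorem red_ι_mul (s : S) {l : List (S × (I × Bool))} (h : D.Red l) (s₀ : S) :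
    ∃ l' s₀', D.Red l' ∧ D.eval l' s₀' = D.ι s * D.eval l s₀ := by
  cases l with
  | nil => exact ⟨[], s * s₀, .nil, map_mul D.ι s s₀⟩
  | cons x l =>
    obtain ⟨s', a⟩ := x
    exact ⟨(s * s', a) :: l, s₀, Red.head_change D h _, by
      simp only [eval, map_mul, mul_assoc]⟩

/-- Every element has an expression without pinches. -/
theorem exists_red {g : D.W} (hg : g ∈ D.grp) : ∃ l s₀, D.Red l ∧ D.eval l s₀ = g := by
  have step : ∀ (a : I × Bool) (l : List (S × (I × Bool))) (s₀ : S), D.Red l →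
      ∃ l' s₀', D.Red l' ∧ D.eval l' s₀' = D.tstep a * D.eval l s₀ := by
    intro a l s₀ h
    cases l with
    | nil =>
      exact ⟨[(1, a)], s₀, .single _ _, by simp [eval, mul_assoc]⟩
    | cons x l =>
      obtain ⟨s', a'⟩ := x
      by_cases hp : a' = (a.1, !a.2) ∧ s' ∈ D.dom a
      · obtain ⟨rfl, hs'⟩ := hp
        obtain ⟨l', s₀', hl', he⟩ := D.red_ι_mul (D.map a ⟨s', hs'⟩) (Red.tail D h) s₀
        refine ⟨l', s₀', hl', he.trans ?_⟩
        have hc := D.tstep_comm a ⟨s', hs'⟩
        simp only [eval, ← mul_assoc]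
        rw [hc, ← D.tstep_inv a, mul_inv_cancel_right]
      · exact ⟨(1, a) :: (s', a') :: l, s₀, .cons _ _ (fun e hs => hp ⟨e, hs⟩) h, by
          simp [eval, mul_assoc]⟩
  induction hg using Subgroup.closure_induction_left with
  | one => exact ⟨[], 1, .nil, map_one D.ι⟩
  | mul_left x hx y hy ih =>
    obtain ⟨l, s₀, hl, rfl⟩ := ih
    rcases hx with ⟨s, rfl⟩ | ⟨a, rfl⟩
    · exact D.red_ι_mul s hl s₀
    · exact step a l s₀ hl
  | inv_mul_cancel x hx y hy ih =>
    obtain ⟨l, s₀, hl, rfl⟩ := ih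
    rcases hx with ⟨s, rfl⟩ | ⟨a, rfl⟩
    · obtain ⟨l', s₀', h1, h2⟩ := D.red_ι_mul s⁻¹ hl s₀
      exact ⟨l', s₀', h1, by rw [h2, map_inv]⟩
    · rw [D.tstep_inv a]
      exact step _ l s₀ hl

/-- The length of an element. -/
def len (g : D.W) : ℕ := FreeGroup.norm (g.u 1)

theorem norm_u {g : D.W} (hg : g ∈ D.grp) (y : S) : FreeGroup.norm (g.u y) = D.len g := by
  obtain ⟨l, s₀, hl, rfl⟩ := D.exists_red hg
  rw [len, D.norm_eval hl, D.norm_eval hl]

theorem mem_range_of_len_zero {g : D.W} (hg : g ∈ D.grp) (h : D.len g = 0) : ∃ s, g = D.ι s := by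
  obtain ⟨l, s₀, hl, rfl⟩ := D.exists_red hg
  rw [len, D.norm_eval hl] at h
  obtain rfl := List.eq_nil_of_length_eq_zero h
  exact ⟨s₀, rfl⟩

theorem len_inv_mul {g k : D.W} (hg : g ∈ D.grp) (hk : k ∈ D.grp) :
    D.len (g⁻¹ * k) = FreeGroup.norm ((g.u 1)⁻¹ * k.u 1) := by
  rw [← D.norm_u (D.grp.mul_mem (D.grp.inv_mem hg) hk) (g.σ.symm 1), Wr.mul_u, Wr.inv_u,
    Equiv.apply_symm_apply, Wr.inv_σ]
  show FreeGroup.norm (_ * k.u (g.σ (g.σ.symm 1))) = _
  rw [Equiv.apply_symm_apply]

/-- Conjugations inside `S` are composed from inner maps and steps. -/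
theorem conj_induct (Φ : Subgroup S → (S → S) → Prop)
    (hcj : ∀ (P : Subgroup S) (s : S) (f : S → S),
      (∀ p ∈ P, f p = s * p * s⁻¹) → Φ P f)
    (hstep : ∀ (P : Subgroup S) (g : S → S) (a : I × Bool) (s : S) (f : S → S), Φ P g →
      (∀ p ∈ P, ∃ hp : g p ∈ D.dom a, f p = s * D.map a ⟨g p, hp⟩ * s⁻¹) → Φ P f) :
    ∀ {g : D.W}, g ∈ D.grp → ∀ (P : Subgroup S) (f : S → S),
      (∀ p ∈ P, D.ι (f p) * g = g * D.ι p) → Φ P f := by
  intro g hg
  obtain ⟨l, s₀, hl, rfl⟩ := D.exists_red hg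
  clear hg
  induction l with
  | nil =>
    intro P f h
    refine hcj P s₀ f fun p hp => D.ι_injective ?_
    have := h p hp
    simp only [eval] at this
    rw [map_mul, map_mul, ← this, map_inv, mul_inv_cancel_right]
  | cons x l ih =>
    obtain ⟨s, a⟩ := x
    intro P f h
    have hd : ∀ p ∈ P, s⁻¹ * f p * s ∈ D.dom (a.1, !a.2) := by
      intro p hp
      have h1 := congrArg (fun w : D.W => FreeGroup.toWord (w.u (f p * s))) (h p hp)
      simp only [Wr.mul_u, ι_u, ι_symm, one_mul, mul_one, D.toWord_eval hl,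
        inv_mul_cancel_left] at h1
      simp only [word, List.cons.injEq, inv_mul_cancel] at h1
      have h2 := D.of_lett_eq h1.1
      rw [one_mul] at h2
      have h3 := Subgroup.inv_mem _ h2
      simpa [mul_assoc] using h3
    classical
    let g' : S → S := fun p =>
      if hp : p ∈ P then D.map (a.1, !a.2) ⟨_, hd p hp⟩ else 1
    have hg' : ∀ p ∈ P, D.ι (g' p) * D.eval l s₀ = D.eval l s₀ * D.ι p := by
      intro p hp
      have hc := D.tstep_comm (a.1, !a.2) ⟨_, hd p hp⟩
      have h1 := h p hp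
      simp only [eval, ← D.tstep_inv] at h1 hc
      simp only [map_mul, map_inv] at hc
      show D.ι (g' p) * _ = _
      rw [show g' p = D.map (a.1, !a.2) ⟨_, hd p hp⟩ from dif_pos hp]
      calc D.ι (D.map (a.1, !a.2) ⟨_, hd p hp⟩) * D.eval l s₀
          = D.ι (D.map (a.1, !a.2) ⟨_, hd p hp⟩) * (D.tstep a)⁻¹ * (D.ι s)⁻¹ *
              (D.ι s * D.tstep a * D.eval l s₀) := by group
        _ = (D.tstep a)⁻¹ * (D.ι s)⁻¹ * D.ι (f p) * (D.ι s * D.tstep a * D.eval l s₀) := by
            rw [← hc]; group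
        _ = D.eval l s₀ * D.ι p := by
            rw [mul_assoc _ (D.ι (f p)), h1]; group
    refine hstep P g' a s f (ih (Red.tail D hl) P g' hg') fun p hp => ?_
    have hm : g' p = D.map (a.1, !a.2) ⟨_, hd p hp⟩ := dif_pos hp
    have hin : g' p ∈ D.dom a := by
      rw [hm]
      have := D.map_mem (a.1, !a.2) ⟨_, hd p hp⟩
      simpa using this
    refine ⟨hin, ?_⟩
    have key : D.map a ⟨g' p, hin⟩ = s⁻¹ * f p * s := by
      have h4 := D.map_map (a.1, !a.2) ⟨_, hd p hp⟩
      obtain ⟨i, ε⟩ := a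
      cases ε <;> exact (congrArg (D.map _) (Subtype.ext hm)).trans h4
    rw [key]
    group

/-- Splitting two reduced words after their common prefix. -/
theorem exists_common {α : Type u} [DecidableEq α] : ∀ A B : List (α × Bool),
    FreeGroup.IsReduced A → FreeGroup.IsReduced B →
    ∃ C A' B', A = C ++ A' ∧ B = C ++ B' ∧
      FreeGroup.norm ((FreeGroup.mk A)⁻¹ * FreeGroup.mk B) = A'.length + B'.length
  | [], B, _, hB => ⟨[], [], B, rfl, rfl, by
      simp [← FreeGroup.one_eq_mk, FreeGroup.norm, FreeGroup.toWord_mk, hB.reduce_eq]⟩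
  | A, [], hA, _ => ⟨[], A, [], rfl, rfl, by
      simp [← FreeGroup.one_eq_mk, FreeGroup.norm, FreeGroup.toWord_mk, FreeGroup.reduce_invRev, hA.reduce_eq]⟩
  | x :: A, y :: B, hA, hB => by
    by_cases hxy : x = y
    · subst hxy
      obtain ⟨C, A', B', e₁, e₂, e₃⟩ := exists_common A B
        (hA.infix ⟨[x], [], by simp⟩) (hB.infix ⟨[x], [], by simp⟩)
      refine ⟨x :: C, A', B', by rw [e₁]; rfl, by rw [e₂]; rfl, ?_⟩
      rw [show x :: A = [x] ++ A from rfl, show x :: B = [x] ++ B from rfl, ← FreeGroup.mul_mk,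
        ← FreeGroup.mul_mk, mul_inv_rev, mul_assoc, inv_mul_cancel_left, e₃]
    · refine ⟨[], x :: A, y :: B, rfl, rfl, ?_⟩
      have hr : FreeGroup.IsReduced (FreeGroup.invRev (x :: A) ++ y :: B) := by
        have hAr : FreeGroup.IsReduced (FreeGroup.invRev (x :: A)) := by
          rw [FreeGroup.isReduced_iff_reduce_eq, FreeGroup.reduce_invRev, hA.reduce_eq]
        refine List.IsChain.append hAr hB ?_
        intro a ha b hb
        simp [FreeGroup.invRev] at ha
        simp at hb
        subst hb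
        rw [← ha]
        intro e
        obtain ⟨x1, x2⟩ := x
        obtain ⟨y1, y2⟩ := y
        obtain rfl : x1 = y1 := e
        cases x2 <;> cases y2 <;> simp_all
      rw [FreeGroup.inv_mk, FreeGroup.mul_mk, FreeGroup.norm, FreeGroup.toWord_mk, hr.reduce_eq,
        List.length_append, FreeGroup.invRev_length]

/-- The exponent sum. -/
def esum {α : Type u} : FreeGroup α →* Multiplicative ℤ :=
  FreeGroup.lift fun _ => Multiplicative.ofAdd 1

theorem esum_mk {α : Type u} : ∀ L : List (α × Bool),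
    2 ∣ (Multiplicative.toAdd (esum (FreeGroup.mk L)) + L.length : ℤ)
  | [] => by simp [← FreeGroup.one_eq_mk]
  | (x, b) :: L => by
    have ih := esum_mk L
    rw [show (x, b) :: L = [(x, b)] ++ L from rfl, ← FreeGroup.mul_mk, map_mul, toAdd_mul]
    have hx : Multiplicative.toAdd (esum (FreeGroup.mk [(x, b)])) = cond b 1 (-1) := by
      cases b <;> simp [esum]
    rw [hx]
    cases b <;> simp only [cond_true, cond_false, List.length_append, List.length_singleton,
      Nat.cast_add, Nat.cast_one] <;> omega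

theorem esum_indep {g : D.W} (hg : g ∈ D.grp) : ∀ y, esum (g.u y) = esum (g.u 1) := by
  induction hg using Subgroup.closure_induction with
  | mem x hx =>
    intro y
    rcases hx with ⟨s, rfl⟩ | ⟨a, rfl⟩
    · rfl
    · obtain ⟨i, ε⟩ := a
      cases ε <;> simp [tstep, lett, esum]
  | one => exact fun _ => rfl
  | mul a b _ _ ha hb =>
    intro y
    rw [Wr.mul_u, Wr.mul_u, map_mul, map_mul, ha, hb, hb (a.σ.symm 1)]
  | inv a _ ha =>
    intro y
    rw [Wr.inv_u, Wr.inv_u, map_inv, map_inv, ha, ha (a.σ 1)]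

theorem even_len {g : D.W} (hg : g ∈ D.grp) {n : ℕ} (hn : 0 < n) (h : g ^ n = 1) :
    2 ∣ D.len g := by
  have hpow : ∀ k : ℕ, esum ((g ^ k).u 1) = esum (g.u 1) ^ k := by
    intro k
    induction k with
    | zero => rw [pow_zero, pow_zero, Wr.one_u, map_one]
    | succ k ih =>
      rw [pow_succ, pow_succ, Wr.mul_u, map_mul, ih, D.esum_indep hg ((g ^ k).σ.symm 1)]
  have h1 := hpow n
  rw [h, Wr.one_u, map_one] at h1
  have h2 : (n : ℤ) * Multiplicative.toAdd (esum (g.u 1)) = 0 := by
    have := congrArg Multiplicative.toAdd h1.symm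
    simpa [toAdd_pow] using this
  have h3 : Multiplicative.toAdd (esum (g.u 1)) = 0 := by
    rcases mul_eq_zero.mp h2 with h' | h'
    · omega
    · exact h'
  have h4 := esum_mk (g.u 1).toWord
  rw [FreeGroup.mk_toWord, h3, zero_add] at h4
  exact Int.natCast_dvd_natCast.mp h4

/-- A finite subgroup fixes a vertex of the tree. -/
theorem finite_conj {H : Subgroup D.W} [Finite H] (hH : H ≤ D.grp) :
    ∃ a ∈ D.grp, ∀ k ∈ H, ∃ s, a⁻¹ * k * a = D.ι s := by
  obtain ⟨⟨h, hh⟩, hmax⟩ := Finite.exists_max fun k : H => D.len (k : D.W)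
  have hmax' : ∀ k ∈ H, D.len k ≤ D.len h := fun k hk => hmax ⟨k, hk⟩
  obtain ⟨n, hn, hhn⟩ := (isOfFinOrder_of_finite (⟨h, hh⟩ : H)).exists_pow_eq_one
  obtain ⟨m, hm⟩ := D.even_len (hH hh) hn (congrArg Subtype.val hhn)
  obtain ⟨l, s₀, hl, hle⟩ := D.exists_red (hH hh)
  have hll : l.length = 2 * m := by rw [← hm, len, ← hle, D.norm_eval hl]
  set l₁ := l.take m
  set a := D.eval l₁ 1 with hadef
  have hl₁ : D.Red l₁ := Red.append_left D (l₂ := l.drop m) (by rwa [List.take_append_drop])
  have ha : a ∈ D.grp := D.eval_mem _ _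
  set A := D.word l₁ 1 with hA
  have hAu : (a.u 1).toWord = A := D.toWord_eval hl₁ _ _
  have hAl : A.length = m := by rw [hA, D.word_length, List.length_take, hll]; omega
  obtain ⟨z, hz⟩ := D.word_append l₁ (l.drop m) 1
  rw [List.take_append_drop] at hz
  set B := D.word (l.drop m) z
  have hU : (h.u 1).toWord = A ++ B := by rw [← hle, D.toWord_eval hl, hz]
  have hBl : B.length = m := by rw [D.word_length, List.length_drop, hll]; omega
  -- near the midpoint
  have hmid : ∀ {k : D.W}, k ∈ D.grp → D.len k ≤ 2 * m → D.len (h⁻¹ * k) ≤ 2 * m →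
      D.len (a⁻¹ * k) ≤ m := by
    intro k hk hk1 hk2
    obtain ⟨C, U', K', e₁, e₂, e₃⟩ := exists_common (h.u 1).toWord (k.u 1).toWord
      FreeGroup.isReduced_toWord FreeGroup.isReduced_toWord
    rw [FreeGroup.mk_toWord, FreeGroup.mk_toWord, ← D.len_inv_mul (hH hh) hk] at e₃
    have hk1' : C.length + K'.length ≤ 2 * m := by
      rw [← List.length_append, ← e₂]; exact hk1
    have hUl : C.length + U'.length = 2 * m := by
      rw [← List.length_append, ← e₁, hU, List.length_append, hAl, hBl]; omega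
    rw [D.len_inv_mul ha hk, ← FreeGroup.mk_toWord (x := a.u 1),
      ← FreeGroup.mk_toWord (x := k.u 1), hAu, e₂]
    have hpre := e₁.symm.trans hU
    rcases List.append_eq_append_iff.mp hpre with ⟨as, hA', -⟩ | ⟨bs, hC', -⟩
    · rw [hA', ← FreeGroup.mul_mk, ← FreeGroup.mul_mk, mul_inv_rev, mul_assoc,
        inv_mul_cancel_left, FreeGroup.inv_mk, FreeGroup.mul_mk]
      refine FreeGroup.norm_mk_le.trans ?_
      rw [List.length_append, FreeGroup.invRev_length]
      have : C.length + as.length = m := by rw [← List.length_append, ← hA', hAl]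
      omega
    · rw [hC', List.append_assoc, ← FreeGroup.mul_mk (L₁ := A), inv_mul_cancel_left]
      refine FreeGroup.norm_mk_le.trans ?_
      have : m + bs.length = C.length := by rw [hC', List.length_append, hAl]
      rw [List.length_append]
      omega
  -- uniqueness of the midpoint
  have huniq : ∀ {w : D.W}, w ∈ D.grp → D.len w ≤ m → D.len (h⁻¹ * w) ≤ m →
      w.u 1 = a.u 1 := by
    intro w hw hw1 hw2
    obtain ⟨C, U', W', e₁, e₂, e₃⟩ := exists_common (h.u 1).toWord (w.u 1).toWord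
      FreeGroup.isReduced_toWord FreeGroup.isReduced_toWord
    rw [FreeGroup.mk_toWord, FreeGroup.mk_toWord, ← D.len_inv_mul (hH hh) hw] at e₃
    have hw1' : C.length + W'.length ≤ m := by
      rw [← List.length_append, ← e₂]; exact hw1
    have hUl : C.length + U'.length = 2 * m := by
      rw [← List.length_append, ← e₁, hU, List.length_append, hAl, hBl]; omega
    have hW : W' = [] := List.eq_nil_of_length_eq_zero (by omega)
    have hCA : C = A := (List.append_inj (e₁.symm.trans hU) (by rw [hAl]; omega)).1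
    refine FreeGroup.toWord_injective ?_
    rw [e₂, hW, List.append_nil, hCA, hAu]
  refine ⟨a, ha, fun k hk => ?_⟩
  have hkg := hH hk
  have hw : k * a ∈ D.grp := D.grp.mul_mem hkg ha
  have hsymm : ∀ {x : D.W}, x ∈ D.grp → D.len (a⁻¹ * x) = D.len (x⁻¹ * a) := by
    intro x hx
    rw [D.len_inv_mul ha hx, D.len_inv_mul hx ha, ← FreeGroup.norm_inv_eq, mul_inv_rev, inv_inv]
  have h1 : D.len (k * a) ≤ m := by
    have := hmid (hH (H.inv_mem hk)) (hm ▸ hmax' _ (H.inv_mem hk))
      (hm ▸ hmax' _ (H.mul_mem (H.inv_mem hh) (H.inv_mem hk)))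
    rwa [hsymm (hH (H.inv_mem hk)), inv_inv] at this
  have h2 : D.len (h⁻¹ * (k * a)) ≤ m := by
    have hx := H.mul_mem (H.inv_mem hk) hh
    have := hmid (hH hx) (hm ▸ hmax' _ hx) (hm ▸ hmax' _ (H.mul_mem (H.inv_mem hh) hx))
    rwa [hsymm (hH hx), mul_inv_rev, inv_inv, mul_assoc] at this
  have h3 : D.len (a⁻¹ * (k * a)) = 0 := by
    rw [D.len_inv_mul ha hw, huniq hw h1 h2, inv_mul_cancel, FreeGroup.norm_one]
  obtain ⟨s, hs⟩ := D.mem_range_of_len_zero (D.grp.mul_mem (D.grp.inv_mem ha) hw) h3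
  exact ⟨s, by rw [← hs, mul_assoc]⟩

end Datum

end CfsgLib.Fusion.Tree
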