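import Mathlib
import Cfsg.Agent.Lib.Fusion.TateApplications
import Cfsg.Agent.Lib.Fusion.SmallElements
import Cfsg.Agent.Lib.Fusion.Solvable
import Cfsg.Agent.Lib.Fusion.Control
import Cfsg.Agent.Lib.OddOrder.CyclicSubgroups

/-! A nilpotency criterion by weakly embedded subgroups of one order. -/

set_option autoImplicit false

universe u

namespace CfsgLib.Fusion

open Cfsg Cfsg.FusionSystem
open scoped commutatorElement

variable {p : ℕ} [hp : Fact p.Prime] {Ω : Type u} [Group Ω] {S : Subgroup Ω}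

/-- Every subgroup of order `d` is weakly embedded. -/
def WEmb (F : FusionSystem S) (d : ℕ) : Prop :=
  ∀ Q : Subgroup Ω, Q ≤ S → Nat.card Q = d → ∃ P, F.StronglyClosed P ∧ F.StronglyClosed (Q ⊔ P) ∧
    F.StronglyClosed (Q ⊓ P)

/-- Coprime automorphisms fixing a normal subgroup of order `d` are trivial. -/
def FixTriv (p : ℕ) (F : FusionSystem S) (d : ℕ) : Prop :=
  ∀ R X : Subgroup Ω, R ≤ S → X ≤ R → Nat.card X = d → R ≤ Subgroup.normalizer (X : Set Ω) →
    ∀ α ∈ F.autGroup R, (orderOf α).Coprime p → (∀ x ∈ X, autFun α x ∈ X) → α = 1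

theorem exists_coprime_pow {M : Type*} [Group M] [Finite M] (δ : M) :
    ∃ a : ℕ, (orderOf (δ ^ p ^ a)).Coprime p := by
  obtain ⟨a, c, hc', hn'⟩ := Nat.exists_eq_pow_mul_and_not_dvd (orderOf_pos δ).ne' p hp.out.ne_one
  refine ⟨a, ?_⟩
  rw [orderOf_pow_of_dvd (pow_ne_zero a hp.out.ne_zero) (hn' ▸ dvd_mul_right _ _), hn',
    Nat.mul_div_cancel_left _ (pow_pos hp.out.pos a)]
  exact (Nat.Coprime.symm ((hp.out.coprime_iff_not_dvd).mpr hc'))

theorem eq_one_of_pow_prime_pow {M : Type*} [Group M] {δ : M} {a : ℕ}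
    (hc : (orderOf δ).Coprime p) (h : δ ^ p ^ a = 1) : δ = 1 :=
  orderOf_eq_one_iff.mp (Nat.eq_one_of_dvd_coprimes (hc.pow_right a) dvd_rfl
    (orderOf_dvd_of_pow_eq_one h))

omit hp in
theorem weAutFun_pow_mem {P X : Subgroup Ω} {α : MulAut P} (hXP : X ≤ P)
    (h : ∀ x ∈ X, autFun α x ∈ X) : ∀ n : ℕ, ∀ x ∈ X, autFun (α ^ n) x ∈ X := by
  intro n
  induction n with
  | zero => intro x hx; rw [pow_zero, autFun_one (hXP hx)]; exact hx
  | succ n ih => intro x hx; rw [pow_succ', autFun_mul _ _ (hXP hx)]; exact h _ (ih x hx)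

/-- The hypothesis on normalizer systems gives `FixTriv`. -/
theorem fixTriv_of_normalizers [Finite S] (hS : IsPGroup p S) {F : FusionSystem S}
    (hF : F.IsSaturated p) {d : ℕ}
    (hN : ∀ H : Subgroup Ω, F.IsFullyNormalized H → Nat.card H = d →
      ∀ P f, IsMor F P f → P ≤ normalizerIn S H → (∀ x ∈ P, f x ∈ normalizerIn S H) →
        (∃ g, IsMor F (P ⊔ H) g ∧ (∀ x ∈ P, g x = f x) ∧ img H g = H) →
        ∃ s ∈ normalizerIn S H, ∀ x ∈ P, f x = cj s x) :
    FixTriv p F d := by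
  intro R X hR hXR hXd hRn α hα hcop hαX
  obtain ⟨H, hH, hHn⟩ := exists_fullyNormalized F (hXR.trans hR)
  obtain ⟨g, hg, hgi, hgN⟩ := exists_map_fullyNormalized hS hF hHn hH
  have hRN : R ≤ normalizerIn S X := fun r hr => mem_normalizerIn.mpr ⟨hR hr, hRn hr⟩
  have hgR : IsMor F R g := hg.restrict hRN
  obtain ⟨e, he, heA, -⟩ := exists_transport hgR rfl
  have hHR : H ≤ img R g := hgi ▸ img_mono g hXR
  have hm := isMor_autFun hgR.img_le ((heA α).mp hα)
  have hRH : img R g ≤ normalizerIn S H := (img_mono g hRN).trans hgN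
  have hHinv : ∀ y ∈ H, autFun (e α) y ∈ H := by
    intro y hy
    obtain ⟨x, hx, rfl⟩ := (hg.restrict (hXR.trans hRN)).mem_img.mp (hgi.ge hy)
    rw [he α x (hXR hx)]
    exact hgi ▸ mem_img_of_mem g (hαX x hx)
  have hHi : img H (autFun (e α)) = H := (hm.restrict hHR).img_eq_self hHinv
  obtain ⟨s, hs, hse⟩ := hN H hHn (by rw [← hXd, ← hgi, (hg.restrict (hXR.trans hRN)).card_img])
    _ _ hm hRH (fun x hx => hRH (autFun_mem _ hx))
    ⟨autFun (e α), by rwa [sup_eq_left.mpr hHR], fun _ _ => rfl, hHi⟩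
  have hsn : s ∈ Subgroup.normalizer (img R g : Set Ω) := by
    refine Subgroup.mem_normalizer_iff.mpr fun y => ⟨fun hy => ?_, fun hy => ?_⟩
    · show cj s y ∈ img R g
      rw [← hse y hy]
      exact autFun_mem _ hy
    · have h1 : autFun (e α) (autFun (e α)⁻¹ (s * y * s⁻¹)) = s * y * s⁻¹ := autFun_inv_right _ hy
      rw [hse _ (autFun_mem _ hy)] at h1
      have h2 := congrArg (cj s⁻¹) h1
      rw [cj_inv_cj, show cj s⁻¹ (s * y * s⁻¹) = y from cj_inv_cj s y] at h2
      exact h2 ▸ autFun_mem _ hy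
  have hmem : e α ∈ autInducedBy S (img R g) :=
    mem_autInducedBy.mpr ⟨s, normalizerIn_le hs, hsn, hse⟩
  obtain ⟨a, ha⟩ := isPGroup_autInducedBy (P := img R g) hS ⟨_, hmem⟩
  have h1 : (e α) ^ p ^ a = 1 := congrArg Subtype.val ha
  rw [← map_pow] at h1
  exact eq_one_of_pow_prime_pow hcop (e.injective (h1.trans (map_one e).symm))

section Factor

variable [Finite S] {F : FusionSystem S}

omit hp in
theorem card_preimageAlong {Ω' : Type*} [Group Ω'] {θ : S →* Ω'} {K : Subgroup Ω} (hK : K ≤ S)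
    (hker : ∀ s : S, θ s = 1 ↔ (s : Ω) ∈ K) (hsurj : Function.Surjective θ) (Q' : Subgroup Ω') :
    Nat.card (preimageAlong θ Q') = Nat.card K * Nat.card Q' := by
  have : Finite Ω' := Finite.of_surjective θ hsurj
  have h1 : Nat.card (preimageAlong θ Q') = Nat.card (Q'.comap θ) :=
    Subgroup.card_map_of_injective S.subtype_injective
  have hk : θ.ker = K.subgroupOf S := by
    ext s
    rw [MonoidHom.mem_ker, hker, Subgroup.mem_subgroupOf]
  have h2 : Nat.card S = Nat.card K * Nat.card Ω' := by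
    rw [← Subgroup.card_mul_index θ.ker, Subgroup.index_ker,
      MonoidHom.range_eq_top.mpr hsurj, Subgroup.card_top, hk]
    congr 1
    exact Nat.card_congr (Subgroup.subgroupOfEquivOfLe hK).toEquiv
  have h3 : (Q'.comap θ).index = Q'.index := Subgroup.index_comap_of_surjective _ hsurj
  have h4 := Subgroup.card_mul_index (Q'.comap θ)
  rw [h3, h2, ← Subgroup.card_mul_index Q', ← mul_assoc] at h4
  rw [h1]
  exact Nat.eq_of_mul_eq_mul_right (Nat.pos_of_ne_zero Subgroup.index_ne_zero_of_finite) h4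

theorem factor_step (hS : IsPGroup p S) (hF : F.IsSaturated p) {k : ℕ} (hk : p ^ k < Nat.card S)
    (hW : WEmb F (p ^ k)) (hfix : FixTriv p F (p ^ k)) {K : Subgroup Ω} (hK : F.StronglyClosed K)
    (hKne : K ≠ ⊥) (hKd : Nat.card K < p ^ k)
    (IH : ∀ (Ω' : Type u) [Group Ω'] (T : Subgroup Ω') [Finite T] (E : FusionSystem T) (j : ℕ),
      Nat.card T < Nat.card S → IsPGroup p T → E.IsSaturated p → 1 < p ^ j → p ^ j < Nat.card T →
      WEmb E (p ^ j) → FixTriv p E (p ^ j) → E.hyperfocalSubgroup p = ⊥) :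
    F.hyperfocalSubgroup p ≤ K := by
  classical
  have hKS : K ≤ S := hK.1
  have : Finite K := finite_of_le hKS
  obtain ⟨j, hj⟩ := IsPGroup.iff_card.mp (isPGroup_of_le hKS hS)
  have hjk : j < k := (Nat.pow_lt_pow_iff_right hp.out.one_lt).mp (hj ▸ hKd)
  have hn : (K.subgroupOf S).Normal := ⟨fun z hz s => Subgroup.mem_subgroupOf.mpr
    ((stronglyClosed_iff.mp hK).2 K _ (isMor_cj F hKS s.2) z (Subgroup.mem_subgroupOf.mp hz)
      (Subgroup.mem_subgroupOf.mp hz))⟩
  set θ := QuotientGroup.mk' (K.subgroupOf S) with hθ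
  have hker : ∀ s : S, θ s = 1 ↔ (s : Ω) ∈ K := fun s =>
    (QuotientGroup.eq_one_iff s).trans Subgroup.mem_subgroupOf
  have hsurj : Function.Surjective θ := QuotientGroup.mk'_surjective _
  obtain ⟨E, hE⟩ := exists_factorSystem hK hker (MonoidHom.range_eq_top.mpr hsurj)
  have hEs := factor_isSaturated hS hF hK hE
  have hpT : IsPGroup p (⊤ : Subgroup (S ⧸ K.subgroupOf S)) :=
    (hS.to_quotient _).to_subgroup _
  have hcT : Nat.card K * Nat.card (⊤ : Subgroup (S ⧸ K.subgroupOf S)) = Nat.card S := by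
    rw [← card_preimageAlong hKS hker hsurj]
    refine congrArg (fun T : Subgroup Ω => Nat.card T) (le_antisymm (preimageAlong_le _) ?_)
    exact fun y hy => mem_preimageAlong.mpr ⟨hy, trivial⟩
  have hK1 : 1 < Nat.card K := by
    have : Nontrivial K := (Subgroup.nontrivial_iff_ne_bot K).mpr hKne
    exact Finite.one_lt_card
  have hlt : Nat.card (⊤ : Subgroup (S ⧸ K.subgroupOf S)) < Nat.card S := by
    rw [← hcT]
    exact lt_mul_left Nat.card_pos hK1
  have hd : Nat.card K * p ^ (k - j) = p ^ k := by rw [hj, ← pow_add, Nat.add_sub_cancel' hjk.le]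
  have hlift : ∀ {Q' : Subgroup (S ⧸ K.subgroupOf S)}, Nat.card Q' = p ^ (k - j) →
      Nat.card (preimageAlong θ Q') = p ^ k := fun h => by
    rw [card_preimageAlong hKS hker hsurj, h, hd]
  have himg : ∀ X, F.StronglyClosed X → E.StronglyClosed (imageAlong θ X) := by
    intro X hX
    refine stronglyClosed_iff.mpr ⟨le_top, fun P' f' hf' y hy hyX => ?_⟩
    obtain ⟨x, hx, rfl⟩ := mem_imageAlong.mp hyX
    obtain ⟨g, hg, hge⟩ := factor_lift hE hf'
    have hxm : (x : Ω) ∈ preimageAlong θ P' := mem_preimageAlong.mpr ⟨x.2, hy⟩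
    rw [hge x (hg.mem hxm) hy]
    exact mem_imageAlong.mpr ⟨⟨g x, hg.mem hxm⟩,
      (stronglyClosed_iff.mp hX).2 _ g hg x hxm hx, rfl⟩
  have hW' : WEmb E (p ^ (k - j)) := by
    intro Q' _ hQ'
    set Q := preimageAlong θ Q' with hQ
    obtain ⟨P, hP, hQP, hQiP⟩ := hW Q (preimageAlong_le _) (hlift hQ')
    have hQi : imageAlong θ Q = Q' := by
      ext y
      refine ⟨fun hy => ?_, fun hy => ?_⟩
      · obtain ⟨x, hx, rfl⟩ := mem_imageAlong.mp hy
        exact (mem_preimageAlong.mp hx).2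
      · obtain ⟨x, rfl⟩ := hsurj y
        exact mem_imageAlong.mpr ⟨x, mem_preimageAlong.mpr ⟨x.2, hy⟩, rfl⟩
    refine ⟨imageAlong θ P, himg P hP, ?_, ?_⟩
    · have : imageAlong θ (Q ⊔ P) = Q' ⊔ imageAlong θ P := by
        rw [← hQi]
        unfold imageAlong
        rw [Subgroup.subgroupOf_sup (preimageAlong_le _) hP.1, Subgroup.map_sup]
      exact this ▸ himg _ hQP
    · have : imageAlong θ (Q ⊓ P) = Q' ⊓ imageAlong θ P := by
        ext y
        refine ⟨fun hy => ?_, fun hy => ?_⟩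
        · obtain ⟨x, hx, rfl⟩ := mem_imageAlong.mp hy
          exact ⟨(mem_preimageAlong.mp hx.1).2, mem_imageAlong.mpr ⟨x, hx.2, rfl⟩⟩
        · obtain ⟨x, hx, rfl⟩ := mem_imageAlong.mp hy.2
          exact mem_imageAlong.mpr ⟨x, ⟨mem_preimageAlong.mpr ⟨x.2, hy.1⟩, hx⟩, rfl⟩
      exact this ▸ himg _ hQiP
  have hfix' : FixTriv p E (p ^ (k - j)) := by
    intro R' X' _ hXR hX' hRn α hα hcop hαX
    set R := preimageAlong θ R' with hR
    obtain ⟨g, hg, hge⟩ := factor_lift hE (isMor_autFun le_top hα)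
    have hgR : ∀ x ∈ R, g x ∈ R := by
      intro x hx
      obtain ⟨hxS, hxR⟩ := mem_preimageAlong.mp hx
      refine mem_preimageAlong.mpr ⟨hg.mem hx, ?_⟩
      rw [← hge ⟨x, hxS⟩ (hg.mem hx) hxR]
      exact autFun_mem α hxR
    obtain ⟨δ, hδ, hδe⟩ := exists_aut hg (hg.img_eq_self hgR)
    have hpow : ∀ n : ℕ, ∀ x : S, ∀ hx : θ x ∈ R', ∀ h : autFun (δ ^ n) x ∈ S,
        autFun (α ^ n) (θ x) = θ ⟨autFun (δ ^ n) x, h⟩ := by
      intro n
      induction n with
      | zero =>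
        intro x hx h
        rw [pow_zero, autFun_one hx]
        exact congrArg θ (Subtype.ext (autFun_one (mem_preimageAlong.mpr ⟨x.2, hx⟩)).symm)
      | succ n ih =>
        intro x hx h
        have hxR : (x : Ω) ∈ R := mem_preimageAlong.mpr ⟨x.2, hx⟩
        have h' : autFun (δ ^ n) x ∈ R := autFun_mem _ hxR
        have h'' := ih x hx (preimageAlong_le _ h')
        have hy : θ ⟨autFun (δ ^ n) x, preimageAlong_le _ h'⟩ ∈ R' := h'' ▸ autFun_mem _ hx
        rw [pow_succ', autFun_mul _ _ hx, h'', hge _ (hg.mem h') hy]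
        refine congrArg θ (Subtype.ext ?_)
        show g (autFun (δ ^ n) x) = autFun (δ ^ (n + 1)) x
        rw [pow_succ', autFun_mul _ _ hxR, hδe _ h']
    have := finite_mulAut (P := R) (preimageAlong_le R')
    obtain ⟨a, ha⟩ := exists_coprime_pow (p := p) δ
    have hδX : ∀ x ∈ preimageAlong θ X', autFun δ x ∈ preimageAlong θ X' := by
      intro x hx
      obtain ⟨hxS, hxX⟩ := mem_preimageAlong.mp hx
      have hxR : x ∈ R := mem_preimageAlong.mpr ⟨hxS, hXR hxX⟩
      rw [hδe x hxR]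
      refine mem_preimageAlong.mpr ⟨hg.mem hxR, ?_⟩
      rw [← hge ⟨x, hxS⟩ (hg.mem hxR) (hXR hxX)]
      exact hαX _ hxX
    have hle : preimageAlong θ X' ≤ R := fun x hx =>
      mem_preimageAlong.mpr ⟨(mem_preimageAlong.mp hx).1, hXR (mem_preimageAlong.mp hx).2⟩
    have hnorm : R ≤ Subgroup.normalizer (preimageAlong θ X' : Set Ω) := by
      intro r hr
      obtain ⟨hrS, hrR⟩ := mem_preimageAlong.mp hr
      have hm : ∀ x : S, θ x ∈ X' ↔ θ (⟨r, hrS⟩ * x * ⟨r, hrS⟩⁻¹) ∈ X' := fun x => by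
        rw [map_mul, map_mul, map_inv]
        exact Subgroup.mem_normalizer_iff.mp (hRn hrR) _
      refine Subgroup.mem_normalizer_iff.mpr fun x => ⟨fun hx => ?_, fun hx => ?_⟩
      · obtain ⟨hxS, hxX⟩ := mem_preimageAlong.mp hx
        exact mem_preimageAlong.mpr ⟨S.mul_mem (S.mul_mem hrS hxS) (S.inv_mem hrS), (hm ⟨x, hxS⟩).mp hxX⟩
      · obtain ⟨hyS, hyX⟩ := mem_preimageAlong.mp hx
        have hxS : x ∈ S := by
          have := S.mul_mem (S.mul_mem (S.inv_mem hrS) hyS) hrS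
          simpa [mul_assoc] using this
        exact mem_preimageAlong.mpr ⟨hxS, (hm ⟨x, hxS⟩).mpr hyX⟩
    have h1 := hfix R _ (preimageAlong_le _) hle (hlift hX') hnorm _
      ((F.autGroup R).pow_mem hδ _) ha (weAutFun_pow_mem hle hδX _)
    refine eq_one_of_pow_prime_pow hcop (a := a) (autFun_inj fun y hy => ?_)
    obtain ⟨x, rfl⟩ := hsurj y
    have hxR : (x : Ω) ∈ R := mem_preimageAlong.mpr ⟨x.2, hy⟩
    rw [hpow _ x hy (preimageAlong_le _ (autFun_mem _ hxR)), autFun_one hy]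
    refine congrArg θ (Subtype.ext ?_)
    show autFun (δ ^ p ^ a) x = x
    rw [h1, autFun_one hxR]
  have hsmall : p ^ (k - j) < Nat.card (⊤ : Subgroup (S ⧸ K.subgroupOf S)) :=
    Nat.lt_of_mul_lt_mul_left (a := Nat.card K) (by rw [hd, hcT]; exact hk)
  have hhyp := IH _ (⊤ : Subgroup (S ⧸ K.subgroupOf S)) E (k - j) hlt hpT hEs
    (Nat.one_lt_pow (by omega) hp.out.one_lt) hsmall hW' hfix'
  refine hyp_le fun P hP α hα hcop x hx => ?_
  obtain ⟨g, hg, hge⟩ := exists_map_sup hS hF hK (isMor_autFun hP hα)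
  rw [← preimage_image hker hKS hP] at hg
  obtain ⟨f', hf', hf'e⟩ := factor_push hE hK le_top hg
  have hθeq : ∀ y (hy : y ∈ P) (hgy : g y ∈ S),
      θ ⟨g y, hgy⟩ = θ ⟨autFun α y, hP (autFun_mem α hy)⟩ := fun y hy hgy => by
    refine (inv_mul_eq_one.mp ?_).symm
    rw [← map_inv, ← map_mul]
    exact (hker _).mpr (hge y hy)
  have hkey : ∀ y (hy : y ∈ P), f' (θ ⟨y, hP hy⟩) = θ ⟨autFun α y, hP (autFun_mem α hy)⟩ := by
    intro y hy
    have hm : θ ⟨y, hP hy⟩ ∈ imageAlong θ P := ⟨⟨y, hP hy⟩, hy, rfl⟩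
    have hgy : g y ∈ S := hg.mem (mem_preimageAlong.mpr ⟨hP hy, hm⟩)
    rw [hf'e ⟨y, hP hy⟩ hgy hm, hθeq y hy hgy]
  have hmaps : ∀ z ∈ imageAlong θ P, f' z ∈ imageAlong θ P := by
    intro z hz
    obtain ⟨y, hy, rfl⟩ := mem_imageAlong.mp hz
    rw [show f' (θ y) = _ from hkey y hy]
    exact ⟨_, autFun_mem α hy, rfl⟩
  obtain ⟨γ, hγ, hγe⟩ := exists_aut hf' (hf'.img_eq_self hmaps)
  have hpow : ∀ n : ℕ, ∀ y (hy : y ∈ P),
      autFun (γ ^ n) (θ ⟨y, hP hy⟩) = θ ⟨autFun (α ^ n) y, hP (autFun_mem _ hy)⟩ := by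
    intro n
    induction n with
    | zero =>
      intro y hy
      rw [pow_zero, autFun_one (show θ ⟨y, hP hy⟩ ∈ imageAlong θ P from ⟨⟨y, hP hy⟩, hy, rfl⟩)]
      refine congrArg θ (Subtype.ext ?_)
      show y = autFun (α ^ 0) y
      rw [pow_zero, autFun_one hy]
    | succ n ih =>
      intro y hy
      have hm : θ ⟨y, hP hy⟩ ∈ imageAlong θ P := ⟨⟨y, hP hy⟩, hy, rfl⟩
      rw [pow_succ', autFun_mul _ _ hm, hγe _ (autFun_mem _ hm), ih y hy,
        hkey _ (autFun_mem _ hy)]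
      refine congrArg θ (Subtype.ext ?_)
      show autFun α (autFun (α ^ n) y) = autFun (α ^ (n + 1)) y
      rw [pow_succ', autFun_mul _ _ hy]
  have hdvd : orderOf γ ∣ orderOf α := by
    refine orderOf_dvd_of_pow_eq_one (autFun_inj fun z hz => ?_)
    obtain ⟨y, hy, rfl⟩ := mem_imageAlong.mp hz
    rw [show autFun _ (θ y) = _ from hpow _ y hy, autFun_one hz]
    refine congrArg θ (Subtype.ext ?_)
    show autFun (α ^ orderOf α) (y : Ω) = y
    rw [pow_orderOf_eq_one, autFun_one hy]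
  have hm : θ ⟨x, hP hx⟩ ∈ imageAlong θ P := ⟨⟨x, hP hx⟩, hx, rfl⟩
  have h2 := hyp_gen le_top hγ (Nat.Coprime.coprime_dvd_left hdvd hcop) hm
  rw [hhyp, Subgroup.mem_bot, hγe _ hm, hkey x hx, ← map_inv, ← map_mul] at h2
  exact (hker _).mp h2

end Factor

omit hp in
theorem card_mul_le_of_inf_bot {A B U : Subgroup Ω} [Finite U] (hA : A ≤ U) (hB : B ≤ U)
    (h : A ⊓ B = ⊥) : Nat.card A * Nat.card B ≤ Nat.card U := by
  rw [← Nat.card_prod]
  refine Nat.card_le_card_of_injective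
    (fun x : A × B => (⟨(x.1 : Ω) * x.2, U.mul_mem (hA x.1.2) (hB x.2.2)⟩ : U)) ?_
  rintro ⟨a, b⟩ ⟨a', b'⟩ e
  have e' : (a : Ω) * b = a' * b' := congrArg Subtype.val e
  have h1 : (a' : Ω)⁻¹ * a = b' * (b : Ω)⁻¹ := by
    rw [eq_mul_inv_iff_mul_eq, mul_assoc, e', inv_mul_cancel_left]
  have h2 : (a' : Ω)⁻¹ * a ∈ A ⊓ B :=
    ⟨A.mul_mem (A.inv_mem a'.2) a.2, h1 ▸ B.mul_mem b'.2 (B.inv_mem b.2)⟩
  rw [h, Subgroup.mem_bot] at h2
  have ha : a' = a := Subtype.ext (inv_mul_eq_one.mp h2)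
  subst ha
  exact Prod.ext rfl (Subtype.ext (mul_left_cancel e'))

omit hp in
theorem exists_subgroup_between {U H : Subgroup Ω} [Finite U] [Fact p.Prime] (hU : IsPGroup p U)
    (hH : H ≤ U) {m : ℕ} (hm : Nat.card H ≤ p ^ m) (hm' : p ^ m ≤ Nat.card U) :
    ∃ Q : Subgroup Ω, H ≤ Q ∧ Q ≤ U ∧ Nat.card Q = p ^ m := by
  have hp' : p.Prime := Fact.out
  have : Finite H := finite_of_le hH
  obtain ⟨a, ha⟩ := IsPGroup.iff_card.mp (isPGroup_of_le hH hU)
  obtain ⟨b, hb⟩ := IsPGroup.iff_card.mp hU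
  have ham : a ≤ m := (Nat.pow_le_pow_iff_right hp'.one_lt).mp (ha ▸ hm)
  have hmb : m ≤ b := (Nat.pow_le_pow_iff_right hp'.one_lt).mp (hb ▸ hm')
  obtain ⟨Q, hQ, hHQ⟩ := Sylow.exists_subgroup_card_pow_prime_le p (hb ▸ pow_dvd_pow p hmb)
    (H.subgroupOf U) ((Nat.card_congr (Subgroup.subgroupOfEquivOfLe hH).toEquiv).trans ha) ham
  refine ⟨Q.map U.subtype, fun x hx => ⟨⟨x, hH hx⟩, hHQ hx, rfl⟩, Subgroup.map_subtype_le _, ?_⟩
  rw [Subgroup.card_map_of_injective U.subtype_injective, hQ]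

theorem exists_normal_between {U H : Subgroup Ω} [Finite U] (hU : IsPGroup p U) (hH : H ≤ U)
    (hn : ∀ s ∈ U, ∀ x ∈ H, cj s x ∈ H) {m : ℕ} (hm : Nat.card H ≤ p ^ m)
    (hm' : p ^ m ≤ Nat.card U) :
    ∃ X : Subgroup Ω, H ≤ X ∧ X ≤ U ∧ Nat.card X = p ^ m ∧
      U ≤ Subgroup.normalizer (X : Set Ω) := by
  have : (H.subgroupOf U).Normal := ⟨fun z hz s => Subgroup.mem_subgroupOf.mpr
    (hn s s.2 z (Subgroup.mem_subgroupOf.mp hz))⟩
  obtain ⟨K, hK, hHK, -, hKc⟩ := CfsgLib.PGroups.exists_normal_card_eq hU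
    (N := H.subgroupOf U) (M := ⊤) le_top (k := m)
    ((Nat.card_congr (Subgroup.subgroupOfEquivOfLe hH).toEquiv).trans_le hm)
    (by rw [Subgroup.card_top]; exact hm')
  refine ⟨K.map U.subtype, fun x hx => ⟨⟨x, hH hx⟩, hHK (Subgroup.mem_subgroupOf.mpr hx), rfl⟩,
    Subgroup.map_subtype_le _, ?_, fun u hu => ?_⟩
  · rw [Subgroup.card_map_of_injective U.subtype_injective, hKc]
  · have hm : ∀ s ∈ U, ∀ x ∈ K.map U.subtype, cj s x ∈ K.map U.subtype := by
      rintro s hs _ ⟨y, hy, rfl⟩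
      exact ⟨_, hK.conj_mem y hy ⟨s, hs⟩, rfl⟩
    refine Subgroup.mem_normalizer_iff.mpr fun x => ⟨fun hx => hm u hu x hx, fun hx => ?_⟩
    have := hm _ (U.inv_mem hu) _ hx
    rwa [show cj u⁻¹ (u * x * u⁻¹) = x from cj_inv_cj u x] at this

theorem exists_pow_orderOf_prime {U : Subgroup Ω} (hU : IsPGroup p U) {y : Ω} (hy : y ∈ U)
    (h1 : y ≠ 1) : ∃ w, w ∈ Subgroup.zpowers y ∧ orderOf w = p := by
  obtain ⟨k, hk⟩ := IsPGroup.iff_orderOf.1 hU ⟨y, hy⟩
  rw [Subgroup.orderOf_mk] at hk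
  rcases k with _ | k
  · exact absurd (orderOf_eq_one_iff.mp (hk.trans (pow_zero p))) h1
  refine ⟨y ^ p ^ k, Subgroup.npow_mem_zpowers y _, ?_⟩
  rw [orderOf_pow_of_dvd (pow_ne_zero k hp.out.ne_zero) (hk ▸ pow_dvd_pow p (Nat.le_succ k)), hk,
    pow_succ, Nat.mul_div_cancel_left _ (pow_pos hp.out.pos k)]

/-- A nontrivial normal subgroup meets the centre in an element of order `p`. -/
theorem exists_central_prime {S R : Subgroup Ω} [Finite S] (hS : IsPGroup p S) (hR : R ≤ S)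
    (hn : ∀ s ∈ S, ∀ x ∈ R, cj s x ∈ R) (hne : R ≠ ⊥) :
    ∃ c, c ∈ R ∧ orderOf c = p ∧ ∀ s ∈ S, cj c s = s := by
  have : (R.subgroupOf S).Normal := ⟨fun z hz s => Subgroup.mem_subgroupOf.mpr
    (hn s s.2 z (Subgroup.mem_subgroupOf.mp hz))⟩
  have hne' : R.subgroupOf S ≠ ⊥ := fun e => hne (by
    rw [← Subgroup.map_subgroupOf_eq_of_le hR, e, Subgroup.map_bot])
  have h := CfsgLib.PGroups.inf_center_ne_bot hS hne'
  obtain ⟨y, ⟨hyR, hyZ⟩, hy1⟩ := (Subgroup.bot_or_exists_ne_one _).resolve_left h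
  obtain ⟨w, hw, hwp⟩ := exists_pow_orderOf_prime hS y.2 (fun e => hy1 (Subtype.ext e))
  obtain ⟨i, rfl⟩ := Subgroup.mem_zpowers_iff.mp hw
  refine ⟨(y : Ω) ^ i, R.zpow_mem (Subgroup.mem_subgroupOf.mp hyR) i, hwp, fun s hs => ?_⟩
  refine cj_fixed_iff.mpr ?_
  exact ((show Commute (y : Ω) s from
    congrArg Subtype.val (Subgroup.mem_center_iff.mp hyZ ⟨s, hs⟩).symm).zpow_left i).eq

theorem hyp_eq_bot_of_wemb : ∀ (n : ℕ) {Ω : Type u} [Group Ω] (S : Subgroup Ω) [Finite S]
    (F : FusionSystem S) (k : ℕ), Nat.card S = n → IsPGroup p S → F.IsSaturated p →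
    1 < p ^ k → p ^ k < Nat.card S → WEmb F (p ^ k) → FixTriv p F (p ^ k) →
    F.hyperfocalSubgroup p = ⊥ := by
  intro n
  induction n using Nat.strong_induction_on with
  | _ n ih =>
  intro Ω _ S _ F k hn hS hF hd1 hdS hW hfix
  classical
  set d := p ^ k with hd
  set T := F.hyperfocalSubgroup p with hT
  have hTc : F.StronglyClosed T := hyp_stronglyClosed hS hF
  have hstep : ∀ K, F.StronglyClosed K → K ≠ ⊥ → Nat.card K < d → T ≤ K := fun K hK hne hlt =>
    factor_step hS hF hdS hW hfix hK hne hlt fun Ω' _ U _ E j hU => ih _ (hn ▸ hU) U E j rfl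
  have hcl : ∀ {K}, F.StronglyClosed K → ∀ P f, IsMor F P f → ∀ x ∈ P, x ∈ K → f x ∈ K :=
    fun hK => (stronglyClosed_iff.mp hK).2
  have hnorm : ∀ {K}, F.StronglyClosed K → ∀ s ∈ S, ∀ x ∈ K, cj s x ∈ K := fun hK s hs x hx =>
    hcl hK _ _ (isMor_cj F hK.1 hs) x hx hx
  have hSn : ∀ {K}, F.StronglyClosed K → normalizerIn S K = S := fun hK =>
    mem_normalizer_of_conj_le fun s hs => img_le fun x hx => hnorm hK s hs x hx
  have hbot : ∀ {P : Subgroup Ω}, P ≤ S → (∀ α ∈ F.autGroup P, (orderOf α).Coprime p → α = 1) →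
      ∀ α ∈ F.autGroup P, (orderOf α).Coprime p → ∀ x ∈ P, x⁻¹ * autFun α x ∈ (⊥ : Subgroup Ω) :=
    fun _ h α hα hc x hx => by rw [h α hα hc, autFun_one hx, inv_mul_cancel]; exact one_mem _
  -- no normal subgroup of order `d`
  have hnormal : ∀ K, F.IsNormal K → Nat.card K = d → T = ⊥ := by
    intro K hK hKd
    refine eq_bot_iff.mpr (hyp_le fun R hR α hα hcop x hx => hbot hR (fun α hα hcop => ?_) α hα hcop x hx)
    obtain ⟨ψ, hψ, hψe, hψK⟩ := (isNormal_iff.mp hK).2 R _ (isMor_autFun hR hα)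
    have hi : img (R ⊔ K) ψ = R ⊔ K := by
      rw [hψ.img_sup, hψK, (img_congr hψe).trans (img_autFun α)]
    obtain ⟨δ, hδ, hδe⟩ := exists_aut hψ hi
    have hRK : R ⊔ K ≤ S := sup_le hR hK.1
    have := finite_mulAut (P := R ⊔ K) hRK
    obtain ⟨a, ha⟩ := exists_coprime_pow (p := p) δ
    have hδK : ∀ y ∈ K, autFun δ y ∈ K := fun y hy => by
      rw [hδe y (Subgroup.mem_sup_right hy)]
      exact hψK ▸ mem_img_of_mem ψ hy
    have hn' : R ⊔ K ≤ Subgroup.normalizer (K : Set Ω) := fun y hy =>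
      (mem_normalizerIn.mp ((hSn (isNormal_stronglyClosed hK)).ge (hRK hy))).2
    have h1 := hfix (R ⊔ K) K hRK le_sup_right hKd hn' _ ((F.autGroup _).pow_mem hδ _) ha
      (weAutFun_pow_mem le_sup_right hδK _)
    have hpow : ∀ m : ℕ, ∀ y ∈ R, autFun (δ ^ m) y = autFun (α ^ m) y := by
      intro m
      induction m with
      | zero => intro y hy; rw [pow_zero, pow_zero, autFun_one hy, autFun_one (Subgroup.mem_sup_left hy)]
      | succ m ihm =>
        intro y hy
        rw [pow_succ', pow_succ', autFun_mul _ _ hy, autFun_mul _ _ (Subgroup.mem_sup_left hy),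
          ihm y hy, hδe _ (Subgroup.mem_sup_left (autFun_mem _ hy)), hψe _ (autFun_mem _ hy)]
    refine eq_one_of_pow_prime_pow hcop (a := a) (autFun_inj fun y hy => ?_)
    rw [← hpow _ y hy, h1, autFun_one (Subgroup.mem_sup_left hy), autFun_one hy]
  by_contra hTne
  have hpd : p ≤ d := by
    rcases Nat.eq_zero_or_pos k with rfl | hk0
    · simp [hd] at hd1
    · exact hd ▸ Nat.le_self_pow hk0.ne' p
  -- no strongly closed subgroup of order `p`
  have hp1 : ∀ C, F.StronglyClosed C → Nat.card C ≠ p := by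
    intro C hC hCp
    have hCS := hC.1
    have : Finite C := finite_of_le hCS
    have : IsCyclic C := isCyclic_of_prime_card hCp
    have hCab : ∀ x ∈ C, ∀ y ∈ C, x * y = y * x := fun x hx y hy =>
      congrArg Subtype.val (IsCyclic.commGroup.mul_comm (⟨x, hx⟩ : C) ⟨y, hy⟩)
    rcases hpd.lt_or_eq with hlt | heq
    swap
    · exact hTne (hnormal C (isNormal_of_abelian hS hF hC hCab) (hCp.trans heq))
    have hTC : T ≤ C := hstep C hC (fun e => by rw [e, Subgroup.card_bot] at hCp; exact hp.out.one_lt.ne hCp) (hCp ▸ hlt)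
    have hfc := isFullyCentralized_of_normalized hS hF (isFullyNormalized_of_normal hCS (hSn hC))
    refine hTne (eq_bot_iff.mpr (hyp_le fun R hR α hα hcop x hx => hbot hR (fun α hα hcop => ?_) α hα hcop x hx))
    have hdiff : ∀ y ∈ R, y⁻¹ * autFun α y ∈ C := fun y hy => hTC (hyp_gen hR hα hcop hy)
    have hfixC : ∀ y ∈ R, y ∈ C → autFun α y = y := by
      intro c hcR hcC
      by_contra hne
      have hc1 : c ≠ 1 := by
        rintro rfl
        apply hne
        rw [autFun_of_mem α R.one_mem]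
        exact congrArg Subtype.val (map_one α)
      have hzle : Subgroup.zpowers c ≤ C := Subgroup.zpowers_le.mpr hcC
      have hzc : Subgroup.zpowers c = C := by
        refine eq_of_le_of_card hCS hzle (le_of_eq ?_)
        have hdvd : Nat.card (Subgroup.zpowers c) ∣ p := hCp ▸ Subgroup.card_dvd_of_le hzle
        rcases (Nat.dvd_prime hp.out).mp hdvd with h | h
        · rw [Nat.card_zpowers] at h
          exact absurd (orderOf_eq_one_iff.mp h) hc1
        · rw [h, hCp]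
      have hCR : C ≤ R := hzc ▸ Subgroup.zpowers_le.mpr hcR
      have hαm := (isMor_autFun hR hα).restrict hCR
      have hCi : img C (autFun α) = C :=
        hαm.img_eq_self fun y hy => hcl hC _ _ hαm y hy hy
      obtain ⟨γ₀, hγ₀, hγ₀e⟩ := (isReceptive_iff.mp (isReceptive_of_centralized hS hF hfc)).2 C _ hαm hCi
      have hSn' : S ≤ nExt S C (autFun α) := by
        refine le_trans ?_ (centralizerIn_le_nExt _)
        intro s hs
        refine mem_centralizerIn.mpr ⟨hs, fun y hy => ?_⟩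
        -- a normal subgroup of order `p` is central
        obtain ⟨c', hc'C, hc'p, hc'Z⟩ := exists_central_prime hS hCS (hnorm hC)
          (fun e => by rw [e, Subgroup.card_bot] at hCp; exact hp.out.one_lt.ne hCp)
        have hgen : Subgroup.zpowers c' = C := eq_of_le_of_card hCS (Subgroup.zpowers_le.mpr hc'C)
          (by rw [Nat.card_zpowers, hc'p, hCp])
        obtain ⟨i, rfl⟩ := Subgroup.mem_zpowers_iff.mp (hgen.ge hy)
        refine cj_fixed_iff.mpr ?_
        exact ((show Commute c' s from cj_fixed_iff.mp (hc'Z s hs)).zpow_left i).symm.eq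
      obtain ⟨γ, hγ, hγe⟩ := exists_aut (hγ₀.restrict hSn') ((hγ₀.restrict hSn').img_eq_self
        fun y hy => hγ₀.mem (hSn' hy))
      have := finite_mulAut (P := S) le_rfl
      obtain ⟨a, ha⟩ := exists_coprime_pow (p := p) γ
      have hab : ∀ y ∈ S, y⁻¹ * autFun (γ ^ p ^ a) y ∈ C := fun y hy =>
        hTC (hyp_gen le_rfl ((F.autGroup S).pow_mem hγ _) ha hy)
      -- an invariant normal subgroup of order `d`
      obtain ⟨X, hCX, hXS, hXd, hXn⟩ : ∃ X : Subgroup Ω, C ≤ X ∧ X ≤ S ∧ Nat.card X = d ∧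
          S ≤ Subgroup.normalizer (X : Set Ω) := exists_normal_between (m := k) hS hCS (hnorm hC) (by rw [hCp]; exact hpd) hdS.le
      have h1 := hfix S X le_rfl hXS hXd hXn _ ((F.autGroup S).pow_mem hγ _) ha fun y hy => by
        have := X.mul_mem hy (hCX (hab y (hXS hy)))
        rwa [mul_inv_cancel_left] at this
      obtain ⟨i, hi⟩ := (Subgroup.mem_zpowers_iff).mp (hzc.ge (hαm.img_eq_self (fun y hy => hcl hC _ _ hαm y hy hy) ▸ mem_img_of_mem _ hcC : autFun α c ∈ C))
      have hγc : ∀ m : ℕ, autFun (γ ^ m) c = c ^ (i ^ m) := by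
        intro m
        induction m with
        | zero => rw [pow_zero, autFun_one (hCS hcC), pow_zero, zpow_one]
        | succ m ihm =>
          rw [pow_succ', autFun_mul _ _ (hCS hcC), ihm, hγe _ (zpow_mem (hCS hcC) _),
            hγ₀e _ (zpow_mem hcC _), hαm.map_zpow hcC, ← hi, ← zpow_mul, pow_succ']
      have h2 := hγc (p ^ a)
      rw [h1, autFun_one (hCS hcC)] at h2
      have hoc : orderOf c = p := by rw [← Nat.card_zpowers, hzc, hCp]
      have h3 : ((1 : ℤ) : ZMod p) = ((i ^ p ^ a : ℤ) : ZMod p) := by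
        rw [ZMod.intCast_eq_intCast_iff]
        have h4 : (1 : ℤ) ≡ i ^ p ^ a [ZMOD (orderOf c : ℤ)] :=
          zpow_eq_zpow_iff_modEq.mp (by rw [zpow_one]; exact h2)
        rwa [hoc] at h4
      rw [Int.cast_pow, ZMod.pow_card_pow, ZMod.intCast_eq_intCast_iff] at h3
      refine hne (hi.symm.trans ?_)
      conv_rhs => rw [← zpow_one c]
      exact (zpow_eq_zpow_iff_modEq.mpr (hoc.symm ▸ h3)).symm
    refine autFun_inj fun y hy => ?_
    rw [autFun_one hy]
    let W : ℕ → Subgroup Ω := fun i => if i = 0 then ⊥ else if i = 1 then C else S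
    refine fix_of_stabilizing hS hR le_rfl hcop 2 W (by simp [W]) (by simpa [W] using hR)
      (fun z hz => autFun_mem α hz) (fun i hi z hz hzW => ?_) y hy
    interval_cases i
    · simp only [W, zero_add, one_ne_zero, if_false, if_true] at hzW ⊢
      rw [hfixC z hz hzW, inv_mul_cancel]
      exact one_mem _
    · simp only [W, one_ne_zero, if_false, if_true]
      exact hdiff z hz
  -- every nontrivial strongly closed subgroup contains one of order less than `d`
  have hsmall : ∀ P, F.StronglyClosed P → P ≠ ⊥ → T ≤ P := by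
    intro P hP hPne
    by_contra hTP
    -- a strongly closed subgroup minimal inside `P`
    obtain ⟨K, ⟨hK, hKne, hKP⟩, hKmin'⟩ := Set.Finite.exists_minimalFor
      (fun K : Subgroup Ω => Nat.card K)
      {K : Subgroup Ω | F.StronglyClosed K ∧ K ≠ ⊥ ∧ K ≤ P}
      ((finite_subgroups_le (S := S)).subset fun K hK => hK.1.1) ⟨P, hP, hPne, le_rfl⟩
    have hKS := hK.1
    have : Finite K := finite_of_le hKS
    have hmin : ∀ X, F.StronglyClosed X → X ≠ ⊥ → X ≤ K → X = K := fun X hX hne hle =>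
      eq_of_le_of_card hKS hle (hKmin' ⟨hX, hne, hle.trans hKP⟩ (Subgroup.card_le_of_le hle))
    have hKd : ¬ Nat.card K < d := fun h => hTP ((hstep K hK hKne h).trans hKP)
    have hinter : ∀ Q R : Subgroup Ω, Q ≤ K → Q ≠ ⊥ → Q ≠ K → F.StronglyClosed R →
        F.StronglyClosed (Q ⊔ R) → F.StronglyClosed (Q ⊓ R) → False := by
      intro Q R hQK hQne hQK' hR hQR hQiR
      by_cases h : R ⊓ K = ⊥
      · have : (Q ⊔ R) ⊓ K = Q := by
          refine le_antisymm (fun y hy => ?_) (le_inf le_sup_left hQK)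
          have hy' : y ∈ ((Q ⊔ R : Subgroup Ω) : Set Ω) := hy.1
          rw [Subgroup.coe_mul_of_left_le_normalizer_right Q R (fun q hq =>
            (mem_normalizerIn.mp ((hSn hR).ge (hKS (hQK hq)))).2)] at hy'
          obtain ⟨q, hq, r, hr, rfl⟩ := hy'
          have : r ∈ R ⊓ K := ⟨hr, by
            have := K.mul_mem (K.inv_mem (hQK hq)) hy.2
            rwa [inv_mul_cancel_left] at this⟩
          rw [h, Subgroup.mem_bot] at this
          subst this
          show q * 1 ∈ Q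
          rw [mul_one]
          exact hq
        exact hQK' (hmin Q (this ▸ stronglyClosed_inf hQR hK) hQne hQK)
      · have hKR : K ≤ R := (hmin _ (stronglyClosed_inf hR hK) h inf_le_right).ge.trans inf_le_left
        rw [inf_eq_left.mpr (hQK.trans hKR)] at hQiR
        exact hQK' (hmin Q hQiR hQne hQK)
    rcases (Nat.le_of_not_lt hKd).lt_or_eq with hlt | heq
    · obtain ⟨Q, -, hQK, hQd⟩ := exists_subgroup_between (isPGroup_of_le hKS hS) (bot_le : ⊥ ≤ K)
        (by rw [Subgroup.card_bot]; exact hd1.le) hlt.le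
      obtain ⟨R, hR, hQR, hQiR⟩ := hW Q (hQK.trans hKS) hQd
      refine hinter Q R hQK (fun e => ?_) (fun e => hlt.ne (e ▸ hQd).symm) hR hQR hQiR
      rw [e, Subgroup.card_bot] at hQd
      exact hd1.ne hQd
    -- `K` has order `d`; `Q` meets it in a proper nontrivial subgroup
    have hcase : ∀ Q : Subgroup Ω, Q ≤ S → Nat.card Q = d → Q ⊓ K ≠ ⊥ → Q ≠ K →
        ∃ R, F.StronglyClosed R ∧ R ≠ ⊥ ∧ R ⊓ K = ⊥ ∧ K ≤ Q ⊔ R := by
      intro Q hQ hQd hne hne'
      have hne2 : Q ⊓ K ≠ K := fun e => hne' (eq_of_le_of_card hQ (inf_eq_right.mp e) (by rw [hQd, heq])).symm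
      obtain ⟨R, hR, hQR, hQiR⟩ := hW Q hQ hQd
      have h : R ⊓ K = ⊥ := by
        by_contra h
        have hKR : K ≤ R := (hmin _ (stronglyClosed_inf hR hK) h inf_le_right).ge.trans inf_le_left
        have := stronglyClosed_inf hQiR hK
        rw [inf_assoc, inf_eq_right.mpr hKR] at this
        exact hne2 (hmin _ this hne inf_le_right)
      have hKQ : K ≤ Q ⊔ R := by
        refine le_trans (hmin _ (stronglyClosed_inf hQR hK) ?_ inf_le_right).ge inf_le_left
        exact fun e => hne (le_bot_iff.mp (e ▸ inf_le_inf_right K le_sup_left))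
      refine ⟨R, hR, fun e => hne2 ?_, h, hKQ⟩
      rw [e, sup_bot_eq] at hKQ
      exact inf_eq_right.mpr hKQ
    obtain ⟨b, hb⟩ := IsPGroup.iff_card.mp hS
    have hkb : k < b := (Nat.pow_lt_pow_iff_right hp.out.one_lt).mp (hb ▸ hdS)
    obtain ⟨L, hKL, hLS, hLd⟩ := exists_subgroup_between (m := k + 1) hS hKS
      (heq ▸ Nat.pow_le_pow_right hp.out.pos (Nat.le_succ k))
      (hb ▸ Nat.pow_le_pow_right hp.out.pos hkb)
    have : Finite L := finite_of_le hLS
    have hKL' : K < L := lt_of_le_of_ne hKL fun e => by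
      rw [e, hLd] at heq
      exact absurd (Nat.pow_right_injective hp.out.two_le heq) (by omega)
    obtain ⟨x, hxL, hxK⟩ := SetLike.exists_of_lt hKL'
    have hxne : Subgroup.zpowers x ≠ L := by
      intro e
      have hcyc : IsCyclic L := e ▸ Subgroup.isCyclic_zpowers x
      have hKcyc : IsCyclic K :=
        isCyclic_of_injective (Subgroup.inclusion hKL) (Subgroup.inclusion_injective hKL)
      have hKn : K ≠ ⊥ := hKne
      obtain ⟨C, -, hCK, hCp⟩ := exists_subgroup_between (m := 1) (isPGroup_of_le hKS hS) (bot_le : ⊥ ≤ K)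
        (by rw [Subgroup.card_bot, pow_one]; exact hp.out.one_le) (by rw [pow_one, ← heq]; exact hpd)
      refine hp1 C (stronglyClosed_iff.mpr ⟨hCK.trans hKS, fun P' f hf y hy hyC => ?_⟩) (by rw [hCp, pow_one])
      -- `C` is the set of elements of `K` of order dividing `p`
      have hfy : f y ∈ K := hcl hK P' f hf y hy (hCK hyC)
      have : Finite C := finite_of_le hCK
      have hpow : f y ^ p = 1 := by
        have h1 : (⟨y, hyC⟩ : C) ^ p = 1 := by
          rw [show p = Nat.card C by rw [hCp, pow_one]]; exact pow_card_eq_one'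
        have h2 : y ^ p = 1 := congrArg Subtype.val h1
        rw [← hf.map_pow hy, h2, hf.map_one]
      by_contra hfC
      have hle : Subgroup.zpowers (f y) ≤ K := Subgroup.zpowers_le.mpr hfy
      have ho : orderOf (f y) = p := orderOf_eq_prime hpow fun e => hfC (e ▸ C.one_mem)
      have heq' : (Subgroup.zpowers (f y)).subgroupOf K = C.subgroupOf K := by
        have : IsCyclic (⊤ : Subgroup K) := Subgroup.topEquiv.isCyclic.mpr hKcyc
        refine CfsgLib.OddOrder.eq_of_card_eq_of_isCyclic (C := ⊤) le_top le_top ?_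
        rw [Nat.card_congr (Subgroup.subgroupOfEquivOfLe hle).toEquiv,
          Nat.card_congr (Subgroup.subgroupOfEquivOfLe hCK).toEquiv, Nat.card_zpowers, ho, hCp, pow_one]
      have hm : (⟨f y, hfy⟩ : K) ∈ (Subgroup.zpowers (f y)).subgroupOf K := Subgroup.mem_zpowers (f y)
      exact hfC (Subgroup.mem_subgroupOf.mp (heq'.le hm))
    have : Finite (Subgroup.zpowers x) := finite_of_le (Subgroup.zpowers_le.mpr (hLS hxL))
    obtain ⟨Q, hxQ, hQL, hQd⟩ := exists_subgroup_between (m := k) (isPGroup_of_le hLS hS)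
      (Subgroup.zpowers_le.mpr hxL) (by
        have hlt' := card_lt_of_lt hLS (lt_of_le_of_ne (Subgroup.zpowers_le.mpr hxL) hxne)
        obtain ⟨a, ha⟩ := IsPGroup.iff_card.mp
          (isPGroup_of_le (Subgroup.zpowers_le.mpr (hLS hxL)) hS)
        rw [ha, hLd] at hlt'
        rw [ha]
        exact Nat.pow_le_pow_right hp.out.pos
          (Nat.lt_succ_iff.mp ((Nat.pow_lt_pow_iff_right hp.out.one_lt).mp hlt')))
      (hLd ▸ Nat.pow_le_pow_right hp.out.pos (Nat.le_succ k))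
    have hQK : Q ⊓ K ≠ ⊥ := by
      intro e
      have := card_mul_le_of_inf_bot hQL hKL e
      rw [hQd, ← heq, hLd, pow_succ, ← hd] at this
      have h2 : p < d := hpd.lt_of_ne fun e' => hp1 K hK (heq.symm.trans e'.symm)
      exact absurd this (not_le.mpr (Nat.mul_lt_mul_of_pos_left h2 (Nat.lt_trans Nat.zero_lt_one hd1)))
    obtain ⟨R, hR, hRne, hRK, -⟩ := hcase Q (hQL.trans hLS) hQd hQK fun e =>
      hxK (e ▸ hxQ (Subgroup.mem_zpowers x))
    -- a central element of order `p` outside `K`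
    obtain ⟨c, hcR, hcp, hcZ⟩ := exists_central_prime hS hR.1 (hnorm hR) hRne
    have hcS : c ∈ S := hR.1 hcR
    refine hTne (hnormal K (isNormal_of_abelian hS hF hK ?_) heq.symm)
    by_contra hab
    push Not at hab
    obtain ⟨y₁, hy₁, y₂, hy₂, hne⟩ := hab
    set Z := centralizerIn K K with hZ
    have hy₁Z : y₁ ∉ Z := fun h => hne (cj_fixed_iff.mp ((mem_centralizerIn.mp h).2 y₂ hy₂))
    have hZK : Z < K := lt_of_le_not_ge centralizerIn_le fun h => hy₁Z (h hy₁)
    have hZcard := card_lt_of_lt hKS hZK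
    have : Finite Z := finite_of_le (hZK.le.trans hKS)
    obtain ⟨z0, hz0⟩ := IsPGroup.iff_card.mp (isPGroup_of_le (hZK.le.trans hKS) hS)
    rw [hz0, ← heq] at hZcard
    have hz0k : z0 < k := (Nat.pow_lt_pow_iff_right hp.out.one_lt).mp hZcard
    obtain ⟨M, hZM, hMK, hMd⟩ := exists_subgroup_between (m := k - 1) (isPGroup_of_le hKS hS) hZK.le
      (hz0 ▸ Nat.pow_le_pow_right hp.out.pos (by omega))
      (heq ▸ Nat.pow_le_pow_right hp.out.pos (Nat.sub_le k 1))
    have hMS := hMK.trans hKS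
    have hcM : ∀ m ∈ M, c * m = m * c := fun m hm => cj_fixed_iff.mp (hcZ m (hMS hm))
    have hcK : c ∉ K := fun h => by
      have h' : c ∈ R ⊓ K := ⟨hcR, h⟩
      rw [hRK, Subgroup.mem_bot] at h'
      rw [h', orderOf_one] at hcp
      exact hp.out.one_lt.ne hcp
    obtain ⟨Q', hQ'S, hQ'd, hMQ', hcQ', hQ'e⟩ : ∃ Q' : Subgroup Ω, Q' ≤ S ∧ Nat.card Q' = d ∧
        M ≤ Q' ∧ c ∈ Q' ∧ ∀ q ∈ Q', ∃ m ∈ M, ∃ i : ℤ, q = m * c ^ i := by
      set C := Subgroup.zpowers c
      have hnc : M ≤ Subgroup.normalizer (C : Set Ω) := fun m hm => by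
        refine Subgroup.mem_normalizer_iff.mpr fun z => ?_
        have hcom : ∀ z ∈ C, m * z = z * m := by
          rintro _ ⟨i, rfl⟩
          exact ((show Commute c m from hcM m hm).zpow_left i).symm.eq
        constructor
        · intro hz
          rwa [hcom z hz, mul_inv_cancel_right]
        · intro hz
          have h := hcom _ hz
          rw [inv_mul_cancel_right] at h
          rwa [mul_left_cancel h] at hz
      have hMS' : M ⊔ C ≤ S := sup_le hMS (Subgroup.zpowers_le.mpr hcS)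
      have : Finite ↥(M ⊔ C) := finite_of_le hMS'
      have hdis : M ⊓ C = ⊥ := by
        rw [eq_bot_iff]
        rintro z ⟨hzM, hzC⟩
        by_contra hz1
        have hz' : z ≠ 1 := fun e => hz1 (Subgroup.mem_bot.mpr e)
        have hzle : Subgroup.zpowers z ≤ C := Subgroup.zpowers_le.mpr hzC
        have hzc : orderOf z = p := ((Nat.dvd_prime hp.out).mp (by
          have := Subgroup.card_dvd_of_le hzle
          rwa [Nat.card_zpowers, Nat.card_zpowers, hcp] at this)).resolve_left fun e =>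
            hz' (orderOf_eq_one_iff.mp e)
        have := eq_of_le_of_card (Subgroup.zpowers_le.mpr hcS) hzle
          (by rw [Nat.card_zpowers, Nat.card_zpowers, hcp, hzc])
        exact hcK (hMK (Subgroup.zpowers_le.mpr hzM (this ▸ Subgroup.mem_zpowers c)))
      have hform : ∀ q ∈ M ⊔ C, ∃ m ∈ M, ∃ i : ℤ, q = m * c ^ i := by
        intro q hq
        have hq' : q ∈ ((M ⊔ C : Subgroup Ω) : Set Ω) := hq
        rw [Subgroup.coe_mul_of_left_le_normalizer_right M C hnc] at hq'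
        obtain ⟨m, hm, w, ⟨i, rfl⟩, rfl⟩ := hq'
        exact ⟨m, hm, i, rfl⟩
      refine ⟨M ⊔ C, hMS', ?_, le_sup_left, Subgroup.mem_sup_right (Subgroup.mem_zpowers c), hform⟩
      refine le_antisymm ?_ ?_
      · have : Finite M := finite_of_le hMS
        have : Finite C := finite_of_le (Subgroup.zpowers_le.mpr hcS)
        calc Nat.card ↥(M ⊔ C) ≤ Nat.card (M × C) := Nat.card_le_card_of_surjective
              (fun x : M × C => (⟨x.1 * x.2, Subgroup.mul_mem_sup x.1.2 x.2.2⟩ : ↥(M ⊔ C))) (by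
              rintro ⟨q, hq⟩
              obtain ⟨m, hm, i, rfl⟩ := hform q hq
              exact ⟨⟨⟨m, hm⟩, ⟨c ^ i, i, rfl⟩⟩, rfl⟩)
          _ = p ^ (k - 1) * p := by rw [Nat.card_prod, hMd, Nat.card_zpowers, hcp]
          _ = d := by rw [← pow_succ, Nat.sub_add_cancel (by omega)]
      · have := card_mul_le_of_inf_bot (le_sup_left : M ≤ M ⊔ C) le_sup_right hdis
        rw [hMd, Nat.card_zpowers, hcp, ← pow_succ, Nat.sub_add_cancel (by omega)] at this
        exact this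
    have hMne : M ≠ ⊥ := fun e => by
      rw [e, Subgroup.card_bot] at hMd
      have h2 : p < d := hpd.lt_of_ne fun e' => hp1 K hK (heq.symm.trans e'.symm)
      have hk1 : k - 1 = 0 := by
        rcases Nat.pow_eq_one.mp hMd.symm with h | h
        · exact absurd h hp.out.one_lt.ne'
        · exact h
      rw [hd, show k = 1 by omega, pow_one] at h2
      exact lt_irrefl _ h2
    obtain ⟨R', hR', -, hR'K, hKQ⟩ := hcase Q' hQ'S hQ'd
      (fun e => hMne (le_bot_iff.mp (e ▸ le_inf hMQ' hMK))) (fun e => hcK (e ▸ hcQ'))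
    have hR'S : ∀ z ∈ R', ∀ y ∈ K, z * y = y * z := by
      intro z hz y hy
      have h1 : z * y * z⁻¹ * y⁻¹ ∈ R' ⊓ K :=
        ⟨by rw [mul_assoc, mul_assoc, ← mul_assoc y z⁻¹ y⁻¹]
            exact R'.mul_mem hz (hnorm hR' y (hKS hy) _ (R'.inv_mem hz)),
          K.mul_mem (hnorm hK z (hR'.1 hz) y hy) (K.inv_mem hy)⟩
      rw [hR'K, Subgroup.mem_bot] at h1
      exact mul_inv_eq_iff_eq_mul.mp (mul_inv_eq_one.mp h1)
    have hMne' : M ≠ K := fun e => by
      rw [e] at hMd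
      rw [← heq, hd] at hMd
      have := Nat.pow_right_injective hp.out.two_le hMd
      omega
    obtain ⟨y, hy, hyM⟩ := SetLike.exists_of_lt (lt_of_le_of_ne hMK hMne')
    -- `y` agrees with an element of `M` up to something centralizing `K`
    have hyq : y ∈ ((Q' ⊔ R' : Subgroup Ω) : Set Ω) := hKQ hy
    rw [Subgroup.coe_mul_of_left_le_normalizer_right Q' R' (fun q hq =>
      (mem_normalizerIn.mp ((hSn hR').ge (hQ'S hq))).2)] at hyq
    obtain ⟨q, hq, z, hz, hqz⟩ := hyq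
    obtain ⟨m, hm, i, rfl⟩ := hQ'e q hq
    set w := m⁻¹ * y with hw
    have hwK : w ∈ K := K.mul_mem (K.inv_mem (hMK hm)) hy
    have hwZ : w ∈ Z := by
      refine mem_centralizerIn.mpr ⟨hwK, fun u hu => cj_fixed_iff.mpr ?_⟩
      have e : w = c ^ i * z := by rw [hw, ← hqz]; simp [mul_assoc]
      rw [e, mul_assoc, hR'S z hz u hu, ← mul_assoc,
        ((show Commute c u from cj_fixed_iff.mp (hcZ u (hKS hu))).zpow_left i).eq, mul_assoc]
    exact hyM (by
      have := M.mul_mem hm (hZM hwZ)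
      rwa [hw, mul_inv_cancel_left] at this)
  -- `T` is contained in the Frattini subgroup
  have hTS : T ≤ S := hyp_le_top
  have hTp : p * p ≤ Nat.card T := by
    have : Finite T := finite_of_le hTS
    obtain ⟨t, ht⟩ := IsPGroup.iff_card.mp (isPGroup_of_le hTS hS)
    rcases t with _ | _ | t
    · exact absurd (Subgroup.card_eq_one.mp ht) hTne
    · exact absurd (ht.trans (pow_one p)) (hp1 T hTc)
    · rw [ht, pow_succ, pow_succ, mul_assoc]
      exact Nat.le_mul_of_pos_left _ (pow_pos hp.out.pos t)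
  have hTφ : T ≤ (frattini S).map S.subtype := by
    intro x hx
    refine ⟨⟨x, hTS hx⟩, ?_, rfl⟩
    refine CfsgLib.PGroups.mem_frattini_iff.mpr fun M hM => ?_
    by_contra hxM
    set M' := M.map S.subtype with hM'
    have hM'S : M' ≤ S := Subgroup.map_subtype_le _
    have hcM : Nat.card M' = Nat.card M := Subgroup.card_map_of_injective S.subtype_injective
    have hxM' : x ∉ M' := fun ⟨y, hy, e⟩ => hxM ((Subtype.ext e : y = ⟨x, hTS hx⟩) ▸ hy)
    have : Finite M' := finite_of_le hM'S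
    obtain ⟨b, hb⟩ := IsPGroup.iff_card.mp hS
    obtain ⟨a, ha⟩ := IsPGroup.iff_card.mp (isPGroup_of_le hM'S hS)
    have hkb : k < b := (Nat.pow_lt_pow_iff_right hp.out.one_lt).mp (hb ▸ hdS)
    have hab : a + 1 = b := by
      have h1 := Subgroup.card_mul_index M
      rw [CfsgLib.PGroups.index_eq_of_isCoatom hS hM, hb, ← hcM, ha, ← pow_succ] at h1
      exact Nat.pow_right_injective hp.out.two_le h1
    have hdM : d ≤ Nat.card M' := ha ▸ Nat.pow_le_pow_right hp.out.pos (by omega)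
    have hne : T ⊓ M' ≠ ⊥ := fun e => by
      have := card_mul_le_of_inf_bot hTS hM'S e
      rw [ha, hb, ← hab, pow_succ'] at this
      have h2 := Nat.le_of_mul_le_mul_right this (pow_pos hp.out.pos a)
      have h3 := hp.out.two_le
      nlinarith
    obtain ⟨y, ⟨hyT, hyM⟩, hy1⟩ := (Subgroup.bot_or_exists_ne_one (T ⊓ M')).resolve_left hne
    obtain ⟨w, hwy, hwp⟩ := exists_pow_orderOf_prime (isPGroup_of_le hTS hS) hyT hy1
    obtain ⟨Q, hwQ, hQM, hQd⟩ := exists_subgroup_between (m := k) (isPGroup_of_le hM'S hS)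
      (Subgroup.zpowers_le.mpr (Subgroup.zpowers_le.mpr hyM hwy : w ∈ M'))
      (by rw [Nat.card_zpowers, hwp]; exact hpd) hdM
    have hwQ' : w ∈ Q := hwQ (Subgroup.mem_zpowers w)
    obtain ⟨R, hR, hQR, hQiR⟩ := hW Q (hQM.trans hM'S) hQd
    have hw1 : w ≠ 1 := fun e => by rw [e, orderOf_one] at hwp; exact hp.out.one_lt.ne hwp
    by_cases hRb : R = ⊥
    · rw [hRb, sup_bot_eq] at hQR
      refine hxM' (hQM (hsmall Q hQR (fun e => ?_) hx))
      exact hw1 (Subgroup.mem_bot.mp (e ▸ hwQ'))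
    · have hTR := hsmall R hR hRb
      have h2 := stronglyClosed_inf hQiR hTc
      have hwT : w ∈ T := Subgroup.zpowers_le.mpr hyT hwy
      have h3 := hsmall _ h2 (fun e => hw1 (Subgroup.mem_bot.mp
        (e ▸ ⟨⟨hwQ', hTR hwT⟩, hwT⟩)))
      exact hxM' (hQM (h3 hx).1.1)
  exact hTne (tate hS hF bot_le (fun s _ z hz => by rw [Subgroup.mem_bot] at hz; simp [hz, cj])
    (by rwa [bot_sup_eq]))

end CfsgLib.Fusion
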