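import Cfsg.Agent.Lib.Fusion.Transfer
import Cfsg.Agent.Lib.Fusion.NormalizerSaturated
import Cfsg.Agent.Lib.Fusion.Hyperfocal
import Cfsg.Agent.Lib.Transfer.YoshidaTransfer

/-!
# Yoshida's theorem for fusion systems

If `S` has no witness for Yoshida's transfer theorem then `N_F(S)` and `F` have the same focal
subgroup: the transfer along a characteristic biset of a homomorphism to `ℤ/p` stable under
`Aut_F(S)` is a power of that homomorphism on the focal subgroup.
-/

set_option autoImplicit false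
set_option linter.unusedSectionVars false
set_option linter.style.haveILetI false

namespace CfsgLib.Fusion

open Cfsg Cfsg.FusionSystem MulAction CfsgLib.Transfer

universe u

variable {p : ℕ} [hp : Fact p.Prime] {Ω : Type u} [Group Ω] {S : Subgroup Ω} [Finite S]
  {F : FusionSystem S}

local instance mulActionYoshida (B : CharBiset F p) : MulAction (S × S) B.X := B.act

attribute [local instance] TransferData.fin

namespace TransferData

variable {B : CharBiset F p} (D : TransferData B)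

/-- The action of `S` on the right orbits. -/
@[reducible] def orbitAction : MulAction S D.R where
  smul a i := D.sig a i
  one_smul i := (D.sig_one i).1
  mul_smul a b i := (D.sig_mul a b i).1

/-- A stabilizer of a right orbit maps by a map of the system. -/
theorem exists_map_of_fixed (i : D.R) :
    ∃ (P : Subgroup Ω) (f : Ω → Ω), IsMor F P f ∧
      ∀ y : S, D.sig y i = i → (y : Ω) ∈ P ∧ f y = (((D.pos y i)⁻¹ : S) : Ω) := by
  obtain ⟨P, f, hf, hK⟩ := B.inFam (D.r i)
  refine ⟨P, f, hf, fun y hy => (hK (y, (D.pos y i)⁻¹)).mp (mem_stabilizer_iff.mpr ?_)⟩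
  rw [show ((y, (D.pos y i)⁻¹) : S × S) = ((1 : S), (D.pos y i)⁻¹) * (y, 1) by simp, mul_smul,
    D.left_smul, hy, ← mul_smul]
  show ((1 : S) * 1, (D.pos y i)⁻¹ * D.pos y i) • D.r i = D.r i
  rw [mul_one, inv_mul_cancel]
  exact one_smul (S × S) _

variable (θ : S →* Multiplicative (ZMod p))

theorem pos_fixed_eq_one {n : ℕ}
    (ih : ∀ y : S, orderOf y < n → (y : Ω) ∈ F.focalSubgroup → θ y = 1) (i : D.R) (y : S)
    (hy : D.sig y i = i) (hyn : orderOf y < n) (hyF : (y : Ω) ∈ F.focalSubgroup) :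
    θ (D.pos y i) = 1 := by
  obtain ⟨P, f, hf, h⟩ := D.exists_map_of_fixed i
  obtain ⟨hyP, hfy⟩ := h y hy
  have hF : f y ∈ F.focalSubgroup := by
    simpa using mul_mem hyF (le_focal hf hyP)
  have ho : orderOf ((D.pos y i)⁻¹) = orderOf y := by
    rw [← Subgroup.orderOf_coe, ← hfy, hf.orderOf_eq hyP, Subgroup.orderOf_coe]
  have h1 := ih _ (ho ▸ hyn) (hfy ▸ hF)
  rwa [map_inv, inv_eq_one] at h1

theorem prod_cycle (x : S) (i : D.R) :
    ∀ m : ℕ, ∏ k ∈ Finset.range m, θ (D.pos x ((D.sig x)^[k] i)) = θ (D.pos (x ^ m) i) ∧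
      (D.sig x)^[m] i = D.sig (x ^ m) i := by
  intro m
  induction m with
  | zero => simp [(D.sig_one i).1, (D.sig_one i).2]
  | succ m ih =>
    obtain ⟨h1, h2⟩ := D.sig_mul x (x ^ m) i
    rw [← pow_succ'] at h1 h2
    refine ⟨?_, by rw [Function.iterate_succ_apply', ih.2, h1]⟩
    rw [Finset.prod_range_succ, ih.1, ih.2, h2, map_mul]

/-- The transfer only sees the fixed right orbits. -/
theorem prod_moved_eq_one {n : ℕ}
    (ih : ∀ y : S, orderOf y < n → (y : Ω) ∈ F.focalSubgroup → θ y = 1) (x : S)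
    (hn : orderOf x = n) (hxF : (x : Ω) ∈ F.focalSubgroup) (T : Finset D.R)
    (hinv : ∀ i, i ∈ T ↔ D.sig x i ∈ T) (hmov : ∀ i ∈ T, D.sig x i ≠ i) :
    ∏ i ∈ T, θ (D.pos x i) = 1 := by
  classical
  induction T using Finset.strongInduction with
  | _ T hT =>
  rcases T.eq_empty_or_nonempty with rfl | ⟨i, hi⟩
  · simp
  set σ := D.sig x
  have hper : i ∈ Function.periodicPts σ := by
    refine Function.mk_mem_periodicPts (orderOf_pos x) ?_
    show σ^[orderOf x] i = i
    rw [(D.prod_cycle θ x i _).2, pow_orderOf_eq_one, (D.sig_one i).1]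
  set m := Function.minimalPeriod σ i with hm
  have hm0 : 0 < m := Function.minimalPeriod_pos_of_mem_periodicPts hper
  have hmi : σ^[m] i = i := Function.iterate_minimalPeriod
  have hm1 : 1 < m := by
    by_contra h
    have h1 : m = 1 := by omega
    rw [h1, Function.iterate_one] at hmi
    exact hmov i hi hmi
  have hmd : m ∣ orderOf x := Function.IsPeriodicPt.minimalPeriod_dvd (by
    show σ^[orderOf x] i = i
    rw [(D.prod_cycle θ x i _).2, pow_orderOf_eq_one, (D.sig_one i).1])
  set C := (Finset.range m).image (fun k => σ^[k] i) with hC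
  have hinj : Set.InjOn (fun k => σ^[k] i) (Finset.range m : Finset ℕ) := by
    intro a ha b hb h
    simp only [Finset.coe_range, Set.mem_Iio] at ha hb
    exact Function.iterate_injOn_Iio_minimalPeriod ha hb h
  have hCT : C ⊆ T := by
    intro j hj
    obtain ⟨k, -, rfl⟩ := Finset.mem_image.mp hj
    clear hj
    induction k with
    | zero => exact hi
    | succ k ihk => rw [Function.iterate_succ_apply']; exact (hinv _).mp ihk
  have hCinv : ∀ j, j ∈ C ↔ σ j ∈ C := by
    intro j
    simp only [hC, Finset.mem_image, Finset.mem_range]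
    constructor
    · rintro ⟨k, hk, rfl⟩
      refine ⟨(k + 1) % m, Nat.mod_lt _ hm0, ?_⟩
      rw [hm, Function.iterate_mod_minimalPeriod_eq, Function.iterate_succ_apply']
    · rintro ⟨k, hk, h⟩
      refine ⟨(k + (m - 1)) % m, Nat.mod_lt _ hm0, ?_⟩
      apply (D.perm x).injective
      show σ (σ^[(k + (m - 1)) % m] i) = σ j
      rw [← h, hm, Function.iterate_mod_minimalPeriod_eq, ← Function.iterate_succ_apply' σ, ← hm,
        show (k + (m - 1)).succ = k + m by omega, Function.iterate_add_apply, hmi]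
  rw [← Finset.prod_sdiff hCT, hT (T \ C) (Finset.sdiff_ssubset hCT ⟨i, Finset.mem_image.mpr
    ⟨0, Finset.mem_range.mpr hm0, rfl⟩⟩)
    (fun j => by simp only [Finset.mem_sdiff]; rw [hinv j, hCinv j])
    (fun j hj => hmov j (Finset.mem_sdiff.mp hj).1), one_mul, hC, Finset.prod_image hinj,
    (D.prod_cycle θ x i m).1]
  refine D.pos_fixed_eq_one θ ih i _ ?_ ?_ ?_
  · rw [← (D.prod_cycle θ x i m).2]; exact hmi
  · rw [orderOf_pow, Nat.gcd_eq_right hmd, ← hn]
    exact Nat.div_lt_self (orderOf_pos x) hm1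
  · rw [Subgroup.coe_pow]; exact pow_mem hxF m

/-- The transfer of a stable homomorphism at a focal element of least order. -/
theorem transfer_eq_pow_fixed (hS : IsPGroup p S) (hnw : NoWitness p (⊤ : Subgroup S))
    (hθ : ∀ f : Ω → Ω, IsMor F S f → ∀ y y' : S, (y' : Ω) = f y → θ y' = θ y) {n : ℕ}
    (ih : ∀ y : S, orderOf y < n → (y : Ω) ∈ F.focalSubgroup → θ y = 1) (x : S)
    (hn : orderOf x = n) (hxF : (x : Ω) ∈ F.focalSubgroup) :
    D.transfer θ x = ((θ x)⁻¹) ^ Nat.card {i : D.R // ∀ a : S, D.sig a i = i} := by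
  classical
  letI := D.orbitAction
  have hsm : ∀ (a : S) (i : D.R), a • i = D.sig a i := fun _ _ => rfl
  let v : D.R → Multiplicative (ZMod p) := fun i =>
    if D.sig x i = i then θ (D.pos x i) else 1
  have hV : D.transfer θ x = ∏ i, v i := by
    rw [transfer_apply, ← Finset.prod_filter_mul_prod_filter_not Finset.univ
      (fun i => D.sig x i = i) (fun i => θ (D.pos x i)), D.prod_moved_eq_one θ ih x hn hxF
      (Finset.univ.filter fun i => ¬ D.sig x i = i) (fun i => ?_)
      (fun i hi => (Finset.mem_filter.mp hi).2), mul_one, Finset.prod_filter]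
    simp only [Finset.mem_filter, Finset.mem_univ, true_and]
    exact ⟨fun h h' => h ((D.perm x).injective h'), fun h h' => h (congrArg (D.sig x) h')⟩
  rw [hV]
  -- the values at fixed orbits
  have hfix : ∀ i, (∀ a : S, D.sig a i = i) → v i = (θ x)⁻¹ := by
    intro i hi
    obtain ⟨P, f, hf, h⟩ := D.exists_map_of_fixed i
    have hSP : S ≤ P := fun s hs => (h ⟨s, hs⟩ (hi _)).1
    have h1 := hθ f (hf.restrict hSP) x (D.pos x i)⁻¹ (h x (hi x)).2.symm
    rw [map_inv, inv_eq_iff_eq_inv] at h1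
    show (if D.sig x i = i then θ (D.pos x i) else 1) = _
    rw [if_pos (hi x), h1]
  let F₀ := Finset.univ.filter fun i : D.R => ∀ a : S, D.sig a i = i
  rw [← Finset.prod_filter_mul_prod_filter_not Finset.univ (fun i => ∀ a : S, D.sig a i = i) v,
    Finset.prod_congr rfl (fun i hi => hfix i (Finset.mem_filter.mp hi).2), Finset.prod_const,
    Nat.card_eq_fintype_card, Fintype.card_subtype]
  refine mul_eq_left.mpr ?_
  -- the other orbits
  let c : D.R → Quotient (orbitRel S D.R) := Quotient.mk''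
  rw [← Finset.prod_fiberwise_of_maps_to (t := Finset.univ) (g := c) (fun q _ => Finset.mem_univ _)]
  refine Finset.prod_eq_one fun o _ => ?_
  rw [Finset.filter_filter]
  by_cases hex : ∃ i₀, c i₀ = o ∧ ¬ (∀ a : S, D.sig a i₀ = i₀) ∧ D.sig x i₀ = i₀
  swap
  · refine Finset.prod_eq_one fun i hi => ?_
    obtain ⟨-, h1, h2⟩ := Finset.mem_filter.mp hi
    show (if D.sig x i = i then θ (D.pos x i) else 1) = 1
    exact if_neg fun h => hex ⟨i, h2, h1, h⟩
  obtain ⟨i₀, hi₀, hnf, hx₀⟩ := hex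
  set J := stabilizer S i₀ with hJ
  haveI : Fintype (S ⧸ J) := Fintype.ofFinite _
  have hJtop : J ≠ ⊤ := fun h => hnf fun a => (h ▸ Subgroup.mem_top a : a ∈ J)
  let χ : J →* Multiplicative (ZMod p) :=
    MonoidHom.mk' (fun a => θ (D.pos (a : S) i₀)) fun a b => by
      rw [Subgroup.coe_mul, (D.sig_mul _ _ i₀).2, show D.sig (b : S) i₀ = i₀ from b.2, map_mul,
        mul_comm]
  have hconjF : ∀ (g y : S), (y : Ω) ∈ F.focalSubgroup → ((g⁻¹ * y * g : S) : Ω) ∈ F.focalSubgroup := by
    intro g y hy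
    have h1 := mul_mem hy (le_focal (isMor_cj F le_rfl (S.inv_mem g.2)) y.2)
    simpa [cj, mul_assoc] using h1
  have key := prod_fixedVal_eq_one hS ⊤ J hJtop (by simp) hnw χ (x := x) hx₀ fun k hk hdvd g h => by
    refine D.pos_fixed_eq_one θ ih i₀ _ h ?_ (hconjF g _ (by rw [Subgroup.coe_pow]; exact pow_mem hxF k))
    rw [show orderOf (g⁻¹ * x ^ k * g) = orderOf (x ^ k) from
      (SemiconjBy.orderOf_eq g (by show g * (g⁻¹ * x ^ k * g) = x ^ k * g; group)),
      orderOf_pow, Nat.gcd_eq_right hdvd, ← hn]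
    exact Nat.div_lt_self (orderOf_pos x) hk
  rw [← key]
  symm
  refine Finset.prod_bij (fun q _ => (q.out : S) • i₀) (fun q _ => ?_) (fun a _ b _ h => ?_)
    (fun j hj => ?_) (fun q _ => ?_)
  · refine Finset.mem_filter.mpr ⟨Finset.mem_univ _, fun hall => hnf fun a => ?_, ?_⟩
    · show a • i₀ = i₀
      have h1 : i₀ = (q.out : S) • i₀ := by
        conv_lhs => rw [← inv_smul_smul (q.out : S) i₀]
        exact hall _
      rw [h1]; exact hall a
    · rw [← hi₀]; exact Quotient.sound' ⟨q.out, rfl⟩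
  · rw [← QuotientGroup.out_eq' a, ← QuotientGroup.out_eq' b, QuotientGroup.eq]
    show ((a.out : S)⁻¹ * b.out) • i₀ = i₀
    rw [mul_smul, ← show (a.out : S) • i₀ = (b.out : S) • i₀ from h, inv_smul_smul]
  · obtain ⟨u, hu⟩ := Quotient.eq''.1 ((Finset.mem_filter.mp hj).2.2.trans hi₀.symm)
    refine ⟨(u : S ⧸ J), Finset.mem_univ _, ?_⟩
    obtain ⟨b, hb⟩ := QuotientGroup.mk_out_eq_mul J u
    rw [hb, mul_smul, show (b : S) • i₀ = i₀ from b.2]
    exact hu
  · set g : S := q.out with hg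
    show fixedVal χ x q = (if D.sig x (g • i₀) = g • i₀ then θ (D.pos x (g • i₀)) else 1)
    have hiff : g⁻¹ * x * g ∈ J ↔ D.sig x (g • i₀) = g • i₀ := by
      show (g⁻¹ * x * g) • i₀ = i₀ ↔ x • g • i₀ = g • i₀
      rw [mul_smul, mul_smul, inv_smul_eq_iff]
    by_cases h : g⁻¹ * x * g ∈ J
    · rw [if_pos (hiff.mp h), show fixedVal χ x q = χ ⟨_, h⟩ from dif_pos h]
      show θ (D.pos (g⁻¹ * x * g) i₀) = _
      have e1 := (D.sig_mul g⁻¹ g i₀).2
      rw [inv_mul_cancel, (D.sig_one i₀).2] at e1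
      rw [(D.sig_mul (g⁻¹ * x) g i₀).2, (D.sig_mul g⁻¹ x (D.sig g i₀)).2,
        show D.sig x (D.sig g i₀) = D.sig g i₀ from hiff.mp h, map_mul, map_mul]
      have e2 : θ (D.pos g i₀) * θ (D.pos g⁻¹ (D.sig g i₀)) = 1 := by rw [← map_mul, ← e1, map_one]
      rw [mul_left_comm, e2, mul_one]
      rfl
    · rw [if_neg (fun h' => h (hiff.mpr h')), show fixedVal χ x q = 1 from dif_neg h]

end TransferData

/-- Without a witness a homomorphism to `ℤ/p` stable under `Aut_F(S)` kills the focal subgroup. -/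
theorem hom_eq_one_of_noWitness (hS : IsPGroup p S) (hF : F.IsSaturated p)
    (hnw : NoWitness p (⊤ : Subgroup S)) (θ : S →* Multiplicative (ZMod p))
    (hθ : ∀ f : Ω → Ω, IsMor F S f → ∀ y y' : S, (y' : Ω) = f y → θ y' = θ y) :
    ∀ x : S, (x : Ω) ∈ F.focalSubgroup → θ x = 1 := by
  classical
  obtain ⟨B⟩ := exists_charBiset hS hF
  obtain ⟨D⟩ := exists_transferData B
  suffices h : ∀ n, ∀ x : S, orderOf x = n → (x : Ω) ∈ F.focalSubgroup → θ x = 1 from
    fun x hx => h _ x rfl hx
  intro n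
  induction n using Nat.strong_induction_on with
  | _ n ih =>
  intro x hn hxF
  have h1 := D.transfer_eq_pow_fixed θ hS hnw hθ (fun y hy => ih _ hy y rfl) x hn hxF
  rw [D.transfer_eq_one_of_mem_focal θ hxF, inv_pow, eq_comm, inv_eq_one] at h1
  letI := D.orbitAction
  have hmod := IsPGroup.card_modEq_card_fixedPoints hS D.R
  rw [show Nat.card (fixedPoints S D.R) = Nat.card {i : D.R // ∀ a : S, D.sig a i = i} from rfl,
    Nat.card_eq_fintype_card (α := D.R), D.card_R] at hmod
  have hcop : (Nat.card {i : D.R // ∀ a : S, D.sig a i = i}).Coprime p :=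
    (hp.out.coprime_iff_not_dvd.mpr fun hd => B.not_dvd
      (Nat.modEq_zero_iff_dvd.mp (hmod.trans (Nat.modEq_zero_iff_dvd.mpr hd)))).symm
  refine orderOf_eq_one_iff.mp (Nat.eq_one_of_dvd_coprimes hcop (orderOf_dvd_of_pow_eq_one h1)
    (orderOf_dvd_of_pow_eq_one ?_))
  apply Multiplicative.toAdd.injective
  rw [toAdd_pow, toAdd_one, nsmul_eq_mul, ZMod.natCast_self, zero_mul]

theorem focalSubgroup_normalizer_eq (hS : IsPGroup p S) (hF : F.IsSaturated p)
    (hnw : NoWitness p (⊤ : Subgroup S)) {N : FusionSystem (normalizerIn S S)}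
    (hN : F.IsNormalizerSystem S N) : N.focalSubgroup = F.focalSubgroup := by
  classical
  have hNS : normalizerIn S S = S :=
    le_antisymm normalizerIn_le (le_normalizerIn le_rfl)
  haveI : Finite (normalizerIn S S) := finite_of_le normalizerIn_le
  have hNp : IsPGroup p (normalizerIn S S) := isPGroup_of_le normalizerIn_le hS
  have hNsat := normalizerSystem_isSaturated hS hF (isFullyNormalized_self F) hN
  have hcomm : ⁅normalizerIn S S, normalizerIn S S⁆ = ⁅S, S⁆ := by rw [hNS]
  set N₀ := N.hyperfocalSubgroup p with hN₀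
  have hN₀S : N₀ ≤ S := hyp_le_top.trans normalizerIn_le
  have hle : N₀ ≤ F.hyperfocalSubgroup p := hyp_le fun P hP α hα hc x hx =>
    hyp_gen (hP.trans normalizerIn_le) ((autGroup_eq_set (hP.trans normalizerIn_le) α).mpr
      ((isMor_normalizerSystem hN).mp (isMor_autFun hP hα)).1) hc hx
  have hconj : ∀ s ∈ S, ∀ z ∈ N₀, cj s z ∈ N₀ := fun s hs z hz =>
    hyp_conj_mem (hNS.ge hs) hz
  suffices hcover : F.hyperfocalSubgroup p ≤ N₀ ⊔ (frattini S).map S.subtype by
    rw [focal_eq hS hF, focal_eq hNp hNsat, tate hS hF hle hconj hcover, hcomm]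
  intro z hz
  set K := N₀.subgroupOf S ⊔ frattini S with hK
  haveI : (N₀.subgroupOf S).Normal :=
    ⟨fun y hy s => Subgroup.mem_subgroupOf.mpr (hconj (s : Ω) s.2 _ (Subgroup.mem_subgroupOf.mp hy))⟩
  haveI : K.Normal := inferInstance
  suffices hzK : (⟨z, hyp_le_top hz⟩ : S) ∈ K by
    have h1 := Subgroup.mem_map_of_mem S.subtype hzK
    rwa [hK, Subgroup.map_sup, Subgroup.map_subgroupOf_eq_of_le hN₀S] at h1
  have hQ : IsPGroup p (S ⧸ K) := hS.to_quotient K
  have hΦ : frattini (S ⧸ K) ≤ ⊥ := by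
    rw [PGroups.frattini_eq_derivedPow hQ]
    refine sup_le ?_ ((Subgroup.closure_le _).mpr ?_)
    · rw [_root_.commutator_def, ← Subgroup.map_top_of_surjective _ (QuotientGroup.mk'_surjective K),
        ← Subgroup.map_commutator, le_bot_iff, Subgroup.map_eq_bot_iff, QuotientGroup.ker_mk']
      exact (PGroups.commutator_le_frattini hS).trans le_sup_right
    · rintro _ ⟨g, rfl⟩
      obtain ⟨g, rfl⟩ := QuotientGroup.mk'_surjective K g
      rw [SetLike.mem_coe, Subgroup.mem_bot, ← map_pow]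
      exact (QuotientGroup.eq_one_iff _).mpr (Subgroup.mem_sup_right (PGroups.pow_mem_frattini hS g))
  rw [← QuotientGroup.eq_one_iff, ← Subgroup.mem_bot]
  refine hΦ (PGroups.mem_frattini_iff.mpr fun M hM => ?_)
  haveI := PGroups.normal_of_isCoatom hQ hM
  have hMi := PGroups.index_eq_of_isCoatom hQ hM
  rw [Subgroup.index_eq_card] at hMi
  haveI := isCyclic_of_prime_card hMi
  obtain ⟨gen, hgen⟩ := IsCyclic.exists_generator (α := (S ⧸ K) ⧸ M)
  let ev : Multiplicative (ZMod p) ≃* (S ⧸ K) ⧸ M := zmodMulEquivOfGenerator hgen hMi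
  let θ := ev.symm.toMonoidHom.comp ((QuotientGroup.mk' M).comp (QuotientGroup.mk' K))
  have hθK : ∀ y ∈ K, θ y = 1 := fun y hy => by
    show ev.symm (QuotientGroup.mk' M (QuotientGroup.mk' K y)) = 1
    rw [show QuotientGroup.mk' K y = 1 from (QuotientGroup.eq_one_iff y).mpr hy, map_one, map_one]
  have h1 := hom_eq_one_of_noWitness hS hF hnw θ (fun f hf y y' e => ?_) ⟨z, hyp_le_top hz⟩
    (focal_eq hS hF ▸ Subgroup.mem_sup_left hz)
  · rw [MonoidHom.comp_apply, MulEquiv.coe_toMonoidHom, EmbeddingLike.map_eq_one_iff] at h1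
    exact (QuotientGroup.eq_one_iff _).1 h1
  · have hfS : img S f = S := hf.img_eq_self fun a ha => hf.mem ha
    have hfN : IsMor N (normalizerIn S S) f := (isMor_normalizerSystem hN).mpr
      ⟨hf.restrict hNS.le, le_rfl, fun a ha => hNS.ge (hf.mem (hNS.le ha)), f,
        hf.restrict (sup_le hNS.le le_rfl), fun _ _ => rfl, hfS⟩
    have h2 := le_focal hfN (hNS.ge y.2)
    rw [focal_eq hNp hNsat, hcomm] at h2
    have hmem : (y⁻¹ * y' : S) ∈ K := by
      have hle' : N₀ ⊔ ⁅S, S⁆ ≤ K.map S.subtype := by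
        rw [hK, Subgroup.map_sup, Subgroup.map_subgroupOf_eq_of_le hN₀S]
        refine sup_le_sup_left ?_ N₀
        rw [← Subgroup.map_subtype_commutator]
        exact Subgroup.map_mono (PGroups.commutator_le_frattini hS)
      obtain ⟨w, hw, hwe⟩ := hle' h2
      exact (Subtype.ext (hwe.trans (by rw [Subgroup.coe_mul, Subgroup.coe_inv, e])) :
        w = y⁻¹ * y') ▸ hw
    have h3 := hθK _ hmem
    rw [map_mul, map_inv, inv_mul_eq_one] at h3
    exact h3.symm

theorem yoshida (hS : IsPGroup p S) (hF : F.IsSaturated p)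
    {N : FusionSystem (normalizerIn S S)} (hN : F.IsNormalizerSystem S N)
    (hne : N.focalSubgroup ≠ F.focalSubgroup) :
    ∃ (W : Sylow p (Equiv.Perm (Fin (p ^ 2))))
      (f : ↥S →* ↥(W : Subgroup (Equiv.Perm (Fin (p ^ 2))))), Function.Surjective f := by
  by_contra hcon
  refine hne (focalSubgroup_normalizer_eq hS hF (fun M z ψ hM _ hzM x hx hm => ?_) hN)
  by_contra hne'
  exact hcon (exists_surjective_sylow_perm hS hM ψ hzM hx hm hne')

end CfsgLib.Fusion
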